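import Groth.Statements.S4492
import Mathlib.RingTheory.Length
import Mathlib.Algebra.Category.ModuleCat.Abelian
import Mathlib.Algebra.Homology.ShortComplex.ModuleCat

set_option autoImplicit false
universe u
open FlatCx

namespace Groth.Agent.S4492

open CategoryTheory CategoryTheory.Limits

section LinAlg

variable {R : Type*} [Ring R] {X Y Z : Type*} [AddCommGroup X] [Module R X] [AddCommGroup Y]
  [Module R Y] [AddCommGroup Z] [Module R Z]

theorem length_middle (f : X →ₗ[R] Y) (g : Y →ₗ[R] Z) (H : Function.Exact f g) :
    Module.length R Y = Module.length R (LinearMap.range f) + Module.length R (LinearMap.range g) := by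
  apply Module.length_eq_add_of_exact (LinearMap.range f).subtype g.rangeRestrict
    (Submodule.subtype_injective _) g.surjective_rangeRestrict
  intro y
  constructor
  · intro h
    have h' : g y = 0 := congrArg Subtype.val h
    obtain ⟨x, hx⟩ := (H y).mp h'
    exact ⟨⟨y, ⟨x, hx⟩⟩, rfl⟩
  · rintro ⟨⟨y', ⟨x, hx⟩⟩, rfl⟩
    apply Subtype.ext
    show g y' = 0
    rw [← hx]
    exact H.apply_apply_eq_zero x

theorem length_source (f : X →ₗ[R] Y) :
    Module.length R X = Module.length R (LinearMap.ker f) + Module.length R (LinearMap.range f) :=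
  Module.length_eq_add_of_exact (LinearMap.ker f).subtype f.rangeRestrict
    (Submodule.subtype_injective _) f.surjective_rangeRestrict (by
      intro x
      constructor
      · intro h
        have h' : f x = 0 := congrArg Subtype.val h
        exact ⟨⟨x, h'⟩, rfl⟩
      · rintro ⟨⟨x', hx'⟩, rfl⟩
        exact Subtype.ext hx')

theorem length_target (g : Y →ₗ[R] Z) :
    Module.length R Z =
      Module.length R (LinearMap.range g) + Module.length R (Z ⧸ LinearMap.range g) :=
  Module.length_eq_add_of_exact (LinearMap.range g).subtype (LinearMap.range g).mkQ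
    (Submodule.subtype_injective _) (Submodule.mkQ_surjective _) (by
      intro z
      rw [Submodule.mkQ_apply, Submodule.Quotient.mk_eq_zero]
      simp)

theorem length_le_add (f : X →ₗ[R] Y) (g : Y →ₗ[R] Z) (H : Function.Exact f g) :
    Module.length R Y ≤ Module.length R X + Module.length R Z := by
  rw [length_middle f g H, length_source f, length_target g]
  calc Module.length R (LinearMap.range f) + Module.length R (LinearMap.range g)
      ≤ (Module.length R (LinearMap.ker f) + Module.length R (LinearMap.range f)) +
        Module.length R (LinearMap.range g) := by gcongr; exact le_add_self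
    _ ≤ _ := by gcongr; exact le_self_add

theorem inj_surj_of_length_eq (f : X →ₗ[R] Y) (g : Y →ₗ[R] Z) (H : Function.Exact f g)
    (hX : Module.length R X ≠ ⊤) (hZ : Module.length R Z ≠ ⊤)
    (h : Module.length R Y = Module.length R X + Module.length R Z) :
    Function.Injective f ∧ Function.Surjective g := by
  rw [length_middle f g H, length_source f, length_target g] at h
  rw [length_source f] at hX
  rw [length_target g] at hZ
  have hk : Module.length R (LinearMap.ker f) ≠ ⊤ := fun h' => hX (by rw [h', top_add])
  have ha : Module.length R (LinearMap.range f) ≠ ⊤ := fun h' => hX (by rw [h', add_top])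
  have hb : Module.length R (LinearMap.range g) ≠ ⊤ := fun h' => hZ (by rw [h', top_add])
  have hc : Module.length R (Z ⧸ LinearMap.range g) ≠ ⊤ := fun h' => hZ (by rw [h', add_top])
  obtain ⟨k, hk'⟩ := ENat.ne_top_iff_exists.mp hk
  obtain ⟨a, ha'⟩ := ENat.ne_top_iff_exists.mp ha
  obtain ⟨b, hb'⟩ := ENat.ne_top_iff_exists.mp hb
  obtain ⟨c, hc'⟩ := ENat.ne_top_iff_exists.mp hc
  rw [← hk', ← ha', ← hb', ← hc'] at h
  norm_cast at h
  have hk0 : k = 0 := by omega
  have hc0 : c = 0 := by omega
  constructor
  · rw [← LinearMap.ker_eq_bot]
    have : Module.length R (LinearMap.ker f) = 0 := by rw [← hk', hk0]; rfl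
    rw [Module.length_eq_zero_iff] at this
    exact Submodule.eq_bot_of_subsingleton
  · rw [← LinearMap.range_eq_top]
    have : Module.length R (Z ⧸ LinearMap.range g) = 0 := by rw [← hc', hc0]; rfl
    rw [Module.length_eq_zero_iff] at this
    exact Submodule.Quotient.subsingleton_iff.mp this

end LinAlg

section Main

variable {A B : Type u} [Ring A] [Ring B] (F : ModuleCat.{u} A ⥤ ModuleCat.{u} B) [F.Additive]
  (hF : ∀ S : ShortComplex (ModuleCat.{u} A), S.ShortExact → (S.map F).Exact)

include hF in
theorem exact_of_shortExact (S : ShortComplex (ModuleCat.{u} A)) (hS : S.ShortExact) :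
    Function.Exact (F.map S.f).hom (F.map S.g).hom :=
  (ShortComplex.ShortExact.moduleCat_exact_iff_function_exact (S.map F)).mp (hF S hS)

include hF in
theorem finite_length_aux
    (hS : ∀ M : ModuleCat.{u} A, IsSimpleModule A M → Module.length B (F.obj M) ≠ ⊤)
    (E : Type u) [AddCommGroup E] [Module A E] (h : IsFiniteLength A E) :
    Module.length B (F.obj (ModuleCat.of A E)) ≠ ⊤ := by
  induction h with
  | @of_subsingleton M _ _ _ =>
    have h0 : IsZero (ModuleCat.of A M) := ModuleCat.isZero_of_subsingleton _
    have h1 : IsZero (F.obj (ModuleCat.of A M)) := F.map_isZero h0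
    have := ModuleCat.subsingleton_of_isZero h1
    rw [Module.length_eq_zero]
    exact ENat.zero_ne_top
  | @of_simple_quotient M _ _ N _ hN ih =>
    let S : ShortComplex (ModuleCat.{u} A) :=
      ShortComplex.mk (ModuleCat.ofHom N.subtype) (ModuleCat.ofHom N.mkQ) (by
        ext x
        simp)
    have hSE : S.ShortExact := by
      apply ModuleCat.shortComplex_shortExact
      · intro x
        show N.mkQ x = 0 ↔ x ∈ Set.range N.subtype
        rw [Submodule.mkQ_apply, Submodule.Quotient.mk_eq_zero]
        simp
      · exact N.injective_subtype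
      · exact N.mkQ_surjective
    have hex := exact_of_shortExact F hF S hSE
    have hle := length_le_add _ _ hex
    have h3 : Module.length B (F.obj (ModuleCat.of A (M ⧸ N))) ≠ ⊤ :=
      hS (ModuleCat.of A (M ⧸ N)) inferInstance
    exact ne_top_of_le_ne_top (WithTop.add_ne_top.mpr ⟨ih, h3⟩) hle

end Main

open CategoryTheory CategoryTheory.Limits in
/-- (The published statement is for arbitrary abelian categories; this row is for functors between
module categories.) Let F be an additive functor from A-modules to B-modules which is half exact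
(every short exact sequence 0 → E' → E → E'' → 0 goes to a sequence F(E') → F(E) → F(E'') exact at
the middle) and such that F(S) has finite length for every simple A-module S. Then F(E) has finite
length for every A-module E of finite length; and for every short exact sequence 0 → E' → E → E'' →
0 of A-modules with E of finite length one has length F(E) ≤ length F(E') + length F(E''), with
equality if and only if 0 → F(E') → F(E) → F(E'') → 0 is (short) exact. Lengths are Mathlib's,
valued in ℕ∞. -/
theorem result {A B : Type u} [Ring A] [Ring B]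
    (F : ModuleCat.{u} A ⥤ ModuleCat.{u} B) [F.Additive]
    (hF : ∀ S : ShortComplex (ModuleCat.{u} A), S.ShortExact → (S.map F).Exact)
    (hS : ∀ M : ModuleCat.{u} A, IsSimpleModule A M → Module.length B (F.obj M) ≠ ⊤) :
    (∀ E : ModuleCat.{u} A, Module.length A E ≠ ⊤ → Module.length B (F.obj E) ≠ ⊤) ∧
      ∀ S : ShortComplex (ModuleCat.{u} A), S.ShortExact → Module.length A S.X₂ ≠ ⊤ →
        Module.length B (F.obj S.X₂) ≤ Module.length B (F.obj S.X₁) + Module.length B (F.obj S.X₃) ∧
          (Module.length B (F.obj S.X₂) = Module.length B (F.obj S.X₁) + Module.length B (F.obj S.X₃) ↔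
            (S.map F).ShortExact) := by
  have part1 : ∀ E : ModuleCat.{u} A, Module.length A E ≠ ⊤ → Module.length B (F.obj E) ≠ ⊤ := by
    intro E hE
    exact finite_length_aux F hF hS E (Module.length_ne_top_iff.mp hE)
  refine ⟨part1, ?_⟩
  intro S hSE hfin
  have hex := exact_of_shortExact F hF S hSE
  refine ⟨length_le_add _ _ hex, ?_⟩
  have hinj : Function.Injective S.f.hom := (ModuleCat.mono_iff_injective _).mp hSE.mono_f
  have hsurj : Function.Surjective S.g.hom := (ModuleCat.epi_iff_surjective _).mp hSE.epi_g
  have h1 : Module.length A S.X₁ ≠ ⊤ :=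
    ne_top_of_le_ne_top hfin (Module.length_le_of_injective S.f.hom hinj)
  have h3 : Module.length A S.X₃ ≠ ⊤ :=
    ne_top_of_le_ne_top hfin (Module.length_le_of_surjective S.g.hom hsurj)
  constructor
  · intro heq
    obtain ⟨hi, hs⟩ := inj_surj_of_length_eq _ _ hex (part1 _ h1) (part1 _ h3) heq
    exact ModuleCat.shortComplex_shortExact (S.map F) hex hi hs
  · intro hSE'
    exact Module.length_eq_add_of_exact (F.map S.f).hom (F.map S.g).hom
      ((ModuleCat.mono_iff_injective _).mp hSE'.mono_f)
      ((ModuleCat.epi_iff_surjective _).mp hSE'.epi_g) hex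


end Groth.Agent.S4492
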