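import Groth.Statements.S4493
import Groth.Agent.Lib.Helper20.LocColim

set_option autoImplicit false
universe u
open FlatCx

namespace Groth.Agent.S4493

open CategoryTheory CategoryTheory.Limits Groth.Agent.Lib.Helper20.LocColim

variable {A : Type u} [CommRing A]

section loc

variable (m : Ideal A) [m.IsMaximal]

/-- restriction of scalars along `A → A_m` -/
noncomputable abbrev Rm : ModuleCat.{u} (Localization.AtPrime m) ⥤ ModuleCat.{u} A :=
  ModuleCat.restrictScalars (algebraMap A (Localization.AtPrime m))

/-- localization at `m` -/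
noncomputable abbrev Loc : ModuleCat.{u} A ⥤ ModuleCat.{u} (Localization.AtPrime m) :=
  ModuleCat.localizedModuleFunctor.{u} m.primeCompl

/-- the identity equivalence between the two `A`-module structures -/
noncomputable def θ (M : ModuleCat.{u} A) :
    (M.localizedModule m.primeCompl) ≃ₗ[A] ((Rm m).obj ((Loc m).obj M)) where
  toFun x := x
  invFun x := x
  map_add' _ _ := rfl
  map_smul' a x := (algebraMap_smul (Localization.AtPrime m) a x).symm
  left_inv _ := rfl
  right_inv _ := rfl

/-- `M → R_m (M_m)` -/
noncomputable def unitMap (M : ModuleCat.{u} A) : M ⟶ (Rm m).obj ((Loc m).obj M) :=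
  ModuleCat.ofHom (X := M) (Y := (Rm m).obj ((Loc m).obj M))
    ((θ m M).toLinearMap ∘ₗ (M.localizedModuleMkLinearMap m.primeCompl))

lemma unitMap_isLocalizedModule (M : ModuleCat.{u} A) :
    IsLocalizedModule m.primeCompl (unitMap m M).hom :=
  IsLocalizedModule.of_linearEquiv m.primeCompl _ (θ m M)

lemma unitMap_naturality {M N : ModuleCat.{u} A} (f : M ⟶ N) :
    unitMap m M ≫ (Rm m).map ((Loc m).map f) = f ≫ unitMap m N := by
  apply ModuleCat.hom_ext
  apply LinearMap.ext
  intro x
  change (IsLocalizedModule.mapExtendScalars m.primeCompl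
      (M.localizedModuleMkLinearMap m.primeCompl) (N.localizedModuleMkLinearMap m.primeCompl)
      (Localization m.primeCompl) f.hom) (M.localizedModuleMkLinearMap m.primeCompl x) =
    N.localizedModuleMkLinearMap m.primeCompl (f.hom x)
  rw [IsLocalizedModule.mapExtendScalars_apply_apply]
  exact IsLocalizedModule.map_apply _ _ _ _ _

end loc

section main

variable (T : ModuleCat.{u} A ⥤ ModuleCat.{u} A) [T.Additive] [T.Linear A]
  (hT : ∀ (J : Type u) [SmallCategory J] [IsFiltered J], PreservesColimitsOfShape J T)

include hT in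
lemma isLocalizedModule_T_unitMap (m : Ideal A) [m.IsMaximal] (X : ModuleCat.{u} A) :
    IsLocalizedModule m.primeCompl (T.map (unitMap m X)).hom := by
  have := hT (LocCat m.primeCompl)
  exact isLocalizedModule_map' T _ (unitMap_isLocalizedModule m X)

include hT in
lemma map_eq (m : Ideal A) [m.IsMaximal] {X Y : ModuleCat.{u} A} (f : X ⟶ Y) :
    haveI := isLocalizedModule_T_unitMap T hT m X
    haveI := isLocalizedModule_T_unitMap T hT m Y
    IsLocalizedModule.map m.primeCompl (T.map (unitMap m X)).hom (T.map (unitMap m Y)).hom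
      (T.map f).hom = (T.map ((Rm m).map ((Loc m).map f))).hom := by
  have := isLocalizedModule_T_unitMap T hT m X
  have := isLocalizedModule_T_unitMap T hT m Y
  apply IsLocalizedModule.lift_unique
  have h := congrArg (fun g => (T.map g).hom) (unitMap_naturality m f)
  simp only [T.map_comp, ModuleCat.hom_comp] at h
  exact h


include hT in
theorem left (h : ∀ (m : Ideal A) [m.IsMaximal], PreservesFiniteLimits (Rm m ⋙ T)) :
    PreservesFiniteLimits T := by
  rw [Functor.preservesFiniteLimits_iff_forall_exact_map_and_mono]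
  intro S hS
  have key : ∀ (m : Ideal A) [m.IsMaximal],
      (S.map (Loc m ⋙ Rm m ⋙ T)).Exact ∧ Mono ((Loc m ⋙ Rm m ⋙ T).map S.f) := by
    intro m _
    have := h m
    have : PreservesFiniteLimits (Loc m ⋙ Rm m ⋙ T) := inferInstance
    exact (Functor.preservesFiniteLimits_iff_forall_exact_map_and_mono _).mp this S hS
  have i₁ : ∀ (m : Ideal A) [m.IsMaximal], IsLocalizedModule.AtPrime m
      (T.map (unitMap m S.X₁)).hom := fun m _ => isLocalizedModule_T_unitMap T hT m S.X₁
  have i₂ : ∀ (m : Ideal A) [m.IsMaximal], IsLocalizedModule.AtPrime m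
      (T.map (unitMap m S.X₂)).hom := fun m _ => isLocalizedModule_T_unitMap T hT m S.X₂
  have i₃ : ∀ (m : Ideal A) [m.IsMaximal], IsLocalizedModule.AtPrime m
      (T.map (unitMap m S.X₃)).hom := fun m _ => isLocalizedModule_T_unitMap T hT m S.X₃
  constructor
  · rw [ShortComplex.ShortExact.moduleCat_exact_iff_function_exact]
    refine exact_of_isLocalized_maximal
      (fun m _ => T.obj ((Rm m).obj ((Loc m).obj S.X₁))) (fun m _ => (T.map (unitMap m S.X₁)).hom)
      (fun m _ => T.obj ((Rm m).obj ((Loc m).obj S.X₂))) (fun m _ => (T.map (unitMap m S.X₂)).hom)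
      (fun m _ => T.obj ((Rm m).obj ((Loc m).obj S.X₃))) (fun m _ => (T.map (unitMap m S.X₃)).hom)
      (T.map S.f).hom (T.map S.g).hom (fun m _ => ?_)
    have h1 := (key m).1
    rw [ShortComplex.ShortExact.moduleCat_exact_iff_function_exact] at h1
    rw [map_eq T hT m S.f, map_eq T hT m S.g]
    exact h1
  · rw [ModuleCat.mono_iff_injective]
    refine injective_of_isLocalized_maximal
      (fun m _ => T.obj ((Rm m).obj ((Loc m).obj S.X₁))) (fun m _ => (T.map (unitMap m S.X₁)).hom)
      (fun m _ => T.obj ((Rm m).obj ((Loc m).obj S.X₂))) (fun m _ => (T.map (unitMap m S.X₂)).hom)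
      (T.map S.f).hom (fun m _ => ?_)
    have h1 := (key m).2
    rw [ModuleCat.mono_iff_injective] at h1
    rw [map_eq T hT m S.f]
    exact h1


include hT in
theorem right (h : ∀ (m : Ideal A) [m.IsMaximal], PreservesFiniteColimits (Rm m ⋙ T)) :
    PreservesFiniteColimits T := by
  rw [Functor.preservesFiniteColimits_iff_forall_exact_map_and_epi]
  intro S hS
  have key : ∀ (m : Ideal A) [m.IsMaximal],
      (S.map (Loc m ⋙ Rm m ⋙ T)).Exact ∧ Epi ((Loc m ⋙ Rm m ⋙ T).map S.g) := by
    intro m _
    have := h m
    have : PreservesFiniteColimits (Loc m ⋙ Rm m ⋙ T) := inferInstance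
    exact (Functor.preservesFiniteColimits_iff_forall_exact_map_and_epi _).mp this S hS
  have i₁ : ∀ (m : Ideal A) [m.IsMaximal], IsLocalizedModule.AtPrime m
      (T.map (unitMap m S.X₁)).hom := fun m _ => isLocalizedModule_T_unitMap T hT m S.X₁
  have i₂ : ∀ (m : Ideal A) [m.IsMaximal], IsLocalizedModule.AtPrime m
      (T.map (unitMap m S.X₂)).hom := fun m _ => isLocalizedModule_T_unitMap T hT m S.X₂
  have i₃ : ∀ (m : Ideal A) [m.IsMaximal], IsLocalizedModule.AtPrime m
      (T.map (unitMap m S.X₃)).hom := fun m _ => isLocalizedModule_T_unitMap T hT m S.X₃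
  constructor
  · rw [ShortComplex.ShortExact.moduleCat_exact_iff_function_exact]
    refine exact_of_isLocalized_maximal
      (fun m _ => T.obj ((Rm m).obj ((Loc m).obj S.X₁))) (fun m _ => (T.map (unitMap m S.X₁)).hom)
      (fun m _ => T.obj ((Rm m).obj ((Loc m).obj S.X₂))) (fun m _ => (T.map (unitMap m S.X₂)).hom)
      (fun m _ => T.obj ((Rm m).obj ((Loc m).obj S.X₃))) (fun m _ => (T.map (unitMap m S.X₃)).hom)
      (T.map S.f).hom (T.map S.g).hom (fun m _ => ?_)
    have h1 := (key m).1
    rw [ShortComplex.ShortExact.moduleCat_exact_iff_function_exact] at h1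
    rw [map_eq T hT m S.f, map_eq T hT m S.g]
    exact h1
  · rw [ModuleCat.epi_iff_surjective]
    refine surjective_of_isLocalized_maximal
      (fun m _ => T.obj ((Rm m).obj ((Loc m).obj S.X₂))) (fun m _ => (T.map (unitMap m S.X₂)).hom)
      (fun m _ => T.obj ((Rm m).obj ((Loc m).obj S.X₃))) (fun m _ => (T.map (unitMap m S.X₃)).hom)
      (T.map S.g).hom (fun m _ => ?_)
    have h1 := (key m).2
    rw [ModuleCat.epi_iff_surjective] at h1
    rw [map_eq T hT m S.g]
    exact h1

end main

open CategoryTheory CategoryTheory.Limits in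
/-- Let A be a commutative ring and T an additive A-linear endofunctor of the category of A-modules
which preserves filtered colimits. For a maximal ideal m write T_m for T precomposed with
restriction of scalars along A → A_m (a functor from A_m-modules to A-modules). If T_m is left exact
for every maximal ideal m then T is left exact, and if T_m is right exact for every maximal ideal m
then T is right exact (exactness meaning preservation of finite limits, resp. finite colimits). -/
theorem result {A : Type u} [CommRing A]
    (T : ModuleCat.{u} A ⥤ ModuleCat.{u} A) [T.Additive] [T.Linear A]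
    (hT : ∀ (J : Type u) [SmallCategory J] [IsFiltered J], PreservesColimitsOfShape J T) :
    ((∀ (m : Ideal A) [m.IsMaximal],
        PreservesFiniteLimits (ModuleCat.restrictScalars (algebraMap A (Localization.AtPrime m)) ⋙ T)) →
      PreservesFiniteLimits T) ∧
    ((∀ (m : Ideal A) [m.IsMaximal],
        PreservesFiniteColimits (ModuleCat.restrictScalars (algebraMap A (Localization.AtPrime m)) ⋙ T)) →
      PreservesFiniteColimits T) := by
  exact ⟨fun h => left T hT h, fun h => right T hT h⟩


end Groth.Agent.S4493
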