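import Groth.Statements.S4509
import Groth.Agent.Lib.Helper20.BcCompare
import Groth.Agent.Lib.Helper12.FlatCxArtin
import Groth.Agent.S4486

set_option autoImplicit false
universe u
open FlatCx

namespace Groth.Agent.S4509

open CategoryTheory CategoryTheory.Limits MonoidalCategory TensorProduct Groth.Agent.Lib.Helper20
  Groth.Agent.Lib.Helper12.FlatCx IsLocalRing

section

variable {A : Type u} [CommRing A] [IsDomain A] [IsDiscreteValuationRing A]

/-- the short exact sequence `0 → A →ϖ A → k → 0` -/
noncomputable def unifSC (ϖ : A) (hϖ : Irreducible ϖ) : ShortComplex (ModuleCat.{u} A) :=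
  ShortComplex.mk (X₁ := ModuleCat.of A A) (X₂ := ModuleCat.of A A)
    (X₃ := ModuleCat.of A (ResidueField A))
    (ϖ • 𝟙 (ModuleCat.of A A)) (ModuleCat.ofHom (Algebra.linearMap A (ResidueField A))) (by
      apply ModuleCat.hom_ext
      apply LinearMap.ext
      intro x
      show algebraMap A (ResidueField A) (ϖ • x) = 0
      have : ϖ • x ∈ maximalIdeal A := by
        rw [hϖ.maximalIdeal_eq, smul_eq_mul]
        exact Ideal.mul_mem_right _ _ (Ideal.mem_span_singleton_self ϖ)
      exact (residue_eq_zero_iff _).mpr this)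

lemma unifSC_shortExact (ϖ : A) (hϖ : Irreducible ϖ) : (unifSC ϖ hϖ).ShortExact := by
  have hmem : ∀ x : A, ϖ * x ∈ maximalIdeal A := by
    intro x
    rw [hϖ.maximalIdeal_eq]
    exact Ideal.mul_mem_right _ _ (Ideal.mem_span_singleton_self ϖ)
  apply ModuleCat.shortComplex_shortExact
  · intro (y : A)
    constructor
    · intro hy
      have hy' : y ∈ maximalIdeal A := (residue_eq_zero_iff y).mp hy
      rw [hϖ.maximalIdeal_eq, Ideal.mem_span_singleton'] at hy'
      obtain ⟨a, ha⟩ := hy'
      refine ⟨a, ?_⟩
      show (ϖ * a : A) = y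
      rw [mul_comm]
      exact ha
    · rintro ⟨(x : A), rfl⟩
      show residue A (ϖ * x) = 0
      exact (residue_eq_zero_iff _).mpr (hmem x)
  · intro (x : A) (y : A) hxy
    have h : ϖ * x = ϖ * y := hxy
    exact (mul_left_cancel₀ hϖ.ne_zero h : (x : A) = y)
  · exact (residue_surjective : Function.Surjective (residue A))

end

section main

variable {A : Type u} [CommRing A] [IsDomain A] [IsDiscreteValuationRing A]
variable (P : ChainComplex (ModuleCat.{u} A) ℤ)

omit [IsDomain A] [IsDiscreteValuationRing A] in
lemma finite_T_self (hfin : ∀ i, Module.Finite A (P.homology i)) (p : ℤ) :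
    Module.Finite A ((CohIII.TFun P p).obj (ModuleCat.of A A)) := by
  have := hfin p
  exact Module.Finite.equiv (Groth.Agent.S4486.TSelfIso P p).toLinearEquiv.symm

theorem finite_T_residue (hP : ∀ i, Module.Flat A (P.X i))
    (hfin : ∀ i, Module.Finite A (P.homology i)) (p : ℤ) :
    Module.Finite A (CohIII.T P p (ModuleCat.of A (ResidueField A))) := by
  obtain ⟨ϖ, hϖ⟩ := IsDiscreteValuationRing.exists_irreducible A
  have hSE := tensorSC_shortExact P hP (unifSC ϖ hϖ) (unifSC_shortExact ϖ hϖ)
  have hrel : (ComplexShape.down ℤ).Rel p (p - 1) := by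
    show p - 1 + 1 = p
    ring
  have hex := hSE.homology_exact₃ p (p - 1) hrel
  have hfe : Function.Exact
      (HomologicalComplex.homologyMap (tensorSC P (unifSC ϖ hϖ)).g p).hom
      (hSE.δ p (p - 1) hrel).hom :=
    (ShortComplex.ShortExact.moduleCat_exact_iff_function_exact _).mp hex
  have h1 := finite_T_self P hfin p
  have h2 := finite_T_self P hfin (p - 1)
  have hn1 : IsNoetherian A ((tensorSC P (unifSC ϖ hϖ)).X₂.homology p) :=
    isNoetherian_of_isNoetherianRing_of_finite A ((CohIII.TFun P p).obj (ModuleCat.of A A))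
  have hn2 : IsNoetherian A ((tensorSC P (unifSC ϖ hϖ)).X₁.homology (p - 1)) :=
    isNoetherian_of_isNoetherianRing_of_finite A ((CohIII.TFun P (p - 1)).obj (ModuleCat.of A A))
  have hn3 : IsNoetherian A ((tensorSC P (unifSC ϖ hϖ)).X₃.homology p) :=
    isNoetherian_of_range_eq_ker
      (HomologicalComplex.homologyMap (tensorSC P (unifSC ϖ hϖ)).g p).hom
      (hSE.δ p (p - 1) hrel).hom (LinearMap.exact_iff.mp hfe).symm
  have hn4 : IsNoetherian A (CohIII.T P p (ModuleCat.of A (ResidueField A))) := hn3
  infer_instance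

theorem length_tensor_le (hP : ∀ i, Module.Flat A (P.X i)) (p : ℤ) :
    Module.length A (ResidueField A ⊗[A] P.homology p) ≤
      Module.length A (CohIII.T P p (ModuleCat.of A (ResidueField A))) := by
  obtain ⟨ϖ, hϖ⟩ := IsDiscreteValuationRing.exists_irreducible A
  have hSE := tensorSC_shortExact P hP (unifSC ϖ hϖ) (unifSC_shortExact ϖ hϖ)
  have hex := hSE.homology_exact₂ p
  let E := (CohIII.TFun P p).obj (ModuleCat.of A A)
  let ψ : E →ₗ[A] CohIII.T P p (ModuleCat.of A (ResidueField A)) :=
    ((CohIII.TFun P p).map (unifSC ϖ hϖ).g).hom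
  have hfe : Function.Exact ((CohIII.TFun P p).map (unifSC ϖ hϖ).f).hom ψ :=
    (ShortComplex.ShortExact.moduleCat_exact_iff_function_exact _).mp hex
  have hf : (CohIII.TFun P p).map (unifSC ϖ hϖ).f = ϖ • 𝟙 E :=
    TFun_map_smul_id P p (ModuleCat.of A A) ϖ
  have hker : LinearMap.ker ψ = (maximalIdeal A) • (⊤ : Submodule A E) := by
    ext x
    rw [LinearMap.mem_ker, hfe x, hf]
    constructor
    · rintro ⟨(e : E), rfl⟩
      show ϖ • e ∈ _
      refine Submodule.smul_mem_smul ?_ trivial
      rw [hϖ.maximalIdeal_eq]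
      exact Ideal.mem_span_singleton_self ϖ
    · intro hx
      refine Submodule.smul_induction_on hx ?_ ?_
      · intro a ha e _
        rw [hϖ.maximalIdeal_eq, Ideal.mem_span_singleton'] at ha
        obtain ⟨b, rfl⟩ := ha
        refine ⟨b • e, ?_⟩
        show ϖ • (b • e) = (b * ϖ) • e
        rw [smul_smul, mul_comm]
      · rintro x y ⟨(e₁ : E), h₁⟩ ⟨(e₂ : E), h₂⟩
        refine ⟨e₁ + e₂, ?_⟩
        exact ((ModuleCat.Hom.hom (ϖ • 𝟙 E)).map_add e₁ e₂).trans (congrArg₂ (· + ·) h₁ h₂)
  have e0 : P.homology p ≃ₗ[A] E := (Groth.Agent.S4486.TSelfIso P p).toLinearEquiv.symm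
  have e1 : ResidueField A ⊗[A] P.homology p ≃ₗ[A] ResidueField A ⊗[A] E :=
    LinearEquiv.lTensor (ResidueField A) e0
  have e2 : ResidueField A ⊗[A] E ≃ₗ[A] E ⧸ (maximalIdeal A) • (⊤ : Submodule A E) :=
    TensorProduct.quotTensorEquivQuotSMul E (maximalIdeal A)
  have e3 : (E ⧸ (maximalIdeal A) • (⊤ : Submodule A E)) ≃ₗ[A] E ⧸ LinearMap.ker ψ :=
    Submodule.quotEquivOfEq _ _ hker.symm
  have e4 : (E ⧸ LinearMap.ker ψ) ≃ₗ[A] LinearMap.range ψ := ψ.quotKerEquivRange
  rw [(e1 ≪≫ₗ e2 ≪≫ₗ e3 ≪≫ₗ e4).length_eq]
  exact Module.length_le_of_injective (LinearMap.range ψ).subtype Subtype.val_injective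

end main

open CategoryTheory CategoryTheory.Limits in
/-- The chain of inequalities for the homological functor T_p(M) = H_p(P ⊗_A M) of a chain complex P of
flat modules over a discrete valuation ring A with fraction field K and residue field k, the modules
T_i(A) = H_i(P) being finitely generated: dim_k T_p(k) ≥ dim_k (T_p(A) ⊗_A k) ≥ rank_A T_p(A) =
dim_K T_p(K). Stated as the two inequalities dim_K H_p(P ⊗_A K) ≤ dim_k (k ⊗_A H_p(P)) ≤ dim_k H_p(P
⊗_A k). -/
theorem result {A : Type u} [CommRing A] [IsDomain A] [IsDiscreteValuationRing A]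
    (P : ChainComplex (ModuleCat.{u} A) ℤ) (hP : ∀ i, Module.Flat A (P.X i))
    (hfin : ∀ i, Module.Finite A (P.homology i)) (p : ℤ) :
    Module.finrank (FractionRing A) ((CohIII.bcCx (algebraMap A (FractionRing A)) P).homology p) ≤
        Module.finrank (IsLocalRing.ResidueField A)
          (TensorProduct A (IsLocalRing.ResidueField A) (P.homology p)) ∧
      Module.finrank (IsLocalRing.ResidueField A)
          (TensorProduct A (IsLocalRing.ResidueField A) (P.homology p)) ≤
        Module.finrank (IsLocalRing.ResidueField A)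
          ((CohIII.bcCx (algebraMap A (IsLocalRing.ResidueField A)) P).homology p) := by
  have := hfin p
  constructor
  · -- generic rank ≤ number of generators
    set K := FractionRing A with hK
    have hφ : (algebraMap A K).Flat := RingHom.flat_algebraMap_iff.mpr inferInstance
    have e2 : (CohIII.bcCx (algebraMap A K) P).homology p ≃ₗ[K] K ⊗[A] (P.homology p) :=
      (homologyBcIso (algebraMap A K) hφ P p).toLinearEquiv ≪≫ₗ
        extendScalarsObjEquiv (S := K) (P.homology p)
    rw [e2.finrank_eq]
    obtain ⟨g, hg⟩ := exists_surjective_fin (A := A) (P.homology p)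
    have hsurj : Function.Surjective (g.baseChange K) := by
      rw [LinearMap.baseChange_eq_ltensor]
      exact LinearMap.lTensor_surjective K hg
    refine le_trans (LinearMap.finrank_le_finrank_of_surjective hsurj) ?_
    have h3 : Module.finrank K (K ⊗[A] (Fin (Module.finrank (ResidueField A)
        (ResidueField A ⊗[A] (P.homology p))) → A)) =
        Module.finrank (ResidueField A) (ResidueField A ⊗[A] (P.homology p)) := by
      rw [Module.finrank_baseChange (R := K) (S := A), Module.finrank_fin_fun]
    rw [h3]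
  · -- through lengths
    set k := ResidueField A with hk
    set V := (CohIII.bcCx (algebraMap A k) P).homology p with hV
    have hTfin := finite_T_residue P hP hfin p
    have hVfin : Module.Finite k V := finite_homology_bcCx P p hTfin
    have hW : Module.length A (k ⊗[A] P.homology p) =
        (Module.finrank k (k ⊗[A] P.homology p) : ℕ∞) := by
      rw [Module.length_eq_of_surjective (S := A) (R := k) residue_surjective,
        Module.length_eq_finrank]
    -- the `A`-module structure on `V`
    let : Module A V := Module.compHom V (algebraMap A k)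
    have : IsScalarTower A k V := IsScalarTower.of_algebraMap_smul fun _ _ => rfl
    have hVlen : Module.length A V = (Module.finrank k V : ℕ∞) := by
      rw [Module.length_eq_of_surjective (S := A) (R := k) residue_surjective,
        Module.length_eq_finrank]
    let e : V ≃ₗ[A] (ModuleCat.restrictScalars (algebraMap A k)).obj V :=
      { toFun := fun v => v
        invFun := fun v => v
        map_add' := fun _ _ => rfl
        map_smul' := fun _ _ => rfl
        left_inv := fun _ => rfl
        right_inv := fun _ => rfl }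
    have hlen : Module.length A V =
        Module.length A (CohIII.T P p (ModuleCat.of A k)) :=
      (e ≪≫ₗ (homologyBcRestrictIso (B := k) P p).toLinearEquiv).length_eq
    have h1 := length_tensor_le P hP p
    rw [hW, ← hlen, hVlen] at h1
    exact_mod_cast h1


end Groth.Agent.S4509
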