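import Groth.Statements.S4511
import Mathlib
import Groth.Agent.Lib.Helper90.CoeffField
import Groth.Agent.Lib.Helper90.PSSurj
import Groth.Agent.S0579

set_option autoImplicit false
universe u
open EGA41

namespace Groth.Agent.S4511.Aux

open IsLocalRing

theorem exists_coeff (A : Type u) [CommRing A] [IsLocalRing A]
    [IsAdicComplete (maximalIdeal A) A] (p : ℕ) [CharP (ResidueField A) p] (hp : (p : A) = 0) :
    ∃ σ : ResidueField A →+* A, ∀ x : ResidueField A, residue A (σ x) = x := by
  rcases CharP.char_is_prime_or_zero (ResidueField A) p with hpp | hp0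
  · haveI : Fact p.Prime := ⟨hpp⟩
    haveI : CharP A p := (CharP.charP_iff_prime_eq_zero hpp).mpr hp
    exact Groth.Agent.Lib.Helper90.CoeffField.exists_coeffField_of_charP A p
  · subst hp0
    haveI : CharZero (ResidueField A) := CharP.charP_to_charZero _
    obtain ⟨s, hs⟩ := Groth.Agent.S0579.result A
    exact ⟨s, fun x => congr($hs x)⟩

theorem moreover (A : Type u) [CommRing A] [IsLocalRing A] [IsNoetherianRing A]
    [IsAdicComplete (maximalIdeal A) A] (p : ℕ) [CharP (ResidueField A) p] (hp : (p : A) = 0) :
    ∃ (K : Type u) (_ : Field K) (n : ℕ) (f : MvPowerSeries (Fin n) K →+* A),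
      Function.Surjective f ∧ RingHom.ker f ≤ maximalIdeal (MvPowerSeries (Fin n) K) ^ 2 := by
  obtain ⟨σ, hσ⟩ := exists_coeff A p hp
  obtain ⟨n, f, hf1, hf2, -, -⟩ :=
    Groth.Agent.Lib.Helper90.PSSurj.exists_surjective_of_coeffField A σ hσ
  exact ⟨ResidueField A, inferInstance, n, f, hf1, hf2⟩

theorem main (A : Type u) [CommRing A] [IsLocalRing A] [IsNoetherianRing A]
    [IsAdicComplete (maximalIdeal A) A] (p : ℕ) [CharP (ResidueField A) p] :
    [∃ (K : Type u) (_ : Field K), Nonempty (K →+* A),
     (p : A) = 0,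
     ∃ (K : Type u) (_ : Field K) (n : ℕ) (f : MvPowerSeries (Fin n) K →+* A), Function.Surjective f].TFAE ∧
    ((p : A) = 0 → ∃ (K : Type u) (_ : Field K) (n : ℕ) (f : MvPowerSeries (Fin n) K →+* A),
      Function.Surjective f ∧ RingHom.ker f ≤ maximalIdeal (MvPowerSeries (Fin n) K) ^ 2) := by
  refine ⟨?_, moreover A p⟩
  tfae_have 1 → 2 := by
    rintro ⟨K, _, ⟨g⟩⟩
    have hinj : Function.Injective ((residue A).comp g) := RingHom.injective _
    haveI : CharP K p := (RingHom.charP_iff ((residue A).comp g) hinj p).mpr inferInstance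
    have : ((p : K)) = 0 := CharP.cast_eq_zero K p
    have h2 := congrArg g this
    rw [map_natCast, map_zero] at h2
    exact h2
  tfae_have 2 → 3 := by
    intro hp
    obtain ⟨K, hK, n, f, hf, -⟩ := moreover A p hp
    exact ⟨K, hK, n, f, hf⟩
  tfae_have 3 → 1 := by
    rintro ⟨K, hK, n, f, -⟩
    exact ⟨K, hK, ⟨f.comp MvPowerSeries.C⟩⟩
  tfae_finish

end Groth.Agent.S4511.Aux

namespace Groth.Agent.S4511

open IsLocalRing in
/-- Let A be a complete Noetherian local ring whose residue field has characteristic p (p = 0 allowed).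
The following are equivalent: (a) A contains a field, i.e. there is a ring homomorphism from a field
into A; (b) p·1 = 0 in A; (c) A is isomorphic to a quotient of a power series ring K[[T_1, …, T_n]]
over a field K. Moreover, when they hold, the surjection in (c) may be chosen with kernel contained
in the square of the maximal ideal of K[[T_1, …, T_n]]. -/
theorem result (A : Type u) [CommRing A] [IsLocalRing A] [IsNoetherianRing A]
    [IsAdicComplete (maximalIdeal A) A] (p : ℕ) [CharP (ResidueField A) p] :
    [∃ (K : Type u) (_ : Field K), Nonempty (K →+* A),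
     (p : A) = 0,
     ∃ (K : Type u) (_ : Field K) (n : ℕ) (f : MvPowerSeries (Fin n) K →+* A), Function.Surjective f].TFAE ∧
    ((p : A) = 0 → ∃ (K : Type u) (_ : Field K) (n : ℕ) (f : MvPowerSeries (Fin n) K →+* A),
      Function.Surjective f ∧ RingHom.ker f ≤ maximalIdeal (MvPowerSeries (Fin n) K) ^ 2) := by
  exact Aux.main A p

end Groth.Agent.S4511
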