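import Groth.Statements.S4514
import Mathlib
import Groth.Agent.Lib.Helper81.FlatLiftRegular
import Groth.Agent.Lib.Helper81.FibreTensor

set_option autoImplicit false
universe u
open EGA41

namespace Groth.Agent.S4514
open Groth.Agent.Lib.Helper81 in

open IsLocalRing TensorProduct in
/-- Let A be a Noetherian local ring with residue field k, and let B₀ be a k-algebra which is a complete
regular local ring. Then there exist a complete Noetherian local ring B and a local homomorphism A →
B making B a flat A-module, such that B₀ is k-isomorphic to k ⊗_A B = B/𝔪B. -/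
theorem result {A : Type u} [CommRing A] [IsLocalRing A] [IsNoetherianRing A]
    (B₀ : Type u) [CommRing B₀] [IsRegularLocalRing B₀] [IsAdicComplete (maximalIdeal B₀) B₀]
    [Algebra (ResidueField A) B₀] :
    ∃ (B : Type u) (_ : CommRing B) (_ : IsLocalRing B) (_ : IsNoetherianRing B) (_ : Algebra A B)
      (_ : IsLocalHom (algebraMap A B)),
      IsAdicComplete (maximalIdeal B) B ∧ Module.Flat A B ∧
        Nonempty (ResidueField A ⊗[A] B ≃ₐ[ResidueField A] B₀) := by
  classical
  obtain ⟨B, _, _, _, φ, π, hcomp, hflat, hπ, hker, hcompat⟩ :=
    FlatLiftRegular.exists_flatLift (A := A) B₀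
  letI : Algebra A B := φ.toAlgebra
  have hloc : IsLocalHom (algebraMap A B) := by
    apply ((IsLocalRing.local_hom_TFAE (algebraMap A B)).out 0 2).mpr
    change (maximalIdeal A).map φ ≤ maximalIdeal B
    rw [← hker]
    exact IsLocalRing.le_maximalIdeal (RingHom.ker_ne_top π)
  refine ⟨B, inferInstance, inferInstance, inferInstance, inferInstance, hloc, hcomp, hflat, ?_⟩
  letI : Algebra A B₀ := ((algebraMap (ResidueField A) B₀).comp (residue A)).toAlgebra
  haveI : IsScalarTower A (ResidueField A) B₀ := IsScalarTower.of_algebraMap_eq (fun _ => rfl)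
  let πa : B →ₐ[A] B₀ :=
    { π with
      commutes' := fun a => by
        have := congrArg (fun h => h a) hcompat
        simp only [RingHom.comp_apply] at this
        exact this }
  refine FibreTensor.nonempty_tensor_algEquiv (ResidueField A) residue_surjective πa hπ ?_
  intro b hb
  have h1 : b ∈ RingHom.ker π := hb
  rw [hker] at h1
  have h2 : RingHom.ker (algebraMap A (ResidueField A)) = maximalIdeal A := IsLocalRing.ker_residue
  rw [h2]
  exact h1

end Groth.Agent.S4514
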