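import Groth.Statements.S4515
import Mathlib.RingTheory.AdicCompletion.Functoriality
import Mathlib.RingTheory.Flat.EquationalCriterion

set_option autoImplicit false
universe u
open EGA41

namespace Groth.Agent.S4515

/-- Let A be a ring, J an ideal of A, and M, N two A-modules which are Hausdorff for the J-adic
topology; suppose moreover that N is J-adically complete and M is flat. Let u : N → M be A-linear.
If the induced map N/JN → M/JM is bijective (surjectivity and injectivity written out below), then u
is bijective. -/
theorem result {A : Type u} [CommRing A] (J : Ideal A)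
    {M N : Type u} [AddCommGroup M] [Module A M] [AddCommGroup N] [Module A N]
    [IsHausdorff J M] [IsAdicComplete J N] [Module.Flat A M] (u : N →ₗ[A] M)
    (hsurj : ∀ m : M, ∃ n : N, m - u n ∈ (J • ⊤ : Submodule A M))
    (hinj : ∀ n : N, u n ∈ (J • ⊤ : Submodule A M) → n ∈ (J • ⊤ : Submodule A N)) :
    Function.Bijective u := by
  classical
  have hs : Function.Surjective u := by
    apply surjective_of_mkQ_comp_surjective (I := J)
    intro y
    obtain ⟨m, rfl⟩ := Submodule.mkQ_surjective _ y
    obtain ⟨n, hn⟩ := hsurj m
    refine ⟨n, ?_⟩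
    simp only [LinearMap.comp_apply, Submodule.mkQ_apply]
    symm
    rw [Submodule.Quotient.eq]
    exact hn
  refine ⟨?_, hs⟩
  rw [← LinearMap.ker_eq_bot]
  set K := LinearMap.ker u with hKdef
  have hK1 : K ≤ J • K := by
    intro x hx
    have hxJ : x ∈ (J • ⊤ : Submodule A N) :=
      hinj x (by rw [LinearMap.mem_ker.mp hx]; exact zero_mem _)
    have hxJ' : x ∈ J • Submodule.span A (Set.range (id : N → N)) := by
      simpa using hxJ
    obtain ⟨a, ha, hax⟩ := (Submodule.mem_ideal_smul_span_iff_exists_sum J (id : N → N) x).mp hxJ'
    -- index by the support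
    let ι := a.support
    let f : ι → A := fun i => a i
    let n : ι → N := fun i => (i : N)
    have hx' : x = ∑ i : ι, f i • n i := by
      rw [← hax, Finsupp.sum, ← Finset.sum_coe_sort]
      rfl
    have hrel : ∑ i : ι, f i • u (n i) = 0 := by
      have := LinearMap.mem_ker.mp hx
      rw [hx', map_sum] at this
      simpa using this
    obtain ⟨k, b, y, hy, hb⟩ := Module.Flat.isTrivialRelation_of_sum_smul_eq_zero hrel
    choose z hz using fun j => hs (y j)
    have hki : ∀ i : ι, n i - ∑ j, b i j • z j ∈ K := by
      intro i
      have hyi : u (n i) = ∑ j, b i j • y j := hy i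
      rw [hKdef, LinearMap.mem_ker, map_sub, map_sum, hyi, sub_eq_zero]
      refine Finset.sum_congr rfl fun j _ => ?_
      rw [map_smul, hz]
    have : x = ∑ i : ι, f i • (n i - ∑ j, b i j • z j) := by
      rw [hx']
      simp only [smul_sub, Finset.sum_sub_distrib]
      rw [eq_sub_iff_add_eq, add_eq_left]
      simp only [Finset.smul_sum, smul_smul]
      rw [Finset.sum_comm]
      refine Finset.sum_eq_zero fun j _ => ?_
      rw [← Finset.sum_smul, hb j, zero_smul]
    rw [this]
    exact Submodule.sum_mem _ fun i _ => Submodule.smul_mem_smul (ha i) (hki i)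
  have hKn : ∀ k : ℕ, K ≤ (J ^ k • ⊤ : Submodule A N) := by
    intro k
    induction k with
    | zero => simp
    | succ k ih =>
      refine hK1.trans ?_
      rw [pow_succ', mul_smul]
      exact Submodule.smul_mono le_rfl ih
  rw [eq_bot_iff]
  intro x hx
  rw [Submodule.mem_bot]
  apply IsHausdorff.haus (I := J) (M := N) inferInstance
  intro k
  rw [SModEq.zero]
  exact hKn k hx


end Groth.Agent.S4515
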