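import Groth.Statements.S4516
import Mathlib.RingTheory.Kaehler.Basic
import Mathlib.Algebra.CharP.Defs

set_option autoImplicit false
universe u
open EGA41

namespace Groth.Agent.S4516

open TensorProduct

/-- Let p be a prime, B an A-algebra of characteristic p and A' an A-subalgebra of B contained in
A[B^p]. Then the canonical map between Ω_{B/A} and Ω_{B/A'} is bijective (every A-derivation of B
vanishes on A[B^p]). -/
theorem result (p : ℕ) [Fact p.Prime] {A B : Type u}
    [CommRing A] [CommRing B] [Algebra A B] [CharP B p] (A' : Subalgebra A B)
    (hA' : A' ≤ EGA41.pPowerSubalgebra p A B) :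
    Function.Bijective (KaehlerDifferential.map A A' B B) := by
  refine ⟨?_, KaehlerDifferential.map_surjective A A' B⟩
  -- `D` vanishes on `A[B^p]`
  have hD : ∀ b ∈ EGA41.pPowerSubalgebra p A B, KaehlerDifferential.D A B b = 0 := by
    intro b hb
    unfold EGA41.pPowerSubalgebra at hb
    induction hb using Algebra.adjoin_induction with
    | mem x hx =>
      obtain ⟨y, rfl⟩ := hx
      rw [Derivation.leibniz_pow]
      have : ((p : ℕ) : B) = 0 := CharP.cast_eq_zero B p
      rw [← Nat.cast_smul_eq_nsmul B, this, zero_smul]
    | algebraMap r => exact Derivation.map_algebraMap _ r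
    | add x y _ _ hx hy => rw [map_add, hx, hy, add_zero]
    | mul x y _ _ hx hy => rw [Derivation.leibniz, hx, hy, smul_zero, smul_zero, add_zero]
  have hmap : ∀ y : Ω[A'⁄A], KaehlerDifferential.map A A A' B y = 0 := by
    intro y
    have hy : y ∈ Submodule.span A' (Set.range (KaehlerDifferential.D A A')) := by
      rw [KaehlerDifferential.span_range_derivation]; trivial
    induction hy using Submodule.span_induction with
    | mem x hx =>
      obtain ⟨a, rfl⟩ := hx
      rw [KaehlerDifferential.map_D]
      exact hD _ (hA' a.2)
    | zero => exact map_zero _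
    | add x y _ _ hx hy => rw [map_add, hx, hy, add_zero]
    | smul a x _ hx => rw [map_smul, hx, smul_zero]
  have hbc : ∀ z : B ⊗[A'] Ω[A'⁄A], KaehlerDifferential.mapBaseChange A A' B z = 0 := by
    intro z
    induction z using TensorProduct.induction_on with
    | zero => exact map_zero _
    | tmul b y => rw [KaehlerDifferential.mapBaseChange_tmul, hmap, smul_zero]
    | add z w hz hw => rw [map_add, hz, hw, add_zero]
  rw [injective_iff_map_eq_zero]
  intro x hx
  obtain ⟨z, rfl⟩ := (KaehlerDifferential.exact_mapBaseChange_map A A' B x).mp hx
  exact hbc z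


end Groth.Agent.S4516
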