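import Groth.Statements.S4517
import Mathlib.Algebra.CharP.Lemmas
import Mathlib.RingTheory.Nilpotent.Lemmas

set_option autoImplicit false
universe u
open EGA41

namespace Groth.Agent.S4517

open TensorProduct

/-- Let p be a prime, B an A-algebra of characteristic p, and suppose there is s ≥ 0 such that b^(p^s)
lies in the image of A for every b ∈ B. Then the kernel of the multiplication map B ⊗_A B → B is a
nil ideal. -/
theorem result (p : ℕ) [Fact p.Prime] {A B : Type u}
    [CommRing A] [CommRing B] [Algebra A B] [CharP B p] (s : ℕ)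
    (hpow : ∀ b : B, b ^ p ^ s ∈ Set.range (algebraMap A B)) :
    ∀ x ∈ KaehlerDifferential.ideal A B, IsNilpotent x := by
  intro x hx
  rw [← mem_nilradical]
  rw [← KaehlerDifferential.span_range_eq_ideal] at hx
  refine (Ideal.span_le.mpr ?_) hx
  rintro _ ⟨b, rfl⟩
  change _ ∈ nilradical _
  rw [mem_nilradical]
  refine ⟨p ^ s, ?_⟩
  have hp0 : ((p : ℕ) : B ⊗[A] B) = 0 := by
    have : ((p : ℕ) : B ⊗[A] B) = ((p : B)) ⊗ₜ[A] (1 : B) := by
      rw [← map_natCast (algebraMap B (B ⊗[A] B))]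
      rfl
    rw [this, CharP.cast_eq_zero, zero_tmul]
  obtain ⟨r, hr⟩ := exists_add_pow_prime_pow_eq (Fact.out : p.Prime) (b ⊗ₜ[A] (1 : B))
    ((1 : B) ⊗ₜ[A] b - b ⊗ₜ[A] (1 : B)) s
  obtain ⟨a, ha⟩ := hpow b
  have h1 : ((1 : B) ⊗ₜ[A] b) ^ p ^ s = (b ⊗ₜ[A] (1 : B)) ^ p ^ s := by
    rw [Algebra.TensorProduct.tmul_pow, Algebra.TensorProduct.tmul_pow, one_pow, ← ha,
      Algebra.algebraMap_eq_smul_one, TensorProduct.smul_tmul]
  rw [add_sub_cancel, h1, hp0] at hr
  simpa using hr.symm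


end Groth.Agent.S4517
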