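import Groth.Statements.S4519
import Mathlib
import Groth.Agent.Lib.Helper81.PBasis
import Groth.Agent.Lib.Helper81.PBasisEGA

set_option autoImplicit false
universe u
open EGA41

namespace Groth.Agent.S4519

open Groth.Agent.Lib.Helper81.PBasis Groth.Agent.Lib.Helper81.PBasisEGA

/-- Let p be a prime, B a ring of characteristic p and A a subring of B with B^p ⊆ A (here: A → B
injective with every p-th power in its image; R → A → B with the image of R in B equal to the set of
p-th powers, so that R stands for B^p). If B admits a p-basis over A, then B is a formally smooth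
A-algebra relative to R for the discrete topologies (square-zero liftings, as in the prelude's
relative notion). -/
theorem result (p : ℕ) [Fact p.Prime] {R A B : Type u} [CommRing R] [CommRing A]
    [CommRing B] [Algebra R A] [Algebra A B] [Algebra R B] [IsScalarTower R A B] [CharP B p]
    (hinj : Function.Injective (algebraMap A B)) (hpow : ∀ b : B, b ^ p ∈ Set.range (algebraMap A B))
    (hR : Set.range (algebraMap R B) = Set.range fun b : B => b ^ p)
    {ι : Type u} (x : ι → B) (hx : EGA41.IsPBasis p A x) :
    EGA41.IsFormallySmoothRel R A B := by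
  classical
  have hp : p.Prime := Fact.out
  intro C _ _ _ _ J _ u₀ ⟨u, hu⟩
  have hli := linearIndependent_of_isPIndependent hinj x hx.1
  have hspan := span_eq_top_of_isPGenerating hpow x hx.2
  choose a ha using fun i => hpow (x i)
  have hxa : ∀ i, x i ^ p = algebraMap A B (a i) := fun i => (ha i).symm
  have hr : ∀ i, ∃ r : R, algebraMap R B r = x i ^ p := fun i => by
    have : x i ^ p ∈ Set.range (algebraMap R B) := by rw [hR]; exact ⟨x i, rfl⟩
    exact this
  choose r hr using hr
  have har : ∀ i, a i = algebraMap R A (r i) := fun i =>
    hinj (by rw [ha i, ← IsScalarTower.algebraMap_apply, hr i])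
  have hz : ∀ i, u (x i) ^ p = algebraMap A C (a i) := fun i => by
    rw [← map_pow, ← hr i, u.commutes, har i, ← IsScalarTower.algebraMap_apply]
  obtain ⟨v, hv, -⟩ := existsUnique_algHom hp.pos hxa hli hspan (fun i => u (x i)) hz
  refine ⟨v, ?_⟩
  have hz' : ∀ i, u₀ (x i) ^ p = algebraMap A (C ⧸ J) (a i) := fun i => by
    rw [← map_pow, hxa i, u₀.commutes]
  refine (existsUnique_algHom hp.pos hxa hli hspan (fun i => u₀ (x i)) hz').unique ?_ (fun i => rfl)
  intro i
  rw [AlgHom.comp_apply, hv i]
  have := congrArg (fun f : B →ₐ[R] C ⧸ J => f (x i)) hu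
  simpa using this

end Groth.Agent.S4519
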