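import Groth.Statements.S4522
import Mathlib
import Groth.Agent.S2466
import Groth.Agent.S2467
import Groth.Agent.S2468
import Groth.Agent.Lib.Helper81.PBasisTransfer
import Groth.Agent.Lib.Helper81.PBasisGen

set_option autoImplicit false
universe u
open EGA41

namespace Groth.Agent.S4522

open Groth.Agent.Lib.Helper81.PBasis Groth.Agent.Lib.Helper81.PBasisEGA

/-- Let L be a field of characteristic p > 0 and K a subfield with L^p ⊆ K ⊆ L (here R → K → L with the
image of R in L the set of p-th powers and every p-th power of L in the image of K). Then the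
canonical L-linear map L ⊗_K Ω_{K/L^p} → Ω_{L/L^p} is injective, so that 0 → Ω_{K/L^p} ⊗_K L →
Ω_{L/L^p} → Ω_{L/K} → 0 is exact: the imperfection module of L over K relative to L^p vanishes. -/
theorem result (p : ℕ) [Fact p.Prime] {R K L : Type u} [Field R] [Field K] [Field L]
    [Algebra R K] [Algebra K L] [Algebra R L] [IsScalarTower R K L] [CharP L p]
    (hR : Set.range (algebraMap R L) = Set.range fun y : L => y ^ p)
    (hK : ∀ y : L, y ^ p ∈ Set.range (algebraMap K L)) :
    Function.Injective (KaehlerDifferential.mapBaseChange R K L) := by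
  classical
  haveI : CharP K p := RingHom.charP (algebraMap K L) (algebraMap K L).injective p
  -- a `p`-basis of `K` over `R`
  obtain ⟨h1, h2, -⟩ := Groth.Agent.S2468.result (k := R) p (Subtype.val : ↥(∅ : Set K) → K)
  have hempty : EGA41.IsPIndependent p R (Subtype.val : ↥(∅ : Set K) → K) :=
    h1.2 (linearIndepOn_empty K (KaehlerDifferential.D R K))
  have huniv : EGA41.IsPGenerating p R (Subtype.val : ↥(Set.univ : Set K) → K) := by
    rw [isPGenerating_iff_adjoin, eq_top_iff]
    intro z _
    exact Algebra.subset_adjoin ⟨⟨z, trivial⟩, rfl⟩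
  obtain ⟨B, -, -, hB⟩ := Groth.Agent.S2467.result (k := R) p Set.univ ∅ (Set.empty_subset _)
    huniv hempty
  obtain ⟨bK, hbK⟩ := Groth.Agent.S2466.result p (Subtype.val : B → K) hB
  -- it stays `p`-independent in `L`
  let y' : B → L := fun i => algebraMap K L i.1
  have hliK : LinearIndependent R (redMon p (Subtype.val : B → K)) :=
    linearIndependent_of_isPIndependent (algebraMap R K).injective _ hB.1
  have hliL : LinearIndependent R (redMon p y') := by
    have h := hliK.map' (IsScalarTower.toAlgHom R K L).toLinearMap
      (LinearMap.ker_eq_bot.2 (algebraMap K L).injective)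
    have heq : redMon p y' = (IsScalarTower.toAlgHom R K L).toLinearMap ∘
        redMon p (Subtype.val : B → K) := by
      funext e
      exact (map_redMon (algebraMap K L) _ e).symm
    rw [heq]
    exact h
  have hpowL : ∀ b : L, b ^ p ∈ Set.range (algebraMap R L) := fun b => by
    rw [hR]; exact ⟨b, rfl⟩
  have hPI : EGA41.IsPIndependent p R y' := isPIndependent_of_linearIndependent hpowL y' hliL
  have hD : LinearIndependent L (fun i => KaehlerDifferential.D R L (y' i)) :=
    (Groth.Agent.S2468.result (k := R) p y').1.1 hPI
  apply injective_of_basis_linearIndependent (bK.baseChange L)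
  have hfun : (fun i => KaehlerDifferential.mapBaseChange R K L ((bK.baseChange L) i)) =
      fun i => KaehlerDifferential.D R L (y' i) := by
    funext i
    rw [Module.Basis.baseChange_apply, KaehlerDifferential.mapBaseChange_tmul, one_smul, hbK,
      KaehlerDifferential.map_D]
  rw [hfun]
  exact hD

end Groth.Agent.S4522
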