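import Groth.Statements.S4524
import Mathlib.RingTheory.Smooth.Field
import Mathlib.RingTheory.Unramified.Field
import Mathlib.RingTheory.Kaehler.JacobiZariski
import Mathlib.RingTheory.Flat.FaithfullyFlat.Algebra
import Mathlib.FieldTheory.IntermediateField.Adjoin.Algebra
import Mathlib.FieldTheory.Perfect

set_option autoImplicit false
universe u
open EGA41

namespace Groth.Agent.S4524

open TensorProduct

/-- In characteristic zero every field extension is formally smooth. -/
theorem formallySmooth_of_charZero (F K : Type u) [Field F] [CharZero F] [Field K] [Algebra F K] :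
    Algebra.FormallySmooth F K := by
  obtain ⟨s, hs⟩ := exists_isTranscendenceBasis F K
  have halg : Algebra.IsAlgebraic (IntermediateField.adjoin F (Set.range ((↑) : s → K))) K :=
    hs.isAlgebraic_field
  have : Algebra.IsSeparable (IntermediateField.adjoin F (Set.range ((↑) : s → K))) K :=
    Algebra.IsAlgebraic.isSeparable_of_perfectField
  exact Algebra.FormallySmooth.of_algebraicIndependent_of_isSeparable hs.1

/-- Let k be a field of characteristic 0 and K an extension of k. Then Ω_{K/k} = 0 if and only if K is
an algebraic extension of k. -/
theorem result {k K : Type u} [Field k] [CharZero k] [Field K] [Algebra k K] :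
    Subsingleton (Ω[K⁄k]) ↔ Algebra.IsAlgebraic k K := by
  constructor
  · intro h
    refine ⟨fun x => ?_⟩
    let F := IntermediateField.adjoin k {x}
    have hsm : Algebra.FormallySmooth F K := formallySmooth_of_charZero F K
    have hinj : Function.Injective (KaehlerDifferential.mapBaseChange k F K) := by
      rw [injective_iff_map_eq_zero]
      intro y hy
      obtain ⟨z, rfl⟩ := (Algebra.H1Cotangent.exact_δ_mapBaseChange k F K y).mp hy
      rw [Subsingleton.elim z 0, map_zero]
    have h1 : Subsingleton (K ⊗[F] Ω[F⁄k]) := hinj.subsingleton
    have h2 : Subsingleton (Ω[F⁄k]) :=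
      (Module.FaithfullyFlat.tensorProduct_mk_injective (A := F) (B := K) (Ω[F⁄k])).subsingleton
    have h3 : Algebra.FormallyUnramified k F := ⟨h2⟩
    have h4 : Algebra.EssFiniteType k F :=
      IntermediateField.essFiniteType_iff.mpr (IntermediateField.fg_adjoin_of_finite (Set.finite_singleton x))
    have h5 : Algebra.IsSeparable k F := Algebra.FormallyUnramified.isSeparable k F
    have hx : IsAlgebraic k (⟨x, IntermediateField.mem_adjoin_simple_self k x⟩ : F) :=
      Algebra.IsAlgebraic.isAlgebraic _
    exact (isAlgebraic_algebraMap_iff (algebraMap F K).injective).mpr hx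
  · intro h
    have : Algebra.IsSeparable k K := Algebra.IsAlgebraic.isSeparable_of_perfectField
    have : Algebra.FormallyUnramified k K := Algebra.FormallyUnramified.of_isSeparable k K
    infer_instance


end Groth.Agent.S4524
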