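import Groth.Statements.S4525
import Mathlib
import Groth.Agent.Lib.Helper81.Cartier

set_option autoImplicit false
universe u
open EGA41

namespace Groth.Agent.S4525
open Groth.Agent.Lib.Helper81.Cartier in

/-- Let K be a field, L an extension of finite type of K and k a subfield of K. Then Ω_{L/K} and the
imperfection module Υ_{L/K/k} are finite-dimensional L-vector spaces and rank Ω_{L/K} − rank
Υ_{L/K/k} ≥ trdeg_K L. (The published statement also gives the equality rank Ω_{L/K} − rank
Υ_{L/K/k} = trdeg_K L + d(L/K, k) and an equality criterion; this row states only finiteness and the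
inequality.) -/
theorem result {k K L : Type u} [Field k] [Field K] [Field L]
    [Algebra k K] [Algebra K L] [Algebra k L] [IsScalarTower k K L] [Algebra.EssFiniteType K L] :
    Module.Finite L (Ω[L⁄K]) ∧ Module.Finite L (EGA41.imperfection k K L) ∧
      (Cardinal.toNat (Algebra.trdeg K L) : ℤ) ≤
        (Module.finrank L (Ω[L⁄K]) : ℤ) - Module.finrank L (EGA41.imperfection k K L) := by
  haveI : Algebra.EssFiniteType K L := inferInstance
  obtain ⟨hΩ, hH, n, hn, he⟩ := good_of_essFiniteType K L
  haveI := hH
  refine ⟨hΩ, ?_, ?_⟩
  · exact finite_ker_mapBaseChange k K L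
  · have h1 : Module.finrank L (EGA41.imperfection k K L) ≤
        Module.finrank L (Algebra.H1Cotangent K L) :=
      finrank_ker_mapBaseChange_le k K L
    rw [hn, Cardinal.toNat_natCast, he]
    push_cast
    have h2 : (Module.finrank L (EGA41.imperfection k K L) : ℤ) ≤
        (Module.finrank L (Algebra.H1Cotangent K L) : ℤ) := by exact_mod_cast h1
    linarith

end Groth.Agent.S4525
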