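import Groth.Statements.S4529
import Mathlib.RingTheory.Nakayama
import Mathlib.RingTheory.FiniteType
import Mathlib.RingTheory.OrzechProperty
import Mathlib.RingTheory.Nilpotent.Basic
import Mathlib.Algebra.Module.Projective

set_option autoImplicit false
universe u
open EGA41

namespace Groth.Agent.S4529

/-- an endomorphism congruent to the identity modulo `J M` is bijective in the two cases. -/
theorem bijective_of_sub_id_mem {A : Type u} [CommRing A] {M : Type u} [AddCommGroup M] [Module A M]
    (J : Ideal A) (hJ : IsNilpotent J ∨ (J ≤ (⊥ : Ideal A).jacobson ∧ Module.Finite A M))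
    (φ : M →ₗ[A] M) (hφ : ∀ x, φ x - x ∈ (J • ⊤ : Submodule A M)) : Function.Bijective φ := by
  rcases hJ with hnil | ⟨hjac, hfin⟩
  · -- nilpotent case
    obtain ⟨k, hk⟩ := hnil
    set δ : Module.End A M := φ - 1 with hδ
    have hδk : ∀ n : ℕ, ∀ x, (δ ^ n) x ∈ (J ^ n • ⊤ : Submodule A M) := by
      intro n
      induction n with
      | zero => intro x; simp
      | succ n ih =>
        intro x
        rw [pow_succ' δ n, Module.End.mul_apply]
        have h1 : (δ ^ n) x ∈ (J ^ n • ⊤ : Submodule A M) := ih x
        have h2 : δ ((δ ^ n) x) ∈ (J ^ n • ⊤ : Submodule A M).map δ := Submodule.mem_map_of_mem h1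
        rw [Submodule.map_smul''] at h2
        have h3 : (⊤ : Submodule A M).map δ ≤ J • ⊤ := by
          rintro _ ⟨y, -, rfl⟩
          exact hφ y
        have h4 := Submodule.smul_mono (le_refl (J ^ n)) h3 h2
        rwa [← mul_smul, ← pow_succ J n] at h4
    have hnilδ : IsNilpotent δ := by
      refine ⟨k, ?_⟩
      ext x
      have := hδk k x
      rw [hk] at this
      simpa using this
    have hu : IsUnit (1 + δ) := hnilδ.isUnit_one_add
    have : (1 : Module.End A M) + δ = φ := by rw [hδ]; abel
    rw [this] at hu
    exact (Module.End.isUnit_iff φ).mp hu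
  · -- Nakayama case
    have hsurj : Function.Surjective φ := by
      rw [← LinearMap.range_eq_top, eq_top_iff]
      refine Submodule.le_of_le_smul_of_le_jacobson_bot (Module.Finite.fg_top) hjac ?_
      intro x _
      have : x = φ x + -(φ x - x) := by abel
      rw [this]
      exact Submodule.add_mem_sup (LinearMap.mem_range_self φ x) (neg_mem (hφ x))
    exact ⟨OrzechProperty.injective_of_surjective_endomorphism φ hsurj, hsurj⟩

/-- Let A be a ring, M, N two A-modules with N projective, u : M → N a homomorphism and J an ideal of A;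
suppose either (i) J is nilpotent, or (ii) J is contained in the Jacobson radical of A and M is of
finite type. Then u is left invertible if and only if the induced map u₀ : M/JM → N/JN is left
invertible. (A left inverse of u₀ composed with N → N/JN is an A-linear map v : N → M/JM with v ∘ u
the projection, and conversely; the right-hand side is written in that form.) -/
theorem result {A : Type u} [CommRing A] {M N : Type u} [AddCommGroup M] [Module A M]
    [AddCommGroup N] [Module A N] [Module.Projective A N] (u : M →ₗ[A] N) (J : Ideal A)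
    (hJ : IsNilpotent J ∨ (J ≤ (⊥ : Ideal A).jacobson ∧ Module.Finite A M)) :
    (∃ w : N →ₗ[A] M, w ∘ₗ u = LinearMap.id) ↔
      ∃ v : N →ₗ[A] M ⧸ (J • ⊤ : Submodule A M), v ∘ₗ u = (J • ⊤ : Submodule A M).mkQ := by
  constructor
  · rintro ⟨w, hw⟩
    refine ⟨(J • ⊤ : Submodule A M).mkQ ∘ₗ w, ?_⟩
    rw [LinearMap.comp_assoc, hw, LinearMap.comp_id]
  · rintro ⟨v, hv⟩
    obtain ⟨w₀, hw₀⟩ := Module.projective_lifting_property (J • ⊤ : Submodule A M).mkQ v
      (Submodule.mkQ_surjective _)
    have hφ : ∀ x, (w₀ ∘ₗ u) x - x ∈ (J • ⊤ : Submodule A M) := by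
      intro x
      rw [← Submodule.Quotient.mk_eq_zero, Submodule.Quotient.mk_sub, sub_eq_zero]
      have h1 := congrArg (fun f => f (u x)) hw₀
      have h2 := congrArg (fun f => f x) hv
      simp only [LinearMap.comp_apply, Submodule.mkQ_apply] at h1 h2
      rw [LinearMap.comp_apply, h1, h2]
    have hbij := bijective_of_sub_id_mem J hJ (w₀ ∘ₗ u) hφ
    let e := LinearEquiv.ofBijective (w₀ ∘ₗ u) hbij
    refine ⟨e.symm.toLinearMap ∘ₗ w₀, ?_⟩
    ext x
    simp only [LinearMap.comp_apply, LinearMap.id_apply, LinearEquiv.coe_coe]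
    rw [LinearEquiv.symm_apply_eq]
    rfl


end Groth.Agent.S4529
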