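import Groth.Statements.S4530
import Mathlib

set_option autoImplicit false
universe u
open EGA41

namespace Groth.Agent.S4530

-- HELPERS BEGIN
open TensorProduct

section LI
variable {A : Type u} [CommRing A] {M N : Type u} [AddCommGroup M] [Module A M]
  [AddCommGroup N] [Module A N]

/-- left invertibility of the localized map -/
def LI (S : Submonoid A) (u : M →ₗ[A] N) : Prop :=
  ∃ w : LocalizedModule S N →ₗ[A] LocalizedModule S M,
    w ∘ₗ (LocalizedModule.map S u).restrictScalars A = LinearMap.id

lemma map_mkLinearMap (S : Submonoid A) (u : M →ₗ[A] N) (m : M) :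
    LocalizedModule.map S u (LocalizedModule.mkLinearMap S M m) =
      LocalizedModule.mkLinearMap S N (u m) := by
  simp [LocalizedModule.mkLinearMap_apply]

lemma LI_iff (S : Submonoid A) (u : M →ₗ[A] N)
    (w : LocalizedModule S N →ₗ[A] LocalizedModule S M) :
    w ∘ₗ (LocalizedModule.map S u).restrictScalars A = LinearMap.id ↔
      ∀ m : M, w (LocalizedModule.mkLinearMap S N (u m)) = LocalizedModule.mkLinearMap S M m := by
  constructor
  · intro h m
    have := LinearMap.congr_fun h (LocalizedModule.mkLinearMap S M m)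
    simpa [map_mkLinearMap] using this
  · intro h
    apply IsLocalizedModule.linearMap_ext S (LocalizedModule.mkLinearMap S M)
      (LocalizedModule.mkLinearMap S M)
    ext m
    have := h m
    simp only [LocalizedModule.mkLinearMap_apply] at this
    simpa using this

/-- L1: localizing further. -/
lemma LI.mono {S T : Submonoid A} (hST : S ≤ T) {u : M →ₗ[A] N} (h : LI S u) : LI T u := by
  obtain ⟨w, hw⟩ := h
  rw [LI_iff] at hw
  have hunits : ∀ s : S, IsUnit (algebraMap A (Module.End A (LocalizedModule T M)) s) :=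
    fun s => IsLocalizedModule.map_units (LocalizedModule.mkLinearMap T M) ⟨s.1, hST s.2⟩
  let α : LocalizedModule S M →ₗ[A] LocalizedModule T M :=
    IsLocalizedModule.lift S (LocalizedModule.mkLinearMap S M) (LocalizedModule.mkLinearMap T M)
      hunits
  have hα : ∀ m, α (LocalizedModule.mkLinearMap S M m) = LocalizedModule.mkLinearMap T M m :=
    fun m => IsLocalizedModule.lift_apply S _ _ hunits m
  let w' : LocalizedModule T N →ₗ[A] LocalizedModule T M :=
    IsLocalizedModule.lift T (LocalizedModule.mkLinearMap T N)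
      (α ∘ₗ w ∘ₗ LocalizedModule.mkLinearMap S N)
      (IsLocalizedModule.map_units (LocalizedModule.mkLinearMap T M))
  refine ⟨w', (LI_iff T u w').mpr fun m => ?_⟩
  have : w' (LocalizedModule.mkLinearMap T N (u m)) =
      (α ∘ₗ w ∘ₗ LocalizedModule.mkLinearMap S N) (u m) :=
    IsLocalizedModule.lift_apply T _ _ _ _
  rw [this]
  simp only [LinearMap.comp_apply]
  rw [hw, hα]

/-- first half of spreading out: a left inverse at `p` gives `v` with `v ∘ u = f • id`. -/
lemma exists_comp_eq_smul_of_LI {F : Type u} [AddCommGroup F] [Module A F]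
    [Module.FinitePresentation A F] [Module.Finite A M] (S : Submonoid A) (u : M →ₗ[A] F)
    (h : LI S u) : ∃ (v : F →ₗ[A] M) (f : A), f ∈ S ∧ v ∘ₗ u = f • LinearMap.id := by
  obtain ⟨w, hw⟩ := h
  rw [LI_iff] at hw
  obtain ⟨h, s, hs⟩ := Module.FinitePresentation.exists_lift_of_isLocalizedModule S
    (LocalizedModule.mkLinearMap S M) (w ∘ₗ LocalizedModule.mkLinearMap S F)
  have key : (LocalizedModule.mkLinearMap S M) ∘ₗ (h ∘ₗ u) =
      (LocalizedModule.mkLinearMap S M) ∘ₗ ((s : A) • (LinearMap.id : M →ₗ[A] M)) := by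
    ext m
    have := LinearMap.congr_fun hs (u m)
    simp only [LinearMap.comp_apply, LinearMap.smul_apply] at this
    simp only [LinearMap.comp_apply, LinearMap.smul_apply, LinearMap.id_apply, map_smul]
    rw [this, hw]
    rfl
  obtain ⟨t, ht⟩ := Module.Finite.exists_smul_of_comp_eq_of_isLocalizedModule S
    (LocalizedModule.mkLinearMap S M) _ _ key
  refine ⟨(t : A) • h, (t : A) * (s : A), S.mul_mem t.2 s.2, ?_⟩
  ext m
  have := LinearMap.congr_fun ht m
  simp only [LinearMap.smul_apply, LinearMap.comp_apply, LinearMap.id_apply, Submonoid.smul_def]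
    at this
  simp only [LinearMap.smul_apply, LinearMap.comp_apply, LinearMap.id_apply, mul_smul]
  exact this

/-- second half: `v ∘ u = f • id` gives a left inverse after inverting `f`. -/
lemma LI_of_comp_eq_smul {F : Type u} [AddCommGroup F] [Module A F] (u : M →ₗ[A] F)
    (v : F →ₗ[A] M) (f : A) (hv : v ∘ₗ u = f • LinearMap.id) {S : Submonoid A} (hf : f ∈ S) :
    LI S u := by
  have hu : IsUnit (algebraMap A (Module.End A (LocalizedModule S M)) f) :=
    IsLocalizedModule.map_units (LocalizedModule.mkLinearMap S M) ⟨f, hf⟩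
  let φ : Module.End A (LocalizedModule S M) := ((hu.unit)⁻¹ : (Module.End A _)ˣ)
  have hφ : ∀ x, φ (f • x) = x := by
    intro x
    have h1 : φ * (algebraMap A (Module.End A (LocalizedModule S M)) f) = 1 :=
      hu.val_inv_mul
    have := LinearMap.congr_fun h1 x
    simpa using this
  refine ⟨φ ∘ₗ (LocalizedModule.map S v).restrictScalars A, (LI_iff S u _).mpr fun m => ?_⟩
  simp only [LinearMap.comp_apply, LinearMap.restrictScalars_apply, map_mkLinearMap]
  have := LinearMap.congr_fun hv m
  simp only [LinearMap.comp_apply, LinearMap.smul_apply, LinearMap.id_apply] at this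
  rw [this, map_smul, hφ]

/-- L5: reduction to a finite free target. -/
lemma exists_finite_free_factor [Module.Finite A M] [Module.Projective A N] (u : M →ₗ[A] N) :
    ∃ (F : Type u) (_ : AddCommGroup F) (_ : Module A F) (_ : Module.Finite A F)
      (_ : Module.Free A F) (u' : M →ₗ[A] F) (q : N →ₗ[A] F) (P : Type u) (_ : AddCommGroup P)
      (_ : Module A P) (j : F →ₗ[A] P) (ι : N →ₗ[A] P) (ρ : P →ₗ[A] N),
      q ∘ₗ u = u' ∧ ρ ∘ₗ ι = LinearMap.id ∧ ι ∘ₗ u = j ∘ₗ u' := by
  classical
  obtain ⟨s, hs⟩ := Module.projective_def'.mp ‹Module.Projective A N›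
  obtain ⟨G, hG⟩ := (Module.finite_def.mp ‹Module.Finite A M›)
  let T : Finset N := G.biUnion fun m => (s (u m)).support
  have hmem : ∀ m, s (u m) ∈ Finsupp.supported A A (T : Set N) := by
    have : (Finsupp.supported A A (T : Set N)).comap (s ∘ₗ u) = ⊤ := by
      rw [eq_top_iff, ← hG, Submodule.span_le]
      intro m hm
      simp only [Submodule.comap_coe, Set.mem_preimage, LinearMap.comp_apply, SetLike.mem_coe,
        Finsupp.mem_supported]
      intro x hx
      simp only [T, Finset.coe_biUnion, Set.mem_iUnion]
      exact ⟨m, hm, hx⟩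
    intro m
    have h2 : m ∈ (Finsupp.supported A A (T : Set N)).comap (s ∘ₗ u) := by rw [this]; trivial
    exact h2
  let F := ↥(Finsupp.supported A A (T : Set N))
  let e : F ≃ₗ[A] (↥(T : Set N) →₀ A) := Finsupp.supportedEquivFinsupp (T : Set N)
  have hfin : Module.Finite A F := Module.Finite.equiv e.symm
  have hfree : Module.Free A F := Module.Free.of_equiv e.symm
  let u' : M →ₗ[A] F := (s ∘ₗ u).codRestrict _ hmem
  let q : N →ₗ[A] F := (Finsupp.restrictDom A A (T : Set N)) ∘ₗ s
  refine ⟨F, inferInstance, inferInstance, hfin, hfree, u', q, N →₀ A, inferInstance,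
    inferInstance, Submodule.subtype _, s, Finsupp.linearCombination A id, ?_, hs, ?_⟩
  · ext m : 1
    have h1 : s (u m) = (Submodule.subtype _) (u' m) := rfl
    simp only [LinearMap.comp_apply, q]
    rw [h1]
    exact LinearMap.congr_fun (Finsupp.restrictDom_comp_subtype (M := A) (R := A) (T : Set N)) (u' m)
  · ext m : 1
    rfl

end LI

section Nat
variable {A : Type u} [CommRing A] (p : Ideal A) [p.IsPrime]

/-- `κ(p) ⊗_{A_p} X_p ≃ κ(p) ⊗_A X`. -/
noncomputable def tau (X : Type u) [AddCommGroup X] [Module A X] :
    p.ResidueField ⊗[Localization.AtPrime p] LocalizedModule p.primeCompl X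
      ≃ₗ[Localization.AtPrime p] p.ResidueField ⊗[A] X :=
  IsBaseChange.tensorEquiv
    ((isLocalizedModule_iff_isBaseChange p.primeCompl (Localization.AtPrime p)
      (LocalizedModule.mkLinearMap p.primeCompl X)).mp inferInstance) p.ResidueField

lemma tau_tmul (X : Type u) [AddCommGroup X] [Module A X] (c : p.ResidueField) (x : X) :
    tau p X (c ⊗ₜ LocalizedModule.mkLinearMap p.primeCompl X x) = c ⊗ₜ x := by
  have hb := (isLocalizedModule_iff_isBaseChange p.primeCompl (Localization.AtPrime p)
      (LocalizedModule.mkLinearMap p.primeCompl X)).mp inferInstance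
  change (IsBaseChange.tensorEquiv hb p.ResidueField) _ = _
  simp only [IsBaseChange.tensorEquiv, LinearEquiv.trans_apply, LinearEquiv.lTensor_tmul,
    IsBaseChange.equiv_symm_apply, AlgebraTensorModule.cancelBaseChange_tmul, one_smul]

lemma tau_symm_tmul (X : Type u) [AddCommGroup X] [Module A X] (c : p.ResidueField) (x : X) :
    (tau p X).symm (c ⊗ₜ x) = c ⊗ₜ LocalizedModule.mkLinearMap p.primeCompl X x := by
  rw [LinearEquiv.symm_apply_eq, tau_tmul]

variable {M N : Type u} [AddCommGroup M] [Module A M] [AddCommGroup N] [Module A N]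

lemma tau_natural (u : M →ₗ[A] N) (z : p.ResidueField ⊗[A] M) :
    (LocalizedModule.map p.primeCompl u).lTensor p.ResidueField ((tau p M).symm z) =
      (tau p N).symm (u.lTensor p.ResidueField z) := by
  induction z using TensorProduct.induction_on with
  | zero => simp
  | tmul c m =>
    rw [tau_symm_tmul, LinearMap.lTensor_tmul, LinearMap.lTensor_tmul, tau_symm_tmul,
      map_mkLinearMap]
  | add x y hx hy => simp only [map_add, hx, hy]

lemma injective_lTensor_iff (u : M →ₗ[A] N) :
    Function.Injective (u.lTensor p.ResidueField) ↔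
      Function.Injective ((LocalizedModule.map p.primeCompl u).lTensor p.ResidueField) := by
  constructor
  · intro h x y hxy
    obtain ⟨x, rfl⟩ := (tau p M).symm.surjective x
    obtain ⟨y, rfl⟩ := (tau p M).symm.surjective y
    rw [tau_natural, tau_natural] at hxy
    rw [h ((tau p N).symm.injective hxy)]
  · intro h x y hxy
    apply (tau p M).symm.injective
    apply h
    rw [tau_natural, tau_natural, hxy]

lemma LI_of_injective_lTensor {F : Type u} [AddCommGroup F] [Module A F] [Module.Finite A F]
    [Module.Free A F] [Module.Finite A M] (u : M →ₗ[A] F)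
    (h : Function.Injective (u.lTensor p.ResidueField)) : LI p.primeCompl u := by
  have h' := (injective_lTensor_iff p u).mp h
  have : Module.Free (Localization.AtPrime p) (LocalizedModule p.primeCompl F) :=
    Module.free_of_isLocalizedModule p.primeCompl (LocalizedModule.mkLinearMap p.primeCompl F)
  obtain ⟨l', hl'⟩ := (IsLocalRing.split_injective_iff_lTensor_residueField_injective
    (LocalizedModule.map p.primeCompl u)).mpr h'
  exact ⟨l'.restrictScalars A, by ext x; exact LinearMap.congr_fun hl' x⟩

lemma injective_lTensor_of_LI (u : M →ₗ[A] N) (h : LI p.primeCompl u) :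
    Function.Injective (u.lTensor p.ResidueField) := by
  rw [injective_lTensor_iff]
  obtain ⟨w, hw⟩ := h
  let l' := w.extendScalarsOfIsLocalization p.primeCompl (Localization.AtPrime p)
  have h1 : l' ∘ₗ LocalizedModule.map p.primeCompl u = LinearMap.id := by
    ext x; exact LinearMap.congr_fun hw x
  have h2 : l'.lTensor p.ResidueField ∘ₗ
      (LocalizedModule.map p.primeCompl u).lTensor p.ResidueField = .id := by
    rw [← LinearMap.lTensor_comp, h1, LinearMap.lTensor_id]
  exact Function.HasLeftInverse.injective ⟨_, LinearMap.congr_fun h2⟩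

end Nat

section Main
variable {A : Type u} [CommRing A] {M N : Type u} [AddCommGroup M] [Module A M]
  [AddCommGroup N] [Module A N]

lemma exists_LI_powers_of_injective [Module.Finite A M] [Module.Projective A N] (u : M →ₗ[A] N)
    (p : Ideal A) [p.IsPrime] (h : Function.Injective (u.lTensor p.ResidueField)) :
    ∃ f : A, f ∉ p ∧ LI (Submonoid.powers f) u := by
  obtain ⟨F, _, _, _, _, u', q, P, _, _, j, ι, ρ, hq, hρ, hj⟩ := exists_finite_free_factor u
  have hι : Function.Injective (ι.lTensor p.ResidueField) :=
    Function.HasLeftInverse.injective ⟨ρ.lTensor p.ResidueField, fun x => by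
      rw [← LinearMap.comp_apply, ← LinearMap.lTensor_comp, hρ, LinearMap.lTensor_id]; rfl⟩
  have h2 : Function.Injective ((j ∘ₗ u').lTensor p.ResidueField) := by
    rw [← hj, LinearMap.lTensor_comp]; exact hι.comp h
  rw [LinearMap.lTensor_comp] at h2
  have h1 : Function.Injective (u'.lTensor p.ResidueField) := Function.Injective.of_comp h2
  have h3 : LI p.primeCompl u' := LI_of_injective_lTensor p u' h1
  have : Module.FinitePresentation A F := Module.finitePresentation_of_projective A F
  obtain ⟨v, f, hf, hv⟩ := exists_comp_eq_smul_of_LI _ u' h3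
  obtain ⟨w', hw'⟩ := LI_of_comp_eq_smul u' v f hv (Submonoid.mem_powers f)
  refine ⟨f, hf, w' ∘ₗ (LocalizedModule.map (Submonoid.powers f) q).restrictScalars A, ?_⟩
  rw [LI_iff] at hw' ⊢
  intro m
  simp only [LinearMap.comp_apply, LinearMap.restrictScalars_apply, map_mkLinearMap]
  have := hw' m
  rw [← hq] at this
  exact this

end Main
-- HELPERS END


open TensorProduct in
/-- Let A be a ring, M an A-module of finite type, N a projective A-module, u : M → N a homomorphism.
For a prime ideal 𝔭 the following are equivalent: (a) u_𝔭 : M_𝔭 → N_𝔭 is left invertible; (b) u ⊗ 1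
: M ⊗ k(𝔭) → N ⊗ k(𝔭) is injective; (d) there is f ∉ 𝔭 with u_f : M_f → N_f left invertible.
Moreover the set of such 𝔭 is open in Spec A. (The published statement also has a determinant
criterion (c); this row omits it.) -/
theorem result {A : Type u} [CommRing A] {M N : Type u} [AddCommGroup M] [Module A M]
    [Module.Finite A M] [AddCommGroup N] [Module A N] [Module.Projective A N] (u : M →ₗ[A] N) :
    (∀ p : PrimeSpectrum A,
      [∃ w : LocalizedModule p.asIdeal.primeCompl N →ₗ[A] LocalizedModule p.asIdeal.primeCompl M,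
          w ∘ₗ LocalizedModule.map p.asIdeal.primeCompl u = LinearMap.id,
       Function.Injective (u.lTensor p.asIdeal.ResidueField),
       ∃ f : A, f ∉ p.asIdeal ∧
          ∃ w : LocalizedModule (Submonoid.powers f) N →ₗ[A] LocalizedModule (Submonoid.powers f) M,
            w ∘ₗ LocalizedModule.map (Submonoid.powers f) u = LinearMap.id].TFAE) ∧
    IsOpen {p : PrimeSpectrum A |
      ∃ w : LocalizedModule p.asIdeal.primeCompl N →ₗ[A] LocalizedModule p.asIdeal.primeCompl M,
        w ∘ₗ LocalizedModule.map p.asIdeal.primeCompl u = LinearMap.id} := by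
  have h12 : ∀ p : PrimeSpectrum A, LI p.asIdeal.primeCompl u →
      Function.Injective (u.lTensor p.asIdeal.ResidueField) :=
    fun p => injective_lTensor_of_LI p.asIdeal u
  have h23 : ∀ p : PrimeSpectrum A, Function.Injective (u.lTensor p.asIdeal.ResidueField) →
      ∃ f : A, f ∉ p.asIdeal ∧ LI (Submonoid.powers f) u :=
    fun p => exists_LI_powers_of_injective u p.asIdeal
  have h31 : ∀ p : PrimeSpectrum A, (∃ f : A, f ∉ p.asIdeal ∧ LI (Submonoid.powers f) u) →
      LI p.asIdeal.primeCompl u := by
    rintro p ⟨f, hf, h⟩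
    exact h.mono ((Submonoid.powers_le (P := p.asIdeal.primeCompl)).mpr hf)
  refine ⟨fun p => ?_, ?_⟩
  · tfae_have 1 → 2 := h12 p
    tfae_have 2 → 3 := h23 p
    tfae_have 3 → 1 := h31 p
    tfae_finish
  · have : {p : PrimeSpectrum A | LI p.asIdeal.primeCompl u} =
        ⋃ (f : A) (_ : LI (Submonoid.powers f) u), (PrimeSpectrum.basicOpen f : Set _) := by
      ext p
      simp only [Set.mem_ofPred_eq, Set.mem_iUnion, SetLike.mem_coe, PrimeSpectrum.mem_basicOpen,
        exists_prop]
      constructor
      · intro h
        obtain ⟨f, hf, hLI⟩ := h23 p (h12 p h)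
        exact ⟨f, hLI, hf⟩
      · rintro ⟨f, hLI, hf⟩
        exact h31 p ⟨f, hf, hLI⟩
    change IsOpen {p : PrimeSpectrum A | LI p.asIdeal.primeCompl u}
    rw [this]
    exact isOpen_iUnion fun f => isOpen_iUnion fun _ => (PrimeSpectrum.basicOpen f).isOpen

end Groth.Agent.S4530
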