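import Groth.Statements.S4531
import Groth.Agent.S4530

set_option autoImplicit false
universe u
open EGA41

namespace Groth.Agent.S4531

-- HELPERS BEGIN
open TensorProduct
open Groth.Agent.S4530

section Cancel
variable {A : Type u} [CommRing A] {M N : Type u} [AddCommGroup M] [Module A M]
  [AddCommGroup N] [Module A N]
variable (S : Type u) [CommRing S] [Algebra A S] (P : Type u) [AddCommGroup P] [Module A P]
  [Module S P] [IsScalarTower A S P]

lemma cancel_natural (u : M →ₗ[A] N) (z : P ⊗[S] (S ⊗[A] M)) :
    AlgebraTensorModule.cancelBaseChange A S S P N ((u.baseChange S).lTensor P z) =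
      u.lTensor P (AlgebraTensorModule.cancelBaseChange A S S P M z) := by
  induction z using TensorProduct.induction_on with
  | zero => simp
  | tmul c y =>
    induction y using TensorProduct.induction_on with
    | zero => simp
    | tmul s x => simp
    | add y₁ y₂ h₁ h₂ => simp only [tmul_add, map_add, h₁, h₂]
  | add x y hx hy => simp only [map_add, hx, hy]

lemma injective_lTensor_baseChange_iff (u : M →ₗ[A] N) :
    Function.Injective ((u.baseChange S).lTensor P) ↔ Function.Injective (u.lTensor P) := by
  constructor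
  · intro h x y hxy
    obtain ⟨x, rfl⟩ := (AlgebraTensorModule.cancelBaseChange A S S P M).surjective x
    obtain ⟨y, rfl⟩ := (AlgebraTensorModule.cancelBaseChange A S S P M).surjective y
    rw [← cancel_natural, ← cancel_natural] at hxy
    rw [h ((AlgebraTensorModule.cancelBaseChange A S S P N).injective hxy)]
  · intro h x y hxy
    apply (AlgebraTensorModule.cancelBaseChange A S S P M).injective
    apply h
    rw [← cancel_natural, ← cancel_natural, hxy]

end Cancel

section PartOne
variable {A : Type u} [CommRing A] {M N : Type u} [AddCommGroup M] [Module A M]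
  [AddCommGroup N] [Module A N]

/-- the ideal of `a` such that `a • id` factors through `u`. -/
def factorIdeal {F : Type u} [AddCommGroup F] [Module A F] (u : M →ₗ[A] F) : Ideal A where
  carrier := {a | ∃ v : F →ₗ[A] M, v ∘ₗ u = a • LinearMap.id}
  add_mem' := by
    rintro a b ⟨v, hv⟩ ⟨v', hv'⟩
    exact ⟨v + v', by rw [LinearMap.add_comp, hv, hv', add_smul]⟩
  zero_mem' := ⟨0, by simp⟩
  smul_mem' := by
    rintro c a ⟨v, hv⟩
    exact ⟨c • v, by rw [LinearMap.smul_comp, hv, smul_eq_mul, mul_smul]⟩

lemma LI_of_leftInverse (S : Submonoid A) (u : M →ₗ[A] N) (w : N →ₗ[A] M)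
    (hw : w ∘ₗ u = LinearMap.id) : LI S u := by
  refine ⟨(LocalizedModule.map S w).restrictScalars A, (LI_iff S u _).mpr fun x => ?_⟩
  simp only [LinearMap.restrictScalars_apply, map_mkLinearMap]
  congr 1
  exact LinearMap.congr_fun hw x

lemma exists_leftInverse_of_forall_maximal [Module.Finite A M] [Module.Projective A N]
    (u : M →ₗ[A] N)
    (h : ∀ (m : Ideal A) [m.IsMaximal], Function.Injective (u.lTensor m.ResidueField)) :
    ∃ w : N →ₗ[A] M, w ∘ₗ u = LinearMap.id := by
  obtain ⟨F, _, _, _, _, u', q, P, _, _, j, ι, ρ, hq, hρ, hj⟩ := exists_finite_free_factor u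
  have : Module.FinitePresentation A F := Module.finitePresentation_of_projective A F
  have htop : factorIdeal u' = ⊤ := by
    by_contra hne
    obtain ⟨m, hm, hle⟩ := Ideal.exists_le_maximal _ hne
    have hι : Function.Injective (ι.lTensor m.ResidueField) :=
      Function.HasLeftInverse.injective ⟨ρ.lTensor m.ResidueField, fun x => by
        rw [← LinearMap.comp_apply, ← LinearMap.lTensor_comp, hρ, LinearMap.lTensor_id]; rfl⟩
    have h2 : Function.Injective ((j ∘ₗ u').lTensor m.ResidueField) := by
      rw [← hj, LinearMap.lTensor_comp]; exact hι.comp (h m)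
    rw [LinearMap.lTensor_comp] at h2
    have h1 : Function.Injective (u'.lTensor m.ResidueField) := Function.Injective.of_comp h2
    have h3 : LI m.primeCompl u' := LI_of_injective_lTensor m u' h1
    obtain ⟨v, f, hf, hv⟩ := exists_comp_eq_smul_of_LI _ u' h3
    exact hf (hle ⟨v, hv⟩)
  obtain ⟨v, hv⟩ : (1 : A) ∈ factorIdeal u' := by rw [htop]; trivial
  refine ⟨v ∘ₗ q, ?_⟩
  rw [LinearMap.comp_assoc, hq, hv, one_smul]

end PartOne

section PartTwo
variable {A : Type u} [CommRing A] {M N : Type u} [AddCommGroup M] [Module A M]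
  [AddCommGroup N] [Module A N]

lemma injective_lTensor_residueField_of_baseChange_leftInverse (u : M →ₗ[A] N)
    (A' : Type u) [CommRing A'] [Algebra A A'] [Module.FaithfullyFlat A A']
    (w : A' ⊗[A] N →ₗ[A'] A' ⊗[A] M) (hw : w ∘ₗ u.baseChange A' = LinearMap.id)
    (m : Ideal A) [m.IsMaximal] :
    Function.Injective (u.lTensor m.ResidueField) := by
  obtain ⟨P, hP, hPm⟩ := Ideal.exists_isPrime_liesOver_of_faithfullyFlat (B := A') m
  have h1 : Function.Injective ((u.baseChange A').lTensor P.ResidueField) :=
    Function.HasLeftInverse.injective ⟨w.lTensor P.ResidueField, fun x => by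
      rw [← LinearMap.comp_apply, ← LinearMap.lTensor_comp, hw, LinearMap.lTensor_id]; rfl⟩
  have h2 : Function.Injective (u.lTensor P.ResidueField) :=
    (injective_lTensor_baseChange_iff A' P.ResidueField u).mp h1
  have hmem : ∀ a : A, algebraMap A P.ResidueField a = 0 ↔ a ∈ m := by
    intro a
    rw [IsScalarTower.algebraMap_apply A A' P.ResidueField, Ideal.algebraMap_residueField_eq_zero,
      hPm.over, Ideal.mem_comap]
  let φ : m.ResidueField →+* P.ResidueField :=
    Ideal.ResidueField.lift m (algebraMap A P.ResidueField)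
      (fun a ha => (hmem a).mpr ha)
      (fun a ha => by
        simp only [Submonoid.mem_comap, IsUnit.mem_submonoid_iff]
        exact IsUnit.mk0 _ (fun h0 => ha ((hmem a).mp h0)))
  let _ : Algebra m.ResidueField P.ResidueField := φ.toAlgebra
  have : IsScalarTower A m.ResidueField P.ResidueField := .of_algebraMap_eq' (by
    ext a
    rw [RingHom.algebraMap_toAlgebra, RingHom.comp_apply]
    exact (Ideal.ResidueField.lift_algebraMap m (algebraMap A P.ResidueField) _ _ a).symm)
  have h3 := (injective_lTensor_baseChange_iff m.ResidueField P.ResidueField u).mpr h2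
  exact (Module.FaithfullyFlat.lTensor_injective_iff_injective m.ResidueField P.ResidueField _).mp h3

end PartTwo
-- HELPERS END


open TensorProduct in
/-- Let A be a ring, M an A-module of finite type, N a projective A-module and u : M → N a homomorphism.
(i) u is left invertible if and only if u_𝔪 : M_𝔪 → N_𝔪 is left invertible for every maximal ideal 𝔪
of A. (ii) If A' is an A-algebra which is a faithfully flat A-module, u is left invertible if and
only if u ⊗ 1 : M ⊗_A A' → N ⊗_A A' is left invertible (as an A'-linear map). -/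
theorem result {A : Type u} [CommRing A] {M N : Type u} [AddCommGroup M] [Module A M]
    [Module.Finite A M] [AddCommGroup N] [Module A N] [Module.Projective A N] (u : M →ₗ[A] N) :
    ((∃ w : N →ₗ[A] M, w ∘ₗ u = LinearMap.id) ↔
      ∀ (m : Ideal A) [m.IsMaximal],
        ∃ w : LocalizedModule m.primeCompl N →ₗ[A] LocalizedModule m.primeCompl M,
          w ∘ₗ LocalizedModule.map m.primeCompl u = LinearMap.id) ∧
    ∀ (A' : Type u) [CommRing A'] [Algebra A A'] [Module.FaithfullyFlat A A'],
      (∃ w : N →ₗ[A] M, w ∘ₗ u = LinearMap.id) ↔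
        ∃ w : A' ⊗[A] N →ₗ[A'] A' ⊗[A] M, w ∘ₗ u.baseChange A' = LinearMap.id := by
  have hmax : (∀ (m : Ideal A) [m.IsMaximal], LI m.primeCompl u) →
      ∃ w : N →ₗ[A] M, w ∘ₗ u = LinearMap.id := fun h =>
    exists_leftInverse_of_forall_maximal u fun m _ => injective_lTensor_of_LI m u (h m)
  refine ⟨⟨fun ⟨w, hw⟩ m _ => LI_of_leftInverse _ u w hw, hmax⟩, ?_⟩
  intro A' _ _ _
  constructor
  · rintro ⟨w, hw⟩
    refine ⟨w.baseChange A', ?_⟩
    rw [← LinearMap.baseChange_comp, hw, LinearMap.baseChange_id]
  · rintro ⟨w, hw⟩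
    exact exists_leftInverse_of_forall_maximal u fun m _ =>
      injective_lTensor_residueField_of_baseChange_leftInverse u A' w hw m

end Groth.Agent.S4531
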