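import Groth.Statements.S4535
-- import your own Groth.Agent.* helpers here

set_option autoImplicit false
universe u
open EGA41

namespace Groth.Agent.S4535

open TensorProduct in
/-- Let B (𝔟-adic) be formally smooth over A (𝔞-adic) and let A' (𝔞'-adic) be a topological A-algebra (a
power of 𝔞 maps into 𝔞'). Then the A'-algebra A' ⊗_A B, with the tensor product topology, i.e. the
adic topology of the ideal generated by the images of 𝔞' and 𝔟, is formally smooth over A'. -/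
theorem result {A B A' : Type u} [CommRing A] [CommRing B] [CommRing A'] [Algebra A B] [Algebra A A']
    (𝔞 : Ideal A) (𝔟 : Ideal B) (𝔞' : Ideal A') (hAA' : ∃ k : ℕ, (𝔞 ^ k).map (algebraMap A A') ≤ 𝔞')
    (hB : EGA41.IsFormallySmoothAdic A 𝔞 B 𝔟) :
    EGA41.IsFormallySmoothAdic A' 𝔞' (A' ⊗[A] B)
      (𝔞'.map (algebraMap A' (A' ⊗[A] B)) ⊔
        𝔟.map (Algebra.TensorProduct.includeRight : B →ₐ[A] A' ⊗[A] B).toRingHom) := by
  intro D _ _ J hJ hD u hu
  obtain ⟨k₁, hk₁⟩ := hAA'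
  obtain ⟨k₂, hk₂⟩ := hD
  obtain ⟨k, hk⟩ := hu
  let algAD : Algebra A D := ((algebraMap A' D).comp (algebraMap A A')).toAlgebra
  have : IsScalarTower A A' D := IsScalarTower.of_algebraMap_eq (fun _ => rfl)
  let u₀ : B →ₐ[A] D ⧸ J := (AlgHom.liftEquiv A A' B (D ⧸ J)).symm u
  have hu₀ : ∀ x ∈ 𝔟 ^ k, u₀ x = 0 := by
    intro x hx
    change u ((Algebra.TensorProduct.includeRight : B →ₐ[A] A' ⊗[A] B).toRingHom x) = 0
    apply hk
    have h1 := Ideal.mem_map_of_mem
      (Algebra.TensorProduct.includeRight : B →ₐ[A] A' ⊗[A] B).toRingHom hx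
    rw [Ideal.map_pow] at h1
    exact Ideal.pow_right_mono le_sup_right k h1
  have hAD : ((𝔞 ^ (k₁ * k₂)).map (algebraMap A D)) = ⊥ := by
    rw [eq_bot_iff, ← hk₂, pow_mul, IsScalarTower.algebraMap_eq A A' D,
      ← Ideal.map_map, Ideal.map_pow (algebraMap A A'), Ideal.map_pow (algebraMap A' D),
      Ideal.map_pow (algebraMap A' D)]
    exact Ideal.pow_right_mono (Ideal.map_mono hk₁) k₂
  obtain ⟨v₀, hv₀⟩ := hB D J hJ ⟨k₁ * k₂, hAD⟩ u₀ ⟨k, hu₀⟩
  refine ⟨AlgHom.liftEquiv A A' B D v₀, ?_⟩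
  apply Algebra.TensorProduct.ext_ring
  ext b
  have := congrArg (fun f : B →ₐ[A] D ⧸ J => f b) hv₀
  simpa [u₀] using this

end Groth.Agent.S4535
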