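import Groth.Statements.S4536
-- import your own Groth.Agent.* helpers here

set_option autoImplicit false
universe u
open EGA41

namespace Groth.Agent.S4536

/-- Let A carry the 𝔞-adic and B the 𝔟-adic topology, A → B being continuous (a power of 𝔞 maps into 𝔟).
Then B is formally smooth over A if and only if for every n the (A/𝔞ⁿ)-algebra B/𝔞ⁿB, with the adic
topology of the image of 𝔟, is formally smooth over the discrete ring A/𝔞ⁿ. -/
theorem result {A B : Type u} [CommRing A] [CommRing B] [Algebra A B]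
    (𝔞 : Ideal A) (𝔟 : Ideal B) (hAB : ∃ k : ℕ, (𝔞 ^ k).map (algebraMap A B) ≤ 𝔟) :
    EGA41.IsFormallySmoothAdic A 𝔞 B 𝔟 ↔
      ∀ n : ℕ, EGA41.IsFormallySmoothAdic (A ⧸ 𝔞 ^ n) ⊥ (B ⧸ (𝔞 ^ n).map (algebraMap A B))
        (𝔟.map (Ideal.Quotient.mk ((𝔞 ^ n).map (algebraMap A B)))) := by
  constructor
  · intro h n D _ _ J hJ _ u hu
    obtain ⟨k, hk⟩ := hu
    let algAD : Algebra A D := ((algebraMap (A ⧸ 𝔞 ^ n) D).comp (algebraMap A (A ⧸ 𝔞 ^ n))).toAlgebra
    have : IsScalarTower A (A ⧸ 𝔞 ^ n) D := IsScalarTower.of_algebraMap_eq (fun _ => rfl)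
    have hAD : (𝔞 ^ n).map (algebraMap A D) = ⊥ := by
      rw [eq_bot_iff, Ideal.map_le_iff_le_comap]
      intro x hx
      rw [Ideal.mem_comap, Ideal.mem_bot, IsScalarTower.algebraMap_apply A (A ⧸ 𝔞 ^ n) D,
        Ideal.Quotient.algebraMap_eq, Ideal.Quotient.eq_zero_iff_mem.mpr hx, map_zero]
    let u₀ : B →ₐ[A] D ⧸ J :=
      (u.restrictScalars A).comp (Ideal.Quotient.mkₐ A ((𝔞 ^ n).map (algebraMap A B)))
    have hu₀ : ∀ x ∈ 𝔟 ^ k, u₀ x = 0 := by
      intro x hx
      change u (Ideal.Quotient.mk _ x) = 0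
      apply hk
      rw [← Ideal.map_pow]
      exact Ideal.mem_map_of_mem _ hx
    obtain ⟨v₀, hv₀⟩ := h D J hJ ⟨n, hAD⟩ u₀ ⟨k, hu₀⟩
    have hv₀kill : ∀ a ∈ (𝔞 ^ n).map (algebraMap A B), v₀ a = 0 := by
      intro a ha
      have hle : (𝔞 ^ n).map (algebraMap A B) ≤ RingHom.ker v₀.toRingHom := by
        rw [Ideal.map_le_iff_le_comap]
        intro x hx
        rw [Ideal.mem_comap, RingHom.mem_ker]
        change v₀ (algebraMap A B x) = 0
        rw [v₀.commutes]
        have := Ideal.mem_map_of_mem (algebraMap A D) hx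
        rwa [hAD, Ideal.mem_bot] at this
      exact hle ha
    let v₁ : (B ⧸ (𝔞 ^ n).map (algebraMap A B)) →ₐ[A] D := Ideal.Quotient.liftₐ _ v₀ hv₀kill
    refine ⟨{ v₁.toRingHom with
        commutes' := fun r => by
          obtain ⟨a, rfl⟩ := Ideal.Quotient.mk_surjective r
          change v₁ (Ideal.Quotient.mk _ (algebraMap A B a)) = algebraMap (A ⧸ 𝔞 ^ n) D _
          change v₀ (algebraMap A B a) = _
          rw [v₀.commutes]
          rfl }, ?_⟩
    ext x
    obtain ⟨b, rfl⟩ := Ideal.Quotient.mk_surjective x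
    have := congrArg (fun f : B →ₐ[A] D ⧸ J => f b) hv₀
    exact this
  · intro h D _ _ J hJ hD u hu
    obtain ⟨n, hn⟩ := hD
    obtain ⟨k, hk⟩ := hu
    have hkill : ∀ a ∈ 𝔞 ^ n, algebraMap A D a = 0 := by
      intro a ha
      have := Ideal.mem_map_of_mem (algebraMap A D) ha
      rwa [hn, Ideal.mem_bot] at this
    let algD : Algebra (A ⧸ 𝔞 ^ n) D := (Ideal.Quotient.lift (𝔞 ^ n) (algebraMap A D) hkill).toAlgebra
    have : IsScalarTower A (A ⧸ 𝔞 ^ n) D := IsScalarTower.of_algebraMap_eq (fun _ => rfl)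
    have hukill : ∀ x ∈ (𝔞 ^ n).map (algebraMap A B), u.toRingHom x = 0 := by
      intro x hx
      have hle : (𝔞 ^ n).map (algebraMap A B) ≤ RingHom.ker u.toRingHom := by
        rw [Ideal.map_le_iff_le_comap]
        intro a ha
        rw [Ideal.mem_comap, RingHom.mem_ker]
        change u (algebraMap A B a) = 0
        rw [u.commutes, IsScalarTower.algebraMap_apply A D (D ⧸ J), hkill a ha, map_zero]
      exact hle hx
    let u' : (B ⧸ (𝔞 ^ n).map (algebraMap A B)) →ₐ[A ⧸ 𝔞 ^ n] D ⧸ J :=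
      { Ideal.Quotient.lift _ u.toRingHom hukill with
        commutes' := fun r => by
          obtain ⟨a, rfl⟩ := Ideal.Quotient.mk_surjective r
          change u (algebraMap A B a) = _
          rw [u.commutes]
          rfl }
    have hu' : ∀ x ∈ (𝔟.map (Ideal.Quotient.mk ((𝔞 ^ n).map (algebraMap A B)))) ^ k, u' x = 0 := by
      intro x hx
      have hle : (𝔟.map (Ideal.Quotient.mk ((𝔞 ^ n).map (algebraMap A B)))) ^ k ≤
          RingHom.ker u'.toRingHom := by
        rw [← Ideal.map_pow, Ideal.map_le_iff_le_comap]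
        intro b hb
        rw [Ideal.mem_comap, RingHom.mem_ker]
        exact hk b hb
      exact hle hx
    obtain ⟨v', hv'⟩ := h n D J hJ ⟨1, by rw [pow_one, Ideal.map_bot]⟩ u' ⟨k, hu'⟩
    refine ⟨(v'.restrictScalars A).comp (Ideal.Quotient.mkₐ A ((𝔞 ^ n).map (algebraMap A B))), ?_⟩
    ext b
    have := congrArg
      (fun f : (B ⧸ (𝔞 ^ n).map (algebraMap A B)) →ₐ[A ⧸ 𝔞 ^ n] D ⧸ J => f (Ideal.Quotient.mk _ b)) hv'
    exact this

end Groth.Agent.S4536
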