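import Groth.Statements.S4539
import Mathlib
import Groth.Agent.S2451
import Groth.Agent.Lib.Helper81.FieldSmooth
import Groth.Agent.Lib.Helper81.CohenRing

set_option autoImplicit false
universe u
open EGA41

namespace Groth.Agent.S4539
open IsLocalRing Groth.Agent.Lib.Helper81 in
theorem aux_forward (p : ℕ) [hp : (Ideal.span {(p : ℤ)}).IsPrime]
    {A : Type} [CommRing A] [IsLocalRing A] [CharP (ResidueField A) p]
    [Algebra (Localization.AtPrime (Ideal.span {(p : ℤ)})) A]
    [IsLocalHom (algebraMap (Localization.AtPrime (Ideal.span {(p : ℤ)})) A)]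
    (hmapA : (maximalIdeal (Localization.AtPrime (Ideal.span {(p : ℤ)}))).map
      (algebraMap (Localization.AtPrime (Ideal.span {(p : ℤ)})) A) = Ideal.span {(p : A)})
    (h : EGA41.IsCohenAlgebra (Localization.AtPrime (Ideal.span {(p : ℤ)})) A) :
    EGA41.IsCohenRingEGA A := by
  obtain ⟨hPn, hAn, hcomp, hflat, hmap, hgr⟩ := h
  rw [hmapA] at hmap
  rcases Nat.eq_zero_or_pos p with h0 | hpos
  · left
    have hm : maximalIdeal A = ⊥ := by rw [← hmap, h0]; simp
    refine ⟨isField_iff_maximalIdeal_eq.mpr hm, ?_⟩
    haveI : CharP (ResidueField A) 0 := h0 ▸ ‹CharP (ResidueField A) p›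
    haveI : CharZero (ResidueField A) := CharP.charP_to_charZero _
    exact RingHom.charZero (residue A)
  · right
    have hp0 : (p : ℤ) ≠ 0 := by exact_mod_cast hpos.ne'
    have hpprime : p.Prime :=
      Nat.prime_iff_prime_int.mpr ((Ideal.span_singleton_prime hp0).mp hp)
    have hle : (Ideal.span {(p : ℤ)}).primeCompl ≤ nonZeroDivisors ℤ :=
      le_nonZeroDivisors_of_noZeroDivisors (fun h => h (Ideal.zero_mem _))
    have hinj := IsLocalization.injective (Localization.AtPrime (Ideal.span {(p : ℤ)})) hle
    have hpP : (p : Localization.AtPrime (Ideal.span {(p : ℤ)})) ≠ 0 := by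
      intro h
      apply hp0
      apply hinj
      rw [map_zero, map_natCast]
      exact h
    have hreg0 : IsSMulRegular A (p : Localization.AtPrime (Ideal.span {(p : ℤ)})) :=
      Module.Flat.isSMulRegular_of_nonZeroDivisors (mem_nonZeroDivisors_of_ne_zero hpP)
    have hreg : IsSMulRegular A (p : A) := by
      intro x y hxy
      apply hreg0
      simpa [Algebra.smul_def] using hxy
    haveI : IsHausdorff (maximalIdeal A) A := hcomp.toIsHausdorff
    obtain ⟨hd, hdvr⟩ := CohenRing.isDomain_and_dvr_of_principal (p : A) hmap.symm hreg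
    exact ⟨hd, hdvr, hcomp, p, hpprime, hmap.symm⟩


open IsLocalRing in
theorem aux_map (p : ℕ) [hp : (Ideal.span {(p : ℤ)}).IsPrime]
    {A : Type} [CommRing A]
    [Algebra (Localization.AtPrime (Ideal.span {(p : ℤ)})) A] :
    (maximalIdeal (Localization.AtPrime (Ideal.span {(p : ℤ)}))).map
      (algebraMap (Localization.AtPrime (Ideal.span {(p : ℤ)})) A) = Ideal.span {(p : A)} := by
  rw [← Localization.AtPrime.map_eq_maximalIdeal, Ideal.map_map, Ideal.map_span,
    Set.image_singleton]
  congr 2
  simp

open IsLocalRing Groth.Agent.Lib.Helper81 in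
theorem aux_common (p : ℕ) [hp : (Ideal.span {(p : ℤ)}).IsPrime]
    {A : Type} [CommRing A] [IsLocalRing A] [CharP (ResidueField A) p]
    [Algebra (Localization.AtPrime (Ideal.span {(p : ℤ)})) A]
    [IsLocalHom (algebraMap (Localization.AtPrime (Ideal.span {(p : ℤ)})) A)]
    [IsDomain A] [CharZero A] [IsNoetherianRing A] (hcomp : IsAdicComplete (maximalIdeal A) A)
    (hm : maximalIdeal A = Ideal.span {(p : A)}) :
    EGA41.IsCohenAlgebra (Localization.AtPrime (Ideal.span {(p : ℤ)})) A := by
  have hflatZ : Module.Flat ℤ A := inferInstance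
  haveI := IsScalarTower.of_algebraMap_eq' (R := ℤ)
    (S := Localization.AtPrime (Ideal.span {(p : ℤ)})) (A := A) (RingHom.ext_int _ _)
  have hflat : Module.Flat (Localization.AtPrime (Ideal.span {(p : ℤ)})) A :=
    (Module.flat_iff_of_isLocalization (Localization.AtPrime (Ideal.span {(p : ℤ)}))
      (Ideal.span {(p : ℤ)}).primeCompl A).mpr hflatZ
  refine ⟨inferInstance, inferInstance, hcomp, hflat, (aux_map p).trans hm.symm, ?_⟩
  have hinj : Function.Injective (algebraMap
      (ResidueField (Localization.AtPrime (Ideal.span {(p : ℤ)}))) (ResidueField A)) :=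
    RingHom.injective _
  suffices hs : Algebra.FormallySmooth
      (ResidueField (Localization.AtPrime (Ideal.span {(p : ℤ)}))) (ResidueField A) from
    Groth.Agent.S2451.result.mp hs
  rcases Nat.eq_zero_or_pos p with h0 | hpos
  · haveI : CharP (ResidueField A) 0 := h0 ▸ ‹CharP (ResidueField A) p›
    haveI : CharZero (ResidueField A) := CharP.charP_to_charZero _
    haveI : CharZero (ResidueField (Localization.AtPrime (Ideal.span {(p : ℤ)}))) :=
      RingHom.charZero (algebraMap _ (ResidueField A))
    exact FieldSmooth.formallySmooth_of_charZero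
  · have hp0 : (p : ℤ) ≠ 0 := by exact_mod_cast hpos.ne'
    have hpprime : p.Prime :=
      Nat.prime_iff_prime_int.mpr ((Ideal.span_singleton_prime hp0).mp hp)
    haveI : Fact p.Prime := ⟨hpprime⟩
    haveI : CharP (ResidueField (Localization.AtPrime (Ideal.span {(p : ℤ)}))) p :=
      RingHom.charP _ hinj p
    haveI hmax : (Ideal.span {(p : ℤ)}).IsMaximal :=
      IsPrime.to_maximal_ideal (by simpa using hp0)
    haveI : Finite (ℤ ⧸ Ideal.span {(p : ℤ)}) :=
      Finite.of_equiv _ (Int.quotientSpanNatEquivZMod p).symm.toEquiv
    haveI : Finite (ResidueField (Localization.AtPrime (Ideal.span {(p : ℤ)}))) :=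
      Finite.of_equiv _ (IsLocalization.AtPrime.equivQuotMaximalIdeal (Ideal.span {(p : ℤ)})
        (Localization.AtPrime (Ideal.span {(p : ℤ)}))).toEquiv
    haveI : PerfectRing (ResidueField (Localization.AtPrime (Ideal.span {(p : ℤ)}))) p :=
      PerfectRing.ofFiniteOfIsReduced p _
    exact FieldSmooth.formallySmooth_of_perfectRing p


open IsLocalRing in
/-- Let A be a local ring with residue characteristic p (p = 0 or a prime), P the prime local ring ℤ_(p)
(ℚ if p = 0) and P → A its unique local homomorphism. Then A is a Cohen ring, i.e. a Cohen P-algebra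
— Noetherian and complete, flat over P, with pA its maximal ideal (and residue field separable over
the prime field) — if and only if A is a field of characteristic 0 or a complete discrete valuation
ring of residue characteristic > 0 whose maximal ideal is generated by p·1. -/
theorem result (p : ℕ) [hp : (Ideal.span {(p : ℤ)}).IsPrime]
    {A : Type} [CommRing A] [IsLocalRing A] [CharP (ResidueField A) p]
    [Algebra (Localization.AtPrime (Ideal.span {(p : ℤ)})) A]
    [IsLocalHom (algebraMap (Localization.AtPrime (Ideal.span {(p : ℤ)})) A)] :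
    EGA41.IsCohenAlgebra (Localization.AtPrime (Ideal.span {(p : ℤ)})) A ↔ EGA41.IsCohenRingEGA A := by
  constructor
  · exact aux_forward p (aux_map p)
  · rintro (⟨hf, hc⟩ | ⟨hd, hdvr, hcomp, q, hq, hmq⟩)
    · haveI := hc
      have hm : maximalIdeal A = ⊥ := isField_iff_maximalIdeal_eq.mp hf
      have hrinj : Function.Injective (residue A) := by
        rw [RingHom.injective_iff_ker_eq_bot, IsLocalRing.ker_residue]
        exact hm
      haveI : CharZero (ResidueField A) := charZero_of_injective_ringHom hrinj
      have hp0 : p = 0 := CharP.eq (ResidueField A) ‹CharP (ResidueField A) p› (CharP.ofCharZero _)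
      haveI : IsDomain A := hf.isDomain
      haveI : IsNoetherianRing A := by
        letI := hf.toField
        exact inferInstance
      refine aux_common p ?_ ?_
      · rw [hm]; infer_instance
      · rw [hm, hp0]; simp
    · have hqm : (q : A) ∈ maximalIdeal A := by
        rw [hmq]; exact Ideal.subset_span rfl
      have hq0 : ((q : ℕ) : ResidueField A) = 0 := by
        have : residue A (q : A) = 0 := (residue_eq_zero_iff _).mpr hqm
        simpa using this
      have hdvd : p ∣ q := (CharP.cast_eq_zero_iff (ResidueField A) p q).mp hq0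
      have hp1 : p ≠ 1 := CharP.char_ne_one (ResidueField A) p
      have hpq : p = q := ((Nat.Prime.eq_one_or_self_of_dvd hq p hdvd).resolve_left hp1)
      have hmp : maximalIdeal A = Ideal.span {(p : A)} := by rw [hpq]; exact hmq
      haveI : CharZero A := by
        obtain ⟨ℓ, hℓ⟩ := CharP.exists A
        rcases CharP.char_is_prime_or_zero A ℓ with hl | hl
        · exfalso
          have h1 : ((ℓ : ℕ) : A) = 0 := CharP.cast_eq_zero A ℓ
          have h2 : ((ℓ : ℕ) : ResidueField A) = 0 := by
            rw [← map_natCast (residue A), h1, map_zero]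
          have h3 : p ∣ ℓ := (CharP.cast_eq_zero_iff (ResidueField A) p ℓ).mp h2
          have h4 : p = ℓ := ((Nat.Prime.eq_one_or_self_of_dvd hl p h3).resolve_left hp1)
          apply IsDiscreteValuationRing.not_a_field A
          rw [hmp, h4, h1]
          simp
        · subst hl
          exact CharP.charP_to_charZero A
      exact aux_common p hcomp hmp

end Groth.Agent.S4539
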