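import Groth.Statements.S4540
import Groth.Agent.S4544
import Groth.Agent.Lib.Helper21.FreeOfNilpotent

set_option autoImplicit false
universe u
open EGA41

namespace Groth.Agent.S4540

open Groth.Agent.Lib.Helper21

open IsLocalRing TensorProduct in
/-- Let A, B be Noetherian local rings and A → B a local homomorphism making B a formally smooth
A-algebra for the adic topologies of the maximal ideals. Then for every ideal of definition 𝔟 of B,
the (B/𝔟)-module Ω_{B/A} ⊗_B (B/𝔟) is free. -/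
theorem result {A B : Type u} [CommRing A] [IsLocalRing A]
    [IsNoetherianRing A] [CommRing B] [IsLocalRing B] [IsNoetherianRing B] [Algebra A B] [IsLocalHom (algebraMap A B)]
    (h : EGA41.IsFormallySmoothAdic A (maximalIdeal A) B (maximalIdeal B))
    (𝔟 : Ideal B) (hle : 𝔟 ≤ maximalIdeal B) (hpow : ∃ k : ℕ, maximalIdeal B ^ k ≤ 𝔟) :
    Module.Free (B ⧸ 𝔟) ((B ⧸ 𝔟) ⊗[B] Ω[B⁄A]) := by
  obtain ⟨k, hk⟩ := hpow
  have hAB : ∃ k : ℕ, ((maximalIdeal A) ^ k).map (algebraMap A B) ≤ maximalIdeal B := by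
    refine ⟨1, ?_⟩
    rw [pow_one]
    exact IsLocalRing.map_maximalIdeal_le (algebraMap A B)
  haveI : Module.Projective (B ⧸ 𝔟) ((B ⧸ 𝔟) ⊗[B] Ω[B⁄A]) :=
    Groth.Agent.S4544.result (maximalIdeal A) (maximalIdeal B) hAB h 𝔟 ⟨k, hk⟩
  let I : Ideal (B ⧸ 𝔟) := (maximalIdeal B).map (Ideal.Quotient.mk 𝔟)
  haveI hmax : I.IsMaximal := by
    apply Ideal.IsMaximal.map_of_surjective_of_ker_le Ideal.Quotient.mk_surjective
    rw [Ideal.mk_ker]
    exact hle
  have hI : IsNilpotent I := by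
    refine ⟨k, ?_⟩
    rw [← Ideal.map_pow, Ideal.zero_eq_bot, Ideal.map_eq_bot_iff_le_ker, Ideal.mk_ker]
    exact hk
  letI : Field ((B ⧸ 𝔟) ⧸ I) := Ideal.Quotient.field I
  haveI : Module.Free ((B ⧸ 𝔟) ⧸ I)
      (((B ⧸ 𝔟) ⊗[B] Ω[B⁄A]) ⧸ (I • ⊤ : Submodule (B ⧸ 𝔟) ((B ⧸ 𝔟) ⊗[B] Ω[B⁄A]))) :=
    Module.Free.of_divisionRing _ _
  exact free_of_projective_of_isNilpotent I hI

end Groth.Agent.S4540
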