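import Groth.Statements.S4545
-- import your own Groth.Agent.* helpers here
import Mathlib
import Groth.Agent.S2475
import Groth.Agent.Lib.Helper81.PBasisField
import Groth.Agent.Lib.Helper81.PBasisKaehler
import Groth.Agent.Lib.Helper89.AdmSub

set_option autoImplicit false
universe u
open EGA41

namespace Groth.Agent.S4545

open Groth.Agent.Lib.Helper81.PBasis Groth.Agent.Lib.Helper81.PBasisEGA Groth.Agent.Lib.Helper81.PBasisField Groth.Agent.Lib.Helper89
open TensorProduct in
/-- Let K be a field of characteristic p > 0, k₀ a subfield and (k_α) a decreasing filtered family of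
subfields of K containing k₀. Then ⋂_α k_α(K^p) = k₀(K^p) if and only if for every extension L of K
such that Υ_{L/K/k₀} has finite rank over L there is an α with k_α admissible for L over K relative
to k₀, i.e. with Υ_{L/K/k₀} → Υ_{L/K/k_α} injective. (The published statement has two further
equivalent conditions; this row states (a) ⇔ (b).) -/
theorem result (p : ℕ) [Fact p.Prime] {k₀ K : Type u}
    [Field k₀] [Field K] [Algebra k₀ K] [CharP K p]
    {ι : Type u} [Preorder ι] [IsDirected ι (· ≤ ·)] [Nonempty ι] (k : ι → IntermediateField k₀ K) (hk : Antitone k) :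
    (⨅ i, k i ⊔ IntermediateField.adjoin k₀ (Set.range fun y : K => y ^ p)) =
        IntermediateField.adjoin k₀ (Set.range fun y : K => y ^ p) ↔
      ∀ (L : Type u) [Field L] [Algebra K L] [Algebra k₀ L] [IsScalarTower k₀ K L],
        Module.Finite L (EGA41.imperfection k₀ K L) →
          ∃ i, ∀ ω ∈ EGA41.imperfection k₀ K L,
            ((KaehlerDifferential.map k₀ (k i) K K).restrictScalars K).baseChange L ω = 0 → ω = 0 := by
  classical
  constructor
  · intro ha L _ _ _ _ hfin
    have hsep := (Groth.Agent.S2475.result p k hk).mp ha
    have := hfin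
    exact AdmSub.exists_admissible_index (L := L)
      (fun i => (KaehlerDifferential.map k₀ (k i) K K).restrictScalars K)
      (fun i j hij v hv => AdmSub.map_eq_zero_mono (hk hij) v hv) hsep
      (EGA41.imperfection k₀ K L)
  · intro hb
    set F : IntermediateField k₀ K :=
      IntermediateField.adjoin k₀ (Set.range fun y : K => y ^ p) with hFdef
    have hF : ∀ y : K, y ^ p ∈ F := fun y => IntermediateField.subset_adjoin k₀ _ ⟨y, rfl⟩
    apply le_antisymm
    · intro x hx
      by_contra hxF
      have hmem : ∀ i, x ∈ k i ⊔ F := by
        intro i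
        have : (⨅ i, k i ⊔ F) ≤ k i ⊔ F := iInf_le _ i
        exact this hx
      have hxp : ∀ b : K, b ^ p ≠ x := fun b hb' => hxF (hb' ▸ hF b)
      have hirr : Irreducible (Polynomial.X ^ p - Polynomial.C x : Polynomial K) :=
        X_pow_sub_C_irreducible_of_prime (Fact.out) hxp
      have : Fact (Irreducible (Polynomial.X ^ p - Polynomial.C x : Polynomial K)) := ⟨hirr⟩
      obtain ⟨i, hi⟩ := hb (AdjoinRoot (Polynomial.X ^ p - Polynomial.C x : Polynomial K))
        AdmSub.finite_imperfection_of_finitePresentation
      set L := AdjoinRoot (Polynomial.X ^ p - Polynomial.C x : Polynomial K) with hL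
      have : CharP L p := charP_of_injective_algebraMap (algebraMap K L).injective p
      have hroot : algebraMap K L x = (AdjoinRoot.root _) ^ p := by
        have h1 := AdjoinRoot.mk_self (f := (Polynomial.X ^ p - Polynomial.C x : Polynomial K))
        rw [map_sub, map_pow, AdjoinRoot.mk_X, AdjoinRoot.mk_C] at h1
        exact (sub_eq_zero.mp h1).symm
      have hω : (1 : L) ⊗ₜ[K] KaehlerDifferential.D k₀ K x ∈ EGA41.imperfection k₀ K L := by
        change KaehlerDifferential.mapBaseChange k₀ K L _ = 0
        rw [KaehlerDifferential.mapBaseChange_tmul, one_smul, KaehlerDifferential.map_D, hroot,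
          Derivation.leibniz_pow, ← Nat.cast_smul_eq_nsmul L, CharP.cast_eq_zero L p, zero_smul]
      have h0 := hi _ hω (by
        rw [LinearMap.baseChange_tmul, LinearMap.restrictScalars_apply, KaehlerDifferential.map_D]
        have : KaehlerDifferential.D (k i) K (algebraMap K K x) = 0 :=
          Groth.Agent.S2475.D_eq_zero_of_mem (p := p) (k i) (hmem i)
        rw [this, TensorProduct.tmul_zero])
      obtain ⟨D, hD1, hD2⟩ := exists_derivation_of_notMem F hF hxF
      have hDk : ∀ r : k₀, D (algebraMap k₀ K r) = 0 := fun r => hD1 _ (F.algebraMap_mem r)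
      obtain ⟨φ, hφ⟩ := exists_liftKaehler (A := k₀) D hDk
      have h1 := congrArg (fun z => TensorProduct.rid K L (φ.baseChange L z)) h0
      simp only [LinearMap.baseChange_tmul, hφ, hD2, TensorProduct.rid_tmul, one_smul, map_zero]
        at h1
      exact one_ne_zero h1
    · exact le_iInf fun i => le_sup_right

end Groth.Agent.S4545
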