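import Groth.Statements.S4547
import Mathlib.RingTheory.LocalRing.Module
import Mathlib.LinearAlgebra.Basis.VectorSpace
import Mathlib.LinearAlgebra.Dimension.Free
import Mathlib.RingTheory.OrzechProperty
import Mathlib.RingTheory.Nakayama

set_option autoImplicit false
universe u
open EGA41

namespace Groth.Agent.S4547

open IsLocalRing TensorProduct

variable {A : Type u} [CommRing A] [IsLocalRing A] {M N : Type u}
    [AddCommGroup M] [Module A M] [Module.Finite A M] [AddCommGroup N] [Module A N]
    [Module.Projective A N]

/-- Part (2): a generating family whose image is linearly independent mod `𝔪` is a basis. -/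
theorem basis_of_li (u : M →ₗ[A] N) (m : ℕ) (x : Fin m → M)
    (hx : Submodule.span A (Set.range x) = ⊤)
    (hli : LinearIndependent (ResidueField A) (fun i => (1 : ResidueField A) ⊗ₜ[A] u (x i))) :
    ∃ b : Module.Basis (Fin m) A M, ∀ i, b i = x i := by
  have h1 : LinearIndependent A (u ∘ x) := by
    apply Module.IsLocalRing.linearIndependent_of_flat (R := A) (M := N)
    exact hli
  have h2 : LinearIndependent A x := h1.of_comp u
  exact ⟨Module.Basis.mk h2 hx.ge, fun i => Module.Basis.mk_apply _ _ i⟩

theorem baseChange_injective_of_li (u : M →ₗ[A] N) (m : ℕ) (x : Fin m → M)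
    (hx : Submodule.span A (Set.range x) = ⊤)
    (hli : LinearIndependent (ResidueField A) (fun i => (1 : ResidueField A) ⊗ₜ[A] u (x i))) :
    Function.Injective (u.baseChange (ResidueField A)) := by
  set U := u.baseChange (ResidueField A) with hU
  set y : Fin m → (ResidueField A) ⊗[A] M := fun i => (1 : ResidueField A) ⊗ₜ[A] x i with hy
  have hUy : (fun i => (1 : ResidueField A) ⊗ₜ[A] u (x i)) = U ∘ y := by
    funext i
    simp [hU, hy]
  rw [hUy] at hli
  have hyli : LinearIndependent (ResidueField A) y := hli.of_comp U
  have hyspan : Submodule.span (ResidueField A) (Set.range y) = ⊤ := by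
    have := Submodule.baseChange_span (R := A) (A := ResidueField A) (M := M) (Set.range x)
    rw [hx, Submodule.baseChange_top] at this
    rw [this, ← Set.range_comp]
    rfl
  let B : Module.Basis (Fin m) (ResidueField A) ((ResidueField A) ⊗[A] M) :=
    Module.Basis.mk hyli hyspan.ge
  have hB : ∀ i, B i = y i := fun i => Module.Basis.mk_apply _ _ i
  have hfact : U = (Finsupp.linearCombination (ResidueField A) (U ∘ y)) ∘ₗ
      (B.repr : _ →ₗ[ResidueField A] _) := by
    apply B.ext
    intro i
    rw [LinearMap.comp_apply, LinearEquiv.coe_coe, B.repr_self, Finsupp.linearCombination_single,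
      one_smul, Function.comp_apply, hB]
  rw [hfact, LinearMap.coe_comp]
  exact Function.Injective.comp (show Function.Injective
    (Finsupp.linearCombination (ResidueField A) (U ∘ y)) from hli) B.repr.injective

/-- Part (1), `←`. -/
theorem exists_leftInverse_of_li (u : M →ₗ[A] N) (m : ℕ) (x : Fin m → M)
    (hx : Submodule.span A (Set.range x) = ⊤)
    (hli : LinearIndependent (ResidueField A) (fun i => (1 : ResidueField A) ⊗ₜ[A] u (x i))) :
    ∃ w : N →ₗ[A] M, w ∘ₗ u = LinearMap.id := by
  have hinj := baseChange_injective_of_li u m x hx hli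
  obtain ⟨r, hr⟩ := LinearMap.exists_leftInverse_of_injective (u.baseChange (ResidueField A))
    (LinearMap.ker_eq_bot.mpr hinj)
  -- lift `r ∘ mk` through the surjection `M → k ⊗ M`
  have hsurj : Function.Surjective (TensorProduct.mk A (ResidueField A) M 1) :=
    TensorProduct.mk_surjective A M (ResidueField A) Ideal.Quotient.mk_surjective
  obtain ⟨w₀, hw₀⟩ := Module.projective_lifting_property
    (TensorProduct.mk A (ResidueField A) M 1)
    ((r.restrictScalars A) ∘ₗ (TensorProduct.mk A (ResidueField A) N 1)) hsurj
  set φ : M →ₗ[A] M := w₀ ∘ₗ u with hφ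
  have hφmk : ∀ z : M, (1 : ResidueField A) ⊗ₜ[A] φ z = (1 : ResidueField A) ⊗ₜ[A] z := by
    intro z
    have h1 := LinearMap.congr_fun hw₀ (u z)
    have h2 := LinearMap.congr_fun hr ((1 : ResidueField A) ⊗ₜ[A] z)
    simp only [LinearMap.coe_comp, Function.comp_apply, TensorProduct.mk_apply,
      LinearMap.coe_restrictScalars, LinearMap.baseChange_tmul, LinearMap.id_coe, id_eq] at h1 h2
    rw [hφ, LinearMap.comp_apply, h1, h2]
  have hφsurj : Function.Surjective φ := by
    rw [← LinearMap.range_eq_top, eq_top_iff]
    apply Submodule.le_of_le_smul_of_le_jacobson_bot (I := maximalIdeal A)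
      (Module.Finite.fg_top) (IsLocalRing.maximalIdeal_le_jacobson _)
    intro z _
    have hz : z - φ z ∈ LinearMap.ker (TensorProduct.mk A (A ⧸ maximalIdeal A) M 1) := by
      rw [LinearMap.mem_ker, map_sub]
      have := hφmk z
      simp only [TensorProduct.mk_apply]
      exact sub_eq_zero.mpr this.symm
    rw [LinearMap.ker_tensorProductMk] at hz
    have : z = φ z + (z - φ z) := by abel
    rw [this]
    exact Submodule.add_mem_sup (LinearMap.mem_range_self φ z) hz
  have hφinj : Function.Injective φ :=
    OrzechProperty.injective_of_surjective_endomorphism φ hφsurj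
  let e : M ≃ₗ[A] M := LinearEquiv.ofBijective φ ⟨hφinj, hφsurj⟩
  refine ⟨e.symm.toLinearMap ∘ₗ w₀, ?_⟩
  ext z
  simp only [LinearMap.coe_comp, LinearEquiv.coe_coe, Function.comp_apply, LinearMap.id_coe, id_eq]
  apply e.injective
  rw [LinearEquiv.apply_symm_apply]
  rfl

/-- Part (1), `→`. -/
theorem exists_li_of_leftInverse (u : M →ₗ[A] N) (w : N →ₗ[A] M) (hw : w ∘ₗ u = LinearMap.id) :
    ∃ (m : ℕ) (x : Fin m → M), Submodule.span A (Set.range x) = ⊤ ∧
      LinearIndependent (ResidueField A) (fun i => (1 : ResidueField A) ⊗ₜ[A] u (x i)) := by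
  have hproj : Module.Projective A M := Module.Projective.of_split u w hw
  have hfree : Module.Free A M := Module.free_of_flat_of_isLocalRing
  let b := Module.finBasis A M
  refine ⟨_, b, b.span_eq, ?_⟩
  have hinj : Function.Injective (u.baseChange (ResidueField A)) := by
    have : (w.baseChange (ResidueField A)) ∘ₗ (u.baseChange (ResidueField A)) = LinearMap.id := by
      rw [← LinearMap.baseChange_comp, hw, LinearMap.baseChange_id]
    exact Function.HasLeftInverse.injective ⟨_, LinearMap.congr_fun this⟩
  have hb : LinearIndependent (ResidueField A) (fun i => (1 : ResidueField A) ⊗ₜ[A] b i) := by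
    have := (b.baseChange (ResidueField A)).linearIndependent
    convert this using 1
    funext i
    simp
  have := hb.map' (u.baseChange (ResidueField A)) (LinearMap.ker_eq_bot.mpr hinj)
  have h3 : (fun i => (1 : ResidueField A) ⊗ₜ[A] u (b i)) =
      (u.baseChange (ResidueField A)) ∘ (fun i => (1 : ResidueField A) ⊗ₜ[A] b i) := by
    funext i
    simp
  rw [h3]
  exact this

end Groth.Agent.S4547

namespace Groth.Agent.S4547

open IsLocalRing TensorProduct in
/-- Let A be a local ring with residue field k, M an A-module of finite type, N a projective A-module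
and u : M → N a homomorphism. Then u is left invertible if and only if there is a finite system of
generators (x_i) of M such that the elements 1 ⊗ u(x_i) of k ⊗_A N are linearly independent over k;
and such a system (x_i) is then a basis of M. -/
theorem result {A : Type u} [CommRing A] [IsLocalRing A] {M N : Type u}
    [AddCommGroup M] [Module A M] [Module.Finite A M] [AddCommGroup N] [Module A N] [Module.Projective A N]
    (u : M →ₗ[A] N) :
    ((∃ w : N →ₗ[A] M, w ∘ₗ u = LinearMap.id) ↔
      ∃ (m : ℕ) (x : Fin m → M), Submodule.span A (Set.range x) = ⊤ ∧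
        LinearIndependent (ResidueField A) (fun i => (1 : ResidueField A) ⊗ₜ[A] u (x i))) ∧
    ∀ (m : ℕ) (x : Fin m → M), Submodule.span A (Set.range x) = ⊤ →
      LinearIndependent (ResidueField A) (fun i => (1 : ResidueField A) ⊗ₜ[A] u (x i)) →
        ∃ b : Module.Basis (Fin m) A M, ∀ i, b i = x i := by
  refine ⟨⟨?_, ?_⟩, ?_⟩
  · rintro ⟨w, hw⟩
    exact exists_li_of_leftInverse u w hw
  · rintro ⟨m, x, hx, hli⟩
    exact exists_leftInverse_of_li u m x hx hli
  · intro m x hx hli
    exact basis_of_li u m x hx hli

end Groth.Agent.S4547
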