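import Groth.Statements.S4549
-- import your own Groth.Agent.* helpers here
import Mathlib
import Groth.Agent.S2468
import Groth.Agent.Lib.Helper81.PBasisField
import Groth.Agent.Lib.Helper89.AdmSub

set_option autoImplicit false
universe u
open EGA41

namespace Groth.Agent.S4549

open Groth.Agent.Lib.Helper81.PBasis Groth.Agent.Lib.Helper81.PBasisEGA Groth.Agent.Lib.Helper81.PBasisField Groth.Agent.Lib.Helper89
open TensorProduct in
/-- Let K be a field of characteristic p, k₀ a subfield and L an extension of K such that Υ_{L/K/k₀} has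
finite rank over L. Then there is a subfield k of K containing k₀(K^p), with [K : k] finite, which
is k₀-admissible for the extension L of K, i.e. such that Υ_{L/K/k₀} → Υ_{L/K/k} is injective. (The
published statement uses the characteristic exponent and so also covers characteristic 0, where k =
K works; this row treats characteristic p > 0.) -/
theorem result (p : ℕ) [Fact p.Prime] {k₀ K L : Type u} [Field k₀] [Field K] [Field L]
    [Algebra k₀ K] [Algebra K L] [Algebra k₀ L] [IsScalarTower k₀ K L] [CharP K p]
    [Module.Finite L (EGA41.imperfection k₀ K L)] :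
    ∃ k : IntermediateField k₀ K, (∀ y : K, y ^ p ∈ k) ∧ Module.Finite k K ∧
      ∀ ω ∈ EGA41.imperfection k₀ K L,
        ((KaehlerDifferential.map k₀ k K K).restrictScalars K).baseChange L ω = 0 → ω = 0 := by
  classical
  -- Step 1: a basis of Ω[K/k₀] consisting of differentials
  obtain ⟨b, hb_sub, hb_span, hb_li⟩ :=
    exists_linearIndependent K (Set.range (KaehlerDifferential.D k₀ K))
  have hspan : Submodule.span K (Set.range (Subtype.val : b → Ω[K⁄k₀])) = ⊤ := by
    rw [Subtype.range_coe, hb_span, KaehlerDifferential.span_range_derivation]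
  let bas : Module.Basis b K (Ω[K⁄k₀]) := Module.Basis.mk hb_li hspan.ge
  have hbas : ∀ i : b, bas i = i.1 := fun i => by simp [bas]
  choose x hx using fun i : b => hb_sub i.2
  -- Step 2: the family is p-generating
  have hgen : EGA41.IsPGenerating p k₀ x := ((Groth.Agent.S2468.result p x).2.1).mpr (by
    have : (fun i : b => KaehlerDifferential.D k₀ K (x i)) = Subtype.val := funext hx
    rw [this]; exact hspan)
  have hadj : Algebra.adjoin (EGA41.pPowerSubalgebra p k₀ K) (Set.range x) = ⊤ :=
    (isPGenerating_iff_adjoin x).mp hgen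
  -- Step 3: the finite set J of indices supporting Υ
  let BL : Module.Basis b L (L ⊗[K] Ω[K⁄k₀]) := bas.baseChange L
  have hBL : ∀ i : b, BL i = (1 : L) ⊗ₜ[K] KaehlerDifferential.D k₀ K (x i) := fun i => by
    rw [Module.Basis.baseChange_apply, hbas, hx]
  obtain ⟨G, hG⟩ := (Module.Finite.iff_fg.mp
    ‹Module.Finite L ↥(EGA41.imperfection k₀ K L)›)
  let J : Finset b := G.biUnion fun g => (BL.repr g).support
  have hJ : ∀ ω ∈ EGA41.imperfection k₀ K L, ((BL.repr ω).support : Set b) ⊆ (J : Set b) := by
    intro ω hω
    rw [← Module.Basis.mem_span_image]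
    rw [← hG] at hω
    refine Submodule.span_le.mpr ?_ hω
    intro g hg
    rw [SetLike.mem_coe, Module.Basis.mem_span_image]
    intro i hi
    exact Finset.mem_coe.mpr (Finset.mem_biUnion.mpr ⟨g, hg, hi⟩)
  -- Step 4: the subfield
  let x' : {i : b // i ∉ J} → K := fun i => x i.1
  let k : IntermediateField k₀ K :=
    IntermediateField.adjoin k₀ (Set.range (fun y : K => y ^ p) ∪ Set.range x')
  have hkp : ∀ y : K, y ^ p ∈ k := fun y =>
    IntermediateField.subset_adjoin k₀ _ (Or.inl ⟨y, rfl⟩)
  refine ⟨k, hkp, ?_, ?_⟩
  · have hint : ∀ y : K, IsIntegral k y := fun y => isIntegral_of_pow_mem k hkp y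
    have hfg := fg_adjoin_of_finite (R := k) (J.finite_toSet.image x) (fun y _ => hint y)
    have htop : Algebra.adjoin k (x '' (J : Set b)) = ⊤ := by
      rw [eq_top_iff]
      intro y hytop
      clear hytop
      have hy : y ∈ Algebra.adjoin (EGA41.pPowerSubalgebra p k₀ K) (Set.range x) := by
        rw [hadj]; trivial
      induction hy using Algebra.adjoin_induction with
      | mem y hy =>
        obtain ⟨i, rfl⟩ := hy
        by_cases hi : i ∈ J
        · exact Algebra.subset_adjoin ⟨i, hi, rfl⟩
        · have : x i ∈ k := IntermediateField.subset_adjoin k₀ _ (Or.inr ⟨⟨i, hi⟩, rfl⟩)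
          exact (Algebra.adjoin k _).algebraMap_mem (⟨x i, this⟩ : k)
      | algebraMap c =>
        have : (c : K) ∈ k := pPowerSubalgebra_le_adjoin (p := p) (Set.range x') c.2
        exact (Algebra.adjoin k _).algebraMap_mem (⟨c, this⟩ : k)
      | add y z _ _ hy hz => exact add_mem hy hz
      | mul y z _ _ hy hz => exact mul_mem hy hz
    rw [htop, Algebra.top_toSubmodule] at hfg
    exact Module.finite_def.mpr hfg
  · intro ω hω h0
    have h1 := hJ ω hω
    let N : Submodule K (Ω[K⁄k₀]) :=
      Submodule.span K (Set.range fun i : {i : b // i ∉ J} => KaehlerDifferential.D k₀ K (x' i))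
    have hN : ∀ a : k, KaehlerDifferential.D k₀ K (a : K) ∈ N := by
      intro a
      exact D_mem_of_mem_adjoin (p := p) x' N (fun i => Submodule.subset_span ⟨i, rfl⟩) a
        (mem_algebraAdjoin_of_mem_adjoin (p := p) (Set.range x') a.2)
    have hmapN : ∀ η : Ω[k⁄k₀], KaehlerDifferential.map k₀ k₀ k K η ∈ N := by
      intro η
      have hη : η ∈ Submodule.span k (Set.range (KaehlerDifferential.D k₀ k)) := by
        rw [KaehlerDifferential.span_range_derivation]; trivial
      induction hη using Submodule.span_induction with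
      | mem y hy =>
        obtain ⟨a, rfl⟩ := hy
        rw [KaehlerDifferential.map_D]
        exact hN a
      | zero => rw [map_zero]; exact N.zero_mem
      | add y z _ _ hy hz => rw [map_add]; exact N.add_mem hy hz
      | smul a y _ hy =>
        rw [map_smul, ← IsScalarTower.algebraMap_smul K a]
        exact N.smul_mem _ hy
    have htm : ∀ β : L ⊗[k] Ω[k⁄k₀], ImperfTower.tm k₀ k K L β ∈ N.baseChange L := by
      intro β
      induction β using TensorProduct.induction_on with
      | zero => rw [map_zero]; exact Submodule.zero_mem _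
      | add y z hy hz => rw [map_add]; exact Submodule.add_mem _ hy hz
      | tmul c η =>
        rw [ImperfTower.tm_tmul]
        exact Submodule.tmul_mem_baseChange_of_mem c (hmapN η)
    obtain ⟨β, hβ⟩ := ImperfTower.exists_tm_eq (Λ := k₀) (A := k) (B := K) (C := L) ω h0
    have h2 : ω ∈ N.baseChange L := hβ ▸ htm β
    have h3 : N.baseChange L = Submodule.span L (BL '' {i : b | i ∉ J}) := by
      rw [Submodule.baseChange_span]
      congr 1
      ext w
      constructor
      · rintro ⟨_, ⟨i, rfl⟩, rfl⟩
        exact ⟨i.1, i.2, hBL i.1⟩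
      · rintro ⟨i, hi, rfl⟩
        exact ⟨_, ⟨⟨i, hi⟩, rfl⟩, (hBL i).symm⟩
    rw [h3, Module.Basis.mem_span_image] at h2
    have h4 : BL.repr ω = 0 := by
      rw [← Finsupp.support_eq_empty, Finset.eq_empty_iff_forall_notMem]
      intro i hi
      exact h2 hi (h1 hi)
    exact (LinearEquiv.map_eq_zero_iff _).mp h4

end Groth.Agent.S4549
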