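import Groth.Statements.S4550
-- import your own Groth.Agent.* helpers here
import Mathlib

set_option autoImplicit false
universe u
open EGA41

namespace Groth.Agent.S4550

section aux

variable {k : Type u} [Field k] {r : ℕ}

/-- power series with coefficients in a subfield, as a subring -/
def coeffSubring (L : Subfield k) : Subring (MvPowerSeries (Fin r) k) where
  carrier := {f | ∀ n, MvPowerSeries.coeff n f ∈ L}
  mul_mem' := by
    classical
    intro f g hf hg n
    rw [MvPowerSeries.coeff_mul]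
    exact Subfield.sum_mem _ fun x _ => L.mul_mem (hf _) (hg _)
  one_mem' := by
    classical
    intro n
    rw [MvPowerSeries.coeff_one]
    split_ifs
    · exact L.one_mem
    · exact L.zero_mem
  add_mem' := by
    intro f g hf hg n
    rw [map_add]
    exact L.add_mem (hf n) (hg n)
  zero_mem' := by
    intro n
    rw [map_zero]
    exact L.zero_mem
  neg_mem' := by
    intro f hf n
    rw [map_neg]
    exact L.neg_mem (hf n)

theorem mem_coeffSubring (L : Subfield k) (f : MvPowerSeries (Fin r) k) :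
    f ∈ coeffSubring (r := r) L ↔ ∀ n, MvPowerSeries.coeff n f ∈ L := Iff.rfl

/-- `F((T))` inside the fraction field -/
noncomputable def laurent (L : Subfield k) : Subfield (FractionRing (MvPowerSeries (Fin r) k)) :=
  Subfield.closure (algebraMap (MvPowerSeries (Fin r) k) (FractionRing (MvPowerSeries (Fin r) k)) ''
    {f | ∀ n, MvPowerSeries.coeff n f ∈ L})

theorem mem_laurent_iff (L : Subfield k) (x : FractionRing (MvPowerSeries (Fin r) k)) :
    x ∈ laurent (r := r) L ↔ ∃ a ∈ coeffSubring (r := r) L, ∃ b ∈ coeffSubring (r := r) L,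
      b ≠ 0 ∧ x = algebraMap _ _ a / algebraMap _ _ b := by
  have hcl : Subring.closure (algebraMap (MvPowerSeries (Fin r) k)
      (FractionRing (MvPowerSeries (Fin r) k)) '' {f | ∀ n, MvPowerSeries.coeff n f ∈ L}) =
      (coeffSubring (r := r) L).map (algebraMap _ _) := by
    have h1 : (algebraMap (MvPowerSeries (Fin r) k)
      (FractionRing (MvPowerSeries (Fin r) k)) '' {f | ∀ n, MvPowerSeries.coeff n f ∈ L}) =
      (((coeffSubring (r := r) L).map (algebraMap _ _) :
        Subring (FractionRing (MvPowerSeries (Fin r) k))) : Set _) := rfl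
    rw [h1, Subring.closure_eq]
  unfold laurent
  rw [Subfield.mem_closure_iff, hcl]
  constructor
  · rintro ⟨y, ⟨a, ha, rfl⟩, z, ⟨b, hb, rfl⟩, rfl⟩
    by_cases hb0 : b = 0
    · refine ⟨0, Subring.zero_mem _, 1, Subring.one_mem _, one_ne_zero, ?_⟩
      simp [hb0]
    · exact ⟨a, ha, b, hb, hb0, rfl⟩
  · rintro ⟨a, ha, b, hb, -, rfl⟩
    exact ⟨_, ⟨a, ha, rfl⟩, _, ⟨b, hb, rfl⟩, rfl⟩

theorem exists_retraction (L : Subfield k) :
    ∃ π : k →+ k, (∀ x, π x ∈ L) ∧ (∀ x ∈ L, π x = x) ∧ ∀ c ∈ L, ∀ x, π (c * x) = c * π x := by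
  obtain ⟨g, hg⟩ := LinearMap.exists_leftInverse_of_injective (Algebra.linearMap L k)
    (LinearMap.ker_eq_bot.mpr (algebraMap L k).injective)
  refine ⟨(L.subtype : L →+ k).comp g.toAddMonoidHom, fun x => (g x).2, fun x hx => ?_,
    fun c hc x => ?_⟩
  · have h1 := congrArg (fun f => f ⟨x, hx⟩) hg
    simp only [LinearMap.comp_apply, LinearMap.id_apply] at h1
    show ((g x : L) : k) = x
    have h2 : (Algebra.linearMap L k) ⟨x, hx⟩ = x := rfl
    rw [h2] at h1
    rw [h1]
  · show ((g (c * x) : L) : k) = c * ((g x : L) : k)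
    have h1 : c * x = (⟨c, hc⟩ : L) • x := rfl
    rw [h1, map_smul]
    rfl

/-- coefficientwise application of an additive map -/
def mapCoeff (π : k →+ k) (f : MvPowerSeries (Fin r) k) : MvPowerSeries (Fin r) k :=
  fun n => π (MvPowerSeries.coeff n f)

theorem coeff_mapCoeff (π : k →+ k) (f : MvPowerSeries (Fin r) k) (n : Fin r →₀ ℕ) :
    MvPowerSeries.coeff n (mapCoeff π f) = π (MvPowerSeries.coeff n f) := rfl

theorem mapCoeff_mem (L : Subfield k) (π : k →+ k) (h1 : ∀ x, π x ∈ L)
    (f : MvPowerSeries (Fin r) k) : mapCoeff π f ∈ coeffSubring (r := r) L :=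
  fun _ => h1 _

theorem mapCoeff_eq_self (L : Subfield k) (π : k →+ k) (h2 : ∀ x ∈ L, π x = x)
    (f : MvPowerSeries (Fin r) k) (hf : f ∈ coeffSubring (r := r) L) : mapCoeff π f = f := by
  ext n
  rw [coeff_mapCoeff]
  exact h2 _ (hf n)

theorem mapCoeff_mul (L : Subfield k) (π : k →+ k) (h3 : ∀ c ∈ L, ∀ x, π (c * x) = c * π x)
    (b f : MvPowerSeries (Fin r) k) (hb : b ∈ coeffSubring (r := r) L) :
    mapCoeff π (b * f) = b * mapCoeff π f := by
  classical
  ext n
  rw [coeff_mapCoeff, MvPowerSeries.coeff_mul, MvPowerSeries.coeff_mul, map_sum]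
  refine Finset.sum_congr rfl fun x _ => ?_
  rw [coeff_mapCoeff]
  exact h3 _ (hb _) _

/-- the coefficients of a `q^e`-th power are `q^e`-th powers -/
theorem coeff_pow_expChar_mem (L : Subfield k) (e : ℕ)
    (hq : ∀ x : k, x ^ ringExpChar k ^ e ∈ L) (f : MvPowerSeries (Fin r) k) :
    f ^ ringExpChar k ^ e ∈ coeffSubring (r := r) L := by
  intro n
  have hne : ringExpChar k ≠ 0 := expChar_ne_zero k (ringExpChar k)
  rw [← MvPowerSeries.map_iterateFrobenius_expand (ringExpChar k) hne f e,
    MvPowerSeries.coeff_map, iterateFrobenius_def]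
  exact hq _

end aux

/-- Let k be a field, (k_α) a decreasing filtered family of subfields of k with intersection k₀, and
suppose there is a power q of the characteristic exponent of k with k^q ⊆ k₀. Then, inside k((T_1,
…, T_r)), one has ⋂_α k_α((T_1, …, T_r)) = k₀((T_1, …, T_r)); here F((T)) is the subfield of the
fraction field of k[[T]] generated by the power series with all coefficients in F. -/
theorem result {k : Type u} [Field k] {ι : Type u} [Nonempty ι] (F : ι → Subfield k)
    (hdir : ∀ a b : ι, ∃ c, F c ≤ F a ⊓ F b) (e : ℕ) (hq : ∀ x : k, x ^ ringExpChar k ^ e ∈ ⨅ i, F i) (r : ℕ) :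
    (⨅ i, Subfield.closure (algebraMap (MvPowerSeries (Fin r) k) (FractionRing (MvPowerSeries (Fin r) k)) ''
        {f | ∀ n, MvPowerSeries.coeff n f ∈ F i})) =
      Subfield.closure (algebraMap (MvPowerSeries (Fin r) k) (FractionRing (MvPowerSeries (Fin r) k)) ''
        {f | ∀ n, MvPowerSeries.coeff n f ∈ ⨅ i, F i}) := by
  have _ := hdir
  show (⨅ i, laurent (r := r) (F i)) = laurent (r := r) (⨅ i, F i)
  apply le_antisymm
  · intro x hx
    rw [Subfield.mem_iInf] at hx
    obtain ⟨g, h, hh, rfl⟩ : ∃ g h : MvPowerSeries (Fin r) k, h ≠ 0 ∧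
        x = algebraMap _ (FractionRing (MvPowerSeries (Fin r) k)) g / algebraMap _ _ h := by
      obtain ⟨g, h, hh, rfl⟩ := IsFractionRing.div_surjective (A := MvPowerSeries (Fin r) k) x
      exact ⟨g, h, nonZeroDivisors.ne_zero hh, rfl⟩
    have hinj := IsFractionRing.injective (MvPowerSeries (Fin r) k)
      (FractionRing (MvPowerSeries (Fin r) k))
    have hQ : 1 ≤ ringExpChar k ^ e := Nat.one_le_pow _ _ (expChar_pos k (ringExpChar k))
    have hH : h ^ ringExpChar k ^ e ∈ coeffSubring (r := r) (⨅ i, F i) :=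
      coeff_pow_expChar_mem _ e hq h
    have hH0 : h ^ ringExpChar k ^ e ≠ 0 := pow_ne_zero _ hh
    have hh' : algebraMap _ (FractionRing (MvPowerSeries (Fin r) k)) h ≠ 0 := fun h0 =>
      hh (hinj (by rw [h0, map_zero]))
    have hH' : algebraMap _ (FractionRing (MvPowerSeries (Fin r) k)) (h ^ ringExpChar k ^ e) ≠ 0 :=
      fun h0 => hH0 (hinj (by rw [h0, map_zero]))
    have hx' : algebraMap _ (FractionRing (MvPowerSeries (Fin r) k)) g / algebraMap _ _ h =
        algebraMap _ _ (g * h ^ (ringExpChar k ^ e - 1)) / algebraMap _ _ (h ^ ringExpChar k ^ e) := by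
      rw [div_eq_div_iff hh' hH', ← map_mul, ← map_mul]
      congr 1
      have h1 : h ^ ringExpChar k ^ e = h ^ (ringExpChar k ^ e - 1) * h := by
        rw [← pow_succ, Nat.sub_add_cancel hQ]
      rw [h1]
      ring
    have hg' : ∀ i, g * h ^ (ringExpChar k ^ e - 1) ∈ coeffSubring (r := r) (F i) := by
      intro i
      obtain ⟨a, ha, b, hb, hb0, hab⟩ := (mem_laurent_iff (F i) _).mp (hx i)
      have hb' : algebraMap _ (FractionRing (MvPowerSeries (Fin r) k)) b ≠ 0 := fun h0 =>
        hb0 (hinj (by rw [h0, map_zero]))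
      have heq : b * (g * h ^ (ringExpChar k ^ e - 1)) = a * h ^ ringExpChar k ^ e := by
        apply hinj
        rw [hx', div_eq_div_iff hH' hb', ← map_mul, ← map_mul] at hab
        rw [mul_comm b, hab]
      obtain ⟨π, h1, h2, h3⟩ := exists_retraction (F i)
      have hHi : h ^ ringExpChar k ^ e ∈ coeffSubring (r := r) (F i) :=
        fun n => (iInf_le F i) (hH n)
      have e1 := mapCoeff_mul (F i) π h3 b (g * h ^ (ringExpChar k ^ e - 1)) hb
      have e2 := mapCoeff_eq_self (F i) π h2 _ (Subring.mul_mem _ ha hHi)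
      have e3 : b * (mapCoeff π (g * h ^ (ringExpChar k ^ e - 1)) -
          g * h ^ (ringExpChar k ^ e - 1)) = 0 := by
        rw [mul_sub, ← e1, heq, e2, sub_self]
      have e4 := (mul_eq_zero.mp e3).resolve_left hb0
      rw [sub_eq_zero] at e4
      rw [← e4]
      exact mapCoeff_mem (F i) π h1 _
    have hg'0 : g * h ^ (ringExpChar k ^ e - 1) ∈ coeffSubring (r := r) (⨅ i, F i) :=
      fun n => Subfield.mem_iInf.mpr fun i => hg' i n
    rw [hx']
    exact (mem_laurent_iff _ _).mpr ⟨_, hg'0, _, hH, hH0, rfl⟩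
  · refine le_iInf fun i => ?_
    exact Subfield.closure_mono (Set.image_mono fun f hf n => (iInf_le F i) (hf n))

end Groth.Agent.S4550
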