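import Groth.Statements.S4551
import Mathlib
import Groth.Agent.Lib.Helper90.SmoothRegular3

set_option autoImplicit false
universe u
open EGA41

namespace Groth.Agent.S4551.Aux

set_option linter.style.haveILetI false

open TensorProduct Groth.Agent.Lib.Helper90.SmoothRegular

/-- reducedness passes to the base change of the fraction field -/
theorem isReduced_tensor_fractionRing {k k' A : Type u} [Field k] [Field k'] [Algebra k k']
    [CommRing A] [IsDomain A] [Algebra k A] [IsReduced (k' ⊗[k] A)] :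
    IsReduced (k' ⊗[k] FractionRing A) := by
  let L := FractionRing A
  let ι : k' ⊗[k] A →ₐ[k'] k' ⊗[k] L :=
    Algebra.TensorProduct.map (AlgHom.id k' k') (IsScalarTower.toAlgHom k A L)
  have hι : Function.Injective ι := by
    have := Module.Flat.lTensor_preserves_injective_linearMap (M := k')
      (IsScalarTower.toAlgHom k A L).toLinearMap (IsFractionRing.injective A L)
    exact this
  have key : ∀ z : k' ⊗[k] L, ∃ s : A, s ≠ 0 ∧ ∃ y : k' ⊗[k] A,
      ((1 : k') ⊗ₜ[k] (algebraMap A L s)) * z = ι y := by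
    intro z
    induction z using TensorProduct.induction_on with
    | zero => exact ⟨1, one_ne_zero, 0, by simp⟩
    | tmul c l =>
      obtain ⟨a, s, hs, rfl⟩ := IsFractionRing.div_surjective (A := A) l
      refine ⟨s, nonZeroDivisors.ne_zero hs, c ⊗ₜ a, ?_⟩
      rw [Algebra.TensorProduct.tmul_mul_tmul, one_mul]
      have hs0 : algebraMap A L s ≠ 0 := by
        intro h0
        exact nonZeroDivisors.ne_zero hs ((IsFractionRing.injective A L) (by rw [h0, map_zero]))
      rw [mul_div_cancel₀ _ hs0]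
      rfl
    | add z₁ z₂ h₁ h₂ =>
      obtain ⟨s₁, hs₁, y₁, e₁⟩ := h₁
      obtain ⟨s₂, hs₂, y₂, e₂⟩ := h₂
      refine ⟨s₁ * s₂, mul_ne_zero hs₁ hs₂,
        ((1 : k') ⊗ₜ[k] s₂) * y₁ + ((1 : k') ⊗ₜ[k] s₁) * y₂, ?_⟩
      have h1 : ι ((1 : k') ⊗ₜ[k] s₂) = (1 : k') ⊗ₜ[k] (algebraMap A L s₂) := rfl
      have h2 : ι ((1 : k') ⊗ₜ[k] s₁) = (1 : k') ⊗ₜ[k] (algebraMap A L s₁) := rfl
      simp only [map_add, map_mul, h1, h2]
      rw [← e₁, ← e₂]
      have h3 : (1 : k') ⊗ₜ[k] (algebraMap A L s₁ * algebraMap A L s₂) =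
          ((1 : k') ⊗ₜ[k] (algebraMap A L s₁)) * ((1 : k') ⊗ₜ[k] (algebraMap A L s₂)) := by
        rw [Algebra.TensorProduct.tmul_mul_tmul, one_mul]
      rw [h3]
      ring
  refine ⟨fun z hz => ?_⟩
  obtain ⟨n, hn⟩ := hz
  obtain ⟨s, hs, y, e⟩ := key z
  have hy : y = 0 := by
    apply IsReduced.eq_zero
    refine ⟨n, hι ?_⟩
    rw [map_pow, ← e, mul_pow, hn, mul_zero, map_zero]
  rw [hy, map_zero] at e
  have hs0 : algebraMap A L s ≠ 0 := by
    intro h0
    exact hs ((IsFractionRing.injective A L) (by rw [h0, map_zero]))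
  have hunit : ((1 : k') ⊗ₜ[k] (algebraMap A L s)⁻¹) * ((1 : k') ⊗ₜ[k] (algebraMap A L s)) =
      (1 : k' ⊗[k] L) := by
    rw [Algebra.TensorProduct.tmul_mul_tmul, one_mul, inv_mul_cancel₀ hs0]
    rfl
  calc z = (((1 : k') ⊗ₜ[k] (algebraMap A L s)⁻¹) * ((1 : k') ⊗ₜ[k] (algebraMap A L s))) * z := by
        rw [hunit, one_mul]
    _ = 0 := by rw [mul_assoc, e, mul_zero]

theorem main (k : Type u) [Field k] (r : ℕ) :
    Algebra.IsGeometricallyReduced k (FractionRing (MvPowerSeries (Fin r) k)) := by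
  apply Groth.Agent.Lib.Helper50.isGeometricallyReduced_of_forall_finite_isPurelyInseparable
  intro k' _ _ _ _
  haveI : Algebra.FormallySmooth k k := inferInstance
  have h := smooth_mvPowerSeries (k := k) (K := k) r
  haveI := isRegularRing_tensor_of_smooth h k'
  haveI := isReduced_of_isRegularRing (k' ⊗[k] MvPowerSeries (Fin r) k)
  haveI := Groth.Agent.S2453.Aux.isRegularLocalRing_mvPowerSeries k r
  haveI : IsDomain (MvPowerSeries (Fin r) k) :=
    Groth.Agent.Lib.Helper85.isDomain_of_isRegularLocalRing _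
  exact isReduced_tensor_fractionRing

end Groth.Agent.S4551.Aux

namespace Groth.Agent.S4551

/-- For every field k (any characteristic) the field of fractions k((T_1, …, T_r)) of the power series
ring k[[T_1, …, T_r]] is a separable extension of k, i.e. it is geometrically reduced over k. -/
theorem result (k : Type u) [Field k] (r : ℕ) :
    Algebra.IsGeometricallyReduced k (FractionRing (MvPowerSeries (Fin r) k)) := by
  exact Aux.main k r

end Groth.Agent.S4551
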