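import Groth.Statements.S4552
import Mathlib.Algebra.Algebra.Basic

set_option autoImplicit false
universe u
open EGA41

namespace Groth.Agent.S4552

/-- For the 𝔞-adic topology on A and the deduced topology on M: the topological A-module M is formally
projective (for every open ideal 𝔞ⁿ, every pair of (A/𝔞ⁿ)-modules P, Q, every surjection P → Q and
every continuous A-linear map M → Q — here automatically continuous — there is a continuous A-linear
lift M → P) if and only if it is strictly formally projective, i.e. M/𝔞ⁿM is a projective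
(A/𝔞ⁿ)-module for every n. -/
theorem result {A : Type u} [CommRing A] (𝔞 : Ideal A) (M : Type u)
    [AddCommGroup M] [Module A M] :
    (∀ (n : ℕ) (P Q : Type u) [AddCommGroup P] [Module A P] [AddCommGroup Q] [Module A Q],
      (∀ a ∈ 𝔞 ^ n, ∀ y : P, a • y = 0) → (∀ a ∈ 𝔞 ^ n, ∀ y : Q, a • y = 0) →
      ∀ f : P →ₗ[A] Q, Function.Surjective f → ∀ v : M →ₗ[A] Q, ∃ w : M →ₗ[A] P, f ∘ₗ w = v) ↔
    ∀ n : ℕ, Module.Projective (A ⧸ 𝔞 ^ n) (M ⧸ (𝔞 ^ n • ⊤ : Submodule A M)) := by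
  constructor
  · intro H n
    have hsurjA : Function.Surjective (algebraMap A (A ⧸ 𝔞 ^ n)) := Ideal.Quotient.mk_surjective
    refine Module.Projective.of_lifting_property'' fun f hf => ?_
    -- the two modules are killed by `𝔞 ^ n`
    have hP : ∀ a ∈ 𝔞 ^ n, ∀ y : (M ⧸ (𝔞 ^ n • ⊤ : Submodule A M)) →₀ (A ⧸ 𝔞 ^ n), a • y = 0 := by
      intro a ha y
      rw [← algebraMap_smul (A ⧸ 𝔞 ^ n) a y, Ideal.Quotient.algebraMap_eq,
        Ideal.Quotient.eq_zero_iff_mem.2 ha, zero_smul]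
    have hQ : ∀ a ∈ 𝔞 ^ n, ∀ y : M ⧸ (𝔞 ^ n • ⊤ : Submodule A M), a • y = 0 := by
      intro a ha y
      rw [← algebraMap_smul (A ⧸ 𝔞 ^ n) a y, Ideal.Quotient.algebraMap_eq,
        Ideal.Quotient.eq_zero_iff_mem.2 ha, zero_smul]
    obtain ⟨w, hw⟩ := H n _ _ hP hQ (f.restrictScalars A) hf
      (Submodule.mkQ (𝔞 ^ n • ⊤ : Submodule A M))
    have hker : (𝔞 ^ n • ⊤ : Submodule A M) ≤ LinearMap.ker w := by
      rw [Submodule.smul_le]
      intro a ha m _
      rw [LinearMap.mem_ker, map_smul]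
      exact hP a ha _
    let wbar : (M ⧸ (𝔞 ^ n • ⊤ : Submodule A M)) →ₗ[A]
        ((M ⧸ (𝔞 ^ n • ⊤ : Submodule A M)) →₀ (A ⧸ 𝔞 ^ n)) := Submodule.liftQ _ w hker
    refine ⟨wbar.extendScalarsOfSurjective hsurjA, ?_⟩
    ext x
    obtain ⟨m, rfl⟩ := Submodule.Quotient.mk_surjective _ x
    change f (w m) = _
    exact LinearMap.congr_fun hw m
  · intro H n P Q _ _ _ _ hP hQ f hf v
    have hsurjA : Function.Surjective (algebraMap A (A ⧸ 𝔞 ^ n)) := Ideal.Quotient.mk_surjective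
    haveI := H n
    have htP : Module.IsTorsionBySet A P (𝔞 ^ n : Ideal A) := by
      intro y a
      exact hP a.1 a.2 y
    have htQ : Module.IsTorsionBySet A Q (𝔞 ^ n : Ideal A) := by
      intro y a
      exact hQ a.1 a.2 y
    letI : Module (A ⧸ 𝔞 ^ n) P := htP.module
    letI : Module (A ⧸ 𝔞 ^ n) Q := htQ.module
    haveI : IsScalarTower A (A ⧸ 𝔞 ^ n) P := htP.isScalarTower
    haveI : IsScalarTower A (A ⧸ 𝔞 ^ n) Q := htQ.isScalarTower
    have hker : (𝔞 ^ n • ⊤ : Submodule A M) ≤ LinearMap.ker v := by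
      rw [Submodule.smul_le]
      intro a ha m _
      rw [LinearMap.mem_ker, map_smul]
      exact hQ a ha _
    let vbar : (M ⧸ (𝔞 ^ n • ⊤ : Submodule A M)) →ₗ[A] Q := Submodule.liftQ _ v hker
    obtain ⟨w, hw⟩ := Module.projective_lifting_property (f.extendScalarsOfSurjective hsurjA)
      (vbar.extendScalarsOfSurjective hsurjA) hf
    refine ⟨(w.restrictScalars A).comp (Submodule.mkQ _), ?_⟩
    ext m
    exact LinearMap.congr_fun hw (Submodule.Quotient.mk m)

end Groth.Agent.S4552
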