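import Groth.Statements.S4554
import Groth.Agent.S4535
import Groth.Agent.S4553

set_option autoImplicit false
universe u
open EGA41

namespace Groth.Agent.S4554


open TensorProduct

section Retraction

variable {A A' : Type u} [CommRing A] [CommRing A'] [Algebra A A']

/-- A faithfully flat projective algebra admits a linear retraction of the unit. -/
lemma exists_retraction [Module.FaithfullyFlat A A'] [Module.Projective A A'] :
    ∃ τ : A' →ₗ[A] A, τ 1 = 1 := by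
  obtain ⟨s, hs⟩ := (Module.projective_def' (R := A) (P := A')).mp inferInstance
  -- the ideal of values at `1`
  let I : Ideal A := LinearMap.range ((LinearMap.applyₗ (1 : A')) : (A' →ₗ[A] A) →ₗ[A] A)
  have h1 : (1 : A') ∈ I.map (algebraMap A A') := by
    have h := LinearMap.congr_fun hs (1 : A')
    simp only [LinearMap.comp_apply, LinearMap.id_apply] at h
    rw [← h, Finsupp.linearCombination_apply]
    refine Ideal.sum_mem _ (fun q _ => ?_)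
    change (s 1) q • q ∈ _
    rw [Algebra.smul_def]
    refine Ideal.mul_mem_right _ _ (Ideal.mem_map_of_mem _ ?_)
    exact ⟨(Finsupp.lapply q).comp s, rfl⟩
  have h2 : I.map (algebraMap A A') = ⊤ := (Ideal.eq_top_iff_one _).mpr h1
  have h3 : I = ⊤ := by
    rw [← Ideal.comap_map_eq_self_of_faithfullyFlat (B := A') I, h2, Ideal.comap_top]
  have h4 : (1 : A) ∈ I := by rw [h3]; trivial
  obtain ⟨τ, hτ⟩ := h4
  exact ⟨τ, hτ⟩

end Retraction



section Step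

variable {A B A' : Type u} [CommRing A] [CommRing B] [CommRing A'] [Algebra A B] [Algebra A A']
variable (C : Type u) [CommRing C] [Algebra A C]

/-- `ρ : A' ⊗ C → C`, `a' ⊗ c ↦ τ a' • c`. -/
noncomputable def rho (τ : A' →ₗ[A] A) : A' ⊗[A] C →ₗ[A] C :=
  (TensorProduct.lid A C).toLinearMap ∘ₗ (TensorProduct.map τ LinearMap.id)

variable {C}

lemma rho_tmul (τ : A' →ₗ[A] A) (a' : A') (c : C) : rho C τ (a' ⊗ₜ c) = τ a' • c := by
  simp [rho]

lemma rho_mul_left (τ : A' →ₗ[A] A) (c : C) (x : A' ⊗[A] C) :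
    rho C τ ((1 ⊗ₜ c) * x) = c * rho C τ x := by
  induction x using TensorProduct.induction_on with
  | zero => simp
  | tmul a' c' =>
    rw [Algebra.TensorProduct.tmul_mul_tmul, one_mul, rho_tmul, rho_tmul, mul_smul_comm]
  | add x y hx hy => rw [mul_add, map_add, hx, hy, map_add, mul_add]

lemma rho_one (τ : A' →ₗ[A] A) (hτ : τ 1 = 1) : rho C τ 1 = 1 := by
  rw [Algebra.TensorProduct.one_def, rho_tmul, hτ, one_smul]

lemma rho_one_tmul (τ : A' →ₗ[A] A) (hτ : τ 1 = 1) (c : C) : rho C τ (1 ⊗ₜ c) = c := by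
  rw [rho_tmul, hτ, one_smul]

/-- The ideal of elements all of whose multiples are sent into `J` by `ρ`. -/
def goodIdeal (τ : A' →ₗ[A] A) (J : Ideal C) : Ideal (A' ⊗[A] C) where
  carrier := {x | ∀ y, rho C τ (y * x) ∈ J}
  add_mem' := fun {x y} hx hy z => by
    rw [mul_add, map_add]; exact J.add_mem (hx z) (hy z)
  zero_mem' := fun z => by rw [mul_zero, map_zero]; exact J.zero_mem
  smul_mem' := fun c x hx z => by
    rw [smul_eq_mul, ← mul_assoc]; exact hx (z * c)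

lemma rho_mem (τ : A' →ₗ[A] A) (J : Ideal C) (x : A' ⊗[A] C)
    (hx : x ∈ J.map (Algebra.TensorProduct.includeRight : C →ₐ[A] A' ⊗[A] C)) :
    rho C τ x ∈ J := by
  have hle : J.map (Algebra.TensorProduct.includeRight : C →ₐ[A] A' ⊗[A] C) ≤ goodIdeal τ J := by
    rw [Ideal.map_le_iff_le_comap]
    intro j hj y
    rw [Algebra.TensorProduct.includeRight_apply, mul_comm, rho_mul_left]
    exact J.mul_mem_right _ hj
  have := hle hx 1
  rwa [one_mul] at this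

end Step



section Main

variable {A B A' : Type u} [CommRing A] [CommRing B] [CommRing A'] [Algebra A B] [Algebra A A']

theorem sqZero_step (𝔞 : Ideal A) (𝔟 : Ideal B) (τ : A' →ₗ[A] A) (hτ : τ 1 = 1)
    (hB' : EGA41.IsFormallySmoothAdic A' (𝔞.map (algebraMap A A')) (A' ⊗[A] B)
        ((𝔞.map (algebraMap A A')).map (algebraMap A' (A' ⊗[A] B)) ⊔
          𝔟.map (Algebra.TensorProduct.includeRight : B →ₐ[A] A' ⊗[A] B).toRingHom))
    (C : Type u) [CommRing C] [Algebra A C] (hC : ∃ k : ℕ, (𝔞 ^ k).map (algebraMap A C) = ⊥)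
    (J : Ideal C) (hJ2 : J ^ 2 = ⊥) (u : B →ₐ[A] C ⧸ J) (hu : ∃ m : ℕ, ∀ x ∈ 𝔟 ^ m, u x = 0) :
    ∃ v : B →ₐ[A] C, (Ideal.Quotient.mkₐ A J).comp v = u := by
  obtain ⟨k, hk⟩ := hC
  obtain ⟨m, hm⟩ := hu
  let ι : C →ₐ[A] A' ⊗[A] C := Algebra.TensorProduct.includeRight
  let J' : Ideal (A' ⊗[A] C) := J.map ι
  have hJ'2 : J' ^ 2 = ⊥ := by
    change (J.map ι) ^ 2 = ⊥
    rw [← Ideal.map_pow, hJ2, Ideal.map_bot]
  have hJ'nil : IsNilpotent J' := ⟨2, hJ'2⟩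
  let q : C ⧸ J →ₐ[A] (A' ⊗[A] C) ⧸ J' := Ideal.quotientMapₐ J' ι Ideal.le_comap_map
  have hq : ∀ c : C, q (Ideal.Quotient.mk J c) = Ideal.Quotient.mk J' (1 ⊗ₜ c) := fun c => rfl
  let g : B →ₐ[A] (A' ⊗[A] C) ⧸ J' := q.comp u
  let u' : A' ⊗[A] B →ₐ[A'] (A' ⊗[A] C) ⧸ J' :=
    Algebra.TensorProduct.productLeftAlgHom (Algebra.ofId A' _) g
  have hu'1 : ∀ b : B, u' (1 ⊗ₜ b) = q (u b) := by
    intro b
    change (Algebra.ofId A' _) 1 * g b = _
    rw [map_one, one_mul]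
    rfl
  -- `𝔞^k` dies in `C'`
  have hkC' : ∀ a ∈ 𝔞 ^ k, algebraMap A (A' ⊗[A] C) a = 0 := by
    intro a ha
    have h0 : algebraMap A C a = 0 := by
      have : algebraMap A C a ∈ (𝔞 ^ k).map (algebraMap A C) := Ideal.mem_map_of_mem _ ha
      rwa [hk, Ideal.mem_bot] at this
    rw [← ι.commutes, h0, map_zero]
  have hC' : ∃ k : ℕ, ((𝔞.map (algebraMap A A')) ^ k).map (algebraMap A' (A' ⊗[A] C)) = ⊥ := by
    refine ⟨k, ?_⟩
    rw [← Ideal.map_pow, Ideal.map_map, ← IsScalarTower.algebraMap_eq, eq_bot_iff,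
      Ideal.map_le_iff_le_comap]
    intro a ha
    rw [Ideal.mem_comap, Ideal.mem_bot]
    exact hkC' a ha
  have hu' : ∃ n : ℕ, ∀ x ∈ ((𝔞.map (algebraMap A A')).map (algebraMap A' (A' ⊗[A] B)) ⊔
          𝔟.map (Algebra.TensorProduct.includeRight : B →ₐ[A] A' ⊗[A] B).toRingHom) ^ n,
        u' x = 0 := by
    refine ⟨k + m, fun x hx => ?_⟩
    have h1 := Ideal.sup_pow_add_le_pow_sup_pow hx
    have hle : ((𝔞.map (algebraMap A A')).map (algebraMap A' (A' ⊗[A] B))) ^ k ⊔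
        (𝔟.map (Algebra.TensorProduct.includeRight : B →ₐ[A] A' ⊗[A] B).toRingHom) ^ m ≤
        RingHom.ker u'.toRingHom := by
      refine sup_le ?_ ?_
      · rw [Ideal.map_map, ← IsScalarTower.algebraMap_eq, ← Ideal.map_pow,
          Ideal.map_le_iff_le_comap]
        intro a ha
        rw [Ideal.mem_comap, RingHom.mem_ker]
        change u' (algebraMap A (A' ⊗[A] B) a) = 0
        rw [IsScalarTower.algebraMap_apply A A' (A' ⊗[A] B), u'.commutes,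
          ← IsScalarTower.algebraMap_apply, IsScalarTower.algebraMap_apply A (A' ⊗[A] C),
          hkC' a ha, map_zero]
      · rw [← Ideal.map_pow, Ideal.map_le_iff_le_comap]
        intro b hb
        rw [Ideal.mem_comap, RingHom.mem_ker]
        change u' (1 ⊗ₜ b) = 0
        rw [hu'1, hm b hb, map_zero]
    exact hle h1
  obtain ⟨v', hv'⟩ := hB' (A' ⊗[A] C) J' hJ'nil hC' u' hu'
  -- key decomposition
  have key : ∀ b : B, ∃ c : C, Ideal.Quotient.mk J c = u b ∧ v' (1 ⊗ₜ b) - 1 ⊗ₜ c ∈ J' := by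
    intro b
    obtain ⟨c, hc⟩ := Ideal.Quotient.mk_surjective (u b)
    refine ⟨c, hc, ?_⟩
    rw [← Ideal.Quotient.eq, ← hq, hc, ← hu'1, ← hv']
    rfl
  have hρJ : ∀ x ∈ J', rho C τ x ∈ J := fun x hx => rho_mem τ J x hx
  have hv₀ : ∀ b : B, Ideal.Quotient.mk J (rho C τ (v' (1 ⊗ₜ b))) = u b := by
    intro b
    obtain ⟨c, hc, hd⟩ := key b
    have h1 := hρJ _ hd
    rw [map_sub, rho_one_tmul τ hτ] at h1
    rw [← hc]
    exact Ideal.Quotient.eq.mpr h1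
  have hmul : ∀ b₁ b₂ : B, rho C τ (v' (1 ⊗ₜ (b₁ * b₂))) =
      rho C τ (v' (1 ⊗ₜ b₁)) * rho C τ (v' (1 ⊗ₜ b₂)) := by
    intro b₁ b₂
    obtain ⟨c₁, -, hd₁⟩ := key b₁
    obtain ⟨c₂, -, hd₂⟩ := key b₂
    set d₁ := v' (1 ⊗ₜ b₁) - 1 ⊗ₜ c₁ with hd₁def
    set d₂ := v' (1 ⊗ₜ b₂) - 1 ⊗ₜ c₂ with hd₂def
    have e₁ : v' (1 ⊗ₜ b₁) = 1 ⊗ₜ c₁ + d₁ := by rw [hd₁def]; ring
    have e₂ : v' (1 ⊗ₜ b₂) = 1 ⊗ₜ c₂ + d₂ := by rw [hd₂def]; ring
    have hdd : d₁ * d₂ = 0 := by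
      have : d₁ * d₂ ∈ J' ^ 2 := by rw [pow_two]; exact Ideal.mul_mem_mul hd₁ hd₂
      rwa [hJ'2, Ideal.mem_bot] at this
    have hρρ : rho C τ d₁ * rho C τ d₂ = 0 := by
      have : rho C τ d₁ * rho C τ d₂ ∈ J ^ 2 := by
        rw [pow_two]; exact Ideal.mul_mem_mul (hρJ _ hd₁) (hρJ _ hd₂)
      rwa [hJ2, Ideal.mem_bot] at this
    have hb : (1 : A') ⊗ₜ[A] (b₁ * b₂) = (1 ⊗ₜ b₁) * (1 ⊗ₜ b₂) := by
      rw [Algebra.TensorProduct.tmul_mul_tmul, one_mul]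
    rw [hb, map_mul, e₁, e₂]
    have hexp : ((1 : A') ⊗ₜ[A] c₁ + d₁) * (1 ⊗ₜ c₂ + d₂) =
        (1 ⊗ₜ c₁) * (1 ⊗ₜ c₂) + (1 ⊗ₜ c₁) * d₂ + (1 ⊗ₜ c₂) * d₁ + d₁ * d₂ := by ring
    rw [hexp, hdd, add_zero, map_add, map_add, map_add, map_add, rho_mul_left, rho_mul_left,
      rho_mul_left, rho_one_tmul τ hτ, rho_one_tmul τ hτ]
    linear_combination (-1 : C) * hρρ
  let vl : B →ₗ[A] C :=
    (rho C τ) ∘ₗ ((v'.restrictScalars A).toLinearMap) ∘ₗ
      (Algebra.TensorProduct.includeRight : B →ₐ[A] A' ⊗[A] B).toLinearMap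
  have hvl : ∀ b, vl b = rho C τ (v' (1 ⊗ₜ b)) := fun b => rfl
  let v : B →ₐ[A] C := AlgHom.ofLinearMap vl
    (by rw [hvl, ← Algebra.TensorProduct.one_def, map_one, rho_one τ hτ])
    (by intro x y; rw [hvl, hvl, hvl, hmul])
  refine ⟨v, ?_⟩
  ext b
  exact hv₀ b

end Main



section Induction

variable {A B : Type u} [CommRing A] [CommRing B] [Algebra A B]

theorem induction_step (𝔞 : Ideal A) (𝔟 : Ideal B)
    (H : ∀ (C : Type u) [CommRing C] [Algebra A C],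
      (∃ k : ℕ, (𝔞 ^ k).map (algebraMap A C) = ⊥) → ∀ J : Ideal C, J ^ 2 = ⊥ →
      ∀ u : B →ₐ[A] C ⧸ J, (∃ m : ℕ, ∀ x ∈ 𝔟 ^ m, u x = 0) →
        ∃ v : B →ₐ[A] C, (Ideal.Quotient.mkₐ A J).comp v = u)
    (r : ℕ) :
    ∀ (C : Type u) [CommRing C] [Algebra A C], (∃ k' : ℕ, (𝔞 ^ k').map (algebraMap A C) = ⊥) →
      ∀ J : Ideal C, J ^ (2 ^ r) = ⊥ →
      ∀ u : B →ₐ[A] C ⧸ J, (∃ m : ℕ, ∀ x ∈ 𝔟 ^ m, u x = 0) →
        ∃ v : B →ₐ[A] C, (Ideal.Quotient.mkₐ A J).comp v = u := by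
  induction r with
  | zero =>
    intro C _ _ hC J hJ u hu
    rw [pow_zero, pow_one] at hJ
    exact H C hC J (by rw [hJ]; simp) u hu
  | succ r ih =>
    intro C _ _ hC J hJ u hu
    obtain ⟨k', hk'⟩ := hC
    let K : Ideal C := J ^ 2
    have hKJ : K ≤ J := Ideal.pow_le_self (by norm_num)
    let J' : Ideal (C ⧸ K) := J.map (Ideal.Quotient.mkₐ A K)
    let e : ((C ⧸ K) ⧸ J') ≃ₐ[A] C ⧸ J := DoubleQuot.quotQuotEquivQuotOfLEₐ A hKJ
    let u' : B →ₐ[A] (C ⧸ K) ⧸ J' := (e.symm : _ →ₐ[A] _).comp u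
    have hJ'2 : J' ^ 2 = ⊥ := by
      change (J.map (Ideal.Quotient.mk K)) ^ 2 = ⊥
      rw [← Ideal.map_pow, Ideal.map_eq_bot_iff_le_ker, Ideal.mk_ker]
    have hCK : (𝔞 ^ k').map (algebraMap A (C ⧸ K)) = ⊥ := by
      rw [IsScalarTower.algebraMap_eq A C (C ⧸ K), ← Ideal.map_map, hk', Ideal.map_bot]
    have hu' : ∃ m : ℕ, ∀ x ∈ 𝔟 ^ m, u' x = 0 := by
      obtain ⟨m, hm⟩ := hu
      refine ⟨m, fun x hx => ?_⟩
      change e.symm (u x) = 0
      rw [hm x hx, map_zero]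
    obtain ⟨v', hv'⟩ := H (C ⧸ K) ⟨k', hCK⟩ J' hJ'2 u' hu'
    have hv'c : ∃ m : ℕ, ∀ x ∈ 𝔟 ^ m, v' x = 0 := by
      apply Groth.Agent.S4553.continuous_of_lift 𝔟 J' ⟨2, hJ'2⟩ v'
      obtain ⟨m, hm⟩ := hu'
      refine ⟨m, fun x hx => ?_⟩
      have := AlgHom.congr_fun hv' x
      change Ideal.Quotient.mk J' (v' x) = u' x at this
      rw [this, hm x hx]
    have hK : K ^ (2 ^ r) = ⊥ := by
      change (J ^ 2) ^ (2 ^ r) = ⊥
      rw [← pow_mul, ← pow_succ']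
      exact hJ
    obtain ⟨v, hv⟩ := ih C ⟨k', hk'⟩ K hK v' hv'c
    refine ⟨v, ?_⟩
    ext b
    change Ideal.Quotient.mk J (v b) = u b
    have h1 : Ideal.Quotient.mk K (v b) = v' b := AlgHom.congr_fun hv b
    have h2 : Ideal.Quotient.mk J' (v' b) = u' b := AlgHom.congr_fun hv' b
    have h3 : e (Ideal.Quotient.mk J' (Ideal.Quotient.mk K (v b))) = Ideal.Quotient.mk J (v b) := rfl
    rw [← h3, h1, h2]
    change e (e.symm (u b)) = u b
    exact e.apply_symm_apply _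

theorem of_sqZero (𝔞 : Ideal A) (𝔟 : Ideal B)
    (H : ∀ (C : Type u) [CommRing C] [Algebra A C],
      (∃ k : ℕ, (𝔞 ^ k).map (algebraMap A C) = ⊥) → ∀ J : Ideal C, J ^ 2 = ⊥ →
      ∀ u : B →ₐ[A] C ⧸ J, (∃ m : ℕ, ∀ x ∈ 𝔟 ^ m, u x = 0) →
        ∃ v : B →ₐ[A] C, (Ideal.Quotient.mkₐ A J).comp v = u) :
    EGA41.IsFormallySmoothAdic A 𝔞 B 𝔟 := by
  intro C _ _ J hJ hC u hu
  obtain ⟨n, hn⟩ := hJ
  refine induction_step 𝔞 𝔟 H n C hC J ?_ u hu
  rw [eq_bot_iff, ← Ideal.zero_eq_bot, ← hn]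
  exact Ideal.pow_le_pow_right (Nat.lt_two_pow_self).le

end Induction



open TensorProduct in
/-- Let A be 𝔞-adic, B a topological A-algebra for the 𝔟-adic topology (a power of 𝔞 maps into 𝔟) which
is a formally projective topological A-module, and A' an A-algebra with the topology deduced from A
(the 𝔞A'-adic topology) which is a faithfully flat, projective A-module of finite type. Then B' = A'
⊗_A B, with the tensor product topology (the adic topology of the ideal generated by the images of 𝔞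
and 𝔟), is a formally smooth A'-algebra if and only if B is a formally smooth A-algebra. -/
theorem result {A B A' : Type u} [CommRing A] [CommRing B]
    [CommRing A'] [Algebra A B] [Algebra A A'] (𝔞 : Ideal A) (𝔟 : Ideal B) (hAB : ∃ k : ℕ, (𝔞 ^ k).map (algebraMap A B) ≤ 𝔟)
    (hproj : ∀ (n : ℕ) (P Q : Type u) [AddCommGroup P] [Module A P] [AddCommGroup Q] [Module A Q],
      (∀ a ∈ 𝔞 ^ n, ∀ y : P, a • y = 0) → (∀ a ∈ 𝔞 ^ n, ∀ y : Q, a • y = 0) →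
      ∀ f : P →ₗ[A] Q, Function.Surjective f → ∀ v : B →ₗ[A] Q, (∃ m : ℕ, ∀ x ∈ 𝔟 ^ m, v x = 0) →
        ∃ w : B →ₗ[A] P, (∃ m : ℕ, ∀ x ∈ 𝔟 ^ m, w x = 0) ∧ f ∘ₗ w = v)
    [Module.FaithfullyFlat A A'] [Module.Projective A A'] [Module.Finite A A'] :
    EGA41.IsFormallySmoothAdic A' (𝔞.map (algebraMap A A')) (A' ⊗[A] B)
        ((𝔞.map (algebraMap A A')).map (algebraMap A' (A' ⊗[A] B)) ⊔
          𝔟.map (Algebra.TensorProduct.includeRight : B →ₐ[A] A' ⊗[A] B).toRingHom) ↔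
      EGA41.IsFormallySmoothAdic A 𝔞 B 𝔟 := by
  constructor
  · intro hB'
    obtain ⟨τ, hτ⟩ := exists_retraction (A := A) (A' := A')
    exact of_sqZero 𝔞 𝔟 (fun C _ _ hC J hJ2 u hu => sqZero_step 𝔞 𝔟 τ hτ hB' C hC J hJ2 u hu)
  · intro hB
    exact Groth.Agent.S4535.result 𝔞 𝔟 (𝔞.map (algebraMap A A')) ⟨1, by rw [pow_one]⟩ hB

end Groth.Agent.S4554
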