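import Groth.Statements.S4555
import Groth.Agent.Lib.Helper21.PowerSeriesAdic2

set_option autoImplicit false
universe u
open EGA41 Groth.Agent.Lib.Helper21

namespace Groth.Agent.S4555

/-- Let A carry the 𝔞-adic topology, B = A[[T_1, …, T_n]] the product topology (the adic topology of 𝔞B
+ (T_1, …, T_n)), and let E be a discrete topological A-algebra (a power of 𝔞 kills E). (i) If f : B
→ E is a continuous A-algebra homomorphism then each f(T_i) is nilpotent. (ii) Conversely, for every
family (z_i) of nilpotent elements of E there is one and only one continuous A-algebra homomorphism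
g : B → E with g(T_i) = z_i for all i. -/
theorem result (A : Type u) [CommRing A] (𝔞 : Ideal A) (n : ℕ) (E : Type u) [CommRing E]
    [Algebra A E] (hE : ∃ k : ℕ, (𝔞 ^ k).map (algebraMap A E) = ⊥) :
    (∀ f : MvPowerSeries (Fin n) A →ₐ[A] E,
      (∃ m : ℕ, ∀ x ∈ (𝔞.map (MvPowerSeries.C : A →+* MvPowerSeries (Fin n) A) ⊔
        RingHom.ker (MvPowerSeries.constantCoeff : MvPowerSeries (Fin n) A →+* A)) ^ m, f x = 0) →
      ∀ i, IsNilpotent (f (MvPowerSeries.X i))) ∧
    ∀ z : Fin n → E, (∀ i, IsNilpotent (z i)) →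
      ∃! g : MvPowerSeries (Fin n) A →ₐ[A] E,
        (∃ m : ℕ, ∀ x ∈ (𝔞.map (MvPowerSeries.C : A →+* MvPowerSeries (Fin n) A) ⊔
          RingHom.ker (MvPowerSeries.constantCoeff : MvPowerSeries (Fin n) A →+* A)) ^ m, g x = 0) ∧
        ∀ i, g (MvPowerSeries.X i) = z i := by
  have hX : ∀ i : Fin n, (MvPowerSeries.X i : MvPowerSeries (Fin n) A) ∈
      (𝔞.map (MvPowerSeries.C : A →+* MvPowerSeries (Fin n) A) ⊔
        RingHom.ker (MvPowerSeries.constantCoeff : MvPowerSeries (Fin n) A →+* A)) := fun i =>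
    Ideal.mem_sup_right (by rw [RingHom.mem_ker]; exact MvPowerSeries.constantCoeff_X i)
  constructor
  · rintro f ⟨m, hm⟩ i
    exact ⟨m, by rw [← map_pow]; exact hm _ (Ideal.pow_mem_pow (hX i) m)⟩
  · intro z hz
    choose K hK using hz
    let K' := ∑ i, K i
    have hK' : ∀ i, z i ^ K' = 0 := fun i =>
      pow_eq_zero_of_le (Finset.single_le_sum (fun _ _ => Nat.zero_le _) (Finset.mem_univ i)) (hK i)
    obtain ⟨k, hk⟩ := hE
    refine ⟨PSAdic.evalNilp z K' hK', ⟨⟨k + (n * K' + 1), ?_⟩, PSAdic.evalNilp_X z K' hK'⟩, ?_⟩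
    · intro x hx
      have hx' := Ideal.sup_pow_add_le_pow_sup_pow hx
      obtain ⟨a, ha, b, hb, rfl⟩ := Submodule.mem_sup.1 hx'
      rw [map_add, PSAdic.evalNilp_eq_zero_of_mem_ker_pow _ _ _ (Nat.lt_succ_self _) hb, add_zero]
      rw [← Ideal.map_pow] at ha
      have hle : (𝔞 ^ k).map (MvPowerSeries.C : A →+* MvPowerSeries (Fin n) A) ≤
          RingHom.ker (PSAdic.evalNilp (R := A) z K' hK' : MvPowerSeries (Fin n) A →+* E) := by
        rw [Ideal.map_le_iff_le_comap]
        intro r hr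
        rw [Ideal.mem_comap, RingHom.mem_ker]
        have h1 : algebraMap A E r ∈ (𝔞 ^ k).map (algebraMap A E) := Ideal.mem_map_of_mem _ hr
        rw [hk, Ideal.mem_bot] at h1
        rw [← h1]
        exact (PSAdic.evalNilp (R := A) z K' hK').commutes r
      exact hle ha
    · rintro g' ⟨⟨m, hm⟩, hg'X⟩
      exact PSAdic.eq_evalNilp g' m
        (fun x hx => hm x (Ideal.pow_right_mono le_sup_right m hx)) z K' hK' hg'X

end Groth.Agent.S4555
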