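import Groth.Statements.S4556
-- import your own Groth.Agent.* helpers here

set_option autoImplicit false
universe u
open EGA41

namespace Groth.Agent.S4556

/-- Let B be a formally smooth A-algebra, E and E' two A-algebras, R (resp. R') a nilpotent ideal of E
(resp. E'), f : E → E' a surjective A-algebra homomorphism with f(R) = R', and f' : E/R → E'/R' the
induced homomorphism. Let u : B → E/R be an A-algebra homomorphism and v' : B → E' an A-algebra
homomorphism through which f' ∘ u factors (v' followed by E' → E'/R' equals f' ∘ u). Then there is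
an A-algebra homomorphism v : B → E with f ∘ v = v'. (The published statement assumes only f(R) ⊆
R'; in that form it fails for B = ℚ[x, x⁻¹], E = ℚ[t], E' = ℚ[t]/(t²), R = 0, R' = (t), u : x ↦ 1
and v' : x ↦ 1 + t, since any v sends x to a unit of ℚ[t], a constant; the argument identifies R'
with the image of R, and that equality is assumed here.) -/
theorem result {A B E E' : Type u} [CommRing A] [CommRing B] [Algebra A B]
    [Algebra.FormallySmooth A B] [CommRing E] [CommRing E'] [Algebra A E] [Algebra A E']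
    (R : Ideal E) (R' : Ideal E') (hR : IsNilpotent R) (hR' : IsNilpotent R')
    (f : E →ₐ[A] E') (hf : Function.Surjective f) (hfR : R.map f.toRingHom = R')
    (u : B →ₐ[A] E ⧸ R) (v' : B →ₐ[A] E')
    (huv : (Ideal.Quotient.mkₐ A R').comp v' =
      (Ideal.quotientMapₐ R' f (fun x hx => hfR.le (Ideal.mem_map_of_mem f.toRingHom hx))).comp u) :
    ∃ v : B →ₐ[A] E, f.comp v = v' := by
  classical
  -- the induced map on quotients
  set f' : E ⧸ R →ₐ[A] E' ⧸ R' :=
    Ideal.quotientMapₐ R' f (fun x hx => hfR.le (Ideal.mem_map_of_mem f.toRingHom hx)) with hf'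
  -- the fibre product `(E/R) ×_{E'/R'} E'` as a subalgebra of the product
  let φ : ((E ⧸ R) × E') →ₐ[A] E' ⧸ R' := f'.comp (AlgHom.fst A (E ⧸ R) E')
  let ψ : ((E ⧸ R) × E') →ₐ[A] E' ⧸ R' := (Ideal.Quotient.mkₐ A R').comp (AlgHom.snd A (E ⧸ R) E')
  let P : Subalgebra A ((E ⧸ R) × E') := AlgHom.equalizer φ ψ
  have hmk : ∀ e : E, f' (Ideal.Quotient.mk R e) = Ideal.Quotient.mk R' (f e) := by
    intro e
    rfl
  -- the map `E → P`
  let g : E →ₐ[A] P := AlgHom.codRestrict ((Ideal.Quotient.mkₐ A R).prod f) P (by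
    intro e
    change φ _ = ψ _
    simp [φ, ψ, hmk])
  -- the map `B → P`
  let h : B →ₐ[A] P := AlgHom.codRestrict (u.prod v') P (by
    intro b
    change φ _ = ψ _
    have := AlgHom.congr_fun huv b
    simpa [φ, ψ] using this.symm)
  have hg : Function.Surjective g := by
    rintro ⟨⟨ebar, e'⟩, hmem⟩
    obtain ⟨e, rfl⟩ := Ideal.Quotient.mk_surjective ebar
    have hmem' : f' (Ideal.Quotient.mk R e) = Ideal.Quotient.mk R' e' := hmem
    rw [hmk, Ideal.Quotient.eq, ← hfR] at hmem'
    have hmap : R.map f.toRingHom = Ideal.map (f : E →+* E') R := rfl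
    rw [hmap, Ideal.mem_map_iff_of_surjective (f : E →+* E') hf] at hmem'
    obtain ⟨r, hr, hre⟩ := hmem'
    refine ⟨e - r, ?_⟩
    apply Subtype.ext
    change ((Ideal.Quotient.mk R (e - r)), f (e - r)) = (Ideal.Quotient.mk R e, e')
    refine Prod.ext ?_ ?_
    · change Ideal.Quotient.mk R (e - r) = Ideal.Quotient.mk R e
      rw [Ideal.Quotient.eq]
      simpa using R.neg_mem hr
    · change f (e - r) = e'
      have : f r = f e - e' := hre
      rw [map_sub, this]; ring
  have hker : IsNilpotent (RingHom.ker (g : E →+* P)) := by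
    obtain ⟨n, hn⟩ := hR
    refine ⟨n, ?_⟩
    rw [Ideal.zero_eq_bot, ← le_bot_iff]
    have hle : RingHom.ker (g : E →+* P) ≤ R := by
      intro e he
      have h0 : g e = 0 := he
      have h1 : (g e : (E ⧸ R) × E').1 = 0 := by rw [h0]; rfl
      have h2 : Ideal.Quotient.mk R e = 0 := h1
      exact Ideal.Quotient.eq_zero_iff_mem.mp h2
    calc RingHom.ker (g : E →+* P) ^ n ≤ R ^ n := Ideal.pow_right_mono hle n
      _ = ⊥ := hn
  refine ⟨Algebra.FormallySmooth.liftOfSurjective h g hg hker, ?_⟩
  ext b
  have := Algebra.FormallySmooth.liftOfSurjective_apply h g hg hker b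
  have h2 : ((g (Algebra.FormallySmooth.liftOfSurjective h g hg hker b) : P) : (E ⧸ R) × E').2
      = ((h b : P) : (E ⧸ R) × E').2 := by rw [this]
  exact h2

end Groth.Agent.S4556
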