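import Groth.Statements.S4558
import Mathlib.RingTheory.AdicCompletion.Basic
import Mathlib.RingTheory.AdicCompletion.Functoriality
import Mathlib.RingTheory.AdicCompletion.Algebra
import Mathlib.RingTheory.Kaehler.Basic
import Mathlib.RingTheory.Ideal.Cotangent
import Mathlib.RingTheory.Finiteness.Defs
import Mathlib.RingTheory.Finiteness.Basic
import Mathlib.Algebra.Module.Projective
import Mathlib.LinearAlgebra.TensorProduct.Quotient

set_option autoImplicit false
universe u
open EGA41

namespace Groth.Agent.S4558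

open Submodule

section
variable {R M : Type u} [CommRing R] [AddCommGroup M] [Module R M] (I : Ideal R)

lemma finite_adicCompletion_pi [IsAdicComplete I R] (n : ℕ) :
    Module.Finite R (AdicCompletion I (Fin n → R)) := by
  have e1 : AdicCompletion I (Fin n → R) ≃ₗ[R] (Fin n → AdicCompletion I R) :=
    (AdicCompletion.piEquivFin I n).restrictScalars R
  haveI : Module.Finite R (AdicCompletion I R) :=
    Module.Finite.equiv (AdicCompletion.ofLinearEquiv I R)
  exact Module.Finite.equiv e1.symm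

lemma finite_adicCompletion_of_finite_quotient [IsAdicComplete I R]
    [Module.Finite R (M ⧸ (I • ⊤ : Submodule R M))] :
    Module.Finite R (AdicCompletion I M) := by
  obtain ⟨n, g, hg⟩ := Module.Finite.exists_fin' R (M ⧸ (I • ⊤ : Submodule R M))
  obtain ⟨f, hf⟩ := Module.projective_lifting_property (mkQ (I • ⊤ : Submodule R M)) g
    (mkQ_surjective _)
  have hs : Function.Surjective (mkQ (I • ⊤ : Submodule R M) ∘ₗ f) := by
    rw [hf]; exact hg
  have h2 := AdicCompletion.map_surjective_of_mkQ_comp_surjective hs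
  haveI := finite_adicCompletion_pi I n
  exact Module.Finite.of_surjective ((AdicCompletion.map I f).restrictScalars R) h2

end

section
open TensorProduct
variable {A B : Type u} [CommRing A] [CommRing B] [Algebra A B] (𝔫 : Ideal B)

lemma finite_cotangent_of_eq (I' : Ideal B) (h : I' = 𝔫) [Module.Finite (B ⧸ 𝔫) 𝔫.Cotangent] :
    Module.Finite B I'.Cotangent := by
  subst h
  exact Module.Finite.trans (B ⧸ I') I'.Cotangent

lemma finite_quotient_kaehler
    [Module.Finite (B ⧸ 𝔫) (Ω[B ⧸ 𝔫⁄A])] [Module.Finite (B ⧸ 𝔫) 𝔫.Cotangent] :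
    Module.Finite B (Ω[B⁄A] ⧸ (𝔫 • ⊤ : Submodule B (Ω[B⁄A]))) := by
  have hsurj : Function.Surjective (algebraMap B (B ⧸ 𝔫)) := Ideal.Quotient.mk_surjective
  have hker : RingHom.ker (algebraMap B (B ⧸ 𝔫)) = 𝔫 := by
    rw [Ideal.Quotient.algebraMap_eq, Ideal.mk_ker]
  haveI : Module.Finite B (RingHom.ker (algebraMap B (B ⧸ 𝔫))).Cotangent :=
    finite_cotangent_of_eq 𝔫 _ hker
  haveI : Module.Finite B (Ω[B ⧸ 𝔫⁄A]) := Module.Finite.trans (B ⧸ 𝔫) _
  have hex := KaehlerDifferential.exact_kerCotangentToTensor_mapBaseChange A B (B ⧸ 𝔫) hsurj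
  have hs2 := KaehlerDifferential.mapBaseChange_surjective A B (B ⧸ 𝔫) hsurj
  haveI : Module.Finite B ((B ⧸ 𝔫) ⊗[B] Ω[B⁄A]) :=
    Module.Finite.of_exact (f := KaehlerDifferential.kerCotangentToTensor A B (B ⧸ 𝔫))
      (g := (KaehlerDifferential.mapBaseChange A B (B ⧸ 𝔫)).restrictScalars B) hex hs2
  exact Module.Finite.equiv (TensorProduct.quotTensorEquivQuotSMul (Ω[B⁄A]) 𝔫)

end


/-- Let A be a discrete ring, B an adic topological A-algebra with ideal of definition 𝔫 (B separated
and complete for the 𝔫-adic topology) and B₀ = B/𝔫. If Ω_{B₀/A} and 𝔫/𝔫² are B₀-modules of finite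
type, then Ω̂_{B/A}, the 𝔫-adic completion of Ω_{B/A}, is a B-module of finite type. -/
theorem result {A B : Type u} [CommRing A] [CommRing B] [Algebra A B] (𝔫 : Ideal B)
    [IsAdicComplete 𝔫 B] [Module.Finite (B ⧸ 𝔫) (Ω[B ⧸ 𝔫⁄A])] [Module.Finite (B ⧸ 𝔫) 𝔫.Cotangent] :
    Module.Finite B (AdicCompletion 𝔫 (Ω[B⁄A])) := by
  haveI := finite_quotient_kaehler (A := A) 𝔫
  exact finite_adicCompletion_of_finite_quotient 𝔫

end Groth.Agent.S4558
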