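import Groth.Statements.S4559
import Groth.Prelude.Def_Exal2
import Mathlib.RingTheory.AdicCompletion.Basic
import Mathlib.RingTheory.Kaehler.Basic
import Mathlib.Algebra.Module.Torsion.Basic
import Mathlib.RingTheory.Unramified.Basic

set_option autoImplicit false
universe u
open EGA41

namespace Groth.Agent.S4559

open Exal

section Aux
attribute [local instance] Exal.opModule Exal.isCentralScalar_opModule

variable {A B : Type u} [CommRing A] [CommRing B] [Algebra A B] (I : Ideal B)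

abbrev MM : Type u := Ω[B⁄A] ⧸ (I • ⊤ : Submodule B (Ω[B⁄A]))

abbrev EE : Type u := TrivSqZeroExt (B ⧸ I) (MM (A := A) I)

noncomputable abbrev algEE : Algebra A (EE (A := A) I) :=
  ((algebraMap (B ⧸ I) (EE (A := A) I)).comp (algebraMap A (B ⧸ I))).toAlgebra

attribute [local instance] algEE

noncomputable def DD : Derivation A B (MM (A := A) I) :=
  (Submodule.mkQ (I • ⊤ : Submodule B (Ω[B⁄A]))).compDer (KaehlerDifferential.D A B)

lemma DD_apply (b : B) : DD (A := A) I b =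
    Submodule.Quotient.mk (KaehlerDifferential.D A B b) := rfl

noncomputable def vv (D : Derivation A B (MM (A := A) I)) : B →ₐ[A] EE (A := A) I :=
  { Exal.Ext.derivationHom (C := B ⧸ I) D with
    commutes' := fun a => by
      change TrivSqZeroExt.inl (algebraMap B (B ⧸ I) (algebraMap A B a)) +
        TrivSqZeroExt.inr (D (algebraMap A B a)) = TrivSqZeroExt.inl (algebraMap A (B ⧸ I) a)
      rw [Derivation.map_algebraMap, TrivSqZeroExt.inr_zero, add_zero,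
        ← IsScalarTower.algebraMap_apply A B (B ⧸ I)] }

lemma vv_apply (D : Derivation A B (MM (A := A) I)) (b : B) :
    vv I D b = TrivSqZeroExt.inl (Ideal.Quotient.mk I b) + TrivSqZeroExt.inr (D b) := rfl

/-- The key step of `(→)`: uniqueness of lifts forces `Ω = I • Ω` for `I = 𝔟 ^ n`. -/
lemma smul_top_eq_top
    (H : ∀ (J : Ideal (EE (A := A) I)), IsNilpotent J → ∀ v₁ v₂ : B →ₐ[A] EE (A := A) I,
        (∀ x ∈ I, v₁ x = 0) → (∀ x ∈ I ^ 2, v₂ x = 0) →
        (∀ b : B, Ideal.Quotient.mk J (v₁ b) = Ideal.Quotient.mk J (v₂ b)) → v₁ = v₂) :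
    (I • ⊤ : Submodule B (Ω[B⁄A])) = ⊤ := by
  let J : Ideal (EE (A := A) I) := RingHom.ker (TrivSqZeroExt.fstHom (B ⧸ I) (B ⧸ I) (MM (A := A) I))
  have hJ : IsNilpotent J := by
    refine ⟨2, ?_⟩
    rw [pow_two, Ideal.zero_eq_bot, eq_bot_iff, Ideal.mul_le]
    intro x hx y hy
    rw [RingHom.mem_ker] at hx hy
    change TrivSqZeroExt.fst x = 0 at hx
    change TrivSqZeroExt.fst y = 0 at hy
    rw [Ideal.mem_bot]
    apply TrivSqZeroExt.ext
    · simp [hx]
    · simp [hx, hy]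
  have h1 : ∀ x ∈ I, vv I (0 : Derivation A B (MM (A := A) I)) x = 0 := by
    intro x hx
    rw [vv_apply, Derivation.zero_apply, TrivSqZeroExt.inr_zero, add_zero,
      Ideal.Quotient.eq_zero_iff_mem.2 hx, TrivSqZeroExt.inl_zero]
  have h2 : ∀ x ∈ I ^ 2, vv I (DD (A := A) I) x = 0 := by
    intro x hx
    rw [pow_two] at hx
    refine Submodule.mul_induction_on hx ?_ ?_
    · intro y hy z hz
      rw [map_mul, vv_apply, vv_apply, Ideal.Quotient.eq_zero_iff_mem.2 hy,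
        Ideal.Quotient.eq_zero_iff_mem.2 hz, TrivSqZeroExt.inl_zero, zero_add, zero_add,
        TrivSqZeroExt.inr_mul_inr]
    · intro y z hy hz
      rw [map_add, hy, hz, add_zero]
  have h3 : ∀ b : B, Ideal.Quotient.mk J (vv I (0 : Derivation A B (MM (A := A) I)) b) =
      Ideal.Quotient.mk J (vv I (DD (A := A) I) b) := by
    intro b
    rw [Ideal.Quotient.eq, RingHom.mem_ker]
    change TrivSqZeroExt.fst _ = 0
    rw [vv_apply, vv_apply]
    simp
  have h4 := H J hJ _ _ h1 h2 h3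
  have key : Submodule.span B (Set.range (KaehlerDifferential.D A B)) ≤
      (I • ⊤ : Submodule B (Ω[B⁄A])) := by
    rw [Submodule.span_le]
    rintro _ ⟨b, rfl⟩
    have h5 := AlgHom.congr_fun h4 b
    rw [vv_apply, vv_apply, Derivation.zero_apply, TrivSqZeroExt.inr_zero, add_zero] at h5
    have h6 := congrArg TrivSqZeroExt.snd h5
    simp only [TrivSqZeroExt.snd_inl, TrivSqZeroExt.snd_add, TrivSqZeroExt.snd_inr, zero_add] at h6
    rw [DD_apply] at h6
    exact (Submodule.Quotient.mk_eq_zero _).1 h6.symm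
  rw [KaehlerDifferential.span_range_derivation] at key
  exact eq_top_iff.2 key

lemma map_pow_eq_bot (𝔞 : Ideal A) (k : ℕ) (hk : (𝔞 ^ k).map (algebraMap A B) ≤ I) :
    (𝔞 ^ k).map (algebraMap A (EE (A := A) I)) = ⊥ := by
  rw [eq_bot_iff, Ideal.map_le_iff_le_comap]
  intro a ha
  rw [Ideal.mem_comap, Ideal.mem_bot]
  change TrivSqZeroExt.inl (algebraMap A (B ⧸ I) a) = 0
  have : algebraMap A (B ⧸ I) a = 0 := by
    rw [IsScalarTower.algebraMap_apply A B (B ⧸ I), Ideal.Quotient.algebraMap_eq,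
      Ideal.Quotient.eq_zero_iff_mem]
    exact hk (Ideal.mem_map_of_mem _ ha)
  rw [this, TrivSqZeroExt.inl_zero]

lemma htop_of_H (𝔞 : Ideal A) (𝔟 : Ideal B) (k : ℕ) (hk : (𝔞 ^ k).map (algebraMap A B) ≤ 𝔟)
    (H : ∀ (E : Type u) [CommRing E] [Algebra A E], (∃ k : ℕ, (𝔞 ^ k).map (algebraMap A E) = ⊥) →
      ∀ J : Ideal E, IsNilpotent J → ∀ v₁ v₂ : B →ₐ[A] E,
        (∃ m : ℕ, ∀ x ∈ 𝔟 ^ m, v₁ x = 0) → (∃ m : ℕ, ∀ x ∈ 𝔟 ^ m, v₂ x = 0) →
        (∀ b : B, Ideal.Quotient.mk J (v₁ b) = Ideal.Quotient.mk J (v₂ b)) → v₁ = v₂) (n : ℕ) :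
    (𝔟 ^ n • ⊤ : Submodule B (Ω[B⁄A])) = ⊤ := by
  have hkn : (𝔞 ^ (k * n)).map (algebraMap A B) ≤ 𝔟 ^ n := by
    rw [pow_mul, Ideal.map_pow]
    exact Ideal.pow_right_mono hk n
  apply smul_top_eq_top (A := A) (𝔟 ^ n)
  intro J hJ v₁ v₂ h1 h2 h3
  refine H (EE (A := A) (𝔟 ^ n)) ⟨k * n, map_pow_eq_bot (𝔟 ^ n) 𝔞 (k * n) hkn⟩ J hJ v₁ v₂
    ⟨n, h1⟩ ⟨n * 2, ?_⟩ h3
  rw [pow_mul]
  exact h2

end Aux

/-- Let A be 𝔞-adic and B a topological A-algebra for the 𝔟-adic topology (a power of 𝔞 maps into 𝔟).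
Then B is a formally unramified A-algebra (for every homomorphism E → C of discrete A-algebras with
nilpotent kernel and every continuous u : B → C there is at most one continuous lift B → E; here E
discrete means killed by a power of 𝔞, and one may take C = E/J) if and only if the separated
completion of Ω_{B/A}, i.e. its 𝔟-adic completion, is zero. -/
theorem result {A B : Type u} [CommRing A] [CommRing B] [Algebra A B]
    (𝔞 : Ideal A) (𝔟 : Ideal B) (hAB : ∃ k : ℕ, (𝔞 ^ k).map (algebraMap A B) ≤ 𝔟) :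
    (∀ (E : Type u) [CommRing E] [Algebra A E], (∃ k : ℕ, (𝔞 ^ k).map (algebraMap A E) = ⊥) →
      ∀ J : Ideal E, IsNilpotent J → ∀ v₁ v₂ : B →ₐ[A] E,
        (∃ m : ℕ, ∀ x ∈ 𝔟 ^ m, v₁ x = 0) → (∃ m : ℕ, ∀ x ∈ 𝔟 ^ m, v₂ x = 0) →
        (∀ b : B, Ideal.Quotient.mk J (v₁ b) = Ideal.Quotient.mk J (v₂ b)) → v₁ = v₂) ↔
    Subsingleton (AdicCompletion 𝔟 (Ω[B⁄A])) := by
  obtain ⟨k, hk⟩ := hAB
  constructor
  · intro H
    have htop : ∀ n : ℕ, (𝔟 ^ n • ⊤ : Submodule B (Ω[B⁄A])) = ⊤ :=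
      fun n => htop_of_H 𝔞 𝔟 k hk H n
    refine ⟨fun x y => ?_⟩
    apply AdicCompletion.ext
    intro n
    have hs : Subsingleton (Ω[B⁄A] ⧸ (𝔟 ^ n • ⊤ : Submodule B (Ω[B⁄A]))) :=
      Submodule.Quotient.subsingleton_iff.2 (htop n)
    exact Subsingleton.elim _ _
  · intro hΩ E _ _ _ J hJ v₁ v₂ hv₁ hv₂ hv
    obtain ⟨m₁, hm₁⟩ := hv₁
    obtain ⟨m₂, hm₂⟩ := hv₂
    let m := max m₁ m₂
    let I : Ideal B := 𝔟 ^ m
    have htop : (I • ⊤ : Submodule B (Ω[B⁄A])) = ⊤ := by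
      have hs : Subsingleton (Ω[B⁄A] ⧸ (𝔟 ^ m • ⊤ : Submodule B (Ω[B⁄A]))) :=
        (AdicCompletion.eval_surjective 𝔟 (Ω[B⁄A]) m).subsingleton
      exact Submodule.Quotient.subsingleton_iff.1 hs
    have hsurj : Function.Surjective (KaehlerDifferential.map A A B (B ⧸ I)) :=
      KaehlerDifferential.map_surjective_of_surjective A A B (B ⧸ I) Ideal.Quotient.mk_surjective
    have htop' : (I • ⊤ : Submodule B (Ω[B ⧸ I⁄A])) = ⊤ := by
      have h1 : (⊤ : Submodule B (Ω[B⁄A])).map (KaehlerDifferential.map A A B (B ⧸ I)) = ⊤ := by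
        rw [Submodule.map_top, LinearMap.range_eq_top]
        exact hsurj
      rw [← h1, ← Submodule.map_smul'', htop]
    have hzero : (I • ⊤ : Submodule B (Ω[B ⧸ I⁄A])) = ⊥ := by
      rw [eq_bot_iff, Submodule.smul_le]
      intro a ha ω _
      rw [Submodule.mem_bot, ← algebraMap_smul (B ⧸ I) a ω]
      have : algebraMap B (B ⧸ I) a = 0 := by
        rw [Ideal.Quotient.algebraMap_eq, Ideal.Quotient.eq_zero_iff_mem]
        exact ha
      rw [this, zero_smul]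
    have hsub : Subsingleton (Ω[B ⧸ I⁄A]) := by
      have h1 : (⊤ : Submodule B (Ω[B ⧸ I⁄A])) = ⊥ := htop'.symm.trans hzero
      refine ⟨fun x y => ?_⟩
      have hx : x ∈ (⊤ : Submodule B (Ω[B ⧸ I⁄A])) := Submodule.mem_top
      have hy : y ∈ (⊤ : Submodule B (Ω[B ⧸ I⁄A])) := Submodule.mem_top
      rw [h1, Submodule.mem_bot] at hx hy
      rw [hx, hy]
    haveI : Algebra.FormallyUnramified A (B ⧸ I) := ⟨hsub⟩
    have hI₁ : ∀ x ∈ I, v₁ x = 0 := fun x hx =>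
      hm₁ x (Ideal.pow_le_pow_right (le_max_left m₁ m₂) hx)
    have hI₂ : ∀ x ∈ I, v₂ x = 0 := fun x hx =>
      hm₂ x (Ideal.pow_le_pow_right (le_max_right m₁ m₂) hx)
    let w₁ : B ⧸ I →ₐ[A] E := Ideal.Quotient.liftₐ I v₁ hI₁
    let w₂ : B ⧸ I →ₐ[A] E := Ideal.Quotient.liftₐ I v₂ hI₂
    have hw : w₁ = w₂ := Algebra.FormallyUnramified.ext J hJ (fun x => by
      obtain ⟨b, rfl⟩ := Ideal.Quotient.mk_surjective x
      exact hv b)
    ext b
    exact AlgHom.congr_fun hw (Ideal.Quotient.mk I b)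

end Groth.Agent.S4559
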