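import Groth.Statements.S4560
import Mathlib.RingTheory.Kaehler.TensorProduct
import Mathlib.RingTheory.TensorProduct.Quotient
import Mathlib.RingTheory.Unramified.Basic
import Mathlib.LinearAlgebra.TensorProduct.Quotient

set_option autoImplicit false
universe u
open EGA41

namespace Groth.Agent.S4560

open TensorProduct

section Aux

variable {A B : Type u} [CommRing A] [CommRing B] [Algebra A B] (𝔪 : Ideal A)

attribute [local instance] Algebra.TensorProduct.rightAlgebra in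
lemma isPushout_quotient :
    Algebra.IsPushout A (A ⧸ 𝔪) B (B ⧸ 𝔪.map (algebraMap A B)) := by
  refine Algebra.IsPushout.of_equiv (S' := (A ⧸ 𝔪) ⊗[A] B)
    (Algebra.TensorProduct.quotIdealMapEquivQuotTensor B 𝔪).symm ?_
  ext b
  change (Algebra.TensorProduct.quotIdealMapEquivQuotTensor B 𝔪).symm (1 ⊗ₜ[A] b) = _
  rw [AlgEquiv.symm_apply_eq]
  exact (Algebra.TensorProduct.quotIdealMapEquivQuotTensor_mk B 𝔪 b).symm

/-- If `Ω_{B₀/A₀} = 0` then `Ω_{B/A} = 𝔪 Ω_{B/A}`. -/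
lemma kaehler_eq_smul_top
    (h : Subsingleton (Ω[B ⧸ 𝔪.map (algebraMap A B)⁄A ⧸ 𝔪])) :
    (𝔪 • ⊤ : Submodule A (Ω[B⁄A])) = ⊤ := by
  haveI := isPushout_quotient (B := B) 𝔪
  have e1 := KaehlerDifferential.tensorKaehlerEquivBase A (A ⧸ 𝔪) B (B ⧸ 𝔪.map (algebraMap A B))
  have e2 := TensorProduct.quotTensorEquivQuotSMul (Ω[B⁄A]) 𝔪
  have hs : Subsingleton ((Ω[B⁄A]) ⧸ (𝔪 • ⊤ : Submodule A (Ω[B⁄A]))) :=
    (e2.symm.toEquiv.trans e1.toEquiv).subsingleton
  exact Submodule.Quotient.subsingleton_iff.1 hs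

end Aux

/-- Let A be a ring, 𝔪 an ideal of A, B an A-algebra; give A the 𝔪-adic topology and B the topology
deduced from it (the 𝔪B-adic topology), and put A₀ = A/𝔪, B₀ = B/𝔪B. Then B is a formally unramified
A-algebra (for these topologies: E discrete means killed by a power of 𝔪, and continuity of maps B →
E is then automatic) if and only if Ω_{B₀/A₀} = 0, i.e. B₀ is a formally unramified A₀-algebra. -/
theorem result {A B : Type u} [CommRing A] [CommRing B] [Algebra A B] (𝔪 : Ideal A) :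
    (∀ (E : Type u) [CommRing E] [Algebra A E], (∃ k : ℕ, (𝔪 ^ k).map (algebraMap A E) = ⊥) →
      ∀ J : Ideal E, IsNilpotent J → ∀ v₁ v₂ : B →ₐ[A] E,
        (∀ b : B, Ideal.Quotient.mk J (v₁ b) = Ideal.Quotient.mk J (v₂ b)) → v₁ = v₂) ↔
    Subsingleton (Ω[B ⧸ 𝔪.map (algebraMap A B)⁄A ⧸ 𝔪]) := by
  constructor
  · intro H
    suffices Algebra.FormallyUnramified (A ⧸ 𝔪) (B ⧸ 𝔪.map (algebraMap A B)) from
      this.subsingleton_kaehlerDifferential
    rw [Algebra.FormallyUnramified.iff_comp_injective]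
    intro C _ _ I hI g₁ g₂ hg
    letI : Algebra A C := ((algebraMap (A ⧸ 𝔪) C).comp (Ideal.Quotient.mk 𝔪)).toAlgebra
    haveI : IsScalarTower A (A ⧸ 𝔪) C := IsScalarTower.of_algebraMap_eq (fun x => rfl)
    let π : B →ₐ[A] B ⧸ 𝔪.map (algebraMap A B) := Ideal.Quotient.mkₐ A _
    let v₁ : B →ₐ[A] C := (g₁.restrictScalars A).comp π
    let v₂ : B →ₐ[A] C := (g₂.restrictScalars A).comp π
    have hC : (𝔪 ^ 1).map (algebraMap A C) = ⊥ := by
      rw [pow_one, eq_bot_iff, Ideal.map_le_iff_le_comap]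
      intro a ha
      rw [Ideal.mem_comap, Ideal.mem_bot]
      change algebraMap (A ⧸ 𝔪) C (Ideal.Quotient.mk 𝔪 a) = 0
      rw [Ideal.Quotient.eq_zero_iff_mem.2 ha, map_zero]
    have h12 := H C ⟨1, hC⟩ I ⟨2, hI⟩ v₁ v₂ (fun b => AlgHom.congr_fun hg (π b))
    ext x
    obtain ⟨b, rfl⟩ := Ideal.Quotient.mk_surjective x
    exact AlgHom.congr_fun h12 b
  · intro hΩ E _ _ hE J hJ v₁ v₂ hv
    obtain ⟨k, hk⟩ := hE
    have htop : (𝔪 • ⊤ : Submodule A (Ω[B⁄A])) = ⊤ := kaehler_eq_smul_top 𝔪 hΩ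
    let I : Ideal B := (𝔪 ^ k).map (algebraMap A B)
    have hsurj : Function.Surjective (KaehlerDifferential.map A A B (B ⧸ I)) :=
      KaehlerDifferential.map_surjective_of_surjective A A B (B ⧸ I) Ideal.Quotient.mk_surjective
    have htop' : (𝔪 • ⊤ : Submodule A (Ω[B ⧸ I⁄A])) = ⊤ := by
      have h1 : (⊤ : Submodule A (Ω[B⁄A])).map
          ((KaehlerDifferential.map A A B (B ⧸ I)).restrictScalars A) = ⊤ := by
        rw [Submodule.map_top, LinearMap.range_eq_top]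
        exact hsurj
      rw [← h1, ← Submodule.map_smul'', htop]
    have hpow : ∀ j : ℕ, (𝔪 ^ j • ⊤ : Submodule A (Ω[B ⧸ I⁄A])) = ⊤ := by
      intro j
      induction j with
      | zero => simp
      | succ j ih => rw [pow_succ, Submodule.mul_smul, htop', ih]
    have hzero : (𝔪 ^ k • ⊤ : Submodule A (Ω[B ⧸ I⁄A])) = ⊥ := by
      rw [eq_bot_iff, Submodule.smul_le]
      intro a ha ω _
      rw [Submodule.mem_bot, ← algebraMap_smul (B ⧸ I) a ω]
      have : algebraMap A (B ⧸ I) a = 0 := by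
        rw [IsScalarTower.algebraMap_apply A B (B ⧸ I), Ideal.Quotient.algebraMap_eq,
          Ideal.Quotient.eq_zero_iff_mem]
        exact Ideal.mem_map_of_mem _ ha
      rw [this, zero_smul]
    have hsub : Subsingleton (Ω[B ⧸ I⁄A]) := by
      have h1 : (⊤ : Submodule A (Ω[B ⧸ I⁄A])) = ⊥ := (hpow k).symm.trans hzero
      refine ⟨fun x y => ?_⟩
      have hx : x ∈ (⊤ : Submodule A (Ω[B ⧸ I⁄A])) := Submodule.mem_top
      have hy : y ∈ (⊤ : Submodule A (Ω[B ⧸ I⁄A])) := Submodule.mem_top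
      rw [h1, Submodule.mem_bot] at hx hy
      rw [hx, hy]
    haveI : Algebra.FormallyUnramified A (B ⧸ I) := ⟨hsub⟩
    have hvI : ∀ (v : B →ₐ[A] E), ∀ x ∈ I, v x = 0 := by
      intro v
      change I ≤ RingHom.ker v.toRingHom
      rw [Ideal.map_le_iff_le_comap]
      intro a ha
      rw [Ideal.mem_comap, RingHom.mem_ker]
      have h1 : algebraMap A E a ∈ (𝔪 ^ k).map (algebraMap A E) := Ideal.mem_map_of_mem _ ha
      rw [hk, Ideal.mem_bot] at h1
      rw [← h1]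
      exact v.commutes a
    let w₁ : B ⧸ I →ₐ[A] E := Ideal.Quotient.liftₐ I v₁ (hvI v₁)
    let w₂ : B ⧸ I →ₐ[A] E := Ideal.Quotient.liftₐ I v₂ (hvI v₂)
    have hw : w₁ = w₂ := Algebra.FormallyUnramified.ext J hJ (fun x => by
      obtain ⟨b, rfl⟩ := Ideal.Quotient.mk_surjective x
      exact hv b)
    ext b
    exact AlgHom.congr_fun hw (Ideal.Quotient.mk I b)

end Groth.Agent.S4560
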