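import Groth.Statements.S4561
import Mathlib

set_option autoImplicit false
universe u
open EGA41

namespace Groth.Agent.S4561.Aux

open MvPowerSeries

section
variable (p : ℕ) [Fact p.Prime] {k₀ K₀ : Type u} [Field k₀] [Field K₀] [Algebra k₀ K₀] [CharP k₀ p]

/-- the p-th power subfield -/
abbrev PP (K₀ : Type u) [Field K₀] (p : ℕ) : Subfield K₀ :=
  Subfield.closure (Set.range fun y : K₀ => y ^ p)

abbrev F1 (k₀ K₀ : Type u) [Field k₀] [Field K₀] [Algebra k₀ K₀] (p : ℕ) : Subfield K₀ :=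
  Subfield.closure (Set.range (algebraMap k₀ K₀) ∪ Set.range fun y : K₀ => y ^ p)

omit [Fact p.Prime] [CharP k₀ p] in
lemma map_mem_PP (s : k₀) (hs : s ∈ PP k₀ p) : algebraMap k₀ K₀ s ∈ PP K₀ p := by
  have : PP k₀ p ≤ (PP K₀ p).comap (algebraMap k₀ K₀) := by
    rw [Subfield.closure_le]
    rintro _ ⟨x, rfl⟩
    simp only [Subfield.coe_comap, Set.mem_preimage, map_pow, SetLike.mem_coe]
    exact Subfield.subset_closure ⟨_, rfl⟩
  exact this hs

omit [CharP k₀ p] in
lemma isAlg (x : K₀) : IsAlgebraic (PP K₀ p) x := by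
  have hp : 0 < p := (Fact.out : p.Prime).pos
  apply IsAlgebraic.of_pow hp
  have : x ^ p = algebraMap (PP K₀ p) K₀ ⟨x ^ p, Subfield.subset_closure ⟨x, rfl⟩⟩ := rfl
  rw [this]
  exact isAlgebraic_algebraMap _

omit [CharP k₀ p] in
lemma exists_coords (hfin : Module.Finite (PP k₀ p) k₀) :
    ∃ (m : ℕ) (b : Fin m → k₀), ∀ x ∈ F1 k₀ K₀ p, ∃ a : Fin m → PP K₀ p,
      x = ∑ i, (a i : K₀) * algebraMap k₀ K₀ (b i) := by
  obtain ⟨m, b, hb⟩ := Module.Finite.exists_fin (R := PP k₀ p) (M := k₀)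
  refine ⟨m, b, ?_⟩
  set β : Fin m → K₀ := fun i => algebraMap k₀ K₀ (b i) with hβ
  let V : Submodule (PP K₀ p) K₀ := Submodule.span (PP K₀ p) (Set.range β)
  have hk : ∀ x : k₀, algebraMap k₀ K₀ x ∈ V := by
    intro x
    have hx : x ∈ Submodule.span (PP k₀ p) (Set.range b) := by rw [hb]; trivial
    obtain ⟨c, rfl⟩ := (Submodule.mem_span_range_iff_exists_fun _).1 hx
    rw [map_sum]
    refine Submodule.sum_mem _ fun i _ => ?_
    have : algebraMap k₀ K₀ (c i • b i) =
        (⟨algebraMap k₀ K₀ (c i : k₀), map_mem_PP p _ (c i).2⟩ : PP K₀ p) • β i := by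
      rw [Subfield.smul_def, Subfield.smul_def, smul_eq_mul, smul_eq_mul, map_mul]
    rw [this]
    exact Submodule.smul_mem _ _ (Submodule.subset_span ⟨i, rfl⟩)
  have h1 : (1 : K₀) ∈ V := by simpa using hk 1
  have hP : ∀ y ∈ PP K₀ p, y ∈ V := by
    intro y hy
    have : y = (⟨y, hy⟩ : PP K₀ p) • (1 : K₀) := by
      rw [Subfield.smul_def, smul_eq_mul, mul_one]
    rw [this]
    exact Submodule.smul_mem _ _ h1
  have hmul : ∀ x y, x ∈ V → y ∈ V → x * y ∈ V := by
    intro x y hx hy
    have hle : V * V ≤ V := by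
      rw [Submodule.span_mul_span, Submodule.span_le]
      rintro _ ⟨_, ⟨i, rfl⟩, _, ⟨j, rfl⟩, rfl⟩
      simp only [hβ, ← map_mul]
      exact hk _
    exact hle (Submodule.mul_mem_mul hx hy)
  let W : Subalgebra (PP K₀ p) K₀ := V.toSubalgebra h1 hmul
  have hW : ∀ x, x ∈ W ↔ x ∈ V := fun x => Iff.rfl
  have hinv : ∀ x, x ∈ V → x⁻¹ ∈ V := by
    intro x hx
    have := Subalgebra.inv_mem_of_algebraic (A := W) (x := ⟨x, hx⟩) (isAlg p x)
    exact this
  have hF : ∀ x ∈ F1 k₀ K₀ p, x ∈ V := by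
    intro x hx
    induction hx using Subfield.closure_induction with
    | mem x hx =>
      rcases hx with ⟨y, rfl⟩ | ⟨y, rfl⟩
      · exact hk y
      · exact hP _ (Subfield.subset_closure ⟨y, rfl⟩)
    | one => exact h1
    | add x y _ _ hx hy => exact V.add_mem hx hy
    | neg x _ hx => exact V.neg_mem hx
    | inv x _ hx => exact hinv x hx
    | mul x y _ _ hx hy => exact hmul x y hx hy
  intro x hx
  obtain ⟨c, rfl⟩ := (Submodule.mem_span_range_iff_exists_fun _).1 (hF x hx)
  refine ⟨c, ?_⟩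
  simp only [Subfield.smul_def, smul_eq_mul, hβ]

omit [Fact p.Prime] [CharP k₀ p] in
lemma algMap_eq (r : ℕ) (b : k₀) : algebraMap k₀ (FractionRing (MvPowerSeries (Fin r) K₀)) b =
   algebraMap (MvPowerSeries (Fin r) K₀) (FractionRing (MvPowerSeries (Fin r) K₀))
    (C (algebraMap k₀ K₀ b)) := by
  rw [IsScalarTower.algebraMap_apply k₀ (MvPowerSeries (Fin r) K₀), MvPowerSeries.algebraMap_apply]

end

end Groth.Agent.S4561.Aux

namespace Groth.Agent.S4561

/-- Let k₀ be a field of characteristic p > 0 with [k₀ : k₀^p] < ∞ and K₀ an extension of k₀. Inside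
K₀((T_1, …, T_r)) one has (k₀(K₀^p))((T_1, …, T_r)) = k₀(K₀^p((T_1, …, T_r))); here, for a subfield
F of K₀, F((T)) denotes the subfield of the fraction field of K₀[[T]] generated by the power series
with all coefficients in F. -/
theorem result (p : ℕ) [Fact p.Prime] {k₀ K₀ : Type u} [Field k₀] [Field K₀] [Algebra k₀ K₀] [CharP k₀ p]
    (hfin : Module.Finite (Subfield.closure (Set.range fun x : k₀ => x ^ p)) k₀) (r : ℕ) :
    Subfield.closure (algebraMap (MvPowerSeries (Fin r) K₀) (FractionRing (MvPowerSeries (Fin r) K₀)) ''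
        {f | ∀ n, MvPowerSeries.coeff n f ∈
          Subfield.closure (Set.range (algebraMap k₀ K₀) ∪ Set.range fun y : K₀ => y ^ p)}) =
      Subfield.closure
        (Set.range (algebraMap k₀ (FractionRing (MvPowerSeries (Fin r) K₀))) ∪
          (Subfield.closure (algebraMap (MvPowerSeries (Fin r) K₀) (FractionRing (MvPowerSeries (Fin r) K₀)) ''
            {f | ∀ n, MvPowerSeries.coeff n f ∈ Subfield.closure (Set.range fun y : K₀ => y ^ p)}) :
            Set (FractionRing (MvPowerSeries (Fin r) K₀)))) := by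
  obtain ⟨m, b, hb⟩ := Aux.exists_coords (K₀ := K₀) p hfin
  apply le_antisymm
  · rw [Subfield.closure_le]
    rintro _ ⟨f, hf, rfl⟩
    choose a ha using fun n => hb _ (hf n)
    let g : Fin m → MvPowerSeries (Fin r) K₀ := fun i n => ((a n i : Aux.PP K₀ p) : K₀)
    have hfe : f = ∑ i, MvPowerSeries.C (algebraMap k₀ K₀ (b i)) * g i := by
      ext n
      rw [map_sum, ha n]
      refine Finset.sum_congr rfl fun i _ => ?_
      rw [MvPowerSeries.coeff_C_mul, mul_comm]
      rfl
    rw [hfe, map_sum]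
    refine Subfield.sum_mem _ fun i _ => ?_
    rw [map_mul]
    refine Subfield.mul_mem _ ?_ ?_
    · rw [← Aux.algMap_eq]
      exact Subfield.subset_closure (Or.inl ⟨_, rfl⟩)
    · refine Subfield.subset_closure (Or.inr ?_)
      refine Subfield.subset_closure ⟨_, ?_, rfl⟩
      intro n
      exact (a n i).2
  · rw [Subfield.closure_le]
    rintro x (⟨y, rfl⟩ | hx)
    · rw [Aux.algMap_eq]
      refine Subfield.subset_closure ⟨_, ?_, rfl⟩
      intro n
      rw [MvPowerSeries.coeff_C]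
      split_ifs
      · exact Subfield.subset_closure (Or.inl ⟨_, rfl⟩)
      · exact Subfield.zero_mem _
    · revert x
      change Subfield.closure _ ≤ Subfield.closure _
      apply Subfield.closure_mono
      apply Set.image_mono
      intro f hf n
      have : Aux.PP K₀ p ≤ Aux.F1 k₀ K₀ p := Subfield.closure_mono Set.subset_union_right
      exact this (hf n)

end Groth.Agent.S4561
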