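import Groth.Statements.S4562
import Mathlib
import Groth.Agent.Lib.Helper48.PureInsepN2

set_option autoImplicit false
universe u
open CAlg

namespace Groth.Agent.S4562

/-- Let A be a Noetherian domain with fraction field K. If the integral closure of A in every finite
purely inseparable extension of K is a finitely generated A-module, then A is Japanese (N-2). -/
theorem result (A : Type u) [CommRing A] [IsDomain A]
    [IsNoetherianRing A]
    (h : ∀ (K' : Type u) [Field K'] [Algebra A K'] [Algebra (FractionRing A) K']
      [IsScalarTower A (FractionRing A) K'], FiniteDimensional (FractionRing A) K' →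
      IsPurelyInseparable (FractionRing A) K' → Module.Finite A (integralClosure A K')) :
    CAlg.IsN2 A := by
  intro L _ _ _ _ hL
  exact Groth.Agent.Lib.Helper48.finite_integralClosure_of_forall_purelyInseparable A
    (FractionRing A) (fun K' _ _ _ _ h1 h2 => h K' h1 h2) L

end Groth.Agent.S4562
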