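import Groth.Statements.S4567
import Groth.Agent.Lib.Helper38.NormAff

set_option autoImplicit false
universe u
open AlgebraicGeometry
open CAlg2

namespace Groth.Agent.S4567

open Groth.Agent.Lib.Helper38

/-- Let A be a domain with integral closure A' (in its fraction field) and f : Spec A' → Spec A the
canonical morphism. Then f is radicial (universally injective) if and only if every local ring A_p
is geometrically unibranch; when this holds f is a homeomorphism. -/
theorem result {A : Type u} [CommRing A] [IsDomain A] :
    (UniversallyInjective (Spec.map (CommRingCat.ofHom (algebraMap A (integralClosure A (FractionRing A))))) ↔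
      ∀ (p : Ideal A) [p.IsPrime], CAlg2.IsGeomUnibranch (Localization.AtPrime p)) ∧
    ((∀ (p : Ideal A) [p.IsPrime], CAlg2.IsGeomUnibranch (Localization.AtPrime p)) →
      IsHomeomorph (PrimeSpectrum.comap (algebraMap A (integralClosure A (FractionRing A))))) := by
  have hφ := NormAff.isFracExt_algebraMap A
  have hφi := NormAff.isIntegral_algebraMap A
  have hiff : UniversallyInjective (Spec.map (CommRingCat.ofHom
      (algebraMap A (integralClosure A (FractionRing A))))) ↔
      ∀ (p : Ideal A) [p.IsPrime], CAlg2.IsGeomUnibranch (Localization.AtPrime p) := by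
    constructor
    · intro hU p _
      obtain ⟨β, hβ⟩ := NormAff.exists_beta hφ hφi p
      apply NormAff.isGeomUnibranch_of hφ hφi p hβ
      · intro Q₁ Q₂ h1 h2 hc1 hc2
        have hinj := (Spec.map (CommRingCat.ofHom
          (algebraMap A (integralClosure A (FractionRing A))))).injective
        have h3 : (Spec.map (CommRingCat.ofHom
            (algebraMap A (integralClosure A (FractionRing A))))) (⟨Q₁, h1⟩ : PrimeSpectrum _) =
            (Spec.map (CommRingCat.ofHom
            (algebraMap A (integralClosure A (FractionRing A))))) (⟨Q₂, h2⟩ : PrimeSpectrum _) :=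
          PrimeSpectrum.ext (hc1.trans hc2.symm)
        exact congrArg PrimeSpectrum.asIdeal (hinj h3)
      · exact (NormAff.universallyInjective_SpecMap_iff _).mp hU
    · intro h
      rw [NormAff.universallyInjective_SpecMap_iff]
      intro K _ g₁ g₂ h12
      haveI : (RingHom.ker (g₁.comp (algebraMap A (integralClosure A (FractionRing A))))).IsPrime :=
        RingHom.ker_isPrime _
      obtain ⟨β, hβ⟩ := NormAff.exists_beta hφ hφi
        (RingHom.ker (g₁.comp (algebraMap A (integralClosure A (FractionRing A)))))
      exact NormAff.eq_of_isGeomUnibranch hφ hφi _ hβ (h _) g₁ g₂ h12 rfl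
  refine ⟨hiff, fun h => ?_⟩
  haveI hU := hiff.mpr h
  rw [isHomeomorph_iff_continuous_isClosedMap_bijective]
  refine ⟨PrimeSpectrum.continuous_comap _, PrimeSpectrum.isClosedMap_comap_of_isIntegral _ hφi,
    ?_, Algebra.IsIntegral.comap_surjective _ _⟩
  exact (Spec.map (CommRingCat.ofHom
    (algebraMap A (integralClosure A (FractionRing A))))).injective

end Groth.Agent.S4567
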