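import Groth.Statements.S4568
import Mathlib
import Groth.Agent.Lib.Helper48.MoriNagataGlobal

set_option autoImplicit false
universe u
open CAlg

namespace Groth.Agent.S4568

/-- Let A be a Noetherian domain with fraction field K and A' its integral closure in K. Assume that for
every sub-A-algebra C of A' which is finite over A, every height-one prime of C lies over a
height-one prime of A. Then A' is the intersection in K of the localizations A'_p over the
height-one primes p of A. -/
theorem result {A : Type u} [CommRing A] [IsDomain A] [IsNoetherianRing A]
    (h : ∀ C : Subalgebra A (FractionRing A), C ≤ integralClosure A (FractionRing A) → Module.Finite A C →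
      ∀ (q : Ideal C) [q.IsPrime], q.height = 1 → (q.comap (algebraMap A C)).height = 1) :
    (integralClosure A (FractionRing A) : Set (FractionRing A)) =
      ⋂ (p : PrimeSpectrum A) (_ : p.asIdeal.height = 1),
        {x : FractionRing A | ∃ s : A, s ∉ p.asIdeal ∧
          algebraMap A (FractionRing A) s * x ∈ integralClosure A (FractionRing A)} := by
  apply Set.Subset.antisymm
  · intro x hx
    simp only [Set.mem_iInter]
    intro p hp
    refine ⟨1, (Ideal.ne_top_iff_one _).mp p.2.ne_top, ?_⟩
    rw [map_one, one_mul]
    exact hx
  · intro x hx
    simp only [Set.mem_iInter] at hx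
    by_contra hxA'
    have hxnot : ¬ IsIntegral A x := hxA'
    obtain ⟨C, hCint, hCfin, q, hqprime, hq1, hqx⟩ :=
      Groth.Agent.Lib.Helper48.exists_height_one_prime_of_not_isIntegral (FractionRing A) x hxnot
    have hp1 := h C hCint hCfin q hq1
    haveI : (q.comap (algebraMap A C)).IsPrime := Ideal.comap_isPrime _ q
    obtain ⟨s, hs, hsx⟩ := hx ⟨q.comap (algebraMap A C), inferInstance⟩ hp1
    exact hqx s hs hsx

end Groth.Agent.S4568
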