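import Groth.Statements.S4569
import Mathlib.Tactic.LinearCombination
import Mathlib.Tactic.Ring

set_option autoImplicit false
universe u
open CAlg

namespace Groth.Agent.S4569

/-- If `x` is a non-zero-divisor generating a prime ideal and `s ∉ (x)`, `s * a ∈ (x ^ n)`, then
`a ∈ (x ^ n)`. -/
theorem mem_span_pow_of_mul_mem {A : Type u} [CommRing A] (x : A)
    (hx : x ∈ nonZeroDivisors A) [hp : (Ideal.span ({x} : Set A)).IsPrime] (n : ℕ) :
    ∀ (s a : A), s ∉ Ideal.span ({x} : Set A) → s * a ∈ Ideal.span ({x ^ n} : Set A) →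
      a ∈ Ideal.span ({x ^ n} : Set A) := by
  induction n with
  | zero =>
    intro s a _ _
    simp
  | succ n ih =>
    intro s a hs hsa
    rw [Ideal.mem_span_singleton'] at hsa
    obtain ⟨b, hb⟩ := hsa
    have h1 : s * a ∈ Ideal.span ({x} : Set A) := by
      rw [← hb, pow_succ, ← mul_assoc]
      exact Ideal.mul_mem_left _ _ (Ideal.mem_span_singleton_self x)
    have h2 : a ∈ Ideal.span ({x} : Set A) := (hp.mem_or_mem h1).resolve_left hs
    rw [Ideal.mem_span_singleton'] at h2
    obtain ⟨a', rfl⟩ := h2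
    have h3 : s * a' = b * x ^ n := by
      have h0 : (s * a' - b * x ^ n) * x = 0 := by
        have : b * x ^ (n + 1) = s * (a' * x) := hb
        rw [pow_succ] at this
        linear_combination -this
      exact sub_eq_zero.mp ((mem_nonZeroDivisors_iff_right.mp hx) _ h0)
    have h4 : a' ∈ Ideal.span ({x ^ n} : Set A) := by
      refine ih s a' hs ?_
      rw [h3]
      exact Ideal.mul_mem_left _ _ (Ideal.mem_span_singleton_self _)
    rw [Ideal.mem_span_singleton'] at h4 ⊢
    obtain ⟨c, hc⟩ := h4
    exact ⟨c, by rw [pow_succ, ← mul_assoc, hc]⟩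

/-- Let A be a ring, x a non-zero-divisor of A with p = xA prime. For every n > 0 the inverse image in A
of x^n A_p is x^n A. -/
theorem result {A : Type u} [CommRing A] (x : A)
    (hx : x ∈ nonZeroDivisors A) [(Ideal.span ({x} : Set A)).IsPrime] (n : ℕ) (hn : 0 < n) :
    Ideal.comap (algebraMap A (Localization.AtPrime (Ideal.span ({x} : Set A))))
      (Ideal.map (algebraMap A (Localization.AtPrime (Ideal.span ({x} : Set A)))) (Ideal.span ({x ^ n} : Set A))) =
      Ideal.span ({x ^ n} : Set A) := by
  refine le_antisymm ?_ Ideal.le_comap_map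
  intro a ha
  rw [Ideal.mem_comap, IsLocalization.algebraMap_mem_map_algebraMap_iff
    (Ideal.span ({x} : Set A)).primeCompl] at ha
  obtain ⟨s, hs, hsa⟩ := ha
  exact mem_span_pow_of_mul_mem x hx n s a hs hsa

end Groth.Agent.S4569
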