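import Groth.Statements.S4578
-- import your own Groth.Agent.* helpers here
import Mathlib
import Groth.Agent.S2463
import Groth.Agent.S4573
import Groth.Agent.Lib.Helper90.SmoothRegular3
import Groth.Agent.Lib.Helper62.LocalJacobianAdic

set_option autoImplicit false
universe u
open IsLocalRing
open EGA41

namespace Groth.Agent.S4578

open Groth.Agent.Lib.Helper62.JacobianFS Groth.Agent.Lib.Helper62.LocalJacobianAdic

/-- Core statement with a presentation `B → C`, `B` Noetherian and formally smooth over `k₀`. -/
theorem aux {k₀ B C : Type u} [Field k₀] [CommRing B] [CommRing C] [Algebra k₀ B] [Algebra B C]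
    [Algebra k₀ C] [IsScalarTower k₀ B C] [IsNoetherianRing B] [Algebra.FormallySmooth k₀ B]
    (hsurj : Function.Surjective (algebraMap B C)) (p : Ideal C) [p.IsPrime] :
    [Algebra.FormallySmooth k₀ (Localization.AtPrime p),
     CAlgX.IsAdicFormallySmooth k₀ (Localization.AtPrime p) (maximalIdeal (Localization.AtPrime p)),
     ∃ f : C, f ∉ p ∧ Algebra.FormallySmooth k₀ (Localization.Away f),
     CAlg.IsGeometricallyRegular k₀ (Localization.AtPrime p)].TFAE := by
  have hfin : Module.Finite B (RingHom.ker (algebraMap B C)).Cotangent :=
    Module.Finite.of_surjective (RingHom.ker (algebraMap B C)).toCotangent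
      (Ideal.toCotangent_surjective _)
  have hJ := Groth.Agent.S2463.result (A := k₀) hsurj p
  have : IsNoetherianRing C := isNoetherianRing_of_surjective B C _ hsurj
  have : IsNoetherianRing (Localization.AtPrime p) :=
    IsLocalization.isNoetherianRing p.primeCompl _ inferInstance
  tfae_have 1 ↔ 3 := hJ.out 0 2
  tfae_have 1 → 2 := fun h => isAdicFormallySmooth_of_formallySmooth _
  tfae_have 2 → 1 := by
    intro h
    let q' : Ideal B := p.comap (algebraMap B C)
    have : q'.IsPrime := Ideal.comap_isPrime _ _
    have : p.LiesOver q' := ⟨rfl⟩
    let _ := Localization.AtPrime.algebraOfLiesOver q' p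
    have hsurjP : Function.Surjective
        (algebraMap (Localization.AtPrime q') (Localization.AtPrime p)) :=
      localRingHom_surjective q' p hsurj
    have : Algebra.FormallyEtale B (Localization.AtPrime q') :=
      Algebra.FormallyEtale.of_isLocalization q'.primeCompl
    have : Algebra.FormallySmooth k₀ (Localization.AtPrime q') :=
      Algebra.FormallySmooth.comp k₀ B _
    have : IsNoetherianRing (Localization.AtPrime q') :=
      IsLocalization.isNoetherianRing q'.primeCompl _ inferInstance
    exact formallySmooth_of_isAdicFormallySmooth (R₀ := k₀) (R₁ := k₀)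
      (P := Localization.AtPrime q') hsurjP h
  tfae_have 2 → 4 := fun h =>
    Groth.Agent.Lib.Helper90.SmoothRegular.isGeometricallyRegular_of_smooth h
  tfae_have 4 → 2 := by
    intro h
    obtain ⟨q, hq⟩ := ExpChar.exists k₀
    refine (Groth.Agent.S4573.result (k := k₀) (A := Localization.AtPrime p) q).mpr ?_
    intro k' _ _ hfin' _
    exact h k' hfin'
  tfae_finish

/-- Let k₀ be a field, k an extension field of k₀ which is separable (formally smooth) over k₀, C a
k-algebra of finite type and p a prime ideal of C. The following are equivalent: C_p is formally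
smooth over k₀ (discrete topologies); C_p is formally smooth over k₀ for the adic topology of its
maximal ideal; C_f is formally smooth over k₀ for some f ∉ p; C_p is geometrically regular over k₀.
(The published statement adds that the set of primes p having these properties is open in Spec C;
that openness is not stated here.) -/
theorem result {k₀ k C : Type u} [Field k₀] [Field k] [Algebra k₀ k]
    [Algebra.FormallySmooth k₀ k] [CommRing C] [Algebra k C] [Algebra k₀ C] [IsScalarTower k₀ k C]
    [Algebra.FiniteType k C]
    (p : Ideal C) [p.IsPrime] :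
    [Algebra.FormallySmooth k₀ (Localization.AtPrime p),
     CAlgX.IsAdicFormallySmooth k₀ (Localization.AtPrime p) (maximalIdeal (Localization.AtPrime p)),
     ∃ f : C, f ∉ p ∧ Algebra.FormallySmooth k₀ (Localization.Away f),
     CAlg.IsGeometricallyRegular k₀ (Localization.AtPrime p)].TFAE := by
  obtain ⟨n, φ, hφ⟩ := Algebra.FiniteType.iff_quotient_mvPolynomial''.mp
    (inferInstance : Algebra.FiniteType k C)
  let _ : Algebra (MvPolynomial (Fin n) k) C := φ.toRingHom.toAlgebra
  have : IsScalarTower k₀ (MvPolynomial (Fin n) k) C := by
    refine IsScalarTower.of_algebraMap_eq' ?_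
    ext x
    show algebraMap k₀ C x = φ (algebraMap k₀ (MvPolynomial (Fin n) k) x)
    rw [IsScalarTower.algebraMap_apply k₀ k (MvPolynomial (Fin n) k), AlgHom.commutes,
      ← IsScalarTower.algebraMap_apply]
  have : Algebra.FormallySmooth k₀ (MvPolynomial (Fin n) k) :=
    Algebra.FormallySmooth.comp k₀ k _
  exact aux (B := MvPolynomial (Fin n) k) hφ p

end Groth.Agent.S4578
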