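import Groth.Statements.S4579
-- import your own Groth.Agent.* helpers here
import Mathlib
import Groth.Agent.S4578
import Groth.Agent.Lib.Helper62.JacobianGlobal
import Groth.Agent.Lib.Helper73.RegularLocalization

set_option autoImplicit false
universe u
open EGA41

namespace Groth.Agent.S4579

open TensorProduct Groth.Agent.Lib.Helper73.RegularRing

/-- If `k' ⊗ C_p` is regular for every prime `p` of `C` then `k' ⊗ C` is regular. -/
theorem isRegularRing_tensor_of_local {k₀ k' C : Type u} [Field k₀] [Field k'] [Algebra k₀ k']
    [Module.Finite k₀ k'] [CommRing C] [IsNoetherianRing C] [Algebra k₀ C]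
    (h : ∀ (p : Ideal C) [p.IsPrime], IsRegularRing (k' ⊗[k₀] Localization.AtPrime p)) :
    IsRegularRing (k' ⊗[k₀] C) := by
  have hnoeth : IsNoetherianRing (k' ⊗[k₀] C) := by
    let _ : Algebra C (k' ⊗[k₀] C) := Algebra.TensorProduct.rightAlgebra
    have : Module.Finite C (k' ⊗[k₀] C) :=
      Module.Finite.equiv (Algebra.TensorProduct.commRight k₀ C k').toLinearEquiv
    exact IsNoetherianRing.of_finite C (k' ⊗[k₀] C)
  rw [isRegularRing_iff]
  intro P hP
  let ι : C →ₐ[k₀] k' ⊗[k₀] C := Algebra.TensorProduct.includeRight
  let p : Ideal C := P.comap ι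
  have hp : p.IsPrime := Ideal.comap_isPrime _ _
  let T : Submonoid (k' ⊗[k₀] C) := p.primeCompl.map ι
  have h1 : IsRegularRing (k' ⊗[k₀] Localization.AtPrime p) := h p
  let e := IsLocalization.tensorProductEquivOfMapIncludeRight k₀ k' p.primeCompl
    (Localization.AtPrime p) (Localization T)
  have h2 : IsRegularRing (Localization T) := IsRegularRing.of_ringEquiv e.toRingEquiv
  have hdisj : Disjoint (T : Set (k' ⊗[k₀] C)) (P : Set (k' ⊗[k₀] C)) := by
    rw [Set.disjoint_left]
    rintro _ ⟨c, hc, rfl⟩ hmem
    exact hc hmem
  let Q : Ideal (Localization T) := P.map (algebraMap (k' ⊗[k₀] C) (Localization T))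
  have hQ : Q.IsPrime := IsLocalization.isPrime_of_isPrime_disjoint T _ P hP hdisj
  have hcomap : Q.comap (algebraMap (k' ⊗[k₀] C) (Localization T)) = P :=
    IsLocalization.under_map_of_isPrime_disjoint T _ hP hdisj
  have loc2 : IsLocalization.AtPrime (Localization.AtPrime Q)
      (Q.comap (algebraMap (k' ⊗[k₀] C) (Localization T))) :=
    IsLocalization.isLocalization_isLocalization_atPrime_isLocalization T
      (Localization.AtPrime Q) Q
  have h3 : IsRegularLocalRing (Localization.AtPrime Q) := inferInstance
  have hpc : (Q.comap (algebraMap (k' ⊗[k₀] C) (Localization T))).primeCompl = P.primeCompl := by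
    ext x
    show x ∉ Q.comap _ ↔ x ∉ P
    rw [hcomap]
  have loc3 : IsLocalization P.primeCompl (Localization.AtPrime Q) := by
    rw [← hpc]
    exact loc2
  let e' := IsLocalization.algEquiv P.primeCompl (Localization.AtPrime Q) (Localization.AtPrime P)
  exact IsRegularLocalRing.of_ringEquiv (R := Localization.AtPrime Q) e'.toRingEquiv

/-- If `k' ⊗ C` is regular then so is `k' ⊗ C_p`. -/
theorem isRegularRing_tensor_localization {k₀ k' C : Type u} [Field k₀] [Field k'] [Algebra k₀ k']
    [CommRing C] [Algebra k₀ C] (h : IsRegularRing (k' ⊗[k₀] C)) (p : Ideal C) [p.IsPrime] :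
    IsRegularRing (k' ⊗[k₀] Localization.AtPrime p) := by
  let T : Submonoid (k' ⊗[k₀] C) :=
    p.primeCompl.map (Algebra.TensorProduct.includeRight (R := k₀) (A := k') : C →ₐ[k₀] k' ⊗[k₀] C)
  have h2 : IsRegularRing (Localization T) := inferInstance
  let e := IsLocalization.tensorProductEquivOfMapIncludeRight k₀ k' p.primeCompl
    (Localization.AtPrime p) (Localization T)
  exact IsRegularRing.of_ringEquiv e.symm.toRingEquiv

/-- Let k₀ be a field, k a separable (formally smooth) extension field of k₀ and C a k-algebra of finite
type. The following are equivalent: C is formally smooth over k₀ (discrete topologies); every C_p, p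
prime, is formally smooth over k₀; every C_m, m maximal, is; C is geometrically regular over k₀.
(Geometric regularity is tested on finite extensions of k₀. The published statement quantifies the
last condition over all extensions k' of k₀; for infinite ones the base change need not be
Noetherian, so it need not be regular in the Noetherian sense, and the printed proof passes through
the local rings as here.) -/
theorem result {k₀ k C : Type u} [Field k₀] [Field k] [Algebra k₀ k]
    [Algebra.FormallySmooth k₀ k] [CommRing C] [Algebra k C] [Algebra k₀ C] [IsScalarTower k₀ k C]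
    [Algebra.FiniteType k C] :
    [Algebra.FormallySmooth k₀ C,
     ∀ (p : Ideal C) [p.IsPrime], Algebra.FormallySmooth k₀ (Localization.AtPrime p),
     ∀ (m : Ideal C) [m.IsMaximal], Algebra.FormallySmooth k₀ (Localization.AtPrime m),
     CAlg.IsGeometricallyRegular k₀ C].TFAE := by
  have hnoeth : IsNoetherianRing C := Algebra.FiniteType.isNoetherianRing k C
  tfae_have 1 → 2 := by
    intro h p hp
    have : Algebra.FormallyEtale C (Localization.AtPrime p) :=
      Algebra.FormallyEtale.of_isLocalization p.primeCompl
    exact Algebra.FormallySmooth.comp k₀ C _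
  tfae_have 2 → 3 := fun h m hm => h m
  tfae_have 3 → 1 := by
    intro h
    obtain ⟨n, φ, hφ⟩ := Algebra.FiniteType.iff_quotient_mvPolynomial''.mp
      (inferInstance : Algebra.FiniteType k C)
    let _ : Algebra (MvPolynomial (Fin n) k) C := φ.toRingHom.toAlgebra
    have : IsScalarTower k₀ (MvPolynomial (Fin n) k) C := by
      refine IsScalarTower.of_algebraMap_eq' ?_
      ext x
      show algebraMap k₀ C x = φ (algebraMap k₀ (MvPolynomial (Fin n) k) x)
      rw [IsScalarTower.algebraMap_apply k₀ k (MvPolynomial (Fin n) k), AlgHom.commutes,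
        ← IsScalarTower.algebraMap_apply]
    have : Algebra.FormallySmooth k₀ (MvPolynomial (Fin n) k) :=
      Algebra.FormallySmooth.comp k₀ k _
    exact Groth.Agent.Lib.Helper62.JacobianGlobal.formallySmooth_of_forall_isMaximal
      (B := MvPolynomial (Fin n) k) hφ h
  tfae_have 2 → 4 := by
    intro h k' _ _ hfin
    refine isRegularRing_tensor_of_local (k₀ := k₀) (k' := k') (C := C) ?_
    intro p hp
    have h4 : CAlg.IsGeometricallyRegular k₀ (Localization.AtPrime p) :=
      ((Groth.Agent.S4578.result (k₀ := k₀) (k := k) p).out 0 3).mp (h p)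
    exact h4 k' hfin
  tfae_have 4 → 2 := by
    intro h p hp
    refine ((Groth.Agent.S4578.result (k₀ := k₀) (k := k) p).out 0 3).mpr ?_
    intro k' _ _ hfin
    exact isRegularRing_tensor_localization (h k' hfin) p
  tfae_finish

end Groth.Agent.S4579
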