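import Groth.Statements.S4580
import Mathlib
import Groth.Agent.Lib.Helper62.JacobianFS

set_option autoImplicit false
universe u
open EGA41

namespace Groth.Agent.S4580

open Groth.Agent.Lib.Helper62.JacobianFS KaehlerDifferential

/-- General form: `B` a Noetherian formally smooth `k₀`-algebra. -/
theorem main {k₀ B : Type u} [CommRing k₀] [CommRing B] [Algebra k₀ B]
    [Algebra.FormallySmooth k₀ B] [IsNoetherianRing B] (J q : Ideal B) [q.IsPrime] (hJq : J ≤ q)
    [(q.map (Ideal.Quotient.mk J)).IsPrime] :
    Algebra.FormallySmooth k₀ (Localization.AtPrime (q.map (Ideal.Quotient.mk J))) ↔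
      ∃ (m : ℕ) (f : Fin m → B) (D : Fin m → Derivation k₀ B B),
        (∀ i, f i ∈ J) ∧
        J.map (algebraMap B (Localization.AtPrime q)) =
          Ideal.span (Set.range fun i => algebraMap B (Localization.AtPrime q) (f i)) ∧
        Matrix.det (Matrix.of fun i j => D j (f i)) ∉ q := by
  classical
  set p : Ideal (B ⧸ J) := q.map (Ideal.Quotient.mk J) with hp
  have hover : q = p.comap (algebraMap B (B ⧸ J)) := by
    rw [Ideal.Quotient.algebraMap_eq, hp,
      Ideal.comap_map_of_surjective _ Ideal.Quotient.mk_surjective]
    have : Ideal.comap (Ideal.Quotient.mk J) ⊥ = J := by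
      rw [← RingHom.ker_eq_comap_bot, Ideal.mk_ker]
    rw [this, sup_eq_left.mpr hJq]
  have : p.LiesOver q := ⟨hover⟩
  let _ := Localization.AtPrime.algebraOfLiesOver q p
  have hsurjBC : Function.Surjective (algebraMap B (B ⧸ J)) := Ideal.Quotient.mk_surjective
  have hsurj : Function.Surjective
      (algebraMap (Localization.AtPrime q) (Localization.AtPrime p)) :=
    localRingHom_surjective q p hsurjBC
  have hker : RingHom.ker (algebraMap (Localization.AtPrime q) (Localization.AtPrime p)) =
      J.map (algebraMap B (Localization.AtPrime q)) := by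
    have hkJ : RingHom.ker (algebraMap B (B ⧸ J)) = J := by
      rw [Ideal.Quotient.algebraMap_eq, Ideal.mk_ker]
    have := ker_localRingHom q p hsurjBC
    rw [hkJ] at this
    exact this
  have : Algebra.FormallyEtale B (Localization.AtPrime q) :=
    Algebra.FormallyEtale.of_isLocalization q.primeCompl
  have : Algebra.FormallySmooth k₀ (Localization.AtPrime q) :=
    Algebra.FormallySmooth.comp k₀ B (Localization.AtPrime q)
  constructor
  · intro hfs
    have : IsNoetherianRing (Localization.AtPrime q) :=
      IsLocalization.isNoetherianRing q.primeCompl _ inferInstance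
    have hS : Ideal.span ((algebraMap B (Localization.AtPrime q)) '' (J : Set B)) =
        RingHom.ker (algebraMap (Localization.AtPrime q) (Localization.AtPrime p)) := by
      rw [hker]; rfl
    obtain ⟨m, f', hf'S, hspan', μ', hμ'⟩ :=
      exists_functionals_of_formallySmooth (R := k₀) (P := Localization.AtPrime q)
        (A := Localization.AtPrime p) hsurj
        ((algebraMap B (Localization.AtPrime q)) '' (J : Set B)) hS
    choose g hgJ hg using hf'S
    -- functionals on `Ω[B⁄k₀]`
    let μ : Fin m → Ω[B⁄k₀] →ₗ[B] q.ResidueField := fun j =>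
      ((μ' j).restrictScalars B) ∘ₗ (KaehlerDifferential.map k₀ k₀ B (Localization.AtPrime q))
    have hμ : ∀ i j, μ j (D k₀ B (g i)) = if i = j then 1 else 0 := by
      intro i j
      simp only [μ, LinearMap.coe_comp, Function.comp_apply, LinearMap.coe_restrictScalars,
        KaehlerDifferential.map_D]
      rw [hg i]
      exact hμ' i j
    obtain ⟨ν, hν⟩ := exists_linearMaps_det_notMem q (fun i => D k₀ B (g i)) μ hμ
    refine ⟨m, g, fun j => (ν j).compDer (D k₀ B), hgJ, ?_, hν⟩
    rw [← hker, ← hspan']
    congr 1
    ext x
    simp only [Set.mem_range]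
    constructor
    · rintro ⟨i, rfl⟩
      exact ⟨i, hg i⟩
    · rintro ⟨i, rfl⟩
      exact ⟨i, (hg i).symm⟩
  · rintro ⟨m, f, D, hfJ, hspan, hdet⟩
    -- derivations `B → C_p`
    let d : Fin m → Derivation k₀ B (Localization.AtPrime p) := fun j =>
      (Algebra.linearMap B (Localization.AtPrime p)).compDer (D j)
    choose δ hδ using fun j => exists_derivation_extension (S := B)
      (M := Localization.AtPrime p) k₀ (Localization.AtPrime q) (d j)
    refine formallySmooth_of_derivations hsurj
      (fun i => algebraMap B (Localization.AtPrime q) (f i)) ?_ δ ?_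
    · rw [hker, hspan]
    · have hmat : (Matrix.of fun i j => δ j (algebraMap B (Localization.AtPrime q) (f i))) =
          (algebraMap B (Localization.AtPrime p)).mapMatrix (Matrix.of fun i j => D j (f i)) := by
        ext i j
        simp only [Matrix.of_apply, RingHom.mapMatrix_apply, Matrix.map_apply]
        rw [hδ]
        rfl
      rw [hmat, ← RingHom.map_det,
        IsScalarTower.algebraMap_apply B (B ⧸ J) (Localization.AtPrime p)]
      refine IsLocalization.map_units (Localization.AtPrime p)
        (⟨algebraMap B (B ⧸ J) _, ?_⟩ : p.primeCompl)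
      intro h
      apply hdet
      rw [hover]
      exact h


/-- Let k₀ be a field, k a separable (formally smooth) extension field of k₀, B = k[T_1, ..., T_r], J an
ideal of B and q a prime of B containing J, with image p in C = B/J. Then C_p is formally smooth
over k₀ for the discrete topologies if and only if there exist f_1, ..., f_m ∈ J whose images
generate J B_q and k₀-derivations D_1, ..., D_m of B with det(D_j f_i) ∉ q. -/
theorem result {k₀ k : Type u} [Field k₀] [Field k] [Algebra k₀ k]
    [Algebra.FormallySmooth k₀ k] (r : ℕ) (J q : Ideal (MvPolynomial (Fin r) k)) [q.IsPrime] (hJq : J ≤ q)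
    [(q.map (Ideal.Quotient.mk J)).IsPrime] :
    Algebra.FormallySmooth k₀ (Localization.AtPrime (q.map (Ideal.Quotient.mk J))) ↔
      ∃ (m : ℕ) (f : Fin m → MvPolynomial (Fin r) k) (D : Fin m → Derivation k₀ (MvPolynomial (Fin r) k) (MvPolynomial (Fin r) k)),
        (∀ i, f i ∈ J) ∧
        J.map (algebraMap (MvPolynomial (Fin r) k) (Localization.AtPrime q)) =
          Ideal.span (Set.range fun i => algebraMap (MvPolynomial (Fin r) k) (Localization.AtPrime q) (f i)) ∧
        Matrix.det (Matrix.of fun i j => D j (f i)) ∉ q := by
  have : Algebra.FormallySmooth k₀ (MvPolynomial (Fin r) k) :=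
    Algebra.FormallySmooth.comp k₀ k (MvPolynomial (Fin r) k)
  exact main J q hJq

end Groth.Agent.S4580
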