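import Groth.Statements.S4581
-- import your own Groth.Agent.* helpers here
import Mathlib
import Groth.Agent.Lib.Helper62.CompletionDerivation

set_option autoImplicit false
universe u
open EGA41

namespace Groth.Agent.S4581

open KaehlerDifferential TensorProduct Groth.Agent.Lib.Helper62.CompletionDerivation

/-- The general statement: `A` Noetherian, `Ω[A⁄A₀]` finite, any ideal `I`. -/
theorem aux {A₀ A : Type u} [CommRing A₀] [CommRing A] [Algebra A₀ A] [IsNoetherianRing A]
    [Module.Finite A Ω[A⁄A₀]] (I : Ideal A) :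
    EGA41.IsFormallySmoothRel A₀ A (AdicCompletion I A) := by
  intro C _ _ _ _ J hJ u₀ hu
  obtain ⟨u, hu⟩ := hu
  have hu' : ∀ x, Ideal.Quotient.mk J (u x) = u₀ x := fun x => DFunLike.congr_fun hu x
  have hsq : ∀ y ∈ J, ∀ z ∈ J, y * z = 0 := by
    intro y hy z hz
    have : y * z ∈ J ^ 2 := by
      rw [pow_two]
      exact Ideal.mul_mem_mul hy hz
    rwa [hJ, Ideal.mem_bot] at this
  -- `C` as an algebra over the completion via `u`
  let _ : Algebra (AdicCompletion I A) C := u.toRingHom.toAlgebra
  have halg : ∀ x, algebraMap (AdicCompletion I A) C x = u x := fun _ => rfl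
  have : IsScalarTower A₀ (AdicCompletion I A) C :=
    IsScalarTower.of_algebraMap_eq (fun c => by rw [halg, AlgHom.commutes])
  -- the two `A`-actions agree on `J`
  have hdiff : ∀ a : A, algebraMap A C a - u (algebraMap A (AdicCompletion I A) a) ∈ J := by
    intro a
    rw [← Ideal.Quotient.eq, hu', AlgHom.commutes]
    rfl
  have htower : IsScalarTower A (AdicCompletion I A) J := by
    refine ⟨fun a x j => Subtype.ext ?_⟩
    show (a • x) • (j : C) = a • (x • (j : C))
    have h1 := hsq _ (hdiff a) _ (J.mul_mem_left (u x) j.2)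
    rw [sub_mul, sub_eq_zero] at h1
    have h2 : (a • x) • (j : C) = u (algebraMap A (AdicCompletion I A) a * x) * (j : C) := by
      rw [Algebra.smul_def (a • x) (j : C), halg, Algebra.smul_def a x]
    have h3 : x • (j : C) = u x * (j : C) := by
      rw [Algebra.smul_def x (j : C), halg]
    rw [h2, h3, map_mul, mul_assoc, Algebra.smul_def a (u x * (j : C))]
    exact h1.symm
  -- Step 1: the derivation `D₁ : A → J`, `a ↦ u (ι a) - a • 1`
  let f : A →ₐ[A₀] C := u.comp (IsScalarTower.toAlgHom A₀ A (AdicCompletion I A))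
  have e : (Ideal.Quotient.mkₐ A₀ J).comp f = IsScalarTower.toAlgHom A₀ A (C ⧸ J) := by
    ext a
    show Ideal.Quotient.mk J (u (algebraMap A _ a)) = algebraMap A (C ⧸ J) a
    rw [hu', AlgHom.commutes]
  let D₁ : Derivation A₀ A J := derivationToSquareZeroOfLift J hJ f e
  have hD₁ : ∀ a, (D₁ a : C) = u (algebraMap A _ a) - algebraMap A C a := fun a => rfl
  let l : Ω[A⁄A₀] →ₗ[A] J := D₁.liftKaehlerDifferential
  have hl : ∀ a, l (KaehlerDifferential.D A₀ A a) = D₁ a :=
    fun a => Derivation.liftKaehlerDifferential_comp_D D₁ a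
  -- Step 2: extend `l` to the completion of `Ω`
  let lhat : AdicCompletion I Ω[A⁄A₀] →ₗ[AdicCompletion I A] J :=
    (LinearMap.liftBaseChange (AdicCompletion I A) l) ∘ₗ
      (AdicCompletion.ofTensorProductEquivOfFiniteNoetherian I Ω[A⁄A₀]).symm.toLinearMap
  have hlhat : ∀ ω, lhat (AdicCompletion.of I _ ω) = l ω := by
    intro ω
    show (LinearMap.liftBaseChange (AdicCompletion I A) l)
      ((AdicCompletion.ofTensorProductEquivOfFiniteNoetherian I Ω[A⁄A₀]).symm
        (AdicCompletion.of I _ ω)) = l ω
    rw [AdicCompletion.ofTensorProductEquivOfFiniteNoetherian_symm_of,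
      LinearMap.liftBaseChange_one_tmul]
  -- Step 3: the function `δ x = lhat (Dhat x)`
  let δ : AdicCompletion I A → C := fun x => (lhat (Dhat (A₀ := A₀) I x) : C)
  have hδJ : ∀ x, δ x ∈ J := fun x => (lhat (Dhat (A₀ := A₀) I x)).2
  have hδadd : ∀ x y, δ (x + y) = δ x + δ y := by
    intro x y
    show ((lhat (Dhat (A₀ := A₀) I (x + y)) : J) : C) = _
    rw [Dhat_add, map_add]
    rfl
  have hδmul : ∀ x y, δ (x * y) = u x * δ y + u y * δ x := by
    intro x y
    show ((lhat (Dhat (A₀ := A₀) I (x * y)) : J) : C) = _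
    rw [Dhat_mul, map_add, map_smul, map_smul]
    rfl
  have hδof : ∀ a : A, δ (algebraMap A _ a) = u (algebraMap A _ a) - algebraMap A C a := by
    intro a
    show ((lhat (Dhat (A₀ := A₀) I (AdicCompletion.of I A a)) : J) : C) = _
    rw [Dhat_of, hlhat, hl, hD₁]
  have hδδ : ∀ x y, δ x * δ y = 0 := fun x y => hsq _ (hδJ x) _ (hδJ y)
  have hδ0 : δ 0 = 0 := by
    have h := hδadd 0 0
    rw [add_zero] at h
    exact left_eq_add.mp h
  have hδ1 : δ 1 = 0 := by
    have h := hδmul 1 1
    rw [mul_one, map_one, one_mul] at h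
    exact left_eq_add.mp h
  -- Step 4: the corrected lift
  let v : AdicCompletion I A →ₐ[A] C :=
    { toFun := fun x => u x - δ x
      map_one' := by rw [map_one, hδ1, sub_zero]
      map_mul' := fun x y => by
        rw [map_mul, hδmul]
        linear_combination (-1 : C) * hδδ x y
      map_zero' := by rw [map_zero, hδ0, sub_zero]
      map_add' := fun x y => by
        rw [map_add, hδadd]
        ring
      commutes' := fun a => by
        show u (algebraMap A _ a) - δ (algebraMap A _ a) = algebraMap A C a
        rw [hδof]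
        ring }
  refine ⟨v, ?_⟩
  ext x
  show Ideal.Quotient.mk J (u x - δ x) = u₀ x
  rw [map_sub, hu', Ideal.Quotient.eq_zero_iff_mem.mpr (hδJ x), sub_zero]

/-- Let A₀ be a semi-local Noetherian ring, A a module-finite A₀-algebra and Â the completion of A for
the adic topology of its Jacobson radical. For the discrete topologies, Â is a formally smooth
A-algebra relative to A₀. -/
theorem result {A₀ A : Type u} [CommRing A₀]
    [IsNoetherianRing A₀] [Finite (MaximalSpectrum A₀)] [CommRing A] [Algebra A₀ A] [Module.Finite A₀ A] :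
    EGA41.IsFormallySmoothRel A₀ A (AdicCompletion (Ideal.jacobson (⊥ : Ideal A)) A) := by
  have : IsNoetherianRing A := IsNoetherianRing.of_finite A₀ A
  exact aux _

end Groth.Agent.S4581
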