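import Groth.Statements.S4585
import Mathlib.RingTheory.LocalRing.ResidueField.Fiber
import Mathlib.RingTheory.FiniteStability
import Mathlib.RingTheory.Jacobson.Ring
import Mathlib.RingTheory.Ideal.GoingUp
import Mathlib.RingTheory.Localization.Integral
import Mathlib.RingTheory.Localization.Away.Basic
import Mathlib.RingTheory.Algebraic.Integral
import Mathlib.AlgebraicGeometry.Morphisms.FiniteType
import Mathlib.AlgebraicGeometry.AffineScheme
import Mathlib.Topology.Sober
import Mathlib.AlgebraicGeometry.Properties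

set_option autoImplicit false
universe u
open AlgebraicGeometry CategoryTheory
open EGA41

namespace Groth.Agent.S4585

open TensorProduct

/-- Step 2: spreading out. -/
theorem step2 {A B L : Type u} [CommRing A] [CommRing B] [Algebra A B] [CommRing L] [Algebra A L]
    [Algebra B L] [IsScalarTower A B L] (hLu : ∀ x : L, x ≠ 0 → IsUnit x)
    (p : Ideal A) [hp : p.IsPrime]
    (hker : ∀ a, algebraMap A L a = 0 ↔ a ∈ p)
    (hmin : ∀ q : Ideal A, q.IsPrime → p ≤ q) (t : Finset B)
    (ht : Algebra.adjoin A (t : Set B) = ⊤)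
    (hint : ∀ b ∈ t, ∃ s, s ∉ p ∧ IsIntegral A (s • algebraMap B L b)) :
    ∃ g, g ∉ p ∧ ∀ q : Ideal A, q.IsPrime → g ∉ q →
      ∃ Q : Ideal B, Q.IsPrime ∧ Q.comap (algebraMap A B) = q := by
  classical
  choose! s hs hint using hint
  refine ⟨∏ b ∈ t, s b, ?_, ?_⟩
  · rw [Ideal.IsPrime.prod_mem_iff]
    rintro ⟨b, hb, hb'⟩
    exact hs b hb hb'
  intro q hq hgq
  set g := ∏ b ∈ t, s b with hg
  have hgp : g ∉ p := fun h => hgq (hmin q hq h)
  have hgL : IsUnit (algebraMap A L g) := by
    apply hLu
    rw [Ne, hker]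
    exact hgp
  letI algRL : Algebra (Localization.Away g) L := (IsLocalization.Away.lift g hgL).toAlgebra
  haveI : IsScalarTower A (Localization.Away g) L :=
    IsScalarTower.of_algebraMap_eq fun a => (IsLocalization.Away.lift_eq g hgL a).symm
  -- generators integral over R
  have hintR : ∀ x ∈ (algebraMap B L '' (t : Set B)), IsIntegral (Localization.Away g) x := by
    rintro _ ⟨b, hb, rfl⟩
    have h1 : IsIntegral (Localization.Away g) (s b • algebraMap B L b) :=
      (hint b hb).tower_top
    have hdvd : s b ∣ g := Finset.dvd_prod_of_mem s hb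
    have hu : IsUnit (algebraMap A (Localization.Away g) (s b)) := by
      have hug : IsUnit (algebraMap A (Localization.Away g) g) :=
        IsLocalization.Away.algebraMap_isUnit g
      exact isUnit_of_dvd_unit (map_dvd _ hdvd) hug
    obtain ⟨v, hv⟩ := hu
    have h2 : algebraMap B L b = (↑(v⁻¹) : Localization.Away g) • (s b • algebraMap B L b) := by
      rw [← algebraMap_smul (Localization.Away g) (s b) (algebraMap B L b), ← hv, smul_smul,
        Units.inv_mul, one_smul]
    rw [h2]
    exact h1.smul _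
  let S : Subalgebra (Localization.Away g) L := Algebra.adjoin _ (algebraMap B L '' (t : Set B))
  haveI : Algebra.IsIntegral (Localization.Away g) S := Algebra.IsIntegral.adjoin hintR
  have hmem : ∀ b : B, algebraMap B L b ∈ S := by
    intro b
    have hb : b ∈ Algebra.adjoin A (t : Set B) := by rw [ht]; trivial
    induction hb using Algebra.adjoin_induction with
    | mem x hx => exact Algebra.subset_adjoin ⟨x, hx, rfl⟩
    | algebraMap a =>
      rw [← IsScalarTower.algebraMap_apply A B L, IsScalarTower.algebraMap_apply A (Localization.Away g) L]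
      exact S.algebraMap_mem _
    | add x y _ _ hx hy => rw [map_add]; exact S.add_mem hx hy
    | mul x y _ _ hx hy => rw [map_mul]; exact S.mul_mem hx hy
  let φ' : B →+* S := (algebraMap B L).codRestrict S hmem
  have hdisj : Disjoint (Submonoid.powers g : Set A) (q : Set A) := by
    rw [Set.disjoint_left]
    rintro _ ⟨n, rfl⟩ hn
    exact hgq (hq.mem_of_pow_mem n hn)
  haveI hqR : (q.map (algebraMap A (Localization.Away g))).IsPrime :=
    IsLocalization.isPrime_of_isPrime_disjoint (Submonoid.powers g) _ q hq hdisj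
  have hcomap : (q.map (algebraMap A (Localization.Away g))).comap (algebraMap A _) = q :=
    IsLocalization.under_map_of_isPrime_disjoint (Submonoid.powers g) _ hq hdisj
  have hkerle : (⊥ : Ideal S).comap (algebraMap (Localization.Away g) S) ≤
      q.map (algebraMap A (Localization.Away g)) := by
    intro r hr
    rw [Ideal.mem_comap, Ideal.mem_bot] at hr
    obtain ⟨a, m, rfl⟩ := IsLocalization.exists_mk'_eq (Submonoid.powers g) r
    rw [IsLocalization.mk'_mem_map_algebraMap_iff]
    refine ⟨1, Submonoid.one_mem _, ?_⟩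
    rw [one_mul]
    apply hmin q hq
    rw [← hker]
    have h1 : algebraMap (Localization.Away g) L (IsLocalization.mk' _ a m) = 0 := by
      have := congrArg (Subtype.val) hr
      simpa using this
    have h2 : IsLocalization.mk' (Localization.Away g) a m * algebraMap A _ (m : A) =
        algebraMap A _ a := IsLocalization.mk'_spec _ a m
    rw [IsScalarTower.algebraMap_apply A (Localization.Away g) L, ← h2, map_mul, h1, zero_mul]
  obtain ⟨Q', -, hQ'prime, hQ'⟩ := Ideal.exists_ideal_over_prime_of_isIntegral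
    (q.map (algebraMap A (Localization.Away g))) (⊥ : Ideal S) hkerle
  refine ⟨Q'.comap φ', Ideal.comap_isPrime φ' Q', ?_⟩
  rw [Ideal.comap_comap]
  have hcomp : φ'.comp (algebraMap A B) =
      (algebraMap (Localization.Away g) S).comp (algebraMap A (Localization.Away g)) := by
    ext a
    change algebraMap B L (algebraMap A B a) = algebraMap (Localization.Away g) L (algebraMap A _ a)
    rw [← IsScalarTower.algebraMap_apply, ← IsScalarTower.algebraMap_apply]
  rw [hcomp, ← Ideal.comap_comap, hQ', hcomap]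

/-- Step 1, core: a residue field of a nontrivial finite type algebra over the residue field. -/
theorem step1_core {A B F : Type u} [CommRing A] [CommRing B] [Algebra A B] [CommRing F]
    [Nontrivial F] [Algebra A F] [Algebra B F] [IsScalarTower A B F] (p : Ideal A) [p.IsPrime]
    [Algebra p.ResidueField F] [IsScalarTower A p.ResidueField F]
    [Algebra.FiniteType p.ResidueField F] :
    ∃ (L : Type u) (_ : CommRing L) (_ : Algebra A L) (_ : Algebra B L) (_ : IsScalarTower A B L),
      (∀ x : L, x ≠ 0 → IsUnit x) ∧ (∀ a, algebraMap A L a = 0 ↔ a ∈ p) ∧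
      ∀ b : B, ∃ s, s ∉ p ∧ IsIntegral A (s • algebraMap B L b) := by
  classical
  obtain ⟨M, hM⟩ := Ideal.exists_maximal F
  haveI : Nontrivial (F ⧸ M) := Ideal.Quotient.nontrivial_iff.mpr hM.ne_top
  have hunit : ∀ x : F ⧸ M, x ≠ 0 → IsUnit x := by
    intro x hx
    letI : Field (F ⧸ M) := Ideal.Quotient.field M
    exact isUnit_iff_ne_zero.mpr hx
  have hker : ∀ a, algebraMap A (F ⧸ M) a = 0 ↔ a ∈ p := by
    intro a
    rw [IsScalarTower.algebraMap_apply A p.ResidueField (F ⧸ M),
      map_eq_zero_iff _ (algebraMap p.ResidueField (F ⧸ M)).injective,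
      Ideal.algebraMap_residueField_eq_zero]
  have key : ∀ z : F ⧸ M, ∃ s, s ∉ p ∧ IsIntegral A (s • z) := by
    intro z
    haveI : Algebra.FiniteType p.ResidueField (F ⧸ M) :=
      Algebra.FiniteType.of_surjective (Ideal.Quotient.mkₐ p.ResidueField M)
        (Ideal.Quotient.mkₐ_surjective _ _)
    haveI : Module.Finite p.ResidueField (F ⧸ M) := by
      letI : Field (F ⧸ M) := Ideal.Quotient.field M
      exact finite_of_finite_type_of_isJacobsonRing _ _
    have halg : IsAlgebraic p.ResidueField z :=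
      (Algebra.IsIntegral.isIntegral _).isAlgebraic
    letI : Algebra (A ⧸ p) (F ⧸ M) :=
      ((algebraMap p.ResidueField (F ⧸ M)).comp (algebraMap (A ⧸ p) p.ResidueField)).toAlgebra
    haveI : IsScalarTower (A ⧸ p) p.ResidueField (F ⧸ M) :=
      IsScalarTower.of_algebraMap_eq fun _ => rfl
    haveI : IsScalarTower A (A ⧸ p) (F ⧸ M) := IsScalarTower.of_algebraMap_eq fun a => by
      rw [IsScalarTower.algebraMap_apply (A ⧸ p) p.ResidueField (F ⧸ M),
        ← IsScalarTower.algebraMap_apply A (A ⧸ p) p.ResidueField,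
        ← IsScalarTower.algebraMap_apply A p.ResidueField (F ⧸ M)]
    have halg' : IsAlgebraic (A ⧸ p) z :=
      (IsFractionRing.isAlgebraic_iff (A ⧸ p) p.ResidueField (F ⧸ M)).mpr halg
    obtain ⟨y, hy0, hy⟩ := halg'.exists_integral_multiple
    obtain ⟨s, rfl⟩ := Ideal.Quotient.mk_surjective y
    refine ⟨s, fun hs => hy0 (Ideal.Quotient.eq_zero_iff_mem.mpr hs), ?_⟩
    haveI : Algebra.IsIntegral A (A ⧸ p) :=
      Algebra.isIntegral_of_surjective Ideal.Quotient.mk_surjective
    have := isIntegral_trans (R := A) _ hy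
    rwa [← Ideal.Quotient.algebraMap_eq, algebraMap_smul] at this
  exact ⟨F ⧸ M, inferInstance, inferInstance, inferInstance, inferInstance, hunit, hker,
    fun b => key _⟩

/-- Step 1: a field `L` under `B`, algebraic over the residue field of `p`. -/
theorem step1 {A B : Type u} [CommRing A] [CommRing B] [Algebra A B] [Algebra.FiniteType A B]
    (p : Ideal A) [hp : p.IsPrime] (P : Ideal B) [hP : P.IsPrime]
    (hPp : P.comap (algebraMap A B) = p) :
    ∃ (L : Type u) (_ : CommRing L) (_ : Algebra A L) (_ : Algebra B L) (_ : IsScalarTower A B L),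
      (∀ x : L, x ≠ 0 → IsUnit x) ∧ (∀ a, algebraMap A L a = 0 ↔ a ∈ p) ∧
      ∀ b : B, ∃ s, s ∉ p ∧ IsIntegral A (s • algebraMap B L b) := by
  classical
  -- the fibre is nontrivial
  have hne : Nonempty (PrimeSpectrum (p.Fiber B)) := by
    let pp : PrimeSpectrum A := ⟨p, hp⟩
    have hmem : (⟨P, hP⟩ : PrimeSpectrum B) ∈ PrimeSpectrum.comap (algebraMap A B) ⁻¹' {pp} := by
      rw [Set.mem_preimage, Set.mem_singleton_iff]
      exact PrimeSpectrum.ext hPp
    exact ⟨PrimeSpectrum.preimageEquivFiber A B pp ⟨_, hmem⟩⟩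
  haveI : Nontrivial (p.Fiber B) := by
    obtain ⟨x⟩ := hne
    exact PrimeSpectrum.nontrivial x
  letI : Algebra B (p.Fiber B) := Algebra.TensorProduct.rightAlgebra
  exact step1_core (F := p.Fiber B) p

theorem alg {A B : Type u} [CommRing A] [CommRing B] (φ : A →+* B) (hφ : φ.FiniteType)
    (P : Ideal B) [P.IsPrime] (hmin : ∀ q : Ideal A, q.IsPrime → P.comap φ ≤ q) :
    ∃ g, g ∉ P.comap φ ∧ ∀ q : Ideal A, q.IsPrime → g ∉ q →
      ∃ Q : Ideal B, Q.IsPrime ∧ Q.comap φ = q := by
  letI := φ.toAlgebra
  haveI : Algebra.FiniteType A B := hφ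
  haveI : (P.comap (algebraMap A B)).IsPrime := Ideal.comap_isPrime _ _
  obtain ⟨L, _, _, _, _, hLu, hker, hint⟩ := step1 (P.comap (algebraMap A B)) P rfl
  obtain ⟨t, ht⟩ := (inferInstance : Algebra.FiniteType A B).out
  exact step2 hLu (P.comap (algebraMap A B)) hker hmin t ht (fun b _ => hint b)

theorem main {X Y : Scheme.{u}} (f : X ⟶ Y) [LocallyOfFiniteType f] [IrreducibleSpace Y]
    (h : genericPoint Y ∈ Set.range f.base) : genericPoint Y ∈ interior (Set.range f.base) := by
  obtain ⟨x, hx⟩ := h
  obtain ⟨_, ⟨V, hV', rfl⟩, hηV, -⟩ := Y.isBasis_affineOpens.exists_subset_of_mem_open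
    (Set.mem_univ (genericPoint Y)) isOpen_univ
  have hV : IsAffineOpen V := hV'
  have hxV : x ∈ f ⁻¹ᵁ V := by
    change f.base x ∈ V
    rw [hx]; exact hηV
  obtain ⟨_, ⟨U, hU', rfl⟩, hxU, hUV⟩ := X.isBasis_affineOpens.exists_subset_of_mem_open hxV
    (f ⁻¹ᵁ V).isOpen
  have hU : IsAffineOpen U := hU'
  have e : U ≤ f ⁻¹ᵁ V := hUV
  have hφ : (f.appLE V U e).hom.FiniteType := LocallyOfFiniteType.finiteType_appLE f hV hU e
  have hfromSpec : ∀ Q : PrimeSpectrum Γ(X, U),
      f.base (hU.fromSpec.base Q) = hV.fromSpec.base (PrimeSpectrum.comap (f.appLE V U e).hom Q) := by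
    intro Q
    have := congrArg (fun g => g.base Q) (IsAffineOpen.SpecMap_appLE_fromSpec f hV hU e)
    exact this.symm
  let P : PrimeSpectrum Γ(X, U) := hU.primeIdealOf ⟨x, hxU⟩
  have hP : hU.fromSpec.base P = x := hU.fromSpec_primeIdealOf ⟨x, hxU⟩
  have hpη : hV.fromSpec.base (PrimeSpectrum.comap (f.appLE V U e).hom P) = genericPoint Y := by
    rw [← hfromSpec, hP, hx]
  have hmin : ∀ q : Ideal Γ(Y, V), q.IsPrime → P.asIdeal.comap (f.appLE V U e).hom ≤ q := by
    intro q hq
    have h1 : genericPoint Y ⤳ hV.fromSpec.base ⟨q, hq⟩ := genericPoint_specializes _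
    rw [← hpη] at h1
    have h2 := (hV.fromSpec.isOpenEmbedding.isInducing.specializes_iff).mp h1
    exact (PrimeSpectrum.le_iff_specializes _ _).mpr h2
  obtain ⟨g, hg, hgq⟩ := alg (f.appLE V U e).hom hφ P.asIdeal hmin
  rw [mem_interior]
  refine ⟨hV.fromSpec.base '' (PrimeSpectrum.basicOpen g : Set (PrimeSpectrum Γ(Y, V))), ?_, ?_, ?_⟩
  · rintro _ ⟨q, hq, rfl⟩
    obtain ⟨Q, hQ, hQq⟩ := hgq q.asIdeal q.isPrime hq
    refine ⟨hU.fromSpec.base ⟨Q, hQ⟩, ?_⟩
    rw [hfromSpec]
    congr 1
    exact PrimeSpectrum.ext hQq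
  · exact hV.fromSpec.isOpenEmbedding.isOpenMap _ (PrimeSpectrum.basicOpen g).isOpen
  · rw [← hpη]
    exact ⟨_, hg, rfl⟩


end Groth.Agent.S4585


namespace Groth.Agent.S4585

/-- Let Y be an irreducible scheme with generic point η and f : X → Y locally of finite type with
nonempty fibre over η. Then some open neighbourhood of η is contained in f(X). (The second
assertion, on fibres of a quasi-coherent module of finite type, is not stated.) -/
theorem result {X Y : Scheme.{u}} (f : X ⟶ Y)
    [LocallyOfFiniteType f] [IrreducibleSpace Y] (h : genericPoint Y ∈ Set.range f.base) :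
    genericPoint Y ∈ interior (Set.range f.base) :=
  Groth.Agent.S4585.main f h

end Groth.Agent.S4585
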