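import Groth.Statements.S4587
import Groth.Agent.Lib.Helper21.Generalizing
import Mathlib.AlgebraicGeometry.Properties

set_option autoImplicit false
universe u
open AlgebraicGeometry CategoryTheory
open EGA41

namespace Groth.Agent.S4587

/-- A morphism of schemes f : X → Y is generizing if and only if, for every irreducible closed subset Y'
of Y, each irreducible component of f⁻¹(Y') has dense image in Y'. -/
theorem result {X Y : Scheme.{u}} (f : X ⟶ Y) :
    GeneralizingMap f.base ↔
      ∀ Y' : Set Y, IsClosed Y' → IsIrreducible Y' →
        ∀ Z ∈ irreducibleComponents ↥(f.base ⁻¹' Y'), closure (f.base '' (Subtype.val '' Z)) = Y' :=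
  Groth.Agent.Lib.Helper21.generalizingMap_iff_irreducibleComponents_preimage _ f.continuous

end Groth.Agent.S4587
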