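import Groth.Statements.S4590
import Mathlib.RingTheory.Flat.FaithfullyFlat.Algebra
import Mathlib.RingTheory.Polynomial.ScaleRoots
import Mathlib.Algebra.Ring.GeomSum
import Mathlib.RingTheory.Flat.TorsionFree
-- import your own Groth.Agent.* helpers here

set_option autoImplicit false
universe u
open CAlg

namespace Groth.Agent.S4590

section helpers

/-- Piece 1: the nilpotent trick. -/
private lemma pow_mem_of_isNilpotent_sub {B : Type*} [CommRing B] (a s v : B) (n : ℕ) (hn : 1 ≤ n)
    (hv : v ∈ Ideal.span {s} * Ideal.span {a, s} ^ (n - 1))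
    (hnil : IsNilpotent (a ^ n - v)) :
    ∃ m : ℕ, 1 ≤ m ∧ a ^ m ∈ Ideal.span {s} * Ideal.span {a, s} ^ (m - 1) := by
  obtain ⟨N0, hN0⟩ := hnil
  -- use N = N0 + 1
  have hN : (a ^ n - v) ^ (N0 + 1) = 0 := by rw [pow_succ, hN0, zero_mul]
  set 𝔪 : Ideal B := Ideal.span {a, s} with h𝔪
  have ha : a ∈ 𝔪 := Ideal.subset_span (by simp)
  have hs : s ∈ 𝔪 := Ideal.subset_span (by simp)
  have hu : a ^ n ∈ 𝔪 ^ n := Ideal.pow_mem_pow ha n
  have hv' : v ∈ 𝔪 ^ n := by
    have h1 : Ideal.span {s} * 𝔪 ^ (n - 1) ≤ 𝔪 * 𝔪 ^ (n - 1) :=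
      Ideal.mul_mono_left ((Ideal.span_singleton_le_iff_mem _).mpr hs)
    have h2 : 𝔪 * 𝔪 ^ (n - 1) = 𝔪 ^ n := by
      rw [← pow_succ']; congr 1; omega
    exact h2 ▸ h1 hv
  have hw : a ^ n - v ∈ 𝔪 ^ n := Ideal.sub_mem _ hu hv'
  refine ⟨n * (N0 + 1), Nat.one_le_iff_ne_zero.mpr (by positivity), ?_⟩
  have hgeom := geom_sum₂_mul (a ^ n) (a ^ n - v) (N0 + 1)
  rw [hN, sub_zero, sub_sub_cancel] at hgeom
  rw [pow_mul, ← hgeom]
  have hsum : (∑ i ∈ Finset.range (N0 + 1), (a ^ n) ^ i * (a ^ n - v) ^ (N0 + 1 - 1 - i)) ∈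
      𝔪 ^ (n * N0) := by
    refine Submodule.sum_mem _ fun i hi => ?_
    have hi' : i ≤ N0 := Nat.lt_succ_iff.mp (Finset.mem_range.mp hi)
    have h1 : (a ^ n) ^ i ∈ (𝔪 ^ n) ^ i := Ideal.pow_mem_pow hu i
    have h2 : (a ^ n - v) ^ (N0 + 1 - 1 - i) ∈ (𝔪 ^ n) ^ (N0 + 1 - 1 - i) := Ideal.pow_mem_pow hw _
    have h3 := Ideal.mul_mem_mul h1 h2
    rw [← pow_add, ← pow_mul] at h3
    have : n * (i + (N0 + 1 - 1 - i)) = n * N0 := by congr 1; omega
    rwa [this] at h3
  have hfin := Ideal.mul_mem_mul hv hsum
  rw [mul_assoc, ← pow_add] at hfin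
  have : n - 1 + n * N0 = n * (N0 + 1) - 1 := by
    rw [Nat.mul_succ]; omega
  rw [this, mul_comm v] at hfin
  exact hfin

/-- Piece 3: from the ideal membership to integrality of the fraction. -/
private lemma isIntegral_div_of_pow_mem {A K : Type*} [CommRing A] [Field K] [Algebra A K] (a s : A)
    (hs : algebraMap A K s ≠ 0) (m : ℕ) (hm : 1 ≤ m)
    (h : a ^ m ∈ Ideal.span {s} * Ideal.span {a, s} ^ (m - 1)) :
    IsIntegral A (algebraMap A K a / algebraMap A K s) := by
  set x := algebraMap A K a / algebraMap A K s with hx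
  let N : ℕ → Submodule A K := fun j => Submodule.span A (Set.range fun i : Fin (j + 1) => x ^ (i : ℕ))
  have hgen : ∀ j i, i ≤ j → x ^ i ∈ N j := fun j i hij =>
    Submodule.subset_span ⟨⟨i, Nat.lt_succ_of_le hij⟩, rfl⟩
  have hmono : ∀ j, N j ≤ N (j + 1) := by
    intro j
    refine Submodule.span_le.mpr ?_
    rintro _ ⟨i, rfl⟩
    exact hgen (j + 1) i (by have := i.2; omega)
  have hmulx : ∀ j, ∀ y ∈ N j, y * x ∈ N (j + 1) := by
    intro j y hy
    induction hy using Submodule.span_induction with
    | mem y hy =>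
      obtain ⟨i, rfl⟩ := hy
      rw [← pow_succ]
      exact hgen (j + 1) (i + 1) (by have := i.2; omega)
    | zero => simp
    | add y z _ _ hy hz => rw [add_mul]; exact add_mem hy hz
    | smul c y _ hy => rw [smul_mul_assoc]; exact Submodule.smul_mem _ c hy
  have key : ∀ j : ℕ, ∀ t ∈ Ideal.span {a, s} ^ j,
      algebraMap A K t / (algebraMap A K s) ^ j ∈ N j := by
    intro j
    induction j with
    | zero =>
      intro t _
      have : algebraMap A K t / (algebraMap A K s) ^ 0 = t • x ^ 0 := by
        simp [Algebra.smul_def]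
      rw [this]
      exact Submodule.smul_mem _ t (hgen 0 0 le_rfl)
    | succ j ih =>
      intro t ht
      rw [pow_succ] at ht
      refine Submodule.mul_induction_on ht ?_ ?_
      · intro t' ht' r hr
        obtain ⟨α, β, rfl⟩ := Ideal.mem_span_pair.mp hr
        have h1 := ih t' ht'
        have h2 : algebraMap A K (t' * (α * a + β * s)) / (algebraMap A K s) ^ (j + 1) =
            α • ((algebraMap A K t' / (algebraMap A K s) ^ j) * x) +
              β • (algebraMap A K t' / (algebraMap A K s) ^ j) := by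
          simp only [Algebra.smul_def, map_mul, map_add, hx]
          field_simp
          ring
        rw [h2]
        exact add_mem (Submodule.smul_mem _ α (hmulx j _ h1))
          (Submodule.smul_mem _ β (hmono j h1))
      · intro y z hy hz
        rw [map_add, add_div]; exact add_mem hy hz
  -- a^m = s * t
  obtain ⟨t, ht, hst⟩ := Ideal.mem_span_singleton_mul.mp h
  obtain ⟨m', rfl⟩ : ∃ m', m = m' + 1 := ⟨m - 1, by omega⟩
  simp only [Nat.add_sub_cancel] at ht
  have hxm : x ^ (m' + 1) ∈ N m' := by
    have h1 := key m' t ht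
    have h2 : x ^ (m' + 1) = algebraMap A K t / (algebraMap A K s) ^ m' := by
      rw [hx, div_pow, ← map_pow, ← hst, map_mul, pow_succ]
      field_simp
    rw [h2]; exact h1
  obtain ⟨c, hc⟩ := (Submodule.mem_span_range_iff_exists_fun A).mp hxm
  refine ⟨Polynomial.X ^ (m' + 1) - ∑ i : Fin (m' + 1), Polynomial.C (c i) * Polynomial.X ^ (i : ℕ),
    Polynomial.monic_X_pow_sub (by exact_mod_cast Polynomial.degree_sum_fin_lt c), ?_⟩
  rw [Polynomial.eval₂_sub, Polynomial.eval₂_finsetSum]
  simp only [Polynomial.eval₂_mul, Polynomial.eval₂_C, Polynomial.eval₂_X_pow]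
  rw [sub_eq_zero, ← hc]
  simp [Algebra.smul_def]

/-- Piece 4: an integral equation for a "fraction" gives an ideal membership. -/
private lemma pow_mem_of_isIntegral {C R : Type*} [CommRing C] [CommRing R] [Algebra C R]
    (hinj : Function.Injective (algebraMap C R)) (α σ : C) (y : R)
    (hy : algebraMap C R σ * y = algebraMap C R α) (hint : IsIntegral C y) :
    ∃ n : ℕ, 1 ≤ n ∧ α ^ n ∈ Ideal.span {σ} * Ideal.span {α, σ} ^ (n - 1) := by
  obtain ⟨p, hp, hpy⟩ := hint
  -- make the degree positive
  set q := p * Polynomial.X with hq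
  have hqm : q.Monic := hp.mul Polynomial.monic_X
  have hqy : Polynomial.eval₂ (algebraMap C R) y q = 0 := by
    rw [hq, Polynomial.eval₂_mul, hpy, zero_mul]
  rcases subsingleton_or_nontrivial C with hC | hC
  · exact ⟨1, le_rfl, by rw [Subsingleton.elim (α ^ 1) 0]; exact Ideal.zero_mem _⟩
  have hqdeg : 1 ≤ q.natDegree := by
    rw [hq, hp.natDegree_mul Polynomial.monic_X, Polynomial.natDegree_X]
    omega
  set n := q.natDegree with hn
  refine ⟨n, hqdeg, ?_⟩
  have h1 := Polynomial.scaleRoots_eval₂_eq_zero (algebraMap C R) (s := σ) hqy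
  rw [hy, Polynomial.eval₂_at_apply] at h1
  have h2 : Polynomial.eval α (q.scaleRoots σ) = 0 := hinj (h1.trans (map_zero _).symm)
  rw [Polynomial.eval_eq_sum_range, Polynomial.natDegree_scaleRoots, Finset.sum_range_succ,
    Polynomial.coeff_scaleRoots_natDegree, hqm.leadingCoeff, one_mul] at h2
  have h3 : α ^ n = -∑ i ∈ Finset.range n, (q.scaleRoots σ).coeff i * α ^ i := by
    rw [eq_neg_iff_add_eq_zero, add_comm]; exact h2
  rw [h3]
  refine Ideal.neg_mem_iff _ |>.mpr (Submodule.sum_mem _ fun i hi => ?_)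
  have hi' : i < n := Finset.mem_range.mp hi
  rw [Polynomial.coeff_scaleRoots]
  have hα : α ∈ Ideal.span {α, σ} := Ideal.subset_span (by simp)
  have hσ : σ ∈ Ideal.span {α, σ} := Ideal.subset_span (by simp)
  have e1 : q.coeff i * σ ^ (n - i) * α ^ i = σ * (q.coeff i * (σ ^ (n - i - 1) * α ^ i)) := by
    have : σ ^ (n - i) = σ * σ ^ (n - i - 1) := by
      rw [← pow_succ']; congr 1; omega
    rw [this]; ring
  rw [e1]
  refine Ideal.mul_mem_mul (Ideal.mem_span_singleton_self σ) (Ideal.mul_mem_left _ _ ?_)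
  have := Ideal.mul_mem_mul (Ideal.pow_mem_pow hσ (n - i - 1)) (Ideal.pow_mem_pow hα i)
  rw [← pow_add] at this
  have e2 : n - i - 1 + i = n - 1 := by omega
  rwa [e2] at this

end helpers

/-- Let A be a domain with fraction field K, B a faithfully flat A-algebra, C = B_red and R the total
ring of fractions of C. Then A → C is injective with nonzero elements going to non-zero-divisors, so
that K embeds in R, and an element of K is integral over C in R if and only if it is integral over
A. -/
theorem result {A B : Type u} [CommRing A] [IsDomain A]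
    [CommRing B] [Algebra A B] [Module.FaithfullyFlat A B] :
    Function.Injective (algebraMap A (B ⧸ nilradical B)) ∧
    (∀ a : A, a ≠ 0 → algebraMap A (B ⧸ nilradical B) a ∈ nonZeroDivisors (B ⧸ nilradical B)) ∧
    ∀ (R : Type u) [CommRing R] [Algebra (B ⧸ nilradical B) R] [IsFractionRing (B ⧸ nilradical B) R]
      [Algebra A R] [IsScalarTower A (B ⧸ nilradical B) R] [Algebra (FractionRing A) R]
      [IsScalarTower A (FractionRing A) R] (x : FractionRing A),
      IsIntegral (B ⧸ nilradical B) (algebraMap (FractionRing A) R x) ↔ IsIntegral A x := by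
  have hinjB : Function.Injective (algebraMap A B) := FaithfulSMul.algebraMap_injective A B
  have hmk : ∀ a : A, algebraMap A (B ⧸ nilradical B) a =
      Ideal.Quotient.mk (nilradical B) (algebraMap A B a) := fun a => rfl
  have hinj : Function.Injective (algebraMap A (B ⧸ nilradical B)) := by
    rw [injective_iff_map_eq_zero]
    intro a ha
    rw [hmk, Ideal.Quotient.eq_zero_iff_mem, mem_nilradical] at ha
    obtain ⟨n, hn⟩ := ha
    rw [← map_pow] at hn
    have := hinjB (hn.trans (map_zero _).symm)
    exact eq_zero_of_pow_eq_zero this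
  refine ⟨hinj, ?_, ?_⟩
  · intro a ha
    rw [mem_nonZeroDivisors_iff_right]
    intro z hz
    obtain ⟨b, rfl⟩ := Ideal.Quotient.mk_surjective z
    rw [hmk, ← map_mul, Ideal.Quotient.eq_zero_iff_mem, mem_nilradical] at hz
    obtain ⟨n, hn⟩ := hz
    rw [mul_pow, ← map_pow] at hn
    have hreg : IsSMulRegular B (a ^ n) :=
      Module.Flat.isSMulRegular_of_nonZeroDivisors
        (mem_nonZeroDivisors_of_ne_zero (pow_ne_zero n ha))
    have hb : b ^ n = 0 := by
      apply hreg
      simp only [smul_zero]
      rw [Algebra.smul_def, mul_comm]; exact hn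
    rw [Ideal.Quotient.eq_zero_iff_mem, mem_nilradical]
    exact ⟨n, hb⟩
  · intro R _ _ _ _ _ _ _ x
    constructor
    · intro hint
      obtain ⟨a, s, hs, rfl⟩ := IsFractionRing.div_surjective (A := A) x
      have hs0 : s ≠ 0 := nonZeroDivisors.ne_zero hs
      have hsK : algebraMap A (FractionRing A) s ≠ 0 := by
        intro h
        exact hs0 (IsFractionRing.injective A (FractionRing A) (h.trans (map_zero _).symm))
      -- step 4
      have hy : algebraMap (B ⧸ nilradical B) R (algebraMap A (B ⧸ nilradical B) s) *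
          algebraMap (FractionRing A) R (algebraMap A (FractionRing A) a / algebraMap A (FractionRing A) s) =
          algebraMap (B ⧸ nilradical B) R (algebraMap A (B ⧸ nilradical B) a) := by
        rw [← IsScalarTower.algebraMap_apply A (B ⧸ nilradical B) R,
          ← IsScalarTower.algebraMap_apply A (B ⧸ nilradical B) R,
          IsScalarTower.algebraMap_apply A (FractionRing A) R,
          IsScalarTower.algebraMap_apply A (FractionRing A) R, ← map_mul]
        congr 1
        field_simp
      obtain ⟨n, hn1, hn⟩ := pow_mem_of_isIntegral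
        (IsFractionRing.injective (B ⧸ nilradical B) R) _ _ _ hy hint
      -- lift to B
      have hmap : Ideal.map (Ideal.Quotient.mk (nilradical B))
          (Ideal.span {algebraMap A B s} * Ideal.span {algebraMap A B a, algebraMap A B s} ^ (n - 1)) =
          Ideal.span {algebraMap A (B ⧸ nilradical B) s} *
            Ideal.span {algebraMap A (B ⧸ nilradical B) a, algebraMap A (B ⧸ nilradical B) s} ^ (n - 1) := by
        rw [Ideal.map_mul, Ideal.map_pow, Ideal.map_span, Ideal.map_span, Set.image_singleton,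
          Set.image_pair]
        rfl
      rw [← hmap] at hn
      obtain ⟨v, hv, hvn⟩ := (Ideal.mem_map_iff_of_surjective _ Ideal.Quotient.mk_surjective).mp hn
      have hnil : IsNilpotent ((algebraMap A B a) ^ n - v) := by
        rw [← mem_nilradical, ← Ideal.Quotient.eq_zero_iff_mem, map_sub, map_pow, hvn, hmk, sub_self]
      obtain ⟨m, hm1, hm⟩ := pow_mem_of_isNilpotent_sub _ _ v n hn1 hv hnil
      -- descend to A
      have hmapA : Ideal.map (algebraMap A B)
          (Ideal.span {s} * Ideal.span {a, s} ^ (m - 1)) =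
          Ideal.span {algebraMap A B s} * Ideal.span {algebraMap A B a, algebraMap A B s} ^ (m - 1) := by
        rw [Ideal.map_mul, Ideal.map_pow, Ideal.map_span, Ideal.map_span, Set.image_singleton,
          Set.image_pair]
      have hmA : a ^ m ∈ Ideal.span {s} * Ideal.span {a, s} ^ (m - 1) := by
        rw [← Ideal.comap_map_eq_self_of_faithfullyFlat (B := B)
          (Ideal.span {s} * Ideal.span {a, s} ^ (m - 1)), Ideal.mem_comap, hmapA, map_pow]
        exact hm
      exact isIntegral_div_of_pow_mem a s hsK m hm1 hmA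
    · intro hint
      have h1 : IsIntegral A (algebraMap (FractionRing A) R x) :=
        hint.map (IsScalarTower.toAlgHom A (FractionRing A) R)
      exact h1.tower_top

end Groth.Agent.S4590
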