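import Groth.Statements.S4591
import Groth.Agent.Lib.Helper16.ProConsMore

set_option autoImplicit false
universe u
open AlgebraicGeometry
open EGA41

namespace Groth.Agent.S4591

/-- Let X be a quasi-compact scheme, F a pro-constructible subset and (E_i) a family of
ind-constructible subsets covering F. Then some finite subfamily covers F. -/
theorem result (X : Scheme.{u}) [CompactSpace X]
    (F : Set X) (hF : ProCons.IsProConstructible F) {ι : Type u} (E : ι → Set X)
    (hE : ∀ i, ProCons.IsIndConstructible (E i)) (h : F ⊆ ⋃ i, E i) :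
    ∃ J : Finset ι, F ⊆ ⋃ i ∈ J, E i := by
  classical
  obtain ⟨s, hs, hcov⟩ := (isCompact_and_isOpen_iff_finite_and_eq_biUnion_affineOpens
    (X := X) (U := Set.univ)).mp ⟨isCompact_univ, isOpen_univ⟩
  have hloc : ∀ W : X.affineOpens, ∃ J : Finset ι, F ∩ (W.1 : Set X) ⊆ ⋃ i ∈ J, E i := by
    intro W
    obtain ⟨_, _, _, _, _⟩ := Groth.Agent.Lib.Helper16.spectral_of_isAffineOpen W.2
    exact Groth.Agent.Lib.Helper16.exists_finset_subset_iUnion_of_spectral hF E hE h W.1.2
  choose Jf hJf using hloc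
  refine ⟨hs.toFinset.biUnion Jf, ?_⟩
  intro x hx
  have hxu : x ∈ (Set.univ : Set X) := Set.mem_univ x
  rw [hcov] at hxu
  simp only [Set.mem_iUnion] at hxu
  obtain ⟨W, hWs, hxW⟩ := hxu
  have := hJf W ⟨hx, hxW⟩
  simp only [Set.mem_iUnion] at this ⊢
  obtain ⟨i, hi, hxi⟩ := this
  exact ⟨i, Finset.mem_biUnion.mpr ⟨W, hs.mem_toFinset.mpr hWs, hi⟩, hxi⟩

end Groth.Agent.S4591
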