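import Groth.Statements.S4593
import Mathlib

set_option autoImplicit false
universe u
open CategoryTheory CategoryTheory.Limits AlgebraicGeometry
open EGA41

namespace Groth.Agent.S4593

/-- Let B be a ring, (A_i) a filtered system of B-algebras with colimit A. The image of Spec A in Spec B
is the intersection of the images of the Spec A_i. -/
theorem result {I : Type u} [SmallCategory I] [IsFiltered I]
    (B : CommRingCat.{u}) (D : I ⥤ CommRingCat.{u}) (s : (Functor.const I).obj B ⟶ D) (c : Cocone D)
    (hc : IsColimit c) (i₀ : I) :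
    Set.range (Spec.map (s.app i₀ ≫ c.ι.app i₀)).base = ⋂ i : I, Set.range (Spec.map (s.app i)).base := by
  -- naturality of `s`
  have hs : ∀ {i j : I} (φ : i ⟶ j), s.app i ≫ D.map φ = s.app j := by
    intro i j φ
    have := s.naturality φ
    simp only [Functor.const_obj_obj, Functor.const_obj_map, Category.id_comp] at this
    exact this.symm
  set f : B ⟶ c.pt := s.app i₀ ≫ c.ι.app i₀ with hf
  have hfi : ∀ i : I, s.app i ≫ c.ι.app i = f := by
    intro i
    rw [hf, ← c.w (IsFiltered.leftToMax i i₀), ← c.w (IsFiltered.rightToMax i i₀),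
      ← Category.assoc, ← Category.assoc, hs, hs]
  have hfi' : ∀ (i : I) (b : B), c.ι.app i (s.app i b) = f b := by
    intro i b
    rw [← hfi i]; rfl
  have hs' : ∀ {i j : I} (φ : i ⟶ j) (b : B), D.map φ (s.app i b) = s.app j b := by
    intro i j φ b
    rw [← hs φ]; rfl
  -- transition maps respect the extended ideals
  have hmap : ∀ {i j : I} (φ : i ⟶ j) (p : Ideal B) (y : D.obj i),
      y ∈ Ideal.map (s.app i).hom p → D.map φ y ∈ Ideal.map (s.app j).hom p := by
    intro i j φ p y hy
    have h1 : Ideal.map (D.map φ).hom (Ideal.map (s.app i).hom p) = Ideal.map (s.app j).hom p := by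
      rw [Ideal.map_map, ← CommRingCat.hom_comp, hs φ]
    rw [← h1]
    exact Ideal.mem_map_of_mem _ hy
  apply Set.Subset.antisymm
  · rintro _ ⟨q, rfl⟩
    refine Set.mem_iInter.mpr fun i => ⟨(Spec.map (c.ι.app i)).base q, ?_⟩
    rw [← hfi i, Spec.map_comp]
    rfl
  · intro p₀ hp₀
    rw [Set.mem_iInter] at hp₀
    suffices H : ∀ p : PrimeSpectrum B,
        (∀ i, p ∈ Set.range (PrimeSpectrum.comap (s.app i).hom)) →
          p ∈ Set.range (PrimeSpectrum.comap f.hom) from H p₀ hp₀
    intro p hp
    rw [PrimeSpectrum.mem_range_comap_iff]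
    refine le_antisymm ?_ Ideal.le_comap_map
    -- key: elements of the extended ideal come from a stage
    have key : ∀ x ∈ Ideal.map f.hom p.asIdeal, ∃ (i : I) (y : D.obj i),
        c.ι.app i y = x ∧ y ∈ Ideal.map (s.app i).hom p.asIdeal := by
      intro x hx
      induction hx using Submodule.span_induction with
      | mem x hx =>
        obtain ⟨b, hb, rfl⟩ := hx
        exact ⟨i₀, s.app i₀ b, hfi' i₀ b, Ideal.mem_map_of_mem _ hb⟩
      | zero => exact ⟨i₀, 0, map_zero _, Ideal.zero_mem _⟩
      | add x y _ _ hx hy =>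
        obtain ⟨i, x', rfl, hx'⟩ := hx
        obtain ⟨j, y', rfl, hy'⟩ := hy
        refine ⟨IsFiltered.max i j, D.map (IsFiltered.leftToMax i j) x' +
          D.map (IsFiltered.rightToMax i j) y', ?_, ?_⟩
        · rw [map_add]
          congr 1
          · exact ConcreteCategory.congr_hom (c.w (IsFiltered.leftToMax i j)) x'
          · exact ConcreteCategory.congr_hom (c.w (IsFiltered.rightToMax i j)) y'
        · exact Ideal.add_mem _ (hmap _ _ _ hx') (hmap _ _ _ hy')
      | smul a x _ hx =>
        obtain ⟨i, x', rfl, hx'⟩ := hx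
        obtain ⟨j, a', rfl⟩ := Concrete.isColimit_exists_rep D hc a
        refine ⟨IsFiltered.max i j, D.map (IsFiltered.rightToMax i j) a' *
          D.map (IsFiltered.leftToMax i j) x', ?_, ?_⟩
        · rw [map_mul, smul_eq_mul]
          congr 1
          · exact ConcreteCategory.congr_hom (c.w (IsFiltered.rightToMax i j)) a'
          · exact ConcreteCategory.congr_hom (c.w (IsFiltered.leftToMax i j)) x'
        · exact Ideal.mul_mem_left _ _ (hmap _ _ _ hx')
    intro b hb
    obtain ⟨i, y, hy, hyp⟩ := key (f.hom b) hb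
    have h1 : c.ι.app i y = c.ι.app i (s.app i b) := by rw [hy, hfi' i b]
    obtain ⟨k, φ, ψ, hk⟩ := Concrete.isColimit_exists_of_rep_eq D hc y (s.app i b) h1
    rw [hs' ψ b] at hk
    have h2 : s.app k b ∈ Ideal.map (s.app k).hom p.asIdeal := hk ▸ hmap φ _ _ hyp
    have h3 : p ∈ Set.range (PrimeSpectrum.comap (s.app k).hom) := hp k
    rw [PrimeSpectrum.mem_range_comap_iff] at h3
    rw [← h3]
    exact h2

end Groth.Agent.S4593
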