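import Groth.Statements.S4601
import Mathlib
-- import your own Groth.Agent.* helpers here

set_option autoImplicit false
universe u
open TensorProduct
open CAlg

namespace Groth.Agent.S4601

/-- Let A be a domain with fraction field K, B a Noetherian A-algebra which is flat over A, K' an
extension field of K, B₁ = B_red and R its total ring of fractions. For every sub-A-algebra A' of
K', the map (A' ⊗_A B)_red → (K' ⊗_A R)_red is injective, i.e. an element of A' ⊗_A B with nilpotent
image in K' ⊗_A R is nilpotent. -/
theorem result {A B K' R : Type u} [CommRing A]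
    [IsDomain A] [CommRing B] [Algebra A B] [IsNoetherianRing B] [Module.Flat A B]
    [Field K'] [Algebra A K'] [Algebra (FractionRing A) K'] [IsScalarTower A (FractionRing A) K']
    [CommRing R] [Algebra (B ⧸ nilradical B) R] [IsFractionRing (B ⧸ nilradical B) R]
    [Algebra B R] [IsScalarTower B (B ⧸ nilradical B) R] [Algebra A R] [IsScalarTower A B R]
    (A' : Subalgebra A K') (x : ↥A' ⊗[A] B)
    (hx : IsNilpotent (Algebra.TensorProduct.map A'.val (IsScalarTower.toAlgHom A B R) x)) :
    IsNilpotent x := by
  classical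
  -- Step 1: `A' ⊗ B → K' ⊗ B` is injective since `B` is flat over `A`.
  let ι₁ : ↥A' ⊗[A] B →ₐ[A] K' ⊗[A] B := Algebra.TensorProduct.map A'.val (AlgHom.id A B)
  have hι₁ : Function.Injective ι₁ := by
    have : Function.Injective (LinearMap.rTensor B A'.val.toLinearMap) :=
      Module.Flat.rTensor_preserves_injective_linearMap _ Subtype.val_injective
    have hfun : ∀ z, ι₁ z = LinearMap.rTensor B A'.val.toLinearMap z := by
      intro z
      induction z using TensorProduct.induction_on with
      | zero => simp
      | tmul a b => simp [ι₁]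
      | add a b ha hb => simp only [map_add, ha, hb]
    intro a b hab
    apply this
    rw [← hfun, ← hfun, hab]
  -- Step 2: `K'` is flat over `A`.
  have hflatK : Module.Flat A K' := Module.Flat.trans A (FractionRing A) K'
  -- the maps `K' ⊗ B → K' ⊗ B/nil → K' ⊗ R`
  let q : B →ₐ[A] (B ⧸ nilradical B) := Ideal.Quotient.mkₐ A (nilradical B)
  have htower : IsScalarTower A (B ⧸ nilradical B) R := by
    refine IsScalarTower.of_algebraMap_eq fun a => ?_
    rw [IsScalarTower.algebraMap_apply A B R, IsScalarTower.algebraMap_apply B (B ⧸ nilradical B) R]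
    rfl
  let j : (B ⧸ nilradical B) →ₐ[A] R := IsScalarTower.toAlgHom A (B ⧸ nilradical B) R
  have hj : Function.Injective j := IsFractionRing.injective (B ⧸ nilradical B) R
  let φ₁ : K' ⊗[A] B →ₐ[A] K' ⊗[A] (B ⧸ nilradical B) :=
    Algebra.TensorProduct.map (AlgHom.id A K') q
  let φ₂ : K' ⊗[A] (B ⧸ nilradical B) →ₐ[A] K' ⊗[A] R :=
    Algebra.TensorProduct.map (AlgHom.id A K') j
  have hφ₂ : Function.Injective φ₂ := by
    have : Function.Injective (LinearMap.lTensor K' j.toLinearMap) :=
      Module.Flat.lTensor_preserves_injective_linearMap _ hj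
    have hfun : ∀ z, φ₂ z = LinearMap.lTensor K' j.toLinearMap z := by
      intro z
      induction z using TensorProduct.induction_on with
      | zero => simp
      | tmul a b => simp [φ₂]
      | add a b ha hb => simp only [map_add, ha, hb]
    intro a b hab
    apply this
    rw [← hfun, ← hfun, hab]
  have hcomp : (φ₂.comp φ₁).comp ι₁ =
      Algebra.TensorProduct.map A'.val (IsScalarTower.toAlgHom A B R) := by
    apply Algebra.TensorProduct.ext'
    intro a b
    simp only [φ₁, φ₂, ι₁, AlgHom.comp_apply, Algebra.TensorProduct.map_tmul, AlgHom.id_apply]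
    congr 1
    change algebraMap (B ⧸ nilradical B) R (Ideal.Quotient.mk _ b) = algebraMap B R b
    rw [IsScalarTower.algebraMap_apply B (B ⧸ nilradical B) R]
    rfl
  rw [← hcomp] at hx
  obtain ⟨n, hn⟩ := hx
  -- the image of `x ^ n` in `K' ⊗ B/nil` vanishes
  have h1 : φ₁ (ι₁ x ^ n) = 0 := by
    apply hφ₂
    rw [map_zero, map_pow, map_pow, ← hn]
    rfl
  -- kernel of `φ₁` consists of nilpotents
  have hker : RingHom.ker φ₁.toRingHom ≤ nilradical (K' ⊗[A] B) := by
    have hq : Function.Surjective q := Ideal.Quotient.mkₐ_surjective A _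
    have := Algebra.TensorProduct.lTensor_ker (A := K') q hq
    change RingHom.ker φ₁ ≤ _
    rw [this, Ideal.map_le_iff_le_comap]
    intro b hb
    have hb' : b ∈ nilradical B := by
      have : RingHom.ker q = nilradical B := Ideal.Quotient.mkₐ_ker A _
      rw [← this]; exact hb
    rw [Ideal.mem_comap, mem_nilradical]
    exact (mem_nilradical.mp hb').map _
  have h2 : IsNilpotent (ι₁ x ^ n) := mem_nilradical.mp (hker h1)
  have h3 : IsNilpotent (ι₁ x) := by
    obtain ⟨m, hm⟩ := h2
    exact ⟨n * m, by rw [pow_mul, hm]⟩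
  obtain ⟨m, hm⟩ := h3
  exact ⟨m, hι₁ (by rw [map_pow, hm, map_zero])⟩

end Groth.Agent.S4601
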