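import Groth.Statements.S4604
import Mathlib

set_option autoImplicit false
universe u
open IsLocalRing
open EGA41

namespace Groth.Agent.S4604

theorem sub_C_constantCoeff_mem {A : Type u} [CommRing A] {σ : Type*} (P : MvPolynomial σ A) :
    P - MvPolynomial.C (MvPolynomial.constantCoeff P) ∈
      Ideal.span (Set.range (MvPolynomial.X : σ → MvPolynomial σ A)) := by
  induction P using MvPolynomial.induction_on with
  | C a => simp
  | add p q hp hq =>
    have : p + q - MvPolynomial.C (MvPolynomial.constantCoeff (p + q)) =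
        (p - MvPolynomial.C (MvPolynomial.constantCoeff p)) +
          (q - MvPolynomial.C (MvPolynomial.constantCoeff q)) := by
      rw [map_add, map_add]; ring
    rw [this]; exact Ideal.add_mem _ hp hq
  | mul_X p i _ =>
    have : MvPolynomial.constantCoeff (p * MvPolynomial.X i) = 0 := by simp
    rw [this, map_zero, sub_zero]
    exact Ideal.mul_mem_left _ _ (Ideal.subset_span ⟨i, rfl⟩)


/-- (i) and the kernel statement of (ii): let A be a local ring with maximal ideal m of square zero,
F_i(T_i) = T_i^{d_i} + Σ_{k<d_i} c_{ik} T_i^k (1 ≤ i ≤ r) monic of degrees d_i ≥ 2 with non-leading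
coefficients in m, and A' = A[T_1, …, T_r]/(F_1, …, F_r). Then A' is local with residue field K, and
the kernel of m → m'/m'² (m' the maximal ideal of A') is the ideal generated by the constant terms
c_{i0}. -/
theorem result {A : Type u} [CommRing A] [IsLocalRing A]
    (hm : maximalIdeal A ^ 2 = ⊥) {r : ℕ} (d : Fin r → ℕ) (hd : ∀ i, 2 ≤ d i) (c : Fin r → ℕ → A)
    (hc : ∀ i k, c i k ∈ maximalIdeal A) :
    let F : Fin r → MvPolynomial (Fin r) A := fun i =>
      MvPolynomial.X i ^ d i + (Finset.range (d i)).sum fun k => MvPolynomial.C (c i k) * MvPolynomial.X i ^ k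
    ∃ _ : IsLocalRing (MvPolynomial (Fin r) A ⧸ Ideal.span (Set.range F)),
      Function.Surjective ((Ideal.Quotient.mk (maximalIdeal (MvPolynomial (Fin r) A ⧸ Ideal.span (Set.range F)))).comp
        (algebraMap A (MvPolynomial (Fin r) A ⧸ Ideal.span (Set.range F)))) ∧
      maximalIdeal A ⊓ Ideal.comap (algebraMap A (MvPolynomial (Fin r) A ⧸ Ideal.span (Set.range F)))
          (maximalIdeal (MvPolynomial (Fin r) A ⧸ Ideal.span (Set.range F)) ^ 2) =
        Ideal.span (Set.range fun i => c i 0) := by
  intro F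
  set I : Ideal (MvPolynomial (Fin r) A) := Ideal.span (Set.range F) with hI
  let mk : MvPolynomial (Fin r) A →+* MvPolynomial (Fin r) A ⧸ I := Ideal.Quotient.mk I
  have hmk_surj : Function.Surjective mk := Ideal.Quotient.mk_surjective
  have hFI : ∀ i, mk (F i) = 0 := fun i =>
    Ideal.Quotient.eq_zero_iff_mem.mpr (Ideal.subset_span ⟨i, rfl⟩)
  let J₀ : Ideal (MvPolynomial (Fin r) A) :=
    (maximalIdeal A).map (MvPolynomial.C : A →+* MvPolynomial (Fin r) A) ⊔
      Ideal.span (Set.range (MvPolynomial.X : Fin r → MvPolynomial (Fin r) A))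
  let J : Ideal (MvPolynomial (Fin r) A ⧸ I) := J₀.map mk
  have hCJ : ∀ a ∈ maximalIdeal A, mk (MvPolynomial.C a) ∈ J := fun a ha =>
    Ideal.mem_map_of_mem _ (Ideal.mem_sup_left (Ideal.mem_map_of_mem _ ha))
  have hXJ : ∀ i, mk (MvPolynomial.X i) ∈ J := fun i =>
    Ideal.mem_map_of_mem _ (Ideal.mem_sup_right (Ideal.subset_span ⟨i, rfl⟩))
  -- the extension of the maximal ideal of A
  let 𝔪' : Ideal (MvPolynomial (Fin r) A ⧸ I) := (maximalIdeal A).map (mk.comp MvPolynomial.C)
  have h𝔪' : 𝔪' ^ 2 = ⊥ := by rw [← Ideal.map_pow, hm, Ideal.map_bot]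
  have hsq : ∀ s ∈ 𝔪', s ^ 2 = 0 := fun s hs => by
    have : s ^ 2 ∈ 𝔪' ^ 2 := Ideal.pow_mem_pow hs 2
    rwa [h𝔪', Ideal.mem_bot] at this
  have hrel : ∀ i, mk (MvPolynomial.X i) ^ d i =
      - ∑ k ∈ Finset.range (d i), mk (MvPolynomial.C (c i k)) * mk (MvPolynomial.X i) ^ k := by
    intro i
    have := hFI i
    simp only [F, map_add, map_pow, map_sum, map_mul] at this
    exact eq_neg_of_add_eq_zero_left this
  -- (a) J is contained in the nilradical
  have hJnil : J ≤ nilradical (MvPolynomial (Fin r) A ⧸ I) := by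
    rw [Ideal.map_le_iff_le_comap]
    refine sup_le ?_ ?_
    · rw [Ideal.map_le_iff_le_comap]
      intro a ha
      refine ⟨2, ?_⟩
      exact hsq _ (Ideal.mem_map_of_mem _ ha)
    · rw [Ideal.span_le]
      rintro _ ⟨i, rfl⟩
      refine ⟨d i * 2, ?_⟩
      show mk (MvPolynomial.X i) ^ (d i * 2) = 0
      rw [pow_mul, hrel i]
      have hS : ∑ k ∈ Finset.range (d i), mk (MvPolynomial.C (c i k)) * mk (MvPolynomial.X i) ^ k ∈ 𝔪' :=
        Ideal.sum_mem _ fun k _ =>
          Ideal.mul_mem_right _ _ (Ideal.mem_map_of_mem (mk.comp MvPolynomial.C) (hc i k))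
      have hS2 := hsq _ hS
      calc (-∑ k ∈ Finset.range (d i), mk (MvPolynomial.C (c i k)) * mk (MvPolynomial.X i) ^ k) ^ 2
          = (∑ k ∈ Finset.range (d i), mk (MvPolynomial.C (c i k)) * mk (MvPolynomial.X i) ^ k) ^ 2 := by
            ring
        _ = 0 := hS2
  -- (b) the residue map
  let ρ₀ : MvPolynomial (Fin r) A →+* ResidueField A :=
    MvPolynomial.eval₂Hom (IsLocalRing.residue A) (fun _ => 0)
  have hρ₀C : ∀ a, ρ₀ (MvPolynomial.C a) = IsLocalRing.residue A a := fun a =>
    MvPolynomial.eval₂Hom_C _ _ a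
  have hρ₀X : ∀ i, ρ₀ (MvPolynomial.X i) = 0 := fun i => MvPolynomial.eval₂Hom_X' _ _ i
  have hρ₀F : ∀ i, ρ₀ (F i) = 0 := by
    intro i
    simp only [F, map_add, map_pow, map_sum, map_mul, hρ₀C, hρ₀X]
    rw [zero_pow (by have := hd i; omega), zero_add]
    refine Finset.sum_eq_zero fun k _ => ?_
    rw [(IsLocalRing.residue_eq_zero_iff _).mpr (hc i k), zero_mul]
  have hIker : ∀ a ∈ I, ρ₀ a = 0 := by
    intro a ha
    have : I ≤ RingHom.ker ρ₀ := Ideal.span_le.mpr (by rintro _ ⟨i, rfl⟩; exact hρ₀F i)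
    exact this ha
  let ρ : MvPolynomial (Fin r) A ⧸ I →+* ResidueField A := Ideal.Quotient.lift I ρ₀ hIker
  have hρmk : ∀ P, ρ (mk P) = ρ₀ P := fun P => Ideal.Quotient.lift_mk _ _ _
  have hρsurj : Function.Surjective ρ := by
    intro y
    obtain ⟨a, rfl⟩ := IsLocalRing.residue_surjective y
    exact ⟨mk (MvPolynomial.C a), by rw [hρmk, hρ₀C]⟩
  have hXker : Ideal.span (Set.range (MvPolynomial.X : Fin r → MvPolynomial (Fin r) A)) ≤
      RingHom.ker ρ₀ := Ideal.span_le.mpr (by rintro _ ⟨i, rfl⟩; exact hρ₀X i)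
  have hkerρ : RingHom.ker ρ = J := by
    apply le_antisymm
    · intro x hx
      obtain ⟨P, rfl⟩ := hmk_surj x
      rw [RingHom.mem_ker, hρmk] at hx
      have h1 := sub_C_constantCoeff_mem P
      have h2 : ρ₀ (P - MvPolynomial.C (MvPolynomial.constantCoeff P)) = 0 := hXker h1
      rw [map_sub, hx, zero_sub, neg_eq_zero, hρ₀C, IsLocalRing.residue_eq_zero_iff] at h2
      have : P = (P - MvPolynomial.C (MvPolynomial.constantCoeff P)) +
          MvPolynomial.C (MvPolynomial.constantCoeff P) := by ring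
      rw [this, map_add]
      exact Ideal.add_mem _ (Ideal.mem_map_of_mem _ (Ideal.mem_sup_right h1)) (hCJ _ h2)
    · show J ≤ RingHom.ker ρ
      rw [Ideal.map_le_iff_le_comap]
      refine sup_le ?_ ?_
      · rw [Ideal.map_le_iff_le_comap]
        intro a ha
        show ρ (mk (MvPolynomial.C a)) = 0
        rw [hρmk, hρ₀C, IsLocalRing.residue_eq_zero_iff]; exact ha
      · rw [Ideal.span_le]
        rintro _ ⟨i, rfl⟩
        show ρ (mk (MvPolynomial.X i)) = 0
        rw [hρmk, hρ₀X]
  have hJmax : J.IsMaximal := by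
    rw [← hkerρ]
    exact RingHom.ker_isMaximal_of_surjective ρ hρsurj
  -- (c) locality
  have hloc : IsLocalRing (MvPolynomial (Fin r) A ⧸ I) := by
    apply IsLocalRing.of_unique_max_ideal
    refine ⟨J, hJmax, fun M hM => ?_⟩
    have hMp : M.IsPrime := hM.isPrime
    have : J ≤ M := hJnil.trans (nilradical_le_prime M)
    exact (hJmax.eq_of_le hM.ne_top this).symm
  have hmaxJ : @maximalIdeal (MvPolynomial (Fin r) A ⧸ I) _ hloc = J :=
    (@IsLocalRing.eq_maximalIdeal _ _ hloc J hJmax).symm
  refine ⟨hloc, ?_, ?_⟩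
  · -- (d) surjectivity onto the residue field
    intro y
    obtain ⟨x, rfl⟩ := Ideal.Quotient.mk_surjective y
    obtain ⟨P, rfl⟩ := hmk_surj x
    refine ⟨MvPolynomial.constantCoeff P, ?_⟩
    rw [RingHom.comp_apply, Ideal.Quotient.eq, hmaxJ]
    show mk (MvPolynomial.C (MvPolynomial.constantCoeff P)) - mk P ∈ J
    rw [← map_sub, ← neg_sub, map_neg]
    exact neg_mem
      (Ideal.mem_map_of_mem _ (Ideal.mem_sup_right (sub_C_constantCoeff_mem P)))
  · rw [hmaxJ]
    apply le_antisymm
    · -- (f) the kernel is contained in the ideal of constant terms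
      rintro x ⟨_, hx⟩
      have hx' : mk (MvPolynomial.C x) ∈ (J₀ ^ 2).map mk := by rw [Ideal.map_pow]; exact hx
      have hx'' : MvPolynomial.C x ∈ J₀ ^ 2 ⊔ I := by
        have := Ideal.mem_comap.mpr hx'
        rwa [Ideal.comap_map_of_surjective mk hmk_surj, ← RingHom.ker_eq_comap_bot,
          Ideal.mk_ker] at this
      obtain ⟨u, hu, v, hv, huv⟩ := Submodule.mem_sup.mp hx''
      have hcu : MvPolynomial.constantCoeff u = 0 := by
        have h1 : (J₀ ^ 2).map (MvPolynomial.constantCoeff : MvPolynomial (Fin r) A →+* A) ≤ ⊥ := by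
          rw [Ideal.map_pow, ← hm]
          apply Ideal.pow_right_mono
          rw [Ideal.map_le_iff_le_comap]
          refine sup_le ?_ ?_
          · rw [Ideal.map_le_iff_le_comap]
            intro a ha
            simpa using ha
          · rw [Ideal.span_le]
            rintro _ ⟨i, rfl⟩
            simp
        have := h1 (Ideal.mem_map_of_mem _ hu)
        simpa using this
      have hcv : MvPolynomial.constantCoeff v ∈ Ideal.span (Set.range fun i => c i 0) := by
        have h1 : I ≤ (Ideal.span (Set.range fun i => c i 0)).comap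
            (MvPolynomial.constantCoeff : MvPolynomial (Fin r) A →+* A) := by
          rw [Ideal.span_le]
          rintro _ ⟨i, rfl⟩
          rw [SetLike.mem_coe, Ideal.mem_comap]
          have : MvPolynomial.constantCoeff (F i) = c i 0 := by
            simp only [F, map_add, map_pow, map_sum, map_mul, MvPolynomial.constantCoeff_X,
              MvPolynomial.constantCoeff_C]
            rw [zero_pow (by have := hd i; omega), zero_add, Finset.sum_eq_single 0]
            · simp
            · intro k _ hk; rw [zero_pow hk, mul_zero]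
            · intro h; exfalso; apply h; rw [Finset.mem_range]; have := hd i; omega
          rw [this]; exact Ideal.subset_span ⟨i, rfl⟩
        exact h1 hv
      have : x = MvPolynomial.constantCoeff u + MvPolynomial.constantCoeff v := by
        rw [← map_add, huv, MvPolynomial.constantCoeff_C]
      rw [this, hcu, zero_add]; exact hcv
    · -- (e) the constant terms lie in the kernel
      rw [Ideal.span_le]
      rintro _ ⟨i, rfl⟩
      refine ⟨hc i 0, ?_⟩
      show mk (MvPolynomial.C (c i 0)) ∈ J ^ 2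
      have hd2 := hd i
      have h0 : mk (MvPolynomial.C (c i 0)) = -(mk (MvPolynomial.X i) ^ d i +
          ∑ k ∈ Finset.Ico 1 (d i), mk (MvPolynomial.C (c i k)) * mk (MvPolynomial.X i) ^ k) := by
        have := hFI i
        simp only [F, map_add, map_pow, map_sum, map_mul] at this
        rw [Finset.sum_range_eq_add_Ico _ (by omega : 0 < d i), pow_zero, mul_one] at this
        linear_combination this
      rw [h0]
      apply neg_mem
      apply Ideal.add_mem
      · exact Ideal.pow_le_pow_right hd2 (Ideal.pow_mem_pow (hXJ i) (d i))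
      · refine Ideal.sum_mem _ fun k hk => ?_
        rw [sq]
        apply Ideal.mul_mem_mul (hCJ _ (hc i k))
        obtain ⟨k', rfl⟩ : ∃ k', k = k' + 1 :=
          ⟨k - 1, by have := (Finset.mem_Ico.mp hk).1; omega⟩
        rw [pow_succ]
        exact Ideal.mul_mem_left _ _ (hXJ i)

end Groth.Agent.S4604
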