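import Groth.Statements.S4605
import Mathlib
import Groth.Agent.Lib.Helper81.PBasis

set_option autoImplicit false
universe u
open IsLocalRing
open EGA41

namespace Groth.Agent.S4605

open Groth.Agent.Lib.Helper81.PBasis

/-- Let A be a local ring with maximal ideal m of square zero and residue field K of characteristic p >
0, F_i(T_i) = T_i^p + p Σ_{k=1}^{p-1} c_{ik} T_i^{p-k} − f_i (i in a finite index set) with c_{ik},
f_i ∈ A, and suppose the residues of the f_i in K are p-independent over K^p. Then A' = A[T_i]/(F_i)
is local with maximal ideal m A'. (The identification of the residue field with K(a_i^{1/p}) is not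
restated.) -/
theorem result {A : Type u} [CommRing A]
    [IsLocalRing A] (hm : maximalIdeal A ^ 2 = ⊥) (p : ℕ) [Fact p.Prime] [CharP (ResidueField A) p]
    {ι : Type u} [Finite ι] (c : ι → Fin p → A) (f : ι → A)
    (hind : LinearIndependent (↥(frobenius (ResidueField A) p).fieldRange)
      (fun e : {e : ι →₀ ℕ // ∀ i, e i < p} => EGA41.pMonomial (fun i => residue A (f i)) e.1)) :
    let F : ι → MvPolynomial ι A := fun i =>
      MvPolynomial.X i ^ p + (p : MvPolynomial ι A) * (Finset.univ.sum fun j : Fin p =>
        if (j : ℕ) = 0 then 0 else MvPolynomial.C (c i j) * MvPolynomial.X i ^ (p - (j : ℕ))) - MvPolynomial.C (f i)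
    ∃ _ : IsLocalRing (MvPolynomial ι A ⧸ Ideal.span (Set.range F)),
      maximalIdeal (MvPolynomial ι A ⧸ Ideal.span (Set.range F)) =
        (maximalIdeal A).map (algebraMap A (MvPolynomial ι A ⧸ Ideal.span (Set.range F))) := by
  classical
  intro F
  have hp : p.Prime := Fact.out
  set K := ResidueField A with hK
  let L := AlgebraicClosure K
  haveI : CharP L p := charP_of_injective_algebraMap (algebraMap K L).injective p
  -- `p`-th roots of the residues
  choose t ht using fun i => IsAlgClosed.exists_pow_nat_eq (algebraMap K L (residue A (f i))) hp.pos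
  -- the reduced monomials in the `t i` are independent over `K`
  have hli : LinearIndependent K (redMon p t) := by
    rw [linearIndependent_iff']
    intro s g hg e he
    have hind' := linearIndependent_iff'.1 hind s
      (fun e => ⟨g e ^ p, ⟨g e, rfl⟩⟩)
    have hsum : ∑ e ∈ s, (⟨g e ^ p, ⟨g e, rfl⟩⟩ : (frobenius K p).fieldRange) •
        EGA41.pMonomial (fun i => residue A (f i)) e.1 = 0 := by
      apply (algebraMap K L).injective
      rw [map_zero, map_sum]
      have h1 : ∀ e : Red ι p, algebraMap K L
          ((⟨g e ^ p, ⟨g e, rfl⟩⟩ : (frobenius K p).fieldRange) •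
            EGA41.pMonomial (fun i => residue A (f i)) e.1) = (g e • redMon p t e) ^ p := by
        intro e
        rw [Subfield.smul_def, smul_eq_mul, map_mul, map_pow, Algebra.smul_def, mul_pow]
        congr 1
        rw [EGA41.pMonomial, redMon, Finsupp.prod, Finsupp.prod, map_prod, ← Finset.prod_pow]
        refine Finset.prod_congr rfl fun i _ => ?_
        rw [map_pow, ← ht i, ← pow_mul, ← pow_mul, mul_comm]
      simp only [h1]
      rw [← sum_pow_char, hg, zero_pow hp.ne_zero]
    have := hind' hsum e he
    have h2 : g e ^ p = 0 := congrArg Subtype.val this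
    exact pow_eq_zero_iff hp.ne_zero |>.1 h2
  have hxa : ∀ i, t i ^ p = algebraMap K L (residue A (f i)) := ht
  have hker := ker_aeval_eq hp.pos hxa hli
  -- the surjection onto a field
  let T : Subalgebra K L := (MvPolynomial.aeval t : MvPolynomial ι K →ₐ[K] L).range
  have hT : IsField T := Subalgebra.isField_of_algebraic T
  let Φ : MvPolynomial ι A →+* T :=
    ((MvPolynomial.aeval t : MvPolynomial ι K →ₐ[K] L).rangeRestrict).toRingHom.comp
      (MvPolynomial.map (residue A))
  have hΦ : ∀ g, ((Φ g : T) : L) = MvPolynomial.aeval t (MvPolynomial.map (residue A) g) :=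
    fun _ => rfl
  have hΦsurj : Function.Surjective Φ :=
    (AlgHom.rangeRestrict_surjective _).comp (MvPolynomial.map_surjective _ residue_surjective)
  -- `map residue` of the relations
  have hpK : ((p : ℕ) : MvPolynomial ι K) = 0 := by
    rw [← map_natCast (MvPolynomial.C : K →+* MvPolynomial ι K), CharP.cast_eq_zero K p, map_zero]
  have hmapF : ∀ i, MvPolynomial.map (residue A) (F i) =
      MvPolynomial.X i ^ p - MvPolynomial.C (residue A (f i)) := by
    intro i
    simp only [F, map_sub, map_add, map_mul, map_pow, MvPolynomial.map_X, MvPolynomial.map_C,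
      map_natCast, hpK, zero_mul, add_zero]
  set J := Ideal.span (Set.range F) with hJ
  have hmapJ : Ideal.map (MvPolynomial.map (residue A)) J =
      relIdeal p (fun i => residue A (f i)) := by
    rw [hJ, Ideal.map_span, relIdeal, ← Set.range_comp]
    congr 2
    funext i
    exact hmapF i
  have hkerΦ : ∀ g, Φ g = 0 → g ∈ J ⊔ (maximalIdeal A).map MvPolynomial.C := by
    intro g hg
    have h1 : MvPolynomial.map (residue A) g ∈ RingHom.ker
        (MvPolynomial.aeval t : MvPolynomial ι K →ₐ[K] L) := by
      rw [RingHom.mem_ker, ← hΦ, hg]; rfl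
    rw [hker, ← hmapJ, Ideal.mem_map_iff_of_surjective _
      (MvPolynomial.map_surjective _ residue_surjective)] at h1
    obtain ⟨j, hj, hjg⟩ := h1
    have h2 : g - j ∈ RingHom.ker (MvPolynomial.map (residue A) :
        MvPolynomial ι A →+* MvPolynomial ι K) := by
      rw [RingHom.mem_ker, map_sub, hjg, sub_self]
    rw [MvPolynomial.ker_map, ker_residue] at h2
    have : g = j + (g - j) := by ring
    rw [this]
    exact Ideal.add_mem _ (Ideal.mem_sup_left hj) (Ideal.mem_sup_right h2)
  have hJΦ : ∀ g ∈ J, Φ g = 0 := by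
    intro g hg
    have h1 : MvPolynomial.map (residue A) g ∈ relIdeal p (fun i => residue A (f i)) := by
      rw [← hmapJ]; exact Ideal.mem_map_of_mem _ hg
    rw [← hker, RingHom.mem_ker] at h1
    exact Subtype.ext h1
  -- descend to the quotient
  let Φ' : MvPolynomial ι A ⧸ J →+* T := Ideal.Quotient.lift J Φ hJΦ
  have hΦ'surj : Function.Surjective Φ' := Ideal.Quotient.lift_surjective_of_surjective J hJΦ hΦsurj
  have hmax : (RingHom.ker Φ').IsMaximal :=
    Ideal.Quotient.maximal_of_isField _
      (MulEquiv.isField hT (RingHom.quotientKerEquivOfSurjective hΦ'surj).toMulEquiv)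
  set N := (maximalIdeal A).map (algebraMap A (MvPolynomial ι A ⧸ J)) with hN
  have hNker : N = RingHom.ker Φ' := by
    apply le_antisymm
    · rw [hN, Ideal.map_le_iff_le_comap]
      intro a ha
      rw [Ideal.mem_comap, RingHom.mem_ker]
      show Φ' (Ideal.Quotient.mk J (MvPolynomial.C a)) = 0
      rw [Ideal.Quotient.lift_mk]
      apply Subtype.ext
      rw [hΦ, MvPolynomial.map_C, MvPolynomial.aeval_C, (residue_eq_zero_iff a).2 ha, map_zero]
      rfl
    · intro q hq
      obtain ⟨g, rfl⟩ := Ideal.Quotient.mk_surjective q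
      rw [RingHom.mem_ker, Ideal.Quotient.lift_mk] at hq
      have hg := hkerΦ g hq
      obtain ⟨j, hj, h, hh, rfl⟩ := Submodule.mem_sup.1 hg
      rw [map_add, Ideal.Quotient.eq_zero_iff_mem.2 hj, zero_add, hN]
      have : algebraMap A (MvPolynomial ι A ⧸ J) =
          (Ideal.Quotient.mk J).comp (MvPolynomial.C : A →+* MvPolynomial ι A) := rfl
      rw [this, ← Ideal.map_map]
      exact Ideal.mem_map_of_mem _ hh
  have hNmax : N.IsMaximal := hNker ▸ hmax
  have hNsq : N ^ 2 = ⊥ := by
    rw [hN, ← Ideal.map_pow, hm, Ideal.map_bot]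
  have huniq : ∀ M : Ideal (MvPolynomial ι A ⧸ J), M.IsMaximal → M = N := by
    intro M hM
    have hle : N ≤ M := by
      intro q hq
      apply hM.isPrime.mem_of_pow_mem 2
      have := Ideal.pow_mem_pow hq 2
      rw [hNsq, Ideal.mem_bot] at this
      rw [this]
      exact M.zero_mem
    exact (hNmax.eq_of_le hM.ne_top hle).symm
  haveI hloc : IsLocalRing (MvPolynomial ι A ⧸ J) :=
    IsLocalRing.of_unique_max_ideal ⟨N, hNmax, huniq⟩
  exact ⟨hloc, (IsLocalRing.eq_maximalIdeal hNmax).symm⟩

end Groth.Agent.S4605
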