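import Groth.Statements.S4606
import Mathlib
import Groth.Agent.Lib.Helper62.CotangentInjective
import Groth.Agent.Lib.Helper62.LocalJacobianAdic

set_option autoImplicit false
universe u
open TensorProduct KaehlerDifferential IsLocalRing
open EGA41

namespace Groth.Agent.S4606

/-- Let B be a Noetherian A-algebra formally smooth for the discrete topologies, B → C a surjection with
kernel J, p a prime of C and q its contraction to A. Then C_p is formally smooth over A_q (A_q
discrete, C_p with the adic topology of its maximal ideal) if and only if κ(p) ⊗ J/J² → κ(p) ⊗ (C
⊗_B Ω_{B/A}) is injective. (The equivalent variant with the q-adic topology on A_q is not stated.) -/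
theorem result {A B C : Type u} [CommRing A]
    [CommRing B] [CommRing C] [Algebra A B] [Algebra B C] [Algebra A C] [IsScalarTower A B C] [IsNoetherianRing B]
    [Algebra.FormallySmooth A B] (hsurj : Function.Surjective (algebraMap B C)) (p : Ideal C) [p.IsPrime]
    [Algebra (Localization.AtPrime (p.comap (algebraMap A C))) (Localization.AtPrime p)]
    [IsScalarTower A (Localization.AtPrime (p.comap (algebraMap A C))) (Localization.AtPrime p)] :
    CAlgX.IsAdicFormallySmooth (Localization.AtPrime (p.comap (algebraMap A C))) (Localization.AtPrime p)
        (maximalIdeal (Localization.AtPrime p)) ↔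
      Function.Injective ((kerCotangentToTensor A B C).lTensor p.ResidueField) := by
  classical
  rw [← Groth.Agent.Lib.Helper62.CotangentInjective.formallySmooth_atPrime_iff_injective hsurj p]
  constructor
  · intro h
    let q' : Ideal B := p.comap (algebraMap B C)
    have : q'.IsPrime := Ideal.comap_isPrime _ _
    have : p.LiesOver q' := ⟨rfl⟩
    have : q'.LiesOver (p.comap (algebraMap A C)) := ⟨by
      show p.comap (algebraMap A C) = (p.comap (algebraMap B C)).comap (algebraMap A B)
      rw [Ideal.comap_comap, ← IsScalarTower.algebraMap_eq]⟩
    let _ := Localization.AtPrime.algebraOfLiesOver q' p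
    let _ := Localization.AtPrime.algebraOfLiesOver (p.comap (algebraMap A C)) q'
    have hsurjP : Function.Surjective
        (algebraMap (Localization.AtPrime q') (Localization.AtPrime p)) :=
      Groth.Agent.Lib.Helper62.JacobianFS.localRingHom_surjective q' p hsurj
    have : Algebra.FormallyEtale B (Localization.AtPrime q') :=
      Algebra.FormallyEtale.of_isLocalization q'.primeCompl
    have : Algebra.FormallySmooth A (Localization.AtPrime q') :=
      Algebra.FormallySmooth.comp A B (Localization.AtPrime q')
    have : IsNoetherianRing (Localization.AtPrime q') :=
      IsLocalization.isNoetherianRing q'.primeCompl _ inferInstance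
    have : IsScalarTower (Localization.AtPrime (p.comap (algebraMap A C)))
        (Localization.AtPrime q') (Localization.AtPrime p) := by
      apply IsScalarTower.of_algebraMap_eq'
      apply IsLocalization.ringHom_ext (p.comap (algebraMap A C)).primeCompl
      rw [← IsScalarTower.algebraMap_eq, RingHom.comp_assoc, ← IsScalarTower.algebraMap_eq,
        ← IsScalarTower.algebraMap_eq]
    exact Groth.Agent.Lib.Helper62.LocalJacobianAdic.formallySmooth_of_isAdicFormallySmooth
      (R₀ := A) (R₁ := Localization.AtPrime (p.comap (algebraMap A C)))
      (P := Localization.AtPrime q') (C := Localization.AtPrime p) hsurjP h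
  · intro h
    have : Algebra.FormallySmooth A (Localization.AtPrime p) := h
    have : Algebra.FormallySmooth (Localization.AtPrime (p.comap (algebraMap A C)))
        (Localization.AtPrime p) :=
      Algebra.FormallySmooth.localization_base (R := A) (p.comap (algebraMap A C)).primeCompl
    exact Groth.Agent.Lib.Helper62.LocalJacobianAdic.isAdicFormallySmooth_of_formallySmooth _

end Groth.Agent.S4606
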