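import Groth.Statements.S4607
import Mathlib.RingTheory.Spectrum.Prime.RingHom
import Mathlib.RingTheory.Flat.Basic
import Mathlib.LinearAlgebra.TensorProduct.Tower
import Mathlib.RingTheory.Flat.FaithfullyFlat.Basic

set_option autoImplicit false
universe u
open TensorProduct
open EGA41

namespace Groth.Agent.S4607

/-- First assertion, case of two factors: for A-algebras A' and A'' the image of Spec(A' ⊗_A A'') in
Spec A is the intersection of the images of Spec A' and Spec A''. -/
theorem result {A A' A'' : Type u} [CommRing A] [CommRing A'] [CommRing A'']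
    [Algebra A A'] [Algebra A A''] :
    Set.range (PrimeSpectrum.comap (algebraMap A (A' ⊗[A] A''))) =
      Set.range (PrimeSpectrum.comap (algebraMap A A')) ∩ Set.range (PrimeSpectrum.comap (algebraMap A A'')) := by
  ext p
  simp only [Set.mem_inter_iff, ← PrimeSpectrum.nontrivial_iff_mem_rangeComap]
  set k := p.asIdeal.ResidueField with hk
  constructor
  · intro h
    constructor
    · -- `k ⊗ (A' ⊗ A'') → k ⊗ A'` does not exist in general; use the map the other way round
      let φ : k ⊗[A] A' →ₐ[A] k ⊗[A] (A' ⊗[A] A'') :=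
        Algebra.TensorProduct.map (AlgHom.id A k) Algebra.TensorProduct.includeLeft
      by_contra hne
      rw [not_nontrivial_iff_subsingleton] at hne
      have h01 : (0 : k ⊗[A] A') = 1 := Subsingleton.elim _ _
      have := congrArg φ h01
      rw [map_zero, map_one] at this
      exact zero_ne_one this
    · let φ : k ⊗[A] A'' →ₐ[A] k ⊗[A] (A' ⊗[A] A'') :=
        Algebra.TensorProduct.map (AlgHom.id A k) Algebra.TensorProduct.includeRight
      by_contra hne
      rw [not_nontrivial_iff_subsingleton] at hne
      have h01 : (0 : k ⊗[A] A'') = 1 := Subsingleton.elim _ _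
      have := congrArg φ h01
      rw [map_zero, map_one] at this
      exact zero_ne_one this
  · rintro ⟨h', h''⟩
    have hinj : Function.Injective (algebraMap k (k ⊗[A] A'')) := (algebraMap k _).injective
    have hT : Nontrivial ((k ⊗[A] A') ⊗[k] (k ⊗[A] A'')) :=
      Algebra.TensorProduct.nontrivial_of_algebraMap_injective_of_flat_left k _ _ hinj
    let e₁ : k ⊗[A] (A' ⊗[A] A'') ≃ₗ[A] (k ⊗[A] A') ⊗[A] A'' := (TensorProduct.assoc A k A' A'').symm
    let e₂ : (k ⊗[A] A') ⊗[k] (k ⊗[A] A'') ≃ₗ[k] (k ⊗[A] A') ⊗[A] A'' :=
      TensorProduct.AlgebraTensorModule.cancelBaseChange A k k (k ⊗[A] A') A''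
    exact (e₁.toEquiv.trans e₂.symm.toEquiv).nontrivial

end Groth.Agent.S4607
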