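import Groth.Statements.S4610
import Mathlib.RingTheory.AdjoinRoot
import Mathlib.RingTheory.AlgebraTower
import Mathlib.LinearAlgebra.Dimension.Free
import Mathlib.RingTheory.MvPolynomial.Basic

set_option autoImplicit false
universe u
open EGA41

namespace Groth.Agent.S4610

open Polynomial MvPolynomial

variable {A : Type u} [CommRing A]

/-- The ideal generated by the `F i (X i)`. -/
noncomputable def J {r : ℕ} (F : Fin r → Polynomial A) : Ideal (MvPolynomial (Fin r) A) :=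
  Ideal.span (Set.range fun i =>
    Polynomial.aeval (MvPolynomial.X i : MvPolynomial (Fin r) A) (F i))

theorem gen_mem_J {r : ℕ} (F : Fin r → Polynomial A) (i : Fin r) :
    Polynomial.aeval (MvPolynomial.X i : MvPolynomial (Fin r) A) (F i) ∈ J F :=
  Ideal.subset_span ⟨i, rfl⟩

theorem mk_gen {r : ℕ} (F : Fin r → Polynomial A) (i : Fin r) :
    Polynomial.aeval (Ideal.Quotient.mk (J F) (MvPolynomial.X i)) (F i) = 0 := by
  have h1 : Ideal.Quotient.mk (J F) (X i) = (Ideal.Quotient.mkₐ A (J F)) (X i) := rfl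
  rw [h1, Polynomial.aeval_algHom_apply, Ideal.Quotient.mkₐ_eq_mk,
    Ideal.Quotient.eq_zero_iff_mem.mpr (gen_mem_J F i)]

theorem J_le_ker {r : ℕ} (F : Fin r → Polynomial A) {S : Type*} [CommRing S] [Algebra A S]
    (f : MvPolynomial (Fin r) A →ₐ[A] S)
    (h : ∀ i, Polynomial.aeval (f (X i)) (F i) = 0) : ∀ a ∈ J F, f a = 0 := by
  intro a ha
  have hle : J F ≤ RingHom.ker (f : _ →+* S) := by
    rw [J, Ideal.span_le]
    rintro _ ⟨j, rfl⟩
    rw [SetLike.mem_coe, RingHom.mem_ker]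
    change f (Polynomial.aeval (X j) (F j)) = 0
    rw [← Polynomial.aeval_algHom_apply]
    exact h j
  exact hle ha

variable {n : ℕ} (F : Fin (n + 1) → A[X])

abbrev Cq := MvPolynomial (Fin n) A ⧸ J (fun i => F i.succ)
noncomputable abbrev gq : (Cq F)[X] := (F 0).map (algebraMap A (Cq F))
abbrev Dq := AdjoinRoot (gq F)
abbrev Qq := MvPolynomial (Fin (n + 1)) A ⧸ J F

noncomputable def φ₀ : MvPolynomial (Fin (n + 1)) A →ₐ[A] Dq F :=
  MvPolynomial.aeval (Fin.cons (AdjoinRoot.root (gq F))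
    (fun i => algebraMap (Cq F) (Dq F) (Ideal.Quotient.mk _ (X i))))

theorem φ₀_zero : φ₀ F (X 0) = AdjoinRoot.root (gq F) := by
  simp [φ₀]

theorem φ₀_succ (i : Fin n) :
    φ₀ F (X i.succ) = algebraMap (Cq F) (Dq F) (Ideal.Quotient.mk _ (X i)) := by
  simp [φ₀]

theorem hφ₀ : ∀ a ∈ J F, φ₀ F a = 0 := by
  apply J_le_ker
  intro j
  refine Fin.cases ?_ (fun i => ?_) j
  · rw [φ₀_zero, ← Polynomial.aeval_map_algebraMap (Cq F), AdjoinRoot.aeval_eq, AdjoinRoot.mk_self]
  · rw [φ₀_succ]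
    have h1 : algebraMap (Cq F) (Dq F) (Ideal.Quotient.mk _ (X i)) =
        (IsScalarTower.toAlgHom A (Cq F) (Dq F)) (Ideal.Quotient.mk _ (X i)) := rfl
    rw [h1, Polynomial.aeval_algHom_apply]
    have := mk_gen (fun i => F i.succ) i
    rw [this, map_zero]

noncomputable def φ : Qq F →ₐ[A] Dq F := Ideal.Quotient.liftₐ (J F) (φ₀ F) (hφ₀ F)

theorem φ_mk (a : MvPolynomial (Fin (n + 1)) A) : φ F (Ideal.Quotient.mk (J F) a) = φ₀ F a := rfl

noncomputable def ψ₀ : MvPolynomial (Fin n) A →ₐ[A] Qq F :=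
  MvPolynomial.aeval (fun i => Ideal.Quotient.mk (J F) (X i.succ))

theorem hψ₀ : ∀ a ∈ J (fun i => F i.succ), ψ₀ F a = 0 := by
  apply J_le_ker
  intro i
  have : ψ₀ F (X i) = Ideal.Quotient.mk (J F) (X i.succ) := by simp [ψ₀]
  rw [this]
  exact mk_gen F i.succ

noncomputable def ψ₁ : Cq F →ₐ[A] Qq F := Ideal.Quotient.liftₐ _ (ψ₀ F) (hψ₀ F)

theorem ψ₁_mk (a : MvPolynomial (Fin n) A) : ψ₁ F (Ideal.Quotient.mk _ a) = ψ₀ F a := rfl

theorem ψ₁_mk_X (i : Fin n) :
    ψ₁ F (Ideal.Quotient.mk _ (X i)) = Ideal.Quotient.mk (J F) (X i.succ) := by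
  rw [ψ₁_mk]; simp [ψ₀]

theorem hψ : (gq F).eval₂ (ψ₁ F : Cq F →+* Qq F) (Ideal.Quotient.mk (J F) (X 0)) = 0 := by
  rw [gq, Polynomial.eval₂_map]
  have h0 : (ψ₁ F : Cq F →+* Qq F).comp (algebraMap A (Cq F)) = algebraMap A (Qq F) := by
    ext a
    simp
  rw [h0, ← Polynomial.aeval_def]
  exact mk_gen F 0

noncomputable def ψ : Dq F →ₐ[A] Qq F :=
  AdjoinRoot.liftAlgHom (gq F) (ψ₁ F) (Ideal.Quotient.mk (J F) (X 0)) (hψ F)

theorem φ_comp_ψ₁ : (φ F).comp (ψ₁ F) = IsScalarTower.toAlgHom A (Cq F) (Dq F) := by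
  apply Ideal.Quotient.algHom_ext
  apply MvPolynomial.algHom_ext
  intro i
  change φ F (ψ₁ F (Ideal.Quotient.mk _ (X i))) = algebraMap (Cq F) (Dq F) (Ideal.Quotient.mk _ (X i))
  rw [ψ₁_mk_X, φ_mk, φ₀_succ]

theorem φ_comp_ψ : (φ F).comp (ψ F) = AlgHom.id A (Dq F) := by
  apply AlgHom.ext
  intro d
  induction d using AdjoinRoot.induction_on with
  | ih p =>
    change φ F (Polynomial.eval₂ (ψ₁ F : Cq F →+* Qq F) (Ideal.Quotient.mk (J F) (X 0)) p) =
      AdjoinRoot.mk (gq F) p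
    have h5 : φ F (Polynomial.eval₂ (ψ₁ F : Cq F →+* Qq F) (Ideal.Quotient.mk (J F) (X 0)) p) =
        (φ F : Qq F →+* Dq F) (Polynomial.eval₂ (ψ₁ F : Cq F →+* Qq F)
          (Ideal.Quotient.mk (J F) (X 0)) p) := rfl
    rw [h5, Polynomial.hom_eval₂]
    have h3 : (φ F : Qq F →+* Dq F).comp (ψ₁ F : Cq F →+* Qq F) = algebraMap (Cq F) (Dq F) := by
      have := congrArg (fun f : Cq F →ₐ[A] Dq F => (f : Cq F →+* Dq F)) (φ_comp_ψ₁ F)
      exact this
    have h4 : (φ F : Qq F →+* Dq F) (Ideal.Quotient.mk (J F) (X 0)) = AdjoinRoot.root (gq F) := by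
      change φ F (Ideal.Quotient.mk (J F) (X 0)) = _
      rw [φ_mk, φ₀_zero]
    rw [h3, h4, ← Polynomial.aeval_def, AdjoinRoot.aeval_eq]

theorem ψ_comp_φ : (ψ F).comp (φ F) = AlgHom.id A (Qq F) := by
  apply Ideal.Quotient.algHom_ext
  apply MvPolynomial.algHom_ext
  intro j
  change ψ F (φ F (Ideal.Quotient.mk (J F) (X j))) = Ideal.Quotient.mk (J F) (X j)
  rw [φ_mk]
  refine Fin.cases ?_ (fun i => ?_) j
  · rw [φ₀_zero, ψ, AdjoinRoot.liftAlgHom_root]
  · rw [φ₀_succ, AdjoinRoot.algebraMap_eq, ψ, AdjoinRoot.liftAlgHom_of, ψ₁_mk_X]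

/-- The key isomorphism: `A[X_0..X_n]/(F_i(X_i)) ≃ (A[X_1..X_n]/(F_i(X_i))_{i ≥ 1})[T]/(F_0(T))`. -/
noncomputable def equiv : Qq F ≃ₐ[A] Dq F :=
  AlgEquiv.ofAlgHom (φ F) (ψ F) (φ_comp_ψ F) (ψ_comp_φ F)

theorem main {r : ℕ} (F : Fin r → Polynomial A) (hF : ∀ i, (F i).Monic) [Nontrivial A] :
    Module.Free A (MvPolynomial (Fin r) A ⧸ J F) ∧
      Module.finrank A (MvPolynomial (Fin r) A ⧸ J F) =
        Finset.univ.prod fun i => (F i).natDegree := by
  induction r with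
  | zero =>
    have hJ : J F = ⊥ := by
      rw [J, Ideal.span_eq_bot]
      rintro _ ⟨i, _⟩
      exact i.elim0
    let e : (MvPolynomial (Fin 0) A ⧸ J F) ≃ₐ[A] A :=
      ((Ideal.quotientEquivAlgOfEq A hJ).trans (AlgEquiv.quotientBot A _)).trans
        (MvPolynomial.isEmptyAlgEquiv A (Fin 0))
    refine ⟨Module.Free.of_equiv e.symm.toLinearEquiv, ?_⟩
    rw [e.toLinearEquiv.finrank_eq]
    simp
  | succ n ih =>
    obtain ⟨hfree, hrank⟩ := ih (fun i => F i.succ) (fun i => hF i.succ)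
    have e := equiv F
    have hgm : (gq F).Monic := (hF 0).map _
    rw [Fin.prod_univ_succ, ← hrank]
    rcases subsingleton_or_nontrivial (Cq F) with hsub | hnt
    · have : Subsingleton (Dq F) := Module.subsingleton (Cq F) _
      have : Subsingleton (MvPolynomial (Fin (n + 1)) A ⧸ J F) := e.toEquiv.subsingleton
      refine ⟨Module.Free.of_subsingleton _ _, ?_⟩
      rw [Module.finrank_zero_of_subsingleton, Module.finrank_zero_of_subsingleton, mul_zero]
    · have hfreeD : Module.Free (Cq F) (Dq F) := hgm.free_adjoinRoot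
      have hfreeAD : Module.Free A (Dq F) := Module.Free.of_basis
        ((Module.Free.chooseBasis A (Cq F)).smulTower (Module.Free.chooseBasis (Cq F) (Dq F)))
      refine ⟨Module.Free.of_equiv e.symm.toLinearEquiv, ?_⟩
      rw [e.toLinearEquiv.finrank_eq, ← Module.finrank_mul_finrank A (Cq F) (Dq F),
        (AdjoinRoot.powerBasis' hgm).finrank, AdjoinRoot.powerBasis'_dim,
        (hF 0).natDegree_map, mul_comm]

end Groth.Agent.S4610

namespace Groth.Agent.S4610

/-- Let A be a nonzero ring and F_1, …, F_r monic one-variable polynomials of degrees d_1, …, d_r; then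
A[T_1, …, T_r]/(F_1(T_1), …, F_r(T_r)) is a free A-module of rank ∏ d_i. (The published statement
assumes A local with maximal ideal of square zero and A' local, which this assertion does not use;
its bound [K' : K] ≤ d and part (ii) are not stated.) -/
theorem result {A : Type u} [CommRing A] [Nontrivial A]
    {r : ℕ} (F : Fin r → Polynomial A) (hF : ∀ i, (F i).Monic) :
    Module.Free A (MvPolynomial (Fin r) A ⧸ Ideal.span (Set.range fun i => Polynomial.aeval (MvPolynomial.X i : MvPolynomial (Fin r) A) (F i))) ∧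
      Module.finrank A (MvPolynomial (Fin r) A ⧸ Ideal.span (Set.range fun i => Polynomial.aeval (MvPolynomial.X i : MvPolynomial (Fin r) A) (F i))) =
        Finset.univ.prod fun i => (F i).natDegree := by
  exact main F hF

end Groth.Agent.S4610
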