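import Groth.Statements.S4611
-- import your own Groth.Agent.* helpers here

set_option autoImplicit false
universe u
open EGA41

namespace Groth.Agent.S4611

/-- A local algebra essentially of finite type over a ring A is A-isomorphic to a quotient of a
localization A[T_1, …, T_n]_q of a polynomial algebra at a prime ideal q; stated as the existence of
a surjective A-algebra map from such a localization. -/
theorem result {A B : Type u} [CommRing A]
    [CommRing B] [IsLocalRing B] [Algebra A B] [Algebra.EssFiniteType A B] :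
    ∃ (n : ℕ) (q : Ideal (MvPolynomial (Fin n) A)) (_ : q.IsPrime)
      (φ : Localization.AtPrime q →ₐ[A] B), Function.Surjective φ := by
  obtain ⟨σ, hσ⟩ := (Algebra.essFiniteType_iff A B).mp inferInstance
  have hft : Algebra.FiniteType A (Algebra.adjoin A (σ : Set B)) :=
    ⟨(Subalgebra.fg_top _).mpr ⟨σ, rfl⟩⟩
  obtain ⟨n, f, hf⟩ := Algebra.FiniteType.iff_quotient_mvPolynomial''.mp hft
  let g : MvPolynomial (Fin n) A →ₐ[A] B := (Algebra.adjoin A (σ : Set B)).val.comp f
  let q : Ideal (MvPolynomial (Fin n) A) := (IsLocalRing.maximalIdeal B).comap g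
  have hq : q.IsPrime := Ideal.comap_isPrime g _
  have hunit : ∀ y : q.primeCompl, IsUnit (g y) := by
    intro y
    by_contra hy
    exact y.2 ((IsLocalRing.mem_maximalIdeal _).mpr hy)
  refine ⟨n, q, hq, IsLocalization.liftAlgHom (M := q.primeCompl) (f := g) hunit, ?_⟩
  intro b
  obtain ⟨t, ht, htu, hbt⟩ := hσ b
  obtain ⟨Q, hQ⟩ := hf ⟨t, ht⟩
  obtain ⟨P, hP⟩ := hf ⟨b * t, hbt⟩
  have hgQ : g Q = t := by
    change ((f Q : Algebra.adjoin A (σ : Set B)) : B) = t
    rw [hQ]
  have hgP : g P = b * t := by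
    change ((f P : Algebra.adjoin A (σ : Set B)) : B) = b * t
    rw [hP]
  have hQq : Q ∈ q.primeCompl := by
    intro hmem
    have : g Q ∈ IsLocalRing.maximalIdeal B := hmem
    rw [hgQ] at this
    exact (IsLocalRing.mem_maximalIdeal _).mp this htu
  refine ⟨IsLocalization.mk' _ P ⟨Q, hQq⟩, ?_⟩
  rw [IsLocalization.liftAlgHom_apply, IsLocalization.lift_mk'_spec]
  change g P = g Q * b
  rw [hgP, hgQ, mul_comm]

end Groth.Agent.S4611
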