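import Groth.Statements.S4612
import Mathlib
import Groth.Agent.Lib.Helper88.Jacobian.NagataPS
import Groth.Agent.Lib.Helper88.Jacobian.JacReg
import Groth.Agent.Lib.Helper88.Jacobian.SepSmooth

set_option autoImplicit false
universe u
open IsLocalRing
open EGA41

namespace Groth.Agent.S4612

/-- Nagata's Jacobian criterion for quotients of power series rings: let k be a field, A = k[[T_1, …,
T_r]], q ⊆ p ideals of A with p prime, B = A/q. Suppose A/p contains a sub-k-algebra isomorphic to a
power series algebra k[[X_1, …, X_s]] over which A/p is finite and such that the fraction field L of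
A/p is a separable extension of the fraction field L' of k[[X_1, …, X_s]]; here this is given as an
injective k-algebra map k[[X_1, …, X_s]] → A/p making A/p a finite module, with fraction fields L',
L and a compatible L'-algebra structure on L. Then the following are equivalent: B_p is formally
smooth over k for the adic topology of its maximal ideal; there are k-derivations D_1, …, D_m of A
into itself and f_1, …, f_m ∈ q generating qA_p with det(D_i f_j) ∉ p; B_p is a regular local ring.
(The published statement remarks that the hypothesis on A/p always holds when k has characteristic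
zero.) -/
theorem result {k : Type u} [Field k] (r : ℕ)
    (q p : Ideal (MvPowerSeries (Fin r) k)) [p.IsPrime] (hqp : q ≤ p) [(p.map (Ideal.Quotient.mk q)).IsPrime]
    (s : ℕ) [Algebra (MvPowerSeries (Fin s) k) (MvPowerSeries (Fin r) k ⧸ p)]
    [IsScalarTower k (MvPowerSeries (Fin s) k) (MvPowerSeries (Fin r) k ⧸ p)]
    [Module.Finite (MvPowerSeries (Fin s) k) (MvPowerSeries (Fin r) k ⧸ p)]
    (hinj : Function.Injective (algebraMap (MvPowerSeries (Fin s) k) (MvPowerSeries (Fin r) k ⧸ p)))
    {L' L : Type u} [Field L'] [Field L]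
    [Algebra (MvPowerSeries (Fin s) k) L'] [IsFractionRing (MvPowerSeries (Fin s) k) L']
    [Algebra (MvPowerSeries (Fin r) k ⧸ p) L] [IsFractionRing (MvPowerSeries (Fin r) k ⧸ p) L]
    [Algebra L' L] [Algebra (MvPowerSeries (Fin s) k) L]
    [IsScalarTower (MvPowerSeries (Fin s) k) (MvPowerSeries (Fin r) k ⧸ p) L]
    [IsScalarTower (MvPowerSeries (Fin s) k) L' L] [Algebra.IsSeparable L' L] :
    [CAlgX.IsAdicFormallySmooth k (Localization.AtPrime (p.map (Ideal.Quotient.mk q)))
        (maximalIdeal (Localization.AtPrime (p.map (Ideal.Quotient.mk q)))),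
     ∃ (m : ℕ) (D : Fin m → Derivation k (MvPowerSeries (Fin r) k) (MvPowerSeries (Fin r) k))
        (f : Fin m → MvPowerSeries (Fin r) k), (∀ i, f i ∈ q) ∧
        q.map (algebraMap (MvPowerSeries (Fin r) k) (Localization.AtPrime p)) =
          Ideal.span (Set.range fun i => algebraMap (MvPowerSeries (Fin r) k) (Localization.AtPrime p) (f i)) ∧
        Matrix.det (Matrix.of fun i j => D i (f j)) ∉ p,
     IsRegularLocalRing (Localization.AtPrime (p.map (Ideal.Quotient.mk q)))].TFAE := by
  classical
  have hregA : IsRegularRing (MvPowerSeries (Fin r) k) :=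
    Groth.Agent.Lib.Helper73.RegularRing.isRegularRing_mvPowerSeries k r
  have hregAp : IsRegularLocalRing (Localization.AtPrime p) := inferInstance
  tfae_have 1 → 3 := fun h => (Groth.Agent.S2471.result.mp h).1
  tfae_have 3 → 2 := fun h =>
    Groth.Agent.Lib.Helper88.Jacobian.jacobian_of_regular r q p hqp s hinj (L' := L') (L := L) h
  tfae_have 2 → 3 := by
    rintro ⟨m, D, f, hfq, hgen, hdet⟩
    have h1 := Groth.Agent.Lib.Helper88.Jacobian.isRegularLocalRing_quotient_of_jacobian p m D f
      (fun i => hqp (hfq i)) hdet
    rw [← hgen] at h1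
    exact (Groth.Agent.Lib.Helper88.Jacobian.isRegularLocalRing_iff q p hqp).mpr h1
  tfae_have 3 → 1 := by
    intro hreg
    let _ : Algebra k L :=
      ((algebraMap (MvPowerSeries (Fin r) k ⧸ p) L).comp
        (algebraMap k (MvPowerSeries (Fin r) k ⧸ p))).toAlgebra
    have t1 : IsScalarTower k (MvPowerSeries (Fin r) k ⧸ p) L :=
      IsScalarTower.of_algebraMap_eq (R := k) (S := MvPowerSeries (Fin r) k ⧸ p) (A := L)
        (fun _ => rfl)
    have hinjΥ := Groth.Agent.Lib.Helper88.Jacobian.injective_mapBaseChange_of_isSeparable' k s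
      (MvPowerSeries (Fin r) k ⧸ p) L' L
    obtain ⟨φ, hφsurj, hφ⟩ := Groth.Agent.Lib.Helper88.Jacobian.exists_ringHom_residue q p hqp L
    let _ : Algebra (Localization.AtPrime (p.map (Ideal.Quotient.mk q))) L := φ.toAlgebra
    have t2 : IsScalarTower k (Localization.AtPrime (p.map (Ideal.Quotient.mk q))) L := by
      refine IsScalarTower.of_algebraMap_eq (R := k)
        (S := Localization.AtPrime (p.map (Ideal.Quotient.mk q))) (A := L) (fun c => ?_)
      change _ = φ _
      rw [IsScalarTower.algebraMap_apply k (MvPowerSeries (Fin r) k ⧸ q)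
        (Localization.AtPrime (p.map (Ideal.Quotient.mk q))), hφ,
        IsScalarTower.algebraMap_apply k (MvPowerSeries (Fin r) k) (MvPowerSeries (Fin r) k ⧸ q),
        Ideal.Quotient.algebraMap_eq, Ideal.Quotient.factor_mk]
      rfl
    exact Groth.Agent.Lib.Helper88.Jacobian.isAdicFormallySmooth_of_regular_of_injective k
      (Localization.AtPrime (p.map (Ideal.Quotient.mk q))) L hφsurj hreg hinjΥ
  tfae_finish

end Groth.Agent.S4612
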