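import Groth.Statements.S4618
import Mathlib
import Groth.Agent.Lib.Helper50.BaseChangeMap
import Groth.Agent.Lib.Helper50.TopoComp

set_option autoImplicit false
open CategoryTheory AlgebraicGeometry
universe u
open FBase

namespace Groth.Agent.S4618

/-- Let X be a scheme over a field k, K any extension field of k and Ω an algebraically closed extension
field of k. Then the set of connected components of X ⊗_k K has cardinality at most that of the set
of connected components of X ⊗_k Ω. In particular the cardinality of the set of connected components
of X ⊗_k Ω does not depend on the algebraically closed extension Ω. -/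
theorem result {k K Ω : Type u} [Field k] [Field K] [Algebra k K]
    [Field Ω] [Algebra k Ω] [IsAlgClosed Ω] {X : Scheme.{u}} (f : X ⟶ Spec (CommRingCat.of k)) :
    Cardinal.mk (_root_.ConnectedComponents ↥(FBase.bc f K)) ≤ Cardinal.mk (_root_.ConnectedComponents ↥(FBase.bc f Ω)) := by
    obtain ⟨L, _, a, b, hab⟩ := Groth.Agent.Lib.Helper50.exists_field_compositum k K Ω
    obtain ⟨π₁, hπ₁, -⟩ := Groth.Agent.Lib.Helper50.exists_bcMap f (algebraMap k K) a _ rfl
    obtain ⟨π₂, hπ₂, -⟩ := Groth.Agent.Lib.Helper50.exists_bcMap f (algebraMap k Ω) b _ hab
    have hs : Surjective π₁ :=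
      MorphismProperty.of_isPullback hπ₁.flip (Groth.Agent.Lib.Helper50.surjective_specMap_field a)
    letI := b.toAlgebra
    have hb : GeometricallyConnected (Spec.map (CommRingCat.ofHom b)) :=
      Groth.Agent.Lib.Helper50.geometricallyConnected_specMap_of_isSepClosed Ω L
    have hg : GeometricallyConnected π₂ := MorphismProperty.of_isPullback hπ₂.flip hb
    have ho : UniversallyOpen π₂ := MorphismProperty.of_isPullback hπ₂.flip inferInstance
    have e := Scheme.Hom.connectedComponentsHomeomorph π₂ π₂.isOpenMap
    calc Cardinal.mk (_root_.ConnectedComponents ↥(FBase.bc f K))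
        ≤ Cardinal.mk (_root_.ConnectedComponents
            ↥(Limits.pullback f (Spec.map (CommRingCat.ofHom (a.comp (algebraMap k K)))))) :=
          Groth.Agent.Lib.Helper50.mk_connectedComponents_le_of_surjective π₁.continuous hs.surj
      _ = Cardinal.mk (_root_.ConnectedComponents ↥(FBase.bc f Ω)) := Cardinal.mk_congr e.toEquiv

end Groth.Agent.S4618
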