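import Groth.Statements.S4622
import Mathlib
import Groth.Agent.Lib.Helper50.UnivHomeo

set_option autoImplicit false
open CategoryTheory AlgebraicGeometry
universe u
open FBase

namespace Groth.Agent.S4622

/-- Let k be a separably closed field, k' an algebraic closure of k and X a scheme over k. Then the
projection X ⊗_k k' → X is a universal homeomorphism. -/
theorem result {k k' : Type u} [Field k] [IsSepClosed k] [Field k'] [Algebra k k']
    [IsAlgClosure k k'] {X : Scheme.{u}} (f : X ⟶ Spec (CommRingCat.of k)) :
    FlatMor.IsUnivHomeo (FBase.bcπ f k') := by
    have : Algebra.IsAlgebraic k k' := IsAlgClosure.isAlgebraic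
    have : IsPurelyInseparable k k' := inferInstance
    exact Groth.Agent.Lib.Helper50.isUnivHomeo_pullback_fst_of_isPurelyInseparable k k' f

end Groth.Agent.S4622
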