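import Groth.Statements.S4629
import Groth.Agent.S4628

set_option autoImplicit false
open CategoryTheory AlgebraicGeometry
universe u
open FBase

namespace Groth.Agent.S4629

open CategoryTheory.Limits in
/-- If X and Y are schemes over a field k which are both geometrically reduced over k, then X ×_k Y is
geometrically reduced over k. -/
theorem result {k : Type u} [Field k] {X Y : Scheme.{u}}
    (f : X ⟶ Spec (CommRingCat.of k)) (g : Y ⟶ Spec (CommRingCat.of k)) [GeometricallyReduced f]
    [GeometricallyReduced g] : GeometricallyReduced (pullback.fst f g ≫ f) := by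
  constructor
  intro K _ s Z fst snd h
  haveI hYK : AlgebraicGeometry.IsReduced (pullback g s) :=
    GeometricallyReduced.geometrically_isReduced (f := g) s _ _ (.of_hasPullback g s)
  have hw : (fst ≫ pullback.snd f g) ≫ g = snd ≫ s := by
    rw [Category.assoc, ← pullback.condition]
    exact h.w
  let q : Z ⟶ pullback g s := pullback.lift (fst ≫ pullback.snd f g) snd hw
  have h1 : IsPullback fst (q ≫ pullback.snd g s) (pullback.snd f g ≫ g) s := by
    rw [pullback.lift_snd, ← pullback.condition]
    exact h
  have h2 : IsPullback fst q (pullback.snd f g) (pullback.fst g s) :=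
    IsPullback.of_bot h1 (pullback.lift_fst _ _ _).symm (.of_hasPullback g s)
  have h3 : IsPullback (fst ≫ pullback.fst f g) q f (pullback.fst g s ≫ g) :=
    h2.paste_horiz (.of_hasPullback f g)
  haveI : AlgebraicGeometry.IsReduced (pullback f (pullback.fst g s ≫ g)) :=
    Groth.Agent.S4628.result f (pullback.fst g s ≫ g)
  exact isReduced_of_isOpenImmersion h3.isoPullback.hom

end Groth.Agent.S4629
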