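import Groth.Statements.S4632
import Groth.Agent.Lib.Helper12.QuasiFlat
import Mathlib.AlgebraicGeometry.PullbackCarrier
-- import your own Groth.Agent.* helpers here

set_option autoImplicit false
open CategoryTheory AlgebraicGeometry
universe u
open FDesc

namespace Groth.Agent.S4632

open CategoryTheory.Limits in
/-- Let f : X → Y be a quasi-compact dominant morphism and g : Y' → Y a quasi-flat morphism (for
instance a flat one). Then the base change X ×_Y Y' → Y' is dominant. -/
theorem result {X Y Y' : Scheme.{u}} (f : X ⟶ Y) (g : Y' ⟶ Y)
    [QuasiCompact f] [IsDominant f] (hg : FDesc.IsQuasiFlat g) : IsDominant (pullback.snd f g) := by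
  have h := Groth.Agent.Lib.Helper12.QuasiFlat.preimage_closure_eq_of_generalizingMap g
    (Groth.Agent.Lib.Helper12.QuasiFlat.generalizingMap_of_isQuasiFlat g hg) f
  have hd : closure (Set.range f) = Set.univ := (‹IsDominant f›.1).closure_range
  rw [isDominant_iff, DenseRange, dense_iff_closure_eq]
  rw [Scheme.Pullback.range_snd]
  rw [← h, hd, Set.preimage_univ]

end Groth.Agent.S4632
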