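import Groth.Statements.S4635
import Mathlib
import Groth.Agent.Lib.Helper50.NoEmbProdSch

set_option autoImplicit false
open CategoryTheory AlgebraicGeometry
universe u
open FBase

namespace Groth.Agent.S4635

open CategoryTheory.Limits in
/-- Let X and Y be integral locally Noetherian schemes over a field k such that X ×_k Y is locally
Noetherian. Then the structure sheaf of X ×_k Y has no embedded associated points. -/
theorem result {k : Type u} [Field k] {X Y : Scheme.{u}}
    (f : X ⟶ Spec (CommRingCat.of k)) (g : Y ⟶ Spec (CommRingCat.of k)) [IsIntegral X] [IsIntegral Y]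
    [IsLocallyNoetherian X] [IsLocallyNoetherian Y] [IsLocallyNoetherian (pullback f g)] :
    AssSch.NoEmbedded (Coh.structureModule (pullback f g)) := by
    apply Groth.Agent.Lib.Helper50.noEmbedded_of_forall_exists
    intro z
    obtain ⟨_, ⟨U, hU : IsAffineOpen U, rfl⟩, hxU, -⟩ :=
      X.isBasis_affineOpens.exists_subset_of_mem_open (Set.mem_univ (pullback.fst f g z)) isOpen_univ
    obtain ⟨_, ⟨V, hV : IsAffineOpen V, rfl⟩, hyV, -⟩ :=
      Y.isBasis_affineOpens.exists_subset_of_mem_open (Set.mem_univ (pullback.snd f g z)) isOpen_univ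
    obtain ⟨φ, ψ, W, hW, hcov, ⟨e⟩⟩ := Groth.Agent.Lib.Helper50.exists_chart_prod f g hU hV
    refine ⟨W, hW, hcov z hxU hyV, ?_⟩
    letI := φ.toAlgebra
    letI := ψ.toAlgebra
    haveI : Nonempty U := ⟨⟨_, hxU⟩⟩
    haveI : Nonempty V := ⟨⟨_, hyV⟩⟩
    haveI : IsNoetherianRing Γ(X, U) := IsLocallyNoetherian.component_noetherian ⟨U, hU⟩
    haveI : IsNoetherianRing Γ(Y, V) := IsLocallyNoetherian.component_noetherian ⟨V, hV⟩
    haveI : IsNoetherianRing Γ(pullback f g, W) := IsLocallyNoetherian.component_noetherian ⟨W, hW⟩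
    haveI : IsNoetherianRing (TensorProduct k Γ(X, U) Γ(Y, V)) := isNoetherianRing_of_ringEquiv _ e
    rw [Groth.Agent.Lib.Helper50.noEmbRing_iff_of_ringEquiv e]
    exact Groth.Agent.Lib.Helper50.noEmbRing_tensor
      (Groth.Agent.Lib.Helper50.noEmbRing_of_isDomain _)
      (Groth.Agent.Lib.Helper50.noEmbRing_of_isDomain _)

end Groth.Agent.S4635
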