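import Groth.Statements.S4638
import Groth.Agent.S2506

set_option autoImplicit false
open CategoryTheory AlgebraicGeometry
universe u
open AssSch

namespace Groth.Agent.S4638

open Groth.Agent.Lib.Helper45

/-- Let X be a locally Noetherian scheme, F a quasi-coherent O_X-module and f a global section of O_X.
Then f is F-regular, i.e. multiplication by the germ of f is injective on every stalk of F, if and
only if every associated point of F lies in the open subset X_f where f does not vanish. -/
theorem result {X : Scheme.{u}} [IsLocallyNoetherian X] (F : X.Modules)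
    (hF : Coh.IsQCoh F) (f : Γ(X, ⊤)) :
    (∀ x : X, IsSMulRegular ↑(F.presheaf.stalk x) (X.presheaf.germ ⊤ x trivial f)) ↔
      AssSch.Ass F ⊆ (X.basicOpen f : Set ↥X) := by
  have hq : SheafOfModules.IsQuasicoherent.{u, u, u} F := hF
  constructor
  · intro hreg x hx
    rw [SetLike.mem_coe, X.mem_basicOpen f x trivial]
    by_contra hnu
    have hmem : X.presheaf.germ ⊤ x trivial f ∈ IsLocalRing.maximalIdeal (X.presheaf.stalk x) :=
      (IsLocalRing.mem_maximalIdeal _).mpr hnu
    obtain ⟨hprime, a, ha⟩ : IsAssociatedPrime (IsLocalRing.maximalIdeal (X.presheaf.stalk x))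
      (F.presheaf.stalk x) := hx
    rw [ha] at hmem
    obtain ⟨n, hn⟩ := hmem
    rw [Submodule.mem_colon_singleton, Submodule.mem_bot] at hn
    have hregn : IsSMulRegular (F.presheaf.stalk x) ((X.presheaf.germ ⊤ x trivial f) ^ n) :=
      (hreg x).pow n
    have ha0 : a = 0 := (isSMulRegular_iff_right_eq_zero_of_smul.mp hregn) a hn
    have htop : (⊥ : Submodule (X.presheaf.stalk x) (F.presheaf.stalk x)).colon {a} = ⊤ := by
      rw [Ideal.eq_top_iff_one, Submodule.mem_colon_singleton, ha0, smul_zero]
      exact Submodule.zero_mem _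
    rw [htop, Ideal.radical_top] at ha
    exact hprime.ne_top ha
  · intro hAss x
    have hU : ∀ y : X, Curv2.IsWeakAssPoint F y → y ∈ X.basicOpen f :=
      fun y hy => hAss ((isAssPoint_iff_isWeakAssPoint F y).mpr hy)
    rw [isSMulRegular_iff_right_eq_zero_of_smul]
    intro d hd
    obtain ⟨V', hxV', s', rfl⟩ := TopCat.Presheaf.exists_germ_eq F.presheaf d
    have h1 : F.presheaf.germ V' x hxV'
        ((X.presheaf.map (homOfLE (le_top : V' ≤ ⊤)).op f) • s') = 0 := by
      rw [germ_smul, TopCat.Presheaf.germ_res_apply]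
      exact hd
    have h0 : F.presheaf.germ V' x hxV' ((X.presheaf.map (homOfLE (le_top : V' ≤ ⊤)).op f) • s') =
        F.presheaf.germ V' x hxV' 0 := by
      rw [h1]; exact (map_zero _).symm
    obtain ⟨W', hxW', i₁, i₂, hW'⟩ :=
      TopCat.Presheaf.germ_eq F.presheaf x hxV' hxV' _ 0 h0
    obtain ⟨_, ⟨W, hW : IsAffineOpen W, rfl⟩, hxW, hWW'⟩ :=
      X.isBasis_affineOpens.exists_subset_of_mem_open hxW' W'.2
    have hWV' : W ≤ V' := (show W ≤ W' from hWW').trans i₁.le
    have hsW : F.presheaf.map (homOfLE hWV').op s' = 0 := by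
      apply Groth.Agent.S2506.eq_zero_of_restrict_inf_eq_zero F (X.basicOpen f) hU hW
      apply section_ext_germ
      intro y hy
      rw [TopCat.Presheaf.germ_res_apply, TopCat.Presheaf.germ_res_apply, map_zero]
      have hyW' : y ∈ W' := hWW' hy.1
      have h2 : F.presheaf.germ V' y (hWV' hy.1)
          ((X.presheaf.map (homOfLE (le_top : V' ≤ ⊤)).op f) • s') = 0 := by
        rw [← TopCat.Presheaf.germ_res_apply F.presheaf i₁ y hyW', hW',
          TopCat.Presheaf.germ_res_apply]
        exact map_zero _
      rw [germ_smul, TopCat.Presheaf.germ_res_apply] at h2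
      have hunit : IsUnit (X.presheaf.germ ⊤ y trivial f) := (X.mem_basicOpen f y trivial).mp hy.2
      exact (hunit.smul_eq_zero).mp h2
    rw [← TopCat.Presheaf.germ_res_apply F.presheaf (homOfLE hWV') x hxW, hsW]
    exact map_zero _

end Groth.Agent.S4638
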