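import Groth.Statements.S4639
import Groth.Agent.S2488
import Groth.Agent.S0079

set_option autoImplicit false
open CategoryTheory AlgebraicGeometry
universe u
open FDesc

namespace Groth.Agent.S4639

/-- The property of being quasi-compact and universally bicontinuous (every base change is a
homeomorphism onto its image) descends along a surjective, flat and quasi-compact base change. -/
theorem result :
    MorphismProperty.DescendsAlong
      (MorphismProperty.universally (topologically (fun f => Topology.IsEmbedding f)) ⊓ @QuasiCompact : MorphismProperty Scheme.{u})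
      (@Surjective ⊓ @Flat ⊓ @QuasiCompact : MorphismProperty Scheme.{u}) := by
  refine ⟨fun {A X Y Z fst snd f g} hpb hf hfst => ?_⟩
  obtain ⟨hfstemb, hfstqc⟩ := hfst
  have hgqc : QuasiCompact g := Groth.Agent.S0079.result.of_isPullback hpb hf hfstqc
  refine ⟨?_, hgqc⟩
  intro Y' Z' i₁ i₂ g' hg'
  -- base change of the cover to `Z'`
  let q1 := Limits.pullback.fst f i₂
  let q2 := Limits.pullback.snd f i₂
  have hq : IsPullback q1 q2 f i₂ := IsPullback.of_hasPullback f i₂
  have hq2 : (@Surjective ⊓ @Flat ⊓ @QuasiCompact : MorphismProperty Scheme.{u}) q2 :=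
    MorphismProperty.of_isPullback hq hf
  let r1 := Limits.pullback.fst q2 g'
  let r2 := Limits.pullback.snd q2 g'
  have hr : IsPullback r1 r2 q2 g' := IsPullback.of_hasPullback q2 g'
  -- the map `A' ⟶ A`
  have hcomm : (r1 ≫ q1) ≫ f = (r2 ≫ i₁) ≫ g := by
    rw [Category.assoc, hq.w, ← Category.assoc, hr.w, Category.assoc, Category.assoc, hg'.w]
  let a := hpb.lift (r1 ≫ q1) (r2 ≫ i₁) hcomm
  have ha1 : a ≫ fst = r1 ≫ q1 := hpb.lift_fst _ _ _
  have ha2 : a ≫ snd = r2 ≫ i₁ := hpb.lift_snd _ _ _
  have houter : IsPullback (r2 ≫ i₁) r1 g (q2 ≫ i₂) := hr.flip.paste_horiz hg'.flip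
  have hleft : IsPullback a r1 fst q1 := by
    refine IsPullback.of_right ?_ ha1 hpb.flip
    rw [ha2, hq.w]
    exact houter
  have hr1emb : topologically (fun f => Topology.IsEmbedding f) r1 := hfstemb _ _ _ hleft.flip
  have hr1qc : QuasiCompact r1 := MorphismProperty.of_isPullback (P := @QuasiCompact) hleft hfstqc
  exact (Groth.Agent.S2488.result.of_isPullback hr hq2 ⟨hr1emb, hr1qc⟩).1

end Groth.Agent.S4639
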