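import Groth.Statements.S4640
import Mathlib.RingTheory.Flat.TorsionFree
import Mathlib.RingTheory.Localization.BaseChange
import Mathlib.RingTheory.Flat.Stability

set_option autoImplicit false
universe u
open FDesc

namespace Groth.Agent.S4640

open TensorProduct

section Aux

variable {A K : Type u} [CommRing A] [IsDomain A] [Field K] [Algebra A K] [IsFractionRing A K]

lemma one_tmul_injective (N : Type u) [AddCommGroup N] [Module A N] [Module.Flat A N] :
    Function.Injective (TensorProduct.mk A K N 1) := by
  have h1 : Function.Injective (LinearMap.rTensor N (Algebra.linearMap A K)) :=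
    Module.Flat.rTensor_preserves_injective_linearMap _ (IsFractionRing.injective A K)
  have h2 : TensorProduct.mk A K N 1 =
      (LinearMap.rTensor N (Algebra.linearMap A K)).comp (TensorProduct.lid A N).symm.toLinearMap := by
    ext n
    simp
  rw [h2]
  exact h1.comp (TensorProduct.lid A N).symm.injective

lemma smul_mem_iff_of_nonZeroDivisors {M : Type u} [AddCommGroup M] [Module A M]
    (P' : Submodule K (K ⊗[A] M)) (s : nonZeroDivisors A) (x : K ⊗[A] M) :
    s • x ∈ P' ↔ x ∈ P' := by
  have hs : algebraMap A K s ≠ 0 := by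
    intro h
    exact nonZeroDivisors.coe_ne_zero s ((IsFractionRing.injective A K) (h.trans (map_zero _).symm))
  have hsx : s • x = algebraMap A K s • x := by
    rw [algebraMap_smul]
    rfl
  rw [hsx]
  constructor
  · intro h
    have := P'.smul_mem (algebraMap A K s)⁻¹ h
    rwa [inv_smul_smul₀ hs] at this
  · intro h
    exact P'.smul_mem _ h

end Aux

open TensorProduct in
/-- Let A be a Dedekind domain with fraction field K, M an A-module and P' a K-submodule of K ⊗_A M. Let
φ : M → (K ⊗_A M)/P' be m ↦ class of 1 ⊗ m. Then a submodule Q of M equals ker φ if and only if M/Q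
is a flat A-module and the kernel of the induced surjection K ⊗_A M → K ⊗_A (M/Q) is P'. Thus M/ker
φ is the unique flat quotient of M with generic fibre (K ⊗_A M)/P'. (The published statement takes A
Noetherian, regular and of dimension 1; a field is allowed here, where the statement is immediate.) -/
theorem result {A K : Type u} [CommRing A] [IsDedekindDomain A] [Field K]
    [Algebra A K] [IsFractionRing A K] {M : Type u} [AddCommGroup M] [Module A M]
    (P' : Submodule K (K ⊗[A] M)) (Q : Submodule A M) :
    Q = LinearMap.ker ((P'.restrictScalars A).mkQ ∘ₗ TensorProduct.mk A K M 1) ↔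
      (Module.Flat A (M ⧸ Q) ∧ LinearMap.ker (Q.mkQ.baseChange K) = P') := by
  have hmemker : ∀ m : M, m ∈ LinearMap.ker ((P'.restrictScalars A).mkQ ∘ₗ TensorProduct.mk A K M 1) ↔
      (1 : K) ⊗ₜ[A] m ∈ P' := by
    intro m
    rw [LinearMap.mem_ker, LinearMap.comp_apply, Submodule.mkQ_apply,
      Submodule.Quotient.mk_eq_zero, Submodule.restrictScalars_mem]
    rfl
  have hbc : ∀ (Q : Submodule A M) (m : M),
      Q.mkQ.baseChange K ((1 : K) ⊗ₜ[A] m) = (1 : K) ⊗ₜ[A] (Submodule.Quotient.mk m : M ⧸ Q) :=
    fun Q m => rfl
  constructor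
  · intro hQ
    -- flatness
    have hflat : Module.Flat A (M ⧸ Q) := by
      rw [IsDedekindDomain.flat_iff_torsion_eq_bot, eq_bot_iff]
      intro x hx
      rw [Submodule.mem_torsion_iff] at hx
      obtain ⟨a, ha⟩ := hx
      obtain ⟨m, rfl⟩ := Submodule.Quotient.mk_surjective _ x
      rw [Submodule.mem_bot, Submodule.Quotient.mk_eq_zero]
      change a • (Submodule.Quotient.mk m : M ⧸ Q) = 0 at ha
      have ha' : (a : A) • (Submodule.Quotient.mk m : M ⧸ Q) = 0 := ha
      rw [← Submodule.Quotient.mk_smul, Submodule.Quotient.mk_eq_zero] at ha'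
      rw [hQ, hmemker] at ha' ⊢
      rw [TensorProduct.tmul_smul] at ha'
      exact (smul_mem_iff_of_nonZeroDivisors P' a _).1 ha'
    refine ⟨hflat, ?_⟩
    ext x
    obtain ⟨⟨m, s⟩, hms⟩ := IsLocalizedModule.surj (nonZeroDivisors A) (TensorProduct.mk A K M 1) x
    have hms' : s • x = (1 : K) ⊗ₜ[A] m := hms
    have hsA : ∀ y : K ⊗[A] (M ⧸ Q), s • y = 0 ↔ y = 0 := by
      intro y
      have hs : algebraMap A K s ≠ 0 := by
        intro h
        exact nonZeroDivisors.coe_ne_zero s
          ((IsFractionRing.injective A K) (h.trans (map_zero _).symm))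
      have hsy : s • y = algebraMap A K s • y := by
        rw [algebraMap_smul]
        rfl
      rw [hsy, smul_eq_zero]
      simp [hs]
    rw [← smul_mem_iff_of_nonZeroDivisors P' s x, hms', ← hmemker, ← hQ, LinearMap.mem_ker,
      ← hsA]
    have h1 : s • (Q.mkQ.baseChange K) x = (Q.mkQ.baseChange K) (s • x) := by
      change (s : A) • (Q.mkQ.baseChange K) x = (Q.mkQ.baseChange K) ((s : A) • x)
      rw [← algebraMap_smul K (s : A) x, map_smul, algebraMap_smul]
    rw [h1, hms', hbc]
    constructor
    · intro h
      have := one_tmul_injective (K := K) (M ⧸ Q) (h.trans (map_zero _).symm)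
      exact (Submodule.Quotient.mk_eq_zero _).1 this
    · intro h
      rw [(Submodule.Quotient.mk_eq_zero _).2 h, TensorProduct.tmul_zero]
  · rintro ⟨hflat, hker⟩
    ext m
    rw [hmemker, ← hker, LinearMap.mem_ker, hbc]
    constructor
    · intro h
      rw [(Submodule.Quotient.mk_eq_zero _).2 h, TensorProduct.tmul_zero]
    · intro h
      have := one_tmul_injective (K := K) (M ⧸ Q) (h.trans (map_zero _).symm)
      exact (Submodule.Quotient.mk_eq_zero _).1 this

end Groth.Agent.S4640
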