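import Groth.Statements.S4642
-- import your own Groth.Agent.* helpers here

import Groth.Agent.Lib.Helper55.BaseChangeDim

set_option autoImplicit false
open CategoryTheory AlgebraicGeometry
universe u
open FBase

namespace Groth.Agent.S4642

open Groth.Agent.Lib.Helper55 CategoryTheory.Limits

/-- Let X be a scheme locally of finite type over a field k and K an extension field of k. Then X ⊗_k K
and X have the same dimension. (Dimension is the Krull dimension of the underlying topological
space, which for schemes locally of finite type over a field agrees with the supremum of the
transcendence degrees of the residue fields at maximal points.) -/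
theorem result {k K : Type u} [Field k] [Field K] [Algebra k K] {X : Scheme.{u}}
    (f : X ⟶ Spec (CommRingCat.of k)) [LocallyOfFiniteType f] :
    topologicalKrullDim ↥(FBase.bc f K) = topologicalKrullDim ↥X := by
  change topologicalKrullDim ↥(pullback f (Spec.map (CommRingCat.ofHom (algebraMap k K)))) = _
  apply le_antisymm
  · rw [topologicalKrullDim_eq_iSup_closure
      (X := ↥(pullback f (Spec.map (CommRingCat.ofHom (algebraMap k K)))))]
    refine iSup_le fun ω => ?_
    obtain ⟨ω₀, -, hω₀ω, hmax⟩ := exists_maximal_point_specializes
      (Set.univ : Set ↥(pullback f (Spec.map (CommRingCat.ofHom (algebraMap k K)))))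
      isClosed_univ ω trivial
    refine (topologicalKrullDim_mono_set (specializes_iff_closure_subset.mp hω₀ω)).trans ?_
    rw [topologicalKrullDim_closure_baseChange_of_maximal K f ω₀ (fun ω' h => hmax ω' trivial h)]
    exact topologicalKrullDim_subspace_le _ _
  · rw [topologicalKrullDim_eq_iSup_closure (X := ↥X)]
    refine iSup_le fun ξ => ?_
    obtain ⟨ω, -, -, hdim⟩ := exists_point_baseChange K f ξ
    rw [← hdim]
    exact topologicalKrullDim_subspace_le _ _

end Groth.Agent.S4642
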