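import Groth.Statements.S4643
-- import your own Groth.Agent.* helpers here

import Groth.Agent.Lib.Helper55.ProductDim
import Groth.Agent.Lib.Helper55.DimSup

set_option autoImplicit false
open CategoryTheory AlgebraicGeometry
universe u
open FBase

namespace Groth.Agent.S4643

open Groth.Agent.Lib.Helper55

open CategoryTheory.Limits in
/-- Let X and Y be schemes locally of finite type over a field k. Then the dimension of X ×_k Y is the
sum of the dimensions of X and Y (Krull dimensions of the underlying spaces, valued in WithBot ℕ∞,
the empty scheme having dimension ⊥). -/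
theorem result {k : Type u} [Field k] {X Y : Scheme.{u}}
    (f : X ⟶ Spec (CommRingCat.of k)) (g : Y ⟶ Spec (CommRingCat.of k)) [LocallyOfFiniteType f] [LocallyOfFiniteType g] :
    topologicalKrullDim ↥(pullback f g) = topologicalKrullDim ↥X + topologicalKrullDim ↥Y := by
  apply le_antisymm
  · rw [topologicalKrullDim_eq_iSup_closure (X := ↥(pullback f g))]
    refine iSup_le fun ω => ?_
    obtain ⟨ω₀, -, hω₀ω, hmax⟩ := exists_maximal_point_specializes
      (Set.univ : Set ↥(pullback f g)) isClosed_univ ω trivial
    refine (topologicalKrullDim_mono_set (specializes_iff_closure_subset.mp hω₀ω)).trans ?_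
    rw [topologicalKrullDim_closure_of_maximal_point_product f g (pullback.fst f g ω₀)
      (pullback.snd f g ω₀) ω₀ specializes_rfl specializes_rfl
      (fun ω' _ _ h => (h.antisymm (hmax ω' trivial h)).eq)]
    exact add_le_add (topologicalKrullDim_subspace_le _ _) (topologicalKrullDim_subspace_le _ _)
  · rw [topologicalKrullDim_eq_iSup_closure (X := ↥X), topologicalKrullDim_eq_iSup_closure (X := ↥Y)]
    refine iSup_add_iSup_le_withBot _ _ _ fun ξ η => ?_
    have hsub : Subsingleton ↥(Spec (CommRingCat.of k)) :=
      inferInstanceAs (Subsingleton (PrimeSpectrum k))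
    obtain ⟨t, ht1, ht2⟩ := Scheme.Pullback.exists_preimage_pullback (f := f) (g := g) ξ η
      (Subsingleton.elim _ _)
    have hT : IsClosed (pullback.fst f g ⁻¹' closure ({ξ} : Set X) ∩
        pullback.snd f g ⁻¹' closure ({η} : Set Y)) :=
      (isClosed_closure.preimage (pullback.fst f g).continuous).inter
        (isClosed_closure.preimage (pullback.snd f g).continuous)
    have htT : t ∈ pullback.fst f g ⁻¹' closure ({ξ} : Set X) ∩
        pullback.snd f g ⁻¹' closure ({η} : Set Y) := by
      refine ⟨?_, ?_⟩
      · change pullback.fst f g t ∈ closure ({ξ} : Set X)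
        rw [ht1]
        exact subset_closure rfl
      · change pullback.snd f g t ∈ closure ({η} : Set Y)
        rw [ht2]
        exact subset_closure rfl
    obtain ⟨ω, hωT, -, hmax⟩ := exists_maximal_point_specializes _ hT t htT
    rw [← topologicalKrullDim_closure_of_maximal_point_product f g ξ η ω
      (specializes_iff_mem_closure.mpr hωT.1) (specializes_iff_mem_closure.mpr hωT.2)
      (fun ω' h1 h2 h3 => (h3.antisymm (hmax ω'
        ⟨specializes_iff_mem_closure.mp h1, specializes_iff_mem_closure.mp h2⟩ h3)).eq)]
    exact topologicalKrullDim_subspace_le _ _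

end Groth.Agent.S4643
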