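import Groth.Statements.S4647
import Mathlib

set_option autoImplicit false
open CategoryTheory AlgebraicGeometry
universe u
open FDesc

namespace Groth.Agent.S4647

/-- In a Noetherian quasi-sober space in which the set of generizations of every point is
irreducible, every point has an irreducible open neighbourhood. -/
theorem exists_isOpen_isIrreducible_of_noetherian {T : Type*} [TopologicalSpace T]
    [TopologicalSpace.NoetherianSpace T] [QuasiSober T]
    (hG : ∀ t : T, IsIrreducible {t' : T | t' ⤳ t}) (t : T) :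
    ∃ V : Set T, IsOpen V ∧ t ∈ V ∧ IsIrreducible V := by
  obtain ⟨Z', hZ'pre, hGZ', hZ'max⟩ := exists_preirreducible _ (hG t).isPreirreducible
  have htZ' : t ∈ Z' := hGZ' (show t ⤳ t from specializes_rfl)
  have hZ'irr : IsIrreducible Z' := ⟨⟨t, htZ'⟩, hZ'pre⟩
  have hZ'comp : Z' ∈ irreducibleComponents T := by
    refine ⟨hZ'irr, fun u hu hle => ?_⟩
    exact (hZ'max u hu.isPreirreducible hle).le
  have hZ'closed : IsClosed Z' := isClosed_of_mem_irreducibleComponents _ hZ'comp
  -- uniqueness of the component through `t`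
  have huniq : ∀ Z ∈ irreducibleComponents T, t ∈ Z → Z = Z' := by
    intro Z hZ htZ
    have hZclosed : IsClosed Z := isClosed_of_mem_irreducibleComponents _ hZ
    obtain ⟨η, hη⟩ := QuasiSober.sober hZ.1 hZclosed
    have hηt : η ⤳ t := hη.specializes htZ
    have hηZ' : η ∈ Z' := hGZ' hηt
    have hsub : Z ⊆ Z' := by
      rw [← hη.def]
      exact hZ'closed.closure_subset_iff.mpr (Set.singleton_subset_iff.mpr hηZ')
    exact hZ.eq_of_subset hZ'irr hsub
  have hfin : (irreducibleComponents T).Finite :=
    TopologicalSpace.NoetherianSpace.finite_irreducibleComponents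
  set W : Set T := ⋃ Z ∈ irreducibleComponents T \ {Z'}, Z with hW
  have hWclosed : IsClosed W :=
    hfin.sdiff.isClosed_biUnion fun Z hZ => isClosed_of_mem_irreducibleComponents Z hZ.1
  refine ⟨Wᶜ, hWclosed.isOpen_compl, ?_, ?_⟩
  · intro htW
    simp only [hW, Set.mem_iUnion] at htW
    obtain ⟨Z, hZ, htZ⟩ := htW
    exact hZ.2 (huniq Z hZ.1 htZ)
  · have hsub : Wᶜ ⊆ Z' := by
      intro x hx
      by_contra hxZ'
      apply hx
      simp only [hW, Set.mem_iUnion]
      refine ⟨irreducibleComponent x, ⟨irreducibleComponent_mem_irreducibleComponents x, ?_⟩,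
        mem_irreducibleComponent⟩
      intro h
      rw [Set.mem_singleton_iff] at h
      exact hxZ' (h ▸ mem_irreducibleComponent)
    refine ⟨⟨t, ?_⟩, hZ'pre.open_subset hWclosed.isOpen_compl hsub⟩
    intro htW
    simp only [hW, Set.mem_iUnion] at htW
    obtain ⟨Z, hZ, htZ⟩ := htW
    exact hZ.2 (huniq Z hZ.1 htZ)

/-- Let f : X → Y be a faithfully flat (flat and surjective) morphism. If all local rings of X are
domains (in particular if X is locally integral) and the underlying space of Y is locally
Noetherian, then Y is locally integral: every point of Y has an open neighbourhood which is an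
integral scheme. -/
theorem result {X Y : Scheme.{u}} (f : X ⟶ Y) [Flat f] [Surjective f]
    (hX : ∀ x : X, IsDomain ↑(X.presheaf.stalk x))
    (hY : ∀ y : Y, ∃ U : Y.Opens, y ∈ U ∧ TopologicalSpace.NoetherianSpace ↥U) (y : Y) :
    ∃ U : Y.Opens, y ∈ U ∧ IsIntegral (U : Scheme.{u}) := by
  -- stalks of `Y` are domains
  have hYdom : ∀ y : Y, IsDomain ↑(Y.presheaf.stalk y) := by
    intro y
    obtain ⟨x, rfl⟩ := f.surjective y
    have hinj : Function.Injective (f.stalkMap x).hom := by
      algebraize [(f.stalkMap x).hom]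
      have : Module.FaithfullyFlat (Y.presheaf.stalk (f x)) (X.presheaf.stalk x) :=
        @Module.FaithfullyFlat.of_flat_of_isLocalHom _ _ _ _ _ _ _
          (Flat.stalkMap f x) (f.toLRSHom.prop x)
      exact ‹RingHom.FaithfullyFlat _›.injective
    have := hX x
    exact hinj.isDomain
  have hYred : IsReduced Y := by
    have : ∀ y : Y, _root_.IsReduced (Y.presheaf.stalk y) := fun y => by
      have := hYdom y
      infer_instance
    exact isReduced_of_isReduced_stalk Y
  -- generizations of a point form an irreducible set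
  have hGY : ∀ y : Y, IsIrreducible {y' : Y | y' ⤳ y} := by
    intro y
    have := hYdom y
    rw [← Scheme.range_fromSpecStalk, ← Set.image_univ]
    exact (IrreducibleSpace.isIrreducible_univ _).image _
      (Y.fromSpecStalk y).continuous.continuousOn
  obtain ⟨U, hyU, hU⟩ := hY y
  have hqs : QuasiSober ↥U := U.isOpen.isOpenEmbedding_subtypeVal.quasiSober
  have hGU : ∀ t : ↥U, IsIrreducible {t' : ↥U | t' ⤳ t} := by
    intro t
    have h1 : {t' : ↥U | t' ⤳ t} = Subtype.val ⁻¹' {y' : Y | y' ⤳ t.1} := by
      ext t'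
      simp only [Set.mem_ofPred_eq, Set.mem_preimage]
      exact (subtype_specializes_iff t' t)
    rw [h1]
    refine (hGY t.1).preimage U.isOpen.isOpenEmbedding_subtypeVal ⟨t.1, specializes_rfl, t, rfl⟩
  obtain ⟨V', hV'open, hyV', hV'irr⟩ := exists_isOpen_isIrreducible_of_noetherian hGU ⟨y, hyU⟩
  let V : Y.Opens := ⟨Subtype.val '' V', U.isOpen.isOpenMap_subtype_val V' hV'open⟩
  refine ⟨V, ⟨⟨y, hyU⟩, hyV', rfl⟩, ?_⟩
  have hVirr : IsIrreducible (V : Set Y) :=
    hV'irr.image Subtype.val continuous_subtype_val.continuousOn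
  have : IrreducibleSpace ↥(V : Scheme.{u}) := Subtype.irreducibleSpace hVirr
  exact isIntegral_of_irreducibleSpace_of_isReduced _

end Groth.Agent.S4647
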