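import Mathlib
import Groth.Statements.S4648
import Groth.Agent.Lib.Helper12.QuasiFlat
import Groth.Agent.Lib.Helper16.ProConsScheme
import Groth.Agent.Lib.Helper23.ProConsClosure

set_option autoImplicit false
universe u
open FDesc
open CategoryTheory AlgebraicGeometry
open Groth.Agent.Lib.Helper23

namespace Groth.Agent.S4648

/-- Let f : X → Y be a quasi-flat, surjective and quasi-compact morphism and Z a subset of Y. Then Z is
a locally closed pro-constructible subset of Y if and only if f⁻¹(Z) is a locally closed
pro-constructible subset of X. -/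
theorem result {X Y : Scheme.{u}} (f : X ⟶ Y)
    (hf : FDesc.IsQuasiFlat f) [Surjective f] [QuasiCompact f] (Z : Set ↥Y) :
    (IsLocallyClosed Z ∧ ProCons.IsProConstructible Z) ↔
      (IsLocallyClosed (⇑f ⁻¹' Z) ∧ ProCons.IsProConstructible (⇑f ⁻¹' Z)) := by
  have hgen : GeneralizingMap f.base := Groth.Agent.Lib.Helper12.QuasiFlat.generalizingMap_of_isQuasiFlat f hf
  have hquot : Topology.IsQuotientMap f.base :=
    Groth.Agent.Lib.Helper12.QuasiFlat.isQuotientMap_of_generalizingMap f hgen
  constructor
  · rintro ⟨h1, h2⟩
    exact ⟨h1.preimage f.continuous, Groth.Agent.Lib.Helper16.isProConstructible_preimage f h2⟩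
  · rintro ⟨h1, h2⟩
    have hZ : ProCons.IsProConstructible Z := by
      have := Groth.Agent.Lib.Helper16.isProConstructible_image f _ h2
      rwa [Set.image_preimage_eq Z f.surjective] at this
    refine ⟨?_, hZ⟩
    have hcl : closure (f.base ⁻¹' Z) = f.base ⁻¹' closure Z :=
      closure_preimage_eq_of_generalizingMap f hgen hZ
    have h3 : coborder (f.base ⁻¹' Z) = f.base ⁻¹' coborder Z := by
      rw [coborder, coborder, hcl, Set.preimage_compl, Set.preimage_sdiff]
    rw [isLocallyClosed_iff_isOpen_coborder] at h1 ⊢
    rw [h3] at h1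
    exact hquot.isOpen_preimage.mp h1

end Groth.Agent.S4648
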