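import Groth.Statements.S4649
import Mathlib
import Groth.Agent.Lib.Helper50.GeomPtIntegral
import Groth.Agent.S4630
import Groth.Agent.S4631

set_option autoImplicit false
open CategoryTheory AlgebraicGeometry
universe u
open FBase

namespace Groth.Agent.S4649

/-- Let X be a scheme of finite type over a field k and Ω an algebraically closed extension field of k.
Then X is geometrically pointwise integral over k (every local ring of every X ⊗_k K is a domain) if
and only if X is geometrically reduced over k and the number of irreducible components of X ⊗_k Ω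
equals the number of connected components of X ⊗_k Ω (the geometric numbers of irreducible and of
connected components agree). -/
theorem result {k Ω : Type u} [Field k] [Field Ω] [Algebra k Ω] [IsAlgClosed Ω]
    {X : Scheme.{u}} (f : X ⟶ Spec (CommRingCat.of k)) [LocallyOfFiniteType f] [QuasiCompact f] :
    (∀ x : X, FBase.IsGeomPtIntegralAt f x) ↔
      (GeometricallyReduced f ∧
        Nat.card ↥(irreducibleComponents ↥(FBase.bc f Ω)) = Nat.card (_root_.ConnectedComponents ↥(FBase.bc f Ω))) := by
    classical
    -- the base change to Ω
    set Y := FBase.bc f Ω with hY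
    have hsurj : Surjective (FBase.bcπ f Ω) :=
      MorphismProperty.of_isPullback (IsPullback.of_hasPullback f _).flip
        (Groth.Agent.Lib.Helper50.surjective_specMap_field (algebraMap k Ω))
    haveI hlft : LocallyOfFiniteType (FBase.bcStr f Ω) := by
      unfold FBase.bcStr
      exact MorphismProperty.of_isPullback (IsPullback.of_hasPullback f _) inferInstance
    haveI hqc : QuasiCompact (FBase.bcStr f Ω) := by
      unfold FBase.bcStr
      exact MorphismProperty.of_isPullback (IsPullback.of_hasPullback f _) inferInstance
    haveI : IsLocallyNoetherian Y := LocallyOfFiniteType.isLocallyNoetherian (FBase.bcStr f Ω)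
    haveI : CompactSpace Y := QuasiCompact.compactSpace_of_compactSpace (FBase.bcStr f Ω)
    haveI : IsNoetherian Y := {}
    have hfin : (irreducibleComponents (Y : Type u)).Finite :=
      TopologicalSpace.NoetherianSpace.finite_irreducibleComponents
    have hcount := Groth.Agent.Lib.Helper50.natCard_irreducibleComponents_eq_iff hfin
    -- stalks of Y are domains iff each `x` is geometrically pointwise integral
    have hkey : (∀ x : X, FBase.IsGeomPtIntegralAt f x) ↔
        ∀ y : Y, IsDomain (Y.presheaf.stalk y) := by
      constructor
      · intro h y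
        exact h _ Ω y rfl
      · intro h x
        obtain ⟨y, rfl⟩ := hsurj.surj x
        rw [Groth.Agent.S4630.result f y, Groth.Agent.S4631.result (FBase.bcStr f Ω) y]
        exact h y
    rw [hkey, hcount]
    constructor
    · intro h
      refine ⟨?_, ?_⟩
      · apply Groth.Agent.Lib.Helper50.geometricallyReduced_of_forall_stalk
        intro x
        obtain ⟨φ, hφ⟩ := Groth.Agent.Lib.Helper50.exists_ringHom_stalk f x
        obtain ⟨y, hy⟩ := hsurj.surj x
        refine ⟨φ, hφ, ?_⟩
        haveI := h y
        have hr : _root_.IsReduced (Y.presheaf.stalk y) := inferInstance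
        exact Groth.Agent.Lib.Helper50.isGeometricallyReduced_stalk_of_perfect f x φ hφ y hy hr
      · intro Z₁ hZ₁ Z₂ hZ₂ y hy₁ hy₂
        haveI := h y
        exact Groth.Agent.Lib.Helper50.irreducibleComponents_unique_of_isDomain_stalk y hZ₁ hZ₂ hy₁ hy₂
    · rintro ⟨hred, hdisj⟩ y
      haveI : IsReduced Y := AlgebraicGeometry.pullback_of_geometrically hred.1 _ _
      haveI : _root_.IsReduced (Y.presheaf.stalk y) := inferInstance
      exact Groth.Agent.Lib.Helper50.isDomain_stalk_of_irreducibleComponents_unique y
        fun Z₁ hZ₁ Z₂ hZ₂ hy₁ hy₂ => hdisj Z₁ hZ₁ Z₂ hZ₂ y hy₁ hy₂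

end Groth.Agent.S4649
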