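import Groth.Statements.S4650
import Mathlib

set_option autoImplicit false
open CategoryTheory AlgebraicGeometry
universe u
open FDesc

namespace Groth.Agent.S4650

/-- Topological core: a continuous generalizing map between sober spaces sends the generic point of an
irreducible component to the generic point of an irreducible component. -/
theorem closure_image_mem_irreducibleComponents {X Y : Type*} [TopologicalSpace X]
    [TopologicalSpace Y] [QuasiSober X] [T0Space X] [QuasiSober Y] {f : X → Y} (hc : Continuous f)
    (hf : GeneralizingMap f) (T : Set X) (hT : T ∈ irreducibleComponents X) :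
    closure (f '' T) ∈ irreducibleComponents Y := by
  have hTirr : IsIrreducible T := hT.1
  have hTcl : IsClosed T := isClosed_of_mem_irreducibleComponents T hT
  set ξ := hTirr.genericPoint with hξ
  have hξT : IsGenericPoint ξ T := by
    have := hTirr.isGenericPoint_genericPoint_closure
    rwa [hTcl.closure_eq] at this
  have himg : IsGenericPoint (f ξ) (closure (f '' T)) := hξT.image hc
  refine ⟨himg.isIrreducible, ?_⟩
  intro Z hZ hle
  -- `Z` irreducible containing `closure (f '' T)`; take the generic point of its closure
  set η := hZ.genericPoint with hη
  have hηZ : IsGenericPoint η (closure Z) := hZ.isGenericPoint_genericPoint_closure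
  have hspec : η ⤳ f ξ := by
    rw [hηZ.specializes_iff_mem]
    exact subset_closure (hle himg.mem)
  obtain ⟨ξ', hξ', hfξ'⟩ := hf hspec
  -- `closure {ξ'}` is irreducible and contains `T`, so equals `T`
  have hsub : T ⊆ closure {ξ'} := by
    rw [← hξT.def]
    exact closure_minimal (Set.singleton_subset_iff.mpr hξ'.mem_closure) isClosed_closure
  have heq : closure {ξ'} ⊆ T := hT.2 isIrreducible_singleton.closure hsub
  have hξ'T : IsGenericPoint ξ' T := le_antisymm heq hsub
  have : ξ' = ξ := hξ'T.eq hξT
  subst this
  rw [hfξ'] at himg
  calc Z ⊆ closure Z := subset_closure
    _ = closure {η} := hηZ.def.symm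
    _ = closure (f '' T) := himg.def

/-- Let f : X → Y be a morphism of schemes along which generizations lift (this holds for flat,
quasi-flat or open morphisms). Then every irreducible component of X dominates an irreducible
component of Y: the closure of its image is an irreducible component of Y. -/
theorem result {X Y : Scheme.{u}} (f : X ⟶ Y)
    (hf : GeneralizingMap ⇑f) (T : Set ↥X) (hT : T ∈ irreducibleComponents ↥X) :
    closure (⇑f '' T) ∈ irreducibleComponents ↥Y :=
  closure_image_mem_irreducibleComponents f.continuous hf T hT

end Groth.Agent.S4650
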