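import Groth.Statements.S4651
import Groth.Agent.S4650
import Mathlib

set_option autoImplicit false
open CategoryTheory AlgebraicGeometry
universe u
open FDesc

namespace Groth.Agent.S4651

/-- Topological core of the statement. -/
theorem locallyFinite_irreducibleComponents {X Y : Type*} [TopologicalSpace X]
    [TopologicalSpace Y] [QuasiSober X] [T0Space X] [QuasiSober Y] [T0Space Y] {f : X → Y}
    (hc : Continuous f)
    (hY : ∀ y : Y, ∃ U : Set Y, IsOpen U ∧ y ∈ U ∧
      {Z ∈ irreducibleComponents Y | (Z ∩ U).Nonempty}.Finite)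
    (hf : GeneralizingMap f) (hfin : ∀ y : Y, (f ⁻¹' {y}).Finite) (x : X) :
    ∃ U : Set X, IsOpen U ∧ x ∈ U ∧ {T ∈ irreducibleComponents X | (T ∩ U).Nonempty}.Finite := by
  obtain ⟨U, hUo, hxU, hUfin⟩ := hY (f x)
  refine ⟨f ⁻¹' U, hUo.preimage hc, hxU, ?_⟩
  -- the finite set of candidate generic points
  set FY := {Z ∈ irreducibleComponents Y | (Z ∩ U).Nonempty} with hFY
  set F : Set X := ⋃ Z ∈ FY, {ξ : X | IsGenericPoint (f ξ) Z} with hF
  have hFfin : F.Finite := by
    refine hUfin.biUnion fun Z _ => ?_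
    by_cases h : ∃ ξ : X, IsGenericPoint (f ξ) Z
    · obtain ⟨ξ₀, hξ₀⟩ := h
      refine (hfin (f ξ₀)).subset fun ξ hξ => ?_
      exact (hξ : IsGenericPoint (f ξ) Z).eq hξ₀
    · push_neg at h
      convert Set.finite_empty
      ext ξ
      simpa using h ξ
  refine (hFfin.image fun ξ => closure {ξ}).subset ?_
  rintro T ⟨hT, hTV⟩
  have hTirr : IsIrreducible T := hT.1
  have hTcl : IsClosed T := isClosed_of_mem_irreducibleComponents T hT
  have hξT : IsGenericPoint hTirr.genericPoint T := by
    have := hTirr.isGenericPoint_genericPoint_closure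
    rwa [hTcl.closure_eq] at this
  refine ⟨hTirr.genericPoint, ?_, hξT.def⟩
  simp only [hF, Set.mem_iUnion, Set.mem_setOf_eq, exists_prop]
  refine ⟨closure (f '' T), ⟨?_, ?_⟩, hξT.image hc⟩
  · exact Groth.Agent.S4650.closure_image_mem_irreducibleComponents hc hf T hT
  · have hmem : hTirr.genericPoint ∈ f ⁻¹' U :=
      (hξT.mem_open_set_iff (hUo.preimage hc)).mpr hTV
    exact ⟨f hTirr.genericPoint, subset_closure ⟨_, hξT.mem, rfl⟩, hmem⟩

/-- Let Y be a scheme whose family of irreducible components is locally finite (every point has an open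
neighbourhood meeting only finitely many irreducible components), and let f : X → Y be a morphism
along which generizations lift (e.g. flat, quasi-flat or open) such that every fibre f⁻¹(y) is a
finite set (e.g. f quasi-finite or radicial). Then the family of irreducible components of X is
locally finite. -/
theorem result {X Y : Scheme.{u}} (f : X ⟶ Y)
    (hY : ∀ y : Y, ∃ U : Set ↥Y, IsOpen U ∧ y ∈ U ∧ {Z ∈ irreducibleComponents ↥Y | (Z ∩ U).Nonempty}.Finite)
    (hf : GeneralizingMap ⇑f) (hfin : ∀ y : Y, (⇑f ⁻¹' {y}).Finite) (x : X) :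
    ∃ U : Set ↥X, IsOpen U ∧ x ∈ U ∧ {T ∈ irreducibleComponents ↥X | (T ∩ U).Nonempty}.Finite :=
  locallyFinite_irreducibleComponents f.continuous hY hf hfin x

end Groth.Agent.S4651
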