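import Groth.Statements.S4653
import Groth.Agent.Lib.Helper97.SuppFlat
import Groth.Agent.Lib.Helper11.SupportTensor
import Groth.Agent.Lib.Helper49.PullbackSupport

set_option autoImplicit false
set_option linter.style.haveILetI false
open CategoryTheory AlgebraicGeometry
universe u
open FDesc

namespace Groth.Agent.S4653

/-- Let f : X → Y be a morphism of schemes, F a quasi-coherent O_X-module of finite type which is flat
over Y, E a quasi-coherent O_Y-module of finite type, and x a point of X with image y. Then x is a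
maximal point of the support of f^*E ⊗ F (a point of the support admitting no proper generization in
it) if and only if y is a maximal point of Supp E and x, viewed in the fibre f⁻¹(y), is a maximal
point of the support of the restriction of F to that fibre. -/
theorem result {X Y : Scheme.{u}} (f : X ⟶ Y) (F : X.Modules) (hF : Coh.IsCoh F)
    (hfl : FlatMod.IsFlatOver f F) (E : Y.Modules) (hE : Coh.IsCoh E) (x : X) :
    (x ∈ CohB1.support (CohB1.tensorMod ((Scheme.Modules.pullback f).obj E) F) ∧
        ∀ z ∈ CohB1.support (CohB1.tensorMod ((Scheme.Modules.pullback f).obj E) F), z ⤳ x → z = x) ↔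
      ((f x ∈ CohB1.support E ∧ ∀ w ∈ CohB1.support E, w ⤳ f x → w = f x) ∧
        (f.asFiber x ∈ CohB1.support ((Scheme.Modules.pullback (f.fiberι (f x))).obj F) ∧
          ∀ z ∈ CohB1.support ((Scheme.Modules.pullback (f.fiberι (f x))).obj F), z ⤳ f.asFiber x → z = f.asFiber x)) := by
  open Groth.Agent.Lib.Helper16.FlatPull Groth.Agent.Lib.Helper11.SupportTensor
    Groth.Agent.Lib.Helper97 in
  haveI : F.IsQuasicoherent := hF.1
  haveI : E.IsQuasicoherent := hE.1
  haveI hGq : ((Scheme.Modules.pullback f).obj E).IsQuasicoherent := isQuasicoherent_pullback f E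
  have hGft := isFiniteType_pullback_of_isFiniteType f E hE.2
  have hsupp := support_tensorMod ((Scheme.Modules.pullback f).obj E) F hGft hF.2
  have hG : ∀ z : X, z ∈ CohB1.support ((Scheme.Modules.pullback f).obj E) ↔
      f z ∈ CohB1.support E := fun z =>
    not_congr (Groth.Agent.Lib.Helper49.subsingleton_stalk_pullback_iff f E hE.2 z)
  have hFy : ∀ t : ↥(f.fiber (f x)),
      t ∈ CohB1.support ((Scheme.Modules.pullback (f.fiberι (f x))).obj F) ↔
      (f.fiberι (f x)) t ∈ CohB1.support F := fun t =>
    not_congr (Groth.Agent.Lib.Helper49.subsingleton_stalk_pullback_iff (f.fiberι (f x)) F hF.2 t)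
  have hιx : (f.fiberι (f x)) (f.asFiber x) = x := f.fiberι_asFiber x
  have hemb := (f.fiberι (f x)).isEmbedding
  have hfι : ∀ t : ↥(f.fiber (f x)), f ((f.fiberι (f x)) t) = f x := fun t => by
    have : (f.fiberι (f x)) t ∈ Set.range (f.fiberι (f x)) := ⟨t, rfl⟩
    rw [f.range_fiberι (f x)] at this
    exact this
  rw [hsupp]
  constructor
  · rintro ⟨⟨hxG, hxF⟩, hmax⟩
    refine ⟨⟨(hG x).mp hxG, fun w hwE hw => ?_⟩, (hFy _).mpr (hιx.symm ▸ hxF), fun t ht hts => ?_⟩
    · obtain ⟨z, hzx, hzF, hzw⟩ := SuppFlat.exists_specializes_mem_support f F hF hfl x hxF w hw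
      have hzG : z ∈ CohB1.support ((Scheme.Modules.pullback f).obj E) :=
        (hG z).mpr (hzw.symm ▸ hwE)
      have := hmax z ⟨hzG, hzF⟩ hzx
      rw [← hzw, this]
    · have h1 : (f.fiberι (f x)) t ∈ CohB1.support F := (hFy t).mp ht
      have h2 : (f.fiberι (f x)) t ∈ CohB1.support ((Scheme.Modules.pullback f).obj E) := by
        rw [hG, hfι t]
        exact (hG x).mp hxG
      have h3 : (f.fiberι (f x)) t ⤳ x := by
        have := hts.map (f.fiberι (f x)).continuous
        rwa [hιx] at this
      have h4 := hmax _ ⟨h2, h1⟩ h3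
      exact hemb.injective (h4.trans hιx.symm)
  · rintro ⟨⟨hyE, hymax⟩, hxFy, hxmax⟩
    have hxF : x ∈ CohB1.support F := by
      have := (hFy _).mp hxFy
      rwa [hιx] at this
    refine ⟨⟨(hG x).mpr hyE, hxF⟩, fun z hz hzx => ?_⟩
    have h1 : f z = f x := hymax _ ((hG z).mp hz.1) (hzx.map f.continuous)
    have h2 : z ∈ Set.range (f.fiberι (f x)) := by
      rw [f.range_fiberι (f x)]
      exact h1
    obtain ⟨t, rfl⟩ := h2
    have h3 : t ∈ CohB1.support ((Scheme.Modules.pullback (f.fiberι (f x))).obj F) :=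
      (hFy t).mpr hz.2
    have h4 : t ⤳ f.asFiber x := by
      rw [← hemb.isInducing.specializes_iff, hιx]
      exact hzx
    rw [hxmax t h3 h4, hιx]

end Groth.Agent.S4653
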