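import Groth.Statements.S4655
import Groth.Agent.Lib.Helper16.FlatPull.Main

set_option autoImplicit false
open CategoryTheory AlgebraicGeometry
universe u
open FDesc

namespace Groth.Agent.S4655

/-- Let f : X → Y be a faithfully flat morphism (flat and surjective), g : Y → Z a morphism and G a
quasi-coherent O_Y-module. Then G is flat over Z if and only if the inverse image f^*G is flat over
Z with respect to the composite morphism X → Z. -/
theorem result {X Y Z : Scheme.{u}} (f : X ⟶ Y) (g : Y ⟶ Z) [Flat f] [Surjective f]
    (G : Y.Modules) (hG : Coh.IsQCoh G) :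
    FlatMod.IsFlatOver g G ↔ FlatMod.IsFlatOver (f ≫ g) ((Scheme.Modules.pullback f).obj G) := by
  have : G.IsQuasicoherent := hG
  constructor
  · intro hflat x
    exact (Groth.Agent.Lib.Helper16.FlatPull.isFlatOverAt_pullback_iff f g G x
      (AlgebraicGeometry.Flat.stalkMap f x)).mp (hflat (f.base x))
  · intro hflat y
    obtain ⟨x, rfl⟩ := f.surjective y
    exact (Groth.Agent.Lib.Helper16.FlatPull.isFlatOverAt_pullback_iff f g G x
      (AlgebraicGeometry.Flat.stalkMap f x)).mpr (hflat x)

end Groth.Agent.S4655
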