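import Groth.Statements.S4657
import Groth.Agent.Lib.Helper97.AssOpen
import Groth.Agent.Lib.Helper45.NowhereDense

set_option autoImplicit false
set_option linter.style.haveILetI false
open CategoryTheory AlgebraicGeometry
universe u
open AssSch

namespace Groth.Agent.S4657

/-- Let X be a locally Noetherian scheme, U an open subset of X and F a coherent O_X-module such that U
∩ Supp F is dense in Supp F. Then F is a reduced module if and only if its restriction to U is a
reduced module and F has no embedded associated points. -/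
theorem result {X : Scheme.{u}} [IsLocallyNoetherian X] (U : X.Opens) (F : X.Modules)
    (hF : Coh.IsCoh F) (hdense : CohB1.support F ⊆ closure ((U : Set ↥X) ∩ CohB1.support F)) :
    AssSch.IsReducedMod F ↔ AssSch.IsReducedMod ((Scheme.Modules.pullback U.ι).obj F) ∧ AssSch.NoEmbedded F := by
  open Groth.Agent.Lib.Helper97 Groth.Agent.Lib.Helper45.NowhereDense in
  haveI : F.IsQuasicoherent := hF.1
  have hA : ∀ u : ↥(U : Scheme.{u}),
      u ∈ AssSch.Ass ((Scheme.Modules.pullback U.ι).obj F) ↔ U.ι u ∈ AssSch.Ass F :=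
    fun u => AssOpen.isAssPoint_pullback_iff U.ι F u
  have hL := AssOpen.length_stalk_pullback U.ι F
  have hspec : ∀ u u' : ↥(U : Scheme.{u}), u' ⤳ u ↔ U.ι u' ⤳ U.ι u := fun u u' =>
    (U.ι.isEmbedding.isInducing.specializes_iff).symm
  constructor
  · rintro ⟨hNE, hlen⟩
    refine ⟨⟨fun u hu u' hu' huu' => ?_, fun u hu => ?_⟩, hNE⟩
    · exact U.ι.isEmbedding.injective
        (hNE _ ((hA u).mp hu) _ ((hA u').mp hu') ((hspec u u').mp huu'))
    · rw [hL u]
      exact hlen _ ((hA u).mp hu)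
  · rintro ⟨⟨-, hlenU⟩, hNE⟩
    refine ⟨hNE, fun x hx => ?_⟩
    have hmin : ∀ y, Curv2.IsAssPoint F y → y ⤳ x → y = x := fun y hy hyx => (hNE x hx y hy hyx).symm
    obtain ⟨V, hxV, hV⟩ := exists_open_inter_support_subset F hF hx hmin
    have hxcl : x ∈ closure ((U : Set ↥X) ∩ CohB1.support F) :=
      hdense (mem_support_of_isAssPoint F hx)
    obtain ⟨w, hwV, hwU, hwF⟩ := mem_closure_iff.mp hxcl V V.2 hxV
    have hxw : x ⤳ w := hV w ⟨hwV, hwF⟩
    have hxU : x ∈ U := hxw.mem_open U.2 hwU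
    have h1 := hlenU ⟨x, hxU⟩ ((hA ⟨x, hxU⟩).mpr hx)
    rw [hL ⟨x, hxU⟩] at h1
    exact h1

end Groth.Agent.S4657
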