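import Groth.Statements.S4662
-- import your own Groth.Agent.* helpers here

import Groth.Agent.Lib.Helper55.ProductDim

set_option autoImplicit false
open CategoryTheory AlgebraicGeometry
universe u
open FBase

namespace Groth.Agent.S4662

open Groth.Agent.Lib.Helper55

/-- The closure of the generic point has the dimension of the whole space. -/
theorem topologicalKrullDim_closure_genericPoint (X : Type*) [TopologicalSpace X]
    [IrreducibleSpace X] [QuasiSober X] :
    topologicalKrullDim ↥(closure ({genericPoint X} : Set X)) = topologicalKrullDim X := by
  rw [(genericPoint_spec X).def]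
  exact IsHomeomorph.topologicalKrullDim_eq _ (Homeomorph.Set.univ X).isHomeomorph

open CategoryTheory.Limits in
/-- Let X and Y be integral schemes locally of finite type over a field k. Then every irreducible
component of X ×_k Y has dimension dim X + dim Y (Krull dimensions of the underlying spaces, valued
in WithBot ℕ∞). -/
theorem result {k : Type u} [Field k] {X Y : Scheme.{u}}
    (f : X ⟶ Spec (CommRingCat.of k)) (g : Y ⟶ Spec (CommRingCat.of k)) [IsIntegral X] [IsIntegral Y]
    [LocallyOfFiniteType f] [LocallyOfFiniteType g] (Z : Set ↥(pullback f g))
    (hZ : Z ∈ irreducibleComponents ↥(pullback f g)) :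
    topologicalKrullDim ↥Z = topologicalKrullDim ↥X + topologicalKrullDim ↥Y := by
  have hZirr : IsIrreducible Z := hZ.1
  have hZcl : IsClosed Z := isClosed_of_mem_irreducibleComponents Z hZ
  have hω : closure {hZirr.genericPoint} = Z := (hZirr.isGenericPoint_genericPoint hZcl).def
  set ω := hZirr.genericPoint with hωdef
  rw [← hω, ← topologicalKrullDim_closure_genericPoint X, ← topologicalKrullDim_closure_genericPoint Y]
  refine topologicalKrullDim_closure_of_maximal_point_product f g _ _ ω ?_ ?_ ?_
  · exact (genericPoint_spec X).specializes trivial
  · exact (genericPoint_spec Y).specializes trivial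
  · intro ω' _ _ h3
    have h4 : closure ({ω} : Set ↥(pullback f g)) ⊆ closure {ω'} :=
      specializes_iff_closure_subset.mp h3
    rw [hω] at h4
    have h5 : closure ({ω'} : Set ↥(pullback f g)) ⊆ Z :=
      hZ.2 isIrreducible_singleton.closure h4
    rw [← hω] at h5
    exact (h3.antisymm (specializes_iff_closure_subset.mpr h5)).eq

end Groth.Agent.S4662
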