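import Groth.Statements.S4663
-- import your own Groth.Agent.* helpers here

import Groth.Agent.Lib.Helper55.ProductDim
import Groth.Agent.Lib.Helper55.IrredComponents

set_option autoImplicit false
open CategoryTheory AlgebraicGeometry
universe u
open FBase

namespace Groth.Agent.S4663

open Groth.Agent.Lib.Helper55

/-- Let X be a scheme locally of finite type over a field k, K an extension field of k, and Z an
irreducible closed subset of X. Then every irreducible component of the inverse image of Z in X ⊗_k
K has the same dimension as Z (Krull dimensions of the underlying topological spaces, valued in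
WithBot ℕ∞). (In the published statement Z is a cycle associated to a quasi-coherent O_X-module,
with its reduced subscheme structure, and the components are those of Z ⊗_k K; such cycles are
exactly the irreducible closed subsets of X, and Z ⊗_k K has the inverse image of Z as underlying
space.) -/
theorem result {k K : Type u} [Field k] [Field K] [Algebra k K]
    {X : Scheme.{u}} (f : X ⟶ Spec (CommRingCat.of k)) [LocallyOfFiniteType f]
    (Z : Set ↥X) (hZc : IsClosed Z) (hZi : IsIrreducible Z)
    (W : Set ↥(⇑(FBase.bcπ f K) ⁻¹' Z)) (hW : W ∈ irreducibleComponents ↥(⇑(FBase.bcπ f K) ⁻¹' Z)) :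
    topologicalKrullDim ↥W = topologicalKrullDim ↥Z := by
  have hT : IsClosed (⇑(FBase.bcπ f K) ⁻¹' Z) := hZc.preimage (FBase.bcπ f K).continuous
  obtain ⟨ω, hωT, -, hgen, hdim⟩ :=
    exists_genericPoint_of_mem_irreducibleComponents (⇑(FBase.bcπ f K) ⁻¹' Z) hT W hW
  have hξ : closure {hZi.genericPoint} = Z := (hZi.isGenericPoint_genericPoint hZc).def
  set ξ := hZi.genericPoint with hξdef
  rw [hdim, ← hξ]
  refine topologicalKrullDim_closure_of_maximal_point_baseChange f K ξ ω ?_ ?_
  · rw [specializes_iff_mem_closure, hξ]
    exact hωT
  · intro ω' h1 h2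
    have hω'T : ω' ∈ ⇑(FBase.bcπ f K) ⁻¹' Z := by
      change (FBase.bcπ f K) ω' ∈ Z
      rw [← hξ]
      exact specializes_iff_mem_closure.mp h1
    exact (h2.antisymm (hgen ω' hω'T h2)).eq

end Groth.Agent.S4663
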