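import Groth.Statements.S4666
import Mathlib

set_option autoImplicit false
open CategoryTheory AlgebraicGeometry
universe u
open FDesc

namespace Groth.Agent.S4666

/-- For a flat surjective morphism, the maps on sections are injective. -/
theorem app_injective_of_flat_of_surjective {X Y : Scheme.{u}} (g : X ⟶ Y) [Flat g] [Surjective g]
    (U : Y.Opens) : Function.Injective (g.app U).hom := by
  rw [injective_iff_map_eq_zero]
  intro s hs
  refine TopCat.Presheaf.section_ext Y.sheaf U s 0 ?_
  intro z hz
  obtain ⟨x, rfl⟩ := g.surjective z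
  have hinj : Function.Injective (g.stalkMap x).hom := by
    algebraize [(g.stalkMap x).hom]
    have : Module.FaithfullyFlat (Y.presheaf.stalk (g x)) (X.presheaf.stalk x) :=
      @Module.FaithfullyFlat.of_flat_of_isLocalHom _ _ _ _ _ _ _
        (Flat.stalkMap g x) (g.toLRSHom.prop x)
    exact ‹RingHom.FaithfullyFlat _›.injective
  have hs' : (ConcreteCategory.hom (g.app U)) s = 0 := hs
  have h1 := Scheme.Hom.germ_stalkMap_apply g U x hz s
  rw [hs', map_zero] at h1
  have h2 : (g.stalkMap x).hom (Y.presheaf.germ U (g x) hz s) = (g.stalkMap x).hom 0 := by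
    rw [map_zero]; exact h1
  have h3 := hinj h2
  rw [map_zero]
  exact h3

theorem ker_eq_bot_of_flat_of_surjective {X Y : Scheme.{u}} (g : X ⟶ Y) [Flat g] [Surjective g] :
    g.ker = ⊥ := by
  rw [eq_bot_iff, Scheme.IdealSheafData.le_def]
  intro U
  refine (Scheme.Hom.ideal_ker_le g U).trans ?_
  rw [(RingHom.injective_iff_ker_eq_bot _).mp (app_injective_of_flat_of_surjective g U.1)]
  exact bot_le

/-- Let f : X → Y be a flat and surjective morphism of schemes. Then the map sending a quasi-coherent
sheaf of ideals of O_Y (a closed subscheme of Y) to its inverse image in X is injective. -/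
theorem result {X Y : Scheme.{u}} (f : X ⟶ Y) [Flat f] [Surjective f] :
    Function.Injective fun J : Y.IdealSheafData => J.comap f := by
  have key : ∀ J : Y.IdealSheafData, (J.comap f).map f = J := by
    intro J
    rw [Scheme.IdealSheafData.comap, Scheme.IdealSheafData.map_ker, Limits.pullback.condition,
      Scheme.Hom.ker_comp, ker_eq_bot_of_flat_of_surjective, Scheme.IdealSheafData.map_bot,
      Scheme.IdealSheafData.ker_subschemeι]
  intro J₁ J₂ h
  simp only at h
  rw [← key J₁, ← key J₂, h]

end Groth.Agent.S4666
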