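import Groth.Statements.S4669
import Groth.Agent.Lib.Helper97.AssProd3

set_option autoImplicit false
set_option linter.style.haveILetI false
open CategoryTheory AlgebraicGeometry
universe u
open AssSch

namespace Groth.Agent.S4669

open CategoryTheory.Limits in
/-- Let f : X → S and g : Y → S be morphisms of schemes with X, Y and X ×_S Y locally Noetherian, F a
quasi-coherent O_X-module and G a quasi-coherent O_Y-module which is flat over S, and write F ⊗_S G
for the tensor product on X ×_S Y of the pull-backs of F and G along the two projections. For points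
x of X and y of Y write T(x, y) = Spec κ(x) ×_S Spec κ(y) (empty unless f(x) = g(y), and then the
spectrum of κ(x) ⊗_{κ(s)} κ(y)) with its canonical monomorphism into X ×_S Y, and I(x, y) for the
image in X ×_S Y of the set of associated points of the structure sheaf of T(x, y). Assume moreover
S locally Noetherian and that f maps every associated point of F to an associated point of O_S. Then
the set of associated points of F ⊗_S G is the union of the sets I(x, y) over the pairs (x, y) with
x an associated point of F, y an associated point of G and f(x) = g(y). (The published statement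
assumes only X, S and the fibres of g locally Noetherian; this row assumes Y and X ×_S Y locally
Noetherian as well, so that associated points are those whose maximal ideal is the annihilator of an
element of the stalk.) -/
theorem result {X Y S : Scheme.{u}} (f : X ⟶ S) (g : Y ⟶ S)
    [IsLocallyNoetherian X] [IsLocallyNoetherian Y] [IsLocallyNoetherian S] [IsLocallyNoetherian (pullback f g)]
    (F : X.Modules) (hF : Coh.IsQCoh F) (G : Y.Modules) (hG : Coh.IsQCoh G) (hGfl : FlatMod.IsFlatOver g G)
    (hAss : ∀ x ∈ AssSch.Ass F, f x ∈ AssSch.Ass (Coh.structureModule S)) :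
    AssSch.Ass (CohB1.tensorMod ((Scheme.Modules.pullback (pullback.fst f g)).obj F) ((Scheme.Modules.pullback (pullback.snd f g)).obj G)) =
      ⋃ (x : ↥X) (_ : x ∈ AssSch.Ass F) (y : ↥Y) (_ : y ∈ AssSch.Ass G) (_ : f x = g y),
        ⇑(pullback.map (X.fromSpecResidueField x ≫ f) (Y.fromSpecResidueField y ≫ g) f g (X.fromSpecResidueField x)
            (Y.fromSpecResidueField y) (𝟙 S) (Category.comp_id _) (Category.comp_id _)) ''
          AssSch.Ass (Coh.structureModule (pullback (X.fromSpecResidueField x ≫ f) (Y.fromSpecResidueField y ≫ g))) := by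
  open Groth.Agent.Lib.Helper97.AssFibre in
  haveI : F.IsQuasicoherent := hF
  haveI : G.IsQuasicoherent := hG
  ext z
  simp only [Set.mem_iUnion, Set.mem_image]
  constructor
  · intro hz
    obtain ⟨x, hxF, y', hy', t₀, ht₀, hτ⟩ := (isAssPoint_tensorS_iff_exists f g F G hGfl z).mp hz
    have hgy : g (g.fiberι (f x) y') = f x := apply_fiberι g (f x) y'
    have hyG : Curv2.IsAssPoint G (g.fiberι (f x) y') := by
      refine (isAssPoint_iff_of_isFlatOverAt g G _ (hGfl _)).mpr
        ⟨?_, (isAssPoint_fiber_iff g G _ y').mp hy'⟩
      rw [hgy]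
      exact hAss x hxF
    exact ⟨x, hxF, _, hyG, hgy.symm, t₀, ht₀, hτ⟩
  · rintro ⟨x, hxF, y, hyG, hfg, t₀, ht₀, hτ⟩
    obtain ⟨y', rfl⟩ := exists_fiberι_eq g (f x) y hfg.symm
    have hy' : Curv2.IsAssPoint ((Scheme.Modules.pullback (g.fiberι (f x))).obj G) y' :=
      (isAssPoint_fiber_iff g G (f x) y').mpr
        ((isAssPoint_iff_of_isFlatOverAt g G _ (hGfl _)).mp hyG).2
    exact (isAssPoint_tensorS_iff_exists f g F G hGfl z).mpr ⟨x, hxF, y', hy', t₀, ht₀, hτ⟩

end Groth.Agent.S4669
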