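import Groth.Statements.S4674
import Mathlib

set_option autoImplicit false
open scoped TensorProduct
universe u v w
open FDesc

namespace Groth.Agent.S4674

open TensorProduct in
/-- Annihilators of finite modules commute with flat base change. -/
theorem annihilator_baseChange_of_finite {A : Type u} {B : Type v} [CommRing A] [CommRing B]
    [Algebra A B] [Module.Flat A B] (M : Type w) [AddCommGroup M] [Module A M] [Module.Finite A M] :
    Module.annihilator B (B ⊗[A] M) = (Module.annihilator A M).map (algebraMap A B) := by
  classical
  apply le_antisymm
  · -- the hard inclusion
    obtain ⟨n, s, hs⟩ := Module.Finite.exists_fin (R := A) (M := M)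
    -- `φ : A → M^n`
    let φ : A →ₗ[A] (Fin n → M) := LinearMap.pi fun i => LinearMap.toSpanSingleton A M (s i)
    have hφ : ∀ a, a ∈ LinearMap.ker φ ↔ a ∈ Module.annihilator A M := by
      intro a
      rw [LinearMap.mem_ker, Module.mem_annihilator]
      constructor
      · intro h m
        have hm : m ∈ Submodule.span A (Set.range s) := hs ▸ Submodule.mem_top
        induction hm using Submodule.span_induction with
        | mem x hx =>
          obtain ⟨i, rfl⟩ := hx
          have := congrFun h i
          simpa [φ] using this
        | zero => simp
        | add x y _ _ hx hy => rw [smul_add, hx, hy, add_zero]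
        | smul c x _ hx => rw [smul_comm, hx, smul_zero]
      · intro h
        ext i
        simp [φ, h (s i)]
    intro b hb
    rw [Module.mem_annihilator] at hb
    -- `b ⊗ 1` lies in the kernel of `B ⊗ φ`
    have hker : (b ⊗ₜ[A] (1 : A)) ∈ LinearMap.ker (AlgebraTensorModule.lTensor B B φ) := by
      rw [LinearMap.mem_ker]
      apply (TensorProduct.piRight A B B (fun _ : Fin n => M)).injective
      rw [map_zero]
      ext i
      simp only [AlgebraTensorModule.lTensor_tmul, piRight_apply, piRightHom_tmul, Pi.zero_apply]
      have : φ 1 i = s i := by simp [φ]
      rw [this]
      have h1 := hb ((1 : B) ⊗ₜ[A] s i)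
      rwa [TensorProduct.smul_tmul', smul_eq_mul, mul_one] at h1
    rw [Module.Flat.ker_lTensor_eq] at hker
    obtain ⟨y, hy⟩ := hker
    -- apply `B ⊗ A ≃ B`
    have key : ∀ y : B ⊗[A] (LinearMap.ker φ),
        (AlgebraTensorModule.rid A B B) (AlgebraTensorModule.lTensor B B (LinearMap.ker φ).subtype y) ∈
          (Module.annihilator A M).map (algebraMap A B) := by
      intro y
      induction y using TensorProduct.induction_on with
      | zero => simp
      | tmul c a =>
        simp only [AlgebraTensorModule.lTensor_tmul, Submodule.subtype_apply,
          AlgebraTensorModule.rid_tmul]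
        rw [Algebra.smul_def]
        exact Ideal.mul_mem_right _ _ (Ideal.mem_map_of_mem _ ((hφ a.1).mp a.2))
      | add x y hx hy =>
        rw [map_add, map_add]
        exact add_mem hx hy
    have := key y
    rw [hy] at this
    simpa using this
  · rw [Ideal.map_le_iff_le_comap]
    intro a ha
    rw [Ideal.mem_comap, Module.mem_annihilator]
    intro x
    induction x using TensorProduct.induction_on with
    | zero => simp
    | tmul c m =>
      rw [TensorProduct.smul_tmul', smul_eq_mul, ← Algebra.smul_def, TensorProduct.smul_tmul,
        Module.mem_annihilator.mp ha m, TensorProduct.tmul_zero]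
    | add x y hx hy => rw [smul_add, hx, hy, add_zero]

/-- Let B be a flat A-algebra and M a finitely presented A-module. Then the annihilator of the B-module
B ⊗_A M is the ideal of B generated by the image of the annihilator of M. -/
theorem result {A : Type u} {B : Type v} [CommRing A] [CommRing B] [Algebra A B]
    [Module.Flat A B] (M : Type w) [AddCommGroup M] [Module A M] [Module.FinitePresentation A M] :
    Module.annihilator B (B ⊗[A] M) = (Module.annihilator A M).map (algebraMap A B) :=
  annihilator_baseChange_of_finite M

end Groth.Agent.S4674
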