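import Groth.Statements.S4675
import Mathlib

set_option autoImplicit false
universe u v
open FDesc

namespace Groth.Agent.S4675

/-- Let B be a ring, not necessarily commutative, and V, W two left B-modules which are isomorphic. For
a B-linear map u : V → W the following are equivalent: every B-linear map V → W can be written
uniquely as u ∘ c with c a B-linear endomorphism of V (that is, u is a basis of Hom_B(V, W) for its
right module structure over End_B(V)); u is bijective. -/
theorem result {B : Type u} [Ring B] {V W : Type v} [AddCommGroup V] [AddCommGroup W]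
    [Module B V] [Module B W] (e : V ≃ₗ[B] W) (u : V →ₗ[B] W) :
    (∀ v : V →ₗ[B] W, ∃! c : V →ₗ[B] V, v = u ∘ₗ c) ↔ Function.Bijective u := by
  constructor
  · intro h
    obtain ⟨c₀, hc₀, -⟩ := h e.toLinearMap
    -- `s` is a section of `u`
    set s : W →ₗ[B] V := c₀ ∘ₗ e.symm.toLinearMap with hs
    have hus : u ∘ₗ s = LinearMap.id := by
      rw [hs, ← LinearMap.comp_assoc, ← hc₀]
      ext w; simp
    -- uniqueness applied to `v = u`
    obtain ⟨c₁, -, huniq⟩ := h u
    have h1 : (LinearMap.id : V →ₗ[B] V) = c₁ := huniq _ (by simp)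
    have h2 : s ∘ₗ u = c₁ := huniq _ (by
      change u = u ∘ₗ (s ∘ₗ u)
      rw [← LinearMap.comp_assoc, hus]; simp)
    have hsu : s ∘ₗ u = LinearMap.id := h2.trans h1.symm
    refine ⟨?_, ?_⟩
    · intro x y hxy
      have := congrArg s hxy
      have hx := LinearMap.congr_fun hsu x
      have hy := LinearMap.congr_fun hsu y
      simp only [LinearMap.comp_apply, LinearMap.id_apply] at hx hy
      rw [← hx, ← hy, this]
    · intro w
      exact ⟨s w, by simpa using LinearMap.congr_fun hus w⟩
  · intro hu v
    let eu : V ≃ₗ[B] W := LinearEquiv.ofBijective u hu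
    refine ⟨eu.symm.toLinearMap ∘ₗ v, ?_, ?_⟩
    · ext x; simp [eu]
    · intro c hc
      ext x
      simp only [LinearMap.comp_apply, LinearEquiv.coe_coe, hc]
      exact (eu.symm_apply_apply (c x)).symm

end Groth.Agent.S4675
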