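import Groth.Statements.S4677
import Mathlib
import Groth.Agent.Lib.Helper50.RadMult

set_option autoImplicit false
open scoped TensorProduct
universe u
open FBase

namespace Groth.Agent.S4677

/-- Let K be a finitely generated extension field of a field k. Then there exists a finite purely
inseparable extension k' of k such that, for every maximal ideal m of the ring k' ⊗_k K, the residue
field (k' ⊗_k K)/m is geometrically reduced over k' (a separable, not necessarily algebraic,
extension of k'). -/
theorem result {k K : Type u} [Field k] [Field K] [Algebra k K]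
    [Algebra.EssFiniteType k K] :
    ∃ (k' : Type u) (_ : Field k') (_ : Algebra k k'), FiniteDimensional k k' ∧ IsPurelyInseparable k k' ∧
      ∀ (m : Ideal (k' ⊗[k] K)), m.IsMaximal → Algebra.IsGeometricallyReduced k' ((k' ⊗[k] K) ⧸ m) := by
    obtain ⟨k', hF, hA, hfin, hpi, hgr⟩ :=
      Groth.Agent.Lib.Helper50.exists_finite_isGeometricallyReduced_of_essFiniteType (k := k) K
    refine ⟨k', hF, hA, hfin, hpi, ?_⟩
    intro m hm
    have hh := PrimeSpectrum.isHomeomorph_comap_tensorProductMap_of_isPurelyInseparable k k K k'
    have hsub0 : Subsingleton (PrimeSpectrum (k ⊗[k] K)) :=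
      (PrimeSpectrum.comapEquiv (Algebra.TensorProduct.lid k K).toRingEquiv).subsingleton
    have hsub : Subsingleton (PrimeSpectrum (k' ⊗[k] K)) :=
      (hh.homeomorph _).toEquiv.subsingleton
    have hmeq : m = nilradical (k' ⊗[k] K) := by
      apply le_antisymm
      · intro x hx
        rw [mem_nilradical, nilpotent_iff_mem_prime]
        intro J hJ
        have : (⟨J, hJ⟩ : PrimeSpectrum (k' ⊗[k] K)) = ⟨m, hm.isPrime⟩ := Subsingleton.elim _ _
        have hJm : J = m := congrArg PrimeSpectrum.asIdeal this
        rw [hJm]
        exact hx
      · have := hm.isPrime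
        exact nilradical_le_prime m
    subst hmeq
    exact hgr

end Groth.Agent.S4677
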