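import Groth.Statements.S4680
import Groth.Agent.Lib.Helper97.FFBaseSch

set_option autoImplicit false
set_option linter.style.haveILetI false
set_option backward.isDefEq.respectTransparency.types false
open CategoryTheory AlgebraicGeometry
universe u
open FDesc

namespace Groth.Agent.S4680

open CategoryTheory.Limits in
/-- Let f : X → Y and g : Y' → Y be morphisms of schemes, X' = X ×_Y Y' with projections p : X' → X and
f' : X' → Y', and F a quasi-coherent O_X-module which is faithfully flat relative to Y: flat over Y,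
and for every point y of Y there is a point x over y with F_x ⊗ κ(y) ≠ 0. Then F' = p^*F is
faithfully flat relative to Y': flat over Y', and for every point y' of Y' there is a point x' of X'
over y' with F'_{x'} ⊗ κ(y') ≠ 0. -/
theorem result {X Y Y' : Scheme.{u}} (f : X ⟶ Y) (g : Y' ⟶ Y)
    (F : X.Modules) (hF : Coh.IsQCoh F) (hFfl : FlatMod.IsFlatOver f F)
    (hFff : (∀ y : ↥Y, ∃ x : ↥X, f x = y ∧
      letI := FlatMod.moduleStalkOver f F x
      IsLocalRing.maximalIdeal (Y.presheaf.stalk (f x)) • (⊤ : Submodule (Y.presheaf.stalk (f x)) (F.presheaf.stalk x)) ≠ ⊤)) :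
    FlatMod.IsFlatOver (pullback.snd f g) ((Scheme.Modules.pullback (pullback.fst f g)).obj F) ∧
      (∀ y' : ↥Y', ∃ x' : ↥(pullback f g), (pullback.snd f g) x' = y' ∧
      letI := FlatMod.moduleStalkOver (pullback.snd f g) ((Scheme.Modules.pullback (pullback.fst f g)).obj F) x'
      IsLocalRing.maximalIdeal (Y'.presheaf.stalk ((pullback.snd f g) x')) • (⊤ : Submodule (Y'.presheaf.stalk ((pullback.snd f g) x')) (((Scheme.Modules.pullback (pullback.fst f g)).obj F).presheaf.stalk x')) ≠ ⊤) := by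
  open Groth.Agent.Lib.Helper45 Groth.Agent.Lib.Helper12.FlatOver
    Groth.Agent.Lib.Helper16.FlatPull Groth.Agent.Lib.Helper97 TopologicalSpace in
  haveI : F.IsQuasicoherent := hF
  have hc : IsPullback (Limits.pullback.fst f g) (Limits.pullback.snd f g) f g :=
    IsPullback.of_hasPullback f g
  refine ⟨fun x' => isFlatOverAt_baseChange f (Limits.pullback.snd f g) (Limits.pullback.fst f g)
    g hc F x' (hFfl _), fun y' => ?_⟩
  obtain ⟨x, hxy, hx⟩ := hFff (g y')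
  -- charts
  obtain ⟨V, hV, hxV, -⟩ := Opens.isBasis_iff_nbhd.mp Y.isBasis_affineOpens
    (Opens.mem_top (f.base x))
  obtain ⟨U, hU, hxU, eU⟩ := Opens.isBasis_iff_nbhd.mp X.isBasis_affineOpens
    (show x ∈ f ⁻¹ᵁ V from hxV)
  have hgy' : g.base y' ∈ V := by
    have : f.base x = g.base y' := hxy
    rw [← this]; exact hxV
  obtain ⟨V₁, hV₁, hxV₁, eV₁⟩ := Opens.isBasis_iff_nbhd.mp Y'.isBasis_affineOpens
    (show y' ∈ g ⁻¹ᵁ V from hgy')
  set g' := Limits.pullback.fst f g with hg'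
  set f' := Limits.pullback.snd f g with hf'
  set W : (Limits.pullback f g).Opens := g' ⁻¹ᵁ U ⊓ f' ⁻¹ᵁ V₁ with hWdef
  have e1 : W ≤ g' ⁻¹ᵁ U := inf_le_left
  have e2 : W ≤ f' ⁻¹ᵁ V₁ := inf_le_right
  have hiso := isIso_pushoutSection_of_isAffineOpen hc eV₁ eU hWdef hV hV₁ hU
  have hpush := (isIso_pushoutSection_iff hc eV₁ eU hWdef).mp hiso
  have hW : IsAffineOpen W := by
    have : IsAffine (Scheme.Opens.toScheme V) := hV
    have : IsAffine (Scheme.Opens.toScheme V₁) := hV₁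
    have : IsAffine (Scheme.Opens.toScheme U) := hU
    exact .of_isIso (Scheme.Hom.isPullback_resLE hc eV₁ eU hWdef).isoPullback.hom
  haveI hN : ((Scheme.Modules.pullback g').obj F).IsQuasicoherent := isQuasicoherent_pullback g' F
  -- algebras between section rings
  letI algRA : Algebra Γ(Y, V) Γ(X, U) := (f.appLE V U eU).hom.toAlgebra
  letI algRR₁ : Algebra Γ(Y, V) Γ(Y', V₁) := (g.appLE V V₁ eV₁).hom.toAlgebra
  letI algAB : Algebra Γ(X, U) Γ(Limits.pullback f g, W) := (g'.appLE U W e1).hom.toAlgebra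
  letI algR₁B : Algebra Γ(Y', V₁) Γ(Limits.pullback f g, W) := (f'.appLE V₁ W e2).hom.toAlgebra
  letI algRB : Algebra Γ(Y, V) Γ(Limits.pullback f g, W) :=
    ((g'.appLE U W e1).hom.comp (f.appLE V U eU).hom).toAlgebra
  haveI tRAB : IsScalarTower Γ(Y, V) Γ(X, U) Γ(Limits.pullback f g, W) := .of_algebraMap_eq' rfl
  haveI tRR₁B : IsScalarTower Γ(Y, V) Γ(Y', V₁) Γ(Limits.pullback f g, W) :=
    .of_algebraMap_eq' congr($(hpush.w).hom)
  have hP : Algebra.IsPushout Γ(Y, V) Γ(X, U) Γ(Y', V₁) Γ(Limits.pullback f g, W) :=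
    CommRingCat.isPushout_iff_isPushout.mp hpush
  haveI hP' : Algebra.IsPushout Γ(Y, V) Γ(Y', V₁) Γ(X, U) Γ(Limits.pullback f g, W) := hP.symm
  -- modules
  letI modRN : Module Γ(Y, V) Γ(F, U) := Module.compHom _ (f.appLE V U eU).hom
  haveI tRSN : IsScalarTower Γ(Y, V) Γ(X, U) Γ(F, U) := IsScalarTower.of_compHom _ _ _
  letI modSN₁ : Module Γ(X, U) Γ((Scheme.Modules.pullback g').obj F, W) :=
    Module.compHom _ (g'.appLE U W e1).hom
  haveI tSS₁N₁ : IsScalarTower Γ(X, U) Γ(Limits.pullback f g, W)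
      Γ((Scheme.Modules.pullback g').obj F, W) := IsScalarTower.of_compHom _ _ _
  letI modR₁N₁ : Module Γ(Y', V₁) Γ((Scheme.Modules.pullback g').obj F, W) :=
    Module.compHom _ (f'.appLE V₁ W e2).hom
  haveI tR₁S₁N₁ : IsScalarTower Γ(Y', V₁) Γ(Limits.pullback f g, W)
      Γ((Scheme.Modules.pullback g').obj F, W) := IsScalarTower.of_compHom _ _ _
  letI modRN₁ : Module Γ(Y, V) Γ((Scheme.Modules.pullback g').obj F, W) :=
    Module.compHom _ (algebraMap Γ(Y, V) Γ(Limits.pullback f g, W))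
  haveI tRS₁N₁ : IsScalarTower Γ(Y, V) Γ(Limits.pullback f g, W)
      Γ((Scheme.Modules.pullback g').obj F, W) := IsScalarTower.of_compHom _ _ _
  haveI tRSN₁ : IsScalarTower Γ(Y, V) Γ(X, U) Γ((Scheme.Modules.pullback g').obj F, W) := by
    refine IsScalarTower.of_algebraMap_smul fun r n => ?_
    rw [← algebraMap_smul Γ(Limits.pullback f g, W) (algebraMap Γ(Y, V) Γ(X, U) r) n,
      ← IsScalarTower.algebraMap_apply, algebraMap_smul]
  haveI tRR₁N₁ : IsScalarTower Γ(Y, V) Γ(Y', V₁) Γ((Scheme.Modules.pullback g').obj F, W) := by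
    refine IsScalarTower.of_algebraMap_smul fun r n => ?_
    rw [← algebraMap_smul Γ(Limits.pullback f g, W) (algebraMap Γ(Y, V) Γ(Y', V₁) r) n,
      ← IsScalarTower.algebraMap_apply, algebraMap_smul]
  obtain ⟨ψ, hψ⟩ := exists_isBaseChange_sections g' hU hW e1 F
  -- the section at `x`
  obtain ⟨n, hn⟩ := (FFBaseSch.stalk_cond_iff f F hV hU eU ⟨x, hxU⟩).mp hx
  have hcomapP : (hU.primeIdealOf ⟨x, hxU⟩).asIdeal.comap (algebraMap Γ(Y, V) Γ(X, U)) =
      (hV.primeIdealOf ⟨f.base x, hxV⟩).asIdeal :=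
    congrArg PrimeSpectrum.asIdeal (IsAffineOpen.comap_primeIdealOf_appLE (f := f) V hV U hU eU hxU)
  have hcomapp₁ : (hV₁.primeIdealOf ⟨y', hxV₁⟩).asIdeal.comap (algebraMap Γ(Y, V) Γ(Y', V₁)) =
      (hV.primeIdealOf ⟨f.base x, hxV⟩).asIdeal := by
    have h1 := congrArg PrimeSpectrum.asIdeal
      (IsAffineOpen.comap_primeIdealOf_appLE (f := g) V hV V₁ hV₁ eV₁ hxV₁)
    have h2 : (⟨g y', eV₁ hxV₁⟩ : V) = ⟨f.base x, hxV⟩ := Subtype.ext hxy.symm
    rw [h2] at h1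
    exact h1
  have hn' : ∀ r : Γ(Y, V),
      r ∉ (hV₁.primeIdealOf ⟨y', hxV₁⟩).asIdeal.comap (algebraMap Γ(Y, V) Γ(Y', V₁)) →
      r • n ∉ ((hV₁.primeIdealOf ⟨y', hxV₁⟩).asIdeal.comap (algebraMap Γ(Y, V) Γ(Y', V₁))) •
        (⊤ : Submodule Γ(Y, V) Γ(F, U)) := by
    rw [hcomapp₁]
    intro r hr
    have hr' : algebraMap Γ(Y, V) Γ(X, U) r ∉ (hU.primeIdealOf ⟨x, hxU⟩).asIdeal := by
      intro hmem
      apply hr
      rw [← hcomapP]
      exact hmem
    have := hn _ hr'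
    rwa [algebraMap_smul] at this
  obtain ⟨Q, hQ, hQc, hQn⟩ := FFBase.exists_prime_baseChange hψ
    (hV₁.primeIdealOf ⟨y', hxV₁⟩).asIdeal n hn'
  -- the point
  have hpt := primeIdealOf_pointOfPrime hW ⟨Q, hQ⟩
  have hfx' : f'.base ((pointOfPrime hW ⟨Q, hQ⟩ : W) : ↥(Limits.pullback f g)) = y' := by
    have h1 := IsAffineOpen.comap_primeIdealOf_appLE (f := f') V₁ hV₁ W hW e2
      (pointOfPrime hW ⟨Q, hQ⟩).2
    have h2 : hV₁.primeIdealOf ⟨f' ((pointOfPrime hW ⟨Q, hQ⟩ : W) : ↥(Limits.pullback f g)),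
        e2 (pointOfPrime hW ⟨Q, hQ⟩).2⟩ = hV₁.primeIdealOf ⟨y', hxV₁⟩ := by
      rw [← h1]
      apply PrimeSpectrum.ext
      rw [← hQc]
      change ((hW.primeIdealOf (pointOfPrime hW ⟨Q, hQ⟩)).comap (f'.appLE V₁ W e2).hom).asIdeal = _
      rw [hpt]
      rfl
    have h3 := congrArg (fun z => hV₁.fromSpec z) h2
    simp only [IsAffineOpen.fromSpec_primeIdealOf] at h3
    exact h3
  refine ⟨((pointOfPrime hW ⟨Q, hQ⟩ : W) : ↥(Limits.pullback f g)), hfx', ?_⟩
  refine (FFBaseSch.stalk_cond_iff f' ((Scheme.Modules.pullback g').obj F) hV₁ hW e2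
    (pointOfPrime hW ⟨Q, hQ⟩)).mpr ⟨ψ n, fun t ht => ?_⟩
  have hsub : (⟨f'.base ((pointOfPrime hW ⟨Q, hQ⟩ : W) : ↥(Limits.pullback f g)),
      e2 (pointOfPrime hW ⟨Q, hQ⟩).2⟩ : V₁) = ⟨y', hxV₁⟩ := Subtype.ext hfx'
  rw [hsub]
  rw [hpt] at ht
  exact hQn t ht

end Groth.Agent.S4680
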