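import Groth.Statements.S4681
import Mathlib
import Groth.Agent.Lib.Helper22.FFRel
-- import your own Groth.Agent.* helpers here

set_option autoImplicit false
set_option linter.style.haveILetI false
open CategoryTheory AlgebraicGeometry
universe u
open FDesc

namespace Groth.Agent.S4681

/-- Let f : X → Y and g : Y → Z be morphisms of schemes and F a quasi-coherent O_X-module which is
faithfully flat relative to Y: flat over Y, and for every point y of Y there is a point x over y
with F_x ⊗ κ(y) ≠ 0. Then g is flat and surjective (faithfully flat) if and only if F is faithfully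
flat relative to Z for the morphism f followed by g: flat over Z, and for every point z of Z there
is a point x of X over z with F_x ⊗ κ(z) ≠ 0. -/
theorem result {X Y Z : Scheme.{u}} (f : X ⟶ Y) (g : Y ⟶ Z)
    (F : X.Modules) (hF : Coh.IsQCoh F) (hFfl : FlatMod.IsFlatOver f F)
    (hFff : (∀ y : ↥Y, ∃ x : ↥X, f x = y ∧
      letI := FlatMod.moduleStalkOver f F x
      IsLocalRing.maximalIdeal (Y.presheaf.stalk (f x)) • (⊤ : Submodule (Y.presheaf.stalk (f x)) (F.presheaf.stalk x)) ≠ ⊤)) :
    (Flat g ∧ Surjective g) ↔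
      (FlatMod.IsFlatOver (f ≫ g) F ∧
        (∀ z : ↥Z, ∃ x : ↥X, (f ≫ g) x = z ∧
      letI := FlatMod.moduleStalkOver (f ≫ g) F x
      IsLocalRing.maximalIdeal (Z.presheaf.stalk ((f ≫ g) x)) • (⊤ : Submodule (Z.presheaf.stalk ((f ≫ g) x)) (F.presheaf.stalk x)) ≠ ⊤)) := by
  open Groth.Agent.Lib.Helper22.FFRel in
  constructor
  · rintro ⟨hgf, hgs⟩
    refine ⟨fun x => ?_, fun z => ?_⟩
    · -- flatness
      letI : Algebra (Z.presheaf.stalk (g (f x))) (Y.presheaf.stalk (f x)) :=
        (g.stalkMap (f x)).hom.toAlgebra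
      letI : Module (Y.presheaf.stalk (f x)) (F.presheaf.stalk x) := FlatMod.moduleStalkOver f F x
      letI : Module (Z.presheaf.stalk (g (f x))) (F.presheaf.stalk x) :=
        FlatMod.moduleStalkOver (f ≫ g) F x
      haveI := isScalarTower_stalk f g F x
      haveI : Module.Flat (Z.presheaf.stalk (g (f x))) (Y.presheaf.stalk (f x)) :=
        AlgebraicGeometry.Flat.stalkMap g (f x)
      haveI : Module.Flat (Y.presheaf.stalk (f x)) (F.presheaf.stalk x) := hFfl x
      exact Module.Flat.trans (Z.presheaf.stalk (g (f x))) (Y.presheaf.stalk (f x))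
        (F.presheaf.stalk x)
    · obtain ⟨y, rfl⟩ := hgs.surj z
      obtain ⟨x, rfl, hx⟩ := hFff y
      refine ⟨x, rfl, ?_⟩
      letI : Algebra (Z.presheaf.stalk (g (f x))) (Y.presheaf.stalk (f x)) :=
        (g.stalkMap (f x)).hom.toAlgebra
      letI : Module (Y.presheaf.stalk (f x)) (F.presheaf.stalk x) := FlatMod.moduleStalkOver f F x
      letI : Module (Z.presheaf.stalk (g (f x))) (F.presheaf.stalk x) :=
        FlatMod.moduleStalkOver (f ≫ g) F x
      haveI := isScalarTower_stalk f g F x
      haveI : IsLocalHom (algebraMap (Z.presheaf.stalk (g (f x))) (Y.presheaf.stalk (f x))) :=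
        inferInstanceAs (IsLocalHom (g.stalkMap (f x)).hom)
      exact maximalIdeal_smul_ne_top_of_isLocalHom (R := Z.presheaf.stalk (g (f x)))
        (A := Y.presheaf.stalk (f x)) hx
  · rintro ⟨hfl, hff⟩
    refine ⟨?_, ⟨fun z => ?_⟩⟩
    · rw [AlgebraicGeometry.Flat.iff_flat_stalkMap]
      intro y
      obtain ⟨x, rfl, hx⟩ := hFff y
      letI : Algebra (Z.presheaf.stalk (g (f x))) (Y.presheaf.stalk (f x)) :=
        (g.stalkMap (f x)).hom.toAlgebra
      letI : Module (Y.presheaf.stalk (f x)) (F.presheaf.stalk x) := FlatMod.moduleStalkOver f F x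
      letI : Module (Z.presheaf.stalk (g (f x))) (F.presheaf.stalk x) :=
        FlatMod.moduleStalkOver (f ≫ g) F x
      haveI := isScalarTower_stalk f g F x
      haveI : Module.Flat (Y.presheaf.stalk (f x)) (F.presheaf.stalk x) := hFfl x
      haveI : Module.FaithfullyFlat (Y.presheaf.stalk (f x)) (F.presheaf.stalk x) :=
        faithfullyFlat_of_flat_of_maximalIdeal_smul_ne_top hx
      haveI : Module.Flat (Z.presheaf.stalk (g (f x))) (F.presheaf.stalk x) := hfl x
      exact flat_of_faithfullyFlat_module (R := Z.presheaf.stalk (g (f x)))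
        (A := Y.presheaf.stalk (f x)) (M := F.presheaf.stalk x)
    · obtain ⟨x, hx, -⟩ := hff z
      exact ⟨f x, hx⟩

end Groth.Agent.S4681
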