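import Groth.Statements.S4685
import Groth.Agent.Lib.Helper97.AssProd2

set_option autoImplicit false
set_option linter.style.haveILetI false
open CategoryTheory AlgebraicGeometry
universe u
open AssSch

namespace Groth.Agent.S4685

open CategoryTheory.Limits in
/-- Let f : X → S and g : Y → S be morphisms of schemes with X, Y and X ×_S Y locally Noetherian, F a
quasi-coherent O_X-module without embedded associated points, and G a quasi-coherent O_Y-module,
flat over S, whose restriction to every fibre g⁻¹(s) has no embedded associated points. Then F ⊗_S G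
(the tensor product on X ×_S Y of the pull-backs of F and G along the two projections) has no
embedded associated points. (The published statement assumes only X, the fibres of g and the schemes
Spec κ(x) ×_S Spec κ(y) locally Noetherian; this row assumes Y and X ×_S Y locally Noetherian, which
implies all of these, so that associated points are those whose maximal ideal is the annihilator of
an element of the stalk.) -/
theorem result {X Y S : Scheme.{u}} (f : X ⟶ S) (g : Y ⟶ S)
    [IsLocallyNoetherian X] [IsLocallyNoetherian Y] [IsLocallyNoetherian (pullback f g)]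
    (F : X.Modules) (hF : Coh.IsQCoh F) (G : Y.Modules) (hG : Coh.IsQCoh G) (hGfl : FlatMod.IsFlatOver g G)
    (hFne : AssSch.NoEmbedded F)
    (hGne : ∀ s : ↥S, AssSch.NoEmbedded ((Scheme.Modules.pullback (g.fiberι s)).obj G)) :
    AssSch.NoEmbedded (CohB1.tensorMod ((Scheme.Modules.pullback (pullback.fst f g)).obj F) ((Scheme.Modules.pullback (pullback.snd f g)).obj G)) := by
  open Groth.Agent.Lib.Helper97.AssFibre in
  haveI : F.IsQuasicoherent := hF
  haveI : G.IsQuasicoherent := hG
  intro z hz z' hz' hspec
  obtain ⟨hxF, y', hy', hy'A⟩ :=
    exists_mem_ass_fiber_of_isAssPoint f g F G hGfl z hz (f (pullback.fst f g z)) rfl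
  obtain ⟨hx'F, -⟩ :=
    exists_mem_ass_fiber_of_isAssPoint f g F G hGfl z' hz' (f (pullback.fst f g z')) rfl
  have hp : pullback.fst f g z = pullback.fst f g z' :=
    hFne _ hxF _ hx'F (hspec.map (pullback.fst f g).continuous)
  obtain ⟨-, y'', hy'', hy''A⟩ :=
    exists_mem_ass_fiber_of_isAssPoint f g F G hGfl z' hz' (f (pullback.fst f g z)) (by rw [← hp])
  have hyy : y'' ⤳ y' := by
    rw [← (g.fiberι _).isEmbedding.isInducing.specializes_iff, hy', hy'']
    exact hspec.map (pullback.snd f g).continuous
  have h1 : y' = y'' := hGne _ y' hy'A y'' hy''A hyy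
  have hq : pullback.snd f g z = pullback.snd f g z' := by
    rw [← hy', ← hy'', h1]
  exact eq_of_specializes_of_isAssPoint f g F G hGfl z z' hz hz' hspec hp hq

end Groth.Agent.S4685
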