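import Groth.Statements.S4686
import Groth.Agent.Lib.Helper24.MaxPointLengthMul

set_option autoImplicit false
open CategoryTheory AlgebraicGeometry
universe u
open FBase

namespace Groth.Agent.S4686

set_option backward.isDefEq.respectTransparency.types false in
theorem flat_pullback_fst {X Y Z : AlgebraicGeometry.Scheme.{u}} (f : X ⟶ Z) (g : Y ⟶ Z)
    (hg : AlgebraicGeometry.Flat g) :
    AlgebraicGeometry.Flat (CategoryTheory.Limits.pullback.fst f g) :=
  CategoryTheory.MorphismProperty.pullback_fst (P := @AlgebraicGeometry.Flat) _ _ hg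

open CategoryTheory.Limits in
/-- Let X be an integral locally Noetherian scheme over a field k, k′ an extension field of k such that
X′ = X ⊗_k k′ is locally Noetherian, and k″ an extension field of k′; put X″ = X′ ⊗_{k′} k″ and Z″ =
(X′)_red ⊗_{k′} k″, with its canonical closed immersion j : Z″ → X″ (a homeomorphism). Let x″ be a
maximal point of X″ (the generic point of an irreducible component), x′ its image in X′ and z″ the
point of Z″ with j(z″) = x″. Then length(O_{X″,x″}) = length(O_{X′,x′}) · length(O_{Z″,z″}), each
local ring being measured as a module over itself, with values in ℕ∞. -/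
theorem result {k k' k'' : Type u} [Field k] [Field k'] [Field k''] [Algebra k k']
    [Algebra k' k''] {X : Scheme.{u}} (f : X ⟶ Spec (CommRingCat.of k)) [IsIntegral X] [IsLocallyNoetherian X]
    [IsLocallyNoetherian (FBase.bc f k')] (x'' : ↥(FBase.bc (FBase.bcStr f k') k''))
    (hx'' : ∀ z : ↥(FBase.bc (FBase.bcStr f k') k''), z ⤳ x'' → z = x'')
    (z'' : ↥(FBase.bc ((FBase.bc f k').nilradical.subschemeι ≫ FBase.bcStr f k') k''))
    (hz'' : pullback.map ((FBase.bc f k').nilradical.subschemeι ≫ FBase.bcStr f k')
        (Spec.map (CommRingCat.ofHom (algebraMap k' k''))) (FBase.bcStr f k')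
        (Spec.map (CommRingCat.ofHom (algebraMap k' k''))) (FBase.bc f k').nilradical.subschemeι (𝟙 _) (𝟙 _)
        (Category.comp_id _) ((Category.comp_id _).trans (Category.id_comp _).symm) z'' = x'') :
    Module.length ((FBase.bc (FBase.bcStr f k') k'').presheaf.stalk x'') ((FBase.bc (FBase.bcStr f k') k'').presheaf.stalk x'') =
      Module.length ((FBase.bc f k').presheaf.stalk (FBase.bcπ (FBase.bcStr f k') k'' x''))
          ((FBase.bc f k').presheaf.stalk (FBase.bcπ (FBase.bcStr f k') k'' x'')) *
        Module.length ((FBase.bc ((FBase.bc f k').nilradical.subschemeι ≫ FBase.bcStr f k') k'').presheaf.stalk z'')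
          ((FBase.bc ((FBase.bc f k').nilradical.subschemeι ≫ FBase.bcStr f k') k'').presheaf.stalk z'') := by
  subst hz''
  let ι'' : Spec (CommRingCat.of k'') ⟶ Spec (CommRingCat.of k') :=
    Spec.map (CommRingCat.ofHom (algebraMap k' k''))
  let str' : FBase.bc f k' ⟶ Spec (CommRingCat.of k') := FBase.bcStr f k'
  let i : (FBase.bc f k').nilradical.subscheme ⟶ FBase.bc f k' :=
    (FBase.bc f k').nilradical.subschemeι
  let π : pullback str' ι'' ⟶ FBase.bc f k' := pullback.fst str' ι''
  let q : pullback (i ≫ str') ι'' ⟶ (FBase.bc f k').nilradical.subscheme :=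
    pullback.fst (i ≫ str') ι''
  let j : pullback (i ≫ str') ι'' ⟶ pullback str' ι'' :=
    pullback.map (i ≫ str') ι'' str' ι'' i (𝟙 _) (𝟙 _)
      (Category.comp_id _) ((Category.comp_id _).trans (Category.id_comp _).symm)
  have hflatι : Flat ι'' := inferInstance
  have hflat : Flat π := flat_pullback_fst _ _ hflatι
  have hright : IsPullback (pullback.snd str' ι'') π ι'' str' :=
    (IsPullback.of_hasPullback str' ι'').flip
  have houter : IsPullback (j ≫ pullback.snd str' ι'') q ι'' (i ≫ str') := by
    have h1 : j ≫ pullback.snd str' ι'' = pullback.snd (i ≫ str') ι'' := by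
      rw [pullback.lift_snd, Category.comp_id]
    rw [h1]
    exact (IsPullback.of_hasPullback (i ≫ str') ι'').flip
  have hsq : IsPullback j q π i :=
    IsPullback.of_right houter (pullback.lift_fst _ _ _) hright
  have hmaxπ : ∀ y : ↥(FBase.bc f k'), y ⤳ π (j z'') → y = π (j z'') :=
    Groth.Agent.Lib.Helper24.forall_specializes_eq_of_flat π (j z'') hx''
  have hpt : i (q z'') = π (j z'') := by
    have := congr(($hsq.w) z'')
    exact this.symm
  have hfield : IsField ((FBase.bc f k').nilradical.subscheme.presheaf.stalk (q z'')) := by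
    apply Groth.Agent.Lib.Helper24.isField_stalk_nilradical_subscheme_of_maximal
    change ∀ y : ↥(FBase.bc f k'), y ⤳ i (q z'') → y = i (q z'')
    rw [hpt]
    exact hmaxπ
  exact Groth.Agent.Lib.Helper24.length_stalk_eq_mul_of_isPullback_of_isField hsq z'' hfield

end Groth.Agent.S4686
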