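import Groth.Statements.S4687
import Groth.Agent.Lib.Helper24.MaxPointLength

set_option autoImplicit false
open CategoryTheory AlgebraicGeometry
universe u
open FBase

namespace Groth.Agent.S4687

set_option backward.isDefEq.respectTransparency.types false in
theorem flat_pullback_fst {X Y Z : Scheme.{u}} (f : X ⟶ Z) (g : Y ⟶ Z) (hg : Flat g) :
    Flat (CategoryTheory.Limits.pullback.fst f g) :=
  MorphismProperty.pullback_fst (P := @Flat) _ _ hg

/-- Let X be an integral locally Noetherian scheme over a field k, k′ an extension field of k such that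
X′ = X ⊗_k k′ is locally Noetherian, and k″ an extension field of k′ which is separable over k′
(Spec k″ → Spec k′ geometrically reduced) and such that (X′)_red ⊗_{k′} k″ is locally Noetherian.
Then for every maximal point x″ of X″ = X′ ⊗_{k′} k″ (generic point of an irreducible component),
with image x′ in X′, the local rings O_{X″,x″} and O_{X′,x′} have the same length, each as a module
over itself, with values in ℕ∞. -/
theorem result {k k' k'' : Type u} [Field k] [Field k'] [Field k''] [Algebra k k']
    [Algebra k' k''] {X : Scheme.{u}} (f : X ⟶ Spec (CommRingCat.of k)) [IsIntegral X] [IsLocallyNoetherian X]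
    [IsLocallyNoetherian (FBase.bc f k')] [GeometricallyReduced (Spec.map (CommRingCat.ofHom (algebraMap k' k'')))]
    [IsLocallyNoetherian (FBase.bc ((FBase.bc f k').nilradical.subschemeι ≫ FBase.bcStr f k') k'')]
    (x'' : ↥(FBase.bc (FBase.bcStr f k') k'')) (hx'' : ∀ z : ↥(FBase.bc (FBase.bcStr f k') k''), z ⤳ x'' → z = x'') :
    Module.length ((FBase.bc (FBase.bcStr f k') k'').presheaf.stalk x'') ((FBase.bc (FBase.bcStr f k') k'').presheaf.stalk x'') =
      Module.length ((FBase.bc f k').presheaf.stalk (FBase.bcπ (FBase.bcStr f k') k'' x''))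
        ((FBase.bc f k').presheaf.stalk (FBase.bcπ (FBase.bcStr f k') k'' x'')) := by
  let ι'' : Spec (CommRingCat.of k'') ⟶ Spec (CommRingCat.of k') :=
    Spec.map (CommRingCat.ofHom (algebraMap k' k''))
  let π : FBase.bc (FBase.bcStr f k') k'' ⟶ FBase.bc f k' := FBase.bcπ (FBase.bcStr f k') k''
  have hπ : π = Limits.pullback.fst (FBase.bcStr f k') ι'' := rfl
  have hflatι : Flat ι'' := inferInstance
  have hflat : Flat π := by
    rw [hπ]
    exact flat_pullback_fst _ _ hflatι
  have hsq : IsPullback (Limits.pullback.snd (FBase.bcStr f k') ι'') π ι'' (FBase.bcStr f k') :=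
    (IsPullback.of_hasPullback (FBase.bcStr f k') ι'').flip
  have hfib : IsPullback (π.fiberι (π x'')) (π.fiberToSpecResidueField (π x'')) π
      ((FBase.bc f k').fromSpecResidueField (π x'')) := IsPullback.of_hasPullback _ _
  have hpaste := hfib.paste_horiz hsq
  have hgr : GeometricallyReduced ι'' := inferInstance
  have hred : IsReduced (π.fiber (π x'')) :=
    hgr.geometrically_isReduced (K := (FBase.bc f k').residueField (π x''))
      ((FBase.bc f k').fromSpecResidueField (π x'') ≫ FBase.bcStr f k') _ _ hpaste
  exact Groth.Agent.Lib.Helper24.length_stalk_eq_of_flat_of_isReduced_fiber π x'' hx'' hred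

end Groth.Agent.S4687
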