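import Groth.Statements.S4690
-- import your own Groth.Agent.* helpers here
import Groth.Agent.Lib.Helper55.DimFormulaIrred
import Groth.Agent.Lib.Helper55.GroupLocalDim

set_option autoImplicit false
universe u
open EGA4

namespace Groth.Agent.S4690

open AlgebraicGeometry CategoryTheory in
/-- Let Y be an irreducible locally Noetherian scheme, X an irreducible scheme and f : X → Y a dominant
morphism locally of finite type; let e be the dimension of the generic fibre of f. Then dim X ≤ dim
Y + e. If moreover every local ring of Y is universally catenary, the two sides are equal if and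
only if dim Y equals the supremum of the dimensions of the local rings of Y at the points of f(X). -/
theorem result {X Y : Scheme.{u}} (f : X ⟶ Y) [IsLocallyNoetherian Y]
    [LocallyOfFiniteType f] [IrreducibleSpace X] [IrreducibleSpace Y] (hf : DenseRange f.base) :
    topologicalKrullDim X ≤ topologicalKrullDim Y + topologicalKrullDim (f.fiber (genericPoint Y)) ∧
      ((∀ y : Y, CAlg.IsUniversallyCatenary (Y.presheaf.stalk y)) →
        (topologicalKrullDim X = topologicalKrullDim Y + topologicalKrullDim (f.fiber (genericPoint Y)) ↔
          topologicalKrullDim Y = ⨆ y ∈ Set.range f.base, ringKrullDim (Y.presheaf.stalk y))) := by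
  obtain ⟨m, hm1, hm2⟩ := Groth.Agent.Lib.Helper55.exists_dim_genericFiber_eq_trdeg f hf
  rw [hm1]
  constructor
  · rw [Groth.Agent.Lib.Helper55.topologicalKrullDim_eq_iSup_ringKrullDim_stalk X]
    refine iSup_le fun x => ?_
    obtain ⟨n, hn⟩ := Groth.Agent.Lib.Helper55.exists_trdeg_residueField_eq_natCast f x
    have h := Groth.Agent.Lib.Helper55.ringKrullDim_stalk_add_trdeg_le_of_irreducible f x n m hn hm2
    have h0 : (0 : WithBot ℕ∞) ≤ (n : WithBot ℕ∞) := by exact_mod_cast Nat.zero_le n
    calc ringKrullDim (X.presheaf.stalk x) ≤ ringKrullDim (X.presheaf.stalk x) + n :=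
          le_add_of_nonneg_right h0
      _ ≤ ringKrullDim (Y.presheaf.stalk (f x)) + m := h
      _ ≤ topologicalKrullDim ↥Y + m :=
          add_le_add_left
            (Groth.Agent.Lib.Helper55.ringKrullDim_stalk_le_topologicalKrullDim Y _) _
  · intro hcat
    have key := Groth.Agent.Lib.Helper55.topologicalKrullDim_eq_iSup_range_add f hf hcat m hm2
    rw [key]
    constructor
    · intro h
      refine (Groth.Agent.Lib.Helper55.withBot_enat_add_left_cancel m ?_).symm
      rw [add_comm, h, add_comm]
    · intro h
      rw [h]

end Groth.Agent.S4690
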