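import Groth.Statements.S4691
-- import your own Groth.Agent.* helpers here
import Groth.Agent.S3447
import Groth.Agent.Lib.Helper55.DimStalk

set_option autoImplicit false
universe u
open EGA4

namespace Groth.Agent.S4691

open AlgebraicGeometry CategoryTheory in
/-- Let Y be a locally Noetherian scheme, f : X → Y a morphism locally of finite type and n a natural
number such that every fibre of f has dimension at most n. Then dim X ≤ dim Y + n. -/
theorem result {X Y : Scheme.{u}} (f : X ⟶ Y) [IsLocallyNoetherian Y]
    [LocallyOfFiniteType f] (n : ℕ) (h : ∀ y : Y, topologicalKrullDim (f.fiber y) ≤ n) :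
    topologicalKrullDim X ≤ topologicalKrullDim Y + n := by
  have hX : IsLocallyNoetherian X := LocallyOfFiniteType.isLocallyNoetherian f
  rw [Groth.Agent.Lib.Helper55.topologicalKrullDim_eq_iSup_ringKrullDim_stalk X]
  refine iSup_le fun x => ?_
  have h1 := Groth.Agent.S3447.dim_stalk_le f (f.base x) (f.asFiber x)
  have hx : (f.fiberι (f.base x)).base (f.asFiber x) = x := f.fiberι_asFiber x
  have e1 := congrArg (fun z => ringKrullDim (X.presheaf.stalk z)) hx
  have e2 := congrArg (fun z => ringKrullDim (Y.presheaf.stalk (f.base z))) hx
  simp only at e1 e2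
  rw [e1, e2] at h1
  refine h1.trans (add_le_add ?_ ?_)
  · exact Groth.Agent.Lib.Helper55.ringKrullDim_stalk_le_topologicalKrullDim Y (f.base x)
  · exact (Groth.Agent.Lib.Helper55.ringKrullDim_stalk_le_topologicalKrullDim _ _).trans
      (h (f.base x))

end Groth.Agent.S4691
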