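import Groth.Statements.S4692
-- import your own Groth.Agent.* helpers here
import Groth.Agent.Lib.Helper55.DimFormulaIrred

set_option autoImplicit false
universe u
open EGA4

namespace Groth.Agent.S4692

open AlgebraicGeometry CategoryTheory in
theorem aux {X Y : Scheme.{u}} (f : X ⟶ Y) [IsLocallyNoetherian Y]
    [LocallyOfFiniteType f] [IrreducibleSpace X]
    (hY : ∀ y : Y, CAlg.IsUniversallyCatenary (Y.presheaf.stalk y))
    (n : ℕ) (hall : ∀ y : Y, (n : WithBot ℕ∞) ≤ topologicalKrullDim (f.fiber y)) :
    ∃ (_ : IrreducibleSpace Y) (m : ℕ), n ≤ m ∧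
      topologicalKrullDim (f.fiber (genericPoint Y)) = m ∧
      topologicalKrullDim X = topologicalKrullDim Y + m := by
  have hsurj : Function.Surjective f := by
    intro y
    have hne : Nonempty ↥(f.fiber y) := by
      by_contra hcon
      rw [not_nonempty_iff] at hcon
      have hemp : IsEmpty (TopologicalSpace.IrreducibleCloseds ↥(f.fiber y)) := ⟨fun Z => by
        obtain ⟨z, _⟩ := Z.2.nonempty
        exact hcon.false z⟩
      have h1 : topologicalKrullDim ↥(f.fiber y) = ⊥ := Order.krullDim_eq_bot
      have h2 := hall y
      rw [h1] at h2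
      exact absurd h2 (by simp)
    obtain ⟨z⟩ := hne
    refine ⟨f.fiberι y z, ?_⟩
    have : f.fiberι y z ∈ Set.range (f.fiberι y) := ⟨z, rfl⟩
    rw [f.range_fiberι] at this
    exact this
  have hirr : IsIrreducible (Set.univ : Set Y) := by
    have := (IrreducibleSpace.isIrreducible_univ X).image f f.continuous.continuousOn
    rwa [Set.image_univ, hsurj.range_eq] at this
  have hY' : IrreducibleSpace Y :=
    { toPreirreducibleSpace := ⟨hirr.isPreirreducible⟩
      toNonempty := ⟨f (genericPoint X)⟩ }
  have hf : DenseRange f := hsurj.denseRange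
  obtain ⟨m, hm1, hm2⟩ := Groth.Agent.Lib.Helper55.exists_dim_genericFiber_eq_trdeg f hf
  refine ⟨hY', m, ?_, hm1, ?_⟩
  · have h := hall (genericPoint Y)
    rw [hm1] at h
    exact_mod_cast h
  · rw [Groth.Agent.Lib.Helper55.topologicalKrullDim_eq_iSup_range_add f hf hY m hm2,
      Groth.Agent.Lib.Helper55.topologicalKrullDim_eq_iSup_ringKrullDim_stalk Y]
    congr 1
    refine le_antisymm (iSup₂_le fun y _ => le_iSup (fun y => ringKrullDim (Y.presheaf.stalk y)) y)
      (iSup_le fun y => ?_)
    exact le_iSup₂ (f := fun y (_ : y ∈ Set.range f) => ringKrullDim (Y.presheaf.stalk y))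
      y (hsurj y)

open AlgebraicGeometry CategoryTheory in
/-- Let Y be a locally Noetherian scheme all of whose local rings are universally catenary, X an
irreducible scheme, f : X → Y a morphism locally of finite type and n a natural number. If every
fibre of f has dimension at least n then dim X ≥ dim Y + n; if every fibre has dimension exactly n
then dim X = dim Y + n. (The empty scheme has dimension ⊥, so either hypothesis forces f to be
surjective.) -/
theorem result {X Y : Scheme.{u}} (f : X ⟶ Y) [IsLocallyNoetherian Y]
    [LocallyOfFiniteType f] [IrreducibleSpace X] (hY : ∀ y : Y, CAlg.IsUniversallyCatenary (Y.presheaf.stalk y))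
    (n : ℕ) :
    ((∀ y : Y, (n : WithBot ℕ∞) ≤ topologicalKrullDim (f.fiber y)) →
        topologicalKrullDim Y + n ≤ topologicalKrullDim X) ∧
      ((∀ y : Y, topologicalKrullDim (f.fiber y) = n) →
        topologicalKrullDim X = topologicalKrullDim Y + n) := by
  constructor
  · intro hall
    obtain ⟨_, m, hnm, -, hX⟩ := aux f hY n hall
    rw [hX]
    exact add_le_add_right (by exact_mod_cast hnm) _
  · intro hall
    obtain ⟨_, m, hnm, hm, hX⟩ := aux f hY n (fun y => (hall y).ge)
    rw [hall] at hm
    have : n = m := by exact_mod_cast hm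
    rw [hX, this]

end Groth.Agent.S4692
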