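import Groth.Statements.S4693
import Mathlib
import Groth.Agent.Lib.Helper22.GoingDownModule

set_option autoImplicit false
universe u
open EGA4

namespace Groth.Agent.S4693

/-- Let A → B be a local homomorphism of Noetherian local rings such that the closed fibre ring B/m_A B
has Krull dimension 0 (that is, m_A B is an ideal of definition of B). Then dim B ≤ dim A. If
moreover some finite B-module which is flat over A has support equal to all of Spec B (for instance
if B is flat over A), then dim B = dim A. -/
theorem result (A B : Type u) [CommRing A] [CommRing B] [IsNoetherianRing A]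
    [IsNoetherianRing B] [IsLocalRing A] [IsLocalRing B] [Algebra A B] [IsLocalHom (algebraMap A B)]
    (h0 : ringKrullDim (EGA4.FibRing A B) = 0) :
    ringKrullDim B ≤ ringKrullDim A ∧
      (∀ (N : Type u) [AddCommGroup N] [Module B N] [Module A N] [IsScalarTower A B N] [Module.Finite B N]
          [Module.Flat A N], Module.support B N = Set.univ → ringKrullDim B = ringKrullDim A) := by
  have hover : (IsLocalRing.maximalIdeal B).LiesOver (IsLocalRing.maximalIdeal A) :=
    ⟨(IsLocalRing.maximalIdeal_comap (algebraMap A B)).symm⟩
  have hle := Ideal.height_le_height_add_of_liesOver (IsLocalRing.maximalIdeal A)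
    (IsLocalRing.maximalIdeal B)
  have hfib : ((IsLocalRing.maximalIdeal B).map
      (Ideal.Quotient.mk ((IsLocalRing.maximalIdeal A).map (algebraMap A B)))).height = 0 := by
    have hne : (IsLocalRing.maximalIdeal B).map
        (Ideal.Quotient.mk ((IsLocalRing.maximalIdeal A).map (algebraMap A B))) ≠ ⊤ := by
      intro htop
      have hsup := Ideal.comap_map_of_surjective
        (Ideal.Quotient.mk ((IsLocalRing.maximalIdeal A).map (algebraMap A B)))
        Ideal.Quotient.mk_surjective (IsLocalRing.maximalIdeal B)
      rw [htop, Ideal.comap_top] at hsup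
      have h1 : Ideal.comap (Ideal.Quotient.mk ((IsLocalRing.maximalIdeal A).map (algebraMap A B)))
          ⊥ ≤ IsLocalRing.maximalIdeal B := by
        rw [← RingHom.ker_eq_comap_bot, Ideal.mk_ker]
        exact IsLocalRing.map_maximalIdeal_le (algebraMap A B)
      have : IsLocalRing.maximalIdeal B = ⊤ := by
        rw [hsup, eq_comm, sup_eq_left]
        exact h1
      exact (IsLocalRing.maximalIdeal.isMaximal B).ne_top this
    have h1 : ((((IsLocalRing.maximalIdeal B).map
        (Ideal.Quotient.mk ((IsLocalRing.maximalIdeal A).map (algebraMap A B)))).height : ℕ∞) :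
          WithBot ℕ∞) ≤ ringKrullDim (EGA4.FibRing A B) :=
      Ideal.height_le_ringKrullDim_of_ne_top hne
    rw [h0] at h1
    have h2 : ((IsLocalRing.maximalIdeal B).map
        (Ideal.Quotient.mk ((IsLocalRing.maximalIdeal A).map (algebraMap A B)))).height ≤ 0 := by
      exact_mod_cast h1
    exact le_antisymm h2 bot_le
  rw [hfib, add_zero] at hle
  refine ⟨?_, ?_⟩
  · rw [← IsLocalRing.maximalIdeal_height_eq_ringKrullDim,
      ← IsLocalRing.maximalIdeal_height_eq_ringKrullDim]
    exact_mod_cast hle
  · intro N _ _ _ _ _ _ hsupp
    have := Groth.Agent.Lib.Helper22.hasGoingDown_of_flat_module_of_support_eq_univ A B N hsupp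
    have heq := Ideal.height_eq_height_add_of_liesOver_of_hasGoingDown (IsLocalRing.maximalIdeal A)
      (IsLocalRing.maximalIdeal B)
    rw [hfib, add_zero] at heq
    rw [← IsLocalRing.maximalIdeal_height_eq_ringKrullDim,
      ← IsLocalRing.maximalIdeal_height_eq_ringKrullDim, heq]

end Groth.Agent.S4693
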