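import Groth.Statements.S4699
import Groth.Agent.Lib.Helper29.GenericDim
import Groth.Agent.Lib.Helper29.GenericDepth

set_option autoImplicit false
universe u
open EGA4

namespace Groth.Agent.S4699

/-- Let A be a Noetherian ring, M a finite A-module and I an ideal of A whose radical p is a prime ideal
lying in the support of M (so V(I) is an irreducible closed subset whose generic point is in Supp
M). Then there is an element f outside p such that, for every prime q containing I with f outside q,
the dimension of M_q is the dimension of M_p plus the dimension of (A/I)_q, and the depth of M_q is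
the depth of M_p plus the depth of (A/I)_q (the module (A/I)_q = A_q / I A_q being regarded over
A_q). -/
theorem result (A : Type u) [CommRing A] [IsNoetherianRing A]
    (M : Type u) [AddCommGroup M] [Module A M] [Module.Finite A M] (I : Ideal A) [I.radical.IsPrime]
    (hp : (⟨I.radical, inferInstance⟩ : PrimeSpectrum A) ∈ Module.support A M) :
    ∃ f : A, f ∉ I.radical ∧ ∀ (q : Ideal A) [q.IsPrime], I ≤ q → f ∉ q →
      Module.supportDim (Localization.AtPrime q) (LocalizedModule q.primeCompl M) =
          Module.supportDim (Localization.AtPrime I.radical) (LocalizedModule I.radical.primeCompl M) +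
            Module.supportDim (Localization.AtPrime q)
              (Localization.AtPrime q ⧸ I.map (algebraMap A (Localization.AtPrime q))) ∧
        LocCoh.depth (Localization.AtPrime q) (LocalizedModule q.primeCompl M) =
          LocCoh.depth (Localization.AtPrime I.radical) (LocalizedModule I.radical.primeCompl M) +
            LocCoh.depth (Localization.AtPrime q)
              (Localization.AtPrime q ⧸ I.map (algebraMap A (Localization.AtPrime q))) := by
  have hpr : I.radical.IsPrime := inferInstance
  obtain ⟨f₁, hf₁p, hf₁⟩ := Groth.Agent.Lib.Helper29.exists_supportDim_localizedModule_eq_add A M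
    I.radical hp
  obtain ⟨f₂, hf₂p, hf₂⟩ := Groth.Agent.Lib.Helper29.genericDepthFormula I.radical M
  have hI : ∃ k : ℕ, I.radical ^ k ≤ Module.annihilator A (A ⧸ I) := by
    rw [Ideal.annihilator_quotient]
    exact Ideal.exists_radical_pow_le_of_fg I (IsNoetherian.noetherian _)
  have hpI : (⟨I.radical, hpr⟩ : PrimeSpectrum A) ∈ Module.support A (A ⧸ I) := by
    rw [Module.mem_support_iff_of_finite, Ideal.annihilator_quotient]
    exact Ideal.le_radical
  obtain ⟨f₃, hf₃p, hf₃⟩ := Groth.Agent.Lib.Helper29.generically_depth_eq_of_pow_le_annihilator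
    I.radical (A ⧸ I) hI hpI
  refine ⟨f₁ * f₂ * f₃, ?_, fun q hq hIq hfq => ?_⟩
  · intro h
    rcases hpr.mem_or_mem h with h12 | h3
    · rcases hpr.mem_or_mem h12 with h1 | h2
      · exact hf₁p h1
      · exact hf₂p h2
    · exact hf₃p h3
  · have hpq : I.radical ≤ q := (Ideal.IsPrime.radical_le_iff hq).mpr hIq
    have h1 : f₁ ∉ q := fun h => hfq (q.mul_mem_right _ (q.mul_mem_right _ h))
    have h2 : f₂ ∉ q := fun h => hfq (q.mul_mem_right _ (q.mul_mem_left _ h))
    have h3 : f₃ ∉ q := fun h => hfq (q.mul_mem_left _ h)
    constructor
    · rw [hf₁ q hpq h1, Groth.Agent.Lib.Helper29.supportDim_quotient_map_eq_height A I q hIq]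
    · have e2 := hf₂ ⟨q, hq⟩ hpq h2
      have e3 := hf₃ ⟨q, hq⟩ hpq h3
      rw [Groth.Agent.Lib.Helper29.depth_quotient_map_eq I q]
      exact e2.trans (congrArg _ e3.symm)

end Groth.Agent.S4699
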