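import Groth.Statements.S4703
import Mathlib
import Groth.Agent.Lib.Helper22.FFDomainsRegular
import Groth.Agent.S0543
-- import your own Groth.Agent.* helpers here

set_option autoImplicit false
universe u
open EGA4

namespace Groth.Agent.S4703

open TensorProduct in
/-- For the property 'geometrically regular', case of a local ring: let A be a Noetherian local ring
with completion Â. Then the formal fibres of A are geometrically regular (the completion map A → Â
is a regular homomorphism) if and only if, for every finite A-algebra B which is a domain and every
prime ideal q of B ⊗_A Â whose contraction to B is zero, the local ring of B ⊗_A Â at q is regular.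
(The published statement is for semi-local rings; this row takes A local.) -/
theorem result (A : Type u) [CommRing A] [IsNoetherianRing A] [IsLocalRing A] :
    CAlg.IsRegularHom A (EGA4.Cpl A) ↔
      ∀ (B : Type u) [CommRing B] [IsDomain B] [Algebra A B] [Module.Finite A B]
        (q : Ideal (B ⊗[A] EGA4.Cpl A)) [q.IsPrime],
        q.comap (algebraMap B (B ⊗[A] EGA4.Cpl A)) = ⊥ → IsRegularLocalRing (Localization.AtPrime q) := by
  open Groth.Agent.Lib.Helper22.FFDomains in
  constructor
  · intro h B _ _ _ _ q _ hq
    exact isRegularLocalRing_atPrime_of_geomRegular (EGA4.Cpl A) B (h.2 (kerP B)).2 q hq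
  · intro H
    haveI : IsNoetherianRing (EGA4.Cpl A) := Groth.Agent.S0543.result A _
    refine ⟨inferInstance, fun p _ => ?_⟩
    have hN : IsNoetherianRing (p.Fiber (EGA4.Cpl A)) := by
      have h1 : IsNoetherianRing (EGA4.Cpl A ⊗[A] p.ResidueField) :=
        Algebra.EssFiniteType.isNoetherianRing (EGA4.Cpl A) _
      exact isNoetherianRing_of_ringEquiv _
        (Algebra.TensorProduct.comm A (EGA4.Cpl A) p.ResidueField).toRingEquiv
    refine ⟨hN, fun K _ _ hK => ?_⟩
    exact isRegularRing_tensor_fiber_of_forall (EGA4.Cpl A) p hN K H

end Groth.Agent.S4703
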