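import Groth.Statements.S4705
import Groth.Agent.Lib.Helper73.CplMap
import Groth.Agent.Lib.Helper73.RegularNormal
import Groth.Agent.Lib.Helper73.GeomNormalReduced
import Groth.Agent.S4752
import Groth.Agent.S4753

set_option maxSynthPendingDepth 3

set_option autoImplicit false
universe u
open EGA4

namespace Groth.Agent.S4705

/-- Let A → A' be a flat local homomorphism of Noetherian local rings all of whose fibre rings k(p) ⊗_A
A' are geometrically reduced over k(p). If the completion map of A' is regular (the formal fibres of
A' are geometrically regular), then the formal fibres of A are geometrically reduced. -/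
theorem result (A A' : Type u) [CommRing A] [CommRing A']
    [IsNoetherianRing A] [IsNoetherianRing A'] [IsLocalRing A] [IsLocalRing A'] [Algebra A A']
    [IsLocalHom (algebraMap A A')] [Module.Flat A A']
    (hf : ∀ (p : Ideal A) [p.IsPrime], Algebra.IsGeometricallyReduced p.ResidueField (p.Fiber A'))
    (hA' : CAlg.IsRegularHom A' (EGA4.Cpl A')) : EGA4.HasGeomReducedFormalFibres A := by
  classical
  letI := Groth.Agent.Lib.Helper73.CplMap.cplAlgebra A A'
  have hN : IsNoetherianRing (EGA4.Cpl A') :=
    Groth.Agent.Lib.Helper73.CplMap.isNoetherianRing_cpl A'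
  have hN0 : IsNoetherianRing (EGA4.Cpl A) :=
    Groth.Agent.Lib.Helper73.CplMap.isNoetherianRing_cpl A
  have hfl := Groth.Agent.Lib.Helper73.CplMap.flat_cpl A A'
  have hff := Groth.Agent.Lib.Helper73.CplMap.faithfullyFlat_cpl A A'
  have hflat' : Module.Flat A' (EGA4.Cpl A') := hA'.1
  have hA'r : ∀ (q : Ideal A') [q.IsPrime],
      Algebra.IsGeometricallyReduced q.ResidueField (q.Fiber (EGA4.Cpl A')) := by
    intro q _
    rw [Algebra.isGeometricallyReduced_field_iff]
    apply Groth.Agent.Lib.Helper73.GeomNormalReduced.isReduced_algebraicClosure_tensor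
    intro k' _ _ hfin
    have h1 := (hA'.2 q).2 k' hfin
    exact Groth.Agent.Lib.Helper73.RegularNormal.isNormalRing_of_forall_isRegularLocalRing _
      (fun q' _ => h1.isRegularLocalRing_localization q')
  have hAC := Groth.Agent.S4752.result A A' (EGA4.Cpl A') hf hA'r
  intro p _
  haveI := hAC.2 p
  exact Algebra.IsGeometricallyReduced.of_injective
    (Algebra.TensorProduct.map (AlgHom.id p.ResidueField p.ResidueField)
      (IsScalarTower.toAlgHom A (EGA4.Cpl A) (EGA4.Cpl A')))
    (Groth.Agent.S4753.fiber_map_injective A (EGA4.Cpl A) (EGA4.Cpl A') p.ResidueField)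

end Groth.Agent.S4705
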