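import Groth.Statements.S4707
import Groth.Agent.H8.MN.IntClRel

set_option autoImplicit false
universe u
open EGA4

namespace Groth.Agent.S4707

open TensorProduct in
/-- Let A be a Noetherian ring and A' a Noetherian A-algebra such that A → A' is a normal homomorphism
(flat, with geometrically normal fibres). Let B → C be a homomorphism of A-algebras and D the
integral closure of B in C. Then the integral closure in A' ⊗_A C of the image of A' ⊗_A B is the
image of A' ⊗_A D. (No finiteness is assumed on B or C.) -/
theorem result (A A' : Type u) [CommRing A] [CommRing A']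
    [IsNoetherianRing A] [IsNoetherianRing A'] [Algebra A A'] (h : EGA4.IsNormalHom A A')
    (B C : Type u) [CommRing B] [CommRing C] [Algebra A B] [Algebra A C] [Algebra B C] [IsScalarTower A B C] :
    (integralClosure
          ↥(Algebra.TensorProduct.map (AlgHom.id A' A') (IsScalarTower.toAlgHom A B C)).range (A' ⊗[A] C) :
        Set (A' ⊗[A] C)) =
      Set.range (Algebra.TensorProduct.map (AlgHom.id A' A')
        ((integralClosure B C).val.restrictScalars A)) := by
  set g := Algebra.TensorProduct.map (AlgHom.id A' A') (IsScalarTower.toAlgHom A B C) with hg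
  have hiff : ∀ x : A' ⊗[A] C, IsIntegral g.range x ↔ g.toRingHom.IsIntegralElem x := by
    intro x
    constructor
    · rintro ⟨p, hp, hpx⟩
      have hsurj : Function.Surjective g.rangeRestrict.toRingHom := g.rangeRestrict_surjective
      obtain ⟨q, hqmap, -, hq⟩ := Polynomial.lifts_and_natDegree_eq_and_monic
        (Polynomial.mem_lifts_of_surjective hsurj p) hp
      refine ⟨q, hq, ?_⟩
      rw [← hqmap, Polynomial.eval₂_map] at hpx
      exact hpx
    · intro hx
      have h1 : ((algebraMap g.range (A' ⊗[A] C)).comp g.rangeRestrict.toRingHom).IsIntegralElem x :=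
        hx
      exact RingHom.IsIntegralElem.of_comp h1
  ext x
  constructor
  · intro hx
    have hx' : IsIntegral g.range x := hx
    obtain ⟨w, rfl⟩ := Groth.Agent.H8.MN.mem_range_lTensor_integralClosure_rel A A' h B C x
      ((hiff x).1 hx')
    clear hx hx'
    change _ ∈ (Algebra.TensorProduct.map (AlgHom.id A' A')
        ((integralClosure B C).val.restrictScalars A)).range
    induction w using TensorProduct.induction_on with
    | zero => simp
    | add a b ha hb =>
      rw [map_add]
      exact add_mem ha hb
    | tmul a' c =>
      exact ⟨a' ⊗ₜ[A] (⟨(c : C), c.2⟩ : integralClosure B C), rfl⟩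
  · rintro ⟨w, rfl⟩
    change IsIntegral g.range _
    rw [hiff]
    induction w using TensorProduct.induction_on with
    | zero =>
      rw [map_zero]
      exact RingHom.isIntegralElem_zero _
    | add a b ha hb =>
      rw [map_add]
      exact RingHom.IsIntegralElem.add _ ha hb
    | tmul a' d =>
      have h1 : (Algebra.TensorProduct.map (AlgHom.id A' A')
          ((integralClosure B C).val.restrictScalars A)) (a' ⊗ₜ[A] d) =
          g.toRingHom (a' ⊗ₜ[A] (1 : B)) *
            (Algebra.TensorProduct.includeRight : C →ₐ[A] A' ⊗[A] C) (d : C) := by
        simp [hg]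
      rw [h1]
      refine RingHom.IsIntegralElem.mul _ (RingHom.isIntegralElem_map _) ?_
      have hd : (algebraMap B C).IsIntegralElem (d : C) := d.2
      have h2 := hd.map (Algebra.TensorProduct.includeRight : C →ₐ[A] A' ⊗[A] C).toRingHom
      have h3 : (Algebra.TensorProduct.includeRight : C →ₐ[A] A' ⊗[A] C).toRingHom.comp
          (algebraMap B C) = g.toRingHom.comp
            (Algebra.TensorProduct.includeRight : B →ₐ[A] A' ⊗[A] B).toRingHom := by
        ext b
        simp [hg]
      rw [h3] at h2
      exact RingHom.IsIntegralElem.of_comp h2


end Groth.Agent.S4707
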