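import Groth.Statements.S9314
import Mathlib
import Groth.Agent.S9317
import Groth.Agent.S9294
import Groth.Agent.S9295
import Groth.Agent.S0543
import Groth.Agent.Lib.Helper73.CplMap
import Groth.Agent.Lib.Helper81.LfsRegular

set_option autoImplicit false
universe u
open CAlg

namespace Groth.Agent.S9314
open IsLocalRing TensorProduct in
set_option synthInstance.maxHeartbeats 200000 in
set_option maxHeartbeats 2000000 in
theorem aux {A B : Type u}
    [CommRing A] [CommRing B] [IsLocalRing A] [IsLocalRing B] [IsNoetherianRing A]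
    [IsNoetherianRing B] [Algebra A B] [IsLocalHom (algebraMap A B)]
    (hA : CAlg.IsRegularHom A (AdicCompletion (IsLocalRing.maximalIdeal A) A))
    (h : CAlgX.IsAdicFormallySmooth A B (IsLocalRing.maximalIdeal B)) :
    CAlg.IsRegularHom A B := by
  classical
  haveI : IsNoetherianRing (EGA4.Cpl A) := Groth.Agent.S0543.result A _
  haveI : IsNoetherianRing (EGA4.Cpl B) := Groth.Agent.S0543.result B _
  letI : Algebra (EGA4.Cpl A) (EGA4.Cpl B) := Groth.Agent.Lib.Helper73.CplMap.cplAlgebra A B
  haveI : IsLocalHom (algebraMap (EGA4.Cpl A) (EGA4.Cpl B)) :=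
    Groth.Agent.Lib.Helper73.CplMap.isLocalHom_cplMap A B
  haveI : IsScalarTower A (EGA4.Cpl A) (EGA4.Cpl B) :=
    Groth.Agent.Lib.Helper73.CplMap.isScalarTower_cpl A B
  haveI : IsScalarTower A B (EGA4.Cpl B) := Groth.Agent.Lib.Helper73.CplMap.isScalarTower_cpl' A B
  have h1 : CAlgX.IsAdicFormallySmooth (EGA4.Cpl A) (EGA4.Cpl B)
      ((maximalIdeal B).map (algebraMap B (EGA4.Cpl B))) :=
    (Groth.Agent.S9317.result (maximalIdeal A) (maximalIdeal B) (IsNoetherian.noetherian _)
      (IsNoetherian.noetherian _)
      ⟨1, by rw [pow_one]; exact IsLocalRing.map_maximalIdeal_le (algebraMap A B)⟩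
      (Groth.Agent.Lib.Helper73.CplMap.cplMap A B)
      (Groth.Agent.Lib.Helper73.CplMap.cplMap_comp A B)).mp h
  rw [← AdicCompletion.maximalIdeal_eq_map] at h1
  have h2 : CAlg.IsRegularHom (EGA4.Cpl A) (EGA4.Cpl B) :=
    Groth.Agent.Lib.Helper81.LfsRegular.isRegularHom_of_smooth h1
  have h3 : CAlg.IsRegularHom A (EGA4.Cpl B) :=
    Groth.Agent.S9294.result A (EGA4.Cpl A) (EGA4.Cpl B) hA h2 (fun p _ => by
      have h1 : IsNoetherianRing ((EGA4.Cpl B) ⊗[A] p.ResidueField) :=
        Algebra.EssFiniteType.isNoetherianRing (EGA4.Cpl B) _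
      exact isNoetherianRing_of_ringEquiv _
        (Algebra.TensorProduct.comm A (EGA4.Cpl B) p.ResidueField).toRingEquiv)
  haveI : Module.FaithfullyFlat B (EGA4.Cpl B) := Module.FaithfullyFlat.of_flat_of_isLocalHom
  exact Groth.Agent.S9295.result A B (EGA4.Cpl B) h3
    PrimeSpectrum.comap_surjective_of_faithfullyFlat

/-- Let `A` and `B` be Noetherian local rings and `A → B` a local ring map, and suppose that the map
from `A` to its completion along the maximal ideal is a regular ring map. If `A → B` is formally
smooth for the adic topology of the maximal ideal of `B`, then `A → B` is a regular ring map: flat,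
with Noetherian fibres that are geometrically regular over the residue fields of `A`. -/
theorem result {A B : Type u}
    [CommRing A] [CommRing B] [IsLocalRing A] [IsLocalRing B] [IsNoetherianRing A]
    [IsNoetherianRing B] [Algebra A B] [IsLocalHom (algebraMap A B)]
    (hA : CAlg.IsRegularHom A (AdicCompletion (IsLocalRing.maximalIdeal A) A))
    (h : CAlgX.IsAdicFormallySmooth A B (IsLocalRing.maximalIdeal B)) :
    CAlg.IsRegularHom A B := by
  exact aux hA h

end Groth.Agent.S9314
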