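import Groth.Statements.S4708
import Mathlib
import Groth.Agent.S9314
import Groth.Agent.S9318
import Groth.Agent.S2038
import Groth.Agent.S0543

set_option autoImplicit false
universe u
open EGA4

namespace Groth.Agent.S4708

/-- Let A → B be a local homomorphism of Noetherian local rings making B a flat A-module, such that the
residue field of B is a finite extension of the residue field k of A, and such that the formal
fibres of A are geometrically regular (the completion map A → Â is regular). If the k-algebra k ⊗_A
B̂, where B̂ is the completion of B, is geometrically regular over k, then every fibre of A → B is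
geometrically regular, that is, A → B is a regular homomorphism. -/
theorem result (A B : Type u) [CommRing A] [CommRing B]
    [IsNoetherianRing A] [IsNoetherianRing B] [IsLocalRing A] [IsLocalRing B] [Algebra A B]
    [IsLocalHom (algebraMap A B)] [Module.Flat A B]
    [Module.Finite (IsLocalRing.ResidueField A) (IsLocalRing.ResidueField B)]
    (hA : CAlg.IsRegularHom A (EGA4.Cpl A))
    (h : CAlg.IsGeometricallyRegular (IsLocalRing.maximalIdeal A).ResidueField
      ((IsLocalRing.maximalIdeal A).Fiber (EGA4.Cpl B))) :
    CAlg.IsRegularHom A B := by
  classical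
  haveI : IsNoetherianRing (EGA4.Cpl B) := Groth.Agent.S0543.result B _
  haveI : IsLocalHom (algebraMap A (EGA4.Cpl B)) := by
    rw [IsScalarTower.algebraMap_eq A B (AdicCompletion (IsLocalRing.maximalIdeal B) B)]
    infer_instance
  haveI : Module.Flat A (EGA4.Cpl B) := Module.Flat.trans A B (EGA4.Cpl B)
  have h1 : CAlgX.IsAdicFormallySmooth A (EGA4.Cpl B) (IsLocalRing.maximalIdeal (EGA4.Cpl B)) :=
    (Groth.Agent.S2038.result).mp ⟨inferInstance, h⟩
  rw [AdicCompletion.maximalIdeal_eq_map] at h1
  have h2 : CAlgX.IsAdicFormallySmooth A B (IsLocalRing.maximalIdeal B) :=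
    (Groth.Agent.S9318.result (R := A) (IsLocalRing.maximalIdeal B)
      (IsNoetherian.noetherian _)).mpr h1
  exact Groth.Agent.S9314.result hA h2

end Groth.Agent.S4708
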