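import Groth.Statements.S4710
import Mathlib
import Groth.Agent.S9392

set_option autoImplicit false
universe u
open EGA4

namespace Groth.Agent.S4710

/-- Last assertion, case of rings of fractions: if A is a Noetherian ring all of whose quotient domains
are Japanese (a Nagata ring), then so is every ring of fractions S⁻¹A. -/
theorem result (A : Type u) [CommRing A] (hA : CAlg.IsNagata A) (S : Submonoid A) :
    CAlg.IsNagata (Localization S) := by
  obtain ⟨hN, hp⟩ := hA
  refine ⟨IsLocalization.isNoetherianRing S _ hN, ?_⟩
  intro q hq
  have hq' : (q.comap (algebraMap A (Localization S))).map (algebraMap A (Localization S)) = q :=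
    IsLocalization.map_under S _ q
  obtain ⟨p, hp'⟩ : ∃ p, p = q.comap (algebraMap A (Localization S)) := ⟨_, rfl⟩
  haveI : p.IsPrime := hp' ▸ Ideal.IsPrime.comap _
  rw [← hp'] at hq'
  subst hq'
  exact Groth.Agent.S9392.result (A ⧸ p) (Algebra.algebraMapSubmonoid (A ⧸ p) S)
    (Localization S ⧸ p.map (algebraMap A (Localization S))) (hp p)

end Groth.Agent.S4710
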