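import Groth.Statements.S4711
import Mathlib
-- import your own Groth.Agent.* helpers here

set_option autoImplicit false
universe u
open EGA4

namespace Groth.Agent.S4711

open Topology in
/-- In a compact T0 space, a nonempty constructible set contains a point `x` with `{x}` locally
closed. -/
theorem exists_isLocallyClosed_singleton_of_isConstructible {Y : Type*} [TopologicalSpace Y]
    [CompactSpace Y] [T0Space Y] (s : Set Y) (hs : IsConstructible s) :
    s.Nonempty → ∃ x ∈ s, IsLocallyClosed ({x} : Set Y) := by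
  induction s, hs using BooleanSubalgebra.closure_sdiff_sup_induction with
  | isSublattice =>
    exact ⟨fun s hs t ht ↦ ⟨hs.1.union ht.1, hs.2.union ht.2⟩,
      fun s hs t ht ↦ ⟨hs.1.inter ht.1, hs.2.inter_isOpen ht.2 ht.1⟩⟩
  | bot_mem => exact ⟨isOpen_empty, .empty⟩
  | top_mem => exact ⟨isOpen_univ, .univ⟩
  | sdiff U hU V hV =>
    intro hne
    have hcpt : IsCompact (U \ V) := hU.2.isCompact.diff hV.1
    have : CompactSpace ↥(U \ V) := isCompact_iff_compactSpace.mp hcpt
    have : Nonempty ↥(U \ V) := hne.to_subtype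
    obtain ⟨k, -, hk⟩ := IsClosed.exists_closed_singleton (X := ↥(U \ V)) isClosed_univ
      Set.univ_nonempty
    refine ⟨k.1, k.2, ?_⟩
    have hlc : IsLocallyClosed (Set.range (Subtype.val : ↥(U \ V) → Y)) := by
      rw [Subtype.range_coe, Set.sdiff_eq]
      exact hU.1.isLocallyClosed.inter hV.1.isClosed_compl.isLocallyClosed
    have := hk.isLocallyClosed.image IsInducing.subtypeVal hlc
    rwa [Set.image_singleton] at this
  | sup s _ t _ hs' ht' =>
    intro hne
    rcases hne with ⟨x, hx | hx⟩
    · obtain ⟨y, hy, hy'⟩ := hs' ⟨x, hx⟩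
      exact ⟨y, Or.inl hy, hy'⟩
    · obtain ⟨y, hy, hy'⟩ := ht' ⟨x, hx⟩
      exact ⟨y, Or.inr hy, hy'⟩

open AlgebraicGeometry Topology in
/-- In any scheme X, every nonempty locally constructible subset E contains a point x such that the
one-point set {x} is locally closed in X (equivalently x is isolated in its closure). -/
theorem result (X : Scheme.{u}) (E : Set X)
    (hE : Topology.IsLocallyConstructible E) (hne : E.Nonempty) :
    ∃ x ∈ E, IsLocallyClosed ({x} : Set X) := by
  obtain ⟨x₀, hx₀⟩ := hne
  obtain ⟨U, hU, hUo, hUc⟩ := hE x₀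
  have hx₀U : x₀ ∈ U := mem_of_mem_nhds hU
  obtain ⟨_, ⟨W, hW, rfl⟩, hxW, hWU⟩ :=
    X.isBasis_affineOpens.exists_subset_of_mem_open hx₀U hUo
  have : CompactSpace (W : Set X) := isCompact_iff_compactSpace.mp hW.isCompact
  have hι : IsOpenEmbedding (Set.inclusion hWU) :=
    IsOpenEmbedding.inclusion hWU (W.2.preimage continuous_subtype_val)
  have hc : IsConstructible ((Subtype.val : ↥(W : Set X) → X) ⁻¹' E) := by
    have := hUc.preimage_of_isOpenEmbedding hι
    rwa [← Set.preimage_comp] at this
  obtain ⟨w, hw, hw'⟩ := exists_isLocallyClosed_singleton_of_isConstructible _ hc ⟨⟨x₀, hxW⟩, hx₀⟩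
  refine ⟨w.1, hw, ?_⟩
  have hlc : IsLocallyClosed (Set.range (Subtype.val : ↥(W : Set X) → X)) := by
    rw [Subtype.range_coe]
    exact W.2.isLocallyClosed
  have := hw'.image IsInducing.subtypeVal hlc
  rwa [Set.image_singleton] at this

end Groth.Agent.S4711
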