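import Groth.Statements.S4714
import Mathlib
import Groth.Agent.Lib.Helper22.NowhereDenseDim
import Groth.Agent.Lib.Helper55.DimPoint
import Groth.Agent.Lib.Helper55.Catenary
-- import your own Groth.Agent.* helpers here

set_option autoImplicit false
set_option linter.style.haveILetI false
universe u
open EGA4

namespace Groth.Agent.S4714

open AlgebraicGeometry CategoryTheory in
/-- For a section of the structure sheaf: let X be a scheme locally of finite type over a field k and f
a global section of O_X whose zero locus Y is nowhere dense in X. Then dim Y + 1 ≤ dim X. If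
moreover some irreducible component of X has dimension equal to dim X and Y meets every such
component, then dim Y + 1 = dim X. (The published statement is for a section of an invertible sheaf;
the existence of a component of maximal dimension, implicit in the published wording, is made a
hypothesis of the equality clause.) -/
theorem result (k : Type u) [Field k] (X : Scheme.{u}) (p : X ⟶ Spec (CommRingCat.of k))
    [LocallyOfFiniteType p] (f : Γ(X, ⊤)) (hY : interior (X.zeroLocus (U := ⊤) {f}) = ∅) :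
    topologicalKrullDim (X.zeroLocus (U := ⊤) {f}) + 1 ≤ topologicalKrullDim X ∧
      ((∃ Z ∈ irreducibleComponents (X : Type u), topologicalKrullDim Z = topologicalKrullDim X) →
        (∀ Z ∈ irreducibleComponents (X : Type u), topologicalKrullDim Z = topologicalKrullDim X →
          (Z ∩ X.zeroLocus (U := ⊤) {f}).Nonempty) →
        topologicalKrullDim (X.zeroLocus (U := ⊤) {f}) + 1 = topologicalKrullDim X) := by
  open Groth.Agent.Lib.Helper22.NowhereDenseDim Groth.Agent.Lib.Helper55 in
  set_option backward.isDefEq.respectTransparency false in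
  have hlN : IsLocallyNoetherian X := LocallyOfFiniteType.isLocallyNoetherian p
  have hX : ∀ x : X, ∃ U : Set X, IsOpen U ∧ x ∈ U ∧ TopologicalSpace.NoetherianSpace U := by
    intro x
    obtain ⟨U, hU, hxU, -⟩ := exists_isAffineOpen_mem_and_subset (x := x) (U := ⊤) trivial
    haveI : IsNoetherianRing Γ(X, U) := IsLocallyNoetherian.component_noetherian ⟨U, hU⟩
    exact ⟨U, U.2, hxU, noetherianSpace_of_isAffineOpen U hU⟩
  have hYc : IsClosed (X.zeroLocus (U := ⊤) {f}) := X.zeroLocus_isClosed _
  have part1 := topologicalKrullDim_add_one_le_of_interior_eq_empty hX _ hYc hY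
  refine ⟨part1, ?_⟩
  rintro ⟨Z, hZ, hdim⟩ hall
  refine le_antisymm part1 ?_
  obtain ⟨x, hxZ, hxY⟩ := hall Z hZ hdim
  have hZirr : IsIrreducible Z := hZ.1
  have hZc : IsClosed Z := isClosed_of_mem_irreducibleComponents Z hZ
  obtain ⟨ξ, hξ⟩ := QuasiSober.sober hZirr hZc
  have hspec : ξ ⤳ x := hξ.specializes hxZ
  obtain ⟨U, hU, hxU, -⟩ := exists_isAffineOpen_mem_and_subset (x := x) (U := ⊤) trivial
  have hξU : ξ ∈ U := hspec.mem_open U.2 hxU
  haveI : IsNoetherianRing Γ(X, U) := IsLocallyNoetherian.component_noetherian ⟨U, hU⟩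
  obtain ⟨Px, hPx⟩ : ∃ P : PrimeSpectrum Γ(X, U), P = hU.primeIdealOf ⟨x, hxU⟩ := ⟨_, rfl⟩
  obtain ⟨Pξ, hPξ⟩ : ∃ P : PrimeSpectrum Γ(X, U), P = hU.primeIdealOf ⟨ξ, hξU⟩ := ⟨_, rfl⟩
  have hfx : hU.fromSpec Px = x := by rw [hPx]; exact hU.fromSpec_primeIdealOf ⟨x, hxU⟩
  have hfξ : hU.fromSpec Pξ = ξ := by rw [hPξ]; exact hU.fromSpec_primeIdealOf ⟨ξ, hξU⟩
  have hle : Pξ ≤ Px := by
    rw [PrimeSpectrum.le_iff_specializes]
    rw [← hU.fromSpec.isOpenEmbedding.isInducing.specializes_iff, hfx, hfξ]
    exact hspec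
  obtain ⟨a, ha⟩ : ∃ a : Γ(X, U), a = X.presheaf.map (homOfLE le_top).op f := ⟨_, rfl⟩
  have key : ∀ P : PrimeSpectrum Γ(X, U),
      a ∈ P.asIdeal ↔ hU.fromSpec P ∈ X.zeroLocus (U := ⊤) {f} := by
    intro P
    rw [Scheme.mem_zeroLocus_iff]
    simp only [Set.mem_singleton_iff, forall_eq]
    have h1 : hU.fromSpec P ∈ U := by
      have h := Set.mem_range_self (f := hU.fromSpec) P
      rwa [hU.range_fromSpec] at h
    have h2 : X.basicOpen a = U ⊓ X.basicOpen f := by
      rw [ha]; exact Scheme.basicOpen_res _ _ _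
    have h3 : hU.fromSpec ⁻¹ᵁ X.basicOpen a = PrimeSpectrum.basicOpen a :=
      hU.fromSpec_preimage_basicOpen a
    have h4 : P ∈ PrimeSpectrum.basicOpen a ↔ hU.fromSpec P ∈ X.basicOpen a := by
      rw [← h3]; rfl
    rw [PrimeSpectrum.mem_basicOpen] at h4
    rw [h2] at h4
    constructor
    · intro haP hmem
      exact (h4.mpr ⟨h1, hmem⟩) haP
    · intro hnot
      by_contra haP
      exact hnot (h4.mp haP).2
  have haPx : a ∈ Px.asIdeal := by rw [key, hfx]; exact hxY
  have haPξ : a ∉ Pξ.asIdeal := by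
    rw [key, hfξ]
    intro hξY
    apply not_subset_of_interior_eq_empty hX hZ hY
    rw [← hξ.def]
    exact closure_minimal (Set.singleton_subset_iff.mpr hξY) hYc
  obtain ⟨q, hcov, haq, hqm⟩ := exists_covBy_mem Pξ Px a hle haPξ haPx
  have hyY : hU.fromSpec q ∈ X.zeroLocus (U := ⊤) {f} := (key q).mp haq
  have hcl : closure {hU.fromSpec q} ⊆ X.zeroLocus (U := ⊤) {f} :=
    closure_minimal (Set.singleton_subset_iff.mpr hyY) hYc
  have d1 := topologicalKrullDim_closure_chart p hU.fromSpec q
  have d2 := topologicalKrullDim_closure_chart p hU.fromSpec Pξ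
  rw [hfξ, hξ.def] at d2
  letI : X.Over (Spec (CommRingCat.of k)) := ⟨p⟩
  have hlft : LocallyOfFiniteType (X ↘ Spec (CommRingCat.of k)) := ‹LocallyOfFiniteType p›
  letI : Algebra k Γ(X, U) := (sectionsMap k X U).toAlgebra
  haveI hft : Algebra.FiniteType k Γ(X, U) := sectionsMap_finiteType k X U hU
  have d3 := ringKrullDim_quotient_eq_add_one_of_covBy k Γ(X, U) Pξ q hcov
  have d4 := topologicalKrullDim_mono_set hcl
  rw [← hdim, d2, d3, ← d1]
  exact add_le_add_left d4 1

end Groth.Agent.S4714
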