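import Groth.Statements.S4717
import Mathlib
import Groth.Agent.Lib.Helper22.DimDiscreteFibres
import Groth.Agent.S4716

set_option autoImplicit false
universe u
open EGA4

namespace Groth.Agent.S4717

open AlgebraicGeometry CategoryTheory in
/-- Let f : X → Y be a finite morphism of locally Noetherian schemes. Then dim X equals the dimension of
the image f(X); in particular if f is surjective then dim X = dim Y. -/
theorem result {X Y : Scheme.{u}} (f : X ⟶ Y) [IsLocallyNoetherian X] [IsLocallyNoetherian Y]
    [IsFinite f] :
    topologicalKrullDim X = topologicalKrullDim (Set.range f.base) ∧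
      (Function.Surjective f.base → topologicalKrullDim X = topologicalKrullDim Y) := by
  have hclosed : IsClosedMap f.base := f.isClosedMap
  have hX : ∀ x : X, ∃ U : TopologicalSpace.Opens X, x ∈ U ∧ TopologicalSpace.NoetherianSpace U := by
    intro x
    obtain ⟨_, ⟨U, hU, rfl⟩, hxU, -⟩ :=
      X.isBasis_affineOpens.exists_subset_of_mem_open (Set.mem_univ x) isOpen_univ
    have : IsNoetherianRing Γ(X, U) := IsLocallyNoetherian.component_noetherian ⟨U, hU⟩
    exact ⟨U, hxU, noetherianSpace_of_isAffineOpen U hU⟩
  have hcl : IsClosed (Set.range f.base) := hclosed.isClosed_range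
  have : QuasiSober (Set.range f.base) := hcl.isClosedEmbedding_subtypeVal.quasiSober
  let g : X → Set.range f.base := fun x => ⟨f.base x, ⟨x, rfl⟩⟩
  have hg : Continuous g := f.continuous.subtype_mk _
  have hgs : Function.Surjective g := by
    rintro ⟨_, x, rfl⟩
    exact ⟨x, rfl⟩
  have hgc : IsClosedMap g := by
    intro Z hZ
    have : g '' Z = Subtype.val ⁻¹' (f.base '' Z) := by
      ext ⟨y, hy⟩
      simp [g, Subtype.ext_iff]
    rw [this]
    exact (hclosed Z hZ).preimage continuous_subtype_val
  have h1 : topologicalKrullDim X = topologicalKrullDim (Set.range f.base) := by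
    apply le_antisymm
    · refine Groth.Agent.Lib.Helper22.topologicalKrullDim_le_of_isDiscrete_fibers g hg fun y => ?_
      have : g ⁻¹' {y} = f.base ⁻¹' {y.1} := by
        ext x
        simp [g, Subtype.ext_iff]
      rw [this]
      exact f.isDiscrete_preimage_singleton y.1
    · exact Groth.Agent.S4716.topologicalKrullDim_le_of_surjective hX g hg hgs (Or.inr hgc)
  refine ⟨h1, fun hs => ?_⟩
  apply le_antisymm
  · exact Groth.Agent.Lib.Helper22.topologicalKrullDim_le_of_isDiscrete_fibers f.base f.continuous
      fun y => f.isDiscrete_preimage_singleton y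
  · exact Groth.Agent.S4716.topologicalKrullDim_le_of_surjective hX f.base f.continuous hs
      (Or.inr hclosed)

end Groth.Agent.S4717
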