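import Groth.Statements.S4718
import Groth.Agent.Lib.Helper29.FiniteRestrictCM

set_option autoImplicit false
universe u
open EGA4

namespace Groth.Agent.S4718

/-- Let A be a Noetherian local ring, B a Noetherian ring, A → B a ring homomorphism and M a nonzero
B-module which is finite as an A-module. Then M is a Cohen–Macaulay A-module if and only if, for all
primes q of B lying over the maximal ideal of A and belonging to the support of M, the B_q-module
M_q is Cohen–Macaulay and all these modules M_q have the same dimension. -/
theorem result (A B : Type u) [CommRing A] [CommRing B]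
    [IsNoetherianRing A] [IsLocalRing A] [IsNoetherianRing B] [Algebra A B]
    (M : Type u) [AddCommGroup M] [Module B M] [Module A M] [IsScalarTower A B M] [Module.Finite A M]
    [Nontrivial M] :
    LocCoh.IsCohenMacaulayModule A M ↔
      (∀ q ∈ {q : PrimeSpectrum B | q.asIdeal.comap (algebraMap A B) = IsLocalRing.maximalIdeal A ∧
          q ∈ Module.support B M},
        LocCoh.IsCohenMacaulayModule (Localization.AtPrime q.asIdeal) (LocalizedModule q.asIdeal.primeCompl M)) ∧
      (∀ q ∈ {q : PrimeSpectrum B | q.asIdeal.comap (algebraMap A B) = IsLocalRing.maximalIdeal A ∧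
          q ∈ Module.support B M},
        ∀ q' ∈ {q : PrimeSpectrum B | q.asIdeal.comap (algebraMap A B) = IsLocalRing.maximalIdeal A ∧
          q ∈ Module.support B M},
          Module.supportDim (Localization.AtPrime q.asIdeal) (LocalizedModule q.asIdeal.primeCompl M) =
            Module.supportDim (Localization.AtPrime q'.asIdeal) (LocalizedModule q'.asIdeal.primeCompl M)) := by
  have hB : Module.Finite B M := Module.Finite.of_restrictScalars_finite A B M
  have hmem : (⟨IsLocalRing.maximalIdeal A, inferInstance⟩ : PrimeSpectrum A) ∈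
      Module.support A M := IsLocalRing.closedPoint_mem_support A M
  have hdim := Groth.Agent.Lib.Helper29.supportDim_localization_maximalIdeal A M
  have hdepth := Groth.Agent.Lib.Helper29.depth_localization_maximalIdeal A M
  have hdimS := Groth.Agent.Lib.Helper29.supportDim_localizedModule_eq_iSup A B M
    (IsLocalRing.maximalIdeal A)
  have hdepthS := Groth.Agent.Lib.Helper29.depth_localizedModule_eq_iInf A B M
    (IsLocalRing.maximalIdeal A)
  rw [hdim] at hdimS
  rw [hdepth] at hdepthS
  obtain ⟨q0, hq0, hq0s⟩ := Groth.Agent.Lib.Helper29.exists_mem_support_comap_eq A B M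
    (IsLocalRing.maximalIdeal A) hmem
  -- `depth ≤ dim` for each `M_q`
  have hle : ∀ q ∈ {q : PrimeSpectrum B | q.asIdeal.comap (algebraMap A B) =
        IsLocalRing.maximalIdeal A ∧ q ∈ Module.support B M},
      ((LocCoh.depth (Localization.AtPrime q.asIdeal)
        (LocalizedModule q.asIdeal.primeCompl M) : ℕ∞) : WithBot ℕ∞) ≤
      Module.supportDim (Localization.AtPrime q.asIdeal)
        (LocalizedModule q.asIdeal.primeCompl M) := by
    intro q hq
    have : Nontrivial (LocalizedModule q.asIdeal.primeCompl M) := Module.mem_support_iff.mp hq.2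
    exact Groth.Agent.Lib.Helper29.depth_le_supportDim _ _
  unfold LocCoh.IsCohenMacaulayModule
  constructor
  · intro hCM
    have key : ∀ q ∈ {q : PrimeSpectrum B | q.asIdeal.comap (algebraMap A B) =
          IsLocalRing.maximalIdeal A ∧ q ∈ Module.support B M},
        Module.supportDim (Localization.AtPrime q.asIdeal)
          (LocalizedModule q.asIdeal.primeCompl M) = Module.supportDim A M ∧
        ((LocCoh.depth (Localization.AtPrime q.asIdeal)
          (LocalizedModule q.asIdeal.primeCompl M) : ℕ∞) : WithBot ℕ∞) =
          Module.supportDim A M := by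
      intro q hq
      have h1 : Module.supportDim (Localization.AtPrime q.asIdeal)
          (LocalizedModule q.asIdeal.primeCompl M) ≤ Module.supportDim A M := by
        rw [hdimS]
        exact le_iSup₂_of_le q hq le_rfl
      have h2 : LocCoh.depth A M ≤ LocCoh.depth (Localization.AtPrime q.asIdeal)
          (LocalizedModule q.asIdeal.primeCompl M) := by
        rw [hdepthS]
        exact iInf₂_le q hq
      have h3 : Module.supportDim A M ≤ ((LocCoh.depth (Localization.AtPrime q.asIdeal)
          (LocalizedModule q.asIdeal.primeCompl M) : ℕ∞) : WithBot ℕ∞) := by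
        rw [hCM]
        exact WithBot.coe_le_coe.mpr h2
      exact ⟨le_antisymm h1 (h3.trans (hle q hq)), le_antisymm ((hle q hq).trans h1) h3⟩
    refine ⟨fun q hq => ?_, fun q hq q' hq' => ?_⟩
    · rw [(key q hq).1, (key q hq).2]
    · rw [(key q hq).1, (key q' hq').1]
  · rintro ⟨hCMq, heq⟩
    have h1 : Module.supportDim A M = Module.supportDim (Localization.AtPrime q0.asIdeal)
        (LocalizedModule q0.asIdeal.primeCompl M) := by
      rw [hdimS]
      apply le_antisymm
      · exact iSup₂_le fun q hq => le_of_eq (heq q hq q0 ⟨hq0, hq0s⟩)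
      · exact le_iSup₂_of_le q0 ⟨hq0, hq0s⟩ le_rfl
    have h2 : LocCoh.depth A M = LocCoh.depth (Localization.AtPrime q0.asIdeal)
        (LocalizedModule q0.asIdeal.primeCompl M) := by
      rw [hdepthS]
      apply le_antisymm
      · exact iInf₂_le q0 ⟨hq0, hq0s⟩
      · refine le_iInf₂ fun q hq => ?_
        have h3 := hCMq q hq
        have h4 := hCMq q0 ⟨hq0, hq0s⟩
        rw [heq q hq q0 ⟨hq0, hq0s⟩, h4] at h3
        exact le_of_eq (WithBot.coe_inj.mp h3)
    rw [h1, h2]
    exact hCMq q0 ⟨hq0, hq0s⟩

end Groth.Agent.S4718
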