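import Groth.Statements.S4719
import Groth.Agent.Lib.Helper29.FiniteRestrictCM

set_option autoImplicit false
universe u
open EGA4

namespace Groth.Agent.S4719

/-- Let A → B be a homomorphism of Noetherian rings and M a B-module which is finite as an A-module. (i)
If M satisfies (S_k) as an A-module, it satisfies (S_k) as a B-module. (ii) If for every two primes
q, q' of B in the support of M having the same contraction to A the modules M_q and M_{q'} have the
same dimension, then (S_k) for M as a B-module implies (S_k) for M as an A-module. (The published
statement asks the equal-dimension condition for all pairs of primes of B with the same contraction;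
this row asks it only for primes in the support of M, which is all its proof uses.) -/
theorem result (k : ℕ) (A B : Type u) [CommRing A] [CommRing B] [IsNoetherianRing A]
    [IsNoetherianRing B] [Algebra A B] (M : Type u) [AddCommGroup M] [Module B M] [Module A M]
    [IsScalarTower A B M] [Module.Finite A M] :
    (LocCoh.HasSk k A M → LocCoh.HasSk k B M) ∧
      ((∀ q ∈ Module.support B M, ∀ q' ∈ Module.support B M,
          q.asIdeal.comap (algebraMap A B) = q'.asIdeal.comap (algebraMap A B) →
            Module.supportDim (Localization.AtPrime q.asIdeal) (LocalizedModule q.asIdeal.primeCompl M) =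
              Module.supportDim (Localization.AtPrime q'.asIdeal) (LocalizedModule q'.asIdeal.primeCompl M)) →
        LocCoh.HasSk k B M → LocCoh.HasSk k A M) := by
  have hB : Module.Finite B M := Module.Finite.of_restrictScalars_finite A B M
  constructor
  · intro hA q _
    by_cases hq : (⟨q, inferInstance⟩ : PrimeSpectrum B) ∈ Module.support B M
    · set p : Ideal A := q.comap (algebraMap A B) with hp
      have h1 := hA p
      have h2 := Groth.Agent.Lib.Helper29.depth_localizedModule_le_of_comap_eq A B M p
        ⟨q, inferInstance⟩ rfl hq
      have h3 := Groth.Agent.Lib.Helper29.supportDim_localizedModule_le_of_comap_eq A B M p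
        ⟨q, inferInstance⟩ rfl hq
      exact (min_le_min_left _ h3).trans (h1.trans (WithBot.coe_le_coe.mpr h2))
    · have : Subsingleton (LocalizedModule q.primeCompl M) := Module.notMem_support_iff.mp hq
      rw [Module.supportDim_eq_bot_of_subsingleton]
      simp
  · intro heq hBk p _
    by_cases hp : (⟨p, inferInstance⟩ : PrimeSpectrum A) ∈ Module.support A M
    · obtain ⟨q1, hq1, hq1s, hq1d⟩ :=
        Groth.Agent.Lib.Helper29.exists_depth_localizedModule_eq A B M p hp
      have hdim : Module.supportDim (Localization.AtPrime p) (LocalizedModule p.primeCompl M) =
          Module.supportDim (Localization.AtPrime q1.asIdeal)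
            (LocalizedModule q1.asIdeal.primeCompl M) := by
        rw [Groth.Agent.Lib.Helper29.supportDim_localizedModule_eq_iSup A B M p]
        apply le_antisymm
        · refine iSup₂_le fun q hq => ?_
          exact le_of_eq (heq q hq.2 q1 hq1s (hq.1.trans hq1.symm))
        · exact le_iSup₂_of_le q1 ⟨hq1, hq1s⟩ le_rfl
      rw [hdim, ← hq1d]
      exact hBk q1.asIdeal
    · have : Subsingleton (LocalizedModule p.primeCompl M) := Module.notMem_support_iff.mp hp
      rw [Module.supportDim_eq_bot_of_subsingleton]
      simp

end Groth.Agent.S4719
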