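import Groth.Statements.S4720
import Mathlib
import Groth.Agent.Lib.Helper22.PureAlong
-- import your own Groth.Agent.* helpers here

set_option autoImplicit false
universe u
open EGA4

namespace Groth.Agent.S4720

open Groth.Agent.Lib.Helper22 in
/-- Let A be a Noetherian ring, Z a subset of Spec A stable under specialization, M an A-module and N a
submodule of M. If M is Z-pure, so is N; conversely, if N and M/N are Z-pure, so is M. -/
theorem result (A : Type u) [CommRing A] [IsNoetherianRing A]
    (Z : Set (PrimeSpectrum A)) (hZ : StableUnderSpecialization Z) (M : Type u) [AddCommGroup M] [Module A M]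
    (N : Submodule A M) :
    (EGA4.IsPureAlong Z M → EGA4.IsPureAlong Z ↥N) ∧
      (EGA4.IsPureAlong Z ↥N → EGA4.IsPureAlong Z (M ⧸ N) → EGA4.IsPureAlong Z M) := by
  simp only [isPureAlong_iff]
  constructor
  · intro hM J hJ n hn
    apply Subtype.ext
    apply hM J hJ n.1
    intro f hf
    obtain ⟨k, hk⟩ := hn f hf
    exact ⟨k, by simpa using congrArg Subtype.val hk⟩
  · intro hN hQ J hJ m hm
    have hmN : m ∈ N := by
      rw [← Submodule.Quotient.mk_eq_zero]
      apply hQ J hJ
      intro f hf
      obtain ⟨k, hk⟩ := hm f hf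
      exact ⟨k, by rw [← Submodule.Quotient.mk_smul, hk, Submodule.Quotient.mk_zero]⟩
    have := hN J hJ ⟨m, hmN⟩ (fun f hf => by
      obtain ⟨k, hk⟩ := hm f hf
      exact ⟨k, Subtype.ext (by simpa using hk)⟩)
    exact congrArg Subtype.val this

end Groth.Agent.S4720
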