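import Groth.Statements.S4726
import Mathlib
-- import your own Groth.Agent.* helpers here

set_option autoImplicit false
universe u
open EGA4

namespace Groth.Agent.S4726

open TensorProduct in
/-- Base change of a finite presentation: if the `B`-module `M` is presented by a matrix whose
entries come from `R`, then `M` is the base change of the `R`-module presented by that matrix. -/
theorem nonempty_equiv_of_presentation {R B : Type u} [CommRing R] [CommRing B] [Algebra R B]
    {M : Type u} [AddCommGroup M] [Module B M] (n m : ℕ)
    (f : (Fin n → B) →ₗ[B] M) (g : (Fin m → B) →ₗ[B] (Fin n → B))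
    (hf : Function.Surjective f) (hfg : Function.Exact g f)
    (w : Fin m → Fin n → R) (hw : ∀ k j, g (Pi.single k 1) j = algebraMap R B (w k j)) :
    Nonempty (M ≃ₗ[B] B ⊗[R] ((Fin n → R) ⧸ Submodule.span R (Set.range w))) := by
  classical
  set K : Submodule R (Fin n → R) := Submodule.span R (Set.range w) with hK
  let v : Fin m → Fin n → B := fun k j => algebraMap R B (w k j)
  let e : (Fin n → B) ≃ₗ[B] B ⊗[R] (Fin n → R) :=
    (TensorProduct.piScalarRight R B B (Fin n)).symm
  let Φ : (Fin n → B) →ₗ[B] B ⊗[R] ((Fin n → R) ⧸ K) :=
    (LinearMap.baseChange B K.mkQ) ∘ₗ e.toLinearMap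
  have hΦsurj : Function.Surjective Φ := by
    have h1 : Function.Surjective (LinearMap.baseChange B K.mkQ) :=
      LinearMap.lTensor_surjective B K.mkQ_surjective
    exact h1.comp e.surjective
  -- `ker f` is the span of the `v k`
  have hkerf : LinearMap.ker f = Submodule.span B (Set.range v) := by
    rw [(LinearMap.exact_iff.mp hfg), LinearMap.range_eq_map, ← (Pi.basisFun B (Fin m)).span_eq,
      Submodule.map_span, ← Set.range_comp]
    have hgv : (⇑g ∘ ⇑(Pi.basisFun B (Fin m))) = v := by
      funext k j
      simp only [Function.comp_apply, Pi.basisFun_apply, v]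
      exact hw k j
    rw [hgv]
  -- `e (v k) = 1 ⊗ w k`
  have hev : ∀ u : Fin n → R, e (fun j => algebraMap R B (u j)) = 1 ⊗ₜ[R] u := by
    intro u
    rw [LinearEquiv.symm_apply_eq, TensorProduct.piScalarRight_apply,
      TensorProduct.piScalarRightHom_tmul]
    funext j
    rw [Algebra.algebraMap_eq_smul_one]
  have hkerΦ : LinearMap.ker Φ = Submodule.span B (Set.range v) := by
    apply le_antisymm
    · intro x hx
      have hx' : (LinearMap.lTensor B K.mkQ) (e x) = 0 := hx
      have hex := lTensor_exact B (LinearMap.exact_subtype_mkQ K) K.mkQ_surjective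
      obtain ⟨t, ht⟩ := (hex (e x)).mp hx'
      have hxe : x = (TensorProduct.piScalarRight R B B (Fin n)) (LinearMap.lTensor B K.subtype t) := by
        rw [ht]; exact (e.symm_apply_apply x).symm
      rw [hxe]
      -- every element of the image of `B ⊗ K` lands in the span
      have hKle : ∀ u ∈ K, (fun j => algebraMap R B (u j)) ∈ Submodule.span B (Set.range v) := by
        intro u hu
        induction hu using Submodule.span_induction with
        | mem u hu =>
          obtain ⟨k, rfl⟩ := hu
          exact Submodule.subset_span ⟨k, rfl⟩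
        | zero =>
          convert Submodule.zero_mem _ using 1
          funext j; simp
        | add a b _ _ ha hb =>
          convert Submodule.add_mem _ ha hb using 1
          funext j; simp
        | smul r a _ ha =>
          convert Submodule.smul_mem _ (algebraMap R B r) ha using 1
          funext j; simp
      clear hxe ht
      induction t using TensorProduct.induction_on with
      | zero => simp
      | tmul b u =>
        rw [LinearMap.lTensor_tmul, TensorProduct.piScalarRight_apply,
          TensorProduct.piScalarRightHom_tmul]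
        have : (fun j => (K.subtype u) j • b) = b • (fun j => algebraMap R B ((u : Fin n → R) j)) := by
          funext j
          simp [Algebra.smul_def, mul_comm]
        rw [this]
        exact Submodule.smul_mem _ _ (hKle u.1 u.2)
      | add a b ha hb =>
        rw [map_add, map_add]
        exact Submodule.add_mem _ ha hb
    · rw [Submodule.span_le]
      rintro _ ⟨k, rfl⟩
      change (LinearMap.baseChange B K.mkQ) (e (v k)) = 0
      rw [hev (w k), LinearMap.baseChange_tmul]
      have : K.mkQ (w k) = 0 := by
        rw [Submodule.mkQ_apply, Submodule.Quotient.mk_eq_zero]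
        exact Submodule.subset_span ⟨k, rfl⟩
      rw [this, TensorProduct.tmul_zero]
  have hker : LinearMap.ker f = LinearMap.ker Φ := hkerf.trans hkerΦ.symm
  exact ⟨(LinearMap.quotKerEquivOfSurjective f hf).symm ≪≫ₗ Submodule.quotEquivOfEq _ _ hker ≪≫ₗ
    LinearMap.quotKerEquivOfSurjective Φ hΦsurj⟩

/-- Finitely many elements of a directed colimit of rings come from a common stage. -/
theorem exists_common_stage (ι : Type u) [Preorder ι] [Nonempty ι] [IsDirectedOrder ι]
    (G : ι → Type u) [∀ i, CommRing (G i)] (f : ∀ i j, i ≤ j → G i →+* G j)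
    [DirectedSystem G (fun i j h ↦ f i j h)]
    (s : Finset (Ring.DirectLimit G (fun i j h ↦ f i j h))) :
    ∃ i, ∀ z ∈ s, ∃ x : G i, Ring.DirectLimit.of G (fun i j h ↦ f i j h) i x = z := by
  classical
  induction s using Finset.induction_on with
  | empty => exact ⟨Classical.arbitrary ι, by simp⟩
  | insert z s _ ih =>
    obtain ⟨i, hi⟩ := ih
    obtain ⟨j, x, hx⟩ := Ring.DirectLimit.exists_of z
    obtain ⟨k, hik, hjk⟩ := exists_ge_ge i j
    refine ⟨k, fun z' hz' => ?_⟩
    rcases Finset.mem_insert.mp hz' with rfl | hz'
    · exact ⟨f j k hjk x, by rw [← hx]; exact Ring.DirectLimit.of_f hjk x⟩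
    · obtain ⟨y, hy⟩ := hi z' hz'
      exact ⟨f i k hik y, by rw [← hy]; exact Ring.DirectLimit.of_f hik y⟩

open TensorProduct in
/-- Let (A_i) be a directed system of commutative rings with direct limit A and M a finitely presented
A-module. Then there exist an index i and a finitely presented A_i-module M_i such that M is
isomorphic, as an A-module, to A ⊗_{A_i} M_i (A being an A_i-algebra through the canonical map). -/
theorem result (ι : Type u) [Preorder ι] [Nonempty ι] [IsDirectedOrder ι]
    (G : ι → Type u) [∀ i, CommRing (G i)] (f : ∀ i j, i ≤ j → G i →+* G j)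
    [DirectedSystem G (fun i j h ↦ f i j h)] (M : Type u) [AddCommGroup M]
    [Module (Ring.DirectLimit G (fun i j h ↦ f i j h)) M]
    [Module.FinitePresentation (Ring.DirectLimit G (fun i j h ↦ f i j h)) M] :
    ∃ (i : ι) (Mi : Type u) (_ : AddCommGroup Mi) (_ : Module (G i) Mi), Module.FinitePresentation (G i) Mi ∧
      letI : Algebra (G i) (Ring.DirectLimit G (fun i j h ↦ f i j h)) :=
        (Ring.DirectLimit.of G (fun i j h ↦ f i j h) i).toAlgebra
      Nonempty (M ≃ₗ[Ring.DirectLimit G (fun i j h ↦ f i j h)] (Ring.DirectLimit G (fun i j h ↦ f i j h)) ⊗[G i] Mi) := by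
  classical
  obtain ⟨n, m, φ, g, hφ, hgφ⟩ :=
    Module.FinitePresentation.exists_fin' (Ring.DirectLimit G (fun i j h ↦ f i j h)) M
  let s : Finset (Ring.DirectLimit G (fun i j h ↦ f i j h)) :=
    Finset.univ.image (fun kj : Fin m × Fin n => g (Pi.single kj.1 1) kj.2)
  obtain ⟨i, hi⟩ := exists_common_stage ι G f s
  have hmem : ∀ (k : Fin m) (j : Fin n), g (Pi.single k 1) j ∈ s := fun k j =>
    Finset.mem_image.mpr ⟨(k, j), Finset.mem_univ _, rfl⟩
  choose w hw using fun (k : Fin m) (j : Fin n) => hi _ (hmem k j)
  letI : Algebra (G i) (Ring.DirectLimit G (fun i j h ↦ f i j h)) :=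
    (Ring.DirectLimit.of G (fun i j h ↦ f i j h) i).toAlgebra
  refine ⟨i, (Fin n → G i) ⧸ Submodule.span (G i) (Set.range w), inferInstance, inferInstance,
    ?_, ?_⟩
  · exact Module.finitePresentation_of_free_of_surjective (Submodule.mkQ _)
      (Submodule.mkQ_surjective _)
      (by rw [Submodule.ker_mkQ]; exact Submodule.fg_span (Set.finite_range w))
  · exact nonempty_equiv_of_presentation n m φ g hφ hgφ w (fun k j => (hw k j).symm)

end Groth.Agent.S4726
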