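import Groth.Statements.S4728
import Mathlib
import Groth.Agent.Lib.Helper22.NormalLocal
-- import your own Groth.Agent.* helpers here

set_option autoImplicit false
set_option linter.style.haveILetI false
universe u
open EGA4

namespace Groth.Agent.S4728

/-- Let A be a Noetherian local domain of dimension 1 with maximal ideal m, A' a Noetherian local ring
and A → A' a local homomorphism which is normal (flat, with geometrically normal fibres). Then the
ideal m A' of A' is prime and the local ring of A' at m A' has dimension 1. (The remaining clauses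
of the published item, describing A' inside its total ring of fractions, are not restated.) -/
theorem result (A A' : Type u) [CommRing A] [CommRing A']
    [IsNoetherianRing A] [IsNoetherianRing A'] [IsLocalRing A] [IsLocalRing A'] [IsDomain A]
    (hA : ringKrullDim A = 1) [Algebra A A'] [IsLocalHom (algebraMap A A')] (h : EGA4.IsNormalHom A A') :
    ((IsLocalRing.maximalIdeal A).map (algebraMap A A')).IsPrime ∧
      ((IsLocalRing.maximalIdeal A).map (algebraMap A A')).height = 1 := by
  open TensorProduct in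
  obtain ⟨hflat, hfib⟩ := h
  set m := IsLocalRing.maximalIdeal A with hm
  set I := m.map (algebraMap A A') with hI
  have hIne : I ≠ ⊤ := by
    have := IsLocalRing.map_maximalIdeal_lt_top (algebraMap A A')  -- placeholder
    exact this.ne
  -- Step 1: the closed fibre is a domain
  have hnorm : EGA4.IsNormalRing (m.ResidueField ⊗[m.ResidueField] (m.Fiber A')) :=
    hfib m m.ResidueField inferInstance
  -- ring isomorphism with A' ⧸ I
  let e0 : (A ⧸ m) ≃ₐ[A] m.ResidueField :=
    AlgEquiv.ofBijective (IsScalarTower.toAlgHom A (A ⧸ m) m.ResidueField)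
      m.bijective_algebraMap_quotient_residueField
  let e1 : m.Fiber A' ≃ₐ[A] (A ⧸ m) ⊗[A] A' :=
    Algebra.TensorProduct.congr e0.symm AlgEquiv.refl
  let e2 : (A ⧸ m) ⊗[A] A' ≃ₐ[A] A' ⊗[A] (A ⧸ m) := Algebra.TensorProduct.comm A _ _
  let e3 : (A' ⊗[A] (A ⧸ m)) ≃ₐ[A'] A' ⧸ I :=
    (Algebra.TensorProduct.quotIdealMapEquivTensorQuot A' m).symm
  let e4 : m.ResidueField ⊗[m.ResidueField] (m.Fiber A') ≃ₐ[m.ResidueField] m.Fiber A' :=
    Algebra.TensorProduct.lid _ _
  let e : m.ResidueField ⊗[m.ResidueField] (m.Fiber A') ≃+* A' ⧸ I :=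
    e4.toRingEquiv.trans (e1.toRingEquiv.trans (e2.toRingEquiv.trans e3.toRingEquiv))
  haveI : Nontrivial (A' ⧸ I) := Ideal.Quotient.nontrivial_iff.mpr hIne
  haveI hloc' : IsLocalRing (A' ⧸ I) :=
    IsLocalRing.of_surjective' (Ideal.Quotient.mk I) Ideal.Quotient.mk_surjective
  haveI hlocR : IsLocalRing (m.ResidueField ⊗[m.ResidueField] (m.Fiber A')) := e.symm.isLocalRing
  haveI : IsDomain (m.ResidueField ⊗[m.ResidueField] (m.Fiber A')) :=
    Groth.Agent.Lib.Helper22.NormalLocal.isDomain_of_isNormalRing_of_isLocalRing _ hnorm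
  haveI : IsDomain (A' ⧸ I) := e.symm.toMulEquiv.isDomain
  have hprime : I.IsPrime := (Ideal.Quotient.isDomain_iff_prime I).mp inferInstance
  refine ⟨hprime, ?_⟩
  haveI : Ring.KrullDimLE 1 A := Ring.krullDimLE_iff.mpr (by rw [hA]; rfl)
  have hmne : m ≠ ⊥ := by
    intro h0
    have hf : IsField A := IsLocalRing.isField_iff_maximalIdeal_eq.mpr h0
    have h1 := ringKrullDim_eq_zero_of_isField hf
    rw [hA] at h1
    exact one_ne_zero h1
  obtain ⟨t, htm, ht0⟩ := Submodule.exists_mem_ne_zero_of_ne_bot hmne
  have htI : algebraMap A A' t ∈ I := Ideal.mem_map_of_mem _ htm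
  have hmin : I ∈ (Ideal.span {algebraMap A A' t}).minimalPrimes := by
    refine ⟨⟨hprime, (Ideal.span_singleton_le_iff_mem _).mpr htI⟩, ?_⟩
    rintro q ⟨hq, htq⟩ hqI
    have hqc : (q.comap (algebraMap A A')).IsPrime := Ideal.comap_isPrime _ q
    have hne : q.comap (algebraMap A A') ≠ ⊥ := fun h0 => ht0 (by
      have : t ∈ q.comap (algebraMap A A') := htq (Ideal.subset_span rfl)
      rw [h0] at this
      exact this)
    have hmax : (q.comap (algebraMap A A')).IsMaximal := Ideal.IsPrime.isMaximal_of_ne_bot hqc hne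
    have : q.comap (algebraMap A A') = m := IsLocalRing.eq_maximalIdeal hmax
    rw [hI, Ideal.map_le_iff_le_comap, this]
  have hle : I.height ≤ 1 := Ideal.height_le_one_of_isPrincipal_of_mem_minimalPrimes _ I hmin
  have hge : I.height ≠ 0 := by
    intro h0
    rw [Ideal.height_eq_zero_iff] at h0
    have hreg : algebraMap A A' t ∈ nonZeroDivisors A' := by
      have h1 : IsSMulRegular A t := (IsRegular.of_ne_zero ht0).isSMulRegular
      have h2 : IsSMulRegular A' (algebraMap A A' t) := h1.of_flat
      rw [← isRegular_iff_mem_nonZeroDivisors]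
      exact (Commute.isRegular_iff (fun b => Commute.all _ b)).mpr h2.isLeftRegular
    exact Set.disjoint_iff.mp (Ideal.disjoint_nonZeroDivisors_of_mem_minimalPrimes h0) ⟨htI, hreg⟩
  exact le_antisymm hle (Order.one_le_iff_pos.mpr (pos_iff_ne_zero.mpr hge))

end Groth.Agent.S4728
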