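import Groth.Statements.S4729
import Mathlib

set_option autoImplicit false
universe u
open EGA4

namespace Groth.Agent.S4729

section general

variable {R S N N' : Type*} [CommRing R] [CommRing S] [Algebra R S] (W : Submonoid R)
  [IsLocalization W S] [AddCommGroup N] [Module R N] [AddCommGroup N'] [Module R N'] [Module S N']
  [IsScalarTower R S N'] (g : N →ₗ[R] N') [IsLocalizedModule W g]

include W g in
/-- A prime in the support of the localized module contracts to a prime in the support. -/
theorem comap_mem_support (P : PrimeSpectrum S) (hP : P ∈ Module.support S N') :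
    PrimeSpectrum.comap (algebraMap R S) P ∈ Module.support R N := by
  rw [Module.mem_support_iff'] at hP ⊢
  obtain ⟨x, hx⟩ := hP
  obtain ⟨⟨m, s⟩, hms⟩ := IsLocalizedModule.surj W g x
  refine ⟨m, fun a ha ham => ?_⟩
  have hs : algebraMap R S s ∉ P.asIdeal := fun h =>
    P.2.ne_top (Ideal.eq_top_of_isUnit_mem _ h (IsLocalization.map_units S s))
  have ha' : algebraMap R S a ∉ P.asIdeal := ha
  have hmul : algebraMap R S a * algebraMap R S s ∉ P.asIdeal := fun h =>
    (P.2.mem_or_mem h).elim ha' hs
  apply hx _ hmul
  have h1 : (s : R) • x = g m := hms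
  rw [mul_smul, algebraMap_smul, algebraMap_smul, h1, ← map_smul, ham, map_zero]

include g in
/-- A prime of the support disjoint from `W` extends to a prime in the support of the localized
module. -/
theorem map_mem_support (P' : PrimeSpectrum R) (hd : Disjoint (W : Set R) P'.asIdeal)
    (hP' : P' ∈ Module.support R N) :
    (⟨Ideal.map (algebraMap R S) P'.asIdeal,
      IsLocalization.isPrime_of_isPrime_disjoint W S _ P'.2 hd⟩ : PrimeSpectrum S) ∈
      Module.support S N' := by
  rw [Module.mem_support_iff'] at hP' ⊢
  obtain ⟨m, hm⟩ := hP'
  refine ⟨g m, fun r hr hrm => ?_⟩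
  obtain ⟨⟨a, s⟩, has⟩ := IsLocalization.surj W r
  -- `r * s = a`
  have ha : a ∉ P'.asIdeal := by
    intro ha
    apply hr
    have h1 : algebraMap R S a ∈ Ideal.map (algebraMap R S) P'.asIdeal := Ideal.mem_map_of_mem _ ha
    rw [← has] at h1
    have hu : IsUnit (algebraMap R S s) := IsLocalization.map_units S s
    obtain ⟨u, hu'⟩ := hu
    have : r = r * algebraMap R S s * (↑u⁻¹ : S) := by
      rw [mul_assoc, ← hu', Units.mul_inv, mul_one]
    rw [this]
    exact Ideal.mul_mem_right _ _ h1
  have h0 : g (a • m) = 0 := by
    rw [map_smul, ← algebraMap_smul S a (g m), ← has, mul_comm, mul_smul, hrm, smul_zero]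
  obtain ⟨c, hc⟩ := (IsLocalizedModule.eq_zero_iff W g).mp h0
  have hcP : (c : R) ∉ P'.asIdeal := fun h => Set.disjoint_left.mp hd c.2 h
  have : (c : R) * a ∉ P'.asIdeal := fun h => (P'.2.mem_or_mem h).elim hcP ha
  apply hm _ this
  rw [mul_smul]
  exact hc

end general

/-- Let A be a commutative ring, M a finite A-module and p ⊆ q prime ideals of A (so that p is a
generization of q). Then the dimension of the A_p-module M_p is at most the dimension of the
A_q-module M_q. -/
theorem result (A : Type u) [CommRing A] (M : Type u) [AddCommGroup M] [Module A M]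
    [Module.Finite A M] (p q : Ideal A) [p.IsPrime] [q.IsPrime] (hpq : p ≤ q) :
    Module.supportDim (Localization.AtPrime p) (LocalizedModule p.primeCompl M) ≤
      Module.supportDim (Localization.AtPrime q) (LocalizedModule q.primeCompl M) := by
  -- primes of `A_p` contract to primes contained in `p ≤ q`
  have hdisj : ∀ P : PrimeSpectrum (Localization.AtPrime p),
      Disjoint (q.primeCompl : Set A) (PrimeSpectrum.comap (algebraMap A (Localization.AtPrime p)) P).asIdeal := by
    intro P
    have h1 : Disjoint (p.primeCompl : Set A)
        (PrimeSpectrum.comap (algebraMap A (Localization.AtPrime p)) P).asIdeal :=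
      ((IsLocalization.isPrime_iff_isPrime_disjoint p.primeCompl (Localization.AtPrime p) P.asIdeal).mp
        P.2).2
    refine Set.disjoint_left.mpr fun a haq haP => ?_
    exact haq (hpq (by
      by_contra hap
      exact Set.disjoint_left.mp h1 hap haP))
  let f : Module.support (Localization.AtPrime p) (LocalizedModule p.primeCompl M) →
      Module.support (Localization.AtPrime q) (LocalizedModule q.primeCompl M) := fun P =>
    ⟨_, map_mem_support (S := Localization.AtPrime q) q.primeCompl
      (LocalizedModule.mkLinearMap q.primeCompl M)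
      (PrimeSpectrum.comap (algebraMap A (Localization.AtPrime p)) P.1) (hdisj P.1)
      (comap_mem_support p.primeCompl (LocalizedModule.mkLinearMap p.primeCompl M) P.1 P.2)⟩
  refine Order.krullDim_le_of_strictMono f ?_
  intro P P' hlt
  have hle : P.1.asIdeal ≤ P'.1.asIdeal := hlt.le
  refine lt_of_le_not_ge ?_ ?_
  · exact Ideal.map_mono (Ideal.comap_mono hle)
  · intro hge
    have hge' : Ideal.map (algebraMap A (Localization.AtPrime q))
        (PrimeSpectrum.comap (algebraMap A (Localization.AtPrime p)) P'.1).asIdeal ≤
        Ideal.map (algebraMap A (Localization.AtPrime q))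
        (PrimeSpectrum.comap (algebraMap A (Localization.AtPrime p)) P.1).asIdeal := hge
    have h2 := Ideal.comap_mono (f := algebraMap A (Localization.AtPrime q)) hge'
    have e1 := IsLocalization.under_map_of_isPrime_disjoint q.primeCompl (Localization.AtPrime q)
      (PrimeSpectrum.comap (algebraMap A (Localization.AtPrime p)) P'.1).2 (hdisj P'.1)
    have e2 := IsLocalization.under_map_of_isPrime_disjoint q.primeCompl (Localization.AtPrime q)
      (PrimeSpectrum.comap (algebraMap A (Localization.AtPrime p)) P.1).2 (hdisj P.1)
    rw [Ideal.under] at e1 e2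
    rw [e1, e2] at h2
    have h3 := Ideal.map_mono (f := algebraMap A (Localization.AtPrime p)) h2
    simp only [PrimeSpectrum.comap_asIdeal] at h3
    rw [IsLocalization.map_comap p.primeCompl, IsLocalization.map_comap p.primeCompl] at h3
    exact (not_le_of_gt hlt) h3

end Groth.Agent.S4729
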