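import Groth.Statements.S4731
import Mathlib

set_option autoImplicit false
universe u
open EGA4

namespace Groth.Agent.S4731

/-- A Noetherian module over a quotient ring is Noetherian over the ring. -/
theorem isNoetherian_of_surjective_tower {S T Q : Type*} [CommRing S] [CommRing T] [Algebra S T]
    (hsurj : Function.Surjective (algebraMap S T)) [AddCommGroup Q] [Module S Q] [Module T Q]
    [IsScalarTower S T Q] [IsNoetherian T Q] : IsNoetherian S Q := by
  rw [← monotone_stabilizes_iff_noetherian]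
  intro f
  let f' : ℕ →o Submodule T Q :=
    ⟨fun n =>
      { carrier := f n
        add_mem' := (f n).add_mem
        zero_mem' := (f n).zero_mem
        smul_mem' := by
          intro t x hx
          obtain ⟨s, rfl⟩ := hsurj t
          rw [algebraMap_smul]
          exact (f n).smul_mem s hx },
     fun m n hmn x hx => f.monotone hmn hx⟩
  obtain ⟨n, hn⟩ := monotone_stabilizes_iff_noetherian.mpr ‹IsNoetherian T Q› f'
  refine ⟨n, fun m hm => ?_⟩
  have := hn m hm
  ext x
  have h2 := congrArg (fun N : Submodule T Q => x ∈ N) this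
  exact iff_of_eq h2

/-- Let S → R be an injective homomorphism of commutative rings making R a finite S-module, with R
Noetherian; let c be the conductor of S in R, the ideal of those s in S with s R contained in (the
image of) S. If S/c is Noetherian, then every increasing sequence of ideals of S contained in c is
eventually constant. -/
theorem result (S R : Type u) [CommRing S] [CommRing R] [Algebra S R]
    [FaithfulSMul S R] [IsNoetherianRing R] [Module.Finite S R] (c : Ideal S)
    (hc : ∀ s : S, s ∈ c ↔ ∀ r : R, ∃ s' : S, algebraMap S R s' = algebraMap S R s * r)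
    [IsNoetherianRing (S ⧸ c)] (a : ℕ →o Ideal S) (ha : ∀ n, a n ≤ c) :
    ∃ N : ℕ, ∀ n, N ≤ n → a n = a N := by
  classical
  set φ := algebraMap S R with hφ
  have hinj : Function.Injective φ := FaithfulSMul.algebraMap_injective S R
  -- Step 1: the extended ideals stabilize
  let B : ℕ →o Ideal R := ⟨fun n => Ideal.map φ (a n), fun m n hmn => Ideal.map_mono (a.monotone hmn)⟩
  obtain ⟨N, hN⟩ := monotone_stabilizes_iff_noetherian.mpr ‹IsNoetherianRing R› B
  set 𝔟 : Ideal R := B N with h𝔟
  have hBn : ∀ n, N ≤ n → Ideal.map φ (a n) = 𝔟 := fun n hn => (hN n hn).symm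
  -- `𝔟` is a finite `S`-module
  have hfinR : Module.Finite R 𝔟 := Module.Finite.of_fg (IsNoetherian.noetherian 𝔟)
  have hfinS : Module.Finite S 𝔟 := Module.Finite.trans R 𝔟
  -- key claim: for `s ∈ c`, `b ∈ map φ (a n)`, we have `φ s * b ∈ φ '' a n`
  have key : ∀ n (b : R), b ∈ Ideal.map φ (a n) → ∀ s ∈ c, ∃ x ∈ a n, φ x = φ s * b := by
    intro n b hb
    rw [Ideal.map] at hb
    induction hb using Submodule.span_induction with
    | mem b hb =>
      obtain ⟨x, hx, rfl⟩ := hb
      intro s _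
      exact ⟨s * x, Ideal.mul_mem_left _ _ hx, by rw [map_mul]⟩
    | zero => intro s _; exact ⟨0, zero_mem _, by simp⟩
    | add b₁ b₂ _ _ h₁ h₂ =>
      intro s hs
      obtain ⟨x₁, hx₁, e₁⟩ := h₁ s hs
      obtain ⟨x₂, hx₂, e₂⟩ := h₂ s hs
      exact ⟨x₁ + x₂, add_mem hx₁ hx₂, by rw [map_add, e₁, e₂, mul_add]⟩
    | smul r b _ h =>
      intro s hs
      obtain ⟨s', hs'⟩ := (hc s).mp hs r
      have hs'c : s' ∈ c := by
        rw [hc]
        intro r'
        obtain ⟨s'', hs''⟩ := (hc s).mp hs (r * r')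
        exact ⟨s'', by rw [hs'', hs', mul_assoc]⟩
      obtain ⟨x, hx, e⟩ := h s' hs'c
      exact ⟨x, hx, by rw [e, hs', smul_eq_mul, mul_assoc]⟩
  -- the chain of `S`-submodules of `𝔟`
  let A : ℕ → Submodule S 𝔟 := fun n =>
    { carrier := {x | ∃ y ∈ a n, φ y = x.1}
      add_mem' := by
        rintro x₁ x₂ ⟨y₁, hy₁, e₁⟩ ⟨y₂, hy₂, e₂⟩
        exact ⟨y₁ + y₂, add_mem hy₁ hy₂, by rw [map_add, e₁, e₂]; rfl⟩
      zero_mem' := ⟨0, zero_mem _, by simp⟩
      smul_mem' := by
        rintro s x ⟨y, hy, e⟩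
        refine ⟨s * y, Ideal.mul_mem_left _ _ hy, ?_⟩
        rw [map_mul, e]
        change φ s * x.1 = (s • x.1)
        rw [Algebra.smul_def] }
  have hAmono : Monotone A := by
    intro m n hmn x ⟨y, hy, e⟩
    exact ⟨y, a.monotone hmn hy, e⟩
  -- `c • ⊤ ≤ A n` for `n ≥ N`
  have hcA : ∀ n, N ≤ n → (c • (⊤ : Submodule S 𝔟)) ≤ A n := by
    intro n hn
    rw [Submodule.smul_le]
    intro s hs x _
    have hx : x.1 ∈ Ideal.map φ (a n) := by rw [hBn n hn]; exact x.2
    obtain ⟨y, hy, e⟩ := key n x.1 hx s hs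
    refine ⟨y, hy, ?_⟩
    rw [e]
    change φ s * x.1 = (s • x.1)
    rw [Algebra.smul_def]
  -- the quotient is a Noetherian `S`-module
  have hQ : IsNoetherian S (𝔟 ⧸ (c • (⊤ : Submodule S 𝔟))) := by
    have : IsNoetherian (S ⧸ c) (𝔟 ⧸ (c • (⊤ : Submodule S 𝔟))) :=
      isNoetherian_of_isNoetherianRing_of_finite _ _
    exact isNoetherian_of_surjective_tower (T := S ⧸ c) Ideal.Quotient.mk_surjective
  let Abar : ℕ →o Submodule S (𝔟 ⧸ (c • (⊤ : Submodule S 𝔟))) :=
    ⟨fun n => (A n).map (c • (⊤ : Submodule S 𝔟)).mkQ, fun m n hmn => Submodule.map_mono (hAmono hmn)⟩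
  obtain ⟨N', hN'⟩ := monotone_stabilizes_iff_noetherian.mpr hQ Abar
  refine ⟨max N N', fun n hn => ?_⟩
  have hn1 : N ≤ n := le_trans (le_max_left _ _) hn
  have hn2 : N' ≤ n := le_trans (le_max_right _ _) hn
  have hbar : Abar n = Abar (max N N') := by
    rw [← hN' n hn2, ← hN' (max N N') (le_max_right _ _)]
  have hAeq : A n = A (max N N') := by
    have h1 := congrArg (Submodule.comap (c • (⊤ : Submodule S 𝔟)).mkQ) hbar
    simp only [Abar, OrderHom.coe_mk, Submodule.comap_map_mkQ] at h1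
    rwa [sup_eq_right.mpr (hcA n hn1), sup_eq_right.mpr (hcA _ (le_max_left _ _))] at h1
  apply le_antisymm
  · intro x hx
    have hmem : φ x ∈ 𝔟 := by
      rw [← hBn n hn1]; exact Ideal.mem_map_of_mem _ hx
    have : (⟨φ x, hmem⟩ : 𝔟) ∈ A n := ⟨x, hx, rfl⟩
    rw [hAeq] at this
    obtain ⟨y, hy, e⟩ := this
    have : y = x := hinj e
    rwa [← this]
  · exact a.monotone hn

end Groth.Agent.S4731
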