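import Groth.Statements.S4732
import Mathlib
import Groth.Agent.Lib.Helper24.SmoothNormalStalk

set_option autoImplicit false
universe u
open EGA4

namespace Groth.Agent.S4732

open AlgebraicGeometry CategoryTheory in
/-- The stalks of the spectrum of a regular ring are regular local rings. -/
theorem isRegularLocalRing_stalk_Spec (P : Type u) [CommRing P] [IsRegularRing P]
    (y : Spec (CommRingCat.of P)) :
    IsRegularLocalRing ((Spec (CommRingCat.of P)).presheaf.stalk y) := by
  have hU : IsAffineOpen (⊤ : (Spec (CommRingCat.of P)).Opens) := isAffineOpen_top _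
  have : IsRegularRing Γ(Spec (CommRingCat.of P), ⊤) :=
    IsRegularRing.of_ringEquiv (R := P)
      (Scheme.ΓSpecIso (CommRingCat.of P)).commRingCatIsoToRingEquiv.symm
  obtain ⟨e⟩ := Groth.Agent.Lib.Helper24.stalk_ringEquiv_atPrime hU y trivial
  exact IsRegularLocalRing.of_ringEquiv e.symm

open AlgebraicGeometry CategoryTheory in
/-- An affine scheme locally of finite type over a field is a closed subscheme of an affine
space. -/
theorem exists_closedImmersion_affineSpace (k : Type u) [Field k] {Z : Scheme.{u}} [IsAffine Z]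
    (h : Z ⟶ Spec (CommRingCat.of k)) [hft : LocallyOfFiniteType h] :
    ∃ (n : ℕ) (i : Z ⟶ Spec (CommRingCat.of (MvPolynomial (Fin n) k))),
      IsClosedImmersion i ∧
        i ≫ Spec.map (CommRingCat.ofHom (algebraMap k (MvPolynomial (Fin n) k))) = h := by
  let ψ : CommRingCat.of k ⟶ Γ(Z, ⊤) := (Scheme.ΓSpecIso (CommRingCat.of k)).inv ≫ h.appTop
  have hh : h = Z.toSpecΓ ≫ Spec.map ψ := by
    rw [Spec.map_comp, ← Scheme.toSpecΓ_naturality_assoc, ← SpecMap_ΓSpecIso_hom,
      ← Spec.map_comp, Iso.inv_hom_id, Spec.map_id, Category.comp_id]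
  have hψ : ψ.hom.FiniteType := by
    have h1 : h.appTop.hom.FiniteType :=
      (HasRingHomProperty.iff_of_isAffine (P := @LocallyOfFiniteType)).mp hft
    exact RingHom.finiteType_respectsIso.2 _
      (Scheme.ΓSpecIso (CommRingCat.of k)).symm.commRingCatIsoToRingEquiv h1
  algebraize [ψ.hom]
  obtain ⟨n, φ, hφ⟩ := Algebra.FiniteType.iff_quotient_mvPolynomial''.mp
    (inferInstance : Algebra.FiniteType k Γ(Z, ⊤))
  refine ⟨n, Z.toSpecΓ ≫ Spec.map (CommRingCat.ofHom φ.toRingHom), ?_, ?_⟩
  · have h1 : IsClosedImmersion (Spec.map (CommRingCat.ofHom φ.toRingHom)) :=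
      IsClosedImmersion.spec_of_surjective _ hφ
    infer_instance
  · have e1 : CommRingCat.ofHom (algebraMap k (MvPolynomial (Fin n) k)) ≫
        CommRingCat.ofHom φ.toRingHom = ψ := by
      ext a
      exact φ.commutes a
    have e : Spec.map (CommRingCat.ofHom φ.toRingHom) ≫
        Spec.map (CommRingCat.ofHom (algebraMap k (MvPolynomial (Fin n) k))) = Spec.map ψ :=
      (Spec.map_comp _ _).symm.trans (congrArg Spec.map e1)
    rw [Category.assoc, e, ← hh]

open AlgebraicGeometry CategoryTheory in
/-- Let k be a field, X a scheme locally of finite type over k and x a point of X. Then there are an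
open neighbourhood U of x, a k-scheme Y all of whose local rings are regular, and an immersion U → Y
compatible with the structure morphisms to Spec k. -/
theorem result (k : Type u) [Field k] {X : Scheme.{u}}
    (f : X ⟶ Spec (CommRingCat.of k)) [LocallyOfFiniteType f] (x : X) :
    ∃ (U : X.Opens) (_ : x ∈ U) (Y : Scheme.{u}) (g : Y ⟶ Spec (CommRingCat.of k)) (i : (U : Scheme.{u}) ⟶ Y),
      IsImmersion i ∧ i ≫ g = U.ι ≫ f ∧ ∀ y : Y, IsRegularLocalRing (Y.presheaf.stalk y) := by
  obtain ⟨U, hU, hxU, -⟩ := exists_isAffineOpen_mem_and_subset (X := X) (x := x) (U := ⊤) trivial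
  have : IsAffine U.toScheme := hU
  obtain ⟨n, i, hi, hig⟩ := exists_closedImmersion_affineSpace k (U.ι ≫ f)
  refine ⟨U, hxU, Spec (CommRingCat.of (MvPolynomial (Fin n) k)),
    Spec.map (CommRingCat.ofHom (algebraMap k (MvPolynomial (Fin n) k))), i, inferInstance, hig, ?_⟩
  intro y
  exact isRegularLocalRing_stalk_Spec (MvPolynomial (Fin n) k) y

end Groth.Agent.S4732
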