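import Groth.Statements.S4734
import Groth.Agent.Lib.Helper29.NormFlatDepth
import Groth.Agent.Lib.Helper29.SkOpen
import Groth.Agent.Lib.Helper29.LocTransfer
import Groth.Agent.Lib.Helper47.NormFlatLocalize

set_option autoImplicit false
universe u
open EGA4

namespace Groth.Agent.S4734

open Pointwise Groth.Agent.Lib.Helper47.NormFlatLoc

section Aux

variable {A : Type u} [CommRing A]

/-- Normal flatness localises. -/
theorem isNormallyFlat_localization (S : Submonoid A) (I : Ideal A) (M : Type u) [AddCommGroup M]
    [Module A M] (hM : EGA4.IsNormallyFlat I M) :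
    EGA4.IsNormallyFlat (I.map (algebraMap A (Localization S))) (LocalizedModule S M) := by
  intro n
  obtain ⟨φ, hφ⟩ := exists_isLocalizedModule_quot S (Localization S)
    (LocalizedModule.mkLinearMap S M) I (I ^ n • (⊤ : Submodule A M))
    ((I.map (algebraMap A (Localization S))) ^ n •
      (⊤ : Submodule (Localization S) (LocalizedModule S M)))
    (localized'_pow_smul_top S (Localization S) (LocalizedModule.mkLinearMap S M) I n).symm
  haveI : Module.Flat (A ⧸ I) (↥(I ^ n • (⊤ : Submodule A M)) ⧸
      (I • (⊤ : Submodule A ↥(I ^ n • (⊤ : Submodule A M))))) := hM n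
  let ψ := LocalizedModule.mkLinearMap (Algebra.algebraMapSubmonoid (A ⧸ I) S)
    (↥(I ^ n • (⊤ : Submodule A M)) ⧸ (I • (⊤ : Submodule A ↥(I ^ n • (⊤ : Submodule A M)))))
  haveI : Module.Flat (A ⧸ I) (LocalizedModule (Algebra.algebraMapSubmonoid (A ⧸ I) S)
      (↥(I ^ n • (⊤ : Submodule A M)) ⧸ (I • (⊤ : Submodule A ↥(I ^ n • (⊤ : Submodule A M)))))) :=
    Module.Flat.trans (A ⧸ I) (Localization (Algebra.algebraMapSubmonoid (A ⧸ I) S)) _
  exact flat_quot S (Localization S) I φ ψ

variable [IsNoetherianRing A]

/-- depth and dimension at a prime `q` of `M` and `A/I`. -/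
theorem depth_dim_eq (I : Ideal A) (hI : IsNilpotent I) (M : Type u) [AddCommGroup M] [Module A M]
    [Module.Finite A M] (hsupp : Module.support A M = Set.univ) (hM : EGA4.IsNormallyFlat I M)
    (q : Ideal A) [q.IsPrime] :
    LocCoh.depth (Localization.AtPrime q) (LocalizedModule q.primeCompl M) =
        LocCoh.depth (Localization.AtPrime q) (LocalizedModule q.primeCompl (A ⧸ I)) ∧
      Module.supportDim (Localization.AtPrime q) (LocalizedModule q.primeCompl M) =
        Module.supportDim (Localization.AtPrime q) (LocalizedModule q.primeCompl (A ⧸ I)) := by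
  set Aq := Localization.AtPrime q
  set Iq := I.map (algebraMap A Aq)
  have hIq : IsNilpotent Iq := by
    obtain ⟨k, hk⟩ := hI
    refine ⟨k, ?_⟩
    rw [← Ideal.map_pow, hk, Ideal.zero_eq_bot, Ideal.map_bot]
    rfl
  have hNF : EGA4.IsNormallyFlat Iq (LocalizedModule q.primeCompl M) :=
    isNormallyFlat_localization q.primeCompl I M hM
  haveI : Nontrivial (LocalizedModule q.primeCompl M) := by
    have : (⟨q, inferInstance⟩ : PrimeSpectrum A) ∈ Module.support A M := by
      rw [hsupp]; trivial
    exact Module.mem_support_iff.mp this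
  have h1 := Groth.Agent.Lib.Helper29.depth_eq_of_isNormallyFlat_of_isNilpotent Aq Iq hIq
    (LocalizedModule q.primeCompl M) hNF
  have h2 := Groth.Agent.Lib.Helper29.supportDim_eq_of_isNormallyFlat_of_isNilpotent Aq Iq hIq
    (LocalizedModule q.primeCompl M) hNF
  -- `A/I → A_q/I_q` is a localisation
  have hloc : I.localized' Aq q.primeCompl (Algebra.linearMap A Aq) = Iq :=
    Ideal.localized'_eq_map Aq q.primeCompl I
  have key : LocCoh.depth Aq (Aq ⧸ Iq) =
        LocCoh.depth (Localization.AtPrime q) (LocalizedModule q.primeCompl (A ⧸ I)) ∧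
      Module.supportDim Aq (Aq ⧸ Iq) =
        Module.supportDim (Localization.AtPrime q) (LocalizedModule q.primeCompl (A ⧸ I)) := by
    rw [← hloc]
    exact Groth.Agent.Lib.Helper29.depth_and_supportDim_eq_of_isLocalizedModule q Aq
      (Submodule.toLocalizedQuotient' Aq q.primeCompl (Algebra.linearMap A Aq) I)
  refine ⟨h1.trans key.1, ?_⟩
  rw [h2, ← key.2, Module.supportDim_quotient_eq_ringKrullDim]

end Aux

/-- Let A be a Noetherian ring, I a nilpotent ideal of A and M a finite A-module whose support is all of
Spec A and which is normally flat along I. Then for every prime p of A: M satisfies Serre's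
condition (S_n) at p if and only if the A-module A/I does; and the codepth of M_p is at most n if
and only if the codepth of the A_p-module (A/I)_p is at most n (codepth written additively as dim ≤
depth + n). -/
theorem result (n : ℕ) (A : Type u) [CommRing A] [IsNoetherianRing A]
    (I : Ideal A) (hI : IsNilpotent I) (M : Type u) [AddCommGroup M] [Module A M] [Module.Finite A M]
    (hsupp : Module.support A M = Set.univ) (hM : EGA4.IsNormallyFlat I M) (p : Ideal A) [p.IsPrime] :
    (EGA4.HasSkAt n A M p ↔ EGA4.HasSkAt n A (A ⧸ I) p) ∧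
      (Module.supportDim (Localization.AtPrime p) (LocalizedModule p.primeCompl M) ≤
          ((LocCoh.depth (Localization.AtPrime p) (LocalizedModule p.primeCompl M) : ℕ∞) : WithBot ℕ∞) + n ↔
        Module.supportDim (Localization.AtPrime p) (LocalizedModule p.primeCompl (A ⧸ I)) ≤
          ((LocCoh.depth (Localization.AtPrime p) (LocalizedModule p.primeCompl (A ⧸ I)) : ℕ∞) : WithBot ℕ∞) + n) := by
  have hdd := fun (q : Ideal A) [q.IsPrime] => depth_dim_eq I hI M hsupp hM q
  constructor
  · rw [Groth.Agent.Lib.Helper29.hasSkAt_iff A M n ⟨p, inferInstance⟩,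
      Groth.Agent.Lib.Helper29.hasSkAt_iff A (A ⧸ I) n ⟨p, inferInstance⟩]
    refine forall_congr' fun 𝔮 => forall_congr' fun _ => ?_
    rw [(hdd 𝔮.asIdeal).1, (hdd 𝔮.asIdeal).2]
  · rw [(hdd p).1, (hdd p).2]

end Groth.Agent.S4734
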