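import Groth.Statements.S4737
import Groth.Agent.Lib.Helper64.CplQuot
import Mathlib

set_option autoImplicit false
universe u
open EGA4

namespace Groth.Agent.S4737

open Groth.Agent.Lib.Helper64 TensorProduct

/-- The property 'geometrically regular', case of a local ring: let A be a Noetherian local ring whose
completion map A → Â is regular (the formal fibres of A are geometrically regular). Then for every
proper ideal I of A, the completion map of the local ring A/I is regular. -/
theorem result (A : Type u) [CommRing A] [IsNoetherianRing A] [IsLocalRing A]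
    (hA : CAlg.IsRegularHom A (EGA4.Cpl A)) (I : Ideal A) [Nontrivial (A ⧸ I)] :
    CAlg.IsRegularHom (A ⧸ I) (EGA4.Cpl (A ⧸ I)) := by
  obtain ⟨hflat, hfib⟩ := hA
  have hff := Groth.Agent.Lib.Helper29.faithfullyFlat_cpl (A ⧸ I)
  refine ⟨inferInstance, ?_⟩
  intro P _
  let p : Ideal A := P.comap (algebraMap A (A ⧸ I))
  have hpprime : p.IsPrime := inferInstance
  obtain ⟨hnoeth, hreg⟩ := hfib p
  let φ := Ideal.ResidueField.map p P (algebraMap A (A ⧸ I)) rfl
  have hφ : Function.Bijective φ := residueFieldMap_quotient_bijective A I P p rfl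
  let _ : Algebra p.ResidueField P.ResidueField := φ.toAlgebra
  have : Module.Finite p.ResidueField P.ResidueField :=
    Module.Finite.of_surjective (Algebra.linearMap p.ResidueField P.ResidueField) hφ.2
  constructor
  · -- the fibre ring is Noetherian
    obtain ⟨e⟩ := nonempty_ringEquiv_formalFibre_tensor A I P p rfl P.ResidueField
      (by rw [Algebra.algebraMap_self, RingHom.id_comp]; rfl)
    have h1 : IsNoetherianRing (P.ResidueField ⊗[p.ResidueField] (p.Fiber (EGA4.Cpl A))) := by
      let ψ : p.ResidueField ≃ₐ[p.ResidueField] P.ResidueField :=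
        AlgEquiv.ofBijective (Algebra.ofId p.ResidueField P.ResidueField) hφ
      let e' : P.ResidueField ⊗[p.ResidueField] (p.Fiber (EGA4.Cpl A)) ≃ₐ[p.ResidueField]
          (p.Fiber (EGA4.Cpl A)) :=
        (Algebra.TensorProduct.congr ψ.symm AlgEquiv.refl).trans
          (Algebra.TensorProduct.lid p.ResidueField (p.Fiber (EGA4.Cpl A)))
      exact isNoetherianRing_of_ringEquiv _ e'.symm.toRingEquiv
    have h2 : IsNoetherianRing (P.ResidueField ⊗[P.ResidueField] (P.Fiber (EGA4.Cpl (A ⧸ I)))) :=
      isNoetherianRing_of_ringEquiv (P.ResidueField ⊗[p.ResidueField] (p.Fiber (EGA4.Cpl A))) e.symm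
    exact isNoetherianRing_of_ringEquiv _
      (Algebra.TensorProduct.lid P.ResidueField (P.Fiber (EGA4.Cpl (A ⧸ I)))).toRingEquiv
  · intro k' _ _ hfin
    let _ : Algebra p.ResidueField k' :=
      ((algebraMap P.ResidueField k').comp φ).toAlgebra
    have : IsScalarTower p.ResidueField P.ResidueField k' :=
      IsScalarTower.of_algebraMap_eq fun x => rfl
    have : Module.Finite p.ResidueField k' := Module.Finite.trans P.ResidueField k'
    obtain ⟨e⟩ := nonempty_ringEquiv_formalFibre_tensor A I P p rfl k' rfl
    have : IsRegularRing (k' ⊗[p.ResidueField] (p.Fiber (EGA4.Cpl A))) := hreg k' inferInstance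
    exact IsRegularRing.of_ringEquiv (R := k' ⊗[p.ResidueField] (p.Fiber (EGA4.Cpl A))) e.symm

end Groth.Agent.S4737
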