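import Groth.Statements.S4738
import Groth.Agent.Lib.Helper64.CplQuot
import Mathlib

set_option autoImplicit false
universe u
open EGA4

namespace Groth.Agent.S4738

open Groth.Agent.Lib.Helper64 TensorProduct

/-- For the property 'geometrically reduced', case of a local ring: if the formal fibres of a Noetherian
local ring A are geometrically reduced, then so are the formal fibres of A/I for every proper ideal
I of A. -/
theorem result (A : Type u) [CommRing A] [IsNoetherianRing A] [IsLocalRing A]
    (hA : EGA4.HasGeomReducedFormalFibres A) (I : Ideal A) [Nontrivial (A ⧸ I)] :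
    EGA4.HasGeomReducedFormalFibres (A ⧸ I) := by
  intro P _
  let p : Ideal A := P.comap (algebraMap A (A ⧸ I))
  have hpprime : p.IsPrime := inferInstance
  have hred := hA p
  let φ := Ideal.ResidueField.map p P (algebraMap A (A ⧸ I)) rfl
  have hφ : Function.Bijective φ := residueFieldMap_quotient_bijective A I P p rfl
  let _ : Algebra p.ResidueField P.ResidueField := φ.toAlgebra
  have hfin : Module.Finite p.ResidueField P.ResidueField :=
    Module.Finite.of_surjective (Algebra.linearMap p.ResidueField P.ResidueField) hφ.2
  let K := AlgebraicClosure P.ResidueField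
  have : Algebra.IsAlgebraic p.ResidueField K := Algebra.IsAlgebraic.trans p.ResidueField P.ResidueField K
  obtain ⟨e⟩ := nonempty_ringEquiv_formalFibre_tensor A I P p rfl K
    (IsScalarTower.algebraMap_eq p.ResidueField P.ResidueField K)
  rw [Algebra.isGeometricallyReduced_field_iff]
  have h1 : IsReduced (K ⊗[p.ResidueField] (EGA4.formalFibre A p)) := inferInstance
  exact isReduced_of_injective (e : K ⊗[P.ResidueField] (EGA4.formalFibre (A ⧸ I) P) →+* K ⊗[p.ResidueField] (EGA4.formalFibre A p)) e.injective

end Groth.Agent.S4738
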