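import Groth.Statements.S4739
import Groth.Agent.Lib.Helper82.ComplLoc

set_option autoImplicit false
universe u
open EGA4

namespace Groth.Agent.S4739

open TensorProduct in
/-- Let A → B be a local homomorphism of Noetherian local rings and Â the completion of A, and suppose
B' = B ⊗_A Â is Noetherian. Then for every prime ideal n' of B' lying over the maximal ideal of B
and containing the image of the maximal ideal of A through Â (that is, lying over the maximal ideal
m_A Â of Â), the completion of B and the completion of the local ring B'_{n'} are isomorphic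
(existence of a ring isomorphism only). -/
theorem result (A B : Type u) [CommRing A] [CommRing B] [IsNoetherianRing A]
    [IsNoetherianRing B] [IsLocalRing A] [IsLocalRing B] [Algebra A B] [IsLocalHom (algebraMap A B)]
    [IsNoetherianRing (B ⊗[A] EGA4.Cpl A)] (n' : Ideal (B ⊗[A] EGA4.Cpl A)) [n'.IsPrime]
    (h1 : n'.comap (algebraMap B (B ⊗[A] EGA4.Cpl A)) = IsLocalRing.maximalIdeal B)
    (h2 : (IsLocalRing.maximalIdeal A).map
        ((Algebra.TensorProduct.includeRight.toRingHom : EGA4.Cpl A →+* B ⊗[A] EGA4.Cpl A).comp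
          (algebraMap A (EGA4.Cpl A))) ≤ n') :
    Nonempty (EGA4.Cpl B ≃+* EGA4.Cpl (Localization.AtPrime n')) := by
  classical
  -- Step 0: `b ⊗ z ∈ 𝔪_B B'` for `z ∈ 𝔪_A Â`
  have hP : ∀ z ∈ (IsLocalRing.maximalIdeal A).map (algebraMap A (EGA4.Cpl A)), ∀ b : B,
      (b ⊗ₜ[A] z : B ⊗[A] EGA4.Cpl A) ∈
        (IsLocalRing.maximalIdeal B).map (algebraMap B (B ⊗[A] EGA4.Cpl A)) := by
    intro z hz
    refine Submodule.span_induction (p := fun z _ => ∀ b : B,
      (b ⊗ₜ[A] z : B ⊗[A] EGA4.Cpl A) ∈
        (IsLocalRing.maximalIdeal B).map (algebraMap B (B ⊗[A] EGA4.Cpl A))) ?_ ?_ ?_ ?_ hz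
    · rintro _ ⟨a, ha, rfl⟩ b
      have h3 : (b ⊗ₜ[A] (algebraMap A (EGA4.Cpl A) a) : B ⊗[A] EGA4.Cpl A) =
          algebraMap B (B ⊗[A] EGA4.Cpl A) (algebraMap A B a * b) := by
        rw [Algebra.TensorProduct.algebraMap_apply, Algebra.algebraMap_self, RingHom.id_apply,
          Algebra.algebraMap_eq_smul_one, TensorProduct.tmul_smul,
          TensorProduct.smul_tmul', Algebra.smul_def]
      rw [h3]
      apply Ideal.mem_map_of_mem
      apply Ideal.mul_mem_right
      exact ((IsLocalRing.local_hom_TFAE (algebraMap A B)).out 0 2 rfl rfl).mp inferInstance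
        (Ideal.mem_map_of_mem _ ha)
    · intro b
      rw [TensorProduct.tmul_zero]
      exact Ideal.zero_mem _
    · intro x y _ _ hx hy b
      rw [TensorProduct.tmul_add]
      exact Ideal.add_mem _ (hx b) (hy b)
    · intro c x _ hx b
      have h3 : (b ⊗ₜ[A] (c • x) : B ⊗[A] EGA4.Cpl A) = ((1 : B) ⊗ₜ[A] c) * (b ⊗ₜ[A] x) := by
        rw [Algebra.TensorProduct.tmul_mul_tmul, one_mul, smul_eq_mul]
      rw [h3]
      exact Ideal.mul_mem_left _ _ (hx b)
  -- Step 1: `B → B'/𝔪_B B'` is surjective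
  have hsurj : ∀ x : B ⊗[A] EGA4.Cpl A, ∃ b : B, x - algebraMap B (B ⊗[A] EGA4.Cpl A) b ∈
      (IsLocalRing.maximalIdeal B).map (algebraMap B (B ⊗[A] EGA4.Cpl A)) := by
    intro x
    induction x using TensorProduct.induction_on with
    | zero => exact ⟨0, by simp⟩
    | tmul b z =>
      obtain ⟨c, hc⟩ := (AdicCompletion.residueField_map_bijective (R := A)).2
        (IsLocalRing.residue _ z)
      obtain ⟨a, rfl⟩ := IsLocalRing.residue_surjective c
      rw [IsLocalRing.ResidueField.map_residue] at hc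
      have hz : z - algebraMap A (EGA4.Cpl A) a ∈
          (IsLocalRing.maximalIdeal A).map (algebraMap A (EGA4.Cpl A)) := by
        rw [← AdicCompletion.maximalIdeal_eq_map, ← Ideal.Quotient.eq_zero_iff_mem]
        change IsLocalRing.residue _ (z - algebraMap A (EGA4.Cpl A) a) = 0
        rw [map_sub, hc, sub_self]
      refine ⟨algebraMap A B a * b, ?_⟩
      have h3 : (b ⊗ₜ[A] z : B ⊗[A] EGA4.Cpl A) -
          algebraMap B (B ⊗[A] EGA4.Cpl A) (algebraMap A B a * b) =
          b ⊗ₜ[A] (z - algebraMap A (EGA4.Cpl A) a) := by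
        rw [TensorProduct.tmul_sub]
        congr 1
        rw [Algebra.TensorProduct.algebraMap_apply, Algebra.algebraMap_self, RingHom.id_apply,
          Algebra.algebraMap_eq_smul_one (A := EGA4.Cpl A), TensorProduct.tmul_smul,
          TensorProduct.smul_tmul', Algebra.smul_def]
      rw [h3]
      exact hP _ hz b
    | add x y hx hy =>
      obtain ⟨b1, hb1⟩ := hx
      obtain ⟨b2, hb2⟩ := hy
      refine ⟨b1 + b2, ?_⟩
      have : x + y - algebraMap B (B ⊗[A] EGA4.Cpl A) (b1 + b2) =
          (x - algebraMap B (B ⊗[A] EGA4.Cpl A) b1) +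
          (y - algebraMap B (B ⊗[A] EGA4.Cpl A) b2) := by
        rw [map_add]; ring
      rw [this]
      exact Ideal.add_mem _ hb1 hb2
  exact Groth.Agent.Lib.Helper82.ComplLoc.exists_ringEquiv B (B ⊗[A] EGA4.Cpl A)
    (Localization.AtPrime n') n' hsurj h1

end Groth.Agent.S4739
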