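import Groth.Statements.S4741
import Mathlib

set_option autoImplicit false
universe u
open EGA4

namespace Groth.Agent.S4741

/-- Below a prime `q0` of a Noetherian `A`-algebra `B` there is a prime `q` with the same contraction
`p` to `A` and `ht q ≤ ht p` (take `q` minimal over `pB`). -/
theorem exists_le_under_eq_height_le {A B : Type*} [CommRing A] [CommRing B] [Algebra A B]
    [IsNoetherianRing A] [IsNoetherianRing B] (q0 : Ideal B) [q0.IsPrime] :
    ∃ q : Ideal B, q.IsPrime ∧ q ≤ q0 ∧ q.under A = q0.under A ∧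
      q.height ≤ (q0.under A).height := by
  set p := q0.under A with hp
  set I : Ideal B := p.map (algebraMap A B) with hI
  have hIq0 : I ≤ q0 := Ideal.map_comap_le
  obtain ⟨q, hqmin, hq⟩ := Ideal.exists_minimalPrimes_le hIq0
  have hqprime : q.IsPrime := hqmin.1.1
  have hunder : q.under A = p := by
    apply le_antisymm
    · exact Ideal.comap_mono hq
    · intro a ha
      exact hqmin.1.2 (Ideal.mem_map_of_mem _ ha)
  have hlies : q.LiesOver p := ⟨hunder.symm⟩
  refine ⟨q, hqprime, hq, hunder, ?_⟩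
  have hle := Ideal.height_le_height_add_of_liesOver p q
  have hzero : (q.map (Ideal.Quotient.mk I)).height = 0 := by
    have h1 : I.minimalPrimes = Ideal.comap (Ideal.Quotient.mk I) '' (⊥ : Ideal (B ⧸ I)).minimalPrimes := by
      rw [← Ideal.comap_minimalPrimes_eq_of_surjective Ideal.Quotient.mk_surjective,
        ← RingHom.ker_eq_comap_bot, Ideal.mk_ker]
    rw [h1] at hqmin
    obtain ⟨q', hq', rfl⟩ := hqmin
    rw [Ideal.map_comap_of_surjective _ Ideal.Quotient.mk_surjective]
    have : q'.IsPrime := hq'.1.1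
    rw [Ideal.height_eq_zero_iff]
    exact hq'
  rw [hzero, add_zero] at hle
  exact hle

/-- A flat local homomorphism into a Noetherian local ring does not decrease the dimension. -/
theorem ringKrullDim_le_of_flat_of_isLocalHom {A B : Type*} [CommRing A] [CommRing B] [Algebra A B]
    [IsLocalRing A] [IsLocalRing B] [IsNoetherianRing A] [IsNoetherianRing B] [Module.Flat A B]
    [IsLocalHom (algebraMap A B)] : ringKrullDim A ≤ ringKrullDim B := by
  have hover : (IsLocalRing.maximalIdeal B).LiesOver (IsLocalRing.maximalIdeal A) :=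
    ⟨(IsLocalRing.maximalIdeal_comap (algebraMap A B)).symm⟩
  have heq := Ideal.height_eq_height_add_of_liesOver_of_hasGoingDown (IsLocalRing.maximalIdeal A)
    (IsLocalRing.maximalIdeal B)
  rw [← IsLocalRing.maximalIdeal_height_eq_ringKrullDim,
    ← IsLocalRing.maximalIdeal_height_eq_ringKrullDim, heq]
  exact_mod_cast le_self_add

open AlgebraicGeometry CategoryTheory in
theorem ringKrullDim_stalk_eq_height {X : Scheme.{u}} {U : X.Opens} (hU : IsAffineOpen U) (x : X)
    (hx : x ∈ U) :
    ringKrullDim (X.presheaf.stalk x) = (hU.primeIdealOf ⟨x, hx⟩).asIdeal.height := by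
  let := TopCat.Presheaf.algebra_section_stalk X.presheaf ⟨x, hx⟩
  have := hU.isLocalization_stalk ⟨x, hx⟩
  exact IsLocalization.AtPrime.ringKrullDim_eq_height (hU.primeIdealOf ⟨x, hx⟩).asIdeal _

open AlgebraicGeometry CategoryTheory in
/-- Suppose X and Y are locally Noetherian schemes, f : X → Y is a morphism that is surjective, and Z is
a closed subset of Y. Then codim(f⁻¹(Z), X) ≤ codim(Z, Y), where the codimension of a closed subset
means the infimum over its points of the dimensions of the local rings there; when f is in addition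
flat, these two codimensions coincide. (In the published version the equality part assumes f
quasi-flat; here f is taken to be flat.) -/
theorem result {X Y : Scheme.{u}} (f : X ⟶ Y) [IsLocallyNoetherian X]
    [IsLocallyNoetherian Y] (hf : Function.Surjective f.base) (Z : Set Y) (hZ : IsClosed Z) :
    (⨅ x ∈ f.base ⁻¹' Z, ringKrullDim (X.presheaf.stalk x)) ≤ ⨅ y ∈ Z, ringKrullDim (Y.presheaf.stalk y) ∧
      (Flat f → (⨅ x ∈ f.base ⁻¹' Z, ringKrullDim (X.presheaf.stalk x)) = ⨅ y ∈ Z, ringKrullDim (Y.presheaf.stalk y)) := by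
  have h1 : (⨅ x ∈ f.base ⁻¹' Z, ringKrullDim (X.presheaf.stalk x)) ≤
      ⨅ y ∈ Z, ringKrullDim (Y.presheaf.stalk y) := by
    refine le_iInf₂ fun y hy => ?_
    obtain ⟨x0, rfl⟩ := hf y
    -- affine charts
    obtain ⟨_, ⟨V, hV, rfl⟩, hyV, -⟩ :=
      Y.isBasis_affineOpens.exists_subset_of_mem_open (Set.mem_univ (f.base x0)) isOpen_univ
    obtain ⟨_, ⟨U, hU, rfl⟩, hxU, hUV⟩ :=
      X.isBasis_affineOpens.exists_subset_of_mem_open (show x0 ∈ (f ⁻¹ᵁ V : Set X) from hyV)
        (f ⁻¹ᵁ V).isOpen
    have hUV' : U ≤ f ⁻¹ᵁ V := hUV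
    have : IsNoetherianRing Γ(X, U) := IsLocallyNoetherian.component_noetherian ⟨U, hU⟩
    have : IsNoetherianRing Γ(Y, V) := IsLocallyNoetherian.component_noetherian ⟨V, hV⟩
    let φ : Γ(Y, V) →+* Γ(X, U) := (f.appLE V U hUV').hom
    let : Algebra Γ(Y, V) Γ(X, U) := φ.toAlgebra
    set q0 := hU.primeIdealOf ⟨x0, hxU⟩ with hq0
    have hcomap0 : q0.asIdeal.under Γ(Y, V) = (hV.primeIdealOf ⟨f.base x0, hyV⟩).asIdeal := by
      have := IsAffineOpen.comap_primeIdealOf_appLE (f := f) V hV U hU hUV' hxU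
      exact congrArg PrimeSpectrum.asIdeal this
    obtain ⟨q, hqprime, hqle, hqunder, hqht⟩ :=
      exists_le_under_eq_height_le (A := Γ(Y, V)) q0.asIdeal
    -- the point of `U` corresponding to `q`
    let x : X := hU.fromSpec ⟨q, hqprime⟩
    have hxU' : x ∈ U := by
      have : x ∈ Set.range hU.fromSpec := ⟨_, rfl⟩
      rwa [hU.range_fromSpec] at this
    have hprime : hU.primeIdealOf ⟨x, hxU'⟩ = ⟨q, hqprime⟩ := by
      have h1 : hU.fromSpec (hU.primeIdealOf ⟨x, hxU'⟩) = hU.fromSpec ⟨q, hqprime⟩ :=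
        hU.fromSpec_primeIdealOf ⟨x, hxU'⟩
      exact hU.fromSpec.isOpenEmbedding.injective h1
    have hfx : f.base x = f.base x0 := by
      have h2 := IsAffineOpen.comap_primeIdealOf_appLE (f := f) V hV U hU hUV' hxU'
      rw [hprime] at h2
      have h3 : hV.primeIdealOf ⟨f.base x, hUV' hxU'⟩ = hV.primeIdealOf ⟨f.base x0, hyV⟩ := by
        rw [← h2]
        apply PrimeSpectrum.ext
        rw [← hcomap0, ← hqunder]
        rfl
      have h4 := congrArg hV.fromSpec h3
      rw [hV.fromSpec_primeIdealOf, hV.fromSpec_primeIdealOf] at h4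
      exact h4
    refine iInf₂_le_of_le x (show f.base x ∈ Z from hfx ▸ hy) ?_
    rw [ringKrullDim_stalk_eq_height hU x hxU', ringKrullDim_stalk_eq_height hV (f.base x0) hyV,
      hprime, ← hcomap0]
    exact_mod_cast hqht
  refine ⟨h1, fun hflat => le_antisymm h1 ?_⟩
  refine le_iInf₂ fun x hx => ?_
  refine iInf₂_le_of_le (f.base x) hx ?_
  have hfl : (f.stalkMap x).hom.Flat := Flat.stalkMap f x
  let : Algebra (Y.presheaf.stalk (f.base x)) (X.presheaf.stalk x) := (f.stalkMap x).hom.toAlgebra
  have : Module.Flat (Y.presheaf.stalk (f.base x)) (X.presheaf.stalk x) := hfl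
  have : IsLocalHom (algebraMap (Y.presheaf.stalk (f.base x)) (X.presheaf.stalk x)) :=
    inferInstanceAs (IsLocalHom (f.stalkMap x).hom)
  exact ringKrullDim_le_of_flat_of_isLocalHom

end Groth.Agent.S4741
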