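import Groth.Statements.S4742
import Mathlib
import Groth.Agent.H46.CatenaryDim

set_option autoImplicit false
universe u
open EGA4

namespace Groth.Agent.S4742

open Order in
/-- In a finite dimensional partial order where coheight drops by exactly one along covers, for
`q ≤ p` one has `coheight q ≤ coheight p + height p`. -/
theorem coheight_le_coheight_add_height {α : Type*} [PartialOrder α] [FiniteDimensionalOrder α]
    (hC : ∀ p q : α, p ⋖ q → coheight p = coheight q + 1) :
    ∀ (n : ℕ) (p q : α), q ≤ p → height p ≤ n → coheight q ≤ coheight p + height p := by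
  intro n
  induction n with
  | zero =>
    intro p q hqp hp
    have hmin : IsMin p := by
      rw [← height_eq_zero]
      exact le_antisymm (by simpa using hp) bot_le
    have : q = p := le_antisymm hqp (hmin hqp)
    rw [this]
    exact le_self_add
  | succ n ih =>
    intro p q hqp hp
    rcases eq_or_lt_of_le hqp with rfl | hlt
    · exact le_self_add
    -- a maximal element of `[q, p)`
    have hwf : WellFounded (fun a b : α => b < a) :=
      SetRel.IsWellFounded.inv_of_finiteDimensional (r := {(a, b) : α × α | a < b})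
    obtain ⟨r, ⟨hqr, hrp⟩, hmax⟩ := hwf.has_min {r | q ≤ r ∧ r < p} ⟨q, le_rfl, hlt⟩
    have hcov : r ⋖ p := by
      refine ⟨hrp, fun c hrc hcp => ?_⟩
      exact hmax c ⟨hqr.trans hrc.le, hcp⟩ hrc
    have hr : height r ≤ n := by
      have h1 := height_add_one_le hrp
      have h2 : height r + 1 ≤ (n : ℕ∞) + 1 := h1.trans (by exact_mod_cast hp)
      exact (ENat.add_le_add_iff_right ENat.one_ne_top).mp h2
    have h1 := ih r q hqr hr
    have h2 := hC r p hcov
    have h3 := height_add_one_le hrp
    calc coheight q ≤ coheight r + height r := h1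
      _ = coheight p + (height r + 1) := by rw [h2]; ring
      _ ≤ coheight p + height p := by gcongr

/-- Heights do not increase when passing to a quotient. -/
theorem height_map_le_of_surjective {R S : Type*} [CommRing R] [CommRing S] (f : R →+* S)
    (hf : Function.Surjective f) (I : Ideal R) [I.IsPrime] (hker : RingHom.ker f ≤ I) :
    (I.map f).height ≤ I.height := by
  have hprime : (I.map f).IsPrime := Ideal.map_isPrime_of_surjective hf hker
  have hcomap : (I.map f).comap f = I := by
    rw [Ideal.comap_map_of_surjective f hf, ← RingHom.ker_eq_comap_bot, sup_eq_left]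
    exact hker
  have h1 := PrimeSpectrum.height_eq_orderHeight (⟨I.map f, hprime⟩ : PrimeSpectrum S)
  have h2 := PrimeSpectrum.height_eq_orderHeight (⟨I, inferInstance⟩ : PrimeSpectrum R)
  have h3 := Order.height_le_height_apply_of_strictMono (PrimeSpectrum.comap f)
    (RingHom.strictMono_comap_of_surjective hf) (⟨I.map f, hprime⟩ : PrimeSpectrum S)
  have h4 : PrimeSpectrum.comap f (⟨I.map f, hprime⟩ : PrimeSpectrum S) = ⟨I, inferInstance⟩ :=
    PrimeSpectrum.ext hcomap
  simp only at h1 h2
  rw [h1, h2, ← h4]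
  exact h3

/-- A prime minimal over `p + (t)` with `t ∉ p` covers `p`. -/
theorem covBy_of_mem_minimalPrimes_sup_span {A : Type*} [CommRing A] [IsNoetherianRing A]
    (p : PrimeSpectrum A) (t : A) (htp : t ∉ p.asIdeal) (p' : PrimeSpectrum A)
    (hp' : p'.asIdeal ∈ (p.asIdeal ⊔ Ideal.span {t}).minimalPrimes) : p ⋖ p' := by
  have hle : p ≤ p' := le_sup_left.trans hp'.1.2
  have htp' : t ∈ p'.asIdeal := hp'.1.2 (le_sup_right (a := p.asIdeal) (Ideal.subset_span rfl))
  have hlt : p < p' := lt_of_le_of_ne hle (fun h => htp (h ▸ htp'))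
  refine ⟨hlt, fun c hpc hcp' => ?_⟩
  have hone := Ideal.map_height_le_one_of_mem_minimalPrimes hp'
  set f := Ideal.Quotient.mk p.asIdeal with hf
  have hfs : Function.Surjective f := Ideal.Quotient.mk_surjective
  have hker : RingHom.ker f = p.asIdeal := Ideal.mk_ker
  have hcprime : (c.asIdeal.map f).IsPrime :=
    Ideal.map_isPrime_of_surjective hfs (hker.trans_le hpc.le)
  have hp'prime : (p'.asIdeal.map f).IsPrime :=
    Ideal.map_isPrime_of_surjective hfs (hker.trans_le hle)
  have hcomapc : (c.asIdeal.map f).comap f = c.asIdeal := by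
    rw [Ideal.comap_map_of_surjective f hfs, ← RingHom.ker_eq_comap_bot, sup_eq_left, hker]
    exact hpc.le
  have hcomapp' : (p'.asIdeal.map f).comap f = p'.asIdeal := by
    rw [Ideal.comap_map_of_surjective f hfs, ← RingHom.ker_eq_comap_bot, sup_eq_left, hker]
    exact hle
  have hlt' : c.asIdeal.map f < p'.asIdeal.map f := by
    refine lt_of_le_of_ne (Ideal.map_mono hcp'.le) fun h => ?_
    have := congrArg (Ideal.comap f) h
    rw [hcomapc, hcomapp'] at this
    exact hcp'.ne (PrimeSpectrum.ext this)
  have h2 := Ideal.height_add_one_le_of_lt_of_isPrime hlt'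
  have h3 : (c.asIdeal.map f).height = 0 := by
    have h4 : (c.asIdeal.map f).height + 1 ≤ 0 + 1 := by
      rw [zero_add]; exact h2.trans hone
    exact le_antisymm ((ENat.add_le_add_iff_right ENat.one_ne_top).mp h4) bot_le
  rw [Ideal.height_eq_zero_iff] at h3
  have : IsDomain (A ⧸ p.asIdeal) := Ideal.Quotient.isDomain _
  rw [IsDomain.minimalPrimes_eq_singleton_bot, Set.mem_singleton_iff] at h3
  have h5 : c.asIdeal = p.asIdeal := by
    rw [← hcomapc, h3, ← RingHom.ker_eq_comap_bot, hker]
  exact hpc.ne (PrimeSpectrum.ext h5).symm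

/-- Let A be a Noetherian local ring which is equidimensional and catenary, t an element of A belonging
to a system of parameters (dim A/tA + 1 = dim A), and Z a set of prime ideals of A stable under
specialization. Write X = Spec A, X₀ = V(t), X₁ = X ∖ X₀ and Z₀ = Z ∩ X₀, Z₁ = Z ∩ X₁. Then
codim(Z₀, X₀) ≤ codim(Z, X) ≤ codim(Z₁, X₁), where each codimension is the infimum of the heights of
the primes concerned, heights for Z₀ being taken in A/tA. -/
theorem result (A : Type u) [CommRing A] [IsNoetherianRing A] [IsLocalRing A]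
    (hA : EGA4.IsEquidim A) (hA' : CAlg.IsCatenary A) (t : A)
    (ht : ringKrullDim (A ⧸ Ideal.span {t}) + 1 = ringKrullDim A) (Z : Set (PrimeSpectrum A))
    (hZ : StableUnderSpecialization Z) :
    (⨅ p ∈ {p ∈ Z | t ∈ p.asIdeal}, (p.asIdeal.map (Ideal.Quotient.mk (Ideal.span {t}))).height) ≤
        ⨅ p ∈ Z, p.asIdeal.height ∧
      (⨅ p ∈ Z, p.asIdeal.height) ≤ ⨅ p ∈ {p ∈ Z | t ∉ p.asIdeal}, p.asIdeal.height := by
  refine ⟨?_, le_iInf₂ fun p hp => iInf₂_le p hp.1⟩
  have hfin : FiniteDimensionalOrder (PrimeSpectrum A) := (inferInstance : FiniteRingKrullDim A)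
  have hcat := (Groth.Agent.H46.ordCatenary_iff_coheight (⊤ : PrimeSpectrum A)
    (fun x => le_top)).mp ((Groth.Agent.H46.isCatenary_iff_ordCatenary A).mp hA')
  have hC : ∀ p q : PrimeSpectrum A, p ⋖ q → Order.coheight p = Order.coheight q + 1 :=
    fun p q h => (hcat p q h.lt).2 h
  -- the dimension formula
  have hdim : ∀ p : PrimeSpectrum A,
      ringKrullDim A ≤ ((Order.coheight p + Order.height p : ℕ∞) : WithBot ℕ∞) := by
    intro p
    obtain ⟨p0, hp0, hp0le⟩ := Ideal.exists_minimalPrimes_le (bot_le : (⊥ : Ideal A) ≤ p.asIdeal)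
    have hp0prime : p0.IsPrime := hp0.1.1
    have h1 := hA p0 hp0
    have h2 := Groth.Agent.H46.ringKrullDim_quotient_eq_coheight (⟨p0, hp0prime⟩ : PrimeSpectrum A)
    simp only at h2
    rw [← h1, h2]
    have hht : Order.height p ≠ ⊤ := by
      rw [← PrimeSpectrum.height_eq_orderHeight]
      exact Ideal.height_ne_top_of_isPrime
    obtain ⟨n, hn⟩ := ENat.ne_top_iff_exists.mp hht
    exact_mod_cast coheight_le_coheight_add_height hC n p ⟨p0, hp0prime⟩ hp0le (by rw [← hn])
  -- `t` is not a unit
  have htm : t ∈ IsLocalRing.maximalIdeal A := by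
    rw [IsLocalRing.mem_maximalIdeal, mem_nonunits_iff]
    intro hu
    have htop : Ideal.span {t} = ⊤ := Ideal.span_singleton_eq_top.mpr hu
    have hsub : Subsingleton (A ⧸ Ideal.span {t}) := by
      rw [htop]; exact Ideal.Quotient.subsingleton_iff.mpr rfl
    rw [ringKrullDim_eq_bot_of_subsingleton, WithBot.bot_add] at ht
    exact ringKrullDim_ne_bot ht.symm
  refine le_iInf₂ fun p hp => ?_
  set f := Ideal.Quotient.mk (Ideal.span {t}) with hf
  have hfs : Function.Surjective f := Ideal.Quotient.mk_surjective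
  have hker : RingHom.ker f = Ideal.span {t} := Ideal.mk_ker
  by_cases htp : t ∈ p.asIdeal
  · refine iInf₂_le_of_le p ⟨hp, htp⟩ ?_
    refine height_map_le_of_surjective f hfs p.asIdeal ?_
    rw [hker, Ideal.span_singleton_le_iff_mem]
    exact htp
  · -- a prime minimal over `p + (t)`
    have hle_m : p.asIdeal ⊔ Ideal.span {t} ≤ IsLocalRing.maximalIdeal A :=
      sup_le (IsLocalRing.le_maximalIdeal p.2.ne_top)
        ((Ideal.span_singleton_le_iff_mem _).mpr htm)
    obtain ⟨p', hp'min, -⟩ := Ideal.exists_minimalPrimes_le hle_m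
    have hp'prime : p'.IsPrime := hp'min.1.1
    let P' : PrimeSpectrum A := ⟨p', hp'prime⟩
    have hcov : p ⋖ P' := covBy_of_mem_minimalPrimes_sup_span p t htp P' hp'min
    have htp' : t ∈ p' := hp'min.1.2 (le_sup_right (a := p.asIdeal) (Ideal.subset_span rfl))
    have hP'Z : P' ∈ Z := hZ ((PrimeSpectrum.le_iff_specializes p P').mp hcov.le) hp
    refine iInf₂_le_of_le P' ⟨hP'Z, htp'⟩ ?_
    have hkerle : RingHom.ker f ≤ p' := by
      rw [hker, Ideal.span_singleton_le_iff_mem]; exact htp'
    have hQprime : (p'.map f).IsPrime := Ideal.map_isPrime_of_surjective hfs hkerle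
    let Q : PrimeSpectrum (A ⧸ Ideal.span {t}) := ⟨p'.map f, hQprime⟩
    have : Nonempty (PrimeSpectrum (A ⧸ Ideal.span {t})) := ⟨Q⟩
    -- height + coheight ≤ dim in `A/t`
    have h1 : ((Order.height Q + Order.coheight Q : ℕ∞) : WithBot ℕ∞) ≤
        ringKrullDim (A ⧸ Ideal.span {t}) := by
      rw [ringKrullDim, Order.krullDim_eq_iSup_height_add_coheight_of_nonempty]
      exact_mod_cast le_iSup (fun a : PrimeSpectrum (A ⧸ Ideal.span {t}) =>
        Order.height a + Order.coheight a) Q
    -- coheight of `Q` is the coheight of `P'`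
    have h2 : Order.coheight Q = Order.coheight P' := by
      have e := DoubleQuot.quotQuotEquivQuotOfLE
        (show Ideal.span {t} ≤ p' from (Ideal.span_singleton_le_iff_mem _).mpr htp')
      have h3 := ringKrullDim_eq_of_ringEquiv e
      have h4 := Groth.Agent.H46.ringKrullDim_quotient_eq_coheight Q
      have h5 := Groth.Agent.H46.ringKrullDim_quotient_eq_coheight P'
      have h6 : ((Order.coheight Q : ℕ∞) : WithBot ℕ∞) = ((Order.coheight P' : ℕ∞) : WithBot ℕ∞) := by
        rw [← h4, ← h5]; exact h3
      exact_mod_cast h6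
    have h7 := hdim p
    rw [hC p P' hcov] at h7
    rw [h2] at h1
    have h8 : ((Order.height Q + Order.coheight P' + 1 : ℕ∞) : WithBot ℕ∞) ≤
        ((Order.coheight P' + 1 + Order.height p : ℕ∞) : WithBot ℕ∞) := by
      calc ((Order.height Q + Order.coheight P' + 1 : ℕ∞) : WithBot ℕ∞)
          = ((Order.height Q + Order.coheight P' : ℕ∞) : WithBot ℕ∞) + 1 := by push_cast; rfl
        _ ≤ ringKrullDim (A ⧸ Ideal.span {t}) + 1 := by gcongr
        _ = ringKrullDim A := ht
        _ ≤ _ := h7
    have h9 : Order.height Q + Order.coheight P' + 1 ≤ Order.coheight P' + 1 + Order.height p := by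
      exact_mod_cast h8
    have hcoh : Order.coheight P' ≠ ⊤ := (Order.coheight_lt_top P').ne
    have h10 : Order.height Q + (Order.coheight P' + 1) ≤ Order.height p + (Order.coheight P' + 1) := by
      calc Order.height Q + (Order.coheight P' + 1) = Order.height Q + Order.coheight P' + 1 := by ring
        _ ≤ Order.coheight P' + 1 + Order.height p := h9
        _ = Order.height p + (Order.coheight P' + 1) := by ring
    have h11 : Order.coheight P' + 1 ≠ ⊤ := by
      simp [hcoh]
    have h12 := (ENat.add_le_add_iff_right h11).mp h10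
    rw [PrimeSpectrum.height_eq_orderHeight p]
    have h13 := PrimeSpectrum.height_eq_orderHeight Q
    simp only [Q] at h13
    rw [h13]
    exact h12

end Groth.Agent.S4742
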