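import Groth.Statements.S4744
import Groth.Agent.Lib.Helper73.CplMap
import Groth.Agent.Lib.Helper29.FibreDescent
import Groth.Agent.Lib.Helper29.FlatAscent2
import Groth.Agent.Lib.Helper47.RegularHomAscent
import Groth.Agent.Lib.Helper82.CMPoly

set_option maxSynthPendingDepth 3

set_option autoImplicit false
universe u
open EGA4

namespace Groth.Agent.S4744

/-- Let A → A' be a flat local homomorphism of Noetherian local rings all of whose fibre rings k(p) ⊗_A
A' are Cohen–Macaulay. If the completion map of A' is regular (the formal fibres of A' are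
geometrically regular), then the formal fibres of A are Cohen–Macaulay. -/
theorem result (A A' : Type u) [CommRing A] [CommRing A'] [IsNoetherianRing A]
    [IsNoetherianRing A'] [IsLocalRing A] [IsLocalRing A'] [Algebra A A'] [IsLocalHom (algebraMap A A')]
    [Module.Flat A A'] (hf : ∀ (p : Ideal A) [p.IsPrime], LocCoh.IsCohenMacaulayRing (p.Fiber A'))
    (hA' : CAlg.IsRegularHom A' (EGA4.Cpl A')) : EGA4.HasCMFormalFibres A := by
  classical
  letI := Groth.Agent.Lib.Helper73.CplMap.cplAlgebra A A'
  have hN : IsNoetherianRing (EGA4.Cpl A') :=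
    Groth.Agent.Lib.Helper73.CplMap.isNoetherianRing_cpl A'
  have hN0 : IsNoetherianRing (EGA4.Cpl A) :=
    Groth.Agent.Lib.Helper73.CplMap.isNoetherianRing_cpl A
  have hfl := Groth.Agent.Lib.Helper73.CplMap.flat_cpl A A'
  have hff := Groth.Agent.Lib.Helper73.CplMap.faithfullyFlat_cpl A A'
  have hflat' : Module.Flat A' (EGA4.Cpl A') := hA'.1
  have hA'cm : ∀ (q : Ideal A') [q.IsPrime], LocCoh.IsCohenMacaulayRing (q.Fiber (EGA4.Cpl A')) := by
    intro q _
    haveI := Groth.Agent.Lib.Helper47.isRegularRing_fiber_of_isRegularHom hA' q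
    exact Groth.Agent.Lib.Helper82.CMPoly.isCohenMacaulayRing_of_isRegularRing _
  intro p _
  have h1 : LocCoh.IsCohenMacaulayRing (p.Fiber (EGA4.Cpl A')) :=
    Groth.Agent.Lib.Helper29.isCohenMacaulayRing_fiber_comp A A' (EGA4.Cpl A') p (hf p) hA'cm
  exact Groth.Agent.Lib.Helper29.isCohenMacaulayRing_fiber_of_faithfullyFlat A (EGA4.Cpl A)
    (EGA4.Cpl A') p h1

end Groth.Agent.S4744
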