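import Groth.Statements.S4754
import Groth.Agent.Lib.Helper64.CplQuot
import Mathlib

set_option autoImplicit false
universe u
open EGA4

namespace Groth.Agent.S4754

open Groth.Agent.Lib.Helper64 TensorProduct

theorem isNormalRing_of_ringEquiv {R R' : Type u} [CommRing R] [CommRing R'] (e : R ≃+* R')
    (h : EGA4.IsNormalRing R) : EGA4.IsNormalRing R' := by
  intro q hq
  let q₀ : Ideal R := q.comap (e : R →+* R')
  have hq₀ : q₀.IsPrime := Ideal.comap_isPrime _ _
  obtain ⟨hdom, hic⟩ := h q₀
  let ε : Localization.AtPrime q₀ ≃+* Localization.AtPrime q :=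
    Localization.localRingEquiv q₀ q e rfl
  exact ⟨ε.symm.toMulEquiv.isDomain _, IsIntegrallyClosed.of_equiv ε⟩

/-- For the property 'geometrically normal', case of a local ring: if the formal fibres of a Noetherian
local ring A are geometrically normal, then so are the formal fibres of A/I for every proper ideal I
of A. -/
theorem result (A : Type u) [CommRing A] [IsNoetherianRing A] [IsLocalRing A]
    (hA : EGA4.HasGeomNormalFormalFibres A) (I : Ideal A) [Nontrivial (A ⧸ I)] :
    EGA4.HasGeomNormalFormalFibres (A ⧸ I) := by
  intro P _
  let p : Ideal A := P.comap (algebraMap A (A ⧸ I))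
  have hpprime : p.IsPrime := inferInstance
  have hnorm := hA p
  let φ := Ideal.ResidueField.map p P (algebraMap A (A ⧸ I)) rfl
  have hφ : Function.Bijective φ := residueFieldMap_quotient_bijective A I P p rfl
  let _ : Algebra p.ResidueField P.ResidueField := φ.toAlgebra
  have hfin : Module.Finite p.ResidueField P.ResidueField :=
    Module.Finite.of_surjective (Algebra.linearMap p.ResidueField P.ResidueField) hφ.2
  intro k' _ _ hfin'
  let _ : Algebra p.ResidueField k' :=
    ((algebraMap P.ResidueField k').comp φ).toAlgebra
  have : IsScalarTower p.ResidueField P.ResidueField k' :=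
    IsScalarTower.of_algebraMap_eq fun x => rfl
  have : Module.Finite p.ResidueField k' := Module.Finite.trans P.ResidueField k'
  obtain ⟨e⟩ := nonempty_ringEquiv_formalFibre_tensor A I P p rfl k' rfl
  exact isNormalRing_of_ringEquiv
    (R := k' ⊗[p.ResidueField] (EGA4.formalFibre A p)) e.symm (hnorm k' inferInstance)

end Groth.Agent.S4754
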