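import Groth.Statements.S4757
import Mathlib
import Groth.Agent.Lib.Helper22.FibreLocalization
-- import your own Groth.Agent.* helpers here

set_option autoImplicit false
universe u
open EGA4

namespace Groth.Agent.S4757

open Groth.Agent.Lib.Helper22 TensorProduct in
/-- Let A → B be a flat homomorphism of Noetherian rings with geometrically reduced fibres and S a
multiplicative subset of A. Then the induced homomorphism S⁻¹A → S⁻¹B (arbitrary localizations at S
and at its image) is flat with geometrically reduced fibres. -/
theorem result (A B : Type u) [CommRing A] [CommRing B] [IsNoetherianRing A]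
    [IsNoetherianRing B] [Algebra A B] [Module.Flat A B]
    (h : ∀ (p : Ideal A) [p.IsPrime], Algebra.IsGeometricallyReduced p.ResidueField (p.Fiber B)) (S : Submonoid A)
    (A' B' : Type u) [CommRing A'] [CommRing B'] [Algebra A A'] [Algebra B B'] [Algebra A' B'] [Algebra A B']
    [IsScalarTower A A' B'] [IsScalarTower A B B'] [IsLocalization S A']
    [IsLocalization (Algebra.algebraMapSubmonoid B S) B'] :
    Module.Flat A' B' ∧ ∀ (p' : Ideal A') [p'.IsPrime], Algebra.IsGeometricallyReduced p'.ResidueField (p'.Fiber B') := by
  have hpush : Algebra.IsPushout A A' B B' := isPushout_of_isLocalization' S A' B'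
  constructor
  · exact Module.Flat.isBaseChange A A' B B' hpush.out
  · intro p' _
    let p : Ideal A := p'.comap (algebraMap A A')
    have hpprime : p.IsPrime := inferInstance
    rw [Algebra.isGeometricallyReduced_field_iff]
    let φ := Ideal.ResidueField.map p p' (algebraMap A A') rfl
    have hφ : Function.Bijective φ := residueFieldMap_bijective_of_isLocalization S A' p' p rfl
    letI : Algebra p.ResidueField p'.ResidueField := φ.toAlgebra
    haveI : Algebra.IsIntegral p.ResidueField p'.ResidueField :=
      Algebra.isIntegral_of_surjective hφ.2
    haveI : Algebra.IsAlgebraic p.ResidueField (AlgebraicClosure p'.ResidueField) :=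
      Algebra.IsAlgebraic.trans p.ResidueField p'.ResidueField _
    obtain ⟨e⟩ := nonempty_ringEquiv_fiber_tensor (B := B) S A' B' p' p rfl
      (AlgebraicClosure p'.ResidueField)
      (IsScalarTower.algebraMap_eq p.ResidueField p'.ResidueField (AlgebraicClosure p'.ResidueField))
    haveI := h p
    have hred : IsReduced ((AlgebraicClosure p'.ResidueField) ⊗[p.ResidueField] (p.Fiber B)) :=
      inferInstance
    exact isReduced_of_injective e.toRingHom e.injective

end Groth.Agent.S4757
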