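import Mathlib
import Groth.Statements.S4760
import Groth.Agent.S4759
import Groth.Agent.Lib.Helper23.LimConstructible

set_option autoImplicit false
universe u
open CategoryTheory AlgebraicGeometry
open Lim8

namespace Groth.Agent.S4760

/-- Let S = lim S_i be a cofiltered limit of schemes with affine transition maps, some stage S_{i₀}
being quasi-compact and quasi-separated. Then every subset Z of S that is both locally closed and
constructible is the preimage under the projection S ⟶ S_i of a locally closed constructible subset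
of S_i, for some index i over i₀. -/
theorem result {I : Type u} [SmallCategory I] [IsCofiltered I]
    (D : I ⥤ Scheme.{u}) (c : Limits.Cone D) (hc : Limits.IsLimit c)
    [∀ (i j : I) (f : i ⟶ j), IsAffineHom (D.map f)] (i₀ : I)
    [CompactSpace (D.obj i₀)] [QuasiSeparatedSpace (D.obj i₀)] (Z : Set c.pt)
    (hZ : Topology.IsConstructible Z) (hZ' : IsLocallyClosed Z) :
    ∃ (i : I) (_ : i ⟶ i₀) (Zi : Set (D.obj i)),
      Topology.IsConstructible Zi ∧ IsLocallyClosed Zi ∧ (⇑(c.π.app i) ⁻¹' Zi : Set c.pt) = Z := by
  have inst : ∀ {i j : I} (f : i ⟶ j), IsAffineHom (D.map f) := fun f => inferInstance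
  obtain ⟨i, d, A, hA, rfl⟩ := Groth.Agent.S4759.result D c hc i₀ Z hZ
  have hcpt : CompactSpace (D.obj i) := QuasiCompact.compactSpace_of_compactSpace (D.map d)
  obtain ⟨j, φ, hφ⟩ :=
    Groth.Agent.Lib.Helper23.exists_isLocallyClosed_map_preimage_of_isLocallyClosed_preimage
      D c hc i A hA hZ'
  exact ⟨j, φ ≫ d, ⇑(D.map φ) ⁻¹' A, (D.map φ).isConstructible_preimage hA, hφ,
    Groth.Agent.Lib.Helper23.π_preimage_map_preimage D c φ A⟩

end Groth.Agent.S4760
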