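import Groth.Statements.S4763
import Groth.Agent.Lib.Helper23.LimDominant

set_option autoImplicit false
universe u
open CategoryTheory AlgebraicGeometry
open Lim8

namespace Groth.Agent.S4763

/-- Let S = lim S_i be a cofiltered limit of schemes with affine transition maps and let i be an index.
The canonical projection S ⟶ S_i is dominant if and only if every transition map S_j ⟶ S_i is
dominant. -/
theorem result {I : Type u} [SmallCategory I] [IsCofiltered I]
    (D : I ⥤ Scheme.{u}) (c : Limits.Cone D) (hc : Limits.IsLimit c)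
    [∀ (i j : I) (f : i ⟶ j), IsAffineHom (D.map f)] (i : I) :
    IsDominant (c.π.app i) ↔ ∀ (j : I) (φ : j ⟶ i), IsDominant (D.map φ) := by
  have inst : ∀ {i j : I} (f : i ⟶ j), IsAffineHom (D.map f) := fun f => inferInstance
  constructor
  · intro h j φ
    have : IsDominant (c.π.app j ≫ D.map φ) := by rw [c.w]; exact h
    exact IsDominant.of_comp (c.π.app j) (D.map φ)
  · intro hd
    refine ⟨?_⟩
    rw [DenseRange, dense_iff_inter_open]
    intro U hU ⟨y, hy⟩
    obtain ⟨_, ⟨W, hW : IsAffineOpen W, rfl⟩, hyW, hWU⟩ :=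
      (D.obj i).isBasis_affineOpens.exists_subset_of_mem_open hy hU
    obtain ⟨x, hx⟩ := Groth.Agent.Lib.Helper23.exists_π_mem_of_forall_nonempty D c hc i W hW
      (fun k φ => by
        have := hd k φ
        obtain ⟨z, hz⟩ := (D.map φ).denseRange.exists_mem_open W.2 ⟨y, hyW⟩
        exact ⟨z, hz⟩)
    exact ⟨c.π.app i x, hWU hx, x, rfl⟩

end Groth.Agent.S4763
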