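import Groth.Statements.S4765
import Mathlib

set_option autoImplicit false
universe u
open CategoryTheory AlgebraicGeometry
open Lim8

namespace Groth.Agent.S4765

/-- Let S = lim S_i be a cofiltered limit of schemes with affine transition maps and let i be an index
such that the projection S ⟶ S_j is surjective for every j over i. Then the projection S ⟶ S_i is an
open map if and only if every transition map S_j ⟶ S_i is an open map. This is the case of open
morphisms. -/
theorem result {I : Type u} [SmallCategory I] [IsCofiltered I]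
    (D : I ⥤ Scheme.{u}) (c : Limits.Cone D) (hc : Limits.IsLimit c)
    [∀ (i j : I) (f : i ⟶ j), IsAffineHom (D.map f)] (i : I)
    (hs : ∀ (j : I) (φ : j ⟶ i), Surjective (c.π.app j)) :
    IsOpenMap ⇑(c.π.app i) ↔ ∀ (j : I) (φ : j ⟶ i), IsOpenMap ⇑(D.map φ) := by
  have inst : ∀ {i j : I} (f : i ⟶ j), IsAffineHom (D.map f) := fun f => inferInstance
  -- image under `π_i` of the preimage of a subset of `S_j`
  have himg : ∀ (j : I) (φ : j ⟶ i) (W : Set (D.obj j)),
      ⇑(c.π.app i) '' (⇑(c.π.app j) ⁻¹' W) = ⇑(D.map φ) '' W := by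
    intro j φ W
    ext y
    constructor
    · rintro ⟨x, hx, rfl⟩
      refine ⟨c.π.app j x, hx, ?_⟩
      rw [← Scheme.Hom.comp_apply, c.w]
    · rintro ⟨w, hw, rfl⟩
      obtain ⟨x, rfl⟩ := (hs j φ).surj w
      refine ⟨x, hw, ?_⟩
      rw [← Scheme.Hom.comp_apply, c.w]
  constructor
  · intro h j φ W hW
    rw [← himg j φ W]
    exact h _ (hW.preimage (c.π.app j).continuous)
  · intro h
    have hbasis := isBasis_preimage_isAffineOpen D c hc
    rw [TopologicalSpace.Opens.isBasis_iff_nbhd] at hbasis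
    intro U hU
    rw [isOpen_iff_forall_mem_open]
    rintro _ ⟨x, hxU, rfl⟩
    obtain ⟨_, ⟨k, V, hV, rfl⟩, hxV, hVU⟩ := hbasis (U := ⟨U, hU⟩) hxU
    let j := IsCofiltered.min k i
    let a : j ⟶ k := IsCofiltered.minToLeft k i
    let φ : j ⟶ i := IsCofiltered.minToRight k i
    have hpre : (⇑(c.π.app k) ⁻¹' (V : Set (D.obj k)) : Set c.pt) =
        ⇑(c.π.app j) ⁻¹' (⇑(D.map a) ⁻¹' (V : Set (D.obj k))) := by
      ext z
      simp only [Set.mem_preimage]
      rw [← Scheme.Hom.comp_apply, c.w]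
    refine ⟨⇑(c.π.app i) '' (⇑(c.π.app k) ⁻¹' (V : Set (D.obj k))), ?_, ?_, ⟨x, hxV, rfl⟩⟩
    · exact Set.image_mono hVU
    · rw [hpre, himg j φ]
      exact h j φ _ (V.2.preimage (D.map a).continuous)

end Groth.Agent.S4765
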