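import Mathlib
import Groth.Statements.S4766
import Groth.Agent.S4765
import Groth.Agent.Lib.Helper23.BaseChangeLim

set_option autoImplicit false
universe u
open CategoryTheory AlgebraicGeometry
open Lim8

namespace Groth.Agent.S4766

/-- If `f ≫ g` is universally open and `f` is surjective, then `g` is universally open. -/
theorem universallyOpen_of_comp_of_surjective {X Y Z : Scheme.{u}} (f : X ⟶ Y) (g : Y ⟶ Z)
    [Surjective f] [UniversallyOpen (f ≫ g)] : UniversallyOpen g := by
  rw [UniversallyOpen.eq]
  intro Y' Z' i₁ i₂ g' hg'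
  have hleft : IsPullback (Limits.pullback.snd f i₁) (Limits.pullback.fst f i₁) i₁ f :=
    (IsPullback.of_hasPullback f i₁).flip
  have hbig := hleft.paste_horiz hg'
  have hopen : IsOpenMap (Limits.pullback.snd f i₁ ≫ g') :=
    UniversallyOpen.universally_isOpenMap _ _ _ hbig
  have hsurj : Function.Surjective (Limits.pullback.snd f i₁) :=
    (inferInstance : Surjective (Limits.pullback.snd f i₁)).surj
  intro U hU
  have h1 : ⇑g' '' U = ⇑(Limits.pullback.snd f i₁ ≫ g') '' (⇑(Limits.pullback.snd f i₁) ⁻¹' U) := by
    ext z
    constructor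
    · rintro ⟨y, hy, rfl⟩
      obtain ⟨x, rfl⟩ := hsurj y
      exact ⟨x, hy, Scheme.Hom.comp_apply _ _ _⟩
    · rintro ⟨x, hx, rfl⟩
      exact ⟨_, hx, (Scheme.Hom.comp_apply _ _ _).symm⟩
  rw [h1]
  exact hopen _ (hU.preimage (Limits.pullback.snd f i₁).continuous)

open Groth.Agent.Lib.Helper23 in
/-- Let S = lim S_i be a cofiltered limit of schemes with affine transition maps and let i be an index
such that the projection S ⟶ S_j is surjective for every j over i. Then the projection S ⟶ S_i is
universally open if and only if every transition map S_j ⟶ S_i is universally open. This is the case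
of universally open morphisms. -/
theorem result {I : Type u} [SmallCategory I] [IsCofiltered I]
    (D : I ⥤ Scheme.{u}) (c : Limits.Cone D) (hc : Limits.IsLimit c)
    [∀ (i j : I) (f : i ⟶ j), IsAffineHom (D.map f)] (i : I)
    (hs : ∀ (j : I) (φ : j ⟶ i), Surjective (c.π.app j)) :
    UniversallyOpen (c.π.app i) ↔ ∀ (j : I) (φ : j ⟶ i), UniversallyOpen (D.map φ) := by
  have inst : ∀ {i j : I} (f : i ⟶ j), IsAffineHom (D.map f) := fun f => inferInstance
  constructor
  · intro h j φ
    have h1 : UniversallyOpen (c.π.app j ≫ D.map φ) := by rw [c.w]; exact h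
    have h2 := hs j φ
    exact universallyOpen_of_comp_of_surjective (c.π.app j) (D.map φ)
  · intro h
    rw [UniversallyOpen.eq]
    intro X' T i₁ i₂ f' hf'
    -- the base-changed system
    let t : Over i := Over.mk (𝟙 i)
    have hs' : ∀ (j : Over i) (_ : j ⟶ t), Surjective ((bcCone D c i i₂).π.app j) := by
      intro j _
      have := hs j.left j.hom
      exact MorphismProperty.of_isPullback (P := @Surjective) (isPullback_bcCone_π D c i i₂ j)
        inferInstance
    have hopen' : ∀ (j : Over i) (φ : j ⟶ t), IsOpenMap ((bcDiagram D i i₂).map φ) := by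
      intro j φ
      have := h j.left φ.left
      have h3 : UniversallyOpen ((bcDiagram D i i₂).map φ) :=
        MorphismProperty.of_isPullback (P := @UniversallyOpen) (isPullback_bcDiagram_map D i i₂ φ)
          inferInstance
      exact ((bcDiagram D i i₂).map φ).isOpenMap
    have h4 : IsOpenMap ((bcCone D c i i₂).π.app t) :=
      (Groth.Agent.S4765.result (bcDiagram D i i₂) (bcCone D c i i₂) (isLimitBcCone D c i i₂ hc) t
        hs').mpr hopen'
    -- `bcSnd t` is an isomorphism
    have hiso : IsIso (bcSnd D i i₂ t) := by
      have h5 : IsIso (D.map t.hom) := by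
        change IsIso (D.map (𝟙 i))
        infer_instance
      exact MorphismProperty.of_isPullback (P := MorphismProperty.isomorphisms Scheme)
        (isPullback_bcObj D i i₂ t) h5
    have h6 : IsOpenMap (bcPtSnd D c i i₂) := by
      rw [← bcCone_π_snd D c i i₂ t]
      simp only [Scheme.Hom.comp_base, TopCat.hom_comp, ContinuousMap.coe_comp]
      exact (Scheme.homeoOfIso (asIso (bcSnd D i i₂ t))).isOpenMap.comp h4
    -- compare with the given square
    let e : X' ≅ (bcCone D c i i₂).pt := hf'.isoIsPullback _ _ (isPullback_bcPt D c i i₂).flip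
    have he : e.hom ≫ bcPtSnd D c i i₂ = f' := IsPullback.isoIsPullback_hom_fst _ _ _ _
    change IsOpenMap f'
    rw [← he]
    simp only [Scheme.Hom.comp_base, TopCat.hom_comp, ContinuousMap.coe_comp]
    exact h6.comp (Scheme.homeoOfIso e).isOpenMap

end Groth.Agent.S4766
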