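import Groth.Statements.S4767
import Mathlib

set_option autoImplicit false
universe u
open CategoryTheory AlgebraicGeometry Limits
open Lim8

namespace Groth.Agent.S4767

/-- Let S = lim S_i be a cofiltered limit of schemes with affine transition maps, some stage S_{i₀}
being quasi-compact and quasi-separated, and assume that the underlying topological space of S is
Noetherian. If S is not irreducible, then there is an index i over i₀ such that S_j is not
irreducible for every index j over i. -/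
theorem result {I : Type u} [SmallCategory I] [IsCofiltered I]
    (D : I ⥤ Scheme.{u}) (c : Limits.Cone D) (hc : Limits.IsLimit c)
    [∀ (i j : I) (f : i ⟶ j), IsAffineHom (D.map f)] (i₀ : I)
    [CompactSpace (D.obj i₀)] [QuasiSeparatedSpace (D.obj i₀)]
    [TopologicalSpace.NoetherianSpace c.pt] (h : ¬ IrreducibleSpace c.pt) :
    ∃ (i : I) (_ : i ⟶ i₀), ∀ (j : I) (_ : j ⟶ i), ¬ IrreducibleSpace (D.obj j) := by
  classical
  have inst : ∀ {i j : I} (f : i ⟶ j), IsAffineHom (D.map f) := fun f => inferInstance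
  by_cases hne : Nonempty c.pt
  · -- `S` is nonempty, hence has two disjoint nonempty opens
    have hpre : ¬ PreirreducibleSpace c.pt := fun hp => h ⟨hne⟩
    have : ∃ u v : Set c.pt, IsOpen u ∧ IsOpen v ∧ u.Nonempty ∧ v.Nonempty ∧ u ∩ v = ∅ := by
      by_contra hcon
      push Not at hcon
      refine hpre ⟨fun u v hu hv hune hvne => ?_⟩
      rw [Set.univ_inter] at hune hvne ⊢
      exact hcon u v hu hv hune hvne
    obtain ⟨u, v, hu, hv, hune, hvne, huv⟩ := this
    let U : c.pt.Opens := ⟨u, hu⟩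
    let V : c.pt.Opens := ⟨v, hv⟩
    have hUc : IsCompact (U : Set c.pt) := TopologicalSpace.NoetherianSpace.isCompact _
    have hVc : IsCompact (V : Set c.pt) := TopologicalSpace.NoetherianSpace.isCompact _
    obtain ⟨i₁, U₁, hU₁c, hU₁⟩ := exists_preimage_eq D c hc U hUc
    obtain ⟨i₂, V₂, hV₂c, hV₂⟩ := exists_preimage_eq D c hc V hVc
    obtain ⟨i, hi⟩ := IsCofiltered.inf_objs_exists ({i₀, i₁, i₂} : Finset I)
    have d : i ⟶ i₀ := (hi (by simp)).some
    have a : i ⟶ i₁ := (hi (by simp)).some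
    have b : i ⟶ i₂ := (hi (by simp)).some
    have hScpt : CompactSpace (D.obj i) := QuasiCompact.compactSpace_of_compactSpace (D.map d)
    have hSqs : QuasiSeparatedSpace (D.obj i) := quasiSeparatedSpace_of_quasiSeparated (D.map d)
    let U' : (D.obj i).Opens := D.map a ⁻¹ᵁ U₁
    let V' : (D.obj i).Opens := D.map b ⁻¹ᵁ V₂
    have hU'c : IsCompact (U' : Set (D.obj i)) :=
      QuasiCompact.isCompact_preimage (f := D.map a) _ U₁.2 hU₁c
    have hV'c : IsCompact (V' : Set (D.obj i)) :=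
      QuasiCompact.isCompact_preimage (f := D.map b) _ V₂.2 hV₂c
    have hU' : c.π.app i ⁻¹ᵁ U' = U := by
      rw [← hU₁, ← Scheme.Hom.comp_preimage, c.w]
    have hV' : c.π.app i ⁻¹ᵁ V' = V := by
      rw [← hV₂, ← Scheme.Hom.comp_preimage, c.w]
    have hinter : c.π.app i ⁻¹ᵁ (U' ⊓ V') = c.π.app i ⁻¹ᵁ ⊥ := by
      rw [Scheme.Hom.preimage_inf, hU', hV']
      ext x
      have : x ∉ u ∩ v := by rw [huv]; exact Set.notMem_empty x
      simpa [U, V] using this
    obtain ⟨j₁, f₁, e₁⟩ := exists_map_preimage_eq_map_preimage D c hc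
      (QuasiSeparatedSpace.inter_isCompact _ _ U'.2 hU'c V'.2 hV'c) isCompact_empty hinter
    refine ⟨j₁, f₁ ≫ d, fun k φ hk => ?_⟩
    have hdisj : D.map (φ ≫ f₁) ⁻¹ᵁ (U' ⊓ V') = ⊥ := by
      rw [D.map_comp, Scheme.Hom.comp_preimage, e₁]
      simp
    set ψ := D.map (φ ≫ f₁) with hψ
    have hπ : ∀ x : c.pt, ψ (c.π.app k x) = c.π.app i x := by
      intro x
      rw [← Scheme.Hom.comp_apply, hψ, c.w]
    obtain ⟨x, hx⟩ := hune
    obtain ⟨y, hy⟩ := hvne
    have hxU : x ∈ c.π.app i ⁻¹ᵁ U' := by rw [hU']; exact hx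
    have hyV : y ∈ c.π.app i ⁻¹ᵁ V' := by rw [hV']; exact hy
    have h1 : ((ψ ⁻¹ᵁ U' : (D.obj k).Opens) : Set (D.obj k)).Nonempty :=
      ⟨c.π.app k x, by show ψ (c.π.app k x) ∈ U'; rw [hπ]; exact hxU⟩
    have h2 : ((ψ ⁻¹ᵁ V' : (D.obj k).Opens) : Set (D.obj k)).Nonempty :=
      ⟨c.π.app k y, by show ψ (c.π.app k y) ∈ V'; rw [hπ]; exact hyV⟩
    obtain ⟨z, hz1, hz2⟩ := nonempty_preirreducible_inter (ψ ⁻¹ᵁ U').2 (ψ ⁻¹ᵁ V').2 h1 h2
    have : z ∈ ((ψ ⁻¹ᵁ (U' ⊓ V') : (D.obj k).Opens) : Set (D.obj k)) := by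
      rw [Scheme.Hom.preimage_inf]; exact ⟨hz1, hz2⟩
    rw [hdisj] at this
    exact this
  · -- `S` is empty, hence some stage is empty
    have hex : ∃ j : Over i₀, IsEmpty (D.obj j.left) := by
      by_contra hcon
      push Not at hcon
      apply hne
      let D' : Over i₀ ⥤ Scheme.{u} := Over.forget i₀ ⋙ D
      let c' : Limits.Cone D' := c.whisker (Over.forget i₀)
      have hc' : Limits.IsLimit c' :=
        (Functor.Initial.isLimitWhiskerEquiv (Over.forget i₀) c).symm hc
      have : ∀ {a b : Over i₀} (f : a ⟶ b), IsAffineHom (D'.map f) := fun f => inst f.left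
      have : ∀ j : Over i₀, Nonempty (D'.obj j) := fun j => hcon j
      have : ∀ j : Over i₀, CompactSpace (D'.obj j) := fun j =>
        QuasiCompact.compactSpace_of_compactSpace (D.map j.hom)
      exact Scheme.nonempty_of_isLimit D' c' hc'
    obtain ⟨j, hj⟩ := hex
    refine ⟨j.left, j.hom, fun k φ hk => ?_⟩
    obtain ⟨z⟩ := hk.toNonempty
    exact hj.false (D.map φ z)

end Groth.Agent.S4767
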