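import Groth.Statements.S4768
-- import your own Groth.Agent.* helpers here

set_option autoImplicit false
universe u
open CategoryTheory AlgebraicGeometry Limits
open Lim8

namespace Groth.Agent.S4768

/-- Let S = lim S_i be a cofiltered limit of schemes with affine transition maps, some stage S_{i₀}
being quasi-compact and quasi-separated. If S is not preconnected (that is, S is the disjoint union
of two nonempty open subsets), then there is an index i over i₀ such that S_j is not preconnected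
for every index j over i. (The published statement assumes the stage only quasi-compact, which is
not enough: over the affine space in infinitely many variables with a doubled origin, the closed
subschemes cut out by the first n coordinates form a system with affine transition maps in which
every stage is connected while the limit consists of two disjoint points. The published proof
descends the two pieces of S to quasi-compact open subsets of a stage and needs their intersection
to become empty at a later stage, which uses that quasi-compact open subsets of the stage are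
constructible; so the stage is taken quasi-separated here, as in part (i).) -/
theorem result {I : Type u} [SmallCategory I] [IsCofiltered I]
    (D : I ⥤ Scheme.{u}) (c : Limits.Cone D) (hc : Limits.IsLimit c)
    [∀ (i j : I) (f : i ⟶ j), IsAffineHom (D.map f)] (i₀ : I)
    [CompactSpace (D.obj i₀)] [QuasiSeparatedSpace (D.obj i₀)] (h : ¬ PreconnectedSpace c.pt) :
    ∃ (i : I) (_ : i ⟶ i₀), ∀ (j : I) (_ : j ⟶ i), ¬ PreconnectedSpace (D.obj j) := by
  classical
  have inst : ∀ {i j : I} (f : i ⟶ j), IsAffineHom (D.map f) := fun f => inferInstance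
  have hπaff := isAffineHom_π_app D c hc i₀
  have hcpt : CompactSpace c.pt := QuasiCompact.compactSpace_of_compactSpace (c.π.app i₀)
  rw [preconnectedSpace_iff_clopen] at h
  push Not at h
  obtain ⟨s, hs, hsne, hsuniv⟩ := h
  let U : c.pt.Opens := ⟨s, hs.2⟩
  let V : c.pt.Opens := ⟨sᶜ, hs.1.isOpen_compl⟩
  have hUc : IsCompact (U : Set c.pt) := hs.1.isCompact
  have hVc : IsCompact (V : Set c.pt) := hs.2.isClosed_compl.isCompact
  obtain ⟨i₁, U₁, hU₁c, hU₁⟩ := exists_preimage_eq D c hc U hUc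
  obtain ⟨i₂, V₂, hV₂c, hV₂⟩ := exists_preimage_eq D c hc V hVc
  obtain ⟨i, hi⟩ := IsCofiltered.inf_objs_exists ({i₀, i₁, i₂} : Finset I)
  have d : i ⟶ i₀ := (hi (by simp)).some
  have a : i ⟶ i₁ := (hi (by simp)).some
  have b : i ⟶ i₂ := (hi (by simp)).some
  have hScpt : CompactSpace (D.obj i) := QuasiCompact.compactSpace_of_compactSpace (D.map d)
  have hSqs : QuasiSeparatedSpace (D.obj i) := quasiSeparatedSpace_of_quasiSeparated (D.map d)
  let U' : (D.obj i).Opens := D.map a ⁻¹ᵁ U₁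
  let V' : (D.obj i).Opens := D.map b ⁻¹ᵁ V₂
  have hU'c : IsCompact (U' : Set (D.obj i)) :=
    QuasiCompact.isCompact_preimage (f := D.map a) _ U₁.2 hU₁c
  have hV'c : IsCompact (V' : Set (D.obj i)) :=
    QuasiCompact.isCompact_preimage (f := D.map b) _ V₂.2 hV₂c
  have hU' : c.π.app i ⁻¹ᵁ U' = U := by
    rw [← hU₁, ← Scheme.Hom.comp_preimage, c.w]
  have hV' : c.π.app i ⁻¹ᵁ V' = V := by
    rw [← hV₂, ← Scheme.Hom.comp_preimage, c.w]
  have hinter : c.π.app i ⁻¹ᵁ (U' ⊓ V') = c.π.app i ⁻¹ᵁ ⊥ := by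
    rw [Scheme.Hom.preimage_inf, hU', hV']
    ext x
    simp [U, V]
  have hunion : c.π.app i ⁻¹ᵁ (U' ⊔ V') = c.π.app i ⁻¹ᵁ ⊤ := by
    rw [Scheme.Hom.preimage_sup, hU', hV']
    ext x
    simp [U, V]
  obtain ⟨j₁, f₁, e₁⟩ := exists_map_preimage_eq_map_preimage D c hc
    (QuasiSeparatedSpace.inter_isCompact _ _ U'.2 hU'c V'.2 hV'c) isCompact_empty hinter
  obtain ⟨j₂, f₂, e₂⟩ := exists_map_preimage_eq_map_preimage D c hc
    (hU'c.union hV'c) isCompact_univ hunion
  obtain ⟨j, g₁, g₂, e⟩ := IsCofiltered.cospan f₁ f₂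
  refine ⟨j, g₁ ≫ f₁ ≫ d, fun k φ hk => ?_⟩
  rw [preconnectedSpace_iff_clopen] at hk
  have hdisj : D.map (φ ≫ g₁ ≫ f₁) ⁻¹ᵁ (U' ⊓ V') = ⊥ := by
    rw [D.map_comp, D.map_comp, Scheme.Hom.comp_preimage, Scheme.Hom.comp_preimage, e₁]
    simp
  have hcov : D.map (φ ≫ g₁ ≫ f₁) ⁻¹ᵁ (U' ⊔ V') = ⊤ := by
    rw [e, D.map_comp, D.map_comp, Scheme.Hom.comp_preimage, Scheme.Hom.comp_preimage, e₂]
    simp
  set ψ := D.map (φ ≫ g₁ ≫ f₁) with hψ
  have hclopen : IsClopen ((ψ ⁻¹ᵁ U' : (D.obj k).Opens) : Set (D.obj k)) := by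
    refine ⟨?_, (ψ ⁻¹ᵁ U').2⟩
    have : ((ψ ⁻¹ᵁ U' : (D.obj k).Opens) : Set (D.obj k)) =
        ((ψ ⁻¹ᵁ V' : (D.obj k).Opens) : Set (D.obj k))ᶜ := by
      ext x
      have h1 : x ∉ ((ψ ⁻¹ᵁ (U' ⊓ V') : (D.obj k).Opens) : Set (D.obj k)) := by
        rw [hdisj]; simp
      have h2 : x ∈ ((ψ ⁻¹ᵁ (U' ⊔ V') : (D.obj k).Opens) : Set (D.obj k)) := by
        rw [hcov]; simp
      simp only [Scheme.Hom.preimage_inf, Scheme.Hom.preimage_sup, TopologicalSpace.Opens.coe_inf,
        TopologicalSpace.Opens.coe_sup, Set.mem_inter_iff, Set.mem_union, SetLike.mem_coe] at h1 h2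
      simp only [SetLike.mem_coe, Set.mem_compl_iff]
      tauto
    rw [this]
    exact (ψ ⁻¹ᵁ V').2.isClosed_compl
  have hπ : ∀ x : c.pt, ψ (c.π.app k x) = c.π.app i x := by
    intro x
    rw [← Scheme.Hom.comp_apply, hψ, c.w]
  rcases hk _ hclopen with h0 | h1
  · -- `U` is nonempty
    obtain ⟨x, hx⟩ := hsne
    have hxU : x ∈ c.π.app i ⁻¹ᵁ U' := by rw [hU']; exact hx
    have : c.π.app k x ∈ ((ψ ⁻¹ᵁ U' : (D.obj k).Opens) : Set (D.obj k)) := by
      show ψ (c.π.app k x) ∈ U'
      rw [hπ]; exact hxU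
    rw [h0] at this
    exact this
  · -- `V` is nonempty
    obtain ⟨x, hx⟩ := Set.nonempty_compl.mpr hsuniv
    have hxV : x ∈ c.π.app i ⁻¹ᵁ V' := by rw [hV']; exact hx
    have hmem : c.π.app k x ∈ ((ψ ⁻¹ᵁ U' : (D.obj k).Opens) : Set (D.obj k)) := by
      rw [h1]; trivial
    have hmem' : c.π.app k x ∈ ((ψ ⁻¹ᵁ V' : (D.obj k).Opens) : Set (D.obj k)) := by
      show ψ (c.π.app k x) ∈ V'
      rw [hπ]; exact hxV
    have : c.π.app k x ∈ ((ψ ⁻¹ᵁ (U' ⊓ V') : (D.obj k).Opens) : Set (D.obj k)) := by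
      rw [Scheme.Hom.preimage_inf]; exact ⟨hmem, hmem'⟩
    rw [hdisj] at this
    exact this

end Groth.Agent.S4768
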