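import Groth.Statements.S4769
import Groth.Agent.Lib.Helper23.LimDominant
import Groth.Agent.Lib.Helper23.IrredBij
-- import your own Groth.Agent.* helpers here

set_option autoImplicit false
universe u
open CategoryTheory AlgebraicGeometry Limits
open Lim8

namespace Groth.Agent.S4769

/-- Let S = lim S_i be a cofiltered limit of schemes whose transition maps are affine and dominant, some
stage S_{i₀} being quasi-compact, and assume that the underlying topological space of S is
Noetherian. Then there is an index i over i₀ such that, for every j over i, the map sending an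
irreducible component Y of S to the closure of its image under S ⟶ S_j is a bijection from the set
of irreducible components of S onto the set of irreducible components of S_j. -/
theorem result {I : Type u} [SmallCategory I] [IsCofiltered I]
    (D : I ⥤ Scheme.{u}) (c : Limits.Cone D) (hc : Limits.IsLimit c)
    [∀ (i j : I) (f : i ⟶ j), IsAffineHom (D.map f)] (i₀ : I)
    [CompactSpace (D.obj i₀)] [TopologicalSpace.NoetherianSpace c.pt]
    (hd : ∀ (i j : I) (φ : i ⟶ j), IsDominant (D.map φ)) :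
    ∃ (i : I) (_ : i ⟶ i₀), ∀ (j : I) (_ : j ⟶ i),
      Set.BijOn (fun Y : Set c.pt => closure (⇑(c.π.app j) '' (Y : Set c.pt) : Set (D.obj j)))
        (irreducibleComponents c.pt) (irreducibleComponents (D.obj j)) := by
  classical
  have inst : ∀ {i j : I} (f : i ⟶ j), IsAffineHom (D.map f) := fun f => inferInstance
  have hdom := fun j => Groth.Agent.Lib.Helper23.isDominant_π_app D c hc hd j
  have hfin : (irreducibleComponents c.pt).Finite :=
    TopologicalSpace.NoetherianSpace.finite_irreducibleComponents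
  have hbasis := isBasis_preimage_isAffineOpen D c hc
  -- Step 1: separate distinct components at some stage
  have hsep : ∀ p : {p : Set c.pt × Set c.pt // p.1 ∈ irreducibleComponents c.pt ∧
      p.2 ∈ irreducibleComponents c.pt ∧ p.1 ≠ p.2},
      ∃ (k : I) (A : (D.obj k).Opens), (∃ x ∈ p.1.1, c.π.app k x ∈ A) ∧
        ∀ y ∈ p.1.2, c.π.app k y ∉ A := by
    rintro ⟨⟨Y, Y'⟩, hY, hY', hne⟩
    have hnsub : ¬ Y ⊆ Y' := fun hsub => hne ((hY.2 hY'.1 hsub).antisymm hsub |>.symm ▸ rfl)
    obtain ⟨x, hxY, hxY'⟩ := Set.not_subset.mp hnsub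
    have hY'cl : IsClosed Y' := isClosed_of_mem_irreducibleComponents Y' hY'
    obtain ⟨_, ⟨_, ⟨k, A, hA, rfl⟩, rfl⟩, hxA, hAsub⟩ :=
      hbasis.exists_subset_of_mem_open (show x ∈ (Y'ᶜ : Set c.pt) from hxY') hY'cl.isOpen_compl
    exact ⟨k, A, ⟨x, hxY, hxA⟩, fun y hy hyA => hAsub hyA hy⟩
  choose k A hA hA' using hsep
  have hfinp : Finite {p : Set c.pt × Set c.pt // p.1 ∈ irreducibleComponents c.pt ∧
      p.2 ∈ irreducibleComponents c.pt ∧ p.1 ≠ p.2} := by
    have : Finite (irreducibleComponents c.pt) := hfin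
    exact Finite.of_injective (fun p => ((⟨p.1.1, p.2.1⟩, ⟨p.1.2, p.2.2.1⟩) :
      irreducibleComponents c.pt × irreducibleComponents c.pt)) (by
        rintro ⟨⟨a, b⟩, ha⟩ ⟨⟨a', b'⟩, ha'⟩ h
        simp only [Prod.mk.injEq, Subtype.mk.injEq] at h
        obtain ⟨rfl, rfl⟩ := h
        rfl)
  have := Fintype.ofFinite {p : Set c.pt × Set c.pt // p.1 ∈ irreducibleComponents c.pt ∧
      p.2 ∈ irreducibleComponents c.pt ∧ p.1 ≠ p.2}
  obtain ⟨i, hi⟩ := IsCofiltered.inf_objs_exists (insert i₀ (Finset.univ.image k))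
  have d : i ⟶ i₀ := (hi (Finset.mem_insert_self _ _)).some
  have a : ∀ p, i ⟶ k p := fun p =>
    (hi (Finset.mem_insert_of_mem (Finset.mem_image_of_mem k (Finset.mem_univ p)))).some
  refine ⟨i, d, fun j φ => ?_⟩
  have := hdom j
  refine Groth.Agent.Lib.Helper23.bijOn_irreducibleComponents_closure_image (c.π.app j)
    (c.π.app j).continuous (c.π.app j).denseRange hfin ?_
  intro Y hY Y' hY' hne
  let p : {p : Set c.pt × Set c.pt // p.1 ∈ irreducibleComponents c.pt ∧
      p.2 ∈ irreducibleComponents c.pt ∧ p.1 ≠ p.2} := ⟨(Y, Y'), hY, hY', hne⟩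
  have hπ : ∀ x : c.pt, D.map (φ ≫ a p) (c.π.app j x) = c.π.app (k p) x := by
    intro x
    rw [← Scheme.Hom.comp_apply, c.w]
  refine ⟨D.map (φ ≫ a p) ⁻¹ᵁ A p, (D.map (φ ≫ a p) ⁻¹ᵁ A p).2, ?_, ?_⟩
  · obtain ⟨x, hxY, hxA⟩ := hA p
    refine ⟨c.π.app j x, ⟨x, hxY, rfl⟩, ?_⟩
    show D.map (φ ≫ a p) (c.π.app j x) ∈ A p
    rw [hπ]; exact hxA
  · rw [Set.disjoint_left]
    rintro _ ⟨y, hyY', rfl⟩ hyA
    have : D.map (φ ≫ a p) (c.π.app j y) ∈ A p := hyA
    rw [hπ] at this
    exact hA' p y hyY' this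

end Groth.Agent.S4769
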