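import Groth.Statements.S4770
import Groth.Agent.Lib.Helper23.LimDominant
import Groth.Agent.Lib.Helper23.ConnBij
-- import your own Groth.Agent.* helpers here

set_option autoImplicit false
universe u
open CategoryTheory AlgebraicGeometry Limits
open Lim8

namespace Groth.Agent.S4770

/-- Let S = lim S_i be a cofiltered limit of schemes whose transition maps are affine and dominant, some
stage S_{i₀} being quasi-compact, and assume that the underlying topological space of S is
Noetherian. Then there is an index i over i₀ such that, for every j over i, the map sending a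
connected component C of S to the closure of its image under S ⟶ S_j is a bijection from the set of
connected components of S onto the set of connected components of S_j. -/
theorem result {I : Type u} [SmallCategory I] [IsCofiltered I]
    (D : I ⥤ Scheme.{u}) (c : Limits.Cone D) (hc : Limits.IsLimit c)
    [∀ (i j : I) (f : i ⟶ j), IsAffineHom (D.map f)] (i₀ : I)
    [CompactSpace (D.obj i₀)] [TopologicalSpace.NoetherianSpace c.pt]
    (hd : ∀ (i j : I) (φ : i ⟶ j), IsDominant (D.map φ)) :
    ∃ (i : I) (_ : i ⟶ i₀), ∀ (j : I) (_ : j ⟶ i),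
      Set.BijOn (fun C : Set c.pt => closure (⇑(c.π.app j) '' (C : Set c.pt) : Set (D.obj j)))
        (Set.range (connectedComponent : c.pt → Set c.pt))
        (Set.range (connectedComponent : D.obj j → Set (D.obj j))) := by
  classical
  have inst : ∀ {i j : I} (f : i ⟶ j), IsAffineHom (D.map f) := fun f => inferInstance
  have hdom := fun j => Groth.Agent.Lib.Helper23.isDominant_π_app D c hc hd j
  have hπaff := isAffineHom_π_app D c hc i₀
  have hcpt : CompactSpace c.pt := QuasiCompact.compactSpace_of_compactSpace (c.π.app i₀)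
  have hfinI : (irreducibleComponents c.pt).Finite :=
    TopologicalSpace.NoetherianSpace.finite_irreducibleComponents
  have hfin := Groth.Agent.Lib.Helper23.finite_range_connectedComponent hfinI
  have hopen := Groth.Agent.Lib.Helper23.isOpen_connectedComponent_of_finite hfin
  -- each component comes from a quasi-compact open of some stage
  have hex : ∀ C : Set.range (connectedComponent : c.pt → Set c.pt),
      ∃ (k : I) (U : (D.obj k).Opens), IsCompact (U : Set (D.obj k)) ∧
        ((c.π.app k ⁻¹ᵁ U : c.pt.Opens) : Set c.pt) = C.1 := by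
    rintro ⟨_, x, rfl⟩
    obtain ⟨k, U, hUc, hU⟩ := exists_preimage_eq D c hc ⟨connectedComponent x, hopen x⟩
      isClosed_connectedComponent.isCompact
    exact ⟨k, U, hUc, congrArg (fun W : c.pt.Opens => (W : Set c.pt)) hU⟩
  choose k U hUc hU using hex
  have := hfin.fintype
  obtain ⟨i, hi⟩ := IsCofiltered.inf_objs_exists (insert i₀ (Finset.univ.image k))
  have d : i ⟶ i₀ := (hi (Finset.mem_insert_self _ _)).some
  have a : ∀ C, i ⟶ k C := fun C =>
    (hi (Finset.mem_insert_of_mem (Finset.mem_image_of_mem k (Finset.mem_univ C)))).some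
  have hScpt : CompactSpace (D.obj i) := QuasiCompact.compactSpace_of_compactSpace (D.map d)
  let U' : Set.range (connectedComponent : c.pt → Set c.pt) → (D.obj i).Opens :=
    fun C => D.map (a C) ⁻¹ᵁ U C
  have hU' : ∀ C, ((c.π.app i ⁻¹ᵁ U' C : c.pt.Opens) : Set c.pt) = C.1 := by
    intro C
    rw [← hU C]
    simp only [U']
    rw [← Scheme.Hom.comp_preimage, c.w]
  have hcov : c.π.app i ⁻¹ᵁ ⊤ ≤ c.π.app i ⁻¹ᵁ (⨆ C, U' C) := by
    intro x _
    rw [Scheme.Hom.preimage_iSup, TopologicalSpace.Opens.mem_iSup]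
    refine ⟨⟨connectedComponent x, x, rfl⟩, ?_⟩
    have : x ∈ ((c.π.app i ⁻¹ᵁ U' ⟨connectedComponent x, x, rfl⟩ : c.pt.Opens) : Set c.pt) := by
      rw [hU']; exact mem_connectedComponent
    exact this
  obtain ⟨i', f, hi'⟩ := exists_map_preimage_le_map_preimage D c hc
    (U := ⊤) (V := ⨆ C, U' C) isCompact_univ hcov
  refine ⟨i', f ≫ d, fun j φ => ?_⟩
  have := hdom j
  set ψ := D.map (φ ≫ f) with hψ
  have hπ : ∀ x : c.pt, ψ (c.π.app j x) = c.π.app i x := by
    intro x
    rw [← Scheme.Hom.comp_apply, hψ, c.w]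
  let V : Set.range (connectedComponent : c.pt → Set c.pt) → (D.obj j).Opens :=
    fun C => ψ ⁻¹ᵁ U' C
  have hVpre : ∀ C, (c.π.app j) ⁻¹' ((V C : (D.obj j).Opens) : Set (D.obj j)) = C.1 := by
    intro C
    rw [← hU' C]
    ext x
    show ψ (c.π.app j x) ∈ U' C ↔ c.π.app i x ∈ U' C
    rw [hπ]
  have hVcov : ∀ y : D.obj j, ∃ C, y ∈ V C := by
    intro y
    have h1 : y ∈ ψ ⁻¹ᵁ (⨆ C, U' C) := by
      have : y ∈ D.map φ ⁻¹ᵁ (D.map f ⁻¹ᵁ (⨆ C, U' C)) :=
        Scheme.Hom.preimage_mono (D.map φ) hi' (show y ∈ D.map φ ⁻¹ᵁ (D.map f ⁻¹ᵁ ⊤) by trivial)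
      rw [← Scheme.Hom.comp_preimage, ← D.map_comp] at this
      exact this
    rw [Scheme.Hom.preimage_iSup, TopologicalSpace.Opens.mem_iSup] at h1
    exact h1
  have hVdisj : ∀ C C', C ≠ C' → ∀ y : D.obj j, y ∈ V C → y ∈ V C' → False := by
    intro C C' hne y hy hy'
    obtain ⟨x, hx⟩ := (c.π.app j).denseRange.exists_mem_open ((V C).2.inter (V C').2) ⟨y, hy, hy'⟩
    have hxC : x ∈ C.1 := by rw [← hVpre C]; exact hx.1
    have hxC' : x ∈ C'.1 := by rw [← hVpre C']; exact hx.2
    obtain ⟨_, z, rfl⟩ := C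
    obtain ⟨_, z', rfl⟩ := C'
    apply hne
    apply Subtype.ext
    show connectedComponent z = connectedComponent z'
    rw [connectedComponent_eq hxC, connectedComponent_eq hxC']
  have hVclopen : ∀ C, IsClopen ((V C : (D.obj j).Opens) : Set (D.obj j)) := by
    intro C
    refine ⟨?_, (V C).2⟩
    have : ((V C : (D.obj j).Opens) : Set (D.obj j)) =
        (⋃ C' ∈ {C' | C' ≠ C}, ((V C' : (D.obj j).Opens) : Set (D.obj j)))ᶜ := by
      ext y
      simp only [Set.mem_compl_iff, Set.mem_iUnion, not_exists]
      constructor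
      · intro hy C' hC' hy'
        exact hVdisj C C' (Ne.symm hC') y hy hy'
      · intro h
        obtain ⟨C', hC'⟩ := hVcov y
        by_cases hCC' : C' = C
        · exact hCC' ▸ hC'
        · exact absurd hC' (h C' hCC')
    rw [this]
    exact (isOpen_biUnion fun C' _ => (V C').2).isClosed_compl
  refine Groth.Agent.Lib.Helper23.bijOn_connectedComponents_closure_image (c.π.app j)
    (c.π.app j).continuous (c.π.app j).denseRange hfin ?_
  intro x
  exact ⟨V ⟨connectedComponent x, x, rfl⟩, hVclopen _, hVpre _⟩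

end Groth.Agent.S4770
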