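import Groth.Statements.S4771
import Groth.Agent.Lib.Helper23.LimDominant
-- import your own Groth.Agent.* helpers here

set_option autoImplicit false
universe u
open CategoryTheory AlgebraicGeometry Limits
open Lim8

namespace Groth.Agent.S4771

/-- Let S = lim S_i be a cofiltered limit of schemes whose transition maps are affine and dominant, some
stage S_{i₀} being quasi-compact, and assume that the underlying topological space of S is
Noetherian. Then S is irreducible if and only if there is an index i over i₀ such that S_j is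
irreducible for every j over i. -/
theorem result {I : Type u} [SmallCategory I] [IsCofiltered I]
    (D : I ⥤ Scheme.{u}) (c : Limits.Cone D) (hc : Limits.IsLimit c)
    [∀ (i j : I) (f : i ⟶ j), IsAffineHom (D.map f)] (i₀ : I)
    [CompactSpace (D.obj i₀)] [TopologicalSpace.NoetherianSpace c.pt]
    (hd : ∀ (i j : I) (φ : i ⟶ j), IsDominant (D.map φ)) :
    IrreducibleSpace c.pt ↔ ∃ (i : I) (_ : i ⟶ i₀), ∀ (j : I) (_ : j ⟶ i), IrreducibleSpace (D.obj j) := by
  classical
  have inst : ∀ {i j : I} (f : i ⟶ j), IsAffineHom (D.map f) := fun f => inferInstance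
  have hdom := fun j => Groth.Agent.Lib.Helper23.isDominant_π_app D c hc hd j
  constructor
  · intro hirr
    refine ⟨i₀, 𝟙 i₀, fun j _ => ?_⟩
    have hpre : PreirreducibleSpace (D.obj j) := by
      refine PreirreducibleSpace.of_forall_nonempty_inter fun U V hU hV hUne hVne => ?_
      have := hdom j
      obtain ⟨x, hx⟩ := (c.π.app j).denseRange.exists_mem_open hU hUne
      obtain ⟨y, hy⟩ := (c.π.app j).denseRange.exists_mem_open hV hVne
      obtain ⟨z, hzU, hzV⟩ := @nonempty_preirreducible_inter c.pt _ _ _ hirr.toPreirreducibleSpace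
        (hU.preimage (c.π.app j).continuous) (hV.preimage (c.π.app j).continuous) ⟨x, hx⟩ ⟨y, hy⟩
      exact ⟨c.π.app j z, hzU, hzV⟩
    exact { toPreirreducibleSpace := hpre,
            toNonempty := ⟨c.π.app j (Classical.arbitrary c.pt)⟩ }
  · rintro ⟨i, d, hirr⟩
    have hScpt : ∀ (j : I) (_ : j ⟶ i), CompactSpace (D.obj j) := fun j φ =>
      QuasiCompact.compactSpace_of_compactSpace (D.map (φ ≫ d))
    have hne : Nonempty c.pt := by
      have h1 : ∀ k : Over i, Nonempty ((Over.forget i ⋙ D).obj k) := fun k =>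
        (hirr k.left k.hom).toNonempty
      have h2 : ∀ k : Over i, CompactSpace ((Over.forget i ⋙ D).obj k) := fun k =>
        hScpt k.left k.hom
      have h3 : ∀ {k l : Over i} (f : k ⟶ l), IsAffineHom ((Over.forget i ⋙ D).map f) := by
        intro k l f; dsimp; infer_instance
      exact Scheme.nonempty_of_isLimit (Over.forget i ⋙ D) _
        ((Functor.Initial.isLimitWhiskerEquiv (Over.forget i) c).symm hc)
    refine { toPreirreducibleSpace := ?_, toNonempty := hne }
    refine PreirreducibleSpace.of_forall_nonempty_inter fun U V hU hV ⟨x, hx⟩ ⟨y, hy⟩ => ?_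
    have hbasis := isBasis_preimage_isAffineOpen D c hc
    obtain ⟨_, ⟨_, ⟨j₁, A₁, hA₁, rfl⟩, rfl⟩, hxA₁, hA₁U⟩ :=
      hbasis.exists_subset_of_mem_open (show x ∈ (⟨U, hU⟩ : c.pt.Opens) from hx) hU
    obtain ⟨_, ⟨_, ⟨j₂, A₂, hA₂, rfl⟩, rfl⟩, hyA₂, hA₂V⟩ :=
      hbasis.exists_subset_of_mem_open (show y ∈ (⟨V, hV⟩ : c.pt.Opens) from hy) hV
    obtain ⟨k, hk⟩ := IsCofiltered.inf_objs_exists ({i, j₁, j₂} : Finset I)
    have e : k ⟶ i := (hk (by simp)).some
    have a : k ⟶ j₁ := (hk (by simp)).some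
    have b : k ⟶ j₂ := (hk (by simp)).some
    have := hirr k e
    have := hdom k
    have hxk : D.map a (c.π.app k x) ∈ A₁ := by
      rw [← Scheme.Hom.comp_apply, c.w]; exact hxA₁
    have hyk : D.map b (c.π.app k y) ∈ A₂ := by
      rw [← Scheme.Hom.comp_apply, c.w]; exact hyA₂
    obtain ⟨z, hz⟩ := nonempty_preirreducible_inter (D.map a ⁻¹ᵁ A₁).2 (D.map b ⁻¹ᵁ A₂).2
      ⟨c.π.app k x, hxk⟩ ⟨c.π.app k y, hyk⟩
    obtain ⟨w, hw⟩ := (c.π.app k).denseRange.exists_mem_open
      ((D.map a ⁻¹ᵁ A₁).2.inter (D.map b ⁻¹ᵁ A₂).2) ⟨z, hz⟩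
    refine ⟨w, hA₁U ?_, hA₂V ?_⟩
    · show c.π.app j₁ w ∈ A₁
      rw [← c.w a, Scheme.Hom.comp_apply]; exact hw.1
    · show c.π.app j₂ w ∈ A₂
      rw [← c.w b, Scheme.Hom.comp_apply]; exact hw.2

end Groth.Agent.S4771
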