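import Groth.Statements.S4772
import Groth.Agent.Lib.Helper23.LimDominant
-- import your own Groth.Agent.* helpers here

set_option autoImplicit false
universe u
open CategoryTheory AlgebraicGeometry Limits
open Lim8

namespace Groth.Agent.S4772

/-- Let S = lim S_i be a cofiltered limit of schemes whose transition maps are affine and dominant, some
stage S_{i₀} being quasi-compact. Then S is connected (in particular nonempty) if and only if there
is an index i over i₀ such that S_j is connected for every j over i. -/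
theorem result {I : Type u} [SmallCategory I] [IsCofiltered I]
    (D : I ⥤ Scheme.{u}) (c : Limits.Cone D) (hc : Limits.IsLimit c)
    [∀ (i j : I) (f : i ⟶ j), IsAffineHom (D.map f)] (i₀ : I)
    [CompactSpace (D.obj i₀)] (hd : ∀ (i j : I) (φ : i ⟶ j), IsDominant (D.map φ)) :
    ConnectedSpace c.pt ↔ ∃ (i : I) (_ : i ⟶ i₀), ∀ (j : I) (_ : j ⟶ i), ConnectedSpace (D.obj j) := by
  classical
  have inst : ∀ {i j : I} (f : i ⟶ j), IsAffineHom (D.map f) := fun f => inferInstance
  constructor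
  · intro hconn
    refine ⟨i₀, 𝟙 i₀, fun j _ => ?_⟩
    have := Groth.Agent.Lib.Helper23.isDominant_π_app D c hc hd j
    have hpre : PreconnectedSpace (D.obj j) :=
      @DenseRange.preconnectedSpace c.pt (D.obj j) _ _ hconn.toPreconnectedSpace _
        (c.π.app j).denseRange (c.π.app j).continuous
    exact { toPreconnectedSpace := hpre, toNonempty := ⟨c.π.app j (Classical.arbitrary c.pt)⟩ }
  · rintro ⟨i, d, hconn⟩
    have hScpt : ∀ (j : I) (_ : j ⟶ i), CompactSpace (D.obj j) := fun j φ =>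
      QuasiCompact.compactSpace_of_compactSpace (D.map (φ ≫ d))
    -- the limit is nonempty
    have hne : Nonempty c.pt := by
      have h1 : ∀ k : Over i, Nonempty ((Over.forget i ⋙ D).obj k) := fun k =>
        (hconn k.left k.hom).toNonempty
      have h2 : ∀ k : Over i, CompactSpace ((Over.forget i ⋙ D).obj k) := fun k =>
        hScpt k.left k.hom
      have h3 : ∀ {k l : Over i} (f : k ⟶ l), IsAffineHom ((Over.forget i ⋙ D).map f) := by
        intro k l f; dsimp; infer_instance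
      exact Scheme.nonempty_of_isLimit (Over.forget i ⋙ D) _
        ((Functor.Initial.isLimitWhiskerEquiv (Over.forget i) c).symm hc)
    have hπaff := isAffineHom_π_app D c hc i₀
    have hcpt : CompactSpace c.pt := QuasiCompact.compactSpace_of_compactSpace (c.π.app i₀)
    refine { toPreconnectedSpace := ?_, toNonempty := hne }
    by_contra h
    rw [preconnectedSpace_iff_clopen] at h
    push Not at h
    obtain ⟨s, hs, hsne, hsuniv⟩ := h
    let U : c.pt.Opens := ⟨s, hs.2⟩
    let V : c.pt.Opens := ⟨sᶜ, hs.1.isOpen_compl⟩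
    have hUc : IsCompact (U : Set c.pt) := hs.1.isCompact
    have hVc : IsCompact (V : Set c.pt) := hs.2.isClosed_compl.isCompact
    obtain ⟨i₁, U₁, hU₁c, hU₁⟩ := exists_preimage_eq D c hc U hUc
    obtain ⟨i₂, V₂, hV₂c, hV₂⟩ := exists_preimage_eq D c hc V hVc
    obtain ⟨j, hj⟩ := IsCofiltered.inf_objs_exists ({i, i₁, i₂} : Finset I)
    have e : j ⟶ i := (hj (by simp)).some
    have a : j ⟶ i₁ := (hj (by simp)).some
    have b : j ⟶ i₂ := (hj (by simp)).some
    have hjcpt : CompactSpace (D.obj j) := hScpt j e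
    let U' : (D.obj j).Opens := D.map a ⁻¹ᵁ U₁
    let V' : (D.obj j).Opens := D.map b ⁻¹ᵁ V₂
    have hU' : c.π.app j ⁻¹ᵁ U' = U := by
      rw [← hU₁, ← Scheme.Hom.comp_preimage, c.w]
    have hV' : c.π.app j ⁻¹ᵁ V' = V := by
      rw [← hV₂, ← Scheme.Hom.comp_preimage, c.w]
    have hunion : c.π.app j ⁻¹ᵁ ⊤ ≤ c.π.app j ⁻¹ᵁ (U' ⊔ V') := by
      rw [Scheme.Hom.preimage_sup, hU', hV']
      intro x _
      by_cases hx : x ∈ s
      · exact Or.inl hx
      · exact Or.inr hx
    obtain ⟨k, f, hk⟩ := exists_map_preimage_le_map_preimage D c hc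
      (U := ⊤) (V := U' ⊔ V') isCompact_univ hunion
    have hkconn := hconn k (f ≫ e)
    have hdom := Groth.Agent.Lib.Helper23.isDominant_π_app D c hc hd k
    set ψ := D.map f with hψ
    have hπ : ∀ x : c.pt, ψ (c.π.app k x) = c.π.app j x := by
      intro x
      rw [← Scheme.Hom.comp_apply, hψ, c.w]
    -- `ψ⁻¹ U' ∩ ψ⁻¹ V'` is empty since its preimage in the limit is
    have hdisj : ∀ y : D.obj k, ψ y ∈ U' → ψ y ∈ V' → False := by
      intro y hyU hyV
      obtain ⟨x, hz⟩ := (c.π.app k).denseRange.exists_mem_open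
        ((ψ ⁻¹ᵁ U').2.inter (ψ ⁻¹ᵁ V').2) ⟨y, hyU, hyV⟩
      have hzU : ψ (c.π.app k x) ∈ U' := hz.1
      have hzV : ψ (c.π.app k x) ∈ V' := hz.2
      have h1 : x ∈ c.π.app j ⁻¹ᵁ U' := by
        show c.π.app j x ∈ U'
        rw [← hπ]; exact hzU
      have h2 : x ∈ c.π.app j ⁻¹ᵁ V' := by
        show c.π.app j x ∈ V'
        rw [← hπ]; exact hzV
      rw [hU'] at h1
      rw [hV'] at h2
      exact h2 h1
    have hclopen : IsClopen ((ψ ⁻¹ᵁ U' : (D.obj k).Opens) : Set (D.obj k)) := by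
      refine ⟨?_, (ψ ⁻¹ᵁ U').2⟩
      have : ((ψ ⁻¹ᵁ U' : (D.obj k).Opens) : Set (D.obj k)) =
          ((ψ ⁻¹ᵁ V' : (D.obj k).Opens) : Set (D.obj k))ᶜ := by
        ext y
        have h2 : y ∈ ψ ⁻¹ᵁ (U' ⊔ V') := hk (by trivial)
        have h2' : ψ y ∈ U' ∨ ψ y ∈ V' := h2
        have h1 := hdisj y
        show ψ y ∈ U' ↔ ¬ ψ y ∈ V'
        tauto
      rw [this]
      exact (ψ ⁻¹ᵁ V').2.isClosed_compl
    rcases isClopen_iff.mp hclopen with h0 | h1
    · obtain ⟨x, hx⟩ := hsne
      have hxU : x ∈ c.π.app j ⁻¹ᵁ U' := by rw [hU']; exact hx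
      have : c.π.app k x ∈ ((ψ ⁻¹ᵁ U' : (D.obj k).Opens) : Set (D.obj k)) := by
        show ψ (c.π.app k x) ∈ U'
        rw [hπ]; exact hxU
      rw [h0] at this
      exact this
    · obtain ⟨x, hx⟩ := Set.nonempty_compl.mpr hsuniv
      have hxV : x ∈ c.π.app j ⁻¹ᵁ V' := by rw [hV']; exact hx
      have hmem : c.π.app k x ∈ ((ψ ⁻¹ᵁ U' : (D.obj k).Opens) : Set (D.obj k)) := by
        rw [h1]; trivial
      have hmem' : ψ (c.π.app k x) ∈ V' := by
        rw [hπ]; exact hxV
      exact hdisj _ hmem hmem'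

end Groth.Agent.S4772
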