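import Groth.Statements.S4774
import Groth.Agent.Lib.Helper23.LimReduced
-- import your own Groth.Agent.* helpers here

set_option autoImplicit false
universe u
open CategoryTheory AlgebraicGeometry Limits
open Lim8

namespace Groth.Agent.S4774

/-- Let S = lim S_i be a cofiltered limit of schemes with affine transition maps. If S is not reduced,
then there is an index i such that S_j is not reduced for every index j over i. -/
theorem result {I : Type u} [SmallCategory I] [IsCofiltered I]
    (D : I ⥤ Scheme.{u}) (c : Limits.Cone D) (hc : Limits.IsLimit c)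
    [∀ (i j : I) (f : i ⟶ j), IsAffineHom (D.map f)] (h : ¬ IsReduced c.pt) :
    ∃ (i : I), ∀ (j : I) (_ : j ⟶ i), ¬ IsReduced (D.obj j) := by
  obtain ⟨i₀⟩ := IsCofiltered.nonempty (C := I)
  have inst : ∀ {i j : I} (f : i ⟶ j), IsAffineHom (D.map f) := fun f => inferInstance
  -- some `π⁻¹ V`, `V` affine open in `S_{i₀}`, is not reduced
  have hex : ∃ V : (D.obj i₀).affineOpens, ¬ IsReduced ((c.π.app i₀ ⁻¹ᵁ V.1 : c.pt.Opens) : Scheme.{u}) := by
    by_contra hall
    push Not at hall
    apply h
    have hcov : TopologicalSpace.IsOpenCover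
        (fun V : (D.obj i₀).affineOpens => c.π.app i₀ ⁻¹ᵁ V.1) :=
      .comap (iSup_affineOpens_eq_top (D.obj i₀)) (c.π.app i₀).base.1
    have : ∀ V, IsReduced ((c.pt.openCoverOfIsOpenCover _ hcov).X V) := hall
    exact IsReduced.of_openCover _ (c.pt.openCoverOfIsOpenCover _ hcov)
  obtain ⟨V, hV⟩ := hex
  have (j : Over i₀) : IsAffine ((opensDiagram D i₀ V.1).obj j) := V.2.preimage (D.map _)
  obtain ⟨j, hj⟩ := Groth.Agent.Lib.Helper23.exists_forall_not_isReduced_of_isAffine
    (opensDiagram D i₀ V.1) (opensCone D c i₀ V.1) (isLimitOpensCone D c hc i₀ V.1) hV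
  refine ⟨j.left, fun k g hred => ?_⟩
  apply hj (Over.mk (g ≫ j.hom)) (Over.homMk g rfl)
  show IsReduced ((D.map (g ≫ j.hom) ⁻¹ᵁ V.1 : (D.obj k).Opens) : Scheme.{u})
  infer_instance

end Groth.Agent.S4774
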