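import Groth.Statements.S4775
import Groth.Agent.S4774
import Groth.Agent.Lib.Helper23.FlatSurj
-- import your own Groth.Agent.* helpers here

set_option autoImplicit false
universe u
open CategoryTheory AlgebraicGeometry Limits
open Lim8

namespace Groth.Agent.S4775

/-- Let S = lim S_i be a cofiltered limit of schemes whose transition maps are affine, flat and
surjective. Then S is reduced if and only if every S_i is reduced. -/
theorem result {I : Type u} [SmallCategory I] [IsCofiltered I]
    (D : I ⥤ Scheme.{u}) (c : Limits.Cone D) (hc : Limits.IsLimit c)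
    [∀ (i j : I) (f : i ⟶ j), IsAffineHom (D.map f)]
    (hf : ∀ (i j : I) (φ : i ⟶ j), Flat (D.map φ) ∧ Surjective (D.map φ)) :
    IsReduced c.pt ↔ ∀ (i : I), IsReduced (D.obj i) := by
  have inst : ∀ {i j : I} (f : i ⟶ j), IsAffineHom (D.map f) := fun f => inferInstance
  constructor
  · intro hred i
    refine ⟨fun U => ?_⟩
    rw [isReduced_iff]
    intro t ht
    apply (D.obj i).IsSheaf.section_ext
    rintro x hxU
    obtain ⟨_, ⟨V, hV : IsAffineOpen V, rfl⟩, hxV, hVU⟩ :=
      (D.obj i).isBasis_affineOpens.exists_subset_of_mem_open hxU U.2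
    refine ⟨V, hVU, hxV, ?_⟩
    rw [map_zero]
    set t' := (D.obj i).presheaf.map (homOfLE hVU).op t with ht'
    have ht'nil : IsNilpotent t' := ht.map _
    have hredV : _root_.IsReduced Γ(c.pt, c.π.app i ⁻¹ᵁ V) := inferInstance
    have h0 : (c.π.app i).app V t' = 0 :=
      @IsNilpotent.eq_zero _ _ _ _ hredV (ht'nil.map ((c.π.app i).app V).hom)
    obtain ⟨j, φ, hj⟩ := exists_app_map_eq_zero_of_isLimit D c hc hV.isCompact t' h0
    have := (hf j i φ).1
    have := (hf j i φ).2
    exact Groth.Agent.Lib.Helper23.app_injective_of_flat_of_surjective (D.map φ) V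
      (hj.trans (map_zero _).symm)
  · intro hall
    by_contra hnot
    obtain ⟨i, hi⟩ := Groth.Agent.S4774.result D c hc hnot
    exact hi i (𝟙 i) (hall i)

end Groth.Agent.S4775
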