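import Mathlib
import Groth.Statements.S4777
import Groth.Agent.Lib.Helper23.AlgColimPres

set_option autoImplicit false
universe u
open CategoryTheory AlgebraicGeometry
open Groth.Agent.Lib.Helper23

namespace Groth.Agent.S4777

/-- Let B be an algebra over a commutative ring A. If, for every inductive system (C_λ) of A-algebras
indexed by a nonempty directed preordered set, the canonical map colim Hom_A(B, C_λ) → Hom_A(B,
colim C_λ) is bijective (that is, Hom_A(B, -) preserves the colimit of the system), then B is an
A-algebra of finite presentation. (This is the necessity half of the characterization of algebras of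
finite presentation by this property; the converse is standard.) -/
theorem result {A B : CommRingCat.{u}} (f : A ⟶ B)
    (h : ∀ (J : Type u) [Preorder J] [IsDirected J (· ≤ ·)] [Nonempty J] (F : J ⥤ Under A),
      Limits.PreservesColimit F (coyoneda.obj (Opposite.op (Under.mk f)))) :
    f.hom.FinitePresentation := by
  classical
  let _ : Algebra A B := f.hom.toAlgebra
  -- Step 1: `B` is of finite type
  have hft : Algebra.FiniteType A B := by
    have h1 := h (Finset B) (fgDiagram A B)
    have hc1 := Limits.isColimitOfPreserves (coyoneda.obj (Opposite.op (Under.mk f)))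
      (isColimitFgCocone (A := A) (B := B))
    obtain ⟨s, g, hg⟩ := Limits.Types.jointly_surjective_of_isColimit hc1 (𝟙 (Under.mk f))
    have hg' : g ≫ (fgCocone A B).ι.app s = 𝟙 (Under.mk f) := hg
    refine ⟨⟨s, ?_⟩⟩
    rw [eq_top_iff]
    intro b _
    have h2 := congr($(hg').right b)
    have h3 : ((g ≫ (fgCocone A B).ι.app s).right b : B) ∈ Algebra.adjoin A (s : Set B) :=
      (g.right b : Algebra.adjoin A (s : Set B)).2
    rw [h2] at h3
    exact h3
  -- Step 2: a presentation
  obtain ⟨n, π, hπ⟩ := Algebra.FiniteType.iff_quotient_mvPolynomial''.mp hft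
  have h2 := h (Finset (RingHom.ker π)) (quotDiagram π)
  have hc2 := Limits.isColimitOfPreserves (coyoneda.obj (Opposite.op (Under.mk f)))
    (isColimitQuotCocone hπ)
  obtain ⟨t, σ, hσ⟩ := Limits.Types.jointly_surjective_of_isColimit hc2 (𝟙 (Under.mk f))
  have hσ' : σ ≫ (quotCocone π).ι.app t = 𝟙 (Under.mk f) := hσ
  have hfp : Algebra.FinitePresentation A (MvPolynomial (Fin n) A ⧸ spanFin π t) :=
    Algebra.FinitePresentation.quotient (spanFin_fg π t)
  let ρ : (MvPolynomial (Fin n) A ⧸ spanFin π t) →ₐ[A] B :=
    Ideal.Quotient.liftₐ (spanFin π t) π (fun p hp => spanFin_le π t hp)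
  let σ' : B →ₐ[A] (MvPolynomial (Fin n) A ⧸ spanFin π t) :=
    { σ.right.hom with
      commutes' := fun a => congr($(Under.w σ) a) }
  have hρσ : ∀ b, ρ (σ' b) = b := fun b => congr($(hσ').right b)
  have hsurj : Function.Surjective ρ := fun b => ⟨σ' b, hρσ b⟩
  have hker : (RingHom.ker ρ.toRingHom).FG := ker_fg_of_section ρ σ' hρσ
  exact Algebra.FinitePresentation.of_surjective hsurj hker

end Groth.Agent.S4777
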