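import Mathlib
import Groth.Statements.S4778
import Groth.Agent.Lib.Helper23.LfpOfColimOver

set_option autoImplicit false
universe u
open CategoryTheory AlgebraicGeometry
open Lim8
open Groth.Agent.Lib.Helper23

namespace Groth.Agent.S4778

/-- Let f : X ⟶ S be a morphism of schemes. Suppose that for every affine open U of S and every
projective system (Z_λ) of U-schemes indexed by a nonempty directed preordered set, with every Z_λ
an affine scheme, the functor Hom_S(-, X) takes the limit of the system to the colimit of the
Hom_S(Z_λ, X) (the canonical map from the colimit is bijective). Then f is locally of finite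
presentation. -/
theorem result {X S : Scheme.{u}} (f : X ⟶ S)
    (h : ∀ (U : S.Opens), IsAffineOpen U →
      ∀ (J : Type u) [Preorder J] [IsDirected J (· ≤ ·)] [Nonempty J] (Z : Jᵒᵖ ⥤ Over (U : Scheme.{u})),
      (∀ j, IsAffine (Z.obj j).left) →
      Limits.PreservesColimit (Z ⋙ Over.map U.ι).op (yoneda.obj (Over.mk f))) :
    LocallyOfFinitePresentation f := by
  apply locallyOfFinitePresentation_of_factorization
  intro U hU J _ _ _ F cc hcc G hG
  have hP := h U hU J (overDiagram hU F) (fun j => inferInstance)
  have hc := Limits.isColimitOfPreserves (yoneda.obj (Over.mk f)) (isLimitOverCone hU F hcc).op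
  let x : (overCone hU F cc).pt ⟶ Over.mk f := Over.homMk G hG
  obtain ⟨j, y, hy⟩ := Limits.Types.jointly_surjective_of_isColimit hc x
  have hy' : (overCone hU F cc).π.app j.unop ≫ y = x := hy
  refine ⟨j.unop.unop, y.left, ?_, ?_⟩
  · exact Over.w y
  · exact congr($(hy').left)

end Groth.Agent.S4778
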