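import Mathlib
import Groth.Statements.S4779
import Groth.Agent.Lib.Helper23.LimOpenMap

set_option autoImplicit false
universe u
open CategoryTheory AlgebraicGeometry
open Lim8

namespace Groth.Agent.S4779

open Groth.Agent.Lib.Helper23 in
/-- Let S = lim S_i be a cofiltered limit of schemes with affine transition maps, let f₀ : X₀ ⟶ Y₀ be a
morphism of schemes over a stage S_{i₀}, and let f : X ⟶ Y be its base change along S ⟶ S_{i₀} (all
base changes are expressed by pullback squares). If there is an index i over i₀ such that, for every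
j over i, the base change f_j : X_j ⟶ Y_j of f₀ along S_j ⟶ S_{i₀} is an open map, then f is an open
map. (The corresponding statement for universally open morphisms follows from this one by base
change.) -/
theorem result {I : Type u} [SmallCategory I] [IsCofiltered I]
    (D : I ⥤ Scheme.{u}) (c : Limits.Cone D) (hc : Limits.IsLimit c)
    [∀ (i j : I) (f : i ⟶ j), IsAffineHom (D.map f)] (i₀ : I)
    {X₀ Y₀ : Scheme.{u}} (f₀ : X₀ ⟶ Y₀) (g₀ : Y₀ ⟶ D.obj i₀)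
    {X Y : Scheme.{u}} (f : X ⟶ Y) (g : Y ⟶ c.pt) (qY : Y ⟶ Y₀) (qX : X ⟶ X₀)
    (hY : IsPullback qY g g₀ (c.π.app i₀)) (hX : IsPullback qX f f₀ qY)
    (h : ∃ (i : I) (φ : i ⟶ i₀), ∀ (j : I) (ψ : j ⟶ i) (Xj Yj : Scheme.{u}) (fj : Xj ⟶ Yj)
      (gj : Yj ⟶ D.obj j) (pY : Yj ⟶ Y₀) (pX : Xj ⟶ X₀),
      IsPullback pY gj g₀ (D.map (ψ ≫ φ)) → IsPullback pX fj f₀ pY → IsOpenMap ⇑fj) :
    IsOpenMap ⇑f := by
  have inst : ∀ {i j : I} (f : i ⟶ j), IsAffineHom (D.map f) := fun f => inferInstance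
  obtain ⟨i, φ, hi⟩ := h
  -- the morphism between the base-changed limits is open
  have hopen : IsOpenMap (bcPtMap D c i₀ f₀ g₀) := by
    refine isOpenMap_of_eventually_isOpenMap (bcDiagram D i₀ (f₀ ≫ g₀)) (bcDiagram D i₀ g₀)
      (bcCone D c i₀ (f₀ ≫ g₀)) (bcCone D c i₀ g₀) (isLimitBcCone D c i₀ (f₀ ≫ g₀) hc)
      (bcPtMap D c i₀ f₀ g₀) (bcMap D i₀ f₀ g₀) (isPullback_bcCone_π_bcPtMap D c i₀ f₀ g₀)
      (Over.mk φ) ?_
    intro j b
    refine hi j.left b.left _ _ (bcMap D i₀ f₀ g₀ j) (bcFst D i₀ g₀ j) (bcSnd D i₀ g₀ j)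
      (bcSnd D i₀ (f₀ ≫ g₀) j) ?_ (isPullback_bcMap D i₀ f₀ g₀ j)
    have hw : b.left ≫ φ = j.hom := Over.w b
    rw [hw]
    exact (isPullback_bcObj D i₀ g₀ j).flip
  -- compare with the given squares
  have hXbig : IsPullback qX (f ≫ g) (f₀ ≫ g₀) (c.π.app i₀) := hX.paste_vert hY
  let eY : Y ≅ (bcCone D c i₀ g₀).pt := hY.isoIsPullback _ _ (isPullback_bcPt D c i₀ g₀).flip
  let eX : X ≅ (bcCone D c i₀ (f₀ ≫ g₀)).pt :=
    hXbig.isoIsPullback _ _ (isPullback_bcPt D c i₀ (f₀ ≫ g₀)).flip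
  have heY1 : eY.hom ≫ bcPtSnd D c i₀ g₀ = qY := IsPullback.isoIsPullback_hom_fst _ _ _ _
  have heY2 : eY.hom ≫ bcPtFst D c i₀ g₀ = g := IsPullback.isoIsPullback_hom_snd _ _ _ _
  have heX1 : eX.hom ≫ bcPtSnd D c i₀ (f₀ ≫ g₀) = qX := IsPullback.isoIsPullback_hom_fst _ _ _ _
  have heX2 : eX.hom ≫ bcPtFst D c i₀ (f₀ ≫ g₀) = f ≫ g :=
    IsPullback.isoIsPullback_hom_snd _ _ _ _
  have hcomm : f ≫ eY.hom = eX.hom ≫ bcPtMap D c i₀ f₀ g₀ := by
    apply (isPullback_bcPt D c i₀ g₀).hom_ext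
    · rw [Category.assoc, heY2, Category.assoc, bcPtMap_fst, heX2]
    · rw [Category.assoc, heY1, Category.assoc, bcPtMap_snd, ← Category.assoc, heX1, hX.w]
  have hf : f = eX.hom ≫ bcPtMap D c i₀ f₀ g₀ ≫ eY.inv := by
    rw [← Category.assoc, ← hcomm, Category.assoc, Iso.hom_inv_id, Category.comp_id]
  rw [hf]
  simp only [Scheme.Hom.comp_base, TopCat.hom_comp, ContinuousMap.coe_comp]
  exact ((Scheme.homeoOfIso eY.symm).isOpenMap.comp hopen).comp (Scheme.homeoOfIso eX).isOpenMap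

end Groth.Agent.S4779
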