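import Groth.Statements.S4780
import Groth.Agent.S1373
-- import your own Groth.Agent.* helpers here

set_option autoImplicit false
universe u
open CategoryTheory AlgebraicGeometry
open Lim8

namespace Groth.Agent.S4780


open CategoryTheory.Limits in
/-- `AffineSpace.map n f` is open iff the projection `X ×[Y] 𝔸ⁿ_Y ⟶ 𝔸ⁿ_Y` is. -/
theorem isOpenMap_map_of_snd {X Y : Scheme.{u}} (f : X ⟶ Y) (n : Type u)
    (h : IsOpenMap ⇑(pullback.snd f (AffineSpace n Y ↘ Y))) :
    IsOpenMap ⇑(AffineSpace.map n f) := by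
  have hpb := (AffineSpace.isPullback_map (n := n) f).flip
  have h1 : AffineSpace.map n f = hpb.isoPullback.hom ≫ pullback.snd f (AffineSpace n Y ↘ Y) :=
    (hpb.isoPullback_hom_snd).symm
  rw [h1, Scheme.Hom.comp_base, TopCat.coe_comp]
  exact h.comp hpb.isoPullback.hom.homeomorph.isOpenMap

open CategoryTheory.Limits in
/-- If `X ×[Y] 𝔸ⁿ_Y ⟶ 𝔸ⁿ_Y` is open then so is `f`. -/
theorem isOpenMap_of_snd {X Y : Scheme.{u}} (f : X ⟶ Y) (n : Type u)
    (h : IsOpenMap ⇑(pullback.snd f (AffineSpace n Y ↘ Y))) : IsOpenMap ⇑f := by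
  intro W hW
  have key : f '' W = (AffineSpace n Y ↘ Y) '' ((pullback.snd f (AffineSpace n Y ↘ Y)) ''
      ((pullback.fst f (AffineSpace n Y ↘ Y)) ⁻¹' W)) := by
    ext y
    constructor
    · rintro ⟨w, hw, rfl⟩
      obtain ⟨a, ha⟩ := (AffineSpace n Y ↘ Y).surjective (f w)
      obtain ⟨z, hz1, hz2⟩ := Scheme.Pullback.exists_preimage_pullback
        (f := f) (g := AffineSpace n Y ↘ Y) w a ha.symm
      exact ⟨a, ⟨z, by rw [Set.mem_preimage, hz1]; exact hw, hz2⟩, ha⟩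
    · rintro ⟨_, ⟨z, hz, rfl⟩, rfl⟩
      refine ⟨_, hz, ?_⟩
      rw [← Scheme.Hom.comp_apply, ← Scheme.Hom.comp_apply, pullback.condition]
  rw [key]
  exact (AffineSpace.isOpenMap_over (n := n) (S := Y)) _ (h _ (hW.preimage (pullback.fst f _).continuous))

/-- Let f : X ⟶ Y be a morphism of schemes. If, for every integer n > 0, the base change of f to affine
n-space over Y, X ×_Y 𝔸ⁿ_Y ⟶ 𝔸ⁿ_Y, is an open map of topological spaces, then f is universally open. -/
theorem result {X Y : Scheme.{u}} (f : X ⟶ Y)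
    (h : ∀ n : ℕ, 0 < n →
      IsOpenMap ⇑(Limits.pullback.snd f (AffineSpace (ULift.{u} (Fin n)) Y ↘ Y))) :
    UniversallyOpen f := by
  rw [Groth.Agent.S1373.result]
  intro n
  rcases Nat.eq_zero_or_pos n with rfl | hn
  · have hf : IsOpenMap ⇑f := isOpenMap_of_snd f _ (h 1 Nat.one_pos)
    have h1 : AffineSpace.map (ULift.{u} (Fin 0)) f =
        (AffineSpace (ULift.{u} (Fin 0)) X ↘ X) ≫ f ≫ inv (AffineSpace (ULift.{u} (Fin 0)) Y ↘ Y) := by
      rw [← Category.assoc, IsIso.eq_comp_inv, AffineSpace.map_over]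
    rw [h1, Scheme.Hom.comp_base, Scheme.Hom.comp_base, TopCat.coe_comp, TopCat.coe_comp]
    exact ((inv (AffineSpace (ULift.{u} (Fin 0)) Y ↘ Y)).homeomorph.isOpenMap.comp hf).comp
      (AffineSpace (ULift.{u} (Fin 0)) X ↘ X).homeomorph.isOpenMap
  · exact isOpenMap_map_of_snd f _ (h n hn)

end Groth.Agent.S4780
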