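import Groth.Statements.S4782
import Groth.Agent.H46.LimOpenImm
import Groth.Agent.H46.ReducedLocus

set_option autoImplicit false
universe u
open CategoryTheory AlgebraicGeometry
open Lim8

namespace Groth.Agent.S4782

/-- Let S = lim S_i be a cofiltered limit of schemes whose transition maps are open immersions (in
particular affine), and let S_{i₀} be a quasi-compact stage whose nilradical is an ideal of finite
type, i.e. for every affine open U of S_{i₀} the nilradical of Γ(S_{i₀}, U) is finitely generated
(automatic when S_{i₀} is Noetherian). Then S is reduced if and only if there is an index i over i₀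
such that S_j is reduced for every j over i. -/
theorem result {I : Type u} [SmallCategory I] [IsCofiltered I]
    (D : I ⥤ Scheme.{u}) (c : Limits.Cone D) (hc : Limits.IsLimit c)
    [∀ (i j : I) (f : i ⟶ j), IsAffineHom (D.map f)] (i₀ : I)
    [CompactSpace (D.obj i₀)] (hoi : ∀ (i j : I) (φ : i ⟶ j), IsOpenImmersion (D.map φ))
    (hN : ∀ U : (D.obj i₀).affineOpens, (nilradical Γ(D.obj i₀, U)).FG) :
    IsReduced c.pt ↔ ∃ (i : I) (_ : i ⟶ i₀), ∀ (j : I) (_ : j ⟶ i), IsReduced (D.obj j) := by
  have inst : ∀ {i j : I} (f : i ⟶ j), IsAffineHom (D.map f) := fun f => inferInstance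
  constructor
  · intro hred
    -- the restricted diagram over `i₀`
    have hc' : Limits.IsLimit (c.whisker (Over.forget i₀)) :=
      (Functor.Initial.isLimitWhiskerEquiv (Over.forget i₀) c).symm hc
    have instA : ∀ {j k : Over i₀} (f : j ⟶ k), IsAffineHom ((Over.forget i₀ ⋙ D).map f) := by
      intro j k f; dsimp; infer_instance
    have instC : ∀ j : Over i₀, CompactSpace ((Over.forget i₀ ⋙ D).obj j) := by
      intro j
      exact QuasiCompact.compactSpace_of_compactSpace (D.map j.hom)
    let U : (D.obj i₀).Opens :=
      ⟨{x | _root_.IsReduced ((D.obj i₀).presheaf.stalk x)},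
        Groth.Agent.H46.ReducedLocus.isOpen_reducedLocus _ hN⟩
    have hU : (c.whisker (Over.forget i₀)).π.app (Over.mk (𝟙 i₀)) ⁻¹ᵁ U = ⊤ := by
      rw [eq_top_iff]
      intro s _
      show _root_.IsReduced ((D.obj i₀).presheaf.stalk (c.π.app i₀ s))
      have hiso := Groth.Agent.H46.LimOpenImm.isIso_stalkMap_π_app D c hc hoi i₀ s
      have hs : _root_.IsReduced (c.pt.presheaf.stalk s) := inferInstance
      exact Groth.Agent.H46.ReducedLocus.isReduced_source_of_isIso ((c.π.app i₀).stalkMap s) hs
    obtain ⟨j, fji, hj⟩ := exists_map_eq_top (Over.forget i₀ ⋙ D) _ hc' (i := Over.mk (𝟙 i₀)) U hU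
    have hjred : IsReduced (D.obj j.left) := by
      have : ∀ y : D.obj j.left, _root_.IsReduced ((D.obj j.left).presheaf.stalk y) := by
        intro y
        have hy : (D.map fji.left) y ∈ U := by
          have : y ∈ (Over.forget i₀ ⋙ D).map fji ⁻¹ᵁ U := by rw [hj]; trivial
          exact this
        have hy' : _root_.IsReduced ((D.obj i₀).presheaf.stalk ((D.map fji.left) y)) := hy
        have := hoi _ _ fji.left
        have hiso : IsIso ((D.map fji.left).stalkMap y) := inferInstance
        exact Groth.Agent.H46.ReducedLocus.isReduced_target_of_isIso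
          ((D.map fji.left).stalkMap y) hy' 
      exact isReduced_of_isReduced_stalk _
    refine ⟨j.left, j.hom, fun j' g => ?_⟩
    have := hoi _ _ g
    exact isReduced_of_isOpenImmersion (D.map g)
  · rintro ⟨i, φ, h⟩
    have hi : IsReduced (D.obj i) := h i (𝟙 i)
    have : ∀ s : c.pt, _root_.IsReduced (c.pt.presheaf.stalk s) := by
      intro s
      have hiso := Groth.Agent.H46.LimOpenImm.isIso_stalkMap_π_app D c hc hoi i s
      exact Groth.Agent.H46.ReducedLocus.isReduced_target_of_isIso
        ((c.π.app i).stalkMap s) inferInstance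
    exact isReduced_of_isReduced_stalk _

end Groth.Agent.S4782
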