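import Groth.Statements.S4783
import Groth.Agent.H46.LimOpenImm2
import Groth.Agent.H46.IrredCore
import Groth.Agent.S4782

set_option autoImplicit false
universe u
open CategoryTheory AlgebraicGeometry
open Lim8

namespace Groth.Agent.S4783

/-- Let S = lim S_i be a cofiltered limit of schemes whose transition maps are open immersions (in
particular affine), and let S_{i₀} be a Noetherian stage. Then S is integral if and only if there is
an index i over i₀ such that S_j is integral for every j over i. -/
theorem result {I : Type u} [SmallCategory I] [IsCofiltered I]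
    (D : I ⥤ Scheme.{u}) (c : Limits.Cone D) (hc : Limits.IsLimit c)
    [∀ (i j : I) (f : i ⟶ j), IsAffineHom (D.map f)] (i₀ : I)
    [IsNoetherian (D.obj i₀)] (hoi : ∀ (i j : I) (φ : i ⟶ j), IsOpenImmersion (D.map φ)) :
    IsIntegral c.pt ↔ ∃ (i : I) (_ : i ⟶ i₀), ∀ (j : I) (_ : j ⟶ i), IsIntegral (D.obj j) := by
  have inst : ∀ {i j : I} (f : i ⟶ j), IsAffineHom (D.map f) := fun f => inferInstance
  have hN : ∀ U : (D.obj i₀).affineOpens, (nilradical Γ(D.obj i₀, U)).FG := by
    intro U
    have : IsNoetherianRing Γ(D.obj i₀, U) := IsLocallyNoetherian.component_noetherian U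
    exact (isNoetherianRing_iff_ideal_fg _).mp this _
  have hemb : ∀ {a b : I} (ψ : a ⟶ b), Topology.IsEmbedding ⇑(D.map ψ) := by
    intro a b ψ
    have := hoi _ _ ψ
    exact (D.map ψ).isOpenEmbedding.isEmbedding
  constructor
  · intro hint
    -- reducedness
    obtain ⟨i₁, φ₁, h₁⟩ := (Groth.Agent.S4782.result D c hc i₀ hoi hN).mp inferInstance
    -- irreducibility
    let ξ := genericPoint c.pt
    have hξ : closure {ξ} = Set.univ := (genericPoint_spec c.pt).def
    obtain ⟨U, hUo, hUr, hUc⟩ := Groth.Agent.H46.IrredCore.exists_open (⇑(c.π.app i₀))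
      (c.π.app i₀).continuous ξ hξ
      (fun s y hy => Groth.Agent.H46.LimOpenImm.range_π_app_stableUnderGeneralization D c hc hoi i₀ s y hy)
      TopologicalSpace.NoetherianSpace.finite_irreducibleComponents
    have hc' : Limits.IsLimit (c.whisker (Over.forget i₀)) :=
      (Functor.Initial.isLimitWhiskerEquiv (Over.forget i₀) c).symm hc
    have instA : ∀ {j k : Over i₀} (f : j ⟶ k), IsAffineHom ((Over.forget i₀ ⋙ D).map f) := by
      intro j k f; dsimp; infer_instance
    have instC : ∀ j : Over i₀, CompactSpace ((Over.forget i₀ ⋙ D).obj j) := by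
      intro j
      exact QuasiCompact.compactSpace_of_compactSpace (D.map j.hom)
    have hU : (c.whisker (Over.forget i₀)).π.app (Over.mk (𝟙 i₀)) ⁻¹ᵁ (⟨U, hUo⟩ : (D.obj i₀).Opens) = ⊤ := by
      rw [eq_top_iff]
      intro s _
      exact hUr ⟨s, rfl⟩
    obtain ⟨j, fji, hj⟩ := exists_map_eq_top (Over.forget i₀ ⋙ D) _ hc' (i := Over.mk (𝟙 i₀))
      ⟨U, hUo⟩ hU
    refine ⟨IsCofiltered.min j.left i₁, IsCofiltered.minToLeft _ _ ≫ j.hom, fun j' g => ?_⟩
    have hred : IsReduced (D.obj j') := h₁ j' (g ≫ IsCofiltered.minToRight _ _)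
    let ψ : j' ⟶ i₀ := (g ≫ IsCofiltered.minToLeft j.left i₁) ≫ fji.left
    have hψU : ∀ z : D.obj j', D.map ψ z ∈ U := by
      intro z
      have key : ∀ w : ((Over.forget i₀ ⋙ D).obj j), ((Over.forget i₀ ⋙ D).map fji) w ∈ U :=
        fun w => hj.ge (show w ∈ (⊤ : ((Over.forget i₀ ⋙ D).obj j).Opens) from trivial)
      have h2 : D.map fji.left ((D.map (g ≫ IsCofiltered.minToLeft j.left i₁)) z) ∈ U :=
        key ((D.map (g ≫ IsCofiltered.minToLeft j.left i₁)) z)
      rw [← Scheme.Hom.comp_apply, ← D.map_comp] at h2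
      exact h2
    have hirr : IrreducibleSpace (D.obj j') := by
      apply Groth.Agent.H46.IrredCore.irreducibleSpace_of_closure_singleton (c.π.app j' ξ)
      rw [(hemb ψ).isInducing.closure_eq_preimage_closure_image, Set.image_singleton,
        Set.eq_univ_iff_forall]
      intro z
      have h3 : D.map ψ (c.π.app j' ξ) = c.π.app i₀ ξ := by
        rw [← Scheme.Hom.comp_apply, c.w]
      rw [Set.mem_preimage, h3]
      exact hUc (hψU z)
    exact isIntegral_of_irreducibleSpace_of_isReduced _
  · rintro ⟨i, φ, h⟩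
    have hi : IsIntegral (D.obj i) := h i (𝟙 i)
    have hred : IsReduced c.pt :=
      (Groth.Agent.S4782.result D c hc i₀ hoi hN).mpr
        ⟨i, φ, fun j g => by have := h j g; infer_instance⟩
    -- generic point
    let η := genericPoint (D.obj i)
    have hη : ∀ j : Over i, η ∈ Set.range (D.map j.hom) := by
      intro j
      have hj : IsIntegral (D.obj j.left) := h j.left j.hom
      have hopen : IsOpen (Set.range (D.map j.hom)) := by
        have := hoi _ _ j.hom
        exact (D.map j.hom).isOpenEmbedding.isOpen_range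
      rw [(genericPoint_spec (D.obj i)).mem_open_set_iff hopen]
      obtain ⟨y⟩ : Nonempty (D.obj j.left) := inferInstance
      exact ⟨D.map j.hom y, trivial, ⟨y, rfl⟩⟩
    obtain ⟨s₀, hs₀⟩ := Groth.Agent.H46.LimOpenImm.exists_π_app_eq D c hc hoi i η hη
    have hirr : IrreducibleSpace c.pt := by
      apply Groth.Agent.H46.IrredCore.irreducibleSpace_of_closure_singleton s₀
      rw [(Groth.Agent.H46.LimOpenImm.isEmbedding_π_app D c hc hoi i).isInducing.closure_eq_preimage_closure_image,
        Set.image_singleton, hs₀, (genericPoint_spec (D.obj i)).def]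
      rfl
    exact isIntegral_of_irreducibleSpace_of_isReduced _

end Groth.Agent.S4783
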