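import Mathlib
import Groth.Statements.S4786
import Groth.Agent.Lib.Helper16.LimProCons
import Groth.Agent.Lib.Helper23.ProConsClosure
import Groth.Agent.Lib.Helper23.LimFlat

set_option autoImplicit false
universe u
open CategoryTheory AlgebraicGeometry
open Lim8
open Groth.Agent.Lib.Helper23

namespace Groth.Agent.S4786

/-- Let S = lim S_i be a cofiltered limit of schemes whose transition maps are affine and flat, let
S_{i₁} be a quasi-compact stage, and let Z' and Z'' be pro-constructible subsets of S_{i₁} such that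
the closure of Z' is constructible. Then the preimage of Z'' in S is contained in the closure of the
preimage of Z' in S if and only if there is an index j over i₁ such that the preimage of Z'' in S_j
is contained in the closure of the preimage of Z' in S_j. -/
theorem result {I : Type u} [SmallCategory I] [IsCofiltered I]
    (D : I ⥤ Scheme.{u}) (c : Limits.Cone D) (hc : Limits.IsLimit c)
    [∀ (i j : I) (f : i ⟶ j), IsAffineHom (D.map f)] (i₁ : I) [CompactSpace (D.obj i₁)]
    (hfl : ∀ (i j : I) (φ : i ⟶ j), Flat (D.map φ))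
    (Z' Z'' : Set (D.obj i₁)) (hZ' : ProCons.IsProConstructible Z') (hZ'' : ProCons.IsProConstructible Z'')
    (hcl : Topology.IsConstructible (closure Z')) :
    (⇑(c.π.app i₁) ⁻¹' Z'' : Set c.pt) ⊆ closure (⇑(c.π.app i₁) ⁻¹' Z' : Set c.pt) ↔
      ∃ (j : I) (φ : j ⟶ i₁), ⇑(D.map φ) ⁻¹' Z'' ⊆ closure (⇑(D.map φ) ⁻¹' Z') := by
  have inst : ∀ {i j : I} (f : i ⟶ j), IsAffineHom (D.map f) := fun f => inferInstance
  have hπfl : Flat (c.π.app i₁) := flat_π_app D c hc i₁ (fun j φ => hfl j i₁ φ)
  have h1 : closure (⇑(c.π.app i₁) ⁻¹' Z' : Set c.pt) = ⇑(c.π.app i₁) ⁻¹' closure Z' :=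
    closure_preimage_eq_of_flat (c.π.app i₁) hZ'
  have h2 : ∀ (j : I) (φ : j ⟶ i₁),
      closure (⇑(D.map φ) ⁻¹' Z') = ⇑(D.map φ) ⁻¹' closure Z' := fun j φ =>
    haveI := hfl j i₁ φ
    closure_preimage_eq_of_flat (D.map φ) hZ'
  rw [h1]
  constructor
  · intro h
    have hF : ProCons.IsIndConstructible (closure Z') :=
      Groth.Agent.Lib.Helper16.isIndConstructible_of_isLocallyConstructible
        hcl.isLocallyConstructible
    obtain ⟨j, φ, hφ⟩ := Groth.Agent.Lib.Helper16.eventuallyEmpty_sdiff D c hc hZ'' hF h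
    refine ⟨j, φ, ?_⟩
    rw [h2 j φ]
    intro y hy
    by_contra hy'
    have : y ∈ (D.map φ).base ⁻¹' (Z'' \ closure Z') := ⟨hy, hy'⟩
    rw [hφ] at this
    exact this
  · rintro ⟨j, φ, hφ⟩
    rw [h2 j φ] at hφ
    intro s hs
    have hw : c.π.app j ≫ D.map φ = c.π.app i₁ := c.w φ
    have hs' : c.π.app j s ∈ ⇑(D.map φ) ⁻¹' Z'' := by
      change (D.map φ) (c.π.app j s) ∈ Z''
      have : (D.map φ) (c.π.app j s) = c.π.app i₁ s := by
        rw [← hw]; rfl
      rw [this]
      exact hs
    have := hφ hs'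
    change (D.map φ) (c.π.app j s) ∈ closure Z' at this
    have h3 : (D.map φ) (c.π.app j s) = c.π.app i₁ s := by
      rw [← hw]; rfl
    rw [h3] at this
    exact this

end Groth.Agent.S4786
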