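import Groth.Statements.S4789
import Groth.Agent.Lib.Helper18.LimModEpi

set_option autoImplicit false
universe u
open CategoryTheory AlgebraicGeometry
open Lim8

namespace Groth.Agent.S4789

/-- Let S = lim S_i be a cofiltered limit of schemes with affine transition maps and S_{i₀} a
quasi-compact stage; let F₀ be a quasi-coherent O-module of finite type and G₀ a quasi-coherent
O-module of finite presentation on S_{i₀}, and f₀ : F₀ ⟶ G₀ a homomorphism. Then the pullback of f₀
along S ⟶ S_{i₀} is an isomorphism if and only if, for some index j over i₀, the pullback of f₀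
along S_j ⟶ S_{i₀} is an isomorphism. -/
theorem result {I : Type u} [SmallCategory I] [IsCofiltered I]
    (D : I ⥤ Scheme.{u}) (c : Limits.Cone D) (hc : Limits.IsLimit c)
    [∀ (i j : I) (f : i ⟶ j), IsAffineHom (D.map f)] (i₀ : I) [CompactSpace (D.obj i₀)]
    {F₀ G₀ : (D.obj i₀).Modules} [Coh.IsQCoh F₀] (hF₀ft : CohB1.IsFT F₀)
    [Coh.IsQCoh G₀] (hG₀fp : CohB1.IsFP G₀) (f₀ : F₀ ⟶ G₀) :
    IsIso ((Scheme.Modules.pullback (c.π.app i₀)).map f₀) ↔
      ∃ (j : I) (φ : j ⟶ i₀), IsIso ((Scheme.Modules.pullback (D.map φ)).map f₀) := by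
  have hF₀ : F₀.IsQuasicoherent := ‹Coh.IsQCoh F₀›
  have hG₀ : G₀.IsQuasicoherent := ‹Coh.IsQCoh G₀›
  constructor
  · intro h
    exact Groth.Agent.Lib.Helper18.LimModEpi.exists_isIso_pullback_map D c hc i₀ f₀ hF₀ft hG₀fp h
  · rintro ⟨j, φ, hj⟩
    exact Groth.Agent.Lib.Helper18.LimModEpi.isIso_of_stage (c.π.app j) (D.map φ) (c.π.app i₀)
      (c.w φ) f₀ hj

end Groth.Agent.S4789
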