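import Groth.Statements.S4796
import Groth.Agent.Lib.Helper58.FibExPoly

set_option autoImplicit false
universe u
open TensorProduct
open Cons9

namespace Groth.Agent.S4796

/-- Let R be a commutative ring, B an R-algebra of finite presentation, F, G, H three B-modules of
finite presentation and u : F → G, v : G → H homomorphisms of B-modules. Then the set of prime
ideals p of R for which the sequence of fibres κ(p) ⊗_R F → κ(p) ⊗_R G → κ(p) ⊗_R H is exact is a
constructible subset of Spec R. Affine form: S = Spec R, X = Spec B with B a finitely presented
R-algebra, the modules finitely presented B-modules, and the fibre of a module M at a prime p taken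
as κ(p) ⊗_R M; the published statement, for a morphism of finite presentation and quasi-coherent
modules of finite presentation, is local on S and on X and reduces to this one. -/
theorem result {R B : Type u} [CommRing R] [CommRing B] [Algebra R B] [Algebra.FinitePresentation R B]
    {F G H : Type u} [AddCommGroup F] [Module B F] [Module R F] [IsScalarTower R B F] [Module.FinitePresentation B F]
    [AddCommGroup G] [Module B G] [Module R G] [IsScalarTower R B G] [Module.FinitePresentation B G]
    [AddCommGroup H] [Module B H] [Module R H] [IsScalarTower R B H] [Module.FinitePresentation B H]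
    (u : F →ₗ[B] G) (v : G →ₗ[B] H) :
    Topology.IsConstructible {p : PrimeSpectrum R |
      Function.Exact ((u.restrictScalars R).baseChange p.asIdeal.ResidueField) ((v.restrictScalars R).baseChange p.asIdeal.ResidueField)} := by
  obtain ⟨n, f, hf, hker⟩ := (Algebra.FinitePresentation.out : ∃ (n : ℕ)
    (f : MvPolynomial (Fin n) R →ₐ[R] B), Function.Surjective f ∧ (RingHom.ker f.toRingHom).FG)
  letI : Algebra (MvPolynomial (Fin n) R) B := f.toRingHom.toAlgebra
  haveI : IsScalarTower R (MvPolynomial (Fin n) R) B :=
    IsScalarTower.of_algebraMap_eq (fun r => (f.commutes r).symm)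
  have hsurj : Function.Surjective (algebraMap (MvPolynomial (Fin n) R) B) := hf
  haveI : Module.FinitePresentation (MvPolynomial (Fin n) R) B := by
    refine Module.finitePresentation_of_surjective (Algebra.linearMap (MvPolynomial (Fin n) R) B)
      hsurj ?_
    have : LinearMap.ker (Algebra.linearMap (MvPolynomial (Fin n) R) B) =
        RingHom.ker f.toRingHom := by
      ext x
      rfl
    rw [this]
    exact hker
  -- module structures over the polynomial ring
  letI : Module (MvPolynomial (Fin n) R) F :=
    Module.compHom F (algebraMap (MvPolynomial (Fin n) R) B)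
  haveI : IsScalarTower (MvPolynomial (Fin n) R) B F :=
    IsScalarTower.of_algebraMap_smul (fun _ _ => rfl)
  haveI : IsScalarTower R (MvPolynomial (Fin n) R) F := by
    refine IsScalarTower.of_algebraMap_smul (fun r x => ?_)
    rw [← algebraMap_smul B (algebraMap R (MvPolynomial (Fin n) R) r) x,
      ← IsScalarTower.algebraMap_apply R (MvPolynomial (Fin n) R) B, algebraMap_smul]
  letI : Module (MvPolynomial (Fin n) R) G :=
    Module.compHom G (algebraMap (MvPolynomial (Fin n) R) B)
  haveI : IsScalarTower (MvPolynomial (Fin n) R) B G :=
    IsScalarTower.of_algebraMap_smul (fun _ _ => rfl)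
  haveI : IsScalarTower R (MvPolynomial (Fin n) R) G := by
    refine IsScalarTower.of_algebraMap_smul (fun r x => ?_)
    rw [← algebraMap_smul B (algebraMap R (MvPolynomial (Fin n) R) r) x,
      ← IsScalarTower.algebraMap_apply R (MvPolynomial (Fin n) R) B, algebraMap_smul]
  letI : Module (MvPolynomial (Fin n) R) H :=
    Module.compHom H (algebraMap (MvPolynomial (Fin n) R) B)
  haveI : IsScalarTower (MvPolynomial (Fin n) R) B H :=
    IsScalarTower.of_algebraMap_smul (fun _ _ => rfl)
  haveI : IsScalarTower R (MvPolynomial (Fin n) R) H := by
    refine IsScalarTower.of_algebraMap_smul (fun r x => ?_)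
    rw [← algebraMap_smul B (algebraMap R (MvPolynomial (Fin n) R) r) x,
      ← IsScalarTower.algebraMap_apply R (MvPolynomial (Fin n) R) B, algebraMap_smul]
  haveI : Module.FinitePresentation (MvPolynomial (Fin n) R) F :=
    Module.FinitePresentation.trans (MvPolynomial (Fin n) R) F B
  haveI : Module.FinitePresentation (MvPolynomial (Fin n) R) G :=
    Module.FinitePresentation.trans (MvPolynomial (Fin n) R) G B
  haveI : Module.FinitePresentation (MvPolynomial (Fin n) R) H :=
    Module.FinitePresentation.trans (MvPolynomial (Fin n) R) H B
  exact Groth.Agent.Lib.Helper58.FibEx.isConstructible_exact_poly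
    (u.restrictScalars (MvPolynomial (Fin n) R)) (v.restrictScalars (MvPolynomial (Fin n) R))

end Groth.Agent.S4796
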