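import Mathlib
import Groth.Statements.S4800
import Groth.Agent.Lib.Helper16.LimProCons
import Groth.Agent.Lib.Helper16.ProConsScheme
import Groth.Agent.Lib.Helper23.ProConsClosure
import Groth.Agent.Lib.Helper23.LimFlat

set_option autoImplicit false
universe u
open CategoryTheory AlgebraicGeometry
open Lim8
open Groth.Agent.Lib.Helper23

namespace Groth.Agent.S4800

/-- A base change `f` of a quasi-compact morphism `f₀` along a flat morphism `qY` is dominant iff
the range of `qY` is contained in the closure of the range of `f₀`. -/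
theorem isDominant_iff_range_subset {X X₀ Y Y₀ : Scheme.{u}} {qX : X ⟶ X₀} {f : X ⟶ Y}
    {f₀ : X₀ ⟶ Y₀} {qY : Y ⟶ Y₀} (hX : IsPullback qX f f₀ qY) [Flat qY] [QuasiCompact f₀] :
    IsDominant f ↔ Set.range qY ⊆ closure (Set.range f₀) := by
  have hpro : ProCons.IsProConstructible (Set.range f₀) := by
    have := Groth.Agent.Lib.Helper16.isProConstructible_image f₀ Set.univ
      (Groth.Agent.Lib.Helper16.isProConstructible_of_isLocallyConstructible
        Topology.IsLocallyConstructible.univ)
    rwa [Set.image_univ] at this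
  have h1 : Set.range f = qY ⁻¹' Set.range f₀ := by
    have := Scheme.image_preimage_eq_of_isPullback hX Set.univ
    rw [Set.preimage_univ, Set.image_univ, Set.image_univ] at this
    exact this
  have h2 : closure (Set.range f) = qY ⁻¹' closure (Set.range f₀) := by
    rw [h1]
    exact closure_preimage_eq_of_flat qY hpro
  rw [isDominant_iff, DenseRange, dense_iff_closure_eq, h2, Set.preimage_eq_univ_iff]

/-- Let S = lim S_i be a cofiltered limit of schemes whose transition maps are affine and flat, and
S_{i₀} a quasi-compact stage; let X₀ ⟶ S_{i₀} be quasi-compact, Y₀ ⟶ S_{i₀} quasi-compact and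
quasi-separated, and f₀ : X₀ ⟶ Y₀ a morphism over S_{i₀} such that the closure of its image f₀(X₀)
is a constructible subset of Y₀. Let f : X ⟶ Y be the base change of f₀ along S ⟶ S_{i₀} (base
changes are expressed by pullback squares). Then f is dominant if and only if, for some index j over
i₀ and the base change f_j : X_j ⟶ Y_j of f₀ along S_j ⟶ S_{i₀}, f_j is dominant. (The published
statement asks instead that the image f₀(X₀) itself be constructible, which is not enough: let R be
the ring of locally constant functions from the Cantor set to a field, take for stages the spectra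
of the rings of locally constant functions on the clopen neighbourhoods of a point p, so that the
limit is the spectrum of the residue field at p, and take Y₀ = Spec R[t]/(m_p t) and X₀ its basic
open subset where t is invertible; the image of X₀ is constructible, the limit morphism is the
inclusion of the punctured affine line into the affine line, which is dominant, and no stage
morphism is dominant. The published proof applies the criterion for a preimage to lie in the closure
of the preimage of a pro-constructible subset along a flat limit, whose hypothesis is that the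
closure of that subset is constructible; the image f₀(X₀) is pro-constructible because f₀ is
quasi-compact, so constructibility of its closure is the hypothesis taken here.) -/
theorem result {I : Type u} [SmallCategory I] [IsCofiltered I]
    (D : I ⥤ Scheme.{u}) (c : Limits.Cone D) (hc : Limits.IsLimit c)
    [∀ (i j : I) (f : i ⟶ j), IsAffineHom (D.map f)] (i₀ : I) [CompactSpace (D.obj i₀)]
    (hfl : ∀ (i j : I) (φ : i ⟶ j), Flat (D.map φ))
    {X₀ Y₀ : Scheme.{u}} (f₀ : X₀ ⟶ Y₀) (g₀ : Y₀ ⟶ D.obj i₀)
    [QuasiCompact (f₀ ≫ g₀)] [QuasiCompact g₀] [QuasiSeparated g₀]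
    (hcl : Topology.IsConstructible (closure (Set.range ⇑f₀)))
    {X Y : Scheme.{u}} (f : X ⟶ Y) (g : Y ⟶ c.pt) (qY : Y ⟶ Y₀) (qX : X ⟶ X₀)
    (hY : IsPullback qY g g₀ (c.π.app i₀)) (hX : IsPullback qX f f₀ qY) :
    IsDominant f ↔ ∃ (j : I) (φ : j ⟶ i₀) (Xj Yj : Scheme.{u}) (fj : Xj ⟶ Yj) (gj : Yj ⟶ D.obj j)
      (pY : Yj ⟶ Y₀) (pX : Xj ⟶ X₀), IsPullback pY gj g₀ (D.map φ) ∧ IsPullback pX fj f₀ pY ∧
      IsDominant fj := by
  have inst : ∀ {i j : I} (f : i ⟶ j), IsAffineHom (D.map f) := fun f => inferInstance
  have hπfl : Flat (c.π.app i₀) := flat_π_app D c hc i₀ (fun j φ => hfl j i₀ φ)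
  have hqYfl : Flat qY := MorphismProperty.of_isPullback (P := @Flat) hY.flip hπfl
  have hf₀qc : QuasiCompact f₀ := QuasiCompact.of_comp f₀ g₀
  -- the pro-constructible set `W := g₀ (Y₀ \ closure (range f₀))`
  have hW : ProCons.IsProConstructible (g₀ '' (closure (Set.range f₀))ᶜ) :=
    Groth.Agent.Lib.Helper16.isProConstructible_image g₀ _
      (Groth.Agent.Lib.Helper16.isProConstructible_of_isLocallyConstructible
        hcl.compl.isLocallyConstructible)
  have hemp : ProCons.IsIndConstructible (∅ : Set (D.obj i₀)) :=
    Groth.Agent.Lib.Helper16.isIndConstructible_of_isLocallyConstructible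
      Topology.IsLocallyConstructible.empty
  -- general criterion for a base change of `g₀`
  have key : ∀ {T Y' : Scheme.{u}} (p : T ⟶ D.obj i₀) (q : Y' ⟶ Y₀) (g' : Y' ⟶ T),
      IsPullback q g' g₀ p →
      (Set.range q ⊆ closure (Set.range f₀) ↔ p ⁻¹' (g₀ '' (closure (Set.range f₀))ᶜ) = ∅) := by
    intro T Y' p q g' hsq
    have hr : Set.range q = g₀ ⁻¹' Set.range p := by
      have := Scheme.image_preimage_eq_of_isPullback hsq.flip Set.univ
      rw [Set.preimage_univ, Set.image_univ, Set.image_univ] at this
      exact this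
    rw [hr, Set.eq_empty_iff_forall_notMem]
    constructor
    · rintro h t ⟨y, hy, hyt⟩
      exact hy (h ⟨t, hyt.symm⟩)
    · intro h y hy
      by_contra hy'
      obtain ⟨t, ht⟩ := hy
      exact h t ⟨y, hy', ht.symm⟩
  rw [isDominant_iff_range_subset hX, key (c.π.app i₀) qY g hY]
  constructor
  · intro h
    have hsub : (c.π.app i₀).base ⁻¹' (g₀ '' (closure (Set.range f₀))ᶜ) ⊆
        (c.π.app i₀).base ⁻¹' (∅ : Set (D.obj i₀)) := by
      intro s hs
      have : s ∈ (c.π.app i₀) ⁻¹' (g₀ '' (closure (Set.range f₀))ᶜ) := hs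
      rw [h] at this
      exact this.elim
    obtain ⟨j, φ, hφ⟩ := Groth.Agent.Lib.Helper16.eventuallyEmpty_sdiff D c hc hW hemp hsub
    rw [Set.sdiff_empty] at hφ
    have hYj := IsPullback.of_hasPullback g₀ (D.map φ)
    have hXj := IsPullback.of_hasPullback f₀ (Limits.pullback.fst g₀ (D.map φ))
    have hpfl : Flat (Limits.pullback.fst g₀ (D.map φ)) :=
      MorphismProperty.of_isPullback (P := @Flat) hYj.flip (hfl j i₀ φ)
    refine ⟨j, φ, _, _, _, _, _, _, hYj, hXj, ?_⟩
    rw [isDominant_iff_range_subset hXj, key (D.map φ) _ _ hYj]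
    exact hφ
  · rintro ⟨j, φ, Xj, Yj, fj, gj, pY, pX, hYj, hXj, hdom⟩
    have hpfl : Flat pY := MorphismProperty.of_isPullback (P := @Flat) hYj.flip (hfl j i₀ φ)
    rw [isDominant_iff_range_subset hXj, key (D.map φ) pY gj hYj] at hdom
    rw [Set.eq_empty_iff_forall_notMem]
    intro s hs
    have hw : c.π.app j ≫ D.map φ = c.π.app i₀ := c.w φ
    have h3 : (D.map φ) (c.π.app j s) = c.π.app i₀ s := by
      rw [← hw]; rfl
    have : c.π.app j s ∈ (D.map φ) ⁻¹' (g₀ '' (closure (Set.range f₀))ᶜ) := by
      change (D.map φ) (c.π.app j s) ∈ (g₀ '' (closure (Set.range f₀))ᶜ)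
      rw [h3]
      exact hs
    rw [hdom] at this
    exact this

end Groth.Agent.S4800
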