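import Groth.Statements.S4804
import Groth.Agent.Lib.Helper71.LimLocalize

set_option autoImplicit false
universe u
open CategoryTheory AlgebraicGeometry
open Lim8

namespace Groth.Agent.S4804

-- HELPERS BEGIN
open Groth.Agent.Lib.Helper13.LimDescent

set_option backward.isDefEq.respectTransparency false
-- HELPERS END


/-- Let S = lim S_i be a cofiltered limit of schemes with affine transition maps, let f₀ : X₀ ⟶ Y₀ be a
morphism of schemes over a stage S_{i₀}, with Y₀ quasi-compact and f₀ of finite type and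
quasi-separated, and let f : X ⟶ Y be the base change of f₀ along S ⟶ S_{i₀} (base changes are
expressed by pullback squares). Then f is separated if and only if, for some index j over i₀, the
base change f_j : X_j ⟶ Y_j of f₀ along S_j ⟶ S_{i₀} is separated. -/
theorem result {I : Type u} [SmallCategory I] [IsCofiltered I]
    (D : I ⥤ Scheme.{u}) (c : Limits.Cone D) (hc : Limits.IsLimit c)
    [∀ (i j : I) (f : i ⟶ j), IsAffineHom (D.map f)] (i₀ : I)
    {X₀ Y₀ : Scheme.{u}} (f₀ : X₀ ⟶ Y₀) (g₀ : Y₀ ⟶ D.obj i₀) [CompactSpace Y₀]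
    [LocallyOfFiniteType f₀] [QuasiCompact f₀] [QuasiSeparated f₀]
    {X Y : Scheme.{u}} (f : X ⟶ Y) (g : Y ⟶ c.pt) (qY : Y ⟶ Y₀) (qX : X ⟶ X₀)
    (hY : IsPullback qY g g₀ (c.π.app i₀)) (hX : IsPullback qX f f₀ qY) :
    IsSeparated f ↔
      ∃ (j : I) (φ : j ⟶ i₀) (Xj Yj : Scheme.{u}) (fj : Xj ⟶ Yj) (gj : Yj ⟶ D.obj j) (pY : Yj ⟶ Y₀)
        (pX : Xj ⟶ X₀), IsPullback pY gj g₀ (D.map φ) ∧ IsPullback pX fj f₀ pY ∧ IsSeparated fj := by
  have inst : ∀ {i j : I} (f : i ⟶ j), IsAffineHom (D.map f) := fun f => inferInstance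
  constructor
  · intro hf
    refine twoStep D c i₀ f₀ g₀ f g qY qX hY hX @IsSeparated hf ?_
    intro f₀' hf₀' hP
    have : QuasiCompact f₀' := by
      rw [hf₀']; exact (liftTop_prop_iff D i₀ f₀ g₀ @QuasiCompact).mpr inferInstance
    have : QuasiSeparated f₀' := by
      rw [hf₀']; exact (liftTop_prop_iff D i₀ f₀ g₀ @QuasiSeparated).mpr inferInstance
    have : CompactSpace ((sys D i₀ g₀).obj (top i₀)) := inferInstance
    refine Groth.Agent.Lib.Helper71.LimLocalize.descend_of_affine_gen (sys D i₀ g₀)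
      (sysCone D c i₀ g₀) (top i₀) @IsSeparated ⊤
      (isLimitSysCone D c i₀ g₀ hc) ?_ f₀' trivial hP
    intro J' _ _ E' cE' hcE' hE' hA j₀' X₀' _ _ f₀'' _ h
    exact exists_isSeparated_pullback_fst E' cE' j₀' hcE' f₀'' h
  · rintro ⟨j, φ, Xj, Yj, fj, gj, pY, pX, hYj, hXj, h⟩
    exact Groth.Agent.Lib.Helper71.LimLocalize.prop_of_stage D c i₀ @IsSeparated hY hX φ hYj hXj h

end Groth.Agent.S4804
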