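import Groth.Statements.S4806
import Groth.Agent.Lib.Helper69.FiberCI

set_option autoImplicit false
universe u
open CategoryTheory AlgebraicGeometry
open Lim8

namespace Groth.Agent.S4806

/-- Let f : X ⟶ Y be a proper morphism of finite presentation. Then f is a closed immersion if and only
if, for every point y of Y, the scheme-theoretic fibre of f at y is empty or its structure morphism
to Spec κ(y) is an isomorphism. -/
theorem result {X Y : Scheme.{u}} (f : X ⟶ Y) [IsProper f]
    [LocallyOfFinitePresentation f] :
    IsClosedImmersion f ↔ ∀ y : Y, IsEmpty (f.fiber y) ∨ IsIso (f.fiberToSpecResidueField y) := by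
  constructor
  · intro hcl y
    have hg : IsClosedImmersion (f.fiberToSpecResidueField y) := by
      unfold Scheme.Hom.fiberToSpecResidueField
      exact MorphismProperty.of_isPullback (P := @IsClosedImmersion)
        (IsPullback.of_hasPullback _ _) hcl
    by_cases hemp : IsEmpty (f.fiber y)
    · exact Or.inl hemp
    · right
      rw [not_isEmpty_iff] at hemp
      have hne : Nonempty ((⊤ : (f.fiber y).Opens)) := by
        obtain ⟨z⟩ := hemp
        exact ⟨⟨z, trivial⟩⟩
      have hnt : Nontrivial Γ(f.fiber y, ⊤) := Scheme.component_nontrivial _ ⊤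
      apply IsClosedImmersion.isIso_of_injective_of_isAffine
      let ψ : (Y.residueField y : Type u) →+* Γ(f.fiber y, ⊤) :=
        ((Scheme.ΓSpecIso (Y.residueField y)).inv ≫ (f.fiberToSpecResidueField y).appTop).hom
      have hψ : Function.Injective ψ := RingHom.injective ψ
      intro a b hab
      have h1 : ψ ((Scheme.ΓSpecIso (Y.residueField y)).hom a) =
          ψ ((Scheme.ΓSpecIso (Y.residueField y)).hom b) := by
        simp only [ψ, CommRingCat.hom_comp, RingHom.coe_comp, Function.comp_apply]
        have e : ∀ c, (Scheme.ΓSpecIso (Y.residueField y)).inv.hom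
            ((Scheme.ΓSpecIso (Y.residueField y)).hom.hom c) = c := fun c => by
          rw [← CommRingCat.comp_apply, Iso.hom_inv_id]; rfl
        rw [e, e]
        exact hab
      have h2 := hψ h1
      exact (ConcreteCategory.bijective_of_isIso (Scheme.ΓSpecIso (Y.residueField y)).hom).1 h2
  · intro h
    have hfinfib : ∀ y : Y, (f ⁻¹' {y}).Finite := by
      intro y
      rw [← Scheme.Hom.range_fiberι]
      rcases h y with hemp | hiso
      · rw [Set.range_eq_empty]; exact Set.finite_empty
      · have hsub : Subsingleton (f.fiber y) := by
          have hhomeo := (TopCat.homeoOfIso (asIso (f.fiberToSpecResidueField y).base))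
          have : Subsingleton (Spec (Y.residueField y)) :=
            inferInstanceAs (Subsingleton (PrimeSpectrum (Y.residueField y)))
          exact hhomeo.injective.subsingleton
        exact (Set.finite_range _)
    have hlqf : LocallyQuasiFinite f := LocallyQuasiFinite.of_finite_preimage_singleton f hfinfib
    have hfin : IsFinite f := IsFinite.of_isProper_of_locallyQuasiFinite f
    have hcl : ∀ y : Y, IsClosedImmersion (f.fiberToSpecResidueField y) := by
      intro y
      rcases h y with hemp | hiso
      · exact IsClosedImmersion.of_isPreimmersion _ (by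
          rw [Set.range_eq_empty]; exact isClosed_empty)
      · infer_instance
    have key : ∀ y : Y, ∃ W : Y.Opens, y ∈ W ∧ IsClosedImmersion (f ∣_ W) := by
      intro y
      obtain ⟨V, hV, hyV, -⟩ := TopologicalSpace.Opens.isBasis_iff_nbhd.mp Y.isBasis_affineOpens
        (show y ∈ (⊤ : Y.Opens) from trivial)
      have := hcl y
      exact Groth.Agent.Lib.Helper69.exists_isClosedImmersion_restrict_of_fiber f V hV y hyV
    choose W hW hWcl using key
    have hsup : ⨆ y, W y = ⊤ := by
      rw [eq_top_iff]
      intro y _
      exact TopologicalSpace.Opens.mem_iSup.mpr ⟨y, hW y⟩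
    exact (IsZariskiLocalAtTarget.iff_of_iSup_eq_top (P := @IsClosedImmersion) W hsup).mpr hWcl

end Groth.Agent.S4806
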