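import Groth.Statements.S4807
import Groth.Agent.H72.FinFact

set_option autoImplicit false
universe u
open CategoryTheory AlgebraicGeometry
open Lim8

namespace Groth.Agent.S4807

/-- Let Y be a quasi-compact quasi-separated scheme and f : X ⟶ Y a separated morphism of finite type.
Let X' be the relative normalization of Y in X, the spectrum of the integral closure of O_Y in
f_*O_X, with its canonical morphism g : X ⟶ X'. Then f admits a factorization X ⟶ Y' ⟶ Y into an
immersion followed by a finite morphism if and only if g is an immersion. -/
theorem result {X Y : Scheme.{u}} (f : X ⟶ Y)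
    [CompactSpace Y] [QuasiSeparatedSpace Y] [IsSeparated f] [LocallyOfFiniteType f] [QuasiCompact f] :
    (∃ (Y' : Scheme.{u}) (f' : X ⟶ Y') (u : Y' ⟶ Y), IsImmersion f' ∧ IsFinite u ∧ f' ≫ u = f) ↔
      IsImmersion f.toNormalization := by
  constructor
  · rintro ⟨Y', f', u, hf', hu, hfu⟩
    haveI : IsImmersion (f.toNormalization ≫ f.normalizationDesc f' u hfu.symm) := by
      rw [Scheme.Hom.toNormalization_normalizationDesc]; exact hf'
    exact IsImmersion.of_comp f.toNormalization (f.normalizationDesc f' u hfu.symm)
  · intro himm
    let g := f.toNormalization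
    haveI : IsImmersion g := himm
    haveI : QuasiCompact g := inferInstanceAs (QuasiCompact f.toNormalization)
    have hcomp : g.toImage ≫ g.imageι ≫ f.fromNormalization = f := by
      rw [Scheme.Hom.toImage_imageι_assoc]
      exact f.toNormalization_fromNormalization
    haveI : LocallyOfFiniteType (g.toImage ≫ g.imageι ≫ f.fromNormalization) := by
      rw [hcomp]; infer_instance
    obtain ⟨T, π, jT, h1, h2, h3⟩ := Groth.Agent.H72.FinFact.exists_finite_factorization
      (g.imageι ≫ f.fromNormalization) g.toImage
    exact ⟨T, jT, π, inferInstance, h1, h3.trans hcomp⟩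

end Groth.Agent.S4807
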