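import Groth.Statements.S4808
import Groth.Agent.Lib.Helper23.NormalAffine

set_option autoImplicit false
universe u
open CategoryTheory AlgebraicGeometry
open Lim8

namespace Groth.Agent.S4808

open Groth.Agent.Lib.Helper23

/-- Ring-level core: an integral ring map from an integrally closed domain `A` into a ring `B`
which becomes an isomorphism on "function fields" is bijective. -/
theorem bijective_of_integral_of_birational {A B K K' : Type*} [CommRing A] [CommRing B]
    [CommRing K] [CommRing K'] [Algebra A K] [IsFractionRing A K] [IsIntegrallyClosed A]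
    (φ : A →+* B) (hφ : φ.IsIntegral) (ι' : B →+* K') (hι' : Function.Injective ι')
    (σ : K →+* K') (hσ : Function.Bijective σ)
    (hcomm : ∀ a, σ (algebraMap A K a) = ι' (φ a)) : Function.Bijective φ := by
  constructor
  · rw [injective_iff_map_eq_zero]
    intro a ha
    have h1 : σ (algebraMap A K a) = 0 := by rw [hcomm, ha, map_zero]
    have h2 : algebraMap A K a = 0 := hσ.1 (by rw [h1, map_zero])
    exact (IsFractionRing.injective A K) (by rw [h2, map_zero])
  · intro b
    obtain ⟨k, hk⟩ := hσ.2 (ι' b)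
    have hint : IsIntegral A k := by
      obtain ⟨p, hp, hpb⟩ := hφ b
      refine ⟨p, hp, hσ.1 ?_⟩
      rw [map_zero, Polynomial.hom_eval₂, hk]
      have : σ.comp (algebraMap A K) = ι'.comp φ := RingHom.ext hcomm
      rw [this, ← Polynomial.hom_eval₂, hpb, map_zero]
    obtain ⟨a, ha⟩ := IsIntegrallyClosed.algebraMap_eq_of_integral hint
    refine ⟨a, hι' ?_⟩
    rw [← hcomm, ha, hk]

theorem result {Y' Y : Scheme.{u}} [IsIntegral Y'] [IsIntegral Y]
    (hN : ∀ y : Y, IsIntegrallyClosed (Y.presheaf.stalk y)) (u : Y' ⟶ Y) [IsFinite u]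
    (hgen : u (genericPoint Y') = genericPoint Y)
    (hbir : IsIso (u.stalkMap (genericPoint Y'))) : IsIso u := by
  refine IsZariskiLocalAtTarget.of_iSup_eq_top (P := MorphismProperty.isomorphisms Scheme)
    (fun U : Y.affineOpens => (U : Y.Opens)) (iSup_affineOpens_eq_top Y) ?_
  intro U
  have hU : IsAffineOpen (U : Y.Opens) := U.2
  change IsIso (u ∣_ (U : Y.Opens))
  rw [isIso_morphismRestrict_iff_isIso_app u hU, ConcreteCategory.isIso_iff_bijective]
  by_cases hne : Nonempty (U : Y.Opens)
  · -- the generic points lie in `U` and its preimage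
    have hgU : genericPoint Y ∈ (U : Y.Opens) :=
      ((genericPoint_spec Y).mem_open_set_iff (U : Y.Opens).isOpen).mpr (by simpa using hne)
    have hgU' : u (genericPoint Y') ∈ (U : Y.Opens) := hgen ▸ hgU
    have : IsIntegrallyClosed Γ(Y, (U : Y.Opens)) := isIntegrallyClosed_of_isAffineOpen hN hU
    let : Algebra Γ(Y, (U : Y.Opens)) (Y.presheaf.stalk (u (genericPoint Y'))) :=
      (Y.presheaf.germ (U : Y.Opens) (u (genericPoint Y')) hgU').hom.toAlgebra
    have : IsFractionRing Γ(Y, (U : Y.Opens)) (Y.presheaf.stalk (u (genericPoint Y'))) := by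
      have key : ∀ (y : Y) (_ : y = genericPoint Y) (hyU : y ∈ (U : Y.Opens)),
          @IsFractionRing Γ(Y, (U : Y.Opens)) _ (Y.presheaf.stalk y) _
            (Y.presheaf.germ (U : Y.Opens) y hyU).hom.toAlgebra := by
        rintro y rfl hyU
        exact functionField_isFractionRing_of_isAffineOpen Y (U : Y.Opens) hU
      exact key _ hgen hgU'
    refine bijective_of_integral_of_birational (K := Y.presheaf.stalk (u (genericPoint Y')))
      (K' := Y'.presheaf.stalk (genericPoint Y')) (u.app (U : Y.Opens)).hom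
      (IsIntegralHom.isIntegral_app u _ hU)
      (Y'.presheaf.germ (u ⁻¹ᵁ (U : Y.Opens)) (genericPoint Y') hgU').hom
      (germ_injective_of_isIntegral Y' _ _) (u.stalkMap (genericPoint Y')).hom
      ((ConcreteCategory.isIso_iff_bijective _).mp hbir) ?_
    intro a
    exact Scheme.Hom.germ_stalkMap_apply u (U : Y.Opens) (genericPoint Y') hgU' a
  · have hbot : (U : Y.Opens) = ⊥ := by
      ext x
      simp only [TopologicalSpace.Opens.coe_bot, Set.mem_empty_iff_false, iff_false]
      exact fun hx => hne ⟨⟨x, hx⟩⟩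
    rw [hbot]
    have h1 : Subsingleton Γ(Y, ⊥) := inferInstance
    have h2 : Subsingleton Γ(Y', u ⁻¹ᵁ ⊥) := by
      have : u ⁻¹ᵁ (⊥ : Y.Opens) = ⊥ := rfl
      rw [this]; infer_instance
    exact ⟨fun a b _ => Subsingleton.elim _ _, fun b => ⟨0, Subsingleton.elim _ _⟩⟩

end Groth.Agent.S4808
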