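import Groth.Statements.S4809
import Groth.Agent.Lib.Helper23.BirationalNormal

set_option autoImplicit false
universe u
open CategoryTheory AlgebraicGeometry
open Lim8

namespace Groth.Agent.S4809

open Groth.Agent.Lib.Helper23

/-- Let Y be an integral normal scheme (every local ring integrally closed), X an integral scheme, and f
: X ⟶ Y a locally quasi-finite morphism (locally of finite type with discrete fibres) which is
birational: f maps the generic point of X to that of Y and its stalk map at the generic point of X,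
the induced homomorphism of function fields, is an isomorphism. Then f is a local isomorphism, and f
is an open immersion as soon as it is separated. -/
theorem result {X Y : Scheme.{u}} [IsIntegral X] [IsIntegral Y]
    (hN : ∀ y : Y, IsIntegrallyClosed (Y.presheaf.stalk y)) (f : X ⟶ Y) [LocallyQuasiFinite f]
    [LocallyOfFiniteType f] (hgen : f (genericPoint X) = genericPoint Y)
    (hbir : IsIso (f.stalkMap (genericPoint X))) :
    IsLocalIso f ∧ (IsSeparated f → IsOpenImmersion f) := by
  -- local statement: around each point there are affine opens on which `f` is an open immersion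
  have hloc : ∀ x : X, ∃ U : X.Opens, x ∈ U ∧ IsOpenImmersion (U.ι ≫ f) := by
    intro x
    obtain ⟨_, ⟨V, hV : IsAffineOpen V, rfl⟩, hxV, -⟩ :=
      Y.isBasis_affineOpens.exists_subset_of_mem_open (Set.mem_univ (f x)) isOpen_univ
    obtain ⟨_, ⟨U, hU : IsAffineOpen U, rfl⟩, hxU, hUV⟩ :=
      X.isBasis_affineOpens.exists_subset_of_mem_open (show x ∈ (f ⁻¹ᵁ V : Set X) from hxV)
        (f ⁻¹ᵁ V).isOpen
    have e : U ≤ f ⁻¹ᵁ V := hUV
    have : Nonempty U := ⟨⟨x, hxU⟩⟩
    have : IsAffine (U : Scheme.{u}) := hU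
    have : IsAffine (V : Scheme.{u}) := hV
    have hoi : IsOpenImmersion (f.resLE V U e) :=
      isOpenImmersion_resLE_of_birational hN f hgen hbir V U e
    refine ⟨U, hxU, ?_⟩
    rw [← Scheme.Hom.resLE_comp_ι f e]
    infer_instance
  refine ⟨⟨hloc⟩, fun hsep => ?_⟩
  -- injectivity, via Lemma B applied to the union of two affine neighbourhoods
  have hinj : Function.Injective f := by
    intro x₁ x₂ h12
    obtain ⟨_, ⟨V, hV : IsAffineOpen V, rfl⟩, hxV, -⟩ :=
      Y.isBasis_affineOpens.exists_subset_of_mem_open (Set.mem_univ (f x₁)) isOpen_univ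
    obtain ⟨_, ⟨U₁, hU₁ : IsAffineOpen U₁, rfl⟩, hxU₁, hUV₁⟩ :=
      X.isBasis_affineOpens.exists_subset_of_mem_open (show x₁ ∈ (f ⁻¹ᵁ V : Set X) from hxV)
        (f ⁻¹ᵁ V).isOpen
    obtain ⟨_, ⟨U₂, hU₂ : IsAffineOpen U₂, rfl⟩, hxU₂, hUV₂⟩ :=
      X.isBasis_affineOpens.exists_subset_of_mem_open
        (show x₂ ∈ (f ⁻¹ᵁ V : Set X) from (h12 ▸ hxV : f x₂ ∈ V)) (f ⁻¹ᵁ V).isOpen
    let U : X.Opens := U₁ ⊔ U₂
    have e : U ≤ f ⁻¹ᵁ V := sup_le hUV₁ hUV₂
    have : Nonempty U := ⟨⟨x₁, Or.inl hxU₁⟩⟩
    have : IsAffine (V : Scheme.{u}) := hV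
    have hcU : CompactSpace (U : Scheme.{u}) :=
      isCompact_iff_compactSpace.mp (hU₁.isCompact.union hU₂.isCompact)
    have hsep' : IsSeparated (f.resLE V U e) := by
      have : IsSeparated (f.resLE V U e ≫ Scheme.Opens.ι V) := by
        rw [Scheme.Hom.resLE_comp_ι]; infer_instance
      exact IsSeparated.of_comp (f.resLE V U e) (Scheme.Opens.ι V)
    have hqc : QuasiCompact (f.resLE V U e) := by
      rw [HasAffineProperty.iff_of_isAffine (P := @QuasiCompact)]
      exact hcU
    have hoi : IsOpenImmersion (f.resLE V U e) :=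
      isOpenImmersion_resLE_of_birational hN f hgen hbir V U e
    have h1 : f.resLE V U e ⟨x₁, Or.inl hxU₁⟩ = f.resLE V U e ⟨x₂, Or.inr hxU₂⟩ := by
      apply Subtype.ext
      rw [Scheme.Hom.coe_resLE_apply, Scheme.Hom.coe_resLE_apply]
      exact h12
    have h2 := (f.resLE V U e).isOpenEmbedding.injective h1
    exact congrArg Subtype.val h2
  refine IsOpenImmersion.of_forall_source_exists f hinj fun x => ?_
  obtain ⟨U, hxU, hU⟩ := hloc x
  exact ⟨U, U.ι, inferInstance, by simpa using hxU, hU⟩

end Groth.Agent.S4809
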