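import Groth.Statements.S4810
import Groth.Agent.S4809
import Groth.Agent.Lib.Helper61.NormBir3

set_option autoImplicit false
universe u
open CategoryTheory AlgebraicGeometry
open Lim8

namespace Groth.Agent.S4810

/-- Let Y be an integral scheme, X an integral normal scheme (every local ring integrally closed) and f
: X ⟶ Y a dominant locally quasi-finite morphism (locally of finite type with discrete fibres). Let
Y' be the relative normalization of Y in X (here the normalization of Y in the function field of X)
and f' : X ⟶ Y' the canonical morphism, so that f is f' followed by the canonical morphism Y' ⟶ Y.
Then f' is a local isomorphism, and f' is an open immersion if and only if f is separated. (The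
published statement assumes f only locally quasi-finite; this row takes f moreover quasi-compact and
quasi-separated, the setting in which the relative normalization is built chart by chart from
integral closures.) -/
theorem result {X Y : Scheme.{u}} [IsIntegral X] [IsIntegral Y]
    (hN : ∀ x : X, IsIntegrallyClosed (X.presheaf.stalk x)) (f : X ⟶ Y) [IsDominant f]
    [LocallyQuasiFinite f] [LocallyOfFiniteType f] [QuasiCompact f] [QuasiSeparated f] :
    IsLocalIso f.toNormalization ∧ (IsOpenImmersion f.toNormalization ↔ IsSeparated f) := by
  have hgh : f.toNormalization ≫ f.fromNormalization = f := f.toNormalization_fromNormalization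
  have hlft : LocallyOfFiniteType f.toNormalization := by
    have : LocallyOfFiniteType (f.toNormalization ≫ f.fromNormalization) := by rwa [hgh]
    exact locallyOfFiniteType_of_comp f.toNormalization f.fromNormalization
  have hlqf : LocallyQuasiFinite f.toNormalization := by
    have : LocallyQuasiFinite (f.toNormalization ≫ f.fromNormalization) := by rwa [hgh]
    exact LocallyQuasiFinite.of_comp f.toNormalization f.fromNormalization
  have h1 := Groth.Agent.S4809.result (X := X) (Y := f.normalization)
    (Groth.Agent.Lib.Helper61.NormBir.isIntegrallyClosed_stalk_normalization hN f)
    f.toNormalization
    (Groth.Agent.Lib.Helper61.NormBir.map_genericPoint_of_isDominant f.toNormalization)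
    (Groth.Agent.Lib.Helper61.NormBir.isIso_stalkMap_toNormalization_genericPoint hN f)
  refine ⟨h1.1, fun hoi => ?_, fun hsep => ?_⟩
  · rw [← hgh]
    infer_instance
  · apply h1.2
    have : IsSeparated (f.toNormalization ≫ f.fromNormalization) := by rwa [hgh]
    exact IsSeparated.of_comp f.toNormalization f.fromNormalization

end Groth.Agent.S4810
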