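import Groth.Statements.S4814
import Groth.Agent.Lib.Helper18.LimHomSys
import Groth.Agent.Lib.Helper18.FPPullEpi
import Groth.Agent.Lib.Helper18.LimModEpi
import Groth.Agent.S8872
import Groth.Agent.S8913

set_option autoImplicit false
universe u
open CategoryTheory AlgebraicGeometry
open Lim8

namespace Groth.Agent.S4814

/-- Let S = lim S_i be a cofiltered limit of schemes with affine transition maps and S_{i₀} a
quasi-compact quasi-separated stage; let F₀ be a quasi-coherent O-module of finite presentation on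
S_{i₀}, F its pullback to S, and p : F ⟶ G a surjective homomorphism onto a quasi-coherent
O_S-module of finite presentation. Then for some index j over i₀ there are a quasi-coherent O-module
of finite presentation G_j on S_j and a surjective homomorphism p_j : F_j ⟶ G_j from the pullback
F_j of F₀, together with an isomorphism from the pullback of G_j to S onto G which carries the
pullback of p_j (transported along the canonical identification of the pullback of F_j with F) to p.
Every quotient of finite presentation of F thus comes from a quotient of finite presentation of some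
F_j. -/
theorem result {I : Type u} [SmallCategory I] [IsCofiltered I]
    (D : I ⥤ Scheme.{u}) (c : Limits.Cone D) (hc : Limits.IsLimit c)
    [∀ (i j : I) (f : i ⟶ j), IsAffineHom (D.map f)] (i₀ : I)
    [CompactSpace (D.obj i₀)] [QuasiSeparatedSpace (D.obj i₀)]
    (F₀ : (D.obj i₀).Modules) [Coh.IsQCoh F₀] (hF₀ : CohB1.IsFP F₀)
    {G : c.pt.Modules} [Coh.IsQCoh G] (hG : CohB1.IsFP G) (p : (Scheme.Modules.pullback (c.π.app i₀)).obj F₀ ⟶ G) [Epi p] :
    ∃ (j : I) (φ : j ⟶ i₀) (Gj : (D.obj j).Modules) (_ : Coh.IsQCoh Gj) (pj : (Scheme.Modules.pullback (D.map φ)).obj F₀ ⟶ Gj)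
      (e : (Scheme.Modules.pullback (c.π.app j)).obj Gj ≅ G),
      CohB1.IsFP Gj ∧ Epi pj ∧
        ((Scheme.Modules.pullbackComp (c.π.app j) (D.map φ) ≪≫ Scheme.Modules.pullbackCongr (c.w φ)).app F₀).inv ≫
          (Scheme.Modules.pullback (c.π.app j)).map pj ≫ e.hom = p := by
  have hF₀q : F₀.IsQuasicoherent := ‹Coh.IsQCoh F₀›
  have hGq : G.IsQuasicoherent := ‹Coh.IsQCoh G›
  have haff : IsAffineHom (c.π.app i₀) := isAffineHom_π_app D c hc i₀
  -- the pullback `F` of `F₀`
  have hFq : ((Scheme.Modules.pullback (c.π.app i₀)).obj F₀).IsQuasicoherent :=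
    Groth.Agent.Lib.Helper16.FlatPull.isQuasicoherent_pullback (c.π.app i₀) F₀
  have hFft : SheafOfModules.IsFiniteType (R := c.pt.ringCatSheaf)
      ((Scheme.Modules.pullback (c.π.app i₀)).obj F₀) :=
    @Groth.Agent.S8872.isFiniteType_pullback _ _ (c.π.app i₀) F₀ hF₀q
      (Groth.Agent.S8913.isFiniteType_of_isFinitePresentation F₀ hF₀)
  -- the kernel of `p`
  have hKq : (Limits.kernel p).IsQuasicoherent :=
    Groth.Agent.Lib.Helper49.isQuasicoherent_kernel p hFq hGq
  have hKft : SheafOfModules.IsFiniteType (R := c.pt.ringCatSheaf) (Limits.kernel p) :=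
    Groth.Agent.Lib.Helper18.FPM.isFiniteType_kernel_of_epi p
      (fun T => Groth.Agent.Lib.Helper49.finite_sections_of_isFiniteType _ hFft T.2)
      (fun T => Groth.Agent.Lib.Helper49.finitePresentation_sections_of_isFinitePresentation _ hG T.2)
  obtain ⟨H₀, q, hH₀, hq⟩ := Groth.Agent.Lib.Helper18.FPPullEpi.exists_fp_epi_pullback
    (S := c.pt) (c.π.app i₀) (Limits.kernel p) hKft
  have hH₀q : H₀.IsQuasicoherent :=
    Groth.Agent.Lib.Helper18.FPM.isQuasicoherent_of_isFinitePresentation hH₀
  obtain ⟨j, uj, huj⟩ := Groth.Agent.Lib.Helper18.LimHomSys.exists_hom_stage D c i₀ F₀ hc H₀ hH₀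
    (q ≫ Limits.kernel.ι p)
  have hHjq : ((Scheme.Modules.pullback (D.map j.hom)).obj H₀).IsQuasicoherent :=
    Groth.Agent.Lib.Helper16.FlatPull.isQuasicoherent_pullback (D.map j.hom) H₀
  have hHjft : SheafOfModules.IsFiniteType (R := (D.obj j.left).ringCatSheaf)
      ((Scheme.Modules.pullback (D.map j.hom)).obj H₀) :=
    @Groth.Agent.S8872.isFiniteType_pullback _ _ (D.map j.hom) H₀ hH₀q
      (Groth.Agent.S8913.isFiniteType_of_isFinitePresentation H₀ hH₀)
  have hFjfp : SheafOfModules.IsFinitePresentation (R := (D.obj j.left).ringCatSheaf)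
      ((Scheme.Modules.pullback (D.map j.hom)).obj F₀) :=
    Groth.Agent.S8913.isFinitePresentation_pullback (D.map j.hom) F₀ hF₀
  have hGjfp : SheafOfModules.IsFinitePresentation (R := (D.obj j.left).ringCatSheaf)
      (Limits.cokernel uj) :=
    Groth.Agent.Lib.Helper18.FPPullEpi.isFinitePresentation_cokernel uj hHjft hFjfp
  have hGjq : (Limits.cokernel uj).IsQuasicoherent :=
    Groth.Agent.Lib.Helper18.FPM.isQuasicoherent_of_isFinitePresentation hGjfp
  have w : (q ≫ Limits.kernel.ι p) ≫ p = 0 := by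
    rw [Category.assoc, Limits.kernel.condition, Limits.comp_zero]
  have hcok : Limits.IsColimit (Limits.CokernelCofork.ofπ p w) :=
    Limits.isCokernelEpiComp (Abelian.epiIsCokernelOfKernel _ (Limits.kernelIsKernel p)) q rfl
  obtain ⟨e, he⟩ := Groth.Agent.Lib.Helper18.FPPullEpi.exists_iso_map_cokernel
    (Scheme.Modules.pullback (c.π.app j.left)) uj (q ≫ Limits.kernel.ι p) p w hcok
    (Groth.Agent.Lib.Helper18.TransSec.compIso (X' := c.pt) (c.π.app j.left) (D.map j.hom)
      (c.π.app i₀) (c.w j.hom) H₀)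
    (Groth.Agent.Lib.Helper18.TransSec.compIso (X' := c.pt) (c.π.app j.left) (D.map j.hom)
      (c.π.app i₀) (c.w j.hom) F₀) huj
  exact ⟨j.left, j.hom, Limits.cokernel uj, hGjq, Limits.cokernel.π uj, e, hGjfp, inferInstance, he⟩

end Groth.Agent.S4814
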