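import Groth.Statements.S4815
import Groth.Agent.S0591
import Groth.Agent.S9193

set_option autoImplicit false
universe u
open CategoryTheory AlgebraicGeometry
open Lim8

namespace Groth.Agent.S4815

/-- Let S = lim S_i be a cofiltered limit of schemes with affine transition maps and S_{i₀} a
quasi-compact quasi-separated stage. Then every subscheme of finite presentation of S, that is every
immersion ι : Z ⟶ S which is locally of finite presentation and quasi-compact, is the base change
along S ⟶ S_j of an immersion of finite presentation Z_j ⟶ S_j, for some index j over i₀ (the base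
change is expressed by a pullback square). -/
theorem result {I : Type u} [SmallCategory I] [IsCofiltered I]
    (D : I ⥤ Scheme.{u}) (c : Limits.Cone D) (hc : Limits.IsLimit c)
    [∀ (i j : I) (f : i ⟶ j), IsAffineHom (D.map f)] (i₀ : I)
    [CompactSpace (D.obj i₀)] [QuasiSeparatedSpace (D.obj i₀)]
    {Z : Scheme.{u}} (ι : Z ⟶ c.pt) [IsImmersion ι] [LocallyOfFinitePresentation ι] [QuasiCompact ι] :
    ∃ (j : I) (_ : j ⟶ i₀) (Zj : Scheme.{u}) (ιj : Zj ⟶ D.obj j) (q : Z ⟶ Zj),
      IsImmersion ιj ∧ LocallyOfFinitePresentation ιj ∧ QuasiCompact ιj ∧ IsPullback q ι ιj (c.π.app j) := by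
  classical
  have inst : ∀ {i j : I} (f : i ⟶ j), IsAffineHom (D.map f) := fun f => inferInstance
  -- the system over `i₀`
  let D' : Over i₀ ⥤ Scheme.{u} := Over.forget i₀ ⋙ D
  let c' : Limits.Cone D' := c.whisker (Over.forget i₀)
  have hc' : Limits.IsLimit c' := (Functor.Initial.isLimitWhiskerEquiv (Over.forget i₀) c).symm hc
  have hcomp : ∀ k : Over i₀, CompactSpace (D.obj k.left) := fun k =>
    QuasiCompact.compactSpace_of_compactSpace (D.map k.hom)
  have hqs : ∀ k : Over i₀, QuasiSeparatedSpace (D.obj k.left) := fun k =>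
    quasiSeparatedSpace_of_quasiSeparated (D.map k.hom)
  have hD'aff : ∀ (i j : Over i₀) (f : i ⟶ j), IsAffineHom (D'.map f) := fun i j f => by
    dsimp [D']; infer_instance
  have hD'c : ∀ k : Over i₀, CompactSpace (D'.obj k) := fun k => hcomp k
  have hD'q : ∀ k : Over i₀, QuasiSeparatedSpace (D'.obj k) := fun k => hqs k
  obtain ⟨k, Zk, fk, g, hfk1, hfk2, hfk3, hpb⟩ :=
    Groth.Agent.S0591.result D' c' hc' Z (show Z ⟶ c'.pt from ι)
  change Zk ⟶ D.obj k.left at fk
  change IsPullback g ι fk (c.π.app k.left) at hpb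
  have := hcomp k
  have := hqs k
  have hfk1' : LocallyOfFinitePresentation fk := hfk1
  have hfk2' : QuasiCompact fk := hfk2
  have hfk3' : QuasiSeparated fk := hfk3
  have : CompactSpace Zk := QuasiCompact.compactSpace_of_compactSpace fk
  have : QuasiSeparatedSpace Zk := quasiSeparatedSpace_of_quasiSeparated fk
  have : LocallyOfFiniteType fk := inferInstance
  have hY : IsPullback (c.π.app k.left) (𝟙 c.pt) (𝟙 (D.obj k.left)) (c.π.app k.left) :=
    IsPullback.of_id_snd
  obtain ⟨i, φ, Xi, Yi, fi, gi, pY, pX, h1, h2, h3⟩ :=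
    Groth.Agent.S9193.result D c hc k.left fk (𝟙 _) ι (𝟙 _) (c.π.app k.left) g hY hpb
  have hgi : IsIso gi := h1.isIso_snd_of_isIso
  have hpaste : IsPullback pX (fi ≫ gi) (fk ≫ 𝟙 _) (D.map φ) := h2.paste_vert h1
  rw [Category.comp_id] at hpaste
  have hbig : IsPullback g ι fk (c.π.app i ≫ D.map φ) := by
    rw [c.w φ]; exact hpb
  refine ⟨i, φ ≫ k.hom, Xi, fi ≫ gi, _, inferInstance, ?_, ?_, IsPullback.of_right' hbig hpaste⟩
  · exact MorphismProperty.of_isPullback hpaste hfk1'
  · exact MorphismProperty.of_isPullback hpaste hfk2'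

end Groth.Agent.S4815
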