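import Groth.Statements.S4816
import Groth.Agent.Lib.Helper71.LimLocalize

set_option autoImplicit false
universe u
open CategoryTheory AlgebraicGeometry
open Lim8

namespace Groth.Agent.S4816

-- HELPERS BEGIN
open Groth.Agent.Lib.Helper13.LimDescent

set_option backward.isDefEq.respectTransparency false

open CategoryTheory.Limits in
lemma factor_snd_iff {Z₁ Z₂ S B : Scheme.{u}} (ι₁ : Z₁ ⟶ S) (ι₂ : Z₂ ⟶ S) [Mono ι₂] (b : B ⟶ S) :
    (∃ k : pullback ι₁ b ⟶ pullback ι₂ b, k ≫ pullback.snd ι₂ b = pullback.snd ι₁ b) ↔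
      IsIso (pullback.fst (pullback.snd b ι₁) (pullback.fst ι₁ ι₂)) := by
  rw [← Groth.Agent.Lib.Helper71.LimLocalize.factor_iff_isIso ι₁ ι₂ b (pullback.snd b ι₁)
    (pullback.fst b ι₁) pullback.condition.symm (IsPullback.of_hasPullback ι₂ b)]
  constructor
  · rintro ⟨k, hk⟩
    exact ⟨(pullbackSymmetry b ι₁).hom ≫ k, by
      rw [Category.assoc, hk, pullbackSymmetry_hom_comp_snd]⟩
  · rintro ⟨k, hk⟩
    exact ⟨(pullbackSymmetry ι₁ b).hom ≫ k, by
      rw [Category.assoc, hk, pullbackSymmetry_hom_comp_fst]⟩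
-- HELPERS END


open CategoryTheory.Limits in
/-- Let S = lim S_i be a cofiltered limit of schemes with affine transition maps and S_{i₀} a
quasi-compact stage; let ι₁ : Z₁ ⟶ S_{i₀} and ι₂ : Z₂ ⟶ S_{i₀} be two subschemes of finite
presentation of S_{i₀} (immersions which are locally of finite presentation and quasi-compact), with
base changes Z₁ ×_{S_{i₀}} T ⟶ T to T = S and to T = S_j. Then Z₁ ×_{S_{i₀}} S is a subscheme of Z₂
×_{S_{i₀}} S (its immersion into S factors through that of Z₂ ×_{S_{i₀}} S) if and only if, for some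
index j over i₀, Z₁ ×_{S_{i₀}} S_j is a subscheme of Z₂ ×_{S_{i₀}} S_j. -/
theorem result {I : Type u} [SmallCategory I] [IsCofiltered I]
    (D : I ⥤ Scheme.{u}) (c : Limits.Cone D) (hc : Limits.IsLimit c)
    [∀ (i j : I) (f : i ⟶ j), IsAffineHom (D.map f)] (i₀ : I) [CompactSpace (D.obj i₀)]
    {Z₁ Z₂ : Scheme.{u}} (ι₁ : Z₁ ⟶ D.obj i₀) (ι₂ : Z₂ ⟶ D.obj i₀)
    [IsImmersion ι₁] [LocallyOfFinitePresentation ι₁] [QuasiCompact ι₁]
    [IsImmersion ι₂] [LocallyOfFinitePresentation ι₂] [QuasiCompact ι₂] :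
    (∃ k : pullback ι₁ (c.π.app i₀) ⟶ pullback ι₂ (c.π.app i₀),
        k ≫ pullback.snd ι₂ (c.π.app i₀) = pullback.snd ι₁ (c.π.app i₀)) ↔
      ∃ (j : I) (φ : j ⟶ i₀) (k : pullback ι₁ (D.map φ) ⟶ pullback ι₂ (D.map φ)),
        k ≫ pullback.snd ι₂ (D.map φ) = pullback.snd ι₁ (D.map φ) := by
  have inst : ∀ {i j : I} (f : i ⟶ j), IsAffineHom (D.map f) := fun f => inferInstance
  constructor
  · intro h
    rw [factor_snd_iff] at h
    have hZ₁ : CompactSpace Z₁ := QuasiCompact.compactSpace_of_compactSpace ι₁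
    have hf₀1 : LocallyOfFinitePresentation (pullback.fst ι₁ ι₂) :=
      MorphismProperty.pullback_fst _ _ inferInstance
    have hf₀2 : QuasiCompact (pullback.fst ι₁ ι₂) :=
      MorphismProperty.pullback_fst _ _ inferInstance
    have hf₀3 : QuasiSeparated (pullback.fst ι₁ ι₂) :=
      MorphismProperty.pullback_fst _ _ inferInstance
    have H : ∀ f₀'' : pullback ι₁ ι₂ ⟶ (sys D i₀ ι₁).obj (top i₀),
        f₀'' = liftTop D i₀ (pullback.fst ι₁ ι₂) ι₁ →
        (MorphismProperty.isomorphisms Scheme.{u})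
          (pullback.fst ((sysCone D c i₀ ι₁).π.app (top i₀)) f₀'') →
        ∃ k : Over (top i₀), (MorphismProperty.isomorphisms Scheme.{u})
          (pullback.fst ((sys D i₀ ι₁).map k.hom) f₀'') := by
      intro f₀' hf₀' hP
      have : LocallyOfFinitePresentation f₀' := by
        rw [hf₀']; exact (liftTop_prop_iff D i₀ _ ι₁ @LocallyOfFinitePresentation).mpr hf₀1
      have : QuasiCompact f₀' := by
        rw [hf₀']; exact (liftTop_prop_iff D i₀ _ ι₁ @QuasiCompact).mpr hf₀2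
      have : QuasiSeparated f₀' := by
        rw [hf₀']; exact (liftTop_prop_iff D i₀ _ ι₁ @QuasiSeparated).mpr hf₀3
      have : CompactSpace ((sys D i₀ ι₁).obj (top i₀)) := inferInstance
      refine Groth.Agent.Lib.Helper71.LimLocalize.descend_of_affine (sys D i₀ ι₁)
        (sysCone D c i₀ ι₁) (top i₀) (MorphismProperty.isomorphisms Scheme.{u})
        (isLimitSysCone D c i₀ ι₁ hc) ?_ f₀' hP
      intro J' _ _ E' cE' hcE' hE' hA j₀' X₀' _ _ f₀'' _ h
      obtain ⟨k, hk⟩ := exists_isIso_pullback_fst E' cE' j₀' hcE' f₀''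
        ((MorphismProperty.isomorphisms.iff _).mp h)
      exact ⟨k, (MorphismProperty.isomorphisms.iff _).mpr hk⟩
    obtain ⟨k, hk⟩ := relStep D c i₀ (pullback.fst ι₁ ι₂) ι₁
      (MorphismProperty.isomorphisms Scheme.{u}) H ((MorphismProperty.isomorphisms.iff _).mpr h)
    exact ⟨k.left, k.hom, (factor_snd_iff ι₁ ι₂ _).mpr ((MorphismProperty.isomorphisms.iff _).mp hk)⟩
  · rintro ⟨j, φ, kj, hkj⟩
    let u : pullback ι₁ (c.π.app i₀) ⟶ pullback ι₁ (D.map φ) :=
      pullback.lift (pullback.fst ι₁ (c.π.app i₀)) (pullback.snd ι₁ (c.π.app i₀) ≫ c.π.app j)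
        (by rw [Category.assoc, c.w φ, pullback.condition])
    have hu : u ≫ pullback.snd ι₁ (D.map φ) = pullback.snd ι₁ (c.π.app i₀) ≫ c.π.app j :=
      pullback.lift_snd _ _ _
    refine ⟨pullback.lift (u ≫ kj ≫ pullback.fst ι₂ (D.map φ)) (pullback.snd ι₁ (c.π.app i₀)) ?_,
      pullback.lift_snd _ _ _⟩
    rw [Category.assoc, Category.assoc, pullback.condition, ← Category.assoc kj, hkj,
      ← Category.assoc, hu, Category.assoc, c.w φ]

end Groth.Agent.S4816
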