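import Groth.Statements.S4821
import Mathlib.RingTheory.MvPolynomial.Localization
import Mathlib.RingTheory.Localization.Integer
import Mathlib.LinearAlgebra.Finsupp.LinearCombination
-- import your own Groth.Agent.* helpers here

set_option autoImplicit false
universe u
open Cons9

namespace Groth.Agent.S4821

attribute [local instance] MvPolynomial.algebraMvPolynomial

/-- Let A be an integral domain with fraction field K, and (P_i) a finite family of polynomials in
A[T_1, …, T_m], generating an ideal 𝔞; for a point s of Spec A write 𝔞_s for the ideal of κ(s)[T_1,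
…, T_m] generated by the images of the P_i. If the zero locus of 𝔞_η in affine m-space over K = κ(η)
is empty, that is if 𝔞_η is the unit ideal, then there is an open neighbourhood D(f) (f ≠ 0) of the
generic point such that 𝔞_s is the unit ideal (its zero locus is empty) for every s in D(f). -/
theorem result {A : Type u} [CommRing A] [IsDomain A] {m : ℕ}
    (P : Finset (MvPolynomial (Fin m) A))
    (hη : Ideal.span ((MvPolynomial.map (algebraMap A (FractionRing A))) '' (P : Set (MvPolynomial (Fin m) A))) = ⊤) :
    ∃ f : A, f ≠ 0 ∧ ∀ p : PrimeSpectrum A, f ∉ p.asIdeal →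
      Ideal.span ((MvPolynomial.map (algebraMap A p.asIdeal.ResidueField)) '' (P : Set (MvPolynomial (Fin m) A))) = ⊤ := by
  classical
  have h1 : (1 : MvPolynomial (Fin m) (FractionRing A)) ∈
      Ideal.span ((MvPolynomial.map (algebraMap A (FractionRing A))) ''
        (P : Set (MvPolynomial (Fin m) A))) := by
    rw [hη]; exact Submodule.mem_top
  obtain ⟨c, hc⟩ := (Submodule.mem_span_image_finset_iff_exists_fun' _).mp h1
  -- common denominator for the coefficients
  obtain ⟨⟨b, hb⟩, hbint⟩ := IsLocalization.exist_integer_multiples
    ((nonZeroDivisors A).map (MvPolynomial.C (σ := Fin m))) P c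
  obtain ⟨f, hf, rfl⟩ := hb
  choose! q hq using hbint
  have hf0 : f ≠ 0 := nonZeroDivisors.ne_zero hf
  have key : MvPolynomial.C f = ∑ i ∈ P, q i * i := by
    apply MvPolynomial.map_injective _ (IsFractionRing.injective A (FractionRing A))
    rw [map_sum]
    have : ∀ i ∈ P, MvPolynomial.map (algebraMap A (FractionRing A)) (q i * i) =
        MvPolynomial.map (algebraMap A (FractionRing A)) (MvPolynomial.C f) *
          (c i • MvPolynomial.map (algebraMap A (FractionRing A)) i) := by
      intro i hi
      have := hq i hi
      rw [MvPolynomial.algebraMap_def] at this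
      rw [map_mul, this, Algebra.smul_def, MvPolynomial.algebraMap_def, smul_eq_mul, mul_assoc]
    rw [Finset.sum_congr rfl this, ← Finset.mul_sum, hc, mul_one]
  refine ⟨f, hf0, fun p hp => ?_⟩
  have hfp : algebraMap A p.asIdeal.ResidueField f ≠ 0 := fun h0 =>
    hp (Ideal.algebraMap_residueField_eq_zero.mp h0)
  have hmem : MvPolynomial.map (algebraMap A p.asIdeal.ResidueField) (MvPolynomial.C f) ∈
      Ideal.span ((MvPolynomial.map (algebraMap A p.asIdeal.ResidueField)) ''
        (P : Set (MvPolynomial (Fin m) A))) := by
    rw [key, map_sum]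
    refine Submodule.sum_mem _ fun i hi => ?_
    rw [map_mul]
    exact Ideal.mul_mem_left _ _ (Ideal.subset_span ⟨i, hi, rfl⟩)
  refine Ideal.eq_top_of_isUnit_mem _ hmem ?_
  rw [MvPolynomial.map_C]
  exact (IsUnit.mk0 _ hfp).map MvPolynomial.C

end Groth.Agent.S4821
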