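import Groth.Statements.S4825
import Groth.Agent.H72.FinFact

set_option autoImplicit false
open CategoryTheory AlgebraicGeometry
universe u
open Lim8

namespace Groth.Agent.S4825

open CategoryTheory.Limits in
/-- Let Y be a Noetherian scheme and f : X ⟶ Y a morphism of finite type. Then f admits a factorization
into an immersion followed by a finite morphism if and only if, for every point y of Y, the base
change X ×_Y Spec O_{Y,y} ⟶ Spec O_{Y,y} of f to the local scheme of Y at y admits such a
factorization. (Pointwise criterion for pseudo-finite morphisms.) -/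
theorem result {X Y : Scheme.{u}} (f : X ⟶ Y) [IsNoetherian Y]
    [LocallyOfFiniteType f] [QuasiCompact f] :
    (∃ (Y' : Scheme.{u}) (f' : X ⟶ Y') (u : Y' ⟶ Y), IsImmersion f' ∧ IsFinite u ∧ f' ≫ u = f) ↔
      ∀ y : Y, ∃ (Z : Scheme.{u}) (g : pullback f (Y.fromSpecStalk y) ⟶ Z) (u : Z ⟶ Spec (Y.presheaf.stalk y)),
        IsImmersion g ∧ IsFinite u ∧ g ≫ u = pullback.snd f (Y.fromSpecStalk y) := by
  constructor
  · rintro ⟨Y', f', u, hf', hu, rfl⟩ y
    let j := Y.fromSpecStalk y
    let e := pullbackRightPullbackFstIso u j f'
    refine ⟨pullback u j, e.inv ≫ pullback.snd f' (pullback.fst u j), pullback.snd u j,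
      inferInstance, inferInstance, ?_⟩
    rw [Category.assoc]
    exact pullbackRightPullbackFstIso_inv_snd_snd u j f'
  · intro h
    haveI : CompactSpace Y := inferInstance
    haveI : QuasiSeparatedSpace Y := inferInstance
    -- the base changes are separated and locally quasi-finite
    have hsep : ∀ y : Y, IsSeparated (pullback.snd f (Y.fromSpecStalk y)) := by
      intro y
      obtain ⟨Z, g, u, hg, hu, hgu⟩ := h y
      rw [← hgu]
      infer_instance
    have hlqf : ∀ y : Y, LocallyQuasiFinite (pullback.snd f (Y.fromSpecStalk y)) := by
      intro y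
      obtain ⟨Z, g, u, hg, hu, hgu⟩ := h y
      rw [← hgu]
      infer_instance
    -- `f` is locally quasi-finite
    haveI hflqf : LocallyQuasiFinite f := by
      rw [locallyQuasiFinite_iff_finite_preimage_singleton]
      intro y
      haveI := hlqf y
      have hfin := (pullback.snd f (Y.fromSpecStalk y)).finite_preimage_singleton
        (IsLocalRing.closedPoint (Y.presheaf.stalk y))
      refine (hfin.image (pullback.fst f (Y.fromSpecStalk y))).subset ?_
      intro x hx
      have hxy : f x = Y.fromSpecStalk y (IsLocalRing.closedPoint (Y.presheaf.stalk y)) := by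
        rw [Scheme.fromSpecStalk_closedPoint]
        exact hx
      obtain ⟨z, hz1, hz2⟩ := Scheme.Pullback.exists_preimage_pullback x _ hxy
      exact ⟨z, hz2, hz1⟩
    -- `f` is separated, by the valuative criterion
    haveI : IsLocallyNoetherian X := LocallyOfFiniteType.isLocallyNoetherian f
    haveI : QuasiSeparatedSpace X := inferInstance
    haveI : QuasiSeparated f := QuasiSeparated.of_quasiSeparatedSpace f
    haveI hfsep : IsSeparated f := by
      apply IsSeparated.of_valuativeCriterion
      intro S
      constructor
      rintro ⟨l, hl1, hl2⟩ ⟨l', hl'1, hl'2⟩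
      have hll : l = l' := by
        let y := S.i₂ (IsLocalRing.closedPoint S.R)
        let a : Spec (CommRingCat.of S.R) ⟶ Spec (Y.presheaf.stalk y) :=
          Spec.map (Scheme.stalkClosedPointTo S.i₂)
        have ha : a ≫ Y.fromSpecStalk y = S.i₂ := Scheme.Spec_stalkClosedPointTo_fromSpecStalk S.i₂
        let m : Spec (CommRingCat.of S.R) ⟶ pullback f (Y.fromSpecStalk y) :=
          pullback.lift l a (by rw [hl2, ha])
        let m' : Spec (CommRingCat.of S.R) ⟶ pullback f (Y.fromSpecStalk y) :=
          pullback.lift l' a (by rw [hl'2, ha])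
        haveI := hsep y
        have huniq := IsSeparated.valuativeCriterion (pullback.snd f (Y.fromSpecStalk y))
        let k := Spec.map (CommRingCat.ofHom (algebraMap S.R S.K))
        have hkm : k ≫ m = k ≫ m' := by
          apply pullback.hom_ext
          · simp only [Category.assoc, m, m', pullback.lift_fst, k, hl1, hl'1]
          · simp only [Category.assoc, m, m', pullback.lift_snd]
        let T : ValuativeCommSq (pullback.snd f (Y.fromSpecStalk y)) :=
          { R := S.R, K := S.K, i₁ := k ≫ m, i₂ := a,
            commSq := ⟨by simp only [Category.assoc, m, pullback.lift_snd, k]⟩ }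
        have hsub := huniq T
        have h1 : (⟨m, rfl, pullback.lift_snd _ _ _⟩ : T.commSq.LiftStruct) =
            ⟨m', hkm.symm, pullback.lift_snd _ _ _⟩ := Subsingleton.elim _ _
        have h2 : m = m' := congrArg CommSq.LiftStruct.l h1
        have h3 : m ≫ pullback.fst f (Y.fromSpecStalk y) = l := pullback.lift_fst _ _ _
        have h4 : m' ≫ pullback.fst f (Y.fromSpecStalk y) = l' := pullback.lift_fst _ _ _
        rw [← h3, ← h4, h2]
      subst hll
      rfl
    -- Zariski's main theorem
    haveI : QuasiCompact (f.toNormalization ≫ f.fromNormalization) := by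
      rw [Scheme.Hom.toNormalization_fromNormalization]; infer_instance
    haveI : QuasiCompact f.toNormalization :=
      QuasiCompact.of_comp f.toNormalization f.fromNormalization
    haveI : LocallyOfFiniteType (f.toNormalization ≫ f.fromNormalization) := by
      rw [Scheme.Hom.toNormalization_fromNormalization]; infer_instance
    obtain ⟨T₀, π₀, j₀, hπ₀, hj₀, hjπ₀⟩ :=
      Groth.Agent.H72.FinFact.exists_finite_factorization f.fromNormalization f.toNormalization
    rw [Scheme.Hom.toNormalization_fromNormalization] at hjπ₀
    exact ⟨T₀, j₀, π₀, inferInstance, hπ₀, hjπ₀⟩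

end Groth.Agent.S4825
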