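import Groth.Statements.S4827
import Groth.Agent.S3455

set_option autoImplicit false
open CategoryTheory AlgebraicGeometry
universe u
open Cons9

namespace Groth.Agent.S4827

/-- Let f : X ⟶ S be a morphism of finite presentation (locally of finite presentation, quasi-compact
and quasi-separated). Then the set of points s of S whose fibre X_s is geometrically normal over
κ(s), i.e. such that for every extension field K of κ(s) all local rings of X_s ⊗_{κ(s)} K are
integrally closed domains, is locally constructible in S. This is the case of geometric normality. -/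
theorem result {X S : Scheme.{u}} (f : X ⟶ S)
    [LocallyOfFinitePresentation f] [QuasiCompact f] [QuasiSeparated f] :
    Topology.IsLocallyConstructible {s : S |
      ∀ (K : Type u) [Field K] [Algebra (IsLocalRing.ResidueField (S.presheaf.stalk s)) K]
        (x' : ↥(FBase.bc (f.fiberToSpecResidueField s) K)),
        IsDomain ((FBase.bc (f.fiberToSpecResidueField s) K).presheaf.stalk x') ∧
          IsIntegrallyClosed ((FBase.bc (f.fiberToSpecResidueField s) K).presheaf.stalk x')} := by
  have hE := Groth.Agent.S3455.result f
  have hcompl : ∀ {T : Type u} [TopologicalSpace T] {s : Set T},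
      Topology.IsLocallyConstructible s → Topology.IsLocallyConstructible sᶜ := by
    intro T _ s hs x
    obtain ⟨U, hU, hUo, hc⟩ := hs x
    exact ⟨U, hU, hUo, by rw [Set.preimage_compl]; exact hc.compl⟩
  have himg := hcompl (f.isLocallyConstructible_image (hcompl hE))
  have key : ∀ (s : S) (x : X) (hx : f x = s),
      (∀ (K : Type u) [Field K] [Algebra (IsLocalRing.ResidueField (S.presheaf.stalk (f.base x))) K]
        (x' : ↥(FBase.bc (f.fiberToSpecResidueField (f.base x)) K)),
        (FBase.bcπ (f.fiberToSpecResidueField (f.base x)) K).base x' = f.asFiber x →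
          (IsDomain ((FBase.bc (f.fiberToSpecResidueField (f.base x)) K).presheaf.stalk x') ∧
            IsIntegrallyClosed
              ((FBase.bc (f.fiberToSpecResidueField (f.base x)) K).presheaf.stalk x'))) →
      ∀ (K : Type u) [Field K] [Algebra (IsLocalRing.ResidueField (S.presheaf.stalk s)) K]
        (x' : ↥(FBase.bc (f.fiberToSpecResidueField s) K)),
        f.fiberι s ((FBase.bcπ (f.fiberToSpecResidueField s) K).base x') = x →
        IsDomain ((FBase.bc (f.fiberToSpecResidueField s) K).presheaf.stalk x') ∧
          IsIntegrallyClosed ((FBase.bc (f.fiberToSpecResidueField s) K).presheaf.stalk x') := by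
    intro s x hx h
    subst hx
    intro K _ _ x' hx'
    refine h K x' ?_
    apply (f.fiberι (f x)).isEmbedding.injective
    rw [f.fiberι_asFiber]
    exact hx'
  have key2 : ∀ (x : X),
      (∀ (K : Type u) [Field K] [Algebra (IsLocalRing.ResidueField (S.presheaf.stalk (f x))) K]
        (x' : ↥(FBase.bc (f.fiberToSpecResidueField (f x)) K)),
        IsDomain ((FBase.bc (f.fiberToSpecResidueField (f x)) K).presheaf.stalk x') ∧
          IsIntegrallyClosed ((FBase.bc (f.fiberToSpecResidueField (f x)) K).presheaf.stalk x')) →
      (∀ (K : Type u) [Field K] [Algebra (IsLocalRing.ResidueField (S.presheaf.stalk (f.base x))) K]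
        (x' : ↥(FBase.bc (f.fiberToSpecResidueField (f.base x)) K)),
        (FBase.bcπ (f.fiberToSpecResidueField (f.base x)) K).base x' = f.asFiber x →
          (IsDomain ((FBase.bc (f.fiberToSpecResidueField (f.base x)) K).presheaf.stalk x') ∧
            IsIntegrallyClosed
              ((FBase.bc (f.fiberToSpecResidueField (f.base x)) K).presheaf.stalk x'))) := by
    intro x h K _ _ x' _
    exact h K x'
  rw [show {s : S |
      ∀ (K : Type u) [Field K] [Algebra (IsLocalRing.ResidueField (S.presheaf.stalk s)) K]
        (x' : ↥(FBase.bc (f.fiberToSpecResidueField s) K)),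
        IsDomain ((FBase.bc (f.fiberToSpecResidueField s) K).presheaf.stalk x') ∧
          IsIntegrallyClosed ((FBase.bc (f.fiberToSpecResidueField s) K).presheaf.stalk x')} =
      (f '' {x : X |
      ∀ (K : Type u) [Field K] [Algebra (IsLocalRing.ResidueField (S.presheaf.stalk (f.base x))) K]
        (x' : ↥(FBase.bc (f.fiberToSpecResidueField (f.base x)) K)),
        (FBase.bcπ (f.fiberToSpecResidueField (f.base x)) K).base x' = f.asFiber x →
          (IsDomain ((FBase.bc (f.fiberToSpecResidueField (f.base x)) K).presheaf.stalk x') ∧
            IsIntegrallyClosed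
              ((FBase.bc (f.fiberToSpecResidueField (f.base x)) K).presheaf.stalk x'))}ᶜ)ᶜ from ?_]
  · exact himg
  · ext s
    simp only [Set.mem_setOf_eq, Set.mem_compl_iff, Set.mem_image, not_exists, not_and]
    constructor
    · rintro h x hx rfl
      exact hx (key2 x h)
    · intro h K _ _ x'
      have hx : f (f.fiberι s ((FBase.bcπ (f.fiberToSpecResidueField s) K).base x')) = s := by
        have : f.fiberι s ((FBase.bcπ (f.fiberToSpecResidueField s) K).base x') ∈
            Set.range (f.fiberι s) := ⟨_, rfl⟩
        rw [Scheme.Hom.range_fiberι] at this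
        exact this
      have h1 := h (f.fiberι s ((FBase.bcπ (f.fiberToSpecResidueField s) K).base x'))
      by_contra hc
      refine h1 ?_ hx
      intro hmem
      exact hc (key s _ hx hmem K x' rfl)

end Groth.Agent.S4827
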