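import Groth.Statements.S4832
import Groth.Agent.H76.TorsionAss
import Groth.Agent.H76.TorsionField
import Groth.Agent.H76.TorsionGen
import Groth.Agent.Lib.Helper80.PullbackFiniteType
import Groth.Agent.Lib.Helper23.ConsLocusMod

set_option autoImplicit false
open CategoryTheory AlgebraicGeometry
universe u
open Cons9

namespace Groth.Agent.S4832

/-- Let S be a locally Noetherian scheme, f : X ⟶ S a morphism of finite type and F a coherent
O_X-module; suppose that every fibre X_s is locally integral (all its local rings are integral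
domains). For s in S let F_s be the pullback of F to the fibre X_s. Then the set of s such that F_s
is torsion-free over O_{X_s} (each stalk of F_s has zero torsion submodule over the local ring of
X_s, an integral domain) is locally constructible in S. -/
theorem result {X S : Scheme.{u}} (f : X ⟶ S) [IsLocallyNoetherian S]
    [LocallyOfFiniteType f] [QuasiCompact f] (F : X.Modules) [Coh.IsQCoh F] (hF : CohB1.IsFP F)
    (hint : ∀ (s : S) (x : ↥(f.fiber s)), IsDomain ((f.fiber s).presheaf.stalk x)) :
    Topology.IsLocallyConstructible {s : S | ∀ x : ↥(f.fiber s),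
      Submodule.torsion ((f.fiber s).presheaf.stalk x) (((Scheme.Modules.pullback (f.fiberι s)).obj F).presheaf.stalk x) = ⊥} := by
  classical
  haveI : F.IsQuasicoherent := ‹Coh.IsQCoh F›
  haveI : LocallyOfFinitePresentation f := by
    rw [HasRingHomProperty.iff_appLE (P := @LocallyOfFinitePresentation)]
    intro U V e
    have : IsNoetherianRing Γ(S, U.1) := IsLocallyNoetherian.component_noetherian U
    exact RingHom.FinitePresentation.of_finiteType.1
      (HasRingHomProperty.appLE (P := @LocallyOfFiniteType) f inferInstance U V e)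
  haveI : IsLocallyNoetherian X := LocallyOfFiniteType.isLocallyNoetherian f
  haveI : QuasiSeparated f := inferInstance
  let P : ∀ ⦃Y T : Scheme.{u}⦄, (Y ⟶ T) → Y.Modules → Prop := fun Y _ _ G =>
    ∀ z ∈ AssSch.Ass G, ∀ y : Y, y ⤳ z → y = z
  have hP : ConsProp.IsConsMod P := by
    refine ⟨?_, ?_⟩
    · intro Y Y' T T' g g' e h _ _ _ _ _ _ hpb G G' hG eG
      haveI : G.IsQuasicoherent := hG.1
      haveI : IsLocallyNoetherian T :=
        Groth.Agent.Lib.Helper23.isLocallyNoetherian_of_subsingleton T
      haveI : IsLocallyNoetherian Y := LocallyOfFiniteType.isLocallyNoetherian g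
      haveI : IsLocallyNoetherian T' :=
        Groth.Agent.Lib.Helper23.isLocallyNoetherian_of_subsingleton T'
      haveI : LocallyOfFiniteType g' :=
        MorphismProperty.of_isPullback (P := @LocallyOfFiniteType) hpb inferInstance
      haveI : IsLocallyNoetherian Y' := LocallyOfFiniteType.isLocallyNoetherian g'
      have hGe : Coh.IsCoh ((Scheme.Modules.pullback e).obj G) :=
        Groth.Agent.Lib.Helper80.isCoh_pullback e G hG
      haveI : ((Scheme.Modules.pullback e).obj G).IsQuasicoherent := hGe.1
      haveI : G'.IsQuasicoherent :=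
        Groth.Agent.Lib.Helper49.isQuasicoherent_of_iso eG.symm hGe.1
      have h3 : AssSch.Ass G' = AssSch.Ass ((Scheme.Modules.pullback e).obj G) := by
        ext z
        exact Groth.Agent.Lib.Helper97.AssFibre.isAssPoint_congr eG z
      show (∀ z ∈ AssSch.Ass G, ∀ y : Y, y ⤳ z → y = z) ↔
        (∀ z ∈ AssSch.Ass G', ∀ y : Y', y ⤳ z → y = z)
      rw [h3]
      exact Groth.Agent.H76.AssGen.assMax_iff_of_isPullback_field g g' e h hpb G
    · intro X S u _ _ _ _ G hG
      haveI : G.IsQuasicoherent := hG.1
      obtain ⟨U, hU, key⟩ := Groth.Agent.H76.AssGen.generic_assMaxFib u G hG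
      have hrw : ∀ s : S, s ∈ ConsProp.locusMod P u G ↔ Groth.Agent.H76.AssGen.AssMaxFib u G s :=
        fun s => Groth.Agent.H76.AssGen.assMaxFib_iff u G s
      by_cases hgen : genericPoint S ∈ ConsProp.locusMod P u G
      · left
        refine ⟨genericPoint S, mem_interior.mpr ⟨U, fun s hs => ?_, U.2, hU⟩⟩
        rw [hrw, key s hs]
        exact (hrw _).mp hgen
      · right
        refine ⟨genericPoint S, mem_interior.mpr ⟨U, fun s hs hmem => hgen ?_, U.2, hU⟩⟩
        rw [hrw, ← key s hs]
        exact (hrw _).mp hmem
  have hmain := Groth.Agent.Lib.Helper23.ConsLocusMod.isLocallyConstructible_locusMod f F hF hP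
  convert hmain using 1
  ext s
  haveI : IsLocallyNoetherian (f.fiber s) :=
    Groth.Agent.Lib.Helper97.AssFibre.isLocallyNoetherian_fiber_of_locallyOfFiniteType f s
  haveI : ((Scheme.Modules.pullback (f.fiberι s)).obj F).IsQuasicoherent :=
    Groth.Agent.Lib.Helper23.ConsLocusMod.isQCoh_pullback (f.fiberι s) F
  constructor
  · intro H
    exact Groth.Agent.H76.AssGen.ass_maximal_of_torsion_eq_bot _ (hint s) H
  · intro H x
    exact Groth.Agent.H76.AssGen.torsion_eq_bot_of_ass_maximal _ (hint s) H x

end Groth.Agent.S4832
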