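import Groth.Statements.S4835
import Groth.Agent.Lib.Helper23.ModuleColim
-- import your own Groth.Agent.* helpers here

set_option autoImplicit false
open CategoryTheory CategoryTheory.Limits
universe u
open Lim8

namespace Groth.Agent.S4835

/-- Let A be a commutative ring, M an A-module of finite presentation and (N_λ) an inductive system of
A-modules indexed by a nonempty directed preordered set. Then the canonical map colim_λ Hom_A(M,
N_λ) → Hom_A(M, colim_λ N_λ), sending a compatible system of homomorphisms to its inductive limit,
is bijective. This is the form established in the source's proof (finite presentation case). -/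
theorem result {A : Type u} [CommRing A] (M : ModuleCat.{u} A)
    [Module.FinitePresentation A M] {J : Type u} [Preorder J] [IsDirected J (· ≤ ·)] [Nonempty J]
    (N : J ⥤ ModuleCat.{u} A) :
    Function.Bijective (colimit.post N (coyoneda.obj (Opposite.op M))) := by
  have hpost : ∀ (i : J) (f : M ⟶ N.obj i),
      colimit.post N (coyoneda.obj (Opposite.op M))
        (colimit.ι (N ⋙ coyoneda.obj (Opposite.op M)) i f) = f ≫ colimit.ι N i := by
    intro i f
    have := ConcreteCategory.congr_hom (colimit.ι_post N (coyoneda.obj (Opposite.op M)) i) f
    rw [ConcreteCategory.comp_apply] at this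
    rw [this]
    rfl
  constructor
  · intro x y hxy
    obtain ⟨i, f, rfl⟩ := Types.jointly_surjective' x
    obtain ⟨j, g, rfl⟩ := Types.jointly_surjective' y
    rw [hpost, hpost] at hxy
    obtain ⟨k, hi, hj, hk⟩ := Groth.Agent.Lib.Helper23.moduleColim_hom_injective M N f g hxy
    have h1 : colimit.ι (N ⋙ coyoneda.obj (Opposite.op M)) i f =
        colimit.ι (N ⋙ coyoneda.obj (Opposite.op M)) k (f ≫ N.map (homOfLE hi)) := by
      have := ConcreteCategory.congr_hom
        (colimit.w (N ⋙ coyoneda.obj (Opposite.op M)) (homOfLE hi)) f
      rw [ConcreteCategory.comp_apply] at this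
      rw [← this]
      rfl
    have h2 : colimit.ι (N ⋙ coyoneda.obj (Opposite.op M)) j g =
        colimit.ι (N ⋙ coyoneda.obj (Opposite.op M)) k (g ≫ N.map (homOfLE hj)) := by
      have := ConcreteCategory.congr_hom
        (colimit.w (N ⋙ coyoneda.obj (Opposite.op M)) (homOfLE hj)) g
      rw [ConcreteCategory.comp_apply] at this
      rw [← this]
      rfl
    rw [h1, h2, hk]
  · intro h
    obtain ⟨k, f, hf⟩ := Groth.Agent.Lib.Helper23.moduleColim_hom_surjective M N h
    exact ⟨colimit.ι (N ⋙ coyoneda.obj (Opposite.op M)) k f, (hpost k f).trans hf⟩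

end Groth.Agent.S4835
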