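import Groth.Statements.S4837
import Groth.Agent.S3570

set_option autoImplicit false
open CategoryTheory AlgebraicGeometry
universe u
open Lim8

namespace Groth.Agent.S4837

open Opposite TopologicalSpace

section
variable {S : Scheme.{u}} (A : RelSpec.QCAlg S)

lemma isIso_appLE_of_eq {X Y : Scheme.{u}} (g : X ⟶ Y) [IsOpenImmersion g] (V : Y.Opens) (W : X.Opens)
    (h1 : V ≤ g.opensRange) (h2 : W = g ⁻¹ᵁ V) : IsIso (g.appLE V W h2.le) := by
  subst h2
  rw [← Scheme.Hom.app_eq_appLE]
  exact Scheme.Hom.isIso_app g V h1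

instance isIso_gammaAff (U : S.Opens) (hU : IsAffineOpen U) : IsIso (A.gammaAff U hU) := by
  have := isIso_appLE_of_eq (A.ι U hU) (A.π ⁻¹ᵁ U) ⊤ (by rw [A.π_preimage U hU])
    (by rw [A.π_preimage U hU]; simp)
  unfold RelSpec.QCAlg.gammaAff
  infer_instance

/-- sections of a quasi-coherent algebra vanish if they vanish on affine opens -/
lemma eq_zero_of_affine (U : S.Opens) (s : A.presheaf.obj (op U))
    (h : ∀ (V : S.Opens) (_ : IsAffineOpen V) (hVU : V ≤ U), (A.presheaf.map (homOfLE hVU).op).hom s = 0) :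
    s = 0 := by
  refine TopCat.Sheaf.eq_of_locally_eq' ⟨A.presheaf, A.isSheaf⟩
    (fun V : {V : S.affineOpens // V.1 ≤ U} => V.1.1) U
    (fun V => homOfLE V.2) ?_ _ _ fun V => ?_
  · intro y hy
    obtain ⟨_, ⟨W, hW, rfl⟩, hyW, hWV⟩ := S.isBasis_affineOpens.exists_subset_of_mem_open
      (show y ∈ (U : Set S) from hy) U.2
    exact TopologicalSpace.Opens.mem_iSup.mpr ⟨⟨⟨W, hW⟩, hWV⟩, hyW⟩
  · rw [map_zero]
    exact h V.1.1 V.1.2 V.2

end

section
variable {X Y : Scheme.{u}} (f : X ⟶ Y) (C : RelSpec.QCAlg Y) (g : X ⟶ C.spec) (w : g ≫ C.π = f)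
  (φ : C.presheaf ⟶ f.base _* X.presheaf)
  (hφ : C.gammaMap ≫ φ = AffAlg.algHom C.π f g w)

include hφ in
lemma φ_app (U : Y.Opens) (hU : IsAffineOpen U) :
    C.gammaAff U hU ≫ φ.app (op U) =
      g.app (C.π ⁻¹ᵁ U) ≫ X.presheaf.map (eqToHom (by subst w; rfl)).op := by
  have := congrArg (fun α => α.app (op U)) hφ
  simp only [Groth.Agent.S3570.algHom_app] at this
  rw [← C.gammaMap_app U hU]
  exact this

include hφ in
lemma injective_iff (U : Y.Opens) (hU : IsAffineOpen U) :
    Function.Injective (φ.app (op U)).hom ↔ Function.Injective (g.app (C.π ⁻¹ᵁ U)).hom := by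
  have h := φ_app f C g w φ hφ U hU
  have b1 : Function.Bijective (C.gammaAff U hU).hom :=
    ConcreteCategory.bijective_of_isIso (C.gammaAff U hU)
  have b2 : Function.Bijective (X.presheaf.map (eqToHom (by subst w; rfl :
      f ⁻¹ᵁ U = g ⁻¹ᵁ (C.π ⁻¹ᵁ U))).op).hom :=
    ConcreteCategory.bijective_of_isIso _
  have h' : (φ.app (op U)).hom ∘ (C.gammaAff U hU).hom =
      (X.presheaf.map (eqToHom (by subst w; rfl : f ⁻¹ᵁ U = g ⁻¹ᵁ (C.π ⁻¹ᵁ U))).op).hom ∘
        (g.app (C.π ⁻¹ᵁ U)).hom := by
    funext x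
    exact congr($(h).hom x)
  constructor
  · intro hi
    have : Function.Injective ((φ.app (op U)).hom ∘ (C.gammaAff U hU).hom) := hi.comp b1.1
    rw [h'] at this
    exact Function.Injective.of_comp this
  · intro hi
    have : Function.Injective ((X.presheaf.map (eqToHom (by subst w; rfl :
      f ⁻¹ᵁ U = g ⁻¹ᵁ (C.π ⁻¹ᵁ U))).op).hom ∘ (g.app (C.π ⁻¹ᵁ U)).hom) := b2.1.comp hi
    rw [← h'] at this
    exact (Function.Injective.of_comp_iff' _ b1).mp this

end

/-- Let f : X ⟶ Y be a quasi-compact quasi-separated morphism, C a quasi-coherent O_Y-algebra with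
relative spectrum Z = Spec(C) over Y, g : X ⟶ Z a Y-morphism which is an immersion, and φ : C ⟶
f_*O_X the homomorphism of O_Y-algebras corresponding to g (the canonical identification of C with
the direct image of O_Z followed by the map induced by g). Then the scheme-theoretic image of g is
the whole of Z, i.e. the kernel ideal of g vanishes, if and only if φ is injective; and when this
holds g is an open immersion. -/
theorem result {X Y : Scheme.{u}} (f : X ⟶ Y)
    [QuasiCompact f] [QuasiSeparated f] (C : RelSpec.QCAlg Y) (g : X ⟶ C.spec) (w : g ≫ C.π = f)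
    [IsImmersion g] (φ : C ⟶ RelSpec.QCAlg.directImage f)
    (hφ : C.gammaMap ≫ φ.hom = AffAlg.algHom C.π f g w) :
    (g.ker = ⊥ ↔ ∀ U : Y.Opens, Function.Injective (φ.hom.app (Opposite.op U)).hom) ∧
      (g.ker = ⊥ → IsOpenImmersion g) := by
  have hqc : QuasiCompact g := by
    apply MorphismProperty.of_postcomp (W := @QuasiCompact) (W' := @QuasiSeparated) _ C.π
    · infer_instance
    · rw [w]
      infer_instance
  have key : ∀ (U : Y.Opens) (hU : IsAffineOpen U),
      g.ker.ideal ⟨C.π ⁻¹ᵁ U, hU.preimage C.π⟩ = ⊥ ↔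
        Function.Injective (φ.hom.app (Opposite.op U)).hom := by
    intro U hU
    rw [Scheme.Hom.ker_apply]
    exact ((injective_iff f C g w φ.hom hφ U hU).trans
      (RingHom.injective_iff_ker_eq_bot _)).symm
  refine ⟨⟨fun hker U => ?_, fun hinj => ?_⟩, fun hker => ?_⟩
  · rw [injective_iff_map_eq_zero]
    intro s hs
    apply eq_zero_of_affine C U s
    intro V hV hVU
    have h1 : Function.Injective (φ.hom.app (Opposite.op V)).hom := by
      rw [← key V hV, hker]
      rfl
    apply h1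
    rw [map_zero]
    have := congr($(φ.hom.naturality (homOfLE hVU).op).hom s)
    simp only [CommRingCat.hom_comp, RingHom.comp_apply] at this
    rw [this, hs, map_zero]
  · refine Scheme.IdealSheafData.ext_of_iSup_eq_top
      (fun U : Y.affineOpens ↦ ⟨C.π ⁻¹ᵁ U.1, U.2.preimage C.π⟩)
      (TopologicalSpace.IsOpenCover.comap (iSup_affineOpens_eq_top Y) C.π.base.1).iSup_eq_top
      fun U ↦ ?_
    rw [(key U.1 U.2).mpr (hinj U.1)]
    rfl
  · have : IsIso g.imageι := by
      delta Scheme.Hom.imageι Scheme.Hom.image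
      rw [hker]
      infer_instance
    rw [← g.toImage_imageι]
    infer_instance

end Groth.Agent.S4837
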