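import Mathlib
import Groth.Statements.S4839
import Groth.Agent.S4795
import Groth.Agent.Lib.Helper23.IsoDescent
import Groth.Agent.Lib.Helper23.LfpOfColim

set_option autoImplicit false
universe u
open CategoryTheory AlgebraicGeometry
open Cons9
open Groth.Agent.Lib.Helper23

namespace Groth.Agent.S4839

open CategoryTheory.Limits in
/-- Let k be a field and X, Y two schemes of finite type over k. If for some field extension K of k
there is a K-isomorphism X ⊗_k K ≅ Y ⊗_k K (X and Y are geometrically isomorphic), then there are a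
finite extension k' of k and a k'-isomorphism X ⊗_k k' ≅ Y ⊗_k k'. This is the case of the property
of being an isomorphism (base changes are the chosen fibre products with Spec of the extension). -/
theorem result {k : Type u} [Field k] {X Y : Scheme.{u}}
    (p : X ⟶ Spec (CommRingCat.of k)) (q : Y ⟶ Spec (CommRingCat.of k))
    [LocallyOfFiniteType p] [QuasiCompact p] [LocallyOfFiniteType q] [QuasiCompact q]
    (K : Type u) [Field K] [Algebra k K]
    (e : pullback p (Spec.map (CommRingCat.ofHom (algebraMap k K))) ≅ pullback q (Spec.map (CommRingCat.ofHom (algebraMap k K))))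
    (he : e.hom ≫ pullback.snd q (Spec.map (CommRingCat.ofHom (algebraMap k K))) = pullback.snd p (Spec.map (CommRingCat.ofHom (algebraMap k K)))) :
    ∃ (k' : Type u) (_ : Field k') (_ : Algebra k k') (_ : Module.Finite k k')
      (e' : pullback p (Spec.map (CommRingCat.ofHom (algebraMap k k'))) ≅ pullback q (Spec.map (CommRingCat.ofHom (algebraMap k k')))),
      e'.hom ≫ pullback.snd q (Spec.map (CommRingCat.ofHom (algebraMap k k'))) = pullback.snd p (Spec.map (CommRingCat.ofHom (algebraMap k k'))) := by
  classical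
  let F : Finset K ⥤ Under (CommRingCat.of k) := fgDiagram k K
  let cc : Limits.Cocone F := fgCocone k K
  have hcc : Limits.IsColimit cc := isColimitFgCocone
  let β : ∀ j : (Finset K)ᵒᵖ, (specDiagram F).obj j ⟶ Spec (CommRingCat.of k) :=
    fun j => Spec.map (F.obj j.unop).hom
  have hβ : ∀ {i j : (Finset K)ᵒᵖ} (a : i ⟶ j), (specDiagram F).map a ≫ β j = β i := by
    intro i j a
    have hw : (F.obj j.unop).hom ≫ (F.map a.unop).right = (F.obj i.unop).hom :=
      Under.w (F.map a.unop)
    change Spec.map (F.map a.unop).right ≫ Spec.map (F.obj j.unop).hom =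
      Spec.map (F.obj i.unop).hom
    rw [← Spec.map_comp, hw]
  let i₀ : (Finset K)ᵒᵖ := Opposite.op ∅
  have hβc : (specCone F cc).π.app i₀ ≫ β i₀ = Spec.map (CommRingCat.ofHom (algebraMap k K)) := by
    have hw : (F.obj i₀.unop).hom ≫ (cc.ι.app i₀.unop).right = cc.pt.hom :=
      Under.w (cc.ι.app i₀.unop)
    change Spec.map (cc.ι.app i₀.unop).right ≫ Spec.map (F.obj i₀.unop).hom = _
    rw [← Spec.map_comp, hw]
    rfl
  -- finiteness conditions
  have hXn : IsLocallyNoetherian X := LocallyOfFiniteType.isLocallyNoetherian p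
  have hYn : IsLocallyNoetherian Y := LocallyOfFiniteType.isLocallyNoetherian q
  have hp1 : LocallyOfFinitePresentation p := inferInstance
  have hq1 : LocallyOfFinitePresentation q := inferInstance
  have hp2 : QuasiSeparated p := inferInstance
  have hq2 : QuasiSeparated q := inferInstance
  have a1 : LocallyOfFinitePresentation (pullback.snd p (β i₀)) :=
    MorphismProperty.pullback_snd _ _ inferInstance
  have a2 : QuasiCompact (pullback.snd p (β i₀)) := MorphismProperty.pullback_snd _ _ inferInstance
  have a3 : QuasiSeparated (pullback.snd p (β i₀)) := MorphismProperty.pullback_snd _ _ inferInstance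
  have b1 : LocallyOfFinitePresentation (pullback.snd q (β i₀)) :=
    MorphismProperty.pullback_snd _ _ inferInstance
  have b2 : QuasiCompact (pullback.snd q (β i₀)) := MorphismProperty.pullback_snd _ _ inferInstance
  have b3 : QuasiSeparated (pullback.snd q (β i₀)) := MorphismProperty.pullback_snd _ _ inferInstance
  obtain ⟨qX, -, -, hX⟩ := exists_isPullback_of_comp
    (IsPullback.of_hasPullback p (Spec.map (CommRingCat.ofHom (algebraMap k K))))
    (IsPullback.of_hasPullback p (β i₀)) ((specCone F cc).π.app i₀) hβc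
  obtain ⟨qY, -, -, hY⟩ := exists_isPullback_of_comp
    (IsPullback.of_hasPullback q (Spec.map (CommRingCat.ofHom (algebraMap k K))))
    (IsPullback.of_hasPullback q (β i₀)) ((specCone F cc).π.app i₀) hβc
  have hinst : ∀ (i j : (Finset K)ᵒᵖ) (a : i ⟶ j), IsAffineHom ((specDiagram F).map a) :=
    fun i j a => inferInstance
  obtain ⟨j, φ, Xj, Yj, aj, bj, pX, pY, hXj, hYj, e', he'⟩ :=
    (Groth.Agent.S4795.result (specDiagram F) (specCone F cc) (isLimitSpecCone F hcc) i₀
      (pullback.snd p (β i₀)) (pullback.snd q (β i₀))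
      (pullback.snd p (Spec.map (CommRingCat.ofHom (algebraMap k K))))
      (pullback.snd q (Spec.map (CommRingCat.ofHom (algebraMap k K)))) qX qY hX hY).mp ⟨e, he⟩
  -- a closed point of the stage
  let R : Subalgebra k K := Algebra.adjoin k ((j.unop : Finset K) : Set K)
  have hRft : Algebra.FiniteType k R :=
    (Subalgebra.fg_iff_finiteType R).mp ⟨j.unop, rfl⟩
  obtain ⟨m, hm⟩ := Ideal.exists_maximal R
  letI : Field (R ⧸ m) := Ideal.Quotient.field m
  have hfin : Module.Finite k (R ⧸ m) := finite_of_finite_type_of_isJacobsonRing k (R ⧸ m)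
  let γ : Spec (CommRingCat.of (R ⧸ m)) ⟶ (specDiagram F).obj j :=
    Spec.map (CommRingCat.ofHom (Ideal.Quotient.mk m))
  have hγ : γ ≫ ((specDiagram F).map φ ≫ β i₀) =
      Spec.map (CommRingCat.ofHom (algebraMap k (R ⧸ m))) := by
    rw [hβ φ]
    change Spec.map (CommRingCat.ofHom (Ideal.Quotient.mk m)) ≫
      Spec.map (CommRingCat.ofHom (algebraMap k R)) = _
    rw [← Spec.map_comp]
    rfl
  have hXj' : IsPullback (pX ≫ pullback.fst p (β i₀)) aj p ((specDiagram F).map φ ≫ β i₀) :=
    hXj.paste_horiz (IsPullback.of_hasPullback p (β i₀))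
  have hYj' : IsPullback (pY ≫ pullback.fst q (β i₀)) bj q ((specDiagram F).map φ ≫ β i₀) :=
    hYj.paste_horiz (IsPullback.of_hasPullback q (β i₀))
  obtain ⟨sX, -, -, hXS⟩ := exists_isPullback_of_comp
    (IsPullback.of_hasPullback p (Spec.map (CommRingCat.ofHom (algebraMap k (R ⧸ m))))) hXj' γ hγ
  obtain ⟨sY, -, -, hYS⟩ := exists_isPullback_of_comp
    (IsPullback.of_hasPullback q (Spec.map (CommRingCat.ofHom (algebraMap k (R ⧸ m))))) hYj' γ hγ
  obtain ⟨e'', he'', -⟩ := exists_iso_of_isPullback hXS hYS e' he'
  exact ⟨R ⧸ m, inferInstance, inferInstance, hfin, e'', he''⟩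

end Groth.Agent.S4839
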