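import Groth.Statements.S4844
import Groth.Agent.Lib.Helper62.QProjFibre
import Groth.Agent.S9223
-- import your own Groth.Agent.* helpers here

set_option autoImplicit false
set_option linter.style.haveILetI false
open CategoryTheory AlgebraicGeometry
universe u
open Cons9

namespace Groth.Agent.S4844

open CategoryTheory.Limits in
/-- Let g : Y ⟶ S and f : X ⟶ Y be such that X and Y are of finite presentation over S (locally of
finite presentation, quasi-compact and quasi-separated). For each point s of S let f_s : X_s ⟶ Y_s
be the morphism induced on the fibres over s. Then the set of s for which f_s is quasi-projective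
(of finite type, with an invertible O_{X_s}-module ample relative to f_s) is ind-constructible in S. -/
theorem result {X Y S : Scheme.{u}} (f : X ⟶ Y) (g : Y ⟶ S)
    [LocallyOfFinitePresentation g] [QuasiCompact g] [QuasiSeparated g]
    [LocallyOfFinitePresentation (f ≫ g)] [QuasiCompact (f ≫ g)] [QuasiSeparated (f ≫ g)] :
    ProCons.IsIndConstructible {s : S |
      RelProj.IsQuasiProjective
        (pullback.lift (pullback.fst (f ≫ g) (S.fromSpecResidueField s) ≫ f) (pullback.snd (f ≫ g) (S.fromSpecResidueField s))
          ((Category.assoc _ _ _).trans pullback.condition) :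
        pullback (f ≫ g) (S.fromSpecResidueField s) ⟶ pullback g (S.fromSpecResidueField s))} := by
  have core : Groth.Agent.Lib.Helper62.RelAmpleStage.CoreStmt.{u} := by
    intro I _ _ D c hc _ _ _ i₀ L₀ hL₀ h
    exact Groth.Agent.S9223.result D c hc i₀ L₀ hL₀ h
  have h := Groth.Agent.Lib.Helper62.QProjFibre.isIndConstructible_setOf_qqp f g core
  have hset : {s : S | RelProj.IsQuasiProjective
      (pullback.lift (pullback.fst (f ≫ g) (S.fromSpecResidueField s) ≫ f) (pullback.snd (f ≫ g) (S.fromSpecResidueField s))
          ((Category.assoc _ _ _).trans pullback.condition) :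
        pullback (f ≫ g) (S.fromSpecResidueField s) ⟶ pullback g (S.fromSpecResidueField s))} =
      {s : S | Groth.Agent.Lib.Helper62.QProjFibre.QQP f g (S.fromSpecResidueField s)} := by
    ext s
    constructor
    · rintro ⟨_, _, M, hM⟩
      exact ⟨M, hM⟩
    · rintro ⟨M, hM⟩
      refine ⟨?_, hM.1, M, hM⟩
      have e0 : Groth.Agent.Lib.Helper23.fibreMap f g (S.fromSpecResidueField s) ≫
          pullback.snd g (S.fromSpecResidueField s) =
          pullback.snd (f ≫ g) (S.fromSpecResidueField s) := pullback.lift_snd _ _ _
      haveI : LocallyOfFiniteType (Groth.Agent.Lib.Helper23.fibreMap f g (S.fromSpecResidueField s) ≫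
          pullback.snd g (S.fromSpecResidueField s)) := by
        rw [e0]; infer_instance
      exact locallyOfFiniteType_of_comp (Groth.Agent.Lib.Helper23.fibreMap f g (S.fromSpecResidueField s))
        (pullback.snd g (S.fromSpecResidueField s))
  rw [hset]
  exact h

end Groth.Agent.S4844
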