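import Mathlib
import Groth.Statements.S4849
import Groth.Agent.Lib.Helper23.FlatStagePoint
import Groth.Agent.Lib.Helper23.FlatStageRel
import Groth.Agent.Lib.Helper13.LimDescent2
import Groth.Agent.Lib.Helper16.FlatPull.BaseChange

set_option autoImplicit false
universe u
open CategoryTheory AlgebraicGeometry
open EGA43

namespace Groth.Agent.S4849

/-- Let S be the limit of a cofiltered system (S_i) of schemes with affine transition morphisms, S_{i₀}
a quasi-compact stage, f₀ : X₀ ⟶ Y₀ an S_{i₀}-morphism between schemes of finite presentation over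
S_{i₀}, and F₀ a quasi-coherent O_{X₀}-module of finite presentation. Let f : X ⟶ Y and F be
obtained by base change to S. Then F is f-flat if and only if there are an index i over i₀ and base
changes f_i : X_i ⟶ Y_i, F_i of f₀, F₀ to S_i with F_i f_i-flat. (Base changes are expressed by
pullback squares; the stage S_{i₀} is only assumed quasi-compact.) -/
theorem result {I : Type u} [SmallCategory I] [IsCofiltered I]
    (D : I ⥤ Scheme.{u}) (c : Limits.Cone D) (hc : Limits.IsLimit c)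
    [∀ (i j : I) (φ : i ⟶ j), IsAffineHom (D.map φ)] (i₀ : I) [CompactSpace (D.obj i₀)]
    {X₀ Y₀ : Scheme.{u}} (f₀ : X₀ ⟶ Y₀) (g₀ : Y₀ ⟶ D.obj i₀)
    [LocallyOfFinitePresentation g₀] [QuasiCompact g₀] [QuasiSeparated g₀]
    [LocallyOfFinitePresentation (f₀ ≫ g₀)] [QuasiCompact (f₀ ≫ g₀)] [QuasiSeparated (f₀ ≫ g₀)]
    (F₀ : X₀.Modules) [Coh.IsQCoh F₀] (hF₀ : CohB1.IsFP F₀)
    {X Y : Scheme.{u}} (f : X ⟶ Y) (g : Y ⟶ c.pt) (qY : Y ⟶ Y₀) (qX : X ⟶ X₀)
    (hY : IsPullback qY g g₀ (c.π.app i₀)) (hX : IsPullback qX f f₀ qY) :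
    FlatMod.IsFlatOver f ((Scheme.Modules.pullback qX).obj F₀) ↔
      ∃ (i : I) (φ : i ⟶ i₀) (Xi Yi : Scheme.{u}) (fi : Xi ⟶ Yi) (gi : Yi ⟶ D.obj i)
        (pY : Yi ⟶ Y₀) (pX : Xi ⟶ X₀),
        IsPullback pY gi g₀ (D.map φ) ∧ IsPullback pX fi f₀ pY ∧
          FlatMod.IsFlatOver fi ((Scheme.Modules.pullback pX).obj F₀) := by
  open Groth.Agent.Lib.Helper23 Groth.Agent.Lib.Helper23.FlatStage Limits in
  haveI hD : ∀ {i j : I} (φ : i ⟶ j), IsAffineHom (D.map φ) := fun φ => inferInstance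
  constructor
  · intro hfl
    have hf₀ : LocallyOfFinitePresentation f₀ :=
      Groth.Agent.Lib.Helper13.LimDescent.locallyOfFinitePresentation_of_comp f₀ g₀
        inferInstance inferInstance
    haveI : CompactSpace X₀ := QuasiCompact.compactSpace_of_compactSpace (f₀ ≫ g₀)
    haveI : ∀ (i j : Over i₀) (a : i ⟶ j), IsAffineHom ((bcDiagram D i₀ g₀).map a) :=
      fun _ _ a => inferInstance
    haveI : LocallyOfFinitePresentation (relF₀ D i₀ f₀ g₀) := by
      unfold relF₀; infer_instance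
    obtain ⟨k, hk⟩ := exists_stage_isFlatOver (bcDiagram D i₀ g₀) (relCone D c i₀ g₀ g qY hY)
      (relTop i₀) (isLimitRelCone D c i₀ g₀ g qY hY hc) (relF₀ D i₀ f₀ g₀) F₀ hF₀ f qX
      (isPullback_rel D c i₀ f₀ g₀ f g qY qX hY hX) hfl
    refine ⟨k.left.left, k.left.hom, pullback f₀ (bcSnd D i₀ g₀ k.left),
      (bcDiagram D i₀ g₀).obj k.left, pullback.snd _ _, bcFst D i₀ g₀ k.left,
      bcSnd D i₀ g₀ k.left, pullback.fst _ _,
      (isPullback_bcObj D i₀ g₀ k.left).flip, IsPullback.of_hasPullback _ _, ?_⟩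
    exact hk k (𝟙 k) (pullback.snd _ _) (pullback.fst _ _) (isPullback_rel_stage D i₀ f₀ g₀ k)
  · rintro ⟨i, φ, Xi, Yi, fi, gi, pY, pX, hpY, hpX, hfl⟩ x
    let vY : Y ⟶ Yi := hpY.lift qY (g ≫ c.π.app i) (by
      rw [hY.w, Category.assoc, c.w])
    have h1 : vY ≫ pY = qY := hpY.lift_fst _ _ _
    let vX : X ⟶ Xi := hpX.lift qX (f ≫ vY) (by
      rw [Category.assoc, h1, hX.w])
    have h3 : vX ≫ pX = qX := hpX.lift_fst _ _ _
    have h4 : vX ≫ fi = f ≫ vY := hpX.lift_snd _ _ _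
    have hsq : IsPullback vX f fi vY :=
      IsPullback.of_right (by rw [h3, h1]; exact hX) h4 hpX
    haveI : ((Scheme.Modules.pullback pX).obj F₀).IsQuasicoherent :=
      Groth.Agent.Lib.Helper16.FlatPull.isQuasicoherent_pullback pX F₀
    have h5 := Groth.Agent.Lib.Helper16.FlatPull.isFlatOverAt_baseChange fi f vX vY hsq
      ((Scheme.Modules.pullback pX).obj F₀) x (hfl _)
    exact Groth.Agent.Lib.Helper23.FibreFlatCons.isFlatOverAt_of_iso f
      (Groth.Agent.Lib.Helper18.TransSec.compIso vX pX qX h3 F₀) x h5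

end Groth.Agent.S4849
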