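import Mathlib
import Groth.Statements.S4853
import Groth.Agent.Lib.Helper23.NilpotentFree

set_option autoImplicit false
universe u
open TensorProduct
open EGA43

namespace Groth.Agent.S4853

open Groth.Agent.Lib.Helper23 in
/-- Let A be a commutative ring and M an A-module such that (A/J) ⊗_A M is free over A/J for some
nilpotent ideal J of A. Then among the ideals R of A such that (A/R) ⊗_A M is free over A/R there is
a least one, R₀, which is also the least ideal R such that (A/R) ⊗_A M is flat over A/R; and for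
every commutative A-algebra A', the module A' ⊗_A M is free over A' if and only if it is flat over
A', if and only if R₀ generates the zero ideal of A'. -/
theorem result {A : Type u} [CommRing A]
    (M : Type u) [AddCommGroup M] [Module A M]
    (J : Ideal A) (hJ : IsNilpotent J) (hfree : Module.Free (A ⧸ J) ((A ⧸ J) ⊗[A] M)) :
    ∃ R₀ : Ideal A,
      IsLeast {R : Ideal A | Module.Free (A ⧸ R) ((A ⧸ R) ⊗[A] M)} R₀ ∧
      IsLeast {R : Ideal A | Module.Flat (A ⧸ R) ((A ⧸ R) ⊗[A] M)} R₀ ∧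
      ∀ (A' : Type u) [CommRing A'] [Algebra A A'],
        (Module.Free A' (A' ⊗[A] M) ↔ Ideal.map (algebraMap A A') R₀ = ⊥) ∧
        (Module.Flat A' (A' ⊗[A] M) ↔ Ideal.map (algebraMap A A') R₀ = ⊥) := by
  let b := Module.Free.chooseBasis (A ⧸ J) ((A ⧸ J) ⊗[A] M)
  have hquot : ∀ R : Ideal A, Ideal.map (algebraMap A (A ⧸ R)) (relIdeal b) = ⊥ ↔
      relIdeal b ≤ R := by
    intro R
    rw [Ideal.map_eq_bot_iff_le_ker, Ideal.Quotient.algebraMap_eq, Ideal.mk_ker]
  refine ⟨relIdeal b, ⟨?_, ?_⟩, ⟨?_, ?_⟩, fun A' _ _ => ⟨?_, ?_⟩⟩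
  · exact (free_iff_map_relIdeal b hJ (A ⧸ relIdeal b)).mpr ((hquot _).mpr le_rfl)
  · intro R hR
    exact (hquot R).mp ((free_iff_map_relIdeal b hJ (A ⧸ R)).mp hR)
  · exact (flat_iff_map_relIdeal b hJ (A ⧸ relIdeal b)).mpr ((hquot _).mpr le_rfl)
  · intro R hR
    exact (hquot R).mp ((flat_iff_map_relIdeal b hJ (A ⧸ R)).mp hR)
  · exact free_iff_map_relIdeal b hJ A'
  · exact flat_iff_map_relIdeal b hJ A'

end Groth.Agent.S4853
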