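import Groth.Statements.S4856
import Groth.Agent.H76.LocalFamilyFlatScheme
import Groth.Agent.Lib.Helper45.FiniteType

set_option autoImplicit false
universe u
open CategoryTheory AlgebraicGeometry
open EGA43

namespace Groth.Agent.S4856

open CategoryTheory.Limits in
/-- Let A be an Artinian local ring, f : X ⟶ Spec A locally of finite type, F a coherent O_X-module and
x a point of X. Let (u_i : A → A_i) be a family of ring homomorphisms into local rings such that an
element of A killed by every u_i is zero. If, for every i, the pullback of F to X_i = X ×_{Spec A}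
Spec A_i is flat over Spec A_i at every point of X_i whose images are x in X and the closed point in
Spec A_i, then F is f-flat at x. -/
theorem result {A : Type u} [CommRing A]
    [IsArtinianRing A] [IsLocalRing A] {X : Scheme.{u}} (f : X ⟶ Spec (CommRingCat.of A))
    [LocallyOfFiniteType f] (F : X.Modules) (hF : Coh.IsCoh F) (x : X)
    {ι : Type u} (A' : ι → Type u) [∀ i, CommRing (A' i)] [∀ i, IsLocalRing (A' i)] (u : ∀ i, A →+* A' i)
    (hu : ∀ a : A, (∀ i, u i a = 0) → a = 0)
    (hflat : ∀ (i : ι) (x' : ↥(pullback f (Spec.map (CommRingCat.ofHom (u i))))),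
      pullback.fst f (Spec.map (CommRingCat.ofHom (u i))) x' = x →
      pullback.snd f (Spec.map (CommRingCat.ofHom (u i))) x' = IsLocalRing.closedPoint (A' i) →
      FlatMod.IsFlatOverAt (pullback.snd f (Spec.map (CommRingCat.ofHom (u i))))
        ((Scheme.Modules.pullback (pullback.fst f (Spec.map (CommRingCat.ofHom (u i))))).obj F) x') :
    FlatMod.IsFlatOverAt f F x := by
  classical
  have hVtop : IsAffineOpen (⊤ : (Spec (CommRingCat.of A)).Opens) := isAffineOpen_top _
  obtain ⟨U, hU, hxU, -⟩ := TopologicalSpace.Opens.isBasis_iff_nbhd.mp X.isBasis_affineOpens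
    (TopologicalSpace.Opens.mem_top x)
  have eU : U ≤ f ⁻¹ᵁ ⊤ := fun _ _ => trivial
  haveI hqc : F.IsQuasicoherent := hF.1
  -- ring structure on `Γ(Spec A, ⊤)`
  let eA : Γ(Spec (CommRingCat.of A), ⊤) ≃+* A :=
    (Scheme.ΓSpecIso (CommRingCat.of A)).commRingCatIsoToRingEquiv
  haveI : IsLocalRing Γ(Spec (CommRingCat.of A), ⊤) := eA.symm.isLocalRing
  haveI : IsArtinianRing Γ(Spec (CommRingCat.of A), ⊤) := eA.symm.isArtinianRing
  haveI : ∀ i, IsLocalRing Γ(Spec (CommRingCat.of (A' i)), ⊤) := fun i =>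
    ((Scheme.ΓSpecIso (CommRingCat.of (A' i))).commRingCatIsoToRingEquiv).symm.isLocalRing
  have hft : (f.appLE ⊤ U eU).hom.FiniteType :=
    LocallyOfFiniteType.finiteType_appLE f hVtop hU eU
  haveI : IsNoetherianRing Γ(X, U) := by
    letI := (f.appLE ⊤ U eU).hom.toAlgebra
    haveI : Algebra.FiniteType Γ(Spec (CommRingCat.of A), ⊤) Γ(X, U) := hft
    exact Algebra.FiniteType.isNoetherianRing Γ(Spec (CommRingCat.of A), ⊤) Γ(X, U)
  haveI : Module.Finite Γ(X, U) Γ(F, U) :=
    Groth.Agent.Lib.Helper45.finite_sections_of_isCoh hU F hF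
  rw [Groth.Agent.H76.FlatLocusSheaf.isFlatOverAt_iff_flat_localizedModule f F hVtop hU eU
    ⟨x, hxU⟩]
  letI algRA : Algebra Γ(Spec (CommRingCat.of A), ⊤) Γ(X, U) := (f.appLE ⊤ U eU).hom.toAlgebra
  letI modRM : Module Γ(Spec (CommRingCat.of A), ⊤) Γ(F, U) :=
    Module.compHom _ (f.appLE ⊤ U eU).hom
  haveI tRAM : IsScalarTower Γ(Spec (CommRingCat.of A), ⊤) Γ(X, U) Γ(F, U) :=
    IsScalarTower.of_compHom _ _ _
  -- the kernels
  let K : ι → Ideal Γ(Spec (CommRingCat.of A), ⊤) := fun i =>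
    RingHom.ker ((Spec.map (CommRingCat.ofHom (u i))).appLE ⊤ ⊤ (fun _ _ => trivial)).hom
  have key : ∀ i, Module.Flat (Γ(Spec (CommRingCat.of A), ⊤) ⧸ K i)
      (TensorProduct Γ(Spec (CommRingCat.of A), ⊤) (Γ(Spec (CommRingCat.of A), ⊤) ⧸ K i)
        (LocalizedModule (hU.primeIdealOf ⟨x, hxU⟩).asIdeal.primeCompl Γ(F, U))) := by
    intro i
    refine Groth.Agent.H76.LocalFamilyFlatScheme.flat_quotient_ker_sections f
      (pullback.snd f (Spec.map (CommRingCat.ofHom (u i))))
      (pullback.fst f (Spec.map (CommRingCat.ofHom (u i))))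
      (Spec.map (CommRingCat.ofHom (u i))) (IsPullback.of_hasPullback _ _) F hVtop
      (isAffineOpen_top (Spec (CommRingCat.of (A' i)))) (fun _ _ => trivial) hU eU ⟨x, hxU⟩ ?_
    intro x' h1 h2
    refine hflat i x' h1 ?_
    rw [h2]
    exact Groth.Agent.H76.LocalFamilyFlatScheme.fromSpec_top_closedPoint (CommRingCat.of (A' i))
  -- joint injectivity
  have hK : ∀ r : Γ(Spec (CommRingCat.of A), ⊤), (∀ i, r ∈ K i) → r = 0 := by
    intro r hr
    apply (Scheme.ΓSpecIso (CommRingCat.of A)).commRingCatIsoToRingEquiv.injective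
    rw [map_zero]
    apply hu
    intro i
    have h1 : ((Spec.map (CommRingCat.ofHom (u i))).appLE ⊤ ⊤ (fun _ _ => trivial)).hom r = 0 :=
      hr i
    have h2 := Scheme.ΓSpecIso_naturality (CommRingCat.ofHom (u i))
    have h3 : ((Spec.map (CommRingCat.ofHom (u i))).appLE ⊤ ⊤ (fun _ _ => trivial)) =
        (Spec.map (CommRingCat.ofHom (u i))).appTop := by
      rw [Scheme.Hom.appTop, ← Scheme.Hom.appLE_eq_app]
      rfl
    rw [h3] at h1
    have h4 := congrArg (fun φ => φ.hom r) h2
    simp only [CommRingCat.hom_comp, RingHom.coe_comp, Function.comp_apply, h1, map_zero] at h4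
    exact h4.symm
  obtain ⟨s, hs⟩ := Groth.Agent.H76.LocalFamilyFlatScheme.exists_finset_inf_eq_bot K hK
  haveI := Groth.Agent.H76.IdealGlue.flat_quotient_finset_inf
    (LocalizedModule (hU.primeIdealOf ⟨x, hxU⟩).asIdeal.primeCompl Γ(F, U)) s K
    (fun i _ => key i)
  exact Groth.Agent.H76.SquareFlat.flat_of_quotient_bot
    (LocalizedModule (hU.primeIdealOf ⟨x, hxU⟩).asIdeal.primeCompl Γ(F, U)) (s.inf K) hs

end Groth.Agent.S4856
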