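import Groth.Statements.S4857
import Groth.Agent.H76.LocalFamilyFlatNoethScheme
import Groth.Agent.Lib.Helper80.PullbackFiniteType
import Groth.Agent.Lib.Helper23.FibreFlatCons

set_option autoImplicit false
universe u
open CategoryTheory AlgebraicGeometry
open EGA43

namespace Groth.Agent.S4857

open CategoryTheory.Limits in
/-- Let Y be a locally Noetherian scheme, f : X ⟶ Y locally of finite type, F a coherent O_X-module and
x a point of X with y = f x. Let (φ_i : O_{Y,y} → A_i) be a family of local homomorphisms into local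
rings such that, for every N, some finite intersection of the ideals φ_i⁻¹(m_{A_i}^n) is contained
in m_y^N. Let Y_i = Spec A_i ⟶ Y be the induced Y-schemes and X_i = X ×_Y Y_i. If for every i the
pullback of F to X_i is flat over Y_i at every point of X_i lying over x and over the closed point
of Y_i, then F is f-flat at x. -/
theorem result {X Y : Scheme.{u}} [IsLocallyNoetherian Y]
    (f : X ⟶ Y) [LocallyOfFiniteType f] (F : X.Modules) (hF : Coh.IsCoh F) (x : X)
    {ι : Type u} (A : ι → Type u) [∀ i, CommRing (A i)] [∀ i, IsLocalRing (A i)]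
    (φ : ∀ i, (Y.presheaf.stalk (f x) : Type u) →+* A i) [∀ i, IsLocalHom (φ i)]
    (htop : ∀ N : ℕ, ∃ s : Finset (ι × ℕ),
      ⨅ p ∈ s, Ideal.comap (φ p.1) (IsLocalRing.maximalIdeal (A p.1) ^ p.2) ≤
        IsLocalRing.maximalIdeal ↑(Y.presheaf.stalk (f x)) ^ N) :
    letI g : ∀ i, Spec (CommRingCat.of (A i)) ⟶ Y :=
      fun i => Spec.map (CommRingCat.ofHom (φ i)) ≫ Y.fromSpecStalk (f x)
    (∀ (i : ι) (x' : ↥(pullback f (g i))), pullback.fst f (g i) x' = x →
      pullback.snd f (g i) x' = IsLocalRing.closedPoint (A i) →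
      FlatMod.IsFlatOverAt (pullback.snd f (g i)) ((Scheme.Modules.pullback (pullback.fst f (g i))).obj F) x') →
    FlatMod.IsFlatOverAt f F x := by
  intro hyp
  beta_reduce at hyp
  classical
  haveI hqcF : F.IsQuasicoherent := hF.1
  haveI hjflat : Flat (Y.fromSpecStalk (f x)) := by
    obtain ⟨_, ⟨U, hU, rfl⟩, hxU, -⟩ :=
      Y.isBasis_affineOpens.exists_subset_of_mem_open (Set.mem_univ (f x)) isOpen_univ
    rw [← hU.fromSpecStalk_eq_fromSpecStalk hxU]
    delta IsAffineOpen.fromSpecStalk
    have : Flat (Spec.map (Y.presheaf.germ U (f x) hxU)) := by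
      rw [HasRingHomProperty.Spec_iff (P := @Flat)]
      letI := TopCat.Presheaf.algebra_section_stalk Y.presheaf ⟨f x, hxU⟩
      have := hU.isLocalization_stalk ⟨f x, hxU⟩
      have : Module.Flat Γ(Y, U) (Y.presheaf.stalk (f x)) :=
        IsLocalization.flat _ (hU.primeIdealOf ⟨f x, hxU⟩).asIdeal.primeCompl
      exact this
    have := hU.isOpenImmersion_fromSpec
    infer_instance
  obtain ⟨x₀, hx₀1, hx₀2⟩ := Scheme.Pullback.exists_preimage_pullback (f := f) (g := (Y.fromSpecStalk (f x))) x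
    (IsLocalRing.closedPoint (Y.presheaf.stalk (f x))) (by
      rw [Scheme.fromSpecStalk_closedPoint])
  have hF₀ : Coh.IsCoh ((Scheme.Modules.pullback (pullback.fst f (Y.fromSpecStalk (f x)))).obj F) :=
    Groth.Agent.Lib.Helper80.isCoh_pullback (pullback.fst f (Y.fromSpecStalk (f x))) F hF
  have hZ : FlatMod.IsFlatOverAt (pullback.snd f (Y.fromSpecStalk (f x)))
      ((Scheme.Modules.pullback (pullback.fst f (Y.fromSpecStalk (f x)))).obj F) x₀ := by
    haveI hloc : IsLocalRing (Y.presheaf.stalk (f x) : Type u) := inferInstance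
    haveI hnoe : IsNoetherianRing (Y.presheaf.stalk (f x) : Type u) := inferInstance
    refine @Groth.Agent.H76.LocalFamilyFlatNoethScheme.isFlatOverAt_of_local_family_spec
      (Y.presheaf.stalk (f x) : Type u) _ hloc hnoe (pullback f (Y.fromSpecStalk (f x))) (pullback.snd f (Y.fromSpecStalk (f x))) _ _ hF₀ x₀
      hx₀2 ι A _ _ φ _ htop ?_
    intro i x' h1 h2
    have e1 : (pullbackLeftPullbackSndIso f (Y.fromSpecStalk (f x)) (Spec.map (CommRingCat.ofHom (φ i)))).hom ≫
        pullback.fst f (Spec.map (CommRingCat.ofHom (φ i)) ≫ (Y.fromSpecStalk (f x))) =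
        pullback.fst (pullback.snd f (Y.fromSpecStalk (f x))) (Spec.map (CommRingCat.ofHom (φ i))) ≫
          pullback.fst f (Y.fromSpecStalk (f x)) := pullbackLeftPullbackSndIso_hom_fst _ _ _
    have e2 : (pullbackLeftPullbackSndIso f (Y.fromSpecStalk (f x)) (Spec.map (CommRingCat.ofHom (φ i)))).hom ≫
        pullback.snd f (Spec.map (CommRingCat.ofHom (φ i)) ≫ (Y.fromSpecStalk (f x))) =
        pullback.snd (pullback.snd f (Y.fromSpecStalk (f x))) (Spec.map (CommRingCat.ofHom (φ i))) :=
      pullbackLeftPullbackSndIso_hom_snd _ _ _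
    have hH := hyp i ((pullbackLeftPullbackSndIso f (Y.fromSpecStalk (f x))
        (Spec.map (CommRingCat.ofHom (φ i)))).hom x')
      ((Scheme.Hom.comp_apply _ _ x').symm.trans
        ((congrArg (fun ψ : _ ⟶ X => ψ x') e1).trans
          ((Scheme.Hom.comp_apply _ _ x').trans ((congrArg (pullback.fst f (Y.fromSpecStalk (f x))) h1).trans hx₀1))))
      ((Scheme.Hom.comp_apply _ _ x').symm.trans
        ((congrArg (fun ψ : _ ⟶ Spec (CommRingCat.of (A i)) => ψ x') e2).trans h2))
    have hqc' := Groth.Agent.Lib.Helper16.FlatPull.isQuasicoherent_pullback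
      (pullback.fst f (Spec.map (CommRingCat.ofHom (φ i)) ≫ (Y.fromSpecStalk (f x)))) F
    have h5 := (@Groth.Agent.Lib.Helper16.FlatPull.isFlatOverAt_pullback_iff _ _ _
      (pullbackLeftPullbackSndIso f (Y.fromSpecStalk (f x)) (Spec.map (CommRingCat.ofHom (φ i)))).hom
      (pullback.snd f (Spec.map (CommRingCat.ofHom (φ i)) ≫ (Y.fromSpecStalk (f x)))) _ hqc' x'
      (Flat.stalkMap _ x')).mp hH
    rw [e2] at h5
    refine Groth.Agent.Lib.Helper23.FibreFlatCons.isFlatOverAt_of_iso _ ?_ x' h5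
    exact (Scheme.Modules.pullbackComp
        (pullbackLeftPullbackSndIso f (Y.fromSpecStalk (f x)) (Spec.map (CommRingCat.ofHom (φ i)))).hom
        (pullback.fst f (Spec.map (CommRingCat.ofHom (φ i)) ≫ (Y.fromSpecStalk (f x))))).app F ≪≫
      (Scheme.Modules.pullbackCongr e1).app F ≪≫
      ((Scheme.Modules.pullbackComp
        (pullback.fst (pullback.snd f (Y.fromSpecStalk (f x))) (Spec.map (CommRingCat.ofHom (φ i))))
        (pullback.fst f (Y.fromSpecStalk (f x)))).app F).symm
  have h3 := Groth.Agent.Lib.Helper16.FlatPull.isFlatOverAt_comp_of_flat (pullback.snd f (Y.fromSpecStalk (f x))) (Y.fromSpecStalk (f x)) _ x₀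
    (Flat.stalkMap (Y.fromSpecStalk (f x)) _) hZ
  rw [show pullback.snd f (Y.fromSpecStalk (f x)) ≫ (Y.fromSpecStalk (f x)) = pullback.fst f (Y.fromSpecStalk (f x)) ≫ f from pullback.condition.symm] at h3
  have h4 := (Groth.Agent.Lib.Helper16.FlatPull.isFlatOverAt_pullback_iff (pullback.fst f (Y.fromSpecStalk (f x))) f F x₀
    (Flat.stalkMap (pullback.fst f (Y.fromSpecStalk (f x))) x₀)).mpr h3
  rw [show (pullback.fst f (Y.fromSpecStalk (f x))).base x₀ = x from hx₀1] at h4
  exact h4

end Groth.Agent.S4857
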