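import Groth.Statements.S4859
-- import your own Groth.Agent.* helpers here

set_option autoImplicit false
universe u
open EGA43

namespace Groth.Agent.S4859

/-- Conditions a), a′), b) (quasi-homeomorphisms): for a continuous map f : X₀ → X the following are
equivalent: taking preimages is a bijection from the open subsets of X onto the open subsets of X₀;
taking preimages is a bijection from the closed subsets of X onto the closed subsets of X₀; the
topology of X₀ is induced from X through f and the image f(X₀) is very dense in X, in the sense that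
two open subsets of X with the same trace on f(X₀) coincide. -/
theorem result {X₀ X : Type u} [TopologicalSpace X₀] [TopologicalSpace X]
    (f : X₀ → X) (hf : Continuous f) :
    [Function.Bijective (fun U : TopologicalSpace.Opens X =>
        (⟨f ⁻¹' (U : Set X), U.isOpen.preimage hf⟩ : TopologicalSpace.Opens X₀)),
      Function.Bijective (fun F : TopologicalSpace.Closeds X =>
        (⟨f ⁻¹' (F : Set X), F.isClosed.preimage hf⟩ : TopologicalSpace.Closeds X₀)),
      Topology.IsInducing f ∧
        ∀ U V : Set X, IsOpen U → IsOpen V → U ∩ Set.range f = V ∩ Set.range f → U = V].TFAE := by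
  have key : ∀ U V : Set X, f ⁻¹' U = f ⁻¹' V ↔ U ∩ Set.range f = V ∩ Set.range f := by
    intro U V
    constructor
    · intro h
      ext x
      constructor
      · rintro ⟨hxU, y, rfl⟩
        exact ⟨(Set.ext_iff.mp h y).mp hxU, y, rfl⟩
      · rintro ⟨hxV, y, rfl⟩
        exact ⟨(Set.ext_iff.mp h y).mpr hxV, y, rfl⟩
    · intro h
      ext y
      have := Set.ext_iff.mp h (f y)
      simp only [Set.mem_inter_iff, Set.mem_range, exists_apply_eq_apply, and_true] at this
      exact this
  tfae_have 1 → 2 := by
    rintro ⟨hinj, hsurj⟩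
    constructor
    · intro F F' e
      have e' : f ⁻¹' (F : Set X) = f ⁻¹' (F' : Set X) := congrArg (fun G : TopologicalSpace.Closeds X₀ => (G : Set X₀)) e
      have := @hinj F.compl F'.compl (by
        apply TopologicalSpace.Opens.ext
        show f ⁻¹' (F : Set X)ᶜ = f ⁻¹' (F' : Set X)ᶜ
        rw [Set.preimage_compl, Set.preimage_compl, e'])
      have h2 : ((F.compl : TopologicalSpace.Opens X) : Set X) = (F'.compl : TopologicalSpace.Opens X) := congrArg _ this
      apply TopologicalSpace.Closeds.ext
      exact compl_injective h2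
    · intro G
      obtain ⟨U, hU⟩ := hsurj G.compl
      refine ⟨U.compl, ?_⟩
      apply TopologicalSpace.Closeds.ext
      have : f ⁻¹' (U : Set X) = (G : Set X₀)ᶜ := congrArg (fun G : TopologicalSpace.Opens X₀ => (G : Set X₀)) hU
      show f ⁻¹' (U : Set X)ᶜ = G
      rw [Set.preimage_compl, this, compl_compl]
  tfae_have 2 → 3 := by
    rintro ⟨hinj, hsurj⟩
    constructor
    · rw [Topology.isInducing_iff]
      refine le_antisymm hf.le_induced ?_
      intro s hs
      rw [isOpen_induced_iff]
      obtain ⟨F, hF⟩ := hsurj ⟨sᶜ, hs.isClosed_compl⟩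
      refine ⟨(F : Set X)ᶜ, F.isClosed.isOpen_compl, ?_⟩
      have : f ⁻¹' (F : Set X) = sᶜ := congrArg (fun G : TopologicalSpace.Closeds X₀ => (G : Set X₀)) hF
      rw [Set.preimage_compl, this, compl_compl]
    · intro U V hU hV e
      have e' := (key U V).mpr e
      have := @hinj ⟨Uᶜ, hU.isClosed_compl⟩ ⟨Vᶜ, hV.isClosed_compl⟩ (by
        apply TopologicalSpace.Closeds.ext
        show f ⁻¹' Uᶜ = f ⁻¹' Vᶜ
        rw [Set.preimage_compl, Set.preimage_compl, e'])
      have h2 : Uᶜ = Vᶜ := congrArg (fun G : TopologicalSpace.Closeds X => (G : Set X)) this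
      exact compl_injective h2
  tfae_have 3 → 1 := by
    rintro ⟨hind, h⟩
    constructor
    · intro U V e
      have e' : f ⁻¹' (U : Set X) = f ⁻¹' (V : Set X) := congrArg (fun G : TopologicalSpace.Opens X₀ => (G : Set X₀)) e
      apply TopologicalSpace.Opens.ext
      exact h U V U.isOpen V.isOpen ((key _ _).mp e')
    · intro G
      obtain ⟨U, hU, hUG⟩ := hind.isOpen_iff.mp G.isOpen
      exact ⟨⟨U, hU⟩, TopologicalSpace.Opens.ext hUG⟩
  tfae_finish

end Groth.Agent.S4859
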