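import Groth.Statements.S4860
import Mathlib.RingTheory.Jacobson.Ring
import Mathlib.RingTheory.Localization.InvSubmonoid
import Mathlib.RingTheory.Localization.Integral
import Mathlib.RingTheory.Algebraic.Integral
-- import your own Groth.Agent.* helpers here

set_option autoImplicit false
universe u
open EGA43

namespace Groth.Agent.S4860

/-- In a domain, if `B_f` is a field then `B_f` is a fraction ring of `B`. -/
theorem isFractionRing_away_of_isField {B : Type u} [CommRing B] [IsDomain B] (f : B) (hf : f ≠ 0)
    (h : IsField (Localization.Away f)) : IsFractionRing B (Localization.Away f) := by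
  have hinj : Function.Injective (algebraMap B (Localization.Away f)) :=
    IsLocalization.injective (M := Submonoid.powers f) _
      (powers_le_nonZeroDivisors_of_noZeroDivisors hf)
  refine IsLocalization.of_le (Submonoid.powers f) (nonZeroDivisors B)
    (powers_le_nonZeroDivisors_of_noZeroDivisors hf) ?_
  intro r hr
  let _ : Field (Localization.Away f) := h.toField
  have : algebraMap B (Localization.Away f) r ≠ 0 := by
    intro h0
    rw [← map_zero (algebraMap B (Localization.Away f))] at h0
    exact nonZeroDivisors.ne_zero hr (hinj h0)
  exact IsUnit.mk0 _ this

/-- In a domain, `B_f` is a field iff `D(f) = {(0)}`. -/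
theorem isField_away_iff {B : Type u} [CommRing B] [IsDomain B] (f : B) (hf : f ≠ 0) :
    IsField (Localization.Away f) ↔
      ((PrimeSpectrum.basicOpen f : Set (PrimeSpectrum B)) = {⟨⊥, Ideal.bot_prime⟩}) := by
  have hinj : Function.Injective (algebraMap B (Localization.Away f)) :=
    IsLocalization.injective (M := Submonoid.powers f) _
      (powers_le_nonZeroDivisors_of_noZeroDivisors hf)
  have : Nontrivial (Localization.Away f) := hinj.nontrivial
  constructor
  · intro h
    ext p
    simp only [SetLike.mem_coe, PrimeSpectrum.mem_basicOpen, Set.mem_singleton_iff]
    constructor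
    · intro hfp
      have hdisj : Disjoint (Submonoid.powers f : Set B) (p.asIdeal : Set B) := by
        rw [Set.disjoint_left]
        rintro _ ⟨n, rfl⟩ hn
        exact hfp (p.2.mem_of_pow_mem n hn)
      have h1 := IsLocalization.under_map_of_isPrime_disjoint (Submonoid.powers f)
        (Localization.Away f) p.2 hdisj
      let _ : Field (Localization.Away f) := h.toField
      have h2 : Ideal.map (algebraMap B (Localization.Away f)) p.asIdeal = ⊥ := by
        rcases Ideal.eq_bot_or_top (Ideal.map (algebraMap B (Localization.Away f)) p.asIdeal) with h' | h'
        · exact h'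
        · exfalso
          rw [h', Ideal.under_top] at h1
          exact p.2.ne_top h1.symm
      rw [h2] at h1
      apply PrimeSpectrum.ext
      rw [← h1]
      ext x
      simp only [Ideal.under_def, Ideal.mem_comap, Ideal.mem_bot]
      rw [← map_zero (algebraMap B (Localization.Away f))]
      exact hinj.eq_iff
    · rintro rfl
      exact hf
  · intro h
    by_contra hnf
    obtain ⟨p', hp'bot, hp'prime⟩ := Ring.not_isField_iff_exists_prime.mp hnf
    let p : PrimeSpectrum B := ⟨p'.comap (algebraMap B (Localization.Away f)), Ideal.comap_isPrime _ _⟩
    have hp : p ∈ (PrimeSpectrum.basicOpen f : Set (PrimeSpectrum B)) := by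
      simp only [SetLike.mem_coe, PrimeSpectrum.mem_basicOpen]
      intro hmem
      have hu : IsUnit (algebraMap B (Localization.Away f) f) :=
        IsLocalization.map_units _ (⟨_, Submonoid.mem_powers _⟩ : Submonoid.powers f)
      exact hp'prime.ne_top (Ideal.eq_top_of_isUnit_mem _ hmem hu)
    rw [h, Set.mem_singleton_iff] at hp
    apply hp'bot
    have := IsLocalization.map_under (Submonoid.powers f) _ p'
    rw [← this]
    have hp2 : p'.comap (algebraMap B (Localization.Away f)) = ⊥ := congrArg PrimeSpectrum.asIdeal hp
    show Ideal.map _ (p'.comap (algebraMap B (Localization.Away f))) = ⊥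
    rw [hp2, Ideal.map_bot]

/-- For an integral domain B the following are equivalent: a) the localization B_f is a field for some
nonzero f; b) the fraction field of B is a finitely generated B-algebra; c) there is a field
containing B (an injective algebra map from B) which is a finitely generated B-algebra; d) the
generic point of Spec B is open. -/
theorem result (B : Type u) [CommRing B] [IsDomain B] :
    [∃ f : B, f ≠ 0 ∧ IsField (Localization.Away f),
      Algebra.FiniteType B (FractionRing B),
      ∃ (K : Type u) (_ : Field K) (_ : Algebra B K), Function.Injective (algebraMap B K) ∧ Algebra.FiniteType B K,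
      IsOpen ({⟨⊥, Ideal.bot_prime⟩} : Set (PrimeSpectrum B))].TFAE := by
  tfae_have 1 → 2 := by
    rintro ⟨f, hf, h⟩
    have := isFractionRing_away_of_isField f hf h
    have hft : Algebra.FiniteType B (Localization.Away f) :=
      IsLocalization.finiteType_of_monoid_fg (Submonoid.powers f) _
    exact hft.equiv (IsLocalization.algEquiv (nonZeroDivisors B) (Localization.Away f) (FractionRing B))
  tfae_have 2 → 3 := by
    intro h
    exact ⟨FractionRing B, inferInstance, inferInstance, IsFractionRing.injective B (FractionRing B), h⟩
  tfae_have 3 → 1 := by
    rintro ⟨K, _, _, hinj, hft⟩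
    -- `K` is algebraic over `B` by Zariski's lemma over the fraction field
    have halg : Algebra.IsAlgebraic B K := by
      let φ : FractionRing B →+* K := IsFractionRing.lift hinj
      let _ : Algebra (FractionRing B) K := φ.toAlgebra
      have : IsScalarTower B (FractionRing B) K :=
        IsScalarTower.of_algebraMap_eq (fun x => (IsFractionRing.lift_algebraMap hinj x).symm)
      have : Algebra.FiniteType (FractionRing B) K :=
        Algebra.FiniteType.of_restrictScalars_finiteType B (FractionRing B) K
      have : Module.Finite (FractionRing B) K :=
        finite_of_finite_type_of_isJacobsonRing (FractionRing B) K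
      have : Algebra.IsAlgebraic (FractionRing B) K := Algebra.IsAlgebraic.of_finite _ _
      exact (IsFractionRing.comap_isAlgebraic_iff (A := B) (K := FractionRing B) (C := K)).mpr
        inferInstance
    obtain ⟨s, hs⟩ := hft.out
    obtain ⟨y, hy, hint⟩ := Algebra.IsAlgebraic.exists_integral_multiples B s
    refine ⟨y, hy, ?_⟩
    have hyK : algebraMap B K y ≠ 0 := by
      intro h0
      rw [← map_zero (algebraMap B K)] at h0
      exact hy (hinj h0)
    have hyu : ∀ z : Submonoid.powers y, IsUnit (algebraMap B K z) := by
      rintro ⟨_, n, rfl⟩
      rw [map_pow]
      exact (IsUnit.mk0 _ hyK).pow n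
    let ψ : Localization.Away y →+* K := IsLocalization.lift hyu
    let _ : Algebra (Localization.Away y) K := ψ.toAlgebra
    have : IsScalarTower B (Localization.Away y) K :=
      IsScalarTower.of_algebraMap_eq (fun x => (IsLocalization.lift_eq hyu x).symm)
    have hinjy : Function.Injective (algebraMap B (Localization.Away y)) :=
      IsLocalization.injective (M := Submonoid.powers y) _
        (powers_le_nonZeroDivisors_of_noZeroDivisors hy)
    have hψinj : Function.Injective (algebraMap (Localization.Away y) K) := by
      show Function.Injective ψ
      rw [IsLocalization.lift_injective_iff]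
      intro a b
      rw [hinjy.eq_iff, hinj.eq_iff]
    have hints : ∀ z ∈ s, IsIntegral (Localization.Away y) z := by
      intro z hz
      have h1 : IsIntegral (Localization.Away y) (y • z) := (hint z hz).tower_top
      have h2 : IsIntegral (Localization.Away y)
          (algebraMap (Localization.Away y) K
            (IsLocalization.mk' (Localization.Away y) 1 (⟨y, Submonoid.mem_powers y⟩ : Submonoid.powers y))) :=
        isIntegral_algebraMap
      have h3 := h2.mul h1
      have hone : IsLocalization.mk' (Localization.Away y) 1 (⟨y, Submonoid.mem_powers y⟩ : Submonoid.powers y)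
          * algebraMap B (Localization.Away y) y = 1 := by
        have := IsLocalization.mk'_spec (Localization.Away y) (1 : B)
          (⟨y, Submonoid.mem_powers y⟩ : Submonoid.powers y)
        simpa using this
      have hz_eq : z = algebraMap (Localization.Away y) K
            (IsLocalization.mk' (Localization.Away y) 1 (⟨y, Submonoid.mem_powers y⟩ : Submonoid.powers y))
            * (y • z) := by
        rw [Algebra.smul_def, ← mul_assoc, IsScalarTower.algebraMap_apply B (Localization.Away y) K,
          ← map_mul, hone, map_one, one_mul]
      rw [hz_eq]
      exact h3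
    have hall : Algebra.IsIntegral (Localization.Away y) K := by
      refine ⟨fun x => ?_⟩
      have hx : x ∈ Algebra.adjoin B (s : Set K) := by rw [hs]; exact Algebra.mem_top
      have hle : Algebra.adjoin B (s : Set K) ≤
          (integralClosure (Localization.Away y) K).restrictScalars B :=
        Algebra.adjoin_le (fun z hz => hints z hz)
      exact hle hx
    exact isField_of_isIntegral_of_isField hψinj (Field.toIsField K)
  tfae_have 1 → 4 := by
    rintro ⟨f, hf, h⟩
    rw [← (isField_away_iff f hf).mp h]
    exact (PrimeSpectrum.basicOpen f).isOpen
  tfae_have 4 → 1 := by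
    intro h
    obtain ⟨_, ⟨f, rfl⟩, hf1, hf2⟩ := PrimeSpectrum.isTopologicalBasis_basic_opens.exists_subset_of_mem_open
      (Set.mem_singleton _) h
    have hf : f ≠ 0 := by
      rintro rfl
      simp at hf1
    refine ⟨f, hf, (isField_away_iff f hf).mpr ?_⟩
    exact subset_antisymm hf2 (Set.singleton_subset_iff.mpr hf1)
  tfae_finish

end Groth.Agent.S4860
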