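import Groth.Statements.S4861
import Groth.Agent.S4860
import Mathlib.RingTheory.Ideal.KrullsHeightTheorem
import Mathlib.RingTheory.Ideal.MinimalPrime.Noetherian
-- import your own Groth.Agent.* helpers here

set_option autoImplicit false
universe u
open EGA43

namespace Groth.Agent.S4861

/-- Key lemma: in a Noetherian domain, if every nonzero prime contains the nonzero element `f`,
then every nonzero prime is a minimal prime over `(f)`. -/
theorem mem_minimalPrimes_of_forall_mem {B : Type u} [CommRing B] [IsDomain B] [IsNoetherianRing B]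
    (f : B) (hf : f ≠ 0) (h : ∀ p : Ideal B, p.IsPrime → p ≠ ⊥ → f ∈ p)
    (p : Ideal B) (hp : p.IsPrime) (hp0 : p ≠ ⊥) : p ∈ (Ideal.span {f}).minimalPrimes := by
  classical
  by_contra hpS
  have hfp : Ideal.span {f} ≤ p := by
    rw [Ideal.span_singleton_le_iff_mem]; exact h p hp hp0
  have hfin : (Ideal.span {f}).minimalPrimes.Finite :=
    Ideal.finite_minimalPrimes_of_isNoetherianRing B _
  have hnot : ¬ ((p : Set B) ⊆ ⋃ q ∈ (hfin.toFinset : Set (Ideal B)), (q : Set B)) := by
    rw [Ideal.subset_union_prime (f := fun q : Ideal B => q) ⊥ ⊥]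
    · rintro ⟨q, hq, hpq⟩
      have hq' : q ∈ (Ideal.span {f}).minimalPrimes := hfin.mem_toFinset.mp hq
      have : q ≤ p := hq'.2 ⟨hp, hfp⟩ hpq
      exact hpS ((le_antisymm hpq this) ▸ hq')
    · intro q hq _ _
      exact (hfin.mem_toFinset.mp hq).1.1
  obtain ⟨g, hgp, hg⟩ := Set.not_subset.mp hnot
  have hg' : ∀ q ∈ (Ideal.span {f}).minimalPrimes, g ∉ q := by
    intro q hq hgq
    apply hg
    simp only [Set.mem_iUnion]
    exact ⟨q, by simpa using hq, hgq⟩
  obtain ⟨q₀, hq₀, _⟩ := Ideal.exists_minimalPrimes_le hfp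
  have hg0 : g ≠ 0 := by
    rintro rfl
    exact hg' q₀ hq₀ (Ideal.zero_mem _)
  have hgp' : Ideal.span {g} ≤ p := by
    rw [Ideal.span_singleton_le_iff_mem]; exact hgp
  obtain ⟨p', hp', hp'p⟩ := Ideal.exists_minimalPrimes_le hgp'
  have hp'prime : p'.IsPrime := hp'.1.1
  have hgp'' : g ∈ p' := hp'.1.2 (Ideal.mem_span_singleton_self g)
  have hp'0 : p' ≠ ⊥ := by
    rintro rfl
    exact hg0 (by simpa using hgp'')
  have hht : p'.height ≤ 1 :=
    Ideal.height_le_one_of_isPrincipal_of_mem_minimalPrimes (Ideal.span {g}) p' hp'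
  have hfp' : Ideal.span {f} ≤ p' := by
    rw [Ideal.span_singleton_le_iff_mem]; exact h p' hp'prime hp'0
  obtain ⟨q, hq, hqp'⟩ := Ideal.exists_minimalPrimes_le hfp'
  have hqprime : q.IsPrime := hq.1.1
  have hq0 : q ≠ ⊥ := by
    rintro rfl
    have : f ∈ (⊥ : Ideal B) := hq.1.2 (Ideal.mem_span_singleton_self f)
    exact hf (by simpa using this)
  rcases eq_or_lt_of_le hqp' with heq | hlt
  · exact hg' q hq (heq ▸ hgp'')
  · have hbot : (⊥ : Ideal B) < q := bot_lt_iff_ne_bot.mpr hq0
    have h1 := Ideal.height_add_one_le_of_lt_of_isPrime hbot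
    have h2 := Ideal.height_add_one_le_of_lt_of_isPrime hlt
    have h3 : (2 : ℕ∞) ≤ p'.height := by
      calc (2 : ℕ∞) = 0 + 1 + 1 := by norm_num
        _ ≤ (⊥ : Ideal B).height + 1 + 1 := by gcongr; exact zero_le
        _ ≤ q.height + 1 := by gcongr
        _ ≤ p'.height := h2
    have : (2 : ℕ∞) ≤ 1 := h3.trans hht
    exact absurd this (by norm_num)

/-- For a Noetherian integral domain B the following are equivalent (and hence equivalent to: the
fraction field of B is a finitely generated B-algebra; the generic point of Spec B is open): a) the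
localization B_f is a field for some nonzero f; e) Spec B is finite; f) B is semi-local (finitely
many maximal ideals) of Krull dimension at most 1. -/
theorem result (B : Type u) [CommRing B] [IsDomain B]
    [IsNoetherianRing B] :
    [∃ f : B, f ≠ 0 ∧ IsField (Localization.Away f),
      Finite (PrimeSpectrum B),
      Finite (MaximalSpectrum B) ∧ ringKrullDim B ≤ 1].TFAE := by
  classical
  -- consequence of `D(f) = {(0)}`
  have hmem : ∀ f : B, f ≠ 0 → IsField (Localization.Away f) →
      ∀ p : Ideal B, p.IsPrime → p ≠ ⊥ → f ∈ p := by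
    intro f hf hfield p hp hp0
    by_contra hfp
    have h1 := (Groth.Agent.S4860.isField_away_iff f hf).mp hfield
    have : (⟨p, hp⟩ : PrimeSpectrum B) ∈ (PrimeSpectrum.basicOpen f : Set (PrimeSpectrum B)) := hfp
    rw [h1, Set.mem_singleton_iff] at this
    exact hp0 (congrArg PrimeSpectrum.asIdeal this)
  tfae_have 1 → 2 := by
    rintro ⟨f, hf, hfield⟩
    have key := mem_minimalPrimes_of_forall_mem f hf (hmem f hf hfield)
    have hfin : (Ideal.span {f}).minimalPrimes.Finite :=
      Ideal.finite_minimalPrimes_of_isNoetherianRing B _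
    have hfin2 : (insert (⊥ : Ideal B) (Ideal.span {f}).minimalPrimes).Finite := hfin.insert _
    have hinj : Function.Injective (fun p : PrimeSpectrum B => p.asIdeal) :=
      fun p q h => PrimeSpectrum.ext h
    refine Set.finite_univ_iff.mp (Set.Finite.of_injOn (f := fun p : PrimeSpectrum B => p.asIdeal)
      (t := insert (⊥ : Ideal B) (Ideal.span {f}).minimalPrimes) ?_ hinj.injOn hfin2)
    intro p _
    by_cases hp0 : p.asIdeal = ⊥
    · exact Set.mem_insert_iff.mpr (Or.inl hp0)
    · exact Set.mem_insert_iff.mpr (Or.inr (key p.asIdeal p.2 hp0))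
  tfae_have 2 → 1 := by
    intro hfin
    have := Fintype.ofFinite (PrimeSpectrum B)
    -- pick a nonzero element in each nonzero prime
    have hex : ∀ p : PrimeSpectrum B, ∃ g : B, g ≠ 0 ∧ (p.asIdeal ≠ ⊥ → g ∈ p.asIdeal) := by
      intro p
      by_cases hp0 : p.asIdeal = ⊥
      · exact ⟨1, one_ne_zero, fun h => absurd hp0 h⟩
      · obtain ⟨g, hg, hg0⟩ := Submodule.exists_mem_ne_zero_of_ne_bot hp0
        exact ⟨g, hg0, fun _ => hg⟩
    choose g hg0 hg using hex
    have hf : (∏ p, g p) ≠ 0 := Finset.prod_ne_zero_iff.mpr fun p _ => hg0 p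
    refine ⟨∏ p, g p, hf, (Groth.Agent.S4860.isField_away_iff _ hf).mpr ?_⟩
    ext p
    simp only [SetLike.mem_coe, PrimeSpectrum.mem_basicOpen, Set.mem_singleton_iff]
    constructor
    · intro hnot
      by_contra hp
      have hp0 : p.asIdeal ≠ ⊥ := fun h => hp (PrimeSpectrum.ext h)
      apply hnot
      exact Ideal.prod_mem _ (Finset.mem_univ p) (hg p hp0)
    · rintro rfl
      exact hf
  tfae_have 1 → 3 := by
    rintro ⟨f, hf, hfield⟩
    have hfin : Finite (PrimeSpectrum B) := tfae_1_to_2 ⟨f, hf, hfield⟩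
    have key := mem_minimalPrimes_of_forall_mem f hf (hmem f hf hfield)
    refine ⟨Finite.of_injective MaximalSpectrum.toPrimeSpectrum
      MaximalSpectrum.toPrimeSpectrum_injective, ?_⟩
    have : Ring.KrullDimLE 1 B := by
      rw [Ring.krullDimLE_one_iff_of_noZeroDivisors]
      intro p hp0 hp
      obtain ⟨m, hm, hpm⟩ := Ideal.exists_le_maximal p hp.ne_top
      have hm0 : m ≠ ⊥ := fun h => hp0 (le_bot_iff.mp (h ▸ hpm))
      have hmS := key m hm.isPrime hm0
      have hfp : Ideal.span {f} ≤ p := by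
        rw [Ideal.span_singleton_le_iff_mem]; exact hmem f hf hfield p hp hp0
      have : m ≤ p := hmS.2 ⟨hp, hfp⟩ hpm
      exact (le_antisymm hpm this) ▸ hm
    exact Ring.krullDimLE_iff.mp this
  tfae_have 3 → 2 := by
    rintro ⟨hfin, hdim⟩
    have hdim' : Ring.KrullDimLE 1 B := Ring.krullDimLE_iff.mpr hdim
    -- every prime is `⊥` or maximal
    let φ : PrimeSpectrum B → Option (MaximalSpectrum B) := fun p =>
      if h : p.asIdeal = ⊥ then none
      else some ⟨p.asIdeal, Ring.krullDimLE_one_iff_of_noZeroDivisors.mp hdim' _ h p.2⟩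
    refine Finite.of_injective φ ?_
    intro p q hpq
    by_cases hp : p.asIdeal = ⊥ <;> by_cases hq : q.asIdeal = ⊥
    · exact PrimeSpectrum.ext (hp.trans hq.symm)
    · simp [φ, hp, hq] at hpq
    · simp [φ, hp, hq] at hpq
    · simp only [φ, hp, hq, dite_false, Option.some.injEq, MaximalSpectrum.mk.injEq] at hpq
      exact PrimeSpectrum.ext hpq
  tfae_finish

end Groth.Agent.S4861
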