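import Groth.Statements.S4862
import Mathlib.RingTheory.Localization.Away.AdjoinRoot
import Mathlib.RingTheory.FinitePresentation
-- import your own Groth.Agent.* helpers here

set_option autoImplicit false
universe u
open EGA43

namespace Groth.Agent.S4862

/-- For a commutative ring A the following are equivalent: a) A is a Jacobson ring; b) for every prime
ideal p of A which is not maximal and every nonzero f of B = A/p, the localization B_f is not a
field; b′) every finitely generated A-algebra which is a field is a finite A-module. -/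
theorem result (A : Type u) [CommRing A] :
    [IsJacobsonRing A,
      ∀ (p : Ideal A) [p.IsPrime], ¬ p.IsMaximal → ∀ f : A ⧸ p, f ≠ 0 → ¬ IsField (Localization.Away f),
      ∀ (K : Type u) [Field K] [Algebra A K], Algebra.FiniteType A K → Module.Finite A K].TFAE := by
  tfae_have 1 → 3 := fun h K _ _ hK => finite_of_finite_type_of_isJacobsonRing A K
  tfae_have 3 → 2 := by
    intro h p hp hpmax f hf hfield
    let _ : Field (Localization.Away f) := hfield.toField
    have hft1 : Algebra.FiniteType (A ⧸ p) (Localization.Away f) :=
      have := IsLocalization.Away.finitePresentation (S := Localization.Away f) f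
      inferInstance
    have hft : Algebra.FiniteType A (Localization.Away f) :=
      Algebra.FiniteType.trans (inferInstance : Algebra.FiniteType A (A ⧸ p)) hft1
    have hfin : Module.Finite A (Localization.Away f) := h (Localization.Away f) hft
    have hfin' : Module.Finite (A ⧸ p) (Localization.Away f) :=
      Module.Finite.of_restrictScalars_finite A (A ⧸ p) (Localization.Away f)
    have hint : Algebra.IsIntegral (A ⧸ p) (Localization.Away f) := Algebra.IsIntegral.of_finite _ _
    have hinj : Function.Injective (algebraMap (A ⧸ p) (Localization.Away f)) :=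
      IsLocalization.injective (M := Submonoid.powers f) _
        (powers_le_nonZeroDivisors_of_noZeroDivisors hf)
    exact hpmax (Ideal.Quotient.maximal_of_isField p
      (isField_of_isIntegral_of_isField hinj hfield))
  tfae_have 2 → 1 := by
    intro h
    rw [isJacobsonRing_iff_prime_eq]
    intro P hP
    by_contra hne
    have hlt : ¬ P.jacobson ≤ P := fun hle => hne (le_antisymm hle Ideal.le_jacobson)
    obtain ⟨x, hxJ, hxP⟩ := Set.not_subset.mp hlt
    -- a prime `q ⊇ P` maximal among ideals avoiding the powers of `x`
    have hdisj : Disjoint (P : Set A) (Submonoid.powers x) := by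
      rw [Set.disjoint_right]
      rintro _ ⟨n, rfl⟩ hn
      exact hxP (hP.mem_of_pow_mem n hn)
    obtain ⟨q, hPq, hq⟩ := zorn_le_nonempty₀ {p : Ideal A | Disjoint (p : Set A) (Submonoid.powers x)}
      (fun c hc hc' y hy ↦ by
        cases isEmpty_or_nonempty c
        · exact ⟨P, hdisj, fun J hJ ↦ isEmptyElim (⟨J, hJ⟩ : c)⟩
        refine ⟨sSup c, Set.disjoint_left.mpr fun z hz ↦ ?_, fun _ ↦ le_sSup⟩
        have ⟨p, hp⟩ := (Submodule.mem_iSup_of_directed _ hc'.directed).mp (sSup_eq_iSup' c ▸ hz)
        exact Set.disjoint_left.mp (hc p.2) hp) P hdisj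
    have hqprime : q.IsPrime :=
      Ideal.isPrime_of_maximally_disjoint _ _ hq.1 (fun _ ↦ hq.not_prop_of_gt)
    have hxq : x ∉ q := fun hx => Set.disjoint_left.mp hq.1 hx (Submonoid.mem_powers x)
    have hqmax : ¬ q.IsMaximal := fun hmax =>
      hxq (Ideal.mem_sInf.mp hxJ ⟨hPq, hmax⟩)
    have hfne : (Ideal.Quotient.mk q x) ≠ 0 := fun h0 => hxq (Ideal.Quotient.eq_zero_iff_mem.mp h0)
    have hnf := h q hqmax (Ideal.Quotient.mk q x) hfne
    have : Nontrivial (Localization.Away (Ideal.Quotient.mk q x)) :=
      (IsLocalization.injective (M := Submonoid.powers (Ideal.Quotient.mk q x)) _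
        (powers_le_nonZeroDivisors_of_noZeroDivisors hfne)).nontrivial
    obtain ⟨p', hp'bot, hp'prime⟩ := Ring.not_isField_iff_exists_prime.mp hnf
    -- pull `p'` back to `A ⧸ q` and then to `A`
    set q'' : Ideal (A ⧸ q) := p'.comap (algebraMap (A ⧸ q) (Localization.Away (Ideal.Quotient.mk q x)))
      with hq''
    have hq''bot : q'' ≠ ⊥ := by
      intro hbot
      apply hp'bot
      have := IsLocalization.map_under (Submonoid.powers (Ideal.Quotient.mk q x)) _ p'
      rw [← this]
      show Ideal.map _ q'' = ⊥
      rw [hbot, Ideal.map_bot]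
    have hq''x : Ideal.Quotient.mk q x ∉ q'' := by
      intro hmem
      have hu : IsUnit (algebraMap (A ⧸ q) (Localization.Away (Ideal.Quotient.mk q x))
          (Ideal.Quotient.mk q x)) :=
        IsLocalization.map_units _ (⟨_, Submonoid.mem_powers _⟩ : Submonoid.powers (Ideal.Quotient.mk q x))
      exact hp'prime.ne_top (Ideal.eq_top_of_isUnit_mem _ hmem hu)
    set q' : Ideal A := q''.comap (Ideal.Quotient.mk q) with hq'
    have hq'prime : q'.IsPrime := Ideal.comap_isPrime _ _
    have hqq' : q < q' := by
      refine lt_of_le_of_ne ?_ ?_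
      · intro y hy
        rw [hq', Ideal.mem_comap, Ideal.Quotient.eq_zero_iff_mem.mpr hy]
        exact Ideal.zero_mem _
      · intro heq
        apply hq''bot
        rw [eq_bot_iff]
        intro z hz
        obtain ⟨y, rfl⟩ := Ideal.Quotient.mk_surjective z
        have : y ∈ q' := hz
        rw [← heq] at this
        rw [Ideal.mem_bot, Ideal.Quotient.eq_zero_iff_mem]
        exact this
    have hq'x : x ∉ q' := hq''x
    refine hq.not_prop_of_gt hqq' ?_
    show Disjoint (q' : Set A) (Submonoid.powers x)
    rw [Set.disjoint_right]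
    rintro _ ⟨n, rfl⟩ hn
    exact hq'x (hq'prime.mem_of_pow_mem n hn)
  tfae_finish

end Groth.Agent.S4862
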