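import Mathlib
import Groth.Statements.S4867
import Groth.Agent.Lib.Helper23.FlatStagePoint
import Groth.Agent.Lib.Helper23.FlatStageNoeth2

set_option autoImplicit false
universe u
open CategoryTheory AlgebraicGeometry
open EGA43

namespace Groth.Agent.S4867

/-- Let A be a commutative ring, f : X ⟶ Spec A a morphism of finite presentation, F a quasi-coherent
O_X-module of finite presentation and x a point of X. If F is f-flat at x, then there are a finitely
generated subring A₀ of A, a morphism of finite type f₀ : X₀ ⟶ Spec A₀, a coherent O_{X₀}-module F₀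
and a cartesian square q : X ⟶ X₀ over Spec A ⟶ Spec A₀ together with an isomorphism q^*F₀ ≅ F, such
that F₀ is f₀-flat at q x; and if F is f-flat, F₀ can be chosen f₀-flat. -/
theorem result {A : Type u} [CommRing A] {X : Scheme.{u}}
    (f : X ⟶ Spec (CommRingCat.of A)) [LocallyOfFinitePresentation f] [QuasiCompact f] [QuasiSeparated f]
    (F : X.Modules) [Coh.IsQCoh F] (hF : CohB1.IsFP F) (x : X) :
    (FlatMod.IsFlatOverAt f F x →
      ∃ (A₀ : Subalgebra ℤ A) (_ : A₀.FG) (X₀ : Scheme.{u}) (f₀ : X₀ ⟶ Spec (CommRingCat.of ↥A₀))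
        (_ : LocallyOfFiniteType f₀) (_ : QuasiCompact f₀) (F₀ : X₀.Modules) (_ : Coh.IsCoh F₀) (q : X ⟶ X₀)
        (_ : IsPullback q f f₀ (Spec.map (CommRingCat.ofHom A₀.val.toRingHom)))
        (_ : (Scheme.Modules.pullback q).obj F₀ ≅ F),
        FlatMod.IsFlatOverAt f₀ F₀ (q x)) ∧
    (FlatMod.IsFlatOver f F →
      ∃ (A₀ : Subalgebra ℤ A) (_ : A₀.FG) (X₀ : Scheme.{u}) (f₀ : X₀ ⟶ Spec (CommRingCat.of ↥A₀))
        (_ : LocallyOfFiniteType f₀) (_ : QuasiCompact f₀) (F₀ : X₀.Modules) (_ : Coh.IsCoh F₀) (q : X ⟶ X₀)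
        (_ : IsPullback q f f₀ (Spec.map (CommRingCat.ofHom A₀.val.toRingHom)))
        (_ : (Scheme.Modules.pullback q).obj F₀ ≅ F),
        FlatMod.IsFlatOver f₀ F₀) := by
  open Groth.Agent.Lib.Helper23 Groth.Agent.Lib.Helper23.FlatStage Limits
    Groth.Agent.Lib.Helper23.FibreFlatCons in
  obtain ⟨j₀, X₀, f₀, q₀, F₀, h1, h2, h3, H, hF₀q, hF₀fp, ⟨e⟩⟩ := exists_noeth_model f F hF
  haveI := h1
  haveI := h2
  haveI := h3
  haveI := hF₀q
  have hc : IsLimit (noethCone (Spec (CommRingCat.of A))) :=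
    isLimitNoethCone (Spec (CommRingCat.of A))
  haveI : ∀ (i j : (Finset Γ(Spec (CommRingCat.of A), ⊤))ᵒᵖ) (a : i ⟶ j),
      IsAffineHom ((noethDiagram (Spec (CommRingCat.of A))).map a) := fun _ _ a => inferInstance
  constructor
  · intro hfl
    have hfl' : FlatMod.IsFlatOverAt f ((Scheme.Modules.pullback q₀).obj F₀) x :=
      isFlatOverAt_of_iso f e.symm x hfl
    obtain ⟨k, hk⟩ := exists_stage_isFlatOverAt (noethDiagram (Spec (CommRingCat.of A)))
      (noethCone (Spec (CommRingCat.of A))) j₀ hc f₀ F₀ hF₀fp f q₀ H x hfl'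
    obtain ⟨A₀, hA₀, fA, i1, i2, i3, i4, i5, htr⟩ := noeth_package f F f₀ q₀ H F₀ hF₀fp e k
    refine ⟨A₀, hA₀, _, fA, i1, i2, _, i3, _, i4, i5, htr _ ?_⟩
    exact hk k (𝟙 k) (pullback.snd _ _) (pullback.fst _ _)
      (toStage (noethDiagram (Spec (CommRingCat.of A))) (noethCone (Spec (CommRingCat.of A)))
        H k.hom) (IsPullback.of_hasPullback _ _)
      (toStage_fst _ _ H k.hom) (toStage_snd _ _ H k.hom)
  · intro hfl
    haveI : CompactSpace X₀ := QuasiCompact.compactSpace_of_compactSpace f₀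
    have hfl' : FlatMod.IsFlatOver f ((Scheme.Modules.pullback q₀).obj F₀) :=
      (isFlatOver_iff_of_iso f e).mpr hfl
    obtain ⟨k, hk⟩ := exists_stage_isFlatOver (noethDiagram (Spec (CommRingCat.of A)))
      (noethCone (Spec (CommRingCat.of A))) j₀ hc f₀ F₀ hF₀fp f q₀ H hfl'
    obtain ⟨A₀, hA₀, fA, i1, i2, i3, i4, i5, htr⟩ := noeth_package f F f₀ q₀ H F₀ hF₀fp e k
    exact ⟨A₀, hA₀, _, fA, i1, i2, _, i3, _, i4, i5, fun z => htr z
      (hk k (𝟙 k) (pullback.snd _ _) (pullback.fst _ _) (IsPullback.of_hasPullback _ _) z)⟩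

end Groth.Agent.S4867
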