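import Groth.Statements.S4869
import Groth.Agent.Lib.Helper16.GrFlat.Stage

set_option autoImplicit false
universe u
open TensorProduct
open EGA43

namespace Groth.Agent.S4869

/-- Let A₀ be a commutative ring, (A_i) a directed system of A₀-algebras with colimit A, B₀ a finitely
presented A₀-algebra, J₀ a finitely generated ideal of B₀ and M₀ a finitely presented B₀-module; put
M = A ⊗_{A₀} M₀ and J = J₀B, and likewise M_i, J_i over each A_i. Then the associated graded module
gr_J(M) = ⊕_k J^k M / J^{k+1} M is flat over A if and only if, for some index i, gr_{J_i}(M_i) is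
flat over A_i. Flatness of the graded module is expressed through the equivalent condition that
every truncation M / J^k M (k ≥ 0) is flat (the pieces J^k M / J^{k+1} M are the kernels of the
surjections M / J^{k+1} M → M / J^k M), and J^k M is realised as the image of A ⊗_{A₀} J₀^k M₀ in A
⊗_{A₀} M₀. (The published statement also asserts that the canonical maps from gr_{J_i}(M_i) ⊗_{A_i}
A to gr_J(M) are then bijective; this row states only the equivalence.) -/
theorem result {A₀ : Type u} [CommRing A₀]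
    {ι : Type u} [Preorder ι] (G : ι → Type u) [∀ i, CommRing (G i)] [∀ i, Algebra A₀ (G i)]
    (g : ∀ i j, i ≤ j → G i →ₐ[A₀] G j)
    (A : Type u) [CommRing A] [Algebra A₀ A] [∀ i, Algebra (G i) A] [∀ i, IsScalarTower A₀ (G i) A]
    (hcolim : FlatCA.IsDirectedColimitRing G (fun i j h => (g i j h).toRingHom) A)
    {B₀ : Type u} [CommRing B₀] [Algebra A₀ B₀] [Algebra.FinitePresentation A₀ B₀]
    (J₀ : Ideal B₀) (hJ₀ : J₀.FG)
    (M₀ : Type u) [AddCommGroup M₀] [Module B₀ M₀] [Module A₀ M₀] [IsScalarTower A₀ B₀ M₀]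
    [Module.FinitePresentation B₀ M₀] :
    (∀ k : ℕ, Module.Flat A ((A ⊗[A₀] M₀) ⧸
        LinearMap.range (((J₀ ^ k • (⊤ : Submodule B₀ M₀)).restrictScalars A₀).subtype.baseChange A))) ↔
      ∃ i : ι, ∀ k : ℕ, Module.Flat (G i) ((G i ⊗[A₀] M₀) ⧸
        LinearMap.range (((J₀ ^ k • (⊤ : Submodule B₀ M₀)).restrictScalars A₀).subtype.baseChange (G i))) := by
  classical
  -- the statement's modules are base changes of the truncations
  have hiso : ∀ (C : Type u) [CommRing C] [Algebra A₀ C] (k : ℕ),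
      Nonempty (C ⊗[A₀] (M₀ ⧸ (J₀ ^ k • (⊤ : Submodule B₀ M₀))) ≃ₗ[C]
        (C ⊗[A₀] M₀) ⧸ LinearMap.range
          (((J₀ ^ k • (⊤ : Submodule B₀ M₀)).restrictScalars A₀).subtype.baseChange C)) :=
    fun C _ _ k => ⟨AlgebraTensorModule.tensorQuotientEquiv C B₀ C (J₀ ^ k • (⊤ : Submodule B₀ M₀))⟩
  have hconv : ∀ (C : Type u) [CommRing C] [Algebra A₀ C] (k : ℕ),
      Module.Flat C ((C ⊗[A₀] M₀) ⧸ LinearMap.range
          (((J₀ ^ k • (⊤ : Submodule B₀ M₀)).restrictScalars A₀).subtype.baseChange C)) ↔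
      Module.Flat C (C ⊗[A₀] (M₀ ⧸ (J₀ ^ k • (⊤ : Submodule B₀ M₀)))) := by
    intro C _ _ k
    obtain ⟨e⟩ := hiso C k
    exact ⟨fun _ => Module.Flat.of_linearEquiv e, fun _ => Module.Flat.of_linearEquiv e.symm⟩
  -- finite presentation of the truncations
  haveI hfp : ∀ k, Module.FinitePresentation B₀ (M₀ ⧸ (J₀ ^ k • (⊤ : Submodule B₀ M₀))) := by
    intro k
    refine Module.finitePresentation_of_surjective (J₀ ^ k • (⊤ : Submodule B₀ M₀)).mkQ
      (Submodule.mkQ_surjective _) ?_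
    rw [Submodule.ker_mkQ]
    exact Submodule.FG.smul (Submodule.FG.pow hJ₀ k) (Module.Finite.fg_top)
  -- monotonicity along the system
  have hmono : ∀ (i j : ι) (_ : i ≤ j) (k : ℕ),
      Module.Flat (G i) (G i ⊗[A₀] (M₀ ⧸ (J₀ ^ k • (⊤ : Submodule B₀ M₀)))) →
      Module.Flat (G j) (G j ⊗[A₀] (M₀ ⧸ (J₀ ^ k • (⊤ : Submodule B₀ M₀)))) := by
    intro i j hij k hfl
    letI : Algebra (G i) (G j) := (g i j hij).toRingHom.toAlgebra
    haveI : IsScalarTower A₀ (G i) (G j) :=
      IsScalarTower.of_algebraMap_eq (fun r => ((g i j hij).commutes r).symm)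
    exact Groth.Agent.Lib.Helper16.GrFlat.flat_tensor_of_flat_tensor (A := A₀) (T := G i)
      (T' := G j) _
  simp only [hconv]
  constructor
  · intro hflat
    obtain ⟨K, hK⟩ := Groth.Agent.Lib.Helper16.GrFlat.exists_uniform_bound_fp (A₀ := A₀) J₀ hJ₀ M₀
    have hst : ∀ k, ∃ i : ι, Module.Flat (G i)
        (G i ⊗[A₀] (M₀ ⧸ (J₀ ^ k • (⊤ : Submodule B₀ M₀)))) := fun k =>
      (Groth.Agent.Lib.Helper71.FlatColim.flat_colimit_iff G g A hcolim (B₀ := B₀)
        (M₀ ⧸ (J₀ ^ k • (⊤ : Submodule B₀ M₀)))).mp (hflat k)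
    choose st hst using hst
    obtain ⟨i₀⟩ := hcolim.2.1
    obtain ⟨i, -, hi⟩ := Groth.Agent.Lib.Helper71.FlatColim.exists_ge_finite G _ A hcolim
      (κ := Fin (K + 1)) i₀ (fun k => st k.1)
    refine ⟨i, hK (G i) (fun k hk => ?_)⟩
    exact hmono _ _ (hi ⟨k, Nat.lt_succ_of_le hk⟩) k (hst k)
  · rintro ⟨i, hi⟩ k
    haveI := hi k
    exact Groth.Agent.Lib.Helper16.GrFlat.flat_tensor_of_flat_tensor (A := A₀) (T := G i)
      (T' := A) _

end Groth.Agent.S4869
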