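import Groth.Statements.S4872
import Mathlib

set_option autoImplicit false
universe u
open CategoryTheory AlgebraicGeometry
open EGA43

namespace Groth.Agent.S4872

open CategoryTheory.Limits

theorem b_to_c {X : Scheme.{u}} {ι : Type u} (Z : ι → Scheme.{u}) (f : ∀ i, Z i ⟶ X)
    (hb : ∀ (V : (X).Opens) (t : Γ(X, V)), (∀ i, (f i).app V t = 0) → t = 0)
    (U : X.Opens) (Y : Scheme.{u}) (j : Y ⟶ (U : Scheme.{u})) (hj : IsClosedImmersion j)
    (hfac : ∀ i, ∃ g : ((f i) ⁻¹ᵁ U : Scheme.{u}) ⟶ Y, g ≫ j = (f i) ∣_ U) : IsIso j := by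
  refine IsZariskiLocalAtTarget.of_iSup_eq_top (P := MorphismProperty.isomorphisms Scheme)
    (fun W : (U : Scheme.{u}).affineOpens => (W : (U : Scheme.{u}).Opens))
    (iSup_affineOpens_eq_top _) ?_
  intro W
  change IsIso (j ∣_ (W : (U : Scheme.{u}).Opens))
  rw [isIso_morphismRestrict_iff_isIso_app j W.2, ConcreteCategory.isIso_iff_bijective]
  refine ⟨?_, j.app_surjective W W.2⟩
  rw [injective_iff_map_eq_zero]
  intro s hs
  refine hb (U.ι ''ᵁ (W : (U : Scheme.{u}).Opens)) s ?_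
  intro i
  obtain ⟨g, hg⟩ := hfac i
  have key : ∀ (h : ((f i) ⁻¹ᵁ U : Scheme.{u}) ⟶ (U : Scheme.{u})), h = g ≫ j →
      h.app W s = 0 := by
    rintro _ rfl
    change g.app (j ⁻¹ᵁ W) (j.app W s) = 0
    rw [hs, map_zero]
  have h1 : ((f i) ∣_ U).app W s = 0 := key _ hg.symm
  rw [morphismRestrict_app] at h1
  change (Z i).presheaf.map (eqToHom (image_morphismRestrict_preimage (f i) U W)).op
    ((f i).app (U.ι ''ᵁ (W : (U : Scheme.{u}).Opens)) s) = 0 at h1
  have hinj : Function.Injective ((Z i).presheaf.map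
      (eqToHom (image_morphismRestrict_preimage (f i) U W)).op) := by
    have : IsIso ((Z i).presheaf.map
      (eqToHom (image_morphismRestrict_preimage (f i) U W)).op) := by
      rw [eqToHom_op, eqToHom_map]; infer_instance
    exact ((ConcreteCategory.isIso_iff_bijective _).mp this).1
  exact hinj (by rw [h1, map_zero])

theorem c_to_d {X S : Scheme.{u}} (p : X ⟶ S) {ι : Type u} (Z : ι → Scheme.{u})
    (f : ∀ i, Z i ⟶ X)
    (hc : ∀ (U : X.Opens) (Y : Scheme.{u}) (j : Y ⟶ (U : Scheme.{u})), IsClosedImmersion j →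
        (∀ i, ∃ g : ((f i) ⁻¹ᵁ U : Scheme.{u}) ⟶ Y, g ≫ j = (f i) ∣_ U) → IsIso j)
    (X' : Scheme.{u}) (q : X' ⟶ S) (hq : IsSeparated q) (U : X.Opens)
    (u v : (U : Scheme.{u}) ⟶ X') (hu : u ≫ q = U.ι ≫ p) (hv : v ≫ q = U.ι ≫ p)
    (huv : ∀ i, ((f i) ∣_ U) ≫ u = ((f i) ∣_ U) ≫ v) : u = v := by
  let X'o : Over S := Over.mk q
  let Uo : Over S := Over.mk (U.ι ≫ p)
  let uo : Uo ⟶ X'o := Over.homMk u hu
  let vo : Uo ⟶ X'o := Over.homMk v hv
  have : IsSeparated X'o.hom := hq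
  have hcl : IsClosedImmersion (equalizer.ι uo vo).left := inferInstance
  have hiso : IsIso (equalizer.ι uo vo).left := by
    refine hc U _ (equalizer.ι uo vo).left hcl ?_
    intro i
    let Zo : Over S := Over.mk (((f i) ∣_ U) ≫ U.ι ≫ p)
    let fo : Zo ⟶ Uo := Over.homMk ((f i) ∣_ U) rfl
    have hfo : fo ≫ uo = fo ≫ vo := by
      ext
      exact huv i
    refine ⟨(equalizer.lift fo hfo).left, ?_⟩
    rw [← Over.comp_left, equalizer.lift_ι]
    rfl
  have := congr($(equalizer.condition uo vo).left)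
  rw [Over.comp_left, Over.comp_left] at this
  exact (cancel_epi (equalizer.ι uo vo).left).mp this

theorem d_to_b {X S : Scheme.{u}} (p : X ⟶ S) {ι : Type u} (Z : ι → Scheme.{u})
    (f : ∀ i, Z i ⟶ X)
    (hd : ∀ (X' : Scheme.{u}) (q : X' ⟶ S), IsSeparated q → ∀ (U : X.Opens)
        (u v : (U : Scheme.{u}) ⟶ X'),
        u ≫ q = U.ι ≫ p → v ≫ q = U.ι ≫ p → (∀ i, ((f i) ∣_ U) ≫ u = ((f i) ∣_ U) ≫ v) → u = v)
    (V : (X).Opens) (t : Γ(X, V)) (ht : ∀ i, (f i).app V t = 0) : t = 0 := by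
  let t' : Γ(V, ⊤) := V.topIso.inv t
  let u : (V : Scheme.{u}) ⟶ 𝔸(PUnit.{u+1}; S) := AffineSpace.homOfVector (V.ι ≫ p) (fun _ => t')
  let v : (V : Scheme.{u}) ⟶ 𝔸(PUnit.{u+1}; S) := AffineSpace.homOfVector (V.ι ≫ p) (fun _ => 0)
  have huv : u = v := by
    refine hd _ (𝔸(PUnit.{u+1}; S) ↘ S) inferInstance V u v (AffineSpace.homOfVector_over _ _)
      (AffineSpace.homOfVector_over _ _) ?_
    intro i
    rw [AffineSpace.comp_homOfVector, AffineSpace.comp_homOfVector]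
    congr 1
    funext _
    simp only [Function.comp_apply, map_zero]
    rw [morphismRestrict_appTop]
    change (Z i).presheaf.map _ ((f i).app (V.ι ''ᵁ ⊤) (X.presheaf.map _ t)) = 0
    have key : ∀ (V' : X.Opens) (m : Opposite.op V ⟶ Opposite.op V'),
        (f i).app V' (X.presheaf.map m t) = 0 := by
      intro V' m
      have := ConcreteCategory.congr_hom ((f i).naturality m) t
      rw [CommRingCat.comp_apply, CommRingCat.comp_apply, ht i, map_zero] at this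
      exact this
    rw [key, map_zero]
  have h1 : u.appTop (AffineSpace.coord S PUnit.unit) = t' :=
    AffineSpace.homOfVector_appTop_coord _ _ _
  have h2 : v.appTop (AffineSpace.coord S PUnit.unit) = 0 :=
    AffineSpace.homOfVector_appTop_coord _ _ _
  have h3 : t' = 0 := by rw [← h1, huv, h2]
  have : t = V.topIso.hom t' := by
    simp only [t', ← CommRingCat.comp_apply, Iso.inv_hom_id]
    rfl
  rw [this, h3, map_zero]

theorem result {X S : Scheme.{u}} (p : X ⟶ S) {ι : Type u} (Z : ι → Scheme.{u})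
    (f : ∀ i, Z i ⟶ X) :
    [(∀ (V : (X).Opens) (t : Γ(X, V)), (∀ i, (f i).app V t = 0) → t = 0),
      ∀ (U : X.Opens) (Y : Scheme.{u}) (j : Y ⟶ (U : Scheme.{u})), IsClosedImmersion j →
        (∀ i, ∃ g : ((f i) ⁻¹ᵁ U : Scheme.{u}) ⟶ Y, g ≫ j = (f i) ∣_ U) → IsIso j,
      ∀ (X' : Scheme.{u}) (q : X' ⟶ S), IsSeparated q → ∀ (U : X.Opens) (u v : (U : Scheme.{u}) ⟶ X'),
        u ≫ q = U.ι ≫ p → v ≫ q = U.ι ≫ p → (∀ i, ((f i) ∣_ U) ≫ u = ((f i) ∣_ U) ≫ v) → u = v].TFAE := by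
  tfae_have 1 → 2 := fun hb U Y j hj hfac => b_to_c Z f hb U Y j hj hfac
  tfae_have 2 → 3 := fun hc X' q hq U u v hu hv huv => c_to_d p Z f hc X' q hq U u v hu hv huv
  tfae_have 3 → 1 := fun hd V t ht => d_to_b p Z f hd V t ht
  tfae_finish

end Groth.Agent.S4872
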