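import Groth.Statements.S4874
import Mathlib.AlgebraicGeometry.Morphisms.Flat
import Mathlib.AlgebraicGeometry.Pullbacks

set_option autoImplicit false
universe u
open CategoryTheory AlgebraicGeometry
open EGA43

namespace Groth.Agent.S4874

/-- pull-back of sections along a flat surjective morphism is injective. -/
theorem app_injective_of_flat_of_surjective {X X' : Scheme.{u}} (g : X' ⟶ X) [Flat g] [Surjective g]
    (V : X.Opens) (t : Γ(X, V)) (ht : g.app V t = 0) : t = 0 := by
  refine TopCat.Presheaf.section_ext X.sheaf V t 0 ?_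
  intro x hx
  obtain ⟨x', rfl⟩ := g.surjective x
  have h1 : g.stalkMap x' (X.presheaf.germ V (g.base x') hx t) = 0 := by
    rw [Scheme.Hom.germ_stalkMap_apply, ht, map_zero]
  have hinj : Function.Injective (g.stalkMap x').hom := by
    algebraize [(g.stalkMap x').hom]
    have : Module.FaithfullyFlat (X.presheaf.stalk (g.base x')) (X'.presheaf.stalk x') :=
      @Module.FaithfullyFlat.of_flat_of_isLocalHom _ _ _ _ _ _ _
        (Flat.stalkMap g x') (g.toLRSHom.prop x')
    exact ‹RingHom.FaithfullyFlat _›.injective
  have h2 : X.presheaf.germ V (g.base x') hx t = 0 := hinj (h1.trans (map_zero _).symm)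
  exact h2.trans (map_zero _).symm

/-- Let (f_i : Z_i ⟶ X) be a family of morphisms, g : X' ⟶ X a faithfully flat morphism and f'_i : Z_i
×_X X' ⟶ X' the base changes. If the family (f'_i) is schematically dominant, then so is the family
(f_i). (Schematically dominant: a section of the structure sheaf over an open whose pullback along
every member of the family vanishes is zero.) -/
theorem result {X X' : Scheme.{u}} {ι : Type u} (Z : ι → Scheme.{u})
    (f : ∀ i, Z i ⟶ X) (g : X' ⟶ X) [Flat g] [Surjective g]
    (h : (∀ (V : (X').Opens) (t : Γ(X', V)), (∀ i, (Limits.pullback.snd (f i) g).app V t = 0) → t = 0)) :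
    (∀ (V : (X).Opens) (t : Γ(X, V)), (∀ i, (f i).app V t = 0) → t = 0) := by
  intro V t ht
  apply app_injective_of_flat_of_surjective g V t
  apply h (g ⁻¹ᵁ V) (g.app V t)
  intro i
  have e : Limits.pullback.snd (f i) g ≫ g = Limits.pullback.fst (f i) g ≫ f i :=
    Limits.pullback.condition.symm
  have h1 : (Limits.pullback.snd (f i) g).app (g ⁻¹ᵁ V) (g.app V t) =
      (Limits.pullback.snd (f i) g ≫ g).app V t := rfl
  have h2 : (Limits.pullback.snd (f i) g ≫ g).app V t =
      (Limits.pullback (f i) g).presheaf.map (eqToHom (by rw [e])).op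
        ((Limits.pullback.fst (f i) g ≫ f i).app V t) := by
    rw [Scheme.Hom.congr_app e V]; rfl
  have h3 : (Limits.pullback.fst (f i) g ≫ f i).app V t =
      (Limits.pullback.fst (f i) g).app ((f i) ⁻¹ᵁ V) ((f i).app V t) := rfl
  rw [h1, h2, h3, ht i, map_zero]
  exact map_zero _

end Groth.Agent.S4874
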