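import Groth.Statements.S4877
import Groth.Agent.Lib.Helper24.SchDomFieldScheme

set_option autoImplicit false
universe u
open CategoryTheory AlgebraicGeometry
open EGA43

namespace Groth.Agent.S4877

/-- Let k be a field, X a k-scheme, (f_i : Z_i ⟶ X) a schematically dominant family of morphisms and S'
an arbitrary k-scheme. Then the family of base changes Z_i ×_k S' ⟶ X ×_k S' is schematically
dominant. (Schematically dominant: a section of the structure sheaf over an open whose pullback
along every member vanishes is zero.) -/
theorem result {k : Type u} [Field k] {X S' : Scheme.{u}}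
    (p : X ⟶ Spec (CommRingCat.of k)) (q : S' ⟶ Spec (CommRingCat.of k))
    {ι : Type u} (Z : ι → Scheme.{u}) (f : ∀ i, Z i ⟶ X)
    (h : (∀ (V : (X).Opens) (t : Γ(X, V)), (∀ i, (f i).app V t = 0) → t = 0)) :
    (∀ (V : (Limits.pullback p q).Opens) (t : Γ(Limits.pullback p q, V)), (∀ i, (Limits.pullback.map (f i ≫ p) q p q (f i) (𝟙 S') (𝟙 _) (Category.comp_id _) ((Category.comp_id _).trans (Category.id_comp _).symm)).app V t = 0) → t = 0) := by
  intro V t ht
  refine Groth.Agent.Lib.Helper24.SchDomField.schDominant_baseChange_field p q Z f h V t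
    (fun i => ?_)
  have hfac : Limits.pullback.snd (f i) (Limits.pullback.fst p q) =
      (Limits.pullbackRightPullbackFstIso p q (f i)).hom ≫
        Limits.pullback.map (f i ≫ p) q p q (f i) (𝟙 S') (𝟙 _) (Category.comp_id _)
          ((Category.comp_id _).trans (Category.id_comp _).symm) := by
    apply Limits.pullback.hom_ext
    · rw [Category.assoc, Limits.pullback.map, Limits.pullback.lift_fst,
        Limits.pullbackRightPullbackFstIso_hom_fst_assoc, Limits.pullback.condition]
    · rw [Category.assoc, Limits.pullback.map, Limits.pullback.lift_snd, Category.comp_id,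
        Limits.pullbackRightPullbackFstIso_hom_snd]
  rw [hfac, Scheme.Hom.comp_app]
  change (Scheme.Hom.app (Limits.pullbackRightPullbackFstIso p q (f i)).hom _).hom
    ((Scheme.Hom.app (Limits.pullback.map (f i ≫ p) q p q (f i) (𝟙 S') (𝟙 _) (Category.comp_id _)
      ((Category.comp_id _).trans (Category.id_comp _).symm)) V).hom t) = 0
  rw [ht i, map_zero]

end Groth.Agent.S4877
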