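import Groth.Statements.S4878
import Mathlib.LinearAlgebra.DirectSum.Finsupp

set_option autoImplicit false
universe u
open TensorProduct
open EGA43

namespace Groth.Agent.S4878

/-- the `k`-th coordinate of an element of `M ⊗ (κ →₀ A)`. -/
noncomputable def coord {A : Type u} [CommRing A] (M : Type u) [AddCommGroup M] [Module A M]
    (κ : Type u) (k : κ) : M ⊗[A] (κ →₀ A) →ₗ[A] M :=
  (TensorProduct.rid A M).toLinearMap ∘ₗ (Finsupp.lapply k).lTensor M

theorem coord_eq {A : Type u} [CommRing A] (M : Type u) [AddCommGroup M] [Module A M]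
    (κ : Type u) [DecidableEq κ] (k : κ) (x : M ⊗[A] (κ →₀ A)) :
    coord M κ k x = TensorProduct.finsuppScalarRight A A M κ x k := by
  rw [TensorProduct.finsuppScalarRight_apply]
  rfl

theorem eq_zero_of_coord {A : Type u} [CommRing A] (M : Type u) [AddCommGroup M] [Module A M]
    (κ : Type u) (x : M ⊗[A] (κ →₀ A)) (h : ∀ k, coord M κ k x = 0) : x = 0 := by
  classical
  apply (TensorProduct.finsuppScalarRight A A M κ).injective
  rw [map_zero]
  ext k
  rw [← coord_eq, h k]
  rfl

theorem coord_rTensor {A : Type u} [CommRing A] {M M' : Type u} [AddCommGroup M] [Module A M]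
    [AddCommGroup M'] [Module A M'] (f : M →ₗ[A] M')
    (κ : Type u) (k : κ) (x : M ⊗[A] (κ →₀ A)) :
    coord M' κ k (f.rTensor _ x) = f (coord M κ k x) := by
  induction x with
  | zero => simp
  | tmul m p => simp [coord]
  | add x y hx hy => simp only [map_add, hx, hy]

/-- Let A be a commutative ring, (u_i : M → M_i) a family of A-linear maps whose kernels have zero
intersection, and N a projective A-module. Then the kernels of the maps u_i ⊗ 1 : M ⊗_A N → M_i ⊗_A
N have zero intersection. -/
theorem result {A : Type u} [CommRing A]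
    {M : Type u} [AddCommGroup M] [Module A M] {ι : Type u} (M' : ι → Type u)
    [∀ i, AddCommGroup (M' i)] [∀ i, Module A (M' i)] (u : ∀ i, M →ₗ[A] M' i)
    (hu : ⨅ i, LinearMap.ker (u i) = ⊥)
    (N : Type u) [AddCommGroup N] [Module A N] [Module.Projective A N] :
    ⨅ i, LinearMap.ker ((u i).rTensor N) = ⊥ := by
  obtain ⟨s, hs⟩ := Module.projective_def'.mp (inferInstance : Module.Projective A N)
  rw [eq_bot_iff]
  intro x hx
  rw [Submodule.mem_iInf] at hx
  rw [Submodule.mem_bot]
  -- `s.lTensor M` is injective
  have hinj : Function.Injective (s.lTensor M) := by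
    apply Function.LeftInverse.injective (g := (Finsupp.linearCombination A id).lTensor M)
    intro y
    rw [← LinearMap.comp_apply, ← LinearMap.lTensor_comp, hs, LinearMap.lTensor_id,
      LinearMap.id_apply]
  apply hinj
  rw [map_zero]
  apply eq_zero_of_coord
  intro k
  have : coord M N k (s.lTensor M x) ∈ ⨅ i, LinearMap.ker (u i) := by
    rw [Submodule.mem_iInf]
    intro i
    rw [LinearMap.mem_ker, ← coord_rTensor]
    have h1 : (u i).rTensor (N →₀ A) (s.lTensor M x) = s.lTensor (M' i) ((u i).rTensor N x) := by
      rw [← LinearMap.comp_apply, ← LinearMap.comp_apply, LinearMap.rTensor_comp_lTensor,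
        LinearMap.lTensor_comp_rTensor]
    rw [h1, LinearMap.mem_ker.mp (hx i), map_zero, map_zero]
  rw [hu] at this
  exact this

end Groth.Agent.S4878
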