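import Groth.Statements.S4880
import Groth.Agent.Lib.Helper24.GenericOpen

set_option autoImplicit false
universe u
open CategoryTheory AlgebraicGeometry
open EGA43

namespace Groth.Agent.S4880

/-- For a Noetherian irreducible scheme X the following are equivalent: a) the generic point of X is an
isolated point; b) the underlying set of X is finite; c) X has dimension at most 1 and finitely many
closed points. -/
theorem result (X : Scheme.{u}) [IsNoetherian X]
    [IrreducibleSpace X] :
    [IsOpen ({genericPoint X} : Set X),
      Finite X,
      topologicalKrullDim X ≤ 1 ∧ {x : X | IsClosed ({x} : Set X)}.Finite].TFAE := by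
  have hη : ∀ x : X, genericPoint X ⤳ x := genericPoint_specializes
  have hUη : ∀ y : X, genericPoint X ⤳ y → y ∈ ({genericPoint X} : Set X) → y = genericPoint X :=
    fun y _ hy => hy
  tfae_have 1 → 2 := by
    intro h
    have := Groth.Agent.Lib.Helper24.finite_closure_of_isOpen_inter_closure h rfl hUη
    rw [(genericPoint_spec X).def] at this
    exact Set.finite_univ_iff.mp this
  tfae_have 2 → 1 := by
    intro h
    have hcl : IsClosed (⋃ x ∈ {x : X | x ≠ genericPoint X}, closure ({x} : Set X)) :=
      Set.Finite.isClosed_biUnion (Set.toFinite _) (fun _ _ => isClosed_closure)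
    have heq : ({genericPoint X} : Set X) =
        (⋃ x ∈ {x : X | x ≠ genericPoint X}, closure ({x} : Set X))ᶜ := by
      ext y
      simp only [Set.mem_singleton_iff, Set.mem_compl_iff, Set.mem_iUnion, not_exists]
      constructor
      · rintro rfl x hx hmem
        have h1 : x ⤳ genericPoint X := specializes_iff_mem_closure.mpr hmem
        exact hx ((h1.antisymm (hη x)).eq)
      · intro hy
        by_contra hne
        exact hy y hne (subset_closure rfl)
    rw [heq]
    exact hcl.isOpen_compl
  tfae_have 1 → 3 := by
    intro h
    have hfin : Finite X := by
      have := Groth.Agent.Lib.Helper24.finite_closure_of_isOpen_inter_closure h rfl hUη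
      rw [(genericPoint_spec X).def] at this
      exact Set.finite_univ_iff.mp this
    refine ⟨?_, Set.toFinite _⟩
    rw [topologicalKrullDim, Order.krullDim_le_one_iff]
    intro T
    let t := T.isIrreducible.genericPoint
    have ht : closure ({t} : Set X) = (T : Set X) :=
      (T.isIrreducible.isGenericPoint_genericPoint T.isClosed).def
    by_cases htη : t = genericPoint X
    · right
      intro T' _
      intro y _
      have : y ∈ closure ({t} : Set X) := by
        rw [htη, (genericPoint_spec X).def]; trivial
      rw [ht] at this
      exact this
    · left
      intro T' hT'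
      obtain ⟨z, hz⟩ := T'.isIrreducible.nonempty
      have hzT : z ∈ closure ({t} : Set X) := by rw [ht]; exact hT' hz
      have htz : t ⤳ z := specializes_iff_mem_closure.mpr hzT
      intro y hy
      have hyT : y ∈ closure ({t} : Set X) := by rw [ht]; exact hy
      have hty : t ⤳ y := specializes_iff_mem_closure.mpr hyT
      have e1 : z = t := Groth.Agent.Lib.Helper24.eq_of_specializes_of_isOpen_inter_closure h rfl hUη
        (hη t) htη htz
      have e2 : y = t := Groth.Agent.Lib.Helper24.eq_of_specializes_of_isOpen_inter_closure h rfl hUη
        (hη t) htη hty
      rw [e2, ← e1]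
      exact hz
  tfae_have 3 → 1 := by
    rintro ⟨hdim, hfin⟩
    rw [topologicalKrullDim, Order.krullDim_le_one_iff] at hdim
    have hF : {x : X | IsClosed ({x} : Set X) ∧ x ≠ genericPoint X}.Finite :=
      hfin.subset (fun x hx => hx.1)
    have hcl : IsClosed {x : X | IsClosed ({x} : Set X) ∧ x ≠ genericPoint X} := by
      rw [← Set.biUnion_of_singleton {x : X | IsClosed ({x} : Set X) ∧ x ≠ genericPoint X}]
      exact hF.isClosed_biUnion (fun x hx => hx.1)
    have heq : ({genericPoint X} : Set X) =
        {x : X | IsClosed ({x} : Set X) ∧ x ≠ genericPoint X}ᶜ := by
      ext y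
      simp only [Set.mem_singleton_iff, Set.mem_compl_iff, Set.mem_ofPred_eq, not_and, not_not]
      constructor
      · rintro rfl _; rfl
      · intro hy
        by_contra hne
        apply hne
        apply hy
        let Ty : TopologicalSpace.IrreducibleCloseds X :=
          ⟨closure {y}, isIrreducible_singleton.closure, isClosed_closure⟩
        rcases hdim Ty with hmin | hmax
        · obtain ⟨z, hzy, hz⟩ := (isClosed_closure (s := ({y} : Set X))).exists_closed_singleton
            ⟨y, subset_closure rfl⟩
          let Tz : TopologicalSpace.IrreducibleCloseds X := ⟨{z}, isIrreducible_singleton, hz⟩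
          have hle : Tz ≤ Ty := fun w hw => by
            have : w = z := hw
            rw [this]; exact hzy
          have hge : Ty ≤ Tz := hmin hle
          have : y = z := hge (subset_closure rfl : y ∈ closure ({y} : Set X))
          rw [this]; exact hz
        · exfalso
          let Ttop : TopologicalSpace.IrreducibleCloseds X :=
            ⟨Set.univ, IrreducibleSpace.isIrreducible_univ X, isClosed_univ⟩
          have hle : Ty ≤ Ttop := fun w _ => Set.mem_univ w
          have hge : Ttop ≤ Ty := hmax hle
          have : genericPoint X ∈ closure ({y} : Set X) := hge (Set.mem_univ _)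
          have h1 : y ⤳ genericPoint X := specializes_iff_mem_closure.mpr this
          exact hne ((h1.antisymm (hη y)).eq)
    rw [heq]
    exact hcl.isOpen_compl
  tfae_finish

end Groth.Agent.S4880
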