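import Groth.Statements.S4882
import Groth.Agent.Lib.Helper24.QuasiHomeo

set_option autoImplicit false
universe u
open EGA43

namespace Groth.Agent.S4882

open Groth.Agent.Lib.Helper24 in
/-- Let X be a Jacobson space and Z a locally quasi-constructible subset of X, i.e. every point of X has
an open neighbourhood U such that U ∩ Z is a finite union of locally closed subsets of X. Then the
subspace Z is a Jacobson space, and a point of Z is closed in Z if and only if it is closed in X. -/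
theorem result {X : Type u} [TopologicalSpace X] [JacobsonSpace X]
    (Z : Set X)
    (hZ : ∀ x : X, ∃ U : Set X, IsOpen U ∧ x ∈ U ∧
      ∃ T : Set (Set X), T.Finite ∧ (∀ t ∈ T, IsLocallyClosed t) ∧ U ∩ Z = ⋃₀ T) :
    JacobsonSpace ↥Z ∧ ∀ z : ↥Z, IsClosed ({z} : Set ↥Z) ↔ IsClosed ({(z : X)} : Set X) := by
  have hZ' : IsLQC Z := hZ
  have hvd : IsVeryDense (closedPoints X) := isVeryDense_closedPoints
  have hback : ∀ z : ↥Z, IsClosed ({(z : X)} : Set X) → IsClosed ({z} : Set ↥Z) := by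
    intro z hz
    have := hz.preimage (continuous_subtype_val (p := (· ∈ Z)))
    convert this using 1
    ext w
    simp [Subtype.ext_iff]
  have hforw : ∀ z : ↥Z, IsClosed ({z} : Set ↥Z) → IsClosed ({(z : X)} : Set X) := by
    intro z hz
    obtain ⟨C, hC, hCz⟩ := isClosed_induced_iff.mp hz
    have e : Z ∩ C = {(z : X)} := by
      ext w
      constructor
      · rintro ⟨hwZ, hwC⟩
        have : (⟨w, hwZ⟩ : ↥Z) ∈ Subtype.val ⁻¹' C := hwC
        rw [hCz] at this
        exact congrArg Subtype.val this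
      · rintro rfl
        have : z ∈ Subtype.val ⁻¹' C := by rw [hCz]; rfl
        exact ⟨z.2, this⟩
    have hlqc : IsLQC (Z ∩ C) := hZ'.inter_isLocallyClosed hC.isLocallyClosed
    obtain ⟨w, hw, hwc⟩ := hvd.nonempty_inter_of_isLQC hlqc ⟨z, by rw [e]; rfl⟩
    rw [e] at hw
    obtain rfl : w = z := hw
    exact hwc
  refine ⟨?_, fun z => ⟨hforw z, hback z⟩⟩
  rw [jacobsonSpace_iff_locallyClosed]
  intro L hLne hL
  obtain ⟨L', hL', rfl⟩ := (Topology.IsInducing.subtypeVal.isLocallyClosed_iff).mp hL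
  obtain ⟨z, hz⟩ := hLne
  have hlqc : IsLQC (Z ∩ L') := hZ'.inter_isLocallyClosed hL'
  obtain ⟨w, ⟨hwZ, hwL⟩, hwc⟩ := hvd.nonempty_inter_of_isLQC hlqc ⟨z, z.2, hz⟩
  exact ⟨⟨w, hwZ⟩, hwL, hback ⟨w, hwZ⟩ hwc⟩

end Groth.Agent.S4882
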