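import Groth.Statements.S4883
import Groth.Agent.Lib.Helper24.GenericOpen

set_option autoImplicit false
universe u
open CategoryTheory AlgebraicGeometry
open EGA43

namespace Groth.Agent.S4883

/-- Let X be a Noetherian scheme. Then the set of points x of X whose closure is finite is very dense in
X: every nonempty locally closed subset of X contains a point with finite closure. -/
theorem result (X : Scheme.{u}) [IsNoetherian X]
    (Z : Set X) (hZ : IsLocallyClosed Z) (hne : Z.Nonempty) :
    ∃ x ∈ Z, (closure ({x} : Set X)).Finite := by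
  obtain ⟨U, C, hU, hC, rfl⟩ := hZ
  let S : Set (TopologicalSpace.Closeds X) :=
    {T | ∃ z ∈ U ∩ C, T = TopologicalSpace.Closeds.closure {z}}
  obtain ⟨z₀, hz₀⟩ := hne
  have hSne : S.Nonempty := ⟨_, z₀, hz₀, rfl⟩
  obtain ⟨T, ⟨x, hxZ, rfl⟩, hmin⟩ := wellFounded_lt.has_min S hSne
  refine ⟨x, hxZ, ?_⟩
  apply Groth.Agent.Lib.Helper24.finite_closure_of_isOpen_inter_closure hU hxZ.1
  intro y hxy hyU
  have hyC : y ∈ C := hxy.mem_closed hC hxZ.2
  have hle : TopologicalSpace.Closeds.closure {y} ≤ TopologicalSpace.Closeds.closure {x} :=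
    specializes_iff_closure_subset.mp hxy
  have hnlt := hmin (TopologicalSpace.Closeds.closure {y}) ⟨y, ⟨hyU, hyC⟩, rfl⟩
  have heq : TopologicalSpace.Closeds.closure {y} = TopologicalSpace.Closeds.closure {x} :=
    eq_of_le_of_not_lt hle hnlt
  have hyx : y ⤳ x := specializes_iff_closure_subset.mpr (heq ▸ le_refl _ :
    TopologicalSpace.Closeds.closure {x} ≤ TopologicalSpace.Closeds.closure {y})
  exact (hyx.antisymm hxy).eq

end Groth.Agent.S4883
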