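import Groth.Statements.S4885
-- import your own Groth.Agent.* helpers here

set_option autoImplicit false
universe u
open EGA43

namespace Groth.Agent.S4885

/-- Every finite algebra A' over a commutative ring A is a directed colimit (filtered inductive limit)
of A-algebras which are finite and of finite presentation over A. -/
theorem result (A A' : Type u) [CommRing A] [CommRing A']
    [Algebra A A'] [Module.Finite A A'] :
    ∃ (ι : Type u) (_ : Preorder ι) (G : ι → Type u) (_ : ∀ i, CommRing (G i)) (_ : ∀ i, Algebra A (G i))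
      (g : ∀ i j, i ≤ j → G i →ₐ[A] G j) (_ : ∀ i, Algebra (G i) A') (_ : ∀ i, IsScalarTower A (G i) A'),
      FlatCA.IsDirectedColimitRing G (fun i j h => (g i j h).toRingHom) A' ∧
        ∀ i, Module.Finite A (G i) ∧ Algebra.FinitePresentation A (G i) := by
  classical
  obtain ⟨s, hs⟩ := (Module.Finite.fg_top : (⊤ : Submodule A A').FG)
  -- the polynomial algebra on the generators
  let P := MvPolynomial (↥s) A
  let φ : P →ₐ[A] A' := MvPolynomial.aeval (fun i : ↥s => (i : A'))
  have hφ : Function.Surjective φ := by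
    rw [← AlgHom.range_eq_top]
    have h1 : φ.range = Algebra.adjoin A (Set.range (fun i : ↥s => (i : A'))) :=
      MvPolynomial.aeval_range _
    have h2 : Set.range (fun i : ↥s => (i : A')) = (s : Set A') := Subtype.range_coe
    rw [h1, h2]
    apply Subalgebra.toSubmodule_injective
    rw [Algebra.top_toSubmodule]
    exact top_le_iff.mp (hs ▸ Algebra.span_le_adjoin A _)
  -- monic polynomials killing the generators
  have hint : ∀ i : ↥s, ∃ p : Polynomial A, p.Monic ∧ Polynomial.aeval (i : A') p = 0 := by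
    intro i
    obtain ⟨p, hp, hp0⟩ := Algebra.IsIntegral.isIntegral (R := A) (i : A')
    exact ⟨p, hp, by rwa [Polynomial.aeval_def]⟩
  choose p hpm hp0 using hint
  let Q : ↥s → P := fun i => Polynomial.aeval (MvPolynomial.X i : P) (p i)
  have hQ : ∀ i, φ (Q i) = 0 := by
    intro i
    have : φ (Q i) = Polynomial.aeval (φ (MvPolynomial.X i)) (p i) :=
      (Polynomial.aeval_algHom_apply φ (MvPolynomial.X i) (p i)).symm
    rw [this]
    have h2 : φ (MvPolynomial.X i) = (i : A') := MvPolynomial.aeval_X _ _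
    rw [h2]; exact hp0 i
  let K : Ideal P := RingHom.ker φ.toRingHom
  let J0 : Ideal P := Ideal.span (Set.range Q)
  have hJ0K : J0 ≤ K := by
    rw [Ideal.span_le]
    rintro _ ⟨i, rfl⟩
    exact hQ i
  have hJ0fg : J0.FG := ⟨Finset.univ.image Q, by simp [J0]⟩
  have hJ0fin : Module.Finite A (P ⧸ J0) := by
    have hadj : Algebra.adjoin A (Set.range (fun i : ↥s => (Ideal.Quotient.mkₐ A J0 (MvPolynomial.X i) : P ⧸ J0))) = ⊤ := by
      have h1 : Set.range (fun i : ↥s => (Ideal.Quotient.mkₐ A J0 (MvPolynomial.X i) : P ⧸ J0)) =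
          (Ideal.Quotient.mkₐ A J0) '' (Set.range (MvPolynomial.X : ↥s → P)) := by
        rw [← Set.range_comp]; rfl
      rw [h1, ← AlgHom.map_adjoin, MvPolynomial.adjoin_range_X, Algebra.map_top,
        AlgHom.range_eq_top]
      exact Ideal.Quotient.mkₐ_surjective A J0
    have hfg := fg_adjoin_of_finite (R := A)
      (s := Set.range (fun i : ↥s => (Ideal.Quotient.mkₐ A J0 (MvPolynomial.X i) : P ⧸ J0)))
      (Set.finite_range _) (by
        rintro _ ⟨i, rfl⟩
        refine ⟨p i, hpm i, ?_⟩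
        rw [← Polynomial.aeval_def, Polynomial.aeval_algHom_apply]
        exact Ideal.Quotient.eq_zero_iff_mem.mpr (Ideal.subset_span ⟨i, rfl⟩))
    rw [hadj, Algebra.top_toSubmodule] at hfg
    exact ⟨hfg⟩
  -- the index set
  let ι := {J : Ideal P // J.FG ∧ J ≤ K ∧ Module.Finite A (P ⧸ J)}
  let G : ι → Type u := fun J => P ⧸ J.1
  let g : ∀ i j : ι, i ≤ j → G i →ₐ[A] G j := fun i j h => Ideal.Quotient.factorₐ A h
  let ψ : ∀ i : ι, G i →ₐ[A] A' := fun i => Ideal.Quotient.liftₐ i.1 φ (fun a ha => i.2.2.1 ha)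
  refine ⟨ι, inferInstance, G, fun i => inferInstanceAs (CommRing (P ⧸ i.1)),
    fun i => inferInstanceAs (Algebra A (P ⧸ i.1)), g, fun i => (ψ i).toRingHom.toAlgebra,
    fun i => ?_, ?_, ?_⟩
  · let _ := (ψ i).toRingHom.toAlgebra
    exact IsScalarTower.of_algebraMap_eq (fun a => ((ψ i).commutes a).symm)
  · refine ⟨⟨fun i j => ⟨⟨i.1 ⊔ j.1, Submodule.FG.sup i.2.1 j.2.1, sup_le i.2.2.1 j.2.2.1, ?_⟩,
      (le_sup_left : i.1 ≤ i.1 ⊔ j.1), (le_sup_right : j.1 ≤ i.1 ⊔ j.1)⟩⟩,
      ⟨⟨J0, hJ0fg, hJ0K, hJ0fin⟩⟩, ?_, ?_, ?_, ?_, ?_⟩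
    · have := i.2.2.2
      exact Module.Finite.of_surjective
        (Ideal.Quotient.factorₐ A (le_sup_left : i.1 ≤ i.1 ⊔ j.1)).toLinearMap
        (Ideal.Quotient.factor_surjective (le_sup_left : i.1 ≤ i.1 ⊔ j.1))
    · intro i
      apply RingHom.ext
      intro x
      obtain ⟨x, rfl⟩ := Ideal.Quotient.mk_surjective x
      rfl
    · intro i j k hij hjk
      apply RingHom.ext
      intro x
      obtain ⟨x, rfl⟩ := Ideal.Quotient.mk_surjective x
      rfl
    · intro i j h
      apply RingHom.ext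
      intro x
      obtain ⟨x, rfl⟩ := Ideal.Quotient.mk_surjective x
      rfl
    · intro a
      obtain ⟨x, rfl⟩ := hφ a
      exact ⟨⟨J0, hJ0fg, hJ0K, hJ0fin⟩, Ideal.Quotient.mk J0 x, rfl⟩
    · intro i x hx
      obtain ⟨x, rfl⟩ := Ideal.Quotient.mk_surjective x
      have hxK : x ∈ K := hx
      have hle : i.1 ≤ i.1 ⊔ Ideal.span {x} := le_sup_left
      refine ⟨⟨i.1 ⊔ Ideal.span {x}, Submodule.FG.sup i.2.1 ⟨{x}, by simp⟩,
        sup_le i.2.2.1 ((Ideal.span_singleton_le_iff_mem _).mpr hxK), ?_⟩, hle, ?_⟩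
      · have := i.2.2.2
        exact Module.Finite.of_surjective (Ideal.Quotient.factorₐ A hle).toLinearMap
          (Ideal.Quotient.factor_surjective hle)
      · exact Ideal.Quotient.eq_zero_iff_mem.mpr
          (Ideal.mem_sup_right (Ideal.mem_span_singleton_self x))
  · intro i
    refine ⟨i.2.2.2, ?_⟩
    exact Algebra.FinitePresentation.quotient i.2.1

end Groth.Agent.S4885
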