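import Groth.Statements.S4886
import Mathlib

set_option autoImplicit false
universe u
open CategoryTheory AlgebraicGeometry
open EGA43

namespace Groth.Agent.S4886

theorem int_isJacobsonRing' : IsJacobsonRing ℤ := by
  rw [isJacobsonRing_iff_prime_eq]
  intro P hP
  by_cases h : P = ⊥
  · subst h
    refine le_antisymm ?_ Ideal.le_jacobson
    intro x hx
    rw [Ideal.mem_jacobson_bot] at hx
    rw [Ideal.mem_bot]
    by_contra hx0
    have h1 := hx (2 * x)
    rw [Int.isUnit_iff] at h1
    have h2 : 0 < x * x := mul_self_pos.mpr hx0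
    rcases h1 with h1 | h1 <;> nlinarith
  · have : P.IsMaximal := hP.isMaximal h
    exact Ideal.jacobson_eq_self_of_isMaximal

theorem ulift_int_isJacobsonRing : IsJacobsonRing (ULift.{u} ℤ) :=
  (isJacobsonRing_iso (ULift.ringEquiv : ULift.{u} ℤ ≃+* ℤ)).mpr int_isJacobsonRing'

/-- A field which is a finitely generated abelian group is finite. -/
theorem finite_of_field_of_moduleFinite_int (K : Type u) [Field K] [Module.Finite ℤ K] : Finite K := by
  obtain ⟨q, hq⟩ := CharP.exists K
  rcases CharP.char_is_prime_or_zero K q with hq' | hq'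
  · haveI : Fact q.Prime := ⟨hq'⟩
    let : Algebra (ZMod q) K := ZMod.algebra K q
    have : Module.Finite (ZMod q) K := Module.Finite.of_restrictScalars_finite ℤ (ZMod q) K
    exact Module.finite_of_finite (ZMod q)
  · exfalso
    subst hq'
    have : CharZero K := CharP.charP_to_charZero K
    have hinj : Function.Injective (algebraMap ℤ K) := (algebraMap ℤ K).injective_int
    have : Algebra.IsIntegral ℤ K := Algebra.IsIntegral.of_finite ℤ K
    exact Int.not_isField (isField_of_isIntegral_of_isField hinj (Field.toIsField K))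

/-- Finitely many ring homomorphisms from a finite type algebra into a finite ring, when the base has at
most one. -/
theorem finite_ringHom_of_finiteType {A R : Type u} {F : Type*} [CommRing A] [CommRing R] [CommRing F] [Finite F]
    (φ : A →+* R) (hφ : φ.FiniteType) (hA : ∀ ψ₁ ψ₂ : A →+* F, ψ₁ = ψ₂) : Finite (R →+* F) := by
  algebraize [φ]
  obtain ⟨s, hs⟩ := (‹Algebra.FiniteType A R›).out
  let restr : (R →+* F) → (s → F) := fun ψ x => ψ x
  refine Finite.of_injective restr ?_
  intro ψ ψ' h
  let : Algebra A F := (ψ.comp φ).toAlgebra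
  let ψa : R →ₐ[A] F := ⟨ψ, fun a => rfl⟩
  let ψa' : R →ₐ[A] F := ⟨ψ', fun a => by
    have := hA (ψ'.comp φ) (ψ.comp φ)
    exact congrFun (congrArg DFunLike.coe this) a⟩
  have hext : ψa = ψa' := AlgHom.ext_of_adjoin_eq_top hs (fun x hx => congrFun h ⟨x, hx⟩)
  exact congrArg (fun f : R →ₐ[A] F => (f : R →+* F)) hext


/-- Let Y be a scheme of finite type over ℤ. (i) A point y of Y is closed if and only if the residue
field k(y) is finite. (ii) For every prime number p and every integer d ≥ 1, the set of points y of
Y such that k(y) is an extension of 𝔽_p of degree dividing d, i.e. admits a ring homomorphism into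
the field with p^d elements, is finite. -/
theorem result (Y : Scheme.{u}) [CompactSpace Y]
    [LocallyOfFiniteType (Limits.IsTerminal.from specULiftZIsTerminal Y)] :
    (∀ y : Y, IsClosed ({y} : Set Y) ↔ Finite ↑(Y.residueField y)) ∧
    ∀ (p d : ℕ) [Fact p.Prime], 0 < d →
      {y : Y | Nonempty (↑(Y.residueField y) →+* GaloisField p d)}.Finite := by
  have := ulift_int_isJacobsonRing.{u}
  let t : Y ⟶ Spec (CommRingCat.of (ULift.{u} ℤ)) := Limits.IsTerminal.from specULiftZIsTerminal Y
  have : JacobsonSpace Y := LocallyOfFiniteType.jacobsonSpace t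
  refine ⟨fun y => ⟨fun hy => ?_, fun hfin => ?_⟩, fun p d _ hd => ?_⟩
  · -- closed ⇒ finite residue field
    have : IsClosedImmersion (Y.fromSpecResidueField y) :=
      isClosed_singleton_iff_isClosedImmersion.mp hy
    have hlft : LocallyOfFiniteType (Y.fromSpecResidueField y ≫ t) := inferInstance
    have hfin : IsFinite (Y.fromSpecResidueField y ≫ t) :=
      isFinite_iff_locallyOfFiniteType_of_jacobsonSpace.mpr hlft
    obtain ⟨φ, hφ⟩ := Spec.map_surjective (Y.fromSpecResidueField y ≫ t)
    rw [← hφ, IsFinite.SpecMap_iff] at hfin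
    have h2 : (Int.castRingHom (Y.residueField y)).Finite := by
      have h3 : Int.castRingHom (Y.residueField y) =
          φ.hom.comp (Int.castRingHom (ULift.{u} ℤ)) := Subsingleton.elim _ _
      rw [h3]
      refine hfin.comp (RingHom.Finite.of_surjective _ ?_)
      intro x
      exact ⟨x.down, by ext; simp⟩
    have h4 : @Module.Finite ℤ (Y.residueField y) _ _
        (Int.castRingHom (Y.residueField y)).toAlgebra.toModule := h2
    have : Module.Finite ℤ (Y.residueField y) := by
      convert h4
      · rfl
      · exact Subsingleton.elim _ _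
    exact finite_of_field_of_moduleFinite_int (Y.residueField y)
  · -- finite residue field ⇒ closed
    rw [isClosed_singleton_iff_locallyOfFiniteType]
    have : LocallyOfFiniteType (Y.fromSpecResidueField y ≫ t) := by
      obtain ⟨φ, hφ⟩ := Spec.map_surjective (Y.fromSpecResidueField y ≫ t)
      rw [← hφ, HasRingHomProperty.Spec_iff (P := @LocallyOfFiniteType)]
      apply RingHom.FiniteType.of_finite
      exact @Module.Finite.of_finite _ _ _ _ φ.hom.toAlgebra.toModule _
    exact locallyOfFiniteType_of_comp (Y.fromSpecResidueField y) t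
  · -- finiteness of the set of points with residue field inside `𝔽_{p^d}`
    set S : Set Y := {y : Y | Nonempty (↑(Y.residueField y) →+* GaloisField p d)} with hS
    -- finite on each affine open
    have haff : ∀ U : Y.Opens, IsAffineOpen U → (S ∩ (U : Set Y)).Finite := by
      intro U hU
      have hft : (t.appLE ⊤ U le_top).hom.FiniteType := t.finiteType_appLE (isAffineOpen_top _) hU le_top
      have hA : ∀ ψ₁ ψ₂ : Γ(Spec (CommRingCat.of (ULift.{u} ℤ)), ⊤) →+* GaloisField p d, ψ₁ = ψ₂ := by
        intro ψ₁ ψ₂
        let e : Γ(Spec (CommRingCat.of (ULift.{u} ℤ)), ⊤) ≃+* ℤ :=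
          (Scheme.ΓSpecIso (CommRingCat.of (ULift.{u} ℤ))).commRingCatIsoToRingEquiv.trans ULift.ringEquiv
        have h1 : ψ₁.comp (e.symm : ℤ →+* _) = ψ₂.comp (e.symm : ℤ →+* _) := Subsingleton.elim _ _
        have h5 : ∀ ψ : Γ(Spec (CommRingCat.of (ULift.{u} ℤ)), ⊤) →+* GaloisField p d,
            ψ = (ψ.comp (e.symm : ℤ →+* _)).comp (e : _ →+* ℤ) := by
          intro ψ
          ext a
          show ψ a = ψ ((e.symm : ℤ →+* _) ((e : _ →+* ℤ) a))
          rw [RingEquiv.coe_toRingHom, RingEquiv.coe_toRingHom, RingEquiv.symm_apply_apply]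
        rw [h5 ψ₁, h5 ψ₂, h1]
      have : Finite (Γ(Y, U) →+* GaloisField p d) := finite_ringHom_of_finiteType _ hft hA
      classical
      let Φ : ↥(S ∩ (U : Set Y)) → (Γ(Y, U) →+* GaloisField p d) := fun y =>
        (Classical.choice y.2.1).comp (Y.evaluation U y.1 y.2.2).hom
      have hΦ : Function.Injective Φ := by
        intro y y' h
        have key : ∀ a : Γ(Y, U), y.1 ∈ Y.basicOpen a ↔ y'.1 ∈ Y.basicOpen a := by
          intro a
          have h1 := congrFun (congrArg DFunLike.coe h) a
          simp only [Φ, RingHom.comp_apply] at h1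
          rw [← Scheme.evaluation_ne_zero_iff_mem_basicOpen Y y.1 y.2.2 a,
            ← Scheme.evaluation_ne_zero_iff_mem_basicOpen Y y'.1 y'.2.2 a]
          constructor
          · intro h2 h3
            apply h2
            apply (Classical.choice y.2.1).injective
            rw [map_zero]
            have : (Y.evaluation U y'.1 y'.2.2).hom a = 0 := h3
            rw [h1, this, map_zero]
          · intro h2 h3
            apply h2
            apply (Classical.choice y'.2.1).injective
            rw [map_zero]
            have : (Y.evaluation U y.1 y.2.2).hom a = 0 := h3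
            rw [← h1, this, map_zero]
        apply Subtype.ext
        apply Inseparable.eq
        rw [inseparable_iff_forall_isOpen]
        intro s hs
        constructor
        · intro hy
          obtain ⟨a, ha1, ha2⟩ := hU.exists_basicOpen_le (V := ⟨s, hs⟩) ⟨y.1, hy⟩ y.2.2
          exact ha1 ((key a).mp ha2)
        · intro hy
          obtain ⟨a, ha1, ha2⟩ := hU.exists_basicOpen_le (V := ⟨s, hs⟩) ⟨y'.1, hy⟩ y'.2.2
          exact ha1 ((key a).mpr ha2)
      exact Set.finite_coe_iff.mp (Finite.of_injective Φ hΦ)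
    -- finite affine cover
    obtain ⟨ι, hι⟩ : ∃ tt : Finset Y.affineOpens, (Set.univ : Set Y) ⊆ ⋃ U ∈ tt, ((U : Y.Opens) : Set Y) := by
      apply isCompact_univ.elim_finite_subcover (fun U : Y.affineOpens => ((U : Y.Opens) : Set Y))
        (fun U => (U : Y.Opens).isOpen)
      intro x _
      obtain ⟨_, ⟨U, hU, rfl⟩, hxU, -⟩ :=
        Y.isBasis_affineOpens.exists_subset_of_mem_open (Set.mem_univ x) isOpen_univ
      exact Set.mem_iUnion.mpr ⟨⟨U, hU⟩, hxU⟩
    have hsub : S ⊆ ⋃ U ∈ ι, (S ∩ ((U : Y.Opens) : Set Y)) := by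
      intro y hy
      obtain ⟨U, hU, hyU⟩ := Set.mem_iUnion₂.mp (hι (Set.mem_univ y))
      exact Set.mem_iUnion₂.mpr ⟨U, hU, hy, hyU⟩
    exact (Set.Finite.biUnion ι.finite_toSet (fun U _ => haff U.1 U.2)).subset hsub

end Groth.Agent.S4886
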