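import Groth.Statements.S4891
import Groth.Agent.H76.FibreFlat

set_option autoImplicit false
universe u
open TensorProduct
open EGA43

namespace Groth.Agent.S4891

/-- Let A be a commutative ring, J a nilpotent ideal of A, B a commutative A-algebra and M a B-module.
If M is flat over A, M/JM is flat over B/JB, B/JB is flat over A/J and mM ≠ M for every maximal
ideal m of B containing JB, then B is flat over A. (Under the first two hypotheses M is also flat
over B; that implication is stated elsewhere and not repeated here.) -/
theorem result {A B : Type u} [CommRing A] [CommRing B] [Algebra A B]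
    (J : Ideal A) (hJ : IsNilpotent J) (M : Type u) [AddCommGroup M] [Module B M] [Module A M] [IsScalarTower A B M]
    (hc1 : Module.Flat A M)
    (hc2 : Module.Flat (B ⧸ J.map (algebraMap A B)) ((B ⧸ J.map (algebraMap A B)) ⊗[B] M))
    (hd1 : Module.Flat (A ⧸ J) ((A ⧸ J) ⊗[A] B))
    (hd2 : ∀ m : Ideal B, m.IsMaximal → J.map (algebraMap A B) ≤ m → (m • (⊤ : Submodule B M)) ≠ ⊤) :
    Module.Flat A B := by
  haveI := hc1
  haveI := hc2
  have h0 : Function.Injective (LinearMap.rTensor M (Submodule.subtype J)) :=
    Module.Flat.rTensor_preserves_injective_linearMap _ Subtype.val_injective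
  have h1 := Groth.Agent.H76.FibreFlat.rTensor_map_injective (S := B) (M := M) J h0
  have hnil : IsNilpotent (J.map (algebraMap A B)) := by
    obtain ⟨n, hn⟩ := hJ
    refine ⟨n, ?_⟩
    rw [← Ideal.map_pow, hn]
    exact Ideal.map_bot
  have hBM : Module.Flat B M :=
    Groth.Agent.H76.NilFlat.flat_of_nilpotent (J.map (algebraMap A B)) M h1 hnil
  haveI := hBM
  haveI : Module.FaithfullyFlat B M := by
    refine ⟨fun m hm => hd2 m hm ?_⟩
    obtain ⟨n, hn⟩ := hnil
    intro x hx
    have hxn : x ^ n ∈ (J.map (algebraMap A B)) ^ n := Ideal.pow_mem_pow hx n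
    rw [hn] at hxn
    have : x ^ n ∈ m := by
      rw [(Submodule.mem_bot B).mp hxn]
      exact m.zero_mem
    exact hm.isPrime.mem_of_pow_mem n this
  exact Groth.Agent.H76.FibreFlat.flat_of_faithfullyFlat_module (R := A) (S := B) (M := M)

end Groth.Agent.S4891
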