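import Groth.Statements.S4897
import Groth.Agent.Lib.Helper24.QuasiHomeoConstructible

set_option autoImplicit false
universe u
open EGA43

namespace Groth.Agent.S4897

open Groth.Agent.Lib.Helper24 in
/-- Let f : X → Y be a quasi-homeomorphism, i.e. a continuous map such that U ↦ f⁻¹(U) is a bijection
from the open subsets of Y onto the open subsets of X. Then Z ↦ f⁻¹(Z) induces bijections from the
locally closed (resp. constructible, resp. locally constructible) subsets of Y onto those of X. -/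
theorem result {X Y : Type u}
    [TopologicalSpace X] [TopologicalSpace Y] (f : X → Y) (hf : Continuous f)
    (hq : Function.Bijective (fun U : TopologicalSpace.Opens Y =>
      (⟨f ⁻¹' (U : Set Y), U.isOpen.preimage hf⟩ : TopologicalSpace.Opens X))) :
    Function.Bijective (fun Z : {Z : Set Y // IsLocallyClosed Z} =>
        (⟨f ⁻¹' Z.1, Z.2.preimage hf⟩ : {Z : Set X // IsLocallyClosed Z})) ∧
      Set.BijOn (fun Z : Set Y => f ⁻¹' Z) {Z | Topology.IsConstructible Z} {Z | Topology.IsConstructible Z} ∧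
      Set.BijOn (fun Z : Set Y => f ⁻¹' Z) {Z | Topology.IsLocallyConstructible Z}
        {Z | Topology.IsLocallyConstructible Z} := by
  have h : IsQHomeo f := isQHomeo_of_bijective hf hq
  refine ⟨⟨?_, ?_⟩, ⟨?_, ?_, ?_⟩, ⟨?_, ?_, ?_⟩⟩
  · rintro ⟨Z₁, h₁⟩ ⟨Z₂, h₂⟩ e
    have e' : f ⁻¹' Z₁ = f ⁻¹' Z₂ := congrArg Subtype.val e
    exact Subtype.ext (h.eq_of_preimage_eq h₁.isLQC_helper24 h₂.isLQC_helper24 e')
  · rintro ⟨W, V, C, hV, hC, rfl⟩
    obtain ⟨U, hU, rfl⟩ := h.2 V hV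
    obtain ⟨U', hU', hU'C⟩ := h.2 Cᶜ hC.isOpen_compl
    refine ⟨⟨U ∩ U'ᶜ, U, U'ᶜ, hU, hU'.isClosed_compl, rfl⟩, ?_⟩
    apply Subtype.ext
    simp only [Set.preimage_inter, Set.preimage_compl, hU'C, compl_compl]
  · intro Z hZ
    exact h.isConstructible_preimage hf hZ
  · intro Z₁ h₁ Z₂ h₂ e
    exact h.eq_of_preimage_eq h₁.isQC_helper24.isLQC h₂.isQC_helper24.isLQC e
  · intro W hW
    obtain ⟨Z, hZ, e⟩ := h.exists_isConstructible_preimage_eq hf hW
    exact ⟨Z, hZ, e⟩
  · intro Z hZ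
    exact h.isLocallyConstructible_preimage hf hZ
  · intro Z₁ h₁ Z₂ h₂ e
    exact h.eq_of_preimage_eq h₁.isLQC_helper24 h₂.isLQC_helper24 e
  · intro W hW
    obtain ⟨Z, hZ, e⟩ := h.exists_isLocallyConstructible_preimage_eq hf hW
    exact ⟨Z, hZ, e⟩

end Groth.Agent.S4897
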