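import Groth.Statements.S4898
import Groth.Agent.Lib.Helper12.GenFlatIdealC
import Groth.Agent.Lib.Helper12.GenFlatSchA
import Groth.Agent.Lib.Helper49.FinitePresentation2
open Groth.Agent.Lib.Helper12.GenFlatIdeal Groth.Agent.Lib.Helper12.GenFlatSch

set_option autoImplicit false
universe u
open CategoryTheory AlgebraicGeometry
open EGA43

namespace Groth.Agent.S4898

open CategoryTheory.Limits in
/-- Over an affine irreducible base, tested on affine base changes, to which the general statement
reduces: let A be a commutative ring whose spectrum is irreducible, f : X ⟶ Spec A a morphism of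
finite presentation and F a quasi-coherent O_X-module of finite presentation. Then there are an
element h of A which is not nilpotent (so that U = Spec A_h is a nonempty open subset of Spec A) and
a finitely generated ideal J of A_h contained in the nilradical (so that the closed subscheme Z =
V(J) of U, of finite presentation over U, has the same underlying space as U) such that for every
A_h-algebra A' the pullback of F to X ×_{Spec A} Spec A' is flat over Spec A' if and only if J
generates the zero ideal of A', i.e. if and only if Spec A' ⟶ U factors through Z. (The published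
statement also asserts that, for a finite affine open cover (W_i) of X, U can be chosen so that the
sections of the pullback of F over each W_i ×_{Spec A} Spec A' form a free A'-module whenever Spec
A' ⟶ U factors through Z; this row omits that assertion.) -/
theorem result {A : Type u} [CommRing A] [IrreducibleSpace (PrimeSpectrum A)]
    {X : Scheme.{u}} (f : X ⟶ Spec (CommRingCat.of A))
    [LocallyOfFinitePresentation f] [QuasiCompact f] [QuasiSeparated f]
    (F : X.Modules) [Coh.IsQCoh F] (hF : CohB1.IsFP F) :
    ∃ (h : A) (_ : ¬ IsNilpotent h) (J : Ideal (Localization.Away h)) (_ : J.FG)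
      (_ : J ≤ nilradical (Localization.Away h)),
      ∀ (A' : Type u) [CommRing A'] [Algebra (Localization.Away h) A'],
        letI g : Spec (CommRingCat.of A') ⟶ Spec (CommRingCat.of A) :=
          Spec.map (CommRingCat.ofHom ((algebraMap (Localization.Away h) A').comp (algebraMap A (Localization.Away h))))
        (FlatMod.IsFlatOver (pullback.snd f g) ((Scheme.Modules.pullback (pullback.fst f g)).obj F) ↔
          Ideal.map (algebraMap (Localization.Away h) A') J = ⊥) := by
  classical
  haveI hqc : F.IsQuasicoherent := ‹Coh.IsQCoh F›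
  haveI : CompactSpace X := QuasiCompact.compactSpace_of_compactSpace f
  obtain ⟨s, hsfin, hs⟩ := (isCompact_iff_finite_and_eq_biUnion_affineOpens
    (U := (⊤ : X.Opens))).mp (by simpa using CompactSpace.isCompact_univ)
  haveI : Finite s := hsfin.to_subtype
  let S := Spec (CommRingCat.of A)
  let A₁ : Type u := Γ(S, ⊤)
  let εA : A₁ ≃+* A := (Scheme.ΓSpecIso (CommRingCat.of A)).commRingCatIsoToRingEquiv
  have hnA : (nilradical A).IsPrime :=
    PrimeSpectrum.irreducibleSpace_iff_isPrime_nilradical.mp inferInstance
  have hnA₁ : (nilradical A₁).IsPrime := by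
    have h1 : nilradical A₁ = (nilradical A).comap εA.toRingHom := by
      ext x
      rw [Ideal.mem_comap, mem_nilradical, mem_nilradical]
      exact (IsNilpotent.map_iff εA.injective).symm
    rw [h1]
    exact Ideal.comap_isPrime _ _
  -- the family of charts
  letI algB : ∀ W : s, Algebra A₁ Γ(X, W.1.1) := fun W => sectionsAlgebra f W.1.1
  letI modM : ∀ W : s, Module A₁ Γ(F, W.1.1) := fun W => sectionsModule f F W.1.1
  haveI tow : ∀ W : s, IsScalarTower A₁ Γ(X, W.1.1) Γ(F, W.1.1) := fun W =>
    IsScalarTower.of_compHom _ _ _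
  haveI fpB : ∀ W : s, Algebra.FinitePresentation A₁ Γ(X, W.1.1) := fun W =>
    LocallyOfFinitePresentation.finitePresentation_appLE f (isAffineOpen_top S) W.1.2 le_top
  haveI fpM : ∀ W : s, Module.FinitePresentation Γ(X, W.1.1) Γ(F, W.1.1) := fun W =>
    Groth.Agent.Lib.Helper49.finitePresentation_sections_of_isFinitePresentation F hF W.1.2
  obtain ⟨h₁, hh₁, J₁, hJ₁fg, hJ₁le, H⟩ := family_version hnA₁ (ι := s)
    (fun W => Γ(X, W.1.1)) (fun W => Γ(F, W.1.1))
  refine ⟨εA h₁, ?_, (J₁.map εA.toRingHom).map (algebraMap A (Localization.Away (εA h₁))),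
    Ideal.FG.map (Ideal.FG.map hJ₁fg _) _, ?_, ?_⟩
  · intro hnil
    exact hh₁ ((IsNilpotent.map_iff εA.injective).mp hnil)
  · exact (Ideal.map_mono ((Ideal.map_mono hJ₁le).trans (map_nilradical_le _))).trans
      (map_nilradical_le _)
  · intro A' _ _
    let φ : A →+* A' := (algebraMap (Localization.Away (εA h₁)) A').comp
      (algebraMap A (Localization.Away (εA h₁)))
    let g : Spec (CommRingCat.of A') ⟶ Spec (CommRingCat.of A) := Spec.map (CommRingCat.ofHom φ)
    change FlatMod.IsFlatOver (pullback.snd f g)
      ((Scheme.Modules.pullback (pullback.fst f g)).obj F) ↔ _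
    let S' := Spec (CommRingCat.of A')
    let A₁' : Type u := Γ(S', ⊤)
    let εA' : A₁' ≃+* A' := (Scheme.ΓSpecIso (CommRingCat.of A')).commRingCatIsoToRingEquiv
    letI algA₁A₁' : Algebra A₁ A₁' := baseAlgebra g
    have happ : g.appLE ⊤ ⊤ le_top = g.appTop := g.appLE_eq_app
    have hnat : ∀ a : A₁, εA' (algebraMap A₁ A₁' a) = φ (εA a) := by
      intro a
      have h1 := congrArg (fun k => k.hom a) (Scheme.ΓSpecIso_naturality (CommRingCat.ofHom φ))
      have h2 : algebraMap A₁ A₁' a = g.appTop.hom a := by
        change (g.appLE ⊤ ⊤ le_top).hom a = _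
        rw [happ]
      rw [h2]
      exact h1
    have hunit : IsUnit (algebraMap A₁ A₁' h₁) := by
      have h1 : IsUnit (φ (εA h₁)) :=
        (IsLocalization.Away.algebraMap_isUnit (S := Localization.Away (εA h₁)) (εA h₁)).map
          (algebraMap (Localization.Away (εA h₁)) A')
      rw [← hnat] at h1
      exact (isUnit_map_iff εA' _).mp h1
    have H' := H A₁' hunit
    -- the cover
    let 𝒲 : Set X.Opens := {W | ∃ V ∈ s, (V : X.affineOpens).1 = W}
    have h𝒲 : ∀ W ∈ 𝒲, IsAffineOpen W := by
      rintro _ ⟨V, -, rfl⟩
      exact V.2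
    have hcov : ∀ x : X, ∃ W ∈ 𝒲, x ∈ W := by
      intro x
      have hx : x ∈ (⊤ : X.Opens) := trivial
      rw [hs] at hx
      simp only [TopologicalSpace.Opens.mem_iSup] at hx
      obtain ⟨V, hV, hxV⟩ := hx
      exact ⟨V.1, ⟨V, hV, rfl⟩, hxV⟩
    rw [isFlatOver_pullback_iff f g F 𝒲 h𝒲 hcov]
    -- the ideal
    have hJ : Ideal.map (algebraMap (Localization.Away (εA h₁)) A')
        ((J₁.map εA.toRingHom).map (algebraMap A (Localization.Away (εA h₁)))) = ⊥ ↔
        J₁.map (algebraMap A₁ A₁') = ⊥ := by
      have h1 : φ.comp εA.toRingHom = εA'.toRingHom.comp (algebraMap A₁ A₁') :=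
        RingHom.ext fun a => (hnat a).symm
      rw [Ideal.map_map, Ideal.map_map]
      change Ideal.map (φ.comp εA.toRingHom) J₁ = ⊥ ↔ _
      rw [h1, ← Ideal.map_map]
      exact Ideal.map_eq_bot_iff_of_injective (f := εA'.toRingHom) εA'.injective
    rw [hJ, ← H']
    constructor
    · intro hall W
      exact hall W.1.1 ⟨W.1, W.2, rfl⟩
    · rintro hall _ ⟨V, hV, rfl⟩
      exact hall ⟨V, hV⟩

end Groth.Agent.S4898
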