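import Mathlib
import Groth.Statements.S4900
import Groth.Agent.Lib.Helper23.FlatStagePoint
import Groth.Agent.Lib.Helper23.FlatStageRel
import Groth.Agent.Lib.Helper13.LimDescent2
import Groth.Agent.Lib.Helper16.FlatPull.BaseChange

set_option autoImplicit false
universe u
open CategoryTheory AlgebraicGeometry
open EGA43

namespace Groth.Agent.S4900

/-- Let S be the limit of a cofiltered system (S_i) of schemes with affine transition morphisms, S_{i₀}
a quasi-compact stage, f₀ : X₀ ⟶ Y₀ an S_{i₀}-morphism between schemes of finite presentation over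
S_{i₀}, F₀ a quasi-coherent O_{X₀}-module of finite presentation, f : X ⟶ Y and F the base changes
to S, and x a point of X. Then F is f-flat at x if and only if there are an index i over i₀ and base
changes f_i : X_i ⟶ Y_i, F_i of f₀, F₀ to S_i (pullback squares, with the induced compatible
morphisms X ⟶ X_i, Y ⟶ Y_i) such that F_i is f_i-flat at the image x_i of x in X_i. -/
theorem result {I : Type u} [SmallCategory I] [IsCofiltered I]
    (D : I ⥤ Scheme.{u}) (c : Limits.Cone D) (hc : Limits.IsLimit c)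
    [∀ (i j : I) (φ : i ⟶ j), IsAffineHom (D.map φ)] (i₀ : I) [CompactSpace (D.obj i₀)]
    {X₀ Y₀ : Scheme.{u}} (f₀ : X₀ ⟶ Y₀) (g₀ : Y₀ ⟶ D.obj i₀)
    [LocallyOfFinitePresentation g₀] [QuasiCompact g₀] [QuasiSeparated g₀]
    [LocallyOfFinitePresentation (f₀ ≫ g₀)] [QuasiCompact (f₀ ≫ g₀)] [QuasiSeparated (f₀ ≫ g₀)]
    (F₀ : X₀.Modules) [Coh.IsQCoh F₀] (hF₀ : CohB1.IsFP F₀)
    {X Y : Scheme.{u}} (f : X ⟶ Y) (g : Y ⟶ c.pt) (qY : Y ⟶ Y₀) (qX : X ⟶ X₀)
    (hY : IsPullback qY g g₀ (c.π.app i₀)) (hX : IsPullback qX f f₀ qY) (x : X) :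
    FlatMod.IsFlatOverAt f ((Scheme.Modules.pullback qX).obj F₀) x ↔
      ∃ (i : I) (φ : i ⟶ i₀) (Xi Yi : Scheme.{u}) (fi : Xi ⟶ Yi) (gi : Yi ⟶ D.obj i)
        (pY : Yi ⟶ Y₀) (pX : Xi ⟶ X₀) (vY : Y ⟶ Yi) (vX : X ⟶ Xi),
        IsPullback pY gi g₀ (D.map φ) ∧ IsPullback pX fi f₀ pY ∧
          vY ≫ pY = qY ∧ vY ≫ gi = g ≫ c.π.app i ∧ vX ≫ pX = qX ∧ vX ≫ fi = f ≫ vY ∧
          FlatMod.IsFlatOverAt fi ((Scheme.Modules.pullback pX).obj F₀) (vX x) := by
  open Groth.Agent.Lib.Helper23 Groth.Agent.Lib.Helper23.FlatStage Limits in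
  haveI hD : ∀ {i j : I} (φ : i ⟶ j), IsAffineHom (D.map φ) := fun φ => inferInstance
  constructor
  · intro hfl
    have hf₀ : LocallyOfFinitePresentation f₀ :=
      Groth.Agent.Lib.Helper13.LimDescent.locallyOfFinitePresentation_of_comp f₀ g₀
        inferInstance inferInstance
    haveI : ∀ (i j : Over i₀) (a : i ⟶ j), IsAffineHom ((bcDiagram D i₀ g₀).map a) :=
      fun _ _ a => inferInstance
    haveI : LocallyOfFinitePresentation (relF₀ D i₀ f₀ g₀) := by
      unfold relF₀; infer_instance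
    obtain ⟨k, hk⟩ := exists_stage_isFlatOverAt (bcDiagram D i₀ g₀) (relCone D c i₀ g₀ g qY hY)
      (relTop i₀) (isLimitRelCone D c i₀ g₀ g qY hY hc) (relF₀ D i₀ f₀ g₀) F₀ hF₀ f qX
      (isPullback_rel D c i₀ f₀ g₀ f g qY qX hY hX) x hfl
    obtain ⟨vX, hvX1, hvX2⟩ := exists_relLift D c i₀ f₀ g₀ f g qY qX hY hX k
    refine ⟨k.left.left, k.left.hom, pullback f₀ (bcSnd D i₀ g₀ k.left),
      (bcDiagram D i₀ g₀).obj k.left, pullback.snd _ _, bcFst D i₀ g₀ k.left,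
      bcSnd D i₀ g₀ k.left, pullback.fst _ _, relπ D c i₀ g₀ g qY hY k.left, vX,
      (isPullback_bcObj D i₀ g₀ k.left).flip, IsPullback.of_hasPullback _ _,
      relπ_snd D c i₀ g₀ g qY hY k.left, relπ_fst D c i₀ g₀ g qY hY k.left, hvX1, hvX2, ?_⟩
    exact hk k (𝟙 k) (pullback.snd _ _) (pullback.fst _ _) vX
      (isPullback_rel_stage D i₀ f₀ g₀ k) hvX1 hvX2
  · rintro ⟨i, φ, Xi, Yi, fi, gi, pY, pX, vY, vX, hpY, hpX, h1, h2, h3, h4, hfl⟩
    have hsq : IsPullback vX f fi vY :=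
      IsPullback.of_right (by rw [h3, h1]; exact hX) h4 hpX
    haveI : ((Scheme.Modules.pullback pX).obj F₀).IsQuasicoherent :=
      Groth.Agent.Lib.Helper16.FlatPull.isQuasicoherent_pullback pX F₀
    have h5 := Groth.Agent.Lib.Helper16.FlatPull.isFlatOverAt_baseChange fi f vX vY hsq
      ((Scheme.Modules.pullback pX).obj F₀) x hfl
    exact Groth.Agent.Lib.Helper23.FibreFlatCons.isFlatOverAt_of_iso f
      (Groth.Agent.Lib.Helper18.TransSec.compIso vX pX qX h3 F₀) x h5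

end Groth.Agent.S4900
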