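import Mathlib
import Groth.Statements.S4901
import Groth.Agent.Lib.Helper23.InjFlatStage
import Groth.Agent.Lib.Helper13.LimDescent2

set_option autoImplicit false
universe u
open CategoryTheory AlgebraicGeometry
open EGA43

namespace Groth.Agent.S4901

open CategoryTheory.Limits in
/-- Let S be the limit of a cofiltered system (S_i) of schemes with affine transition morphisms, i₀ an
index, f₀ : X₀ ⟶ Y₀ a morphism locally of finite presentation of S_{i₀}-schemes, F₀ and G₀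
quasi-coherent O_{X₀}-modules of finite presentation and h₀ : F₀ ⟶ G₀ a homomorphism; let f : X ⟶ Y
and h = q^*h₀ be the base changes to S and x a point of X. Then the stalk map h_x is injective and
Coker h is f-flat at x if and only if there are an index i over i₀ and base changes f_i : X_i ⟶ Y_i,
h_i = p^*h₀ to S_i (pullback squares with the compatible morphisms X ⟶ X_i, Y ⟶ Y_i) such that
(h_i)_{x_i} is injective and Coker h_i is f_i-flat at the image x_i of x. -/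
theorem result {I : Type u} [SmallCategory I] [IsCofiltered I]
    (D : I ⥤ Scheme.{u}) (c : Limits.Cone D) (hc : Limits.IsLimit c)
    [∀ (i j : I) (φ : i ⟶ j), IsAffineHom (D.map φ)] (i₀ : I)
    {X₀ Y₀ : Scheme.{u}} (f₀ : X₀ ⟶ Y₀) (g₀ : Y₀ ⟶ D.obj i₀) [LocallyOfFinitePresentation f₀]
    (F₀ G₀ : X₀.Modules) [Coh.IsQCoh F₀] [Coh.IsQCoh G₀] (hF₀ : CohB1.IsFP F₀) (hG₀ : CohB1.IsFP G₀)
    (h₀ : F₀ ⟶ G₀)
    {X Y : Scheme.{u}} (f : X ⟶ Y) (g : Y ⟶ c.pt) (qY : Y ⟶ Y₀) (qX : X ⟶ X₀)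
    (hY : IsPullback qY g g₀ (c.π.app i₀)) (hX : IsPullback qX f f₀ qY) (x : X) :
    (Function.Injective ((TopCat.Presheaf.stalkFunctor Ab x).map
        (Scheme.Modules.Hom.mapPresheaf ((Scheme.Modules.pullback qX).map h₀))) ∧
      FlatMod.IsFlatOverAt f (cokernel ((Scheme.Modules.pullback qX).map h₀)) x) ↔
      ∃ (i : I) (φ : i ⟶ i₀) (Xi Yi : Scheme.{u}) (fi : Xi ⟶ Yi) (gi : Yi ⟶ D.obj i)
        (pY : Yi ⟶ Y₀) (pX : Xi ⟶ X₀) (vY : Y ⟶ Yi) (vX : X ⟶ Xi),
        IsPullback pY gi g₀ (D.map φ) ∧ IsPullback pX fi f₀ pY ∧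
          vY ≫ pY = qY ∧ vY ≫ gi = g ≫ c.π.app i ∧ vX ≫ pX = qX ∧ vX ≫ fi = f ≫ vY ∧
          Function.Injective ((TopCat.Presheaf.stalkFunctor Ab (vX x)).map
            (Scheme.Modules.Hom.mapPresheaf ((Scheme.Modules.pullback pX).map h₀))) ∧
          FlatMod.IsFlatOverAt fi (cokernel ((Scheme.Modules.pullback pX).map h₀)) (vX x) := by
  open Groth.Agent.Lib.Helper23 Groth.Agent.Lib.Helper23.FlatStage
    Groth.Agent.Lib.Helper23.InjFlat Limits in
  haveI hD : ∀ {i j : I} (φ : i ⟶ j), IsAffineHom (D.map φ) := fun φ => inferInstance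
  constructor
  · intro hx
    haveI : ∀ (i j : Over i₀) (a : i ⟶ j), IsAffineHom ((bcDiagram D i₀ g₀).map a) :=
      fun _ _ a => inferInstance
    haveI : LocallyOfFinitePresentation (relF₀ D i₀ f₀ g₀) := by
      unfold relF₀; infer_instance
    have H' := isPullback_rel D c i₀ f₀ g₀ f g qY qX hY hX
    obtain ⟨K, hK⟩ := exists_stage_injFlatAt (bcDiagram D i₀ g₀) (relCone D c i₀ g₀ g qY hY)
      (relTop i₀) (isLimitRelCone D c i₀ g₀ g qY hY hc) (relF₀ D i₀ f₀ g₀) F₀ G₀ hF₀ hG₀ h₀ f qX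
      H' x hx
    refine ⟨K.left.left, K.left.hom, (bcDiagram (bcDiagram D i₀ g₀) (relTop i₀)
        (relF₀ D i₀ f₀ g₀)).obj K,
      (bcDiagram D i₀ g₀).obj K.left, bcFst (bcDiagram D i₀ g₀) (relTop i₀) (relF₀ D i₀ f₀ g₀) K,
      bcFst D i₀ g₀ K.left, bcSnd D i₀ g₀ K.left,
      bcSnd (bcDiagram D i₀ g₀) (relTop i₀) (relF₀ D i₀ f₀ g₀) K,
      relπ D c i₀ g₀ g qY hY K.left,
      relπ (bcDiagram D i₀ g₀) (relCone D c i₀ g₀ g qY hY) (relTop i₀) (relF₀ D i₀ f₀ g₀) f qX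
        H' K,
      (isPullback_bcObj D i₀ g₀ K.left).flip, ?_,
      relπ_snd D c i₀ g₀ g qY hY K.left, relπ_fst D c i₀ g₀ g qY hY K.left,
      relπ_snd _ _ _ _ _ _ H' K, relπ_fst _ _ _ _ _ _ H' K, hK.1, hK.2⟩
    have h1 := (isPullback_bcObj (bcDiagram D i₀ g₀) (relTop i₀) (relF₀ D i₀ f₀ g₀) K).flip
    refine h1.of_iso (Iso.refl _) (Iso.refl _) (Iso.refl _) (asIso (relσ D i₀ g₀)) ?_ ?_ ?_ ?_
    · simp
    · simp
    · simp [relF₀_σ]
    · rw [Iso.refl_hom, Category.id_comp, asIso_hom]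
      exact map_relσ D i₀ g₀ K
  · rintro ⟨i, φ, Xi, Yi, fi, gi, pY, pX, vY, vX, hpY, hpX, h1, h2, h3, h4, hinj, hfl⟩
    have hsq : IsPullback vX f fi vY :=
      IsPullback.of_right (by rw [h3, h1]; exact hX) h4 hpX
    haveI : LocallyOfFinitePresentation fi := MorphismProperty.of_isPullback hpX inferInstance
    haveI : ((Scheme.Modules.pullback pX).obj F₀).IsQuasicoherent :=
      Groth.Agent.Lib.Helper16.FlatPull.isQuasicoherent_pullback pX F₀
    haveI : ((Scheme.Modules.pullback pX).obj G₀).IsQuasicoherent :=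
      Groth.Agent.Lib.Helper16.FlatPull.isQuasicoherent_pullback pX G₀
    have hFfp := Groth.Agent.Lib.Helper49.PrinPartFP.isFinitePresentation_pullback pX F₀ hF₀
    have hGfp := Groth.Agent.Lib.Helper49.PrinPartFP.isFinitePresentation_pullback pX G₀ hG₀
    have h5 : InjFlatAt f ((Scheme.Modules.pullback vX).map ((Scheme.Modules.pullback pX).map h₀))
        x :=
      InjFlatAt.baseChange fi f vX vY hsq _ _ hFfp hGfp ((Scheme.Modules.pullback pX).map h₀) x
        ⟨hinj, hfl⟩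
    exact (InjFlatAt.comp_iff f vX pX qX h3 h₀ x).mp h5

end Groth.Agent.S4901
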