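import Mathlib
import Groth.Statements.S4902
import Groth.Agent.S4857
import Groth.Agent.Lib.Helper23.PrimaryFlatAdic
import Groth.Agent.Lib.Helper23.AdicKer

set_option autoImplicit false
universe u
open CategoryTheory AlgebraicGeometry
open EGA43

namespace Groth.Agent.S4902

open CategoryTheory.Limits in
/-- Let Y be a locally Noetherian scheme, f : X ⟶ Y locally of finite type, F a coherent O_X-module and
x a point of X with y = f x, such that k(x) is a primary extension of k(y) (every element of k(x)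
separable algebraic over k(y) lies in k(y)). Let (φ_i : O_{Y,y} → A_i) be a family of local
homomorphisms into local rings such that, for every N, some finite intersection of the ideals
φ_i⁻¹(m_{A_i}^n) is contained in m_y^N; let Y_i = Spec A_i ⟶ Y be the induced Y-schemes and X_i = X
×_Y Y_i. If for every i there is a point of X_i above x and above the closed point of Y_i at which
the pullback of F is flat over Y_i, then F is f-flat at x. -/
theorem result {X Y : Scheme.{u}} [IsLocallyNoetherian Y]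
    (f : X ⟶ Y) [LocallyOfFiniteType f] (F : X.Modules) (hF : Coh.IsCoh F) (x : X)
    (hprim : letI := (f.residueFieldMap x).hom.toAlgebra
      ∀ a : ↑(X.residueField x), IsSeparable ↑(Y.residueField (f x)) a → a ∈ (f.residueFieldMap x).hom.range)
    {ι : Type u} (A : ι → Type u) [∀ i, CommRing (A i)] [∀ i, IsLocalRing (A i)]
    (φ : ∀ i, (Y.presheaf.stalk (f x) : Type u) →+* A i) [∀ i, IsLocalHom (φ i)]
    (htop : ∀ N : ℕ, ∃ s : Finset (ι × ℕ),
      ⨅ p ∈ s, Ideal.comap (φ p.1) (IsLocalRing.maximalIdeal (A p.1) ^ p.2) ≤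
        IsLocalRing.maximalIdeal ↑(Y.presheaf.stalk (f x)) ^ N) :
    letI g : ∀ i, Spec (CommRingCat.of (A i)) ⟶ Y :=
      fun i => Spec.map (CommRingCat.ofHom (φ i)) ≫ Y.fromSpecStalk (f x)
    (∀ i : ι, ∃ x' : ↥(pullback f (g i)), pullback.fst f (g i) x' = x ∧
      pullback.snd f (g i) x' = IsLocalRing.closedPoint (A i) ∧
      FlatMod.IsFlatOverAt (pullback.snd f (g i)) ((Scheme.Modules.pullback (pullback.fst f (g i))).obj F) x') →
    FlatMod.IsFlatOverAt f F x := by
  intro hyp
  beta_reduce at hyp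
  classical
  haveI hloc : IsLocalRing (Y.presheaf.stalk (f x) : Type u) := inferInstance
  haveI hnoe : IsNoetherianRing (Y.presheaf.stalk (f x) : Type u) := inferInstance
  choose x' hx'1 hx'2 hx'fl using hyp
  have key := fun (p : ι × ℕ) =>
    Groth.Agent.Lib.Helper23.PrimaryFlatAdic.exists_local_of_flat_point_adic f F hF x hprim
      (φ p.1) p.2 (x' p.1) (hx'1 p.1) (hx'2 p.1) (hx'fl p.1)
  choose S' iCR iLR iNoeth ψ hψloc hpow hker hall using key
  have hm := fun p : ι × ℕ =>
    @Groth.Agent.Lib.Helper23.AdicKer.exists_comap_pow_le_ker _ (S' p) _ hloc hnoe (iCR p) (iLR p)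
      (iNoeth p) (ψ p) ⟨p.2 + 1, hpow p⟩
  choose m hm using hm
  letI := iCR
  letI := iLR
  let T : (ι × ℕ) × ℕ → Ideal (Y.presheaf.stalk (f x) : Type u) := fun p =>
    Ideal.comap (ψ p.1) (IsLocalRing.maximalIdeal (S' p.1) ^ p.2)
  have hT : ∀ q : ι × ℕ, q.2 ≠ 0 → T ((q.1, q.2 - 1), m (q.1, q.2 - 1)) ≤
      Ideal.comap (φ q.1) (IsLocalRing.maximalIdeal (A q.1) ^ q.2) := by
    intro q h0
    have h3 := (hm (q.1, q.2 - 1)).trans (hker (q.1, q.2 - 1))
    have h4 : q.2 - 1 + 1 = q.2 := Nat.sub_add_cancel (Nat.pos_of_ne_zero h0)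
    simp only [h4] at h3
    exact h3
  have htop' : ∀ N : ℕ, ∃ s : Finset ((ι × ℕ) × ℕ),
      ⨅ p ∈ s, T p ≤ IsLocalRing.maximalIdeal ↑(Y.presheaf.stalk (f x)) ^ N := by
    intro N
    obtain ⟨s, hs⟩ := htop N
    refine ⟨s.image (fun q : ι × ℕ => ((q.1, q.2 - 1), m (q.1, q.2 - 1))), ?_⟩
    refine le_trans (le_iInf₂ fun q hq => ?_) hs
    by_cases h0 : q.2 = 0
    · rw [h0, pow_zero, Ideal.one_eq_top, Ideal.comap_top]
      exact le_top
    · have hmem : ((q.1, q.2 - 1), m (q.1, q.2 - 1)) ∈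
          s.image (fun q : ι × ℕ => ((q.1, q.2 - 1), m (q.1, q.2 - 1))) :=
        Finset.mem_image_of_mem _ hq
      have h5 : (⨅ p ∈ s.image (fun q : ι × ℕ => ((q.1, q.2 - 1), m (q.1, q.2 - 1))), T p) ≤
          T ((q.1, q.2 - 1), m (q.1, q.2 - 1)) :=
        biInf_le T hmem
      exact h5.trans (hT q h0)
  exact @Groth.Agent.S4857.result X Y _ f _ F hF x (ι × ℕ) S' iCR iLR ψ hψloc htop' hall

end Groth.Agent.S4902
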