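import Groth.Statements.S4903
import Groth.Agent.Lib.Helper24.QuasiHomeo
import Mathlib.Tactic.TFAE

set_option autoImplicit false
universe u
open EGA43

namespace Groth.Agent.S4903

open Groth.Agent.Lib.Helper24

theorem eq_of_preimage_val_eq {X : Type u} [TopologicalSpace X] {X₀ : Set X}
    (h : IsVeryDense X₀) {Z₁ Z₂ : Set X} (h₁ : IsLQC Z₁) (h₂ : IsLQC Z₂)
    (he : (Subtype.val ⁻¹' Z₁ : Set ↥X₀) = Subtype.val ⁻¹' Z₂) : Z₁ = Z₂ := by
  refine h.eq_of_inter_eq h₁ h₂ ?_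
  ext w
  constructor
  · rintro ⟨hw1, hw0⟩
    have : (⟨w, hw0⟩ : ↥X₀) ∈ (Subtype.val ⁻¹' Z₁ : Set ↥X₀) := hw1
    rw [he] at this
    exact ⟨this, hw0⟩
  · rintro ⟨hw1, hw0⟩
    have : (⟨w, hw0⟩ : ↥X₀) ∈ (Subtype.val ⁻¹' Z₂ : Set ↥X₀) := hw1
    rw [← he] at this
    exact ⟨this, hw0⟩

/-- last assertion: locally quasi-constructible subsets of a very dense subspace extend. -/
theorem exists_extension {X : Type u} [TopologicalSpace X] {X₀ : Set X}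
    (hvd : IsVeryDense X₀) (Z₀ : Set ↥X₀) (hZ₀ : IsLQC Z₀) :
    ∃ Z : Set X, IsLQC Z ∧ Subtype.val ⁻¹' Z = Z₀ := by
  choose U₀ hU₀o hxU₀ hU₀q using hZ₀
  have h1 : ∀ x : ↥X₀, ∃ U : Set X, IsOpen U ∧ Subtype.val ⁻¹' U = U₀ x :=
    fun x => isOpen_induced_iff.mp (hU₀o x)
  choose U hUo hU using h1
  have h2 : ∀ x : ↥X₀, ∃ Q : Set X, IsQC Q ∧ Subtype.val ⁻¹' Q = U₀ x ∩ Z₀ :=
    fun x => (hU₀q x).exists_of_subtype
  choose Q hQq hQ using h2
  obtain ⟨Zx, hZx⟩ : ∃ Zx : ↥X₀ → Set X, ∀ x, Zx x = Q x ∩ U x := ⟨_, fun _ => rfl⟩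
  have hZxq : ∀ x, IsQC (Zx x) := fun x => by
    rw [hZx]; exact (hQq x).inter_isLocallyClosed (hUo x).isLocallyClosed
  have hZxU : ∀ x, Zx x ⊆ U x := fun x => by rw [hZx]; exact Set.inter_subset_right
  have hZxtr : ∀ x, (Subtype.val ⁻¹' (Zx x) : Set ↥X₀) = U₀ x ∩ Z₀ := by
    intro x
    simp only [hZx, Set.preimage_inter, hQ, hU]
    ext w; simp only [Set.mem_inter_iff]; tauto
  -- compatibility
  have hcompat : ∀ x x', U x ∩ Zx x' = U x' ∩ Zx x := by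
    intro x x'
    refine eq_of_preimage_val_eq hvd ((hZxq x').isLocallyClosed_inter (hUo x).isLocallyClosed).isLQC
      ((hZxq x).isLocallyClosed_inter (hUo x').isLocallyClosed).isLQC ?_
    rw [Set.preimage_inter, Set.preimage_inter, hZxtr, hZxtr, hU, hU]
    ext w; simp only [Set.mem_inter_iff]; tauto
  have hcover : ⋃ x, U x = Set.univ := by
    refine eq_of_preimage_val_eq hvd (isOpen_iUnion hUo).isLocallyClosed.isLQC_helper24
      isOpen_univ.isLocallyClosed.isLQC_helper24 ?_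
    rw [Set.preimage_iUnion, Set.preimage_univ]
    ext w
    simp only [Set.mem_iUnion, Set.mem_univ, iff_true]
    exact ⟨w, by rw [hU]; exact hxU₀ w⟩
  refine ⟨⋃ x, Zx x, ?_, ?_⟩
  · intro y
    have hy : y ∈ ⋃ x, U x := by rw [hcover]; trivial
    obtain ⟨x, hyx⟩ := Set.mem_iUnion.mp hy
    refine ⟨U x, hUo x, hyx, ?_⟩
    have e : U x ∩ ⋃ x', Zx x' = Zx x := by
      ext w
      constructor
      · rintro ⟨hwU, hwZ⟩
        obtain ⟨x', hwx'⟩ := Set.mem_iUnion.mp hwZ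
        have : w ∈ U x ∩ Zx x' := ⟨hwU, hwx'⟩
        rw [hcompat] at this
        exact this.2
      · intro hw
        exact ⟨hZxU x hw, Set.mem_iUnion.mpr ⟨x, hw⟩⟩
    rw [e]
    exact hZxq x
  · rw [Set.preimage_iUnion]
    simp_rw [hZxtr]
    ext w
    simp only [Set.mem_iUnion, Set.mem_inter_iff]
    constructor
    · rintro ⟨x, -, hw⟩; exact hw
    · intro hw; exact ⟨w, hxU₀ w, hw⟩

/-- Conditions a), b), b′), c″), c‴) and its last assertion: given a topological space X and a subset X₀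
⊆ X, the statements below are equivalent. Every locally closed subset of X that is nonempty
intersects X₀. Every nonempty locally quasi-constructible subset of X intersects X₀; here a subset
is locally quasi-constructible when each point of X has an open neighbourhood on which the subset's
trace can be written as a union of finitely many locally closed sets. Each locally
quasi-constructible Z ⊆ X is contained in the closure of Z ∩ X₀. Any two quasi-constructible subsets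
of X (unions of finitely many locally closed sets) having equal traces on X₀ coincide. Any two
locally quasi-constructible subsets of X having equal traces on X₀ coincide. Assuming these
conditions, each locally quasi-constructible subset of the subspace X₀ arises as the trace on X₀ of
some locally quasi-constructible subset of X. -/
theorem result {X : Type u} [TopologicalSpace X] (X₀ : Set X) :
    [∀ Z : Set X, IsLocallyClosed Z → Z.Nonempty → (Z ∩ X₀).Nonempty,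
      ∀ Z : Set X, (∀ x : X, ∃ U : Set X, IsOpen U ∧ x ∈ U ∧ ∃ T : Set (Set X), T.Finite ∧ (∀ t ∈ T, IsLocallyClosed t) ∧ U ∩ Z = ⋃₀ T) → Z.Nonempty → (Z ∩ X₀).Nonempty,
      ∀ Z : Set X, (∀ x : X, ∃ U : Set X, IsOpen U ∧ x ∈ U ∧ ∃ T : Set (Set X), T.Finite ∧ (∀ t ∈ T, IsLocallyClosed t) ∧ U ∩ Z = ⋃₀ T) → Z ⊆ closure (Z ∩ X₀),
      ∀ Z Z' : Set X, (∃ T : Set (Set X), T.Finite ∧ (∀ t ∈ T, IsLocallyClosed t) ∧ Z = ⋃₀ T) → (∃ T : Set (Set X), T.Finite ∧ (∀ t ∈ T, IsLocallyClosed t) ∧ Z' = ⋃₀ T) → Z ∩ X₀ = Z' ∩ X₀ → Z = Z',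
      ∀ Z Z' : Set X, (∀ x : X, ∃ U : Set X, IsOpen U ∧ x ∈ U ∧ ∃ T : Set (Set X), T.Finite ∧ (∀ t ∈ T, IsLocallyClosed t) ∧ U ∩ Z = ⋃₀ T) → (∀ x : X, ∃ U : Set X, IsOpen U ∧ x ∈ U ∧ ∃ T : Set (Set X), T.Finite ∧ (∀ t ∈ T, IsLocallyClosed t) ∧ U ∩ Z' = ⋃₀ T) → Z ∩ X₀ = Z' ∩ X₀ → Z = Z'].TFAE ∧
    ((∀ Z : Set X, IsLocallyClosed Z → Z.Nonempty → (Z ∩ X₀).Nonempty) →
      ∀ Z₀ : Set ↥X₀, (∀ x : ↥X₀, ∃ U : Set ↥X₀, IsOpen U ∧ x ∈ U ∧ ∃ T : Set (Set ↥X₀), T.Finite ∧ (∀ t ∈ T, IsLocallyClosed t) ∧ U ∩ Z₀ = ⋃₀ T) →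
        ∃ Z : Set X, (∀ x : X, ∃ U : Set X, IsOpen U ∧ x ∈ U ∧ ∃ T : Set (Set X), T.Finite ∧ (∀ t ∈ T, IsLocallyClosed t) ∧ U ∩ Z = ⋃₀ T) ∧ Subtype.val ⁻¹' Z = Z₀) := by
  have h12 : IsVeryDense X₀ → ∀ Z : Set X, IsLQC Z → Z.Nonempty → (Z ∩ X₀).Nonempty :=
    fun h Z hZ hne => h.nonempty_inter_of_isLQC hZ hne
  have h23 : (∀ Z : Set X, IsLQC Z → Z.Nonempty → (Z ∩ X₀).Nonempty) →
      ∀ Z : Set X, IsLQC Z → Z ⊆ closure (Z ∩ X₀) := by
    intro h Z hZ y hy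
    rw [mem_closure_iff]
    intro O hO hyO
    obtain ⟨w, ⟨hwO, hwZ⟩, hw0⟩ := h (O ∩ Z) (hZ.isLocallyClosed_inter hO.isLocallyClosed)
      ⟨y, hyO, hy⟩
    exact ⟨w, hwO, hwZ, hw0⟩
  have h31 : (∀ Z : Set X, IsLQC Z → Z ⊆ closure (Z ∩ X₀)) → IsVeryDense X₀ := by
    intro h Z hZ hne
    by_contra hcon
    rw [Set.not_nonempty_iff_eq_empty] at hcon
    have := h Z hZ.isLQC_helper24
    rw [hcon, closure_empty] at this
    obtain ⟨y, hy⟩ := hne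
    exact this hy
  have h15 : IsVeryDense X₀ → ∀ Z Z' : Set X, IsLQC Z → IsLQC Z' → Z ∩ X₀ = Z' ∩ X₀ → Z = Z' :=
    fun h Z Z' hZ hZ' e => h.eq_of_inter_eq hZ hZ' e
  have h54 : (∀ Z Z' : Set X, IsLQC Z → IsLQC Z' → Z ∩ X₀ = Z' ∩ X₀ → Z = Z') →
      ∀ Z Z' : Set X, IsQC Z → IsQC Z' → Z ∩ X₀ = Z' ∩ X₀ → Z = Z' :=
    fun h Z Z' hZ hZ' e => h Z Z' hZ.isLQC hZ'.isLQC e
  have h41 : (∀ Z Z' : Set X, IsQC Z → IsQC Z' → Z ∩ X₀ = Z' ∩ X₀ → Z = Z') → IsVeryDense X₀ := by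
    intro h Z hZ hne
    by_contra hcon
    rw [Set.not_nonempty_iff_eq_empty] at hcon
    have := h Z ∅ (IsQC.of_isLocallyClosed hZ) IsQC.empty (by rw [hcon, Set.empty_inter])
    rw [this] at hne
    exact Set.not_nonempty_empty hne
  refine ⟨?_, fun h Z₀ hZ₀ => exists_extension h Z₀ hZ₀⟩
  tfae_have 1 → 2 := h12
  tfae_have 2 → 3 := h23
  tfae_have 3 → 1 := h31
  tfae_have 1 → 5 := h15
  tfae_have 5 → 4 := h54
  tfae_have 4 → 1 := h41
  tfae_finish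

end Groth.Agent.S4903
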