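import Groth.Statements.S4905
import Groth.Agent.S4873
import Groth.Agent.S4877

set_option autoImplicit false
universe u
open CategoryTheory AlgebraicGeometry
open EGA43

namespace Groth.Agent.S4905

open CategoryTheory.Limits TopologicalSpace

-- The closed subscheme defined by a radical ideal sheaf is reduced (as in Helper50.RedBC).
theorem isReduced_subscheme_radical' {X : Scheme.{u}} (I : X.IdealSheafData) :
    IsReduced I.radical.subscheme := by
  have : ∀ U, IsReduced (I.radical.subschemeCover.openCover.X U) := by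
    intro U
    have : _root_.IsReduced (Γ(X, U.1) ⧸ I.radical.ideal U) := by
      rw [← Ideal.isRadical_iff_quotient_reduced]
      simp only [Scheme.IdealSheafData.radical_ideal]
      exact Ideal.radical_isRadical _
    show IsReduced (Spec (.of (Γ(X, U.1) ⧸ I.radical.ideal U)))
    infer_instance
  exact IsReduced.of_openCover _ I.radical.subschemeCover.openCover

-- An ideal sheaf whose closed subscheme is reduced is radical (as in Helper50.ClosedDefinedOver).
theorem radical_eq_of_isReduced_subscheme {X : Scheme.{u}} (I : X.IdealSheafData)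
    [IsReduced I.subscheme] : I.radical = I := by
  apply le_antisymm _ (Scheme.IdealSheafData.le_radical I)
  conv_rhs => rw [← Scheme.IdealSheafData.ker_subschemeι I]
  rw [Scheme.Hom.ker, Scheme.IdealSheafData.le_ofIdeals_iff]
  intro U s hs
  have hs' : s ∈ (I.ideal U).radical := by
    simpa [Scheme.IdealSheafData.radical_ideal] using hs
  obtain ⟨n, hn⟩ := hs'
  rw [RingHom.mem_ker]
  have h0 : (I.subschemeι.app U.1).hom (s ^ n) = 0 := by
    rw [← RingHom.mem_ker, Scheme.IdealSheafData.ker_subschemeι_app]
    exact hn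
  have h1 : IsNilpotent ((I.subschemeι.app U.1).hom s) := ⟨n, by rw [← map_pow, h0]⟩
  exact h1.eq_zero

theorem support_vanishingIdeal' {X : Scheme.{u}} (Z : Closeds X) :
    (Scheme.IdealSheafData.vanishingIdeal Z).support = Z :=
  Closeds.ext (Scheme.IdealSheafData.coe_support_vanishingIdeal Z)

theorem isReduced_subscheme_vanishingIdeal {X : Scheme.{u}} (Z : Closeds X) :
    IsReduced (Scheme.IdealSheafData.vanishingIdeal Z).subscheme := by
  have h : (Scheme.IdealSheafData.vanishingIdeal Z).radical =
      Scheme.IdealSheafData.vanishingIdeal Z := by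
    rw [← Scheme.IdealSheafData.vanishingIdeal_support, support_vanishingIdeal']
  rw [← h]
  exact isReduced_subscheme_radical' _

-- a schematically dominant family with reduced sources has a reduced target
theorem isReduced_of_schDominant {X : Scheme.{u}} {ι : Type u} (Z : ι → Scheme.{u})
    (f : ∀ i, Z i ⟶ X) [∀ i, IsReduced (Z i)]
    (h : ∀ (V : X.Opens) (t : Γ(X, V)), (∀ i, (f i).app V t = 0) → t = 0) : IsReduced X := by
  refine ⟨fun U => ⟨fun s hs => h U s (fun i => ?_)⟩⟩
  exact (hs.map ((f i).app U).hom).eq_zero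

-- a morphism from a reduced scheme factors through the reduced structure on any closed set
-- containing its image
theorem vanishingIdeal_le_ker {Z X : Scheme.{u}} [IsReduced Z] (f : Z ⟶ X) (T : Closeds X)
    (hT : Set.range f ⊆ (T : Set X)) : Scheme.IdealSheafData.vanishingIdeal T ≤ f.ker := by
  rw [Scheme.Hom.ker, Scheme.IdealSheafData.le_ofIdeals_iff]
  intro U s hs
  rw [RingHom.mem_ker]
  rw [Scheme.IdealSheafData.vanishingIdeal_ideal] at hs
  rw [← AlgebraicGeometry.basicOpen_eq_bot_iff, ← Scheme.preimage_basicOpen]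
  ext z
  simp only [Opens.coe_bot, Set.mem_empty_iff_false, iff_false]
  intro hz
  have hzb : f z ∈ X.basicOpen s := hz
  have hzU : f z ∈ U.1 := X.basicOpen_le s hzb
  have hzT : f z ∈ (T : Set X) := hT ⟨z, rfl⟩
  have h1 : U.2.fromSpec (U.2.primeIdealOf ⟨f z, hzU⟩) = f z := U.2.fromSpec_primeIdealOf ⟨f z, hzU⟩
  have h2 : U.2.primeIdealOf ⟨f z, hzU⟩ ∈ U.2.fromSpec ⁻¹' (T : Set X) := by
    change U.2.fromSpec (U.2.primeIdealOf ⟨f z, hzU⟩) ∈ (T : Set X)
    rw [h1]; exact hzT
  have h3 : s ∈ (U.2.primeIdealOf ⟨f z, hzU⟩).asIdeal :=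
    (PrimeSpectrum.mem_vanishingIdeal _ _).mp hs _ h2
  have h4 : U.2.primeIdealOf ⟨f z, hzU⟩ ∈ U.2.fromSpec ⁻¹ᵁ X.basicOpen s := by
    change U.2.fromSpec (U.2.primeIdealOf ⟨f z, hzU⟩) ∈ X.basicOpen s
    rw [h1]; exact hzb
  rw [U.2.fromSpec_preimage_basicOpen] at h4
  exact h4 h3

open CategoryTheory.Limits in
/-- Let k be a field, X a k-scheme, (f_i : Z_i ⟶ X) a family of k-morphisms with every Z_i geometrically
reduced over k, and Y the reduced closed subscheme of X whose underlying space is the closure of ⋃
f_i(Z_i), i.e. the closed subscheme defined by the vanishing ideal sheaf of that closed set. Let k'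
be a field extension of k, X' = X ⊗_k k' and f'_i : Z_i ⊗_k k' ⟶ X' the base changes. Then the
reduced closed subscheme of X' on the closure of ⋃ f'_i(Z_i ⊗_k k') is Y ⊗_k k': the vanishing ideal
sheaf of that closure equals the pullback (comap) along X' ⟶ X of the vanishing ideal sheaf defining
Y. (The published statement also concludes that Y is geometrically reduced over k; this row states
only the equality of Y' with Y ⊗_k k'.) -/
theorem result {k : Type u} [Field k] {X : Scheme.{u}}
    (p : X ⟶ Spec (CommRingCat.of k)) {ι : Type u} (Z : ι → Scheme.{u}) (f : ∀ i, Z i ⟶ X)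
    (hred : ∀ (i : ι) (z : Z i), FBase.IsGeomReducedAt (f i ≫ p) z)
    (k' : Type u) [Field k'] [Algebra k k'] :
    letI q : Spec (CommRingCat.of k') ⟶ Spec (CommRingCat.of k) := Spec.map (CommRingCat.ofHom (algebraMap k k'))
    letI f' : ∀ i, pullback (f i ≫ p) q ⟶ pullback p q :=
      fun i => pullback.map (f i ≫ p) q p q (f i) (𝟙 _) (𝟙 _) (Category.comp_id _) ((Category.comp_id _).trans (Category.id_comp _).symm)
    Scheme.IdealSheafData.vanishingIdeal (TopologicalSpace.Closeds.closure (⋃ i, Set.range (f' i))) =
      (Scheme.IdealSheafData.vanishingIdeal (TopologicalSpace.Closeds.closure (⋃ i, Set.range (f i)))).comap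
        (pullback.fst p q) := by
  set q : Spec (CommRingCat.of k') ⟶ Spec (CommRingCat.of k) :=
    Spec.map (CommRingCat.ofHom (algebraMap k k')) with hq
  let f' : ∀ i, pullback (f i ≫ p) q ⟶ pullback p q := fun i =>
    pullback.map (f i ≫ p) q p q (f i) (𝟙 _) (𝟙 _) (Category.comp_id _)
      ((Category.comp_id _).trans (Category.id_comp _).symm)
  change Scheme.IdealSheafData.vanishingIdeal (Closeds.closure (⋃ i, Set.range (f' i))) = _
  set T : Closeds X := Closeds.closure (⋃ i, Set.range (f i)) with hTdef
  set J := Scheme.IdealSheafData.vanishingIdeal T with hJdef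
  set π := pullback.fst p q with hπ
  -- the `Z i` and their base changes are reduced
  haveI hZ'red : ∀ i, IsReduced (pullback (f i ≫ p) q) := by
    intro i
    apply +allowSynthFailures isReduced_of_isReduced_stalk
    intro x'
    exact hred i (pullback.fst (f i ≫ p) q x') k' x' rfl
  haveI hZred : ∀ i, IsReduced (Z i) := by
    intro i
    haveI : IsReduced (pullback (f i ≫ p) (Spec.map (CommRingCat.ofHom (algebraMap k k)))) := by
      apply +allowSynthFailures isReduced_of_isReduced_stalk
      intro x'
      exact hred i (pullback.fst (f i ≫ p) _ x') k x' rfl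
    haveI : IsIso (Spec.map (CommRingCat.ofHom (algebraMap k k))) := by
      have : CommRingCat.ofHom (algebraMap k k) = 𝟙 (CommRingCat.of k) := rfl
      rw [this]
      infer_instance
    exact isReduced_of_isOpenImmersion
      (inv (pullback.fst (f i ≫ p) (Spec.map (CommRingCat.ofHom (algebraMap k k)))))
  -- factor through the reduced closed subscheme `Y`
  have hle : ∀ i, J ≤ (f i).ker := fun i =>
    vanishingIdeal_le_ker (f i) T
      ((Set.subset_iUnion (fun i => Set.range (f i)) i).trans subset_closure)
  obtain ⟨g, hg⟩ : ∃ g : ∀ i, Z i ⟶ J.subscheme, ∀ i, g i ≫ J.subschemeι = f i := by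
    refine ⟨fun i => (f i).toImage ≫ Scheme.IdealSheafData.inclusion (hle i), fun i => ?_⟩
    simp only [Category.assoc, Scheme.IdealSheafData.inclusion_subschemeι]
    exact (f i).toImage_imageι
  haveI hYred : IsReduced J.subscheme := isReduced_subscheme_vanishingIdeal T
  have hrange : Set.range J.subschemeι = (T : Set X) := by
    rw [Scheme.IdealSheafData.range_subschemeι, support_vanishingIdeal']
  have hdense : Dense (⋃ i, Set.range (g i)) := by
    intro y
    rw [J.subschemeι.isEmbedding.closure_eq_preimage_closure_image]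
    change J.subschemeι y ∈ closure (J.subschemeι '' (⋃ i, Set.range (g i)))
    have himg : J.subschemeι '' (⋃ i, Set.range (g i)) = ⋃ i, Set.range (f i) := by
      rw [Set.image_iUnion]
      refine Set.iUnion_congr fun i => ?_
      rw [← Set.range_comp, ← hg i]
      rfl
    rw [himg]
    have : J.subschemeι y ∈ (T : Set X) := by rw [← hrange]; exact ⟨y, rfl⟩
    exact this
  have hdom := (Groth.Agent.S4873.result Z g).2 inferInstance hdense
  set pY := J.subschemeι ≫ p with hpY
  have hdom' := Groth.Agent.S4877.result pY q Z g hdom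
  let m : ∀ i, pullback (g i ≫ pY) q ⟶ pullback pY q := fun i =>
    pullback.map (g i ≫ pY) q pY q (g i) (𝟙 _) (𝟙 _) (Category.comp_id _)
      ((Category.comp_id _).trans (Category.id_comp _).symm)
  have hgp : ∀ i, g i ≫ pY = f i ≫ p := fun i => by rw [hpY, ← Category.assoc, hg i]
  let c : ∀ i, pullback (g i ≫ pY) q ≅ pullback (f i ≫ p) q := fun i =>
    pullback.congrHom (hgp i) rfl
  haveI : ∀ i, IsReduced (pullback (g i ≫ pY) q) := fun i =>
    isReduced_of_isOpenImmersion (c i).hom
  haveI hY''red : IsReduced (pullback pY q) := isReduced_of_schDominant _ m hdom'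
  have hdense'' : Dense (⋃ i, Set.range (m i)) := (Groth.Agent.S4873.result _ m).1 hdom'
  let r : pullback pY q ⟶ pullback p q :=
    pullback.map pY q p q J.subschemeι (𝟙 _) (𝟙 _) (by rw [Category.comp_id])
      (by rw [Category.comp_id, Category.id_comp])
  have hr1 : r ≫ pullback.fst p q = pullback.fst pY q ≫ J.subschemeι := pullback.lift_fst _ _ _
  have hr2 : r ≫ pullback.snd p q = pullback.snd pY q :=
    (pullback.lift_snd _ _ _).trans (Category.comp_id _)
  have hm1 : ∀ i, m i ≫ pullback.fst pY q = pullback.fst (g i ≫ pY) q ≫ g i :=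
    fun i => pullback.lift_fst _ _ _
  have hm2 : ∀ i, m i ≫ pullback.snd pY q = pullback.snd (g i ≫ pY) q :=
    fun i => (pullback.lift_snd _ _ _).trans (Category.comp_id _)
  have hf1 : ∀ i, f' i ≫ pullback.fst p q = pullback.fst (f i ≫ p) q ≫ f i :=
    fun i => pullback.lift_fst _ _ _
  have hf2 : ∀ i, f' i ≫ pullback.snd p q = pullback.snd (f i ≫ p) q :=
    fun i => (pullback.lift_snd _ _ _).trans (Category.comp_id _)
  have hc1 : ∀ i, (c i).hom ≫ pullback.fst (f i ≫ p) q = pullback.fst (g i ≫ pY) q := by
    intro i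
    simp only [c, pullback.congrHom_hom]
    exact (pullback.lift_fst _ _ _).trans (Category.comp_id _)
  have hc2 : ∀ i, (c i).hom ≫ pullback.snd (f i ≫ p) q = pullback.snd (g i ≫ pY) q := by
    intro i
    simp only [c, pullback.congrHom_hom]
    exact (pullback.lift_snd _ _ _).trans (Category.comp_id _)
  have hmr : ∀ i, m i ≫ r = (c i).hom ≫ f' i := by
    intro i
    apply pullback.hom_ext
    · rw [Category.assoc, hr1, reassoc_of% (hm1 i), hg i, Category.assoc, hf1 i,
        reassoc_of% (hc1 i)]
    · rw [Category.assoc, hr2, hm2 i, Category.assoc, hf2 i, hc2 i]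
  have hsq : IsPullback r (pullback.fst pY q) π J.subschemeι := by
    refine IsPullback.of_right ?_ hr1 (IsPullback.of_hasPullback p q).flip
    rw [hr2]
    exact (IsPullback.of_hasPullback pY q).flip
  haveI : IsReduced (pullback π J.subschemeι) :=
    isReduced_of_isOpenImmersion hsq.isoPullback.inv
  haveI : IsReduced (J.comap π).subscheme := isReduced_of_isOpenImmersion (J.comapIso π).hom
  have hrr : Set.range r = π ⁻¹' (T : Set X) := by
    have h1 : hsq.isoPullback.hom ≫ pullback.fst π J.subschemeι = r := hsq.isoPullback_hom_fst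
    have hsurj : Function.Surjective hsq.isoPullback.hom :=
      (ConcreteCategory.bijective_of_isIso hsq.isoPullback.hom.base).2
    rw [← h1, Scheme.Hom.comp_base, TopCat.coe_comp, Set.range_comp, hsurj.range_eq,
      Set.image_univ, Scheme.Pullback.range_fst, hrange]
  rw [← radical_eq_of_isReduced_subscheme (J.comap π),
    ← Scheme.IdealSheafData.vanishingIdeal_support]
  congr 1
  apply Closeds.ext
  rw [Scheme.IdealSheafData.support_comap, Closeds.coe_preimage, support_vanishingIdeal']
  change closure (⋃ i, Set.range (f' i)) = π ⁻¹' (T : Set X)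
  apply subset_antisymm
  · apply closure_minimal _ (T.isClosed.preimage π.continuous)
    apply Set.iUnion_subset
    rintro i _ ⟨w, rfl⟩
    change π (f' i w) ∈ (T : Set X)
    rw [← Scheme.Hom.comp_apply, hf1 i, Scheme.Hom.comp_apply]
    exact subset_closure (Set.mem_iUnion.mpr ⟨i, _, rfl⟩)
  · intro x' hx'
    rw [← hrr] at hx'
    obtain ⟨y'', rfl⟩ := hx'
    have h1 : r y'' ∈ closure (r '' (⋃ i, Set.range (m i))) :=
      image_closure_subset_closure_image r.continuous ⟨y'', hdense'' y'', rfl⟩
    refine closure_mono ?_ h1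
    rintro _ ⟨_, hw, rfl⟩
    obtain ⟨i, w, rfl⟩ := Set.mem_iUnion.mp hw
    refine Set.mem_iUnion.mpr ⟨i, (c i).hom w, ?_⟩
    rw [← Scheme.Hom.comp_apply, ← hmr i, Scheme.Hom.comp_apply]


end Groth.Agent.S4905
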