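import Groth.Statements.S4906
import Groth.Agent.Lib.Helper55.StalkPoints
import Groth.Agent.Lib.Helper12.QuasiFlat
import Groth.Agent.Lib.Helper85.RegularLocal
import Groth.Agent.S0605

set_option autoImplicit false
universe u
open CategoryTheory AlgebraicGeometry
open EGA43

namespace Groth.Agent.S4906

/-- Let X be a regular biequidimensional scheme — Noetherian, with regular local rings, of finite
dimension, with all irreducible components of dimension dim X and with dim T = dim cl{y} +
codim(cl{y}, T) for every closed irreducible T and point y of T — and F a coherent O_X-module. Then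
for every point x of the support of F one has prof(F_x) + dim cl{x} + proj.dim(F_x) = dim X, that
is, the rectified depth prof*_x(F) equals dim X − proj.dim_{O_{X,x}}(F_x). -/
theorem result (X : Scheme.{u}) [IsNoetherian X]
    (hreg : ∀ x : X, IsRegularLocalRing ↑(X.presheaf.stalk x))
    (hfin : topologicalKrullDim X < ⊤)
    (hcomp : ∀ C ∈ irreducibleComponents (X : Type u), topologicalKrullDim ↥C = topologicalKrullDim X)
    (hchain : ∀ (y : X) (T : Set X), IsClosed T → IsIrreducible T → y ∈ T →
      topologicalKrullDim ↥T = topologicalKrullDim ↥(closure ({y} : Set X)) + topologicalKrullDim ↥{t : X | t ∈ T ∧ t ⤳ y})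
    (F : X.Modules) (hF : Coh.IsCoh F) (x : X) (hx : x ∈ CohB1.support F) :
    ((LocCoh.depth ↑(X.presheaf.stalk x) ↑(F.presheaf.stalk x) : ℕ∞) : WithBot ℕ∞) +
        topologicalKrullDim ↥(closure ({x} : Set X)) +
        projectiveDimension (ModuleCat.of ↑(X.presheaf.stalk x) ↑(F.presheaf.stalk x)) =
      topologicalKrullDim X := by
  open Groth.Agent.Lib.Helper55 in
  have hR : IsRegularLocalRing ↑(X.presheaf.stalk x) := hreg x
  have hdom : IsDomain ↑(X.presheaf.stalk x) :=
    Groth.Agent.Lib.Helper85.isDomain_of_isRegularLocalRing _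
  have hfinM : Module.Finite ↑(X.presheaf.stalk x) ↑(F.presheaf.stalk x) :=
    Groth.Agent.Lib.Helper12.QuasiFlat.finite_stalk_of_isCoh F hF x
  have hnt : Nontrivial ↑(F.presheaf.stalk x) := not_subsingleton_iff_nontrivial.mp hx
  obtain ⟨e, he, hsum⟩ := Groth.Agent.S0605.pd_add_depth ↑(X.presheaf.stalk x) ↑(F.presheaf.stalk x)
  -- the generic point of the component through `x`
  let p0 : PrimeSpectrum ↑(X.presheaf.stalk x) := ⟨⊥, Ideal.isPrime_bot⟩
  set η : X := stalkPoint x p0 with hη
  have hηx : η ⤳ x := stalkPoint_specializes x p0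
  have hmin : p0.asIdeal ∈ minimalPrimes ↑(X.presheaf.stalk x) := by
    rw [IsDomain.minimalPrimes_eq_singleton_bot]
    rfl
  have hmax : ∀ w : X, w ⤳ η → η ⤳ w := stalkPoint_maximal_of_mem_minimalPrimes x p0 hmin
  have hTirr : IsIrreducible (closure ({η} : Set X)) := isIrreducible_singleton.closure
  have hTcomp : closure ({η} : Set X) ∈ irreducibleComponents (X : Type u) := by
    refine ⟨hTirr, fun Z hZ hle => ?_⟩
    have hZc : IsIrreducible (closure Z) := hZ.closure
    obtain ⟨ζ, hζ⟩ := QuasiSober.sober hZc isClosed_closure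
    have h1 : ζ ⤳ η := by
      rw [specializes_iff_mem_closure, hζ]
      exact subset_closure (hle (subset_closure rfl))
    have h2 : η ⤳ ζ := hmax ζ h1
    intro z hz
    have h3 : ζ ⤳ z := by
      rw [specializes_iff_mem_closure, hζ]
      exact subset_closure hz
    exact (specializes_iff_mem_closure.mp (h2.trans h3))
  have h1 := hchain x (closure ({η} : Set X)) isClosed_closure hTirr
    (specializes_iff_mem_closure.mp hηx)
  have h2 := hcomp _ hTcomp
  have hset : {t : X | t ∈ closure ({η} : Set X) ∧ t ⤳ x} = {t : X | η ⤳ t ∧ t ⤳ x} := by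
    ext t
    simp only [Set.mem_setOf_eq, specializes_iff_mem_closure]
  have h3 := ringKrullDim_stalk_quotient_eq x p0
  have h4 : ringKrullDim (↑(X.presheaf.stalk x) ⧸ p0.asIdeal) = ringKrullDim ↑(X.presheaf.stalk x) :=
    ringKrullDim_eq_of_ringEquiv (RingEquiv.quotientBot _)
  have h5 : ringKrullDim ↑(X.presheaf.stalk x) =
      ((IsLocalRing.maximalIdeal ↑(X.presheaf.stalk x)).spanFinrank : ℕ) :=
    (IsRegularLocalRing.spanFinrank_maximalIdeal (R := ↑(X.presheaf.stalk x))).symm
  rw [hset, ← h3, h4, h5] at h1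
  rw [← h2, h1, he]
  have h6 : (((IsLocalRing.maximalIdeal ↑(X.presheaf.stalk x)).spanFinrank : ℕ) : WithBot ℕ∞) =
      ((e : ℕ∞) : WithBot ℕ∞) +
        ((LocCoh.depth ↑(X.presheaf.stalk x) ↑(F.presheaf.stalk x) : ℕ∞) : WithBot ℕ∞) := by
    have := congrArg (fun a : ℕ∞ => (a : WithBot ℕ∞)) hsum
    simpa using this
  rw [h6]
  generalize topologicalKrullDim ↥(closure ({x} : Set X)) = a
  generalize ((LocCoh.depth ↑(X.presheaf.stalk x) ↑(F.presheaf.stalk x) : ℕ∞) : WithBot ℕ∞) = b
  have : ((e : ℕ) : WithBot ℕ∞) = ((e : ℕ∞) : WithBot ℕ∞) := rfl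
  rw [this]
  generalize ((e : ℕ∞) : WithBot ℕ∞) = c
  ac_rfl

end Groth.Agent.S4906
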