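import Groth.Statements.S4907
import Groth.Agent.S4906
import Groth.Agent.Lib.Helper73.PdStalk2

set_option autoImplicit false
universe u
open CategoryTheory AlgebraicGeometry
open EGA43

namespace Groth.Agent.S4907

/-- Let X be a regular biequidimensional scheme (Noetherian, regular local rings, finite dimension, all
irreducible components of dimension dim X, and dim T = dim cl{y} + codim(cl{y}, T) for every closed
irreducible T and point y of T) and F a coherent O_X-module. Then the rectified depth x ↦ prof(F_x)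
+ dim cl{x} is lower semicontinuous: for every integer n the set of x with prof(F_x) + dim cl{x} ≥ n
is open. -/
theorem result (X : Scheme.{u}) [IsNoetherian X]
    (hreg : ∀ x : X, IsRegularLocalRing ↑(X.presheaf.stalk x))
    (hfin : topologicalKrullDim X < ⊤)
    (hcomp : ∀ C ∈ irreducibleComponents (X : Type u), topologicalKrullDim ↥C = topologicalKrullDim X)
    (hchain : ∀ (y : X) (T : Set X), IsClosed T → IsIrreducible T → y ∈ T →
      topologicalKrullDim ↥T = topologicalKrullDim ↥(closure ({y} : Set X)) + topologicalKrullDim ↥{t : X | t ∈ T ∧ t ⤳ y})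
    (F : X.Modules) (hF : Coh.IsCoh F) (n : ℕ) :
    IsOpen {x : X | (n : WithBot ℕ∞) ≤
      ((LocCoh.depth ↑(X.presheaf.stalk x) ↑(F.presheaf.stalk x) : ℕ∞) : WithBot ℕ∞) +
        topologicalKrullDim ↥(closure ({x} : Set X))} := by
  classical
  rcases isEmpty_or_nonempty X with hX | hX
  · have : {x : X | (n : WithBot ℕ∞) ≤
      ((LocCoh.depth ↑(X.presheaf.stalk x) ↑(F.presheaf.stalk x) : ℕ∞) : WithBot ℕ∞) +
        topologicalKrullDim ↥(closure ({x} : Set X))} = ∅ := Set.eq_empty_of_isEmpty _
    rw [this]
    exact isOpen_empty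
  -- `dim X` is a natural number
  obtain ⟨x₁⟩ := hX
  have hNbot : topologicalKrullDim X ≠ ⊥ := by
    unfold topologicalKrullDim
    rw [Ne, Order.krullDim_eq_bot_iff, not_isEmpty_iff]
    exact ⟨⟨closure {x₁}, isIrreducible_singleton.closure, isClosed_closure⟩⟩
  obtain ⟨N₀, hN₀⟩ : ∃ N₀ : ℕ, topologicalKrullDim X = (N₀ : WithBot ℕ∞) := by
    generalize topologicalKrullDim X = N at hfin hNbot
    induction N with
    | bot => exact absurd rfl hNbot
    | coe N =>
      induction N with
      | top => exact absurd hfin (lt_irrefl _)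
      | coe N => exact ⟨N, rfl⟩
  have hkey : {x : X | (n : WithBot ℕ∞) ≤
      ((LocCoh.depth ↑(X.presheaf.stalk x) ↑(F.presheaf.stalk x) : ℕ∞) : WithBot ℕ∞) +
        topologicalKrullDim ↥(closure ({x} : Set X))} =
      {x : X | HasProjectiveDimensionLT (ModuleCat.of ↑(X.presheaf.stalk x)
        ↑(F.presheaf.stalk x)) (N₀ + 1 - n)} := by
    ext x
    simp only [Set.mem_setOf_eq]
    have hcne : topologicalKrullDim ↥(closure ({x} : Set X)) ≠ ⊥ := by
      unfold topologicalKrullDim
      rw [Ne, Order.krullDim_eq_bot_iff, not_isEmpty_iff]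
      refine ⟨⟨closure {⟨x, subset_closure rfl⟩}, isIrreducible_singleton.closure,
        isClosed_closure⟩⟩
    by_cases hsub : Subsingleton ↑(F.presheaf.stalk x)
    · -- outside the support
      have hd : LocCoh.depth ↑(X.presheaf.stalk x) ↑(F.presheaf.stalk x) = ⊤ := by
        unfold LocCoh.depth LocCoh.idealDepth
        rw [if_pos (Subsingleton.elim _ _)]
      have hpd : HasProjectiveDimensionLT (ModuleCat.of ↑(X.presheaf.stalk x)
          ↑(F.presheaf.stalk x)) 0 := by
        rw [hasProjectiveDimensionLT_zero_iff_isZero, ModuleCat.isZero_iff_subsingleton]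
        exact hsub
      constructor
      · intro _
        exact hasProjectiveDimensionLT_of_ge _ 0 _ (Nat.zero_le _)
      · intro _
        rw [hd]
        obtain ⟨c, hc⟩ := WithBot.ne_bot_iff_exists.mp hcne
        rw [← hc, ← WithBot.coe_add, top_add]
        exact le_top
    · -- on the support
      have hx : x ∈ CohB1.support F := hsub
      have hmain := Groth.Agent.S4906.result X hreg hfin hcomp hchain F hF x hx
      have hR : IsRegularLocalRing ↑(X.presheaf.stalk x) := hreg x
      have hfinM : Module.Finite ↑(X.presheaf.stalk x) ↑(F.presheaf.stalk x) :=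
        Groth.Agent.Lib.Helper12.QuasiFlat.finite_stalk_of_isCoh F hF x
      have hnt : Nontrivial ↑(F.presheaf.stalk x) := not_subsingleton_iff_nontrivial.mp hsub
      obtain ⟨e, he, hsum⟩ :=
        Groth.Agent.S0605.pd_add_depth ↑(X.presheaf.stalk x) ↑(F.presheaf.stalk x)
      obtain ⟨d₀, hd₀⟩ : ∃ d₀ : ℕ,
          LocCoh.depth ↑(X.presheaf.stalk x) ↑(F.presheaf.stalk x) = (d₀ : ℕ∞) := by
        have hne : LocCoh.depth ↑(X.presheaf.stalk x) ↑(F.presheaf.stalk x) ≠ ⊤ := by
          intro htop
          rw [htop, add_top] at hsum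
          exact ENat.coe_ne_top _ hsum
        exact ⟨_, (ENat.coe_toNat hne).symm⟩
      rw [← projectiveDimension_lt_iff, he, hd₀]
      rw [he, hd₀, hN₀] at hmain
      generalize topologicalKrullDim ↥(closure ({x} : Set X)) = c at hmain hcne ⊢
      induction c with
      | bot => exact absurd rfl hcne
      | coe c =>
        induction c with
        | top =>
          exfalso
          have : ((d₀ : ℕ∞) : WithBot ℕ∞) + ((⊤ : ℕ∞) : WithBot ℕ∞) + ((e : ℕ) : WithBot ℕ∞) =
              ((⊤ : ℕ∞) : WithBot ℕ∞) := by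
            have h1 : ((e : ℕ) : WithBot ℕ∞) = ((e : ℕ∞) : WithBot ℕ∞) := rfl
            rw [h1, ← WithBot.coe_add, ← WithBot.coe_add, add_top, top_add]
          rw [this] at hmain
          have h2 : ((N₀ : ℕ) : WithBot ℕ∞) = ((N₀ : ℕ∞) : WithBot ℕ∞) := rfl
          rw [h2, WithBot.coe_inj] at hmain
          exact ENat.coe_ne_top _ hmain.symm
        | coe c =>
          have h1 : ((e : ℕ) : WithBot ℕ∞) = (((e : ℕ) : ℕ∞) : WithBot ℕ∞) := rfl
          have h2 : ((N₀ : ℕ) : WithBot ℕ∞) = (((N₀ : ℕ) : ℕ∞) : WithBot ℕ∞) := rfl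
          have h3 : ((n : ℕ) : WithBot ℕ∞) = (((n : ℕ) : ℕ∞) : WithBot ℕ∞) := rfl
          have h4 : (((N₀ + 1 - n : ℕ) : ℕ) : WithBot ℕ∞) =
            ((((N₀ + 1 - n : ℕ) : ℕ) : ℕ∞) : WithBot ℕ∞) := rfl
          rw [h1, h2, ← WithBot.coe_add, ← WithBot.coe_add, WithBot.coe_inj] at hmain
          rw [h1, h3, h4, ← WithBot.coe_add, WithBot.coe_le_coe, WithBot.coe_lt_coe]
          have hmain' : d₀ + c + e = N₀ := by exact_mod_cast hmain
          constructor
          · intro h
            have h' : n ≤ d₀ + c := by exact_mod_cast h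
            have : e < N₀ + 1 - n := by omega
            exact_mod_cast this
          · intro h
            have h' : e < N₀ + 1 - n := by exact_mod_cast h
            have : n ≤ d₀ + c := by omega
            exact_mod_cast this
  rw [hkey]
  exact Groth.Agent.Lib.Helper73.PdStalk.isOpen_setOf_hasProjectiveDimensionLT_stalk F hF _

end Groth.Agent.S4907
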