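import Groth.Statements.S4914

set_option autoImplicit false
open CategoryTheory AlgebraicGeometry
universe u v w
open EGA43

namespace Groth.Agent.S4914

/-- Let ψ : X → Y be a continuous map, x a point of X, and (Y_i) a locally finite covering of Y by
closed subsets. If for every index i with ψ x ∈ Y_i the restriction ψ⁻¹(Y_i) → Y_i of ψ is open at
x, then ψ is open at x. -/
theorem result {α : Type u} {β : Type v} {ι : Type w} [TopologicalSpace α]
    [TopologicalSpace β] (ψ : α → β) (hψ : Continuous ψ) (x : α) (Y : ι → Set β) (hY : LocallyFinite Y)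
    (hcl : ∀ i, IsClosed (Y i)) (hcov : ⋃ i, Y i = Set.univ)
    (h : ∀ i, ∀ hi : ψ x ∈ Y i, EGA43.IsOpenAt ((Y i).restrictPreimage ψ) ⟨x, hi⟩) :
    EGA43.IsOpenAt ψ x := by
  classical
  intro U hU
  obtain ⟨N, hN, hfin⟩ := hY (ψ x)
  -- for every index `i` in the finite set, a neighbourhood `O i` of `ψ x` with `O i ∩ Y i ⊆ ψ '' U`
  have key : ∀ i, ∃ O ∈ nhds (ψ x), O ∩ Y i ⊆ ψ '' U := by
    intro i
    by_cases hi : ψ x ∈ Y i
    · have hU' : (Subtype.val ⁻¹' U : Set ↥(ψ ⁻¹' Y i)) ∈ nhds ⟨x, hi⟩ :=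
        continuous_subtype_val.continuousAt hU
      have := h i hi _ hU'
      rw [mem_nhds_subtype] at this
      obtain ⟨O, hO, hOsub⟩ := this
      refine ⟨O, hO, ?_⟩
      rintro z ⟨hzO, hzY⟩
      have hz : (⟨z, hzY⟩ : ↥(Y i)) ∈ Subtype.val ⁻¹' O := hzO
      obtain ⟨⟨w, hw⟩, hwU, hwz⟩ := hOsub hz
      refine ⟨w, hwU, ?_⟩
      exact congrArg Subtype.val hwz
    · refine ⟨(Y i)ᶜ, (hcl i).isOpen_compl.mem_nhds hi, ?_⟩
      rintro z ⟨hz1, hz2⟩
      exact absurd hz2 hz1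
  choose O hO hOsub using key
  have hOall : (⋂ i ∈ hfin.toFinset, O i) ∈ nhds (ψ x) :=
    (Filter.biInter_finset_mem hfin.toFinset).mpr fun i _ => hO i
  refine Filter.mem_of_superset (Filter.inter_mem hN hOall) ?_
  rintro z ⟨hzN, hzO⟩
  have hz : z ∈ ⋃ i, Y i := by rw [hcov]; trivial
  obtain ⟨i, hi⟩ := Set.mem_iUnion.mp hz
  have hiF : i ∈ hfin.toFinset := by
    rw [Set.Finite.mem_toFinset]
    exact ⟨z, hi, hzN⟩
  have hzOi : z ∈ O i := Set.mem_iInter₂.mp hzO i hiF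
  exact hOsub i ⟨hzOi, hi⟩

end Groth.Agent.S4914
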