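import Groth.Statements.S4917
-- import your own Groth.Agent.* helpers here
import Groth.Agent.Lib.Helper55.OpenAtDim
import Groth.Agent.Lib.Helper55.EquidimCriterion

set_option autoImplicit false
open CategoryTheory AlgebraicGeometry
universe u v w
open EGA43

namespace Groth.Agent.S4917

/-- Assume Y is a locally Noetherian scheme and X is an irreducible scheme, and consider a dominant
morphism f : X ⟶ Y that is locally of finite type. Fix a point x of X and write y = f x. If, for
every irreducible component of the fibre X_y that contains x, the morphism f is open at the generic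
point of that component, then f is equidimensional at x. -/
theorem result {X Y : Scheme.{u}} [IsLocallyNoetherian Y]
    [IrreducibleSpace X] (f : X ⟶ Y) [LocallyOfFiniteType f] [IsDominant f] (x : X)
    (h : ∀ z : ↥(f.fiber (f.base x)), f.asFiber x ∈ closure {z} →
      (∀ z' : ↥(f.fiber (f.base x)), z ∈ closure {z'} → z' = z) →
      EGA43.IsOpenAt f.base ((f.fiberι (f.base x)).base z)) :
    EGA43.IsEquidimAt f x := by
  have hX : IsLocallyNoetherian X := LocallyOfFiniteType.isLocallyNoetherian f
  obtain ⟨e, hm1, he⟩ := Lib.Helper55.exists_dim_closure_fiber_eq_trdeg' f (genericPoint ↥X) rfl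
  have hgen : IsGenericPoint (genericPoint ↥X) (Set.univ : Set X) := genericPoint_spec ↥X
  -- the local fibre dimension at `x` is `e`
  have hfd : FlatMor.fibreDimAt f x = e := by
    apply le_antisymm
    · obtain ⟨z, hfz, hzx, hzmax, n, hn, hFx, -, -⟩ := Lib.Helper55.exists_maximal_point_fiber f x
      have hzr : z ∈ Set.range (f.fiberι (f x)) := by
        rw [f.range_fiberι]; exact hfz
      obtain ⟨zF, hzF⟩ := hzr
      have hopen : EGA43.IsOpenAt f.base z := by
        rw [← hzF]
        apply h zF
        · rw [← specializes_iff_mem_closure]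
          apply (f.fiberι (f x)).isEmbedding.isInducing.specializes_iff.mp
          rw [hzF, f.fiberι_asFiber]
          exact hzx
        · intro z' hz'
          have h1 : z' ⤳ zF := specializes_iff_mem_closure.mpr hz'
          have h2 : f.fiberι (f x) z' ⤳ z := hzF ▸ h1.map (f.fiberι (f x)).continuous
          have h3 : f (f.fiberι (f x) z') = f x := by
            have : f.fiberι (f x) z' ∈ Set.range (f.fiberι (f x)) := ⟨z', rfl⟩
            rw [f.range_fiberι] at this
            exact this
          have h4 := hzmax _ h3 h2
          exact (f.fiberι (f x)).isEmbedding.injective (h4.trans hzF.symm)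
      have hle := Lib.Helper55.ringKrullDim_stalk_le_of_isOpenAt f z hopen
        (fun z' hz' hs => hzmax z' (hz'.trans hfz) hs)
      have hineq := Lib.Helper55.ringKrullDim_stalk_add_trdeg_le f z n e hn (by
        intro ξ' hξ' _
        have hξ'u : closure ({ξ'} : Set X) = Set.univ := by
          rw [irreducibleComponents_eq_singleton] at hξ'
          exact hξ'
        have hξ'g : IsGenericPoint ξ' (Set.univ : Set X) := hξ'u
        rw [hξ'g.eq hgen, he])
      obtain ⟨a, ha⟩ := Lib.Helper55.exists_nat_ringKrullDim_stalk z
      obtain ⟨b, hb⟩ := Lib.Helper55.exists_nat_ringKrullDim_stalk (f z)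
      rw [ha, hb] at hle
      rw [ha, hb] at hineq
      rw [hFx]
      have h1 : b ≤ a := by exact_mod_cast hle
      have h2 : a + n ≤ b + e := by exact_mod_cast hineq
      have h3 : n ≤ e := by omega
      exact_mod_cast h3
    · exact Lib.Helper55.trdeg_le_fibreDimAt_of_specializes f (genericPoint ↥X) x
        (genericPoint_specializes x) e he
  apply Lib.Helper55.isEquidimAt_of_components f x e
  intro Xj hXj hx
  have hXj' : Xj = Set.univ := by
    rw [irreducibleComponents_eq_singleton] at hXj
    exact hXj
  subst hXj'
  have himg := Lib.Helper55.closure_image_eq_of_isGenericPoint f Set.univ (genericPoint ↥X) hgen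
  have hdense : closure (f.base '' (Set.univ : Set X)) = Set.univ := by
    rw [Set.image_univ]
    exact f.denseRange.closure_range
  refine ⟨?_, ?_, ?_⟩
  · rw [hdense]
    have hirr : IsIrreducible (Set.univ : Set Y) := by
      rw [← hdense]
      exact (IsIrreducible.image (IrreducibleSpace.isIrreducible_univ ↥X) f.base
        f.continuous.continuousOn).closure
    exact ⟨hirr, fun s _ _ => Set.subset_univ s⟩
  · intro η hη
    have hg1 : IsGenericPoint η (closure ({f (genericPoint ↥X)} : Set Y)) := by
      rw [← himg]; exact hη
    have hg2 : IsGenericPoint (f (genericPoint ↥X)) (closure ({f (genericPoint ↥X)} : Set Y)) :=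
      rfl
    have hηeq : f (genericPoint ↥X) = η := hg2.eq hg1
    rw [← hηeq, Set.univ_inter]
    exact hm1
  · have h1 := Lib.Helper55.fibreDimAt_eq_localDim_preimage f x
    have hset : f ⁻¹' {f x} = Set.univ ∩ f.base ⁻¹' {f.base x} := by
      rw [Set.univ_inter]
    rw [Lib.Helper55.localDim_congr_set hset x rfl ⟨hx, rfl⟩] at h1
    rw [← h1, hfd]

end Groth.Agent.S4917
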