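import Groth.Statements.S4919
-- import your own Groth.Agent.* helpers here
import Groth.Agent.Lib.Helper55.OpenAtComponent

set_option autoImplicit false
open CategoryTheory AlgebraicGeometry
universe u v w
open EGA43

namespace Groth.Agent.S4919

/-- Let Y be an irreducible locally Noetherian scheme with generic point η, f : X ⟶ Y a morphism locally
of finite type, y a point of Y and Z an irreducible component of the fibre f⁻¹(y) (a maximal
irreducible subset of f⁻¹(y), with the topology induced from X) such that f is open at the generic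
point ζ of Z. Then there is an irreducible component X' of X containing Z and dominating Y such that
the local dimension of X' ∩ f⁻¹(y) at ζ equals dim Z, and dim Z = dim (X' ∩ f⁻¹(η)). (The published
statement writes the middle term as the dimension of the whole of X' ∩ f⁻¹(y); its proof yields only
the local dimension at the generic point of Z, and the global equality can fail: for the
endomorphism (a, b) ↦ (ab, b² − b) of the affine plane over a field, the fibre over the origin is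
the line b = 0 together with the isolated point (0, 1), at which the map is étale, hence open; with
Z that point, X' is the whole plane, X' ∩ f⁻¹(y) has dimension 1 and dim Z = 0. So the local form is
stated here.) -/
theorem result {X Y : Scheme.{u}} [IrreducibleSpace Y]
    [IsLocallyNoetherian Y] (f : X ⟶ Y) [LocallyOfFiniteType f] (y : Y) (Z : Set X)
    (hZy : Z ⊆ f.base ⁻¹' {y}) (hZ : IsIrreducible Z)
    (hZmax : ∀ Z' : Set X, IsIrreducible Z' → Z' ⊆ f.base ⁻¹' {y} → Z ⊆ Z' → Z' = Z)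
    (hopen : ∀ ζ ∈ Z, Z ⊆ closure {ζ} → EGA43.IsOpenAt f.base ζ) :
    ∃ X' ∈ irreducibleComponents (X : Type u), Z ⊆ X' ∧ Dense (f.base '' X') ∧
      (∀ ζ ∈ Z, Z ⊆ closure {ζ} → ∀ hζ : ζ ∈ X' ∩ f.base ⁻¹' {y},
        FlatMor.localDim ↥(X' ∩ f.base ⁻¹' {y}) ⟨ζ, hζ⟩ = topologicalKrullDim ↥Z) ∧
      topologicalKrullDim ↥Z = topologicalKrullDim ↥(X' ∩ f.base ⁻¹' {genericPoint Y}) := by
  have hX : IsLocallyNoetherian X := LocallyOfFiniteType.isLocallyNoetherian f
  have hqs : QuasiSober ↥X := inferInstance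
  obtain ⟨ζ₀, hζ₀⟩ := hqs.sober hZ.closure isClosed_closure
  obtain ⟨z₀, hz₀⟩ := hZ.nonempty
  have hirr : ∀ w : X, f w = y → IsIrreducible (closure ({w} : Set X) ∩ f.base ⁻¹' {y}) := by
    intro w hw
    refine ⟨⟨w, subset_closure rfl, hw⟩, ?_⟩
    rintro U V hU hV ⟨s, hs, hsU⟩ ⟨t, ht, htV⟩
    have hwU : w ∈ U := (specializes_iff_mem_closure.mpr hs.1).mem_open hU hsU
    have hwV : w ∈ V := (specializes_iff_mem_closure.mpr ht.1).mem_open hV htV
    exact ⟨w, ⟨subset_closure rfl, hw⟩, hwU, hwV⟩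
  have hfζ₀ : f ζ₀ = y := by
    have h1 : ζ₀ ⤳ z₀ := by
      rw [specializes_iff_mem_closure, hζ₀.def]
      exact subset_closure hz₀
    have h2 : f ζ₀ ⤳ y := by
      have h := h1.map f.continuous
      have hz₀y : f z₀ = y := hZy hz₀
      rwa [hz₀y] at h
    have h3 : y ⤳ f ζ₀ := by
      have hsub : closure Z ⊆ f.base ⁻¹' closure {y} :=
        closure_minimal (fun z hz => subset_closure (hZy hz))
          (isClosed_closure.preimage f.continuous)
      have hmem : ζ₀ ∈ closure Z := hζ₀.def ▸ subset_closure rfl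
      exact specializes_iff_mem_closure.mpr (hsub hmem)
    exact (h2.antisymm h3).eq
  have hZsub : Z ⊆ closure ({ζ₀} : Set X) ∩ f.base ⁻¹' {y} :=
    fun z hz => ⟨hζ₀.def ▸ subset_closure hz, hZy hz⟩
  have hZeq : closure ({ζ₀} : Set X) ∩ f.base ⁻¹' {y} = Z :=
    hZmax _ (hirr ζ₀ hfζ₀) Set.inter_subset_right hZsub
  have hζ₀Z : ζ₀ ∈ Z := hZeq ▸ ⟨subset_closure rfl, hfζ₀⟩
  have hZcl : Z ⊆ closure ({ζ₀} : Set X) := fun z hz => (hZsub hz).1
  have hmaxζ : ∀ w : X, f w = f ζ₀ → w ⤳ ζ₀ → w = ζ₀ := by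
    intro w hw hwζ
    have hfw : f w = y := hw.trans hfζ₀
    have hsub : Z ⊆ closure ({w} : Set X) ∩ f.base ⁻¹' {y} := fun z hz =>
      ⟨specializes_iff_mem_closure.mp (hwζ.trans (specializes_iff_mem_closure.mpr (hZcl hz))),
        hZy hz⟩
    have h1 := hZmax _ (hirr w hfw) Set.inter_subset_right hsub
    have hwZ : w ∈ Z := h1 ▸ ⟨subset_closure rfl, hfw⟩
    exact (hwζ.antisymm (specializes_iff_mem_closure.mpr (hZcl hwZ))).eq
  obtain ⟨ξ, d, hξmax, hξζ, hfξ, htrξ, htrζ, hFζ⟩ :=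
    Lib.Helper55.exists_dominant_maximal_point_of_isOpenAt f ζ₀ (hopen ζ₀ hζ₀Z hZcl) hmaxζ
  -- the dimension of `Z`
  obtain ⟨n, hn1, hn2⟩ := Lib.Helper55.exists_dim_closure_inter_fibre_eq_trdeg f ζ₀
  have hset : closure ({ζ₀} : Set X) ∩ f ⁻¹' {f ζ₀} = Z := by
    rw [hfζ₀]
    exact hZeq
  rw [hset] at hn1
  have hnd : n = d := by exact_mod_cast hn2.symm.trans htrζ
  have hdimZ : topologicalKrullDim ↥Z = d := by rw [hn1, hnd]
  refine ⟨closure {ξ}, Lib.Helper55.closure_mem_irreducibleComponents_of_maximal ξ hξmax,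
    ?_, ?_, ?_, ?_⟩
  · intro z hz
    exact specializes_iff_mem_closure.mp (hξζ.trans (specializes_iff_mem_closure.mpr (hZcl hz)))
  · rw [dense_iff_closure_eq]
    apply Set.eq_univ_of_univ_subset
    rw [← (genericPoint_spec ↥Y).def, ← hfξ]
    apply closure_mono
    rintro _ rfl
    exact ⟨ξ, subset_closure rfl, rfl⟩
  · intro ζ hζZ hZζ hζ
    have hζeq : ζ₀ = ζ :=
      ((specializes_iff_mem_closure.mpr (hZcl hζZ)).antisymm
        (specializes_iff_mem_closure.mpr (hZζ hζ₀Z))).eq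
    subst hζeq
    have hset2 : closure ({ξ} : Set X) ∩ f.base ⁻¹' {y} =
        closure ({ξ} : Set X) ∩ f ⁻¹' {f ζ₀} := by
      rw [hfζ₀]
    have hζξ : ζ₀ ∈ closure ({ξ} : Set X) := hζ.1
    rw [Lib.Helper55.localDim_congr_set hset2 ζ₀ hζ ⟨hζξ, rfl⟩, hdimZ]
    apply le_antisymm
    · exact (Lib.Helper55.localDim_inter_fibre_le f (closure {ξ}) ζ₀ hζξ).trans hFζ.le
    · exact Lib.Helper55.trdeg_le_localDim_inter_fibre f ⟨closure {ξ}, isClosed_closure⟩ ζ₀ ξ hζξ
        (subset_closure rfl) hξζ d htrξ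
  · obtain ⟨m, hm1, hm2⟩ := Lib.Helper55.exists_dim_closure_inter_fibre_eq_trdeg f ξ
    rw [hfξ] at hm1
    have hmd : m = d := by exact_mod_cast hm2.symm.trans htrξ
    rw [hdimZ]
    change (d : WithBot ℕ∞) = topologicalKrullDim ↥(closure ({ξ} : Set X) ∩ f ⁻¹' {genericPoint ↥Y})
    rw [hm1, hmd]

end Groth.Agent.S4919
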