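import Groth.Statements.S4921
-- import your own Groth.Agent.* helpers here
import Groth.Agent.Lib.Helper55.OpenAtBaseChange
import Groth.Agent.S4920

set_option autoImplicit false
open CategoryTheory AlgebraicGeometry
universe u v w
open EGA43

namespace Groth.Agent.S4921

/-- Let Y be a locally Noetherian scheme, f : X ⟶ Y a proper morphism and y a point of Y such that f is
open at every point of the fibre over y. Then the function z ↦ dim X_z is constant on a
neighbourhood of y. -/
theorem result {X Y : Scheme.{u}} [IsLocallyNoetherian Y] (f : X ⟶ Y)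
    [IsProper f] (y : Y) (h : ∀ x : X, f.base x = y → EGA43.IsOpenAt f.base x) :
    ∃ V ∈ nhds y, ∀ z ∈ V, topologicalKrullDim ↥(f.fiber z) = topologicalKrullDim ↥(f.fiber y) := by
  have hcl : IsClosedMap f.base := f.isClosedMap
  have hopen := Lib.Helper55.isOpen_setOf_dim_fiber_le_of_isClosedMap f hcl
  obtain ⟨W, hyW, hW⟩ := Lib.Helper55.exists_open_forall_maximal_specializes y
  refine ⟨{s : Y | topologicalKrullDim ↥(f.fiber s) ≤ topologicalKrullDim ↥(f.fiber y)} ∩ W,
    Filter.inter_mem ((hopen _).mem_nhds (le_refl (topologicalKrullDim ↥(f.fiber y))))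
      (W.2.mem_nhds hyW), ?_⟩
  rintro z ⟨hz1, hzW⟩
  apply le_antisymm hz1
  obtain ⟨η, -, hηz, hηmax⟩ :=
    Lib.Helper55.exists_maximal_point_specializes (Set.univ : Set Y) isClosed_univ z trivial
  have hηmax' : ∀ w : Y, w ⤳ η → η ⤳ w := fun w hw => hηmax w trivial hw
  have hηW : η ∈ W := hηz.mem_open W.2 hzW
  have hηy : η ⤳ y := hW η hηW hηmax'
  have h2 : topologicalKrullDim ↥(f.fiber η) ≤ topologicalKrullDim ↥(f.fiber z) :=
    hηz.mem_open (hopen (topologicalKrullDim ↥(f.fiber z)))
      (le_refl (topologicalKrullDim ↥(f.fiber z)))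
  refine le_trans ?_ h2
  obtain ⟨hirr, hr, hgen⟩ := Lib.Helper55.closure_subscheme_setup η
  have hNoeth : IsLocallyNoetherian (Scheme.IdealSheafData.vanishingIdeal
      (⟨closure {η}, isClosed_closure⟩ : TopologicalSpace.Closeds Y)).subscheme :=
    LocallyOfFiniteType.isLocallyNoetherian (Scheme.IdealSheafData.vanishingIdeal
      (⟨closure {η}, isClosed_closure⟩ : TopologicalSpace.Closeds Y)).subschemeι
  have hyr : y ∈ Set.range (Scheme.IdealSheafData.vanishingIdeal
      (⟨closure {η}, isClosed_closure⟩ : TopologicalSpace.Closeds Y)).subschemeι := by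
    rw [hr]
    exact specializes_iff_mem_closure.mp hηy
  obtain ⟨y₀, hy₀⟩ := hyr
  have hS := (Groth.Agent.S4920.result (Limits.pullback.snd f (Scheme.IdealSheafData.vanishingIdeal
      (⟨closure {η}, isClosed_closure⟩ : TopologicalSpace.Closeds Y)).subschemeι) y₀
    (fun x' hx' => Lib.Helper55.isOpenAt_snd_of_isOpenAt f _ x' (h _ (by
      have hc := congr(($(Limits.pullback.condition (f := f) (g := (Scheme.IdealSheafData.vanishingIdeal
        (⟨closure {η}, isClosed_closure⟩ : TopologicalSpace.Closeds Y)).subschemeι))) x')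
      refine hc.trans ?_
      change (Scheme.IdealSheafData.vanishingIdeal
        (⟨closure {η}, isClosed_closure⟩ : TopologicalSpace.Closeds Y)).subschemeι
          (Limits.pullback.snd f _ x') = y
      rw [hx', hy₀])))).2
  have hsq := IsPullback.of_hasPullback f (Scheme.IdealSheafData.vanishingIdeal
      (⟨closure {η}, isClosed_closure⟩ : TopologicalSpace.Closeds Y)).subschemeι
  rw [Lib.Helper55.topologicalKrullDim_fiber_eq_of_isPullback f _ _ _ hsq,
    Lib.Helper55.topologicalKrullDim_fiber_eq_of_isPullback f _ _ _ hsq, hy₀, hgen] at hS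
  exact hS

end Groth.Agent.S4921
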