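import Groth.Statements.S4935
import Groth.Agent.Lib.Helper24.UnibranchGoingDown

set_option autoImplicit false
universe u
open EGA43

namespace Groth.Agent.S4935

/-- Let A be a unibranch local domain, B a domain containing A and integral over A, and 𝔫 a prime ideal
of B lying over the maximal ideal of A. Then Spec B_𝔫 → Spec A is surjective: for every prime ideal
𝔭 of A there is a prime ideal 𝔮 ⊆ 𝔫 of B with 𝔮 ∩ A = 𝔭. -/
theorem result {A B : Type u} [CommRing A] [IsDomain A]
    [IsLocalRing A] (hA : CAlg2.IsUnibranch A) [CommRing B] [IsDomain B] [Algebra A B]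
    (hinj : Function.Injective (algebraMap A B)) [Algebra.IsIntegral A B] (n : Ideal B) [n.IsPrime]
    (hn : n.comap (algebraMap A B) = IsLocalRing.maximalIdeal A) (p : Ideal A) [p.IsPrime] :
    ∃ q : Ideal B, q.IsPrime ∧ q ≤ n ∧ q.comap (algebraMap A B) = p := by
  classical
  have hnil : nilradical A = ⊥ := nilradical_eq_zero A
  let R := CAlg2.red A
  have hdom : IsDomain R := hA.1
  have hlocR : IsLocalRing R := IsLocalRing.of_surjective' (Ideal.Quotient.mk (nilradical A))
    Ideal.Quotient.mk_surjective
  have hmkinj : Function.Injective (Ideal.Quotient.mk (nilradical A)) := by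
    rw [RingHom.injective_iff_ker_eq_bot, Ideal.mk_ker, hnil]
  have hmksurj : Function.Surjective (Ideal.Quotient.mk (nilradical A)) :=
    Ideal.Quotient.mk_surjective
  have h0 : ∀ a ∈ nilradical A, algebraMap A B a = 0 := by
    intro a ha
    rw [hnil] at ha
    rw [(Ideal.mem_bot).mp ha, map_zero]
  let _ : Algebra R B := (Ideal.Quotient.lift (nilradical A) (algebraMap A B) h0).toAlgebra
  have hlift : ∀ a : A, algebraMap R B (Ideal.Quotient.mk (nilradical A) a) = algebraMap A B a :=
    fun a => Ideal.Quotient.lift_mk _ _ _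
  have : IsScalarTower A R B := IsScalarTower.of_algebraMap_eq fun a => (hlift a).symm
  have : Algebra.IsIntegral R B := Algebra.IsIntegral.tower_top (R := A)
  have hinjR : Function.Injective (algebraMap R B) := by
    intro x y hxy
    obtain ⟨a, rfl⟩ := hmksurj x
    obtain ⟨b, rfl⟩ := hmksurj y
    rw [hlift, hlift] at hxy
    rw [hinj hxy]
  have : Algebra.IsIntegral A R := Algebra.isIntegral_of_surjective hmksurj
  have hnR : n.comap (algebraMap R B) = IsLocalRing.maximalIdeal R := by
    apply IsLocalRing.eq_maximalIdeal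
    apply Ideal.isMaximal_of_isIntegral_of_isMaximal_comap (R := A)
    rw [Ideal.comap_comap, ← IsScalarTower.algebraMap_eq A R B, hn]
    exact IsLocalRing.maximalIdeal.isMaximal A
  let e : A ≃+* R := RingEquiv.ofBijective (Ideal.Quotient.mk (nilradical A)) ⟨hmkinj, hmksurj⟩
  let p' : Ideal R := p.comap (e.symm : R →+* A)
  have hp' : p'.comap (algebraMap A R) = p := by
    ext a
    simp only [p', Ideal.mem_comap]
    have : (e.symm : R →+* A) (algebraMap A R a) = a := e.symm_apply_apply a
    rw [this]
  obtain ⟨q, hq, hqn, hqp⟩ :=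
    Groth.Agent.Lib.Helper24.exists_prime_le_of_isLocalRing_integralClosure
      (R := R) (FractionRing R) hA.2 hinjR n hnR p'
  refine ⟨q, hq, hqn, ?_⟩
  rw [IsScalarTower.algebraMap_eq A R B, ← Ideal.comap_comap, hqp, hp']

end Groth.Agent.S4935
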