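import Groth.Statements.S4937
import Groth.Agent.H72.UnibranchOpen

set_option autoImplicit false
open CategoryTheory AlgebraicGeometry
universe u v w
open EGA43

namespace Groth.Agent.S4937

/-- Let X and Y be irreducible schemes and f : X ⟶ Y a dominant morphism which is locally of finite
presentation and locally quasi-finite. If x is a point of X whose image y = f x has unibranch local
ring O_{Y,y}, then f is open at x. (Stated for f locally of finite presentation, the class to which
the openness criterion by lifting of generizations used in the published argument applies; the
published hypothesis is 'locally quasi-finite', which includes locally of finite type.) -/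
theorem result {X Y : Scheme.{u}} [IrreducibleSpace X]
    [IrreducibleSpace Y] (f : X ⟶ Y) [LocallyOfFinitePresentation f] [LocallyQuasiFinite f] [IsDominant f]
    (x : X) (hy : CAlg2.IsUnibranch (Y.presheaf.stalk (f.base x))) : EGA43.IsOpenAt f.base x := by
  have hiso : nhdsWithin x (f.base ⁻¹' {f.base x}) = pure x :=
    isDiscrete_iff_nhdsWithin.mp (f.isDiscrete_preimage_singleton (f.base x)) x rfl
  exact Groth.Agent.H72.UnibranchOpen.isOpenAt_of_isUnibranch f f.denseRange x hiso hy

end Groth.Agent.S4937
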