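import Groth.Statements.S4938
-- import your own Groth.Agent.* helpers here
import Groth.Agent.Lib.Helper55.FibreUnivOpenCriterion
import Groth.Agent.Lib.Helper55.ComponentUnivOpen

set_option autoImplicit false
open CategoryTheory AlgebraicGeometry
universe u v w
open EGA43

namespace Groth.Agent.S4938

/-- Let Y be a locally Noetherian scheme, f : X ⟶ Y a morphism locally of finite type, and y a
geometrically unibranch point of Y, lying on the unique irreducible component Y₀ of Y with generic
point η. The following are equivalent: a) f is universally open at every point of X_y; b) every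
point x of X_y lies on an irreducible component Z of X dominating Y₀ with dim_x(Z ∩ X_y) = dim(Z ∩
X_η); b'') for every open subset U of X, dim(U ∩ X_η) ≥ dim(U ∩ X_y); c) f is open at every point of
X_y. (The published statement assumes Y locally Noetherian only for c) and also lists b′), the
pointwise form of b″) (for every x in X_y and every open U ∋ x, dim(U ∩ X_η) ≥ dim_x(U ∩ X_y)); over
the spectrum of an infinite product of copies of a field, the inclusion of a non-open closed point
satisfies b) and b″) but not a), so this row takes Y locally Noetherian throughout, and b′) is not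
listed.) -/
theorem result {X Y : Scheme.{u}} [IsLocallyNoetherian Y] (f : X ⟶ Y)
    [LocallyOfFiniteType f] (y : Y) (hy : CAlg2.IsGeomUnibranch (Y.presheaf.stalk y)) :
    List.TFAE [∀ x : X, f.base x = y → EGA43.IsUnivOpenAt f x,
      ∀ x : X, f.base x = y → ∀ Y₀ ∈ irreducibleComponents (Y : Type u), y ∈ Y₀ →
        ∃ Z ∈ irreducibleComponents (X : Type u), ∃ hx : x ∈ Z, closure (f.base '' Z) = Y₀ ∧
          ∀ η : Y, closure ({η} : Set Y) = Y₀ →
            FlatMor.localDim ↥(Z ∩ f.base ⁻¹' {f.base x}) ⟨x, ⟨hx, rfl⟩⟩ = topologicalKrullDim ↥(Z ∩ f.base ⁻¹' {η}),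
      ∀ U : X.Opens, ∀ Y₀ ∈ irreducibleComponents (Y : Type u), y ∈ Y₀ → ∀ η : Y, closure ({η} : Set Y) = Y₀ →
        topologicalKrullDim ↥((U : Set X) ∩ f.base ⁻¹' {y}) ≤ topologicalKrullDim ↥((U : Set X) ∩ f.base ⁻¹' {η}),
      ∀ x : X, f.base x = y → EGA43.IsOpenAt f.base x] := by
  -- the dimension inequalities at the maximal points of the fibre, from universal openness
  have key : (∀ x : X, f.base x = y → EGA43.IsUnivOpenAt f x) →
      ∀ x' : X, f.base x' = y → (∀ w : X, f.base w = f.base x' → w ⤳ x' → w = x') →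
      ∀ Y₀ ∈ irreducibleComponents (Y : Type u), y ∈ Y₀ → ∀ η : Y, closure ({η} : Set Y) = Y₀ →
        ∀ U : X.Opens, x' ∈ U →
          FlatMor.fibreDimAt f x' ≤ topologicalKrullDim ↥((U : Set X) ∩ f.base ⁻¹' {η}) := by
    intro hA x' hx' hmax Y₀ hY₀ hyY₀ η hη U hU
    refine Groth.Agent.Lib.Helper55.fibreDimAt_le_dim_opens_inter_fibre_of_isUnivOpenAt f x'
      (fun w hw hwx' => hmax w hw (specializes_iff_mem_closure.mpr hwx')) (hA x' hx') U hU η ?_
    rw [specializes_iff_mem_closure, hη, hx']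
    exact hyY₀
  tfae_have 1 → 4 := fun hA x hx =>
    Groth.Agent.Lib.Helper55.isOpenAt_of_isUnivOpenAt f x (hA x hx)
  tfae_have 2 → 1 := by
    intro hB x hx
    obtain ⟨Y₀, hY₀, hyY₀⟩ := exists_mem_irreducibleComponents_subset_of_isIrreducible
      ({y} : Set Y) isIrreducible_singleton
    have hy₀ : y ∈ Y₀ := hyY₀ rfl
    obtain ⟨η, hη⟩ := QuasiSober.sober hY₀.1 (isClosed_of_mem_irreducibleComponents Y₀ hY₀)
    obtain ⟨Z, hZ, hxZ, hcl, H⟩ := hB x hx Y₀ hY₀ hy₀
    exact Groth.Agent.Lib.Helper55.isUnivOpenAt_of_component_general f x (by rw [hx]; exact hy)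
      Z hZ hxZ Y₀ hY₀ hcl η hη.def (H η hη.def)
  tfae_have 4 → 2 := by
    intro hC x hx Y₀ hY₀ hyY₀
    have hA' : ∀ x' : X, f.base x' = y →
        (∀ w : X, f.base w = f.base x' → w ⤳ x' → w = x') → EGA43.IsUnivOpenAt f x' :=
      fun x' hx' hmax => Groth.Agent.H72.OpenUO.isUnivOpenAt_of_isOpenAt f x' hmax
        (by rw [hx']; exact hy) (hC x' hx')
    refine Groth.Agent.Lib.Helper55.exists_component_of_fibre f y ?_ x hx Y₀ hY₀ hyY₀
    intro x' hx' hmax Y₁ hY₁ hyY₁ η hη U hU
    refine Groth.Agent.Lib.Helper55.fibreDimAt_le_dim_opens_inter_fibre_of_isUnivOpenAt f x'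
      (fun w hw hwx' => hmax w hw (specializes_iff_mem_closure.mpr hwx')) (hA' x' hx' hmax) U hU
      η ?_
    rw [specializes_iff_mem_closure, hη, hx']
    exact hyY₁
  tfae_have 1 → 3 := by
    intro hA U Y₀ hY₀ hyY₀ η hη
    exact Groth.Agent.Lib.Helper55.dim_opens_inter_fibre_le_of_forall f y η
      (fun x' hx' hmax => key hA x' hx' hmax Y₀ hY₀ hyY₀ η hη) U
  tfae_have 3 → 2 := by
    intro hB'' x hx Y₀ hY₀ hyY₀
    refine Groth.Agent.Lib.Helper55.exists_component_of_fibre f y ?_ x hx Y₀ hY₀ hyY₀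
    intro x' hx' _ Y₁ hY₁ hyY₁ η hη U hU
    exact (Groth.Agent.Lib.Helper55.fibreDimAt_le_dim_opens_inter_fibre f U x' hU y hx').trans
      (hB'' U Y₁ hY₁ hyY₁ η hη)
  tfae_finish

end Groth.Agent.S4938
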