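import Groth.Statements.S4939
import Groth.Agent.H72.EquidimStalk
import Groth.Agent.S4918

set_option autoImplicit false
open CategoryTheory AlgebraicGeometry
universe u v w
open EGA43

namespace Groth.Agent.S4939

/-- Suppose Y is a locally Noetherian scheme and f : X ⟶ Y is locally of finite type; take a point x of
X whose image y = f x is geometrically unibranch on Y. Then these three conditions are equivalent:
a) f is equidimensional at x; b) O_{X,x} is an equidimensional local ring, and f is open at every
generic point of an irreducible component of the fibre X_y that contains x; c) O_{X,x} is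
equidimensional, and f is universally open at every such generic point of an irreducible component
of X_y passing through x. (Not formalized here is the additional claim that, when these hold,
restricting f to any reduced irreducible component of X through x gives a morphism equidimensional
at x and universally open at the points of the components of its fibre through x.) -/
theorem result {X Y : Scheme.{u}} [IsLocallyNoetherian Y] (f : X ⟶ Y)
    [LocallyOfFiniteType f] (x : X) (hy : CAlg2.IsGeomUnibranch (Y.presheaf.stalk (f.base x))) :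
    List.TFAE [EGA43.IsEquidimAt f x,
      EGA4.IsEquidim (X.presheaf.stalk x) ∧ (∀ z : ↥(f.fiber (f.base x)), f.asFiber x ∈ closure {z} →
        (∀ z' : ↥(f.fiber (f.base x)), z ∈ closure {z'} → z' = z) → EGA43.IsOpenAt f.base ((f.fiberι (f.base x)).base z)),
      EGA4.IsEquidim (X.presheaf.stalk x) ∧ (∀ z : ↥(f.fiber (f.base x)), f.asFiber x ∈ closure {z} →
        (∀ z' : ↥(f.fiber (f.base x)), z ∈ closure {z'} → z' = z) → EGA43.IsUnivOpenAt f ((f.fiberι (f.base x)).base z))] := by
  have hUO_O : ∀ x : X, EGA43.IsUnivOpenAt f x → EGA43.IsOpenAt f.base x := fun x h =>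
    Groth.Agent.Lib.Helper24.isOpenAt_snd_of_isUnivOpenAt h (IsPullback.id_horiz f) x rfl
  have hYeq : EGA4.IsEquidim (Y.presheaf.stalk (f.base x)) := by
    haveI : IsDomain (CAlg2.red (Y.presheaf.stalk (f.base x))) := hy.1.1
    have hnp : (nilradical (Y.presheaf.stalk (f.base x))).IsPrime :=
      (Ideal.Quotient.isDomain_iff_prime _).mp inferInstance
    obtain ⟨p₀, hp₀, hdim⟩ :=
      Groth.Agent.Lib.Helper55.exists_mem_minimalPrimes_ringKrullDim_quotient_eq Y (f.base x)
    have huniq : ∀ p ∈ minimalPrimes (Y.presheaf.stalk (f.base x)),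
        p = nilradical (Y.presheaf.stalk (f.base x)) := by
      intro p hp
      haveI := hp.1.1
      exact le_antisymm (hp.2 ⟨hnp, bot_le⟩ (nilradical_le_prime p)) (nilradical_le_prime p)
    intro p hp
    rw [huniq p hp, ← huniq _ hp₀]
    exact hdim
  tfae_have 1 → 3 := by
    intro hE
    refine ⟨Groth.Agent.H72.EquidimStalk.isEquidim_stalk_of_isEquidimAt f x hy hE, ?_⟩
    intro z hz hmax
    obtain ⟨e, U, hxU, h1, h2⟩ := hE
    have hzx : (f.fiberι (f.base x)).base z ⤳ x := by
      have := (specializes_iff_mem_closure.mpr hz).map (f.fiberι (f.base x)).continuous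
      rwa [f.fiberι_asFiber] at this
    have hfz : f.base ((f.fiberι (f.base x)).base z) = f.base x := by
      have : (f.fiberι (f.base x)).base z ∈ Set.range (f.fiberι (f.base x)).base := ⟨z, rfl⟩
      rw [f.range_fiberι] at this
      exact this
    have hE' : EGA43.IsEquidimAt f ((f.fiberι (f.base x)).base z) := by
      refine ⟨e, U, hzx.mem_open U.2 hxU, ?_, h2⟩
      intro Z hZ
      obtain ⟨W, hW, hxW, hcl⟩ := h1 Z hZ
      exact ⟨W, hW, by rw [hfz]; exact hxW, hcl⟩
    exact Groth.Agent.H72.Chevalley.isUnivOpenAt_of_isEquidimAt f _ (by rw [hfz]; exact hy) hE'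
  tfae_have 3 → 2 := fun h => ⟨h.1, fun z hz hmax => hUO_O _ (h.2 z hz hmax)⟩
  tfae_have 2 → 1 := fun h => Groth.Agent.S4918.result f x h.1 hYeq h.2
  tfae_finish

end Groth.Agent.S4939
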