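import Groth.Statements.S4942
import Groth.Agent.Lib.Helper24.UnivOpenAtDescent

set_option autoImplicit false
open CategoryTheory AlgebraicGeometry
universe u v w
open EGA43

namespace Groth.Agent.S4942

open Groth.Agent.Lib.Helper24 in
open CategoryTheory.Limits in
/-- Let v : Y₁ ⟶ Y be a universally closed surjective morphism of schemes, f : X ⟶ Y a morphism and x a
point of X. If the base change f₁ : X ×_Y Y₁ ⟶ Y₁ is universally open at every point of X ×_Y Y₁
lying over x, then f is universally open at x. -/
theorem result {X Y Y₁ : Scheme.{u}} (v : Y₁ ⟶ Y)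
    [UniversallyClosed v] [Surjective v] (f : X ⟶ Y) (x : X)
    (h : ∀ x₁ : ↥(pullback f v), (pullback.fst f v).base x₁ = x → EGA43.IsUnivOpenAt (pullback.snd f v) x₁) :
    EGA43.IsUnivOpenAt f x := by
  intro T g t ht
  -- base change of `v` to `T`
  have hvT : IsClosedMap (pullback.snd v g).base := (pullback.snd v g).isClosedMap
  have hvTs : Function.Surjective (pullback.snd v g).base := (pullback.snd v g).surjective
  refine isOpenAt_of_isPullback_of_isClosedMap
    (IsPullback.of_hasPullback (pullback.snd f g) (pullback.snd v g)) hvT hvTs t ?_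
  intro w hw
  -- `W := X_T ×_T (Y₁)_T` is a base change of `X ×_Y Y₁ ⟶ Y₁`
  let top : pullback (pullback.snd f g) (pullback.snd v g) ⟶ pullback f v :=
    pullback.lift (pullback.fst _ _ ≫ pullback.fst f g) (pullback.snd _ _ ≫ pullback.fst v g)
      (by
        rw [Category.assoc, Category.assoc, pullback.condition (f := f), pullback.condition (f := v),
          ← Category.assoc, ← Category.assoc, pullback.condition])
  have htop1 : top ≫ pullback.fst f v = pullback.fst _ _ ≫ pullback.fst f g := pullback.lift_fst _ _ _
  have htop2 : top ≫ pullback.snd f v = pullback.snd _ _ ≫ pullback.fst v g := pullback.lift_snd _ _ _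
  -- the outer rectangle `W ⟶ X_T ⟶ X` over `(Y₁)_T ⟶ T ⟶ Y`
  have outer : IsPullback (pullback.fst (pullback.snd f g) (pullback.snd v g) ≫ pullback.fst f g)
      (pullback.snd (pullback.snd f g) (pullback.snd v g)) f (pullback.snd v g ≫ g) :=
    (IsPullback.of_hasPullback (pullback.snd f g) (pullback.snd v g)).paste_horiz
      (IsPullback.of_hasPullback f g)
  have outer' : IsPullback (top ≫ pullback.fst f v)
      (pullback.snd (pullback.snd f g) (pullback.snd v g)) f (pullback.fst v g ≫ v) := by
    rw [htop1, pullback.condition (f := v)]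
    exact outer
  have sq : IsPullback top (pullback.snd (pullback.snd f g) (pullback.snd v g))
      (pullback.snd f v) (pullback.fst v g) :=
    IsPullback.of_right outer' htop2 (IsPullback.of_hasPullback f v)
  have hpt : (pullback.fst f v).base (top.base w) = x := by
    rw [← Scheme.Hom.comp_apply, htop1, Scheme.Hom.comp_apply, hw, ht]
  exact isOpenAt_snd_of_isUnivOpenAt (h _ hpt) sq w rfl

end Groth.Agent.S4942
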