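import Groth.Statements.S4943
-- import your own Groth.Agent.* helpers here
import Groth.Agent.Lib.Helper55.EquidimSub

set_option autoImplicit false
open CategoryTheory AlgebraicGeometry
universe u v w
open EGA43

namespace Groth.Agent.S4943

theorem localDim_congr_set {T : Type*} [TopologicalSpace T] {A B : Set T} (h : A = B) (x : T)
    (hA : x ∈ A) (hB : x ∈ B) :
    FlatMor.localDim ↥A ⟨x, hA⟩ = FlatMor.localDim ↥B ⟨x, hB⟩ := by
  subst h
  rfl

/-- Let Y be an irreducible locally Noetherian scheme, f : X ⟶ Y a morphism locally of finite type which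
is equidimensional at the point x, y = f x and e = dim_x(X_y). Let X' be an irreducible closed
subset of X containing x, with generic point x', and n a natural number such that codim(X', X) ≤ n
(the codimension being dim O_{X,x'}) and dim_x(X' ∩ X_y) ≤ e − n. Then codim(X', X) = n, dim_x(X' ∩
X_y) = e − n, and the restriction of f to X' with its reduced subscheme structure is equidimensional
at x. -/
theorem result {X Y : Scheme.{u}} [IrreducibleSpace Y]
    [IsLocallyNoetherian Y] (f : X ⟶ Y) [LocallyOfFiniteType f] (x : X) (hf : EGA43.IsEquidimAt f x)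
    (X' : TopologicalSpace.Closeds X) (x' : X) (hx' : closure ({x'} : Set X) = (X' : Set X)) (hx : x ∈ X') (n : ℕ)
    (hcodim : ringKrullDim (X.presheaf.stalk x') ≤ n)
    (hdim : FlatMor.localDim ↥((X' : Set X) ∩ f.base ⁻¹' {f.base x}) ⟨x, ⟨hx, rfl⟩⟩ + n ≤ FlatMor.fibreDimAt f x) :
    ringKrullDim (X.presheaf.stalk x') = n ∧
      FlatMor.localDim ↥((X' : Set X) ∩ f.base ⁻¹' {f.base x}) ⟨x, ⟨hx, rfl⟩⟩ + n = FlatMor.fibreDimAt f x ∧
      ∀ w : ↥(Scheme.IdealSheafData.vanishingIdeal X').subscheme,
        (Scheme.IdealSheafData.vanishingIdeal X').subschemeι.base w = x →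
        EGA43.IsEquidimAt ((Scheme.IdealSheafData.vanishingIdeal X').subschemeι ≫ f) w := by
  have hrX : Set.range (Scheme.IdealSheafData.vanishingIdeal X').subschemeι = (X' : Set X) := by
    rw [Scheme.IdealSheafData.range_subschemeι, Scheme.IdealSheafData.coe_support_vanishingIdeal]
  have hirr : IsIrreducible (X' : Set X) := by
    rw [← hx']
    exact isIrreducible_singleton.closure
  have hiX : IrreducibleSpace ↥(Scheme.IdealSheafData.vanishingIdeal X').subscheme :=
    Lib.Helper55.irreducibleSpace_of_isEmbedding _
      (Scheme.IdealSheafData.vanishingIdeal X').subschemeι.isEmbedding (by rw [hrX]; exact hirr)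
  -- the generic point
  have hgen : (Scheme.IdealSheafData.vanishingIdeal X').subschemeι
      (genericPoint ↥(Scheme.IdealSheafData.vanishingIdeal X').subscheme) = x' := by
    have h1 : closure ({(Scheme.IdealSheafData.vanishingIdeal X').subschemeι
        (genericPoint ↥(Scheme.IdealSheafData.vanishingIdeal X').subscheme)} : Set X) =
        (X' : Set X) := by
      have := (Scheme.IdealSheafData.vanishingIdeal X').subschemeι.isClosedEmbedding.closure_image_eq
        ({genericPoint ↥(Scheme.IdealSheafData.vanishingIdeal X').subscheme} : Set _)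
      rw [Set.image_singleton, (genericPoint_spec _).def, Set.image_univ, hrX] at this
      exact this
    have hg1 : IsGenericPoint ((Scheme.IdealSheafData.vanishingIdeal X').subschemeι
        (genericPoint ↥(Scheme.IdealSheafData.vanishingIdeal X').subscheme)) (X' : Set X) := h1
    have hg2 : IsGenericPoint x' (X' : Set X) := hx'
    exact hg1.eq hg2
  subst hgen
  have hxr : x ∈ Set.range (Scheme.IdealSheafData.vanishingIdeal X').subschemeι := by
    rw [hrX]; exact hx
  obtain ⟨w, rfl⟩ := hxr
  have hL := Lib.Helper55.fibreDimAt_preimmersion_comp_eq f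
    (Scheme.IdealSheafData.vanishingIdeal X').subschemeι w
  have hrX' : Set.range (Scheme.IdealSheafData.vanishingIdeal X').subschemeι ∩
      f ⁻¹' {f ((Scheme.IdealSheafData.vanishingIdeal X').subschemeι w)} =
      (X' : Set X) ∩ f.base ⁻¹' {f.base ((Scheme.IdealSheafData.vanishingIdeal X').subschemeι.base w)} := by
    rw [hrX]
  rw [localDim_congr_set hrX' _ _ ⟨hx, rfl⟩] at hL
  rw [← hL] at hdim ⊢
  obtain ⟨r1, r2, r3⟩ := Lib.Helper55.equidim_sub f
    (Scheme.IdealSheafData.vanishingIdeal X').subschemeι w hf n hcodim hdim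
  refine ⟨r1, r2, ?_⟩
  intro w' hw'
  have : w' = w := (Scheme.IdealSheafData.vanishingIdeal X').subschemeι.isEmbedding.injective hw'
  rw [this]
  exact r3

end Groth.Agent.S4943
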