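import Groth.Statements.S4945
import Groth.Agent.H72.Chev45d

set_option autoImplicit false
open CategoryTheory AlgebraicGeometry
universe u v w
open EGA43

namespace Groth.Agent.S4945

/-- Let Y be an irreducible locally Noetherian scheme with generic point η, f : X ⟶ Y a morphism locally
of finite type and y a geometrically unibranch point of Y. The following are equivalent: a) f is
universally open at every point of X_y; b) f is open at every point of X_y; c) for every maximal
point z of X_y there is an irreducible component Z of X containing z and dominating Y with dim_z(Z ∩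
X_y) = dim(Z ∩ X_η); d) for every point x closed in X_y there are an irreducible reduced scheme T
and an immersion T ⟶ X with image containing x such that T ⟶ Y is quasi-finite and dominant. -/
theorem result {X Y : Scheme.{u}} [IrreducibleSpace Y]
    [IsLocallyNoetherian Y] (f : X ⟶ Y) [LocallyOfFiniteType f] (y : Y) (hy : CAlg2.IsGeomUnibranch (Y.presheaf.stalk y)) :
    List.TFAE [∀ x : X, f.base x = y → EGA43.IsUnivOpenAt f x,
      ∀ x : X, f.base x = y → EGA43.IsOpenAt f.base x,
      ∀ z : X, ∀ hzy : f.base z = y, (∀ z' : X, f.base z' = y → z ∈ closure {z'} → z' = z) →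
        ∃ Z ∈ irreducibleComponents (X : Type u), ∃ hz : z ∈ Z, Dense (f.base '' Z) ∧
          FlatMor.localDim ↥(Z ∩ f.base ⁻¹' {y}) ⟨z, ⟨hz, hzy⟩⟩ = topologicalKrullDim ↥(Z ∩ f.base ⁻¹' {genericPoint Y}),
      ∀ x : X, f.base x = y → (∀ x' : X, f.base x' = y → x ⤳ x' → x' = x) →
        ∃ (T : Scheme.{u}) (i : T ⟶ X), IsImmersion i ∧ IrreducibleSpace ↥T ∧ IsReduced T ∧ x ∈ Set.range i.base ∧
        LocallyOfFiniteType (i ≫ f) ∧ LocallyQuasiFinite (i ≫ f) ∧ QuasiCompact (i ≫ f) ∧ IsDominant (i ≫ f)] := by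
  have hUO_O : ∀ x : X, EGA43.IsUnivOpenAt f x → EGA43.IsOpenAt f.base x := fun x h =>
    Groth.Agent.Lib.Helper24.isOpenAt_snd_of_isUnivOpenAt h (IsPullback.id_horiz f) x rfl
  tfae_have 1 → 2 := fun h x hx => hUO_O x (h x hx)
  tfae_have 2 → 1 := by
    intro h x hx
    apply Groth.Agent.H72.UOMaximal.isUnivOpenAt_of_forall_maximal
    intro w hfw hwx hmaxw
    refine Groth.Agent.H72.OpenUO.isUnivOpenAt_of_isOpenAt f w
      (fun w₁ h1 h2 => hmaxw w₁ (h1.trans hfw) h2) ?_ (h w (hfw.trans hx))
    rw [hfw, hx]; exact hy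
  tfae_have 2 → 3 := by
    intro h z hzy hmax
    subst hzy
    apply Groth.Agent.H72.Chev45.exists_component_of_isOpenAt f z ?_ (h z rfl)
    intro w hw hwz
    exact hmax w hw (specializes_iff_mem_closure.mp hwz)
  tfae_have 3 → 1 := by
    intro h x hx
    apply Groth.Agent.H72.UOMaximal.isUnivOpenAt_of_forall_maximal
    intro w hfw hwx hmaxw
    have hwy : f.base w = y := hfw.trans hx
    subst hwy
    obtain ⟨Z, hZ, hz, hdense, hdim⟩ := h w rfl
      (fun z' hz' hmem => hmaxw z' (hz'.trans hfw) (specializes_iff_mem_closure.mpr hmem))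
    exact Groth.Agent.H72.Chev45.isUnivOpenAt_of_component f w hy Z hZ hz hdense hdim
  tfae_have 2 → 4 := by
    intro h x hx hcl
    subst hx
    exact Groth.Agent.H72.Chev45d.hasQuasiSection_of_isOpenAt f x hcl h
  tfae_have 4 → 2 := by
    intro h x hx
    subst hx
    apply Groth.Agent.H72.Chev45.isOpenAt_of_forall_closed f x
    intro x₀ hfx₀ hcl₀
    obtain ⟨T, i, h1, h2, h3, h4, h5, h6, h7, h8⟩ := h x₀ hfx₀ hcl₀
    haveI := h2; haveI := h5; haveI := h6; haveI := h8
    apply hUO_O
    exact Groth.Agent.H72.Chev45.isUnivOpenAt_of_quasiSection f x₀ (by rw [hfx₀]; exact hy) T i h4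
  tfae_finish

end Groth.Agent.S4945
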