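import Groth.Statements.S4946
import Groth.Agent.H72.QuasiSectionDim1

set_option autoImplicit false
open CategoryTheory AlgebraicGeometry
universe u v w
open EGA43

namespace Groth.Agent.S4946

/-- Let Y be an irreducible locally Noetherian scheme which is regular of dimension 1 (all local rings
regular of dimension at most 1), f : X ⟶ Y a morphism locally of finite type and y a point of Y.
Then the following are equivalent: d) every irreducible component of X meeting the fibre X_y
dominates Y; e) for every point x closed in X_y and every irreducible component X_i of X containing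
x, there are an irreducible reduced scheme T and an immersion T ⟶ X with image containing x and
contained in X_i, such that T ⟶ Y is quasi-finite and dominant. -/
theorem result {X Y : Scheme.{u}} [IrreducibleSpace Y]
    [IsLocallyNoetherian Y] (hY : ∀ y : Y, IsRegularLocalRing (Y.presheaf.stalk y) ∧ ringKrullDim (Y.presheaf.stalk y) ≤ 1)
    (f : X ⟶ Y) [LocallyOfFiniteType f] (y : Y) :
    (∀ Z ∈ irreducibleComponents (X : Type u), (Z ∩ f.base ⁻¹' {y}).Nonempty → Dense (f.base '' Z)) ↔
      ∀ x : X, f.base x = y → (∀ x' : X, f.base x' = y → x ⤳ x' → x' = x) →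
        ∀ Xi ∈ irreducibleComponents (X : Type u), x ∈ Xi →
          ∃ (T : Scheme.{u}) (i : T ⟶ X), IsImmersion i ∧ IrreducibleSpace ↥T ∧ IsReduced T ∧ x ∈ Set.range i.base ∧
            Set.range i.base ⊆ Xi ∧
            LocallyOfFiniteType (i ≫ f) ∧ LocallyQuasiFinite (i ≫ f) ∧ QuasiCompact (i ≫ f) ∧ IsDominant (i ≫ f) := by
  constructor
  · intro hd x hx hcl Xi hXi hxXi
    subst hx
    have hdense := hd Xi hXi ⟨x, hxXi, rfl⟩
    have hXicl : IsClosed Xi := isClosed_of_mem_irreducibleComponents Xi hXi
    obtain ⟨Zc, hZc⟩ : ∃ Zc : TopologicalSpace.Closeds X, (Zc : Set X) = Xi :=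
      ⟨⟨Xi, hXicl⟩, rfl⟩
    have hrange : Set.range (Scheme.IdealSheafData.vanishingIdeal Zc).subschemeι.base = Xi := by
      rw [Scheme.IdealSheafData.range_subschemeι,
        Scheme.IdealSheafData.coe_support_vanishingIdeal, hZc]
    haveI : IrreducibleSpace ↥(Scheme.IdealSheafData.vanishingIdeal Zc).subscheme :=
      Groth.Agent.H72.NormalBir.irreducibleSpace_vanishingIdeal_subscheme Zc
        (by rw [hZc]; exact hXi.1)
    obtain ⟨x₁, hx₁⟩ : x ∈ Set.range (Scheme.IdealSheafData.vanishingIdeal Zc).subschemeι.base := by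
      rw [hrange]; exact hxXi
    obtain ⟨ξ, hξ⟩ := QuasiSober.sober hXi.1 hXicl
    have hgp : (Scheme.IdealSheafData.vanishingIdeal Zc).subschemeι.base
        (genericPoint ↥(Scheme.IdealSheafData.vanishingIdeal Zc).subscheme) = ξ := by
      have h1 : IsGenericPoint ((Scheme.IdealSheafData.vanishingIdeal Zc).subschemeι.base
          (genericPoint ↥(Scheme.IdealSheafData.vanishingIdeal Zc).subscheme))
          (closure ((Scheme.IdealSheafData.vanishingIdeal Zc).subschemeι.base '' Set.univ)) :=
        (genericPoint_spec _).image (Scheme.IdealSheafData.vanishingIdeal Zc).subschemeι.continuous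
      rw [Set.image_univ, hrange, hXicl.closure_eq] at h1
      exact h1.eq hξ
    have hfξ : f.base ξ = genericPoint Y := by
      have h1 : closure ({f.base ξ} : Set Y) = Set.univ := by
        rw [← Groth.Agent.Lib.Helper55.closure_image_eq_of_isGenericPoint f Xi ξ hξ]
        exact dense_iff_closure_eq.mp hdense
      exact (show IsGenericPoint (f.base ξ) Set.univ from h1).eq (genericPoint_spec Y)
    have hgen : ((Scheme.IdealSheafData.vanishingIdeal Zc).subschemeι ≫ f).base
        (genericPoint ↥(Scheme.IdealSheafData.vanishingIdeal Zc).subscheme) = genericPoint Y := by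
      rw [Scheme.Hom.comp_apply, hgp, hfξ]
    have hcl₁ : ∀ w' : ↥(Scheme.IdealSheafData.vanishingIdeal Zc).subscheme,
        ((Scheme.IdealSheafData.vanishingIdeal Zc).subschemeι ≫ f).base w' =
          ((Scheme.IdealSheafData.vanishingIdeal Zc).subschemeι ≫ f).base x₁ →
        x₁ ⤳ w' → w' = x₁ := by
      intro w' hfw' hsp
      apply (Scheme.IdealSheafData.vanishingIdeal Zc).subschemeι.isEmbedding.injective
      rw [hx₁]
      apply hcl
      · rw [Scheme.Hom.comp_apply, Scheme.Hom.comp_apply, hx₁] at hfw'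
        exact hfw'
      · have := hsp.map (Scheme.IdealSheafData.vanishingIdeal Zc).subschemeι.continuous
        rwa [hx₁] at this
    obtain ⟨T, i, h1, h2, h3, ⟨t, ht⟩, h5, h6, h7, h8⟩ :=
      Groth.Agent.H72.QuasiSectionDim1.hasQuasiSection_of_irreducible hY
        ((Scheme.IdealSheafData.vanishingIdeal Zc).subschemeι ≫ f) hgen x₁ hcl₁
    refine ⟨T, i ≫ (Scheme.IdealSheafData.vanishingIdeal Zc).subschemeι, inferInstance, h2, h3,
      ⟨t, ?_⟩, ?_, ?_, ?_, ?_, ?_⟩
    · rw [Scheme.Hom.comp_apply, ht, hx₁]
    · rintro _ ⟨t', rfl⟩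
      rw [Scheme.Hom.comp_apply, ← hrange]
      exact ⟨_, rfl⟩
    · rw [Category.assoc]; exact h5
    · rw [Category.assoc]; exact h6
    · rw [Category.assoc]; exact h7
    · rw [Category.assoc]; exact h8
  · rintro he Z hZ ⟨p, hpZ, hpy⟩
    have hpy' : f.base p = y := hpy
    have hZcl : IsClosed Z := isClosed_of_mem_irreducibleComponents Z hZ
    -- a point of `Z` closed in the fibre
    have hZ'cl : IsClosed ((f.fiberι y).base ⁻¹' Z) := hZcl.preimage (f.fiberι y).continuous
    have hJ := closure_inter_closedPoints hZ'cl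
    obtain ⟨p', hp'⟩ : p ∈ Set.range (f.fiberι y).base := by
      rw [f.range_fiberι]; exact hpy'
    have hne : ((f.fiberι y).base ⁻¹' Z ∩ closedPoints ↥(f.fiber y)).Nonempty := by
      by_contra hempty
      rw [Set.not_nonempty_iff_eq_empty] at hempty
      rw [hempty, closure_empty] at hJ
      have : p' ∈ (f.fiberι y).base ⁻¹' Z := by
        change (f.fiberι y).base p' ∈ Z
        rw [hp']; exact hpZ
      rw [← hJ] at this
      exact this
    obtain ⟨b, hbZ, hbcl⟩ := hne
    obtain ⟨x, hx⟩ : ∃ x, (f.fiberι y).base b = x := ⟨_, rfl⟩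
    have hfx : f.base x = y := by
      have : x ∈ Set.range (f.fiberι y).base := ⟨b, hx⟩
      rw [f.range_fiberι] at this
      exact this
    have hxZ : x ∈ Z := by rw [← hx]; exact hbZ
    have hclosed : ∀ x' : X, f.base x' = y → x ⤳ x' → x' = x := by
      intro x' hfx' hsp
      have hx'r : x' ∈ Set.range (f.fiberι y).base := by
        rw [f.range_fiberι]; exact hfx'
      obtain ⟨b', rfl⟩ := hx'r
      have hbb' : b ⤳ b' := by
        apply (f.fiberι y).isEmbedding.toIsInducing.specializes_iff.mp
        rw [hx]; exact hsp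
      have hb'mem : b' ∈ closure ({b} : Set ↥(f.fiber y)) :=
        specializes_iff_mem_closure.mp hbb'
      have hbc : IsClosed ({b} : Set ↥(f.fiber y)) := hbcl
      rw [hbc.closure_eq] at hb'mem
      rw [Set.mem_singleton_iff.mp hb'mem, hx]
    obtain ⟨T, i, h1, h2, h3, h4, hsub, h5, h6, h7, h8⟩ := he x hfx hclosed Z hZ hxZ
    have hdr : DenseRange (i ≫ f).base := Scheme.Hom.denseRange (i ≫ f)
    refine Dense.mono ?_ hdr
    rintro _ ⟨t, rfl⟩
    exact ⟨i.base t, hsub ⟨t, rfl⟩, by rw [Scheme.Hom.comp_apply]⟩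

end Groth.Agent.S4946
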