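import Groth.Statements.S4951
import Mathlib.Topology.GDelta.Basic
import Mathlib.Topology.Connected.Clopen

set_option autoImplicit false
universe u
open EGA43

namespace Groth.Agent.S4951

open Topology TopologicalSpace

/-- In a locally Noetherian quasi-sober space, a point of the closure of an open set has a
generization lying in that open set. -/
theorem exists_specializes_of_mem_closure_of_isOpen {X : Type u} [TopologicalSpace X] [QuasiSober X]
    (hloc : ∀ x : X, ∃ U ∈ nhds x, NoetherianSpace ↥U)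
    {A : Set X} (hA : IsOpen A) {η : X} (hη : η ∈ closure A) : ∃ a ∈ A, a ⤳ η := by
  obtain ⟨O', hO', hO'N⟩ := hloc η
  -- an open Noetherian neighbourhood
  obtain ⟨O, hOO', hO, hηO⟩ := mem_nhds_iff.mp hO'
  have hON : NoetherianSpace ↥O := by
    rw [noetherianSpace_set_iff] at hO'N ⊢
    exact fun t ht => hO'N t (ht.trans hOO')
  have hOqs : QuasiSober ↥O := hO.isOpenEmbedding_subtypeVal.quasiSober
  let η' : ↥O := ⟨η, hηO⟩
  let A' : Set ↥O := Subtype.val ⁻¹' A
  have hA' : IsOpen A' := hA.preimage continuous_subtype_val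
  have hη' : η' ∈ closure A' := by
    rw [closure_subtype]
    have : Subtype.val '' A' = A ∩ O := by
      rw [Subtype.image_preimage_coe, Set.inter_comm]
    rw [this]
    exact hO.closure_inter ⟨hη, hηO⟩
  obtain ⟨S, hSf, hSc, hSi, hSU⟩ :=
    NoetherianSpace.exists_finite_set_isClosed_irreducible (isClosed_closure (s := A'))
  -- the union of the members meeting `A'` is closed and contains `A'`
  let S' : Set (Set ↥O) := {Y ∈ S | (Y ∩ A').Nonempty}
  have hS'f : S'.Finite := hSf.subset fun Y hY => hY.1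
  have hW : IsClosed (⋃₀ S') := by
    rw [Set.sUnion_eq_biUnion]
    exact hS'f.isClosed_biUnion fun Y hY => hSc Y hY.1
  have hAW : A' ⊆ ⋃₀ S' := by
    intro a ha
    have : a ∈ ⋃₀ S := hSU ▸ subset_closure ha
    obtain ⟨Y, hY, haY⟩ := this
    exact ⟨Y, ⟨hY, a, haY, ha⟩, haY⟩
  have : η' ∈ ⋃₀ S' := (hW.closure_subset_iff.mpr hAW) hη'
  obtain ⟨Y, ⟨hYS, hYA⟩, hηY⟩ := this
  obtain ⟨ξ, hξ⟩ := QuasiSober.sober (hSi Y hYS) (hSc Y hYS)
  have hξA : ξ ∈ A' := (hξ.mem_open_set_iff hA').mpr hYA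
  have hξη : ξ ⤳ η' := hξ.specializes hηY
  exact ⟨ξ.1, hξA, (subtype_specializes_iff ξ η').mp hξη⟩

/-- In a quasi-sober T₀ space, a nonempty closed subset has a point with no proper generization
in the subset. -/
theorem exists_maximal_point {X : Type u} [TopologicalSpace X] [QuasiSober X] [T0Space X]
    {C : Set X} (hC : IsClosed C) (hne : C.Nonempty) :
    ∃ η ∈ C, ∀ x' ∈ C, x' ⤳ η → x' = η := by
  obtain ⟨x₀, hx₀⟩ := hne
  have hCqs : QuasiSober ↥C := hC.isClosedEmbedding_subtypeVal.quasiSober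
  obtain ⟨ξ, hξ⟩ := QuasiSober.sober (isIrreducible_irreducibleComponent (x := (⟨x₀, hx₀⟩ : ↥C)))
    isClosed_irreducibleComponent
  refine ⟨ξ.1, ξ.2, fun x' hx' hspec => ?_⟩
  have hspec' : (⟨x', hx'⟩ : ↥C) ⤳ ξ := (subtype_specializes_iff _ _).mpr hspec
  -- closure of `x'` in `C` is irreducible and contains the component
  have hsub : irreducibleComponent (⟨x₀, hx₀⟩ : ↥C) ⊆ closure {(⟨x', hx'⟩ : ↥C)} := by
    rw [← hξ.def]
    exact closure_minimal (Set.singleton_subset_iff.mpr (specializes_iff_mem_closure.mp hspec'))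
      isClosed_closure
  have heq := eq_irreducibleComponent (isIrreducible_singleton.closure.isPreirreducible) hsub
  have hx'mem : (⟨x', hx'⟩ : ↥C) ∈ irreducibleComponent (⟨x₀, hx₀⟩ : ↥C) := by
    rw [← heq]; exact subset_closure rfl
  have hspec'' : ξ ⤳ (⟨x', hx'⟩ : ↥C) := hξ.specializes hx'mem
  have : (⟨x', hx'⟩ : ↥C) = ξ := (hspec'.antisymm hspec'').eq
  exact congrArg Subtype.val this

/-- Let X be a locally Noetherian topological space in which every irreducible closed subset has a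
unique generic point (X quasi-sober and T₀), and Z a closed nowhere dense subset of X such that for
every point x of Z the set of generizations of x distinct from x is connected (possibly empty). If X
is connected, then X − Z is connected. (Uniqueness of generic points, automatic for the underlying
space of a scheme, is needed: in the four-point space {u, v, z₁, z₂} whose open sets are ∅, {u},
{v}, {u, v} and the whole space, the closed nowhere dense set Z = {z₁, z₂} satisfies the hypothesis,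
since z₂ is a generization of z₁ and conversely, yet X − Z = {u, v} is not connected.) -/
theorem result {X : Type u} [TopologicalSpace X]
    [QuasiSober X] [T0Space X] (hloc : ∀ x : X, ∃ U ∈ nhds x, TopologicalSpace.NoetherianSpace ↥U) [ConnectedSpace X]
    (Z : Set X) (hZ : IsClosed Z) (hZn : IsNowhereDense Z)
    (hgen : ∀ x ∈ Z, IsPreconnected ({x' : X | x' ⤳ x} \ {x})) :
    IsConnected Zᶜ := by
  have hdense : Dense Zᶜ := (isClosed_isNowhereDense_iff_compl.mp ⟨hZ, hZn⟩).2
  have hopen : IsOpen Zᶜ := hZ.isOpen_compl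
  refine ⟨hdense.nonempty, ?_⟩
  rw [isPreconnected_iff_subset_of_disjoint]
  intro u v hu hv huv hdisj
  by_contra hcon
  rw [not_or] at hcon
  obtain ⟨hnu, hnv⟩ := hcon
  obtain ⟨A, hA⟩ : ∃ A : Set X, A = Zᶜ ∩ u := ⟨_, rfl⟩
  obtain ⟨B, hB⟩ : ∃ B : Set X, B = Zᶜ ∩ v := ⟨_, rfl⟩
  have hAo : IsOpen A := hA ▸ hopen.inter hu
  have hBo : IsOpen B := hB ▸ hopen.inter hv
  have hAB : A ∪ B = Zᶜ := by
    rw [hA, hB, ← Set.inter_union_distrib_left]
    exact Set.inter_eq_left.mpr huv
  have hABd : A ∩ B = ∅ := by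
    rw [hA, hB, ← Set.inter_inter_distrib_left]
    exact hdisj
  have hAZ : A ⊆ Zᶜ := hA ▸ Set.inter_subset_left
  have hBZ : B ⊆ Zᶜ := hB ▸ Set.inter_subset_left
  obtain ⟨a₀, ha₀⟩ : A.Nonempty := by
    obtain ⟨z, hz, hzv⟩ := Set.not_subset.mp hnv
    rcases huv hz with h | h
    · exact ⟨z, hA ▸ ⟨hz, h⟩⟩
    · exact absurd h hzv
  obtain ⟨b₀, hb₀⟩ : B.Nonempty := by
    obtain ⟨z, hz, hzu⟩ := Set.not_subset.mp hnu
    rcases huv hz with h | h
    · exact absurd h hzu
    · exact ⟨z, hB ▸ ⟨hz, h⟩⟩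
  have hcl : closure A ∪ closure B = Set.univ := by
    rw [← closure_union, hAB, hdense.closure_eq]
  have hX : IsPreconnected (Set.univ : Set X) := isPreconnected_univ
  obtain ⟨x₀, -, hx₀A, hx₀B⟩ := isPreconnected_closed_iff.mp hX (closure A) (closure B)
    isClosed_closure isClosed_closure (by rw [hcl]) ⟨a₀, trivial, subset_closure ha₀⟩
    ⟨b₀, trivial, subset_closure hb₀⟩
  have hCZ : closure A ∩ closure B ⊆ Z := by
    rintro x ⟨hxA, hxB⟩
    by_contra hxZ
    have hx : x ∈ A ∪ B := hAB ▸ hxZ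
    rcases hx with h | h
    · have := mem_closure_iff.mp hxB A hAo h
      rw [hABd] at this
      exact Set.not_nonempty_empty this
    · have := mem_closure_iff.mp hxA B hBo h
      rw [Set.inter_comm, hABd] at this
      exact Set.not_nonempty_empty this
  obtain ⟨η, hηC, hηmax⟩ := exists_maximal_point (isClosed_closure.inter isClosed_closure)
    (⟨x₀, hx₀A, hx₀B⟩ : (closure A ∩ closure B).Nonempty)
  have hηZ : η ∈ Z := hCZ hηC
  obtain ⟨a, haA, haη⟩ := exists_specializes_of_mem_closure_of_isOpen hloc hAo hηC.1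
  obtain ⟨b, hbB, hbη⟩ := exists_specializes_of_mem_closure_of_isOpen hloc hBo hηC.2
  have hG := hgen η hηZ
  have haG : a ∈ {x' : X | x' ⤳ η} \ {η} := ⟨haη, fun h => hAZ haA (h ▸ hηZ)⟩
  have hbG : b ∈ {x' : X | x' ⤳ η} \ {η} := ⟨hbη, fun h => hBZ hbB (h ▸ hηZ)⟩
  obtain ⟨g, hgG, hgA, hgB⟩ := isPreconnected_closed_iff.mp hG (closure A) (closure B)
    isClosed_closure isClosed_closure (by rw [hcl]; exact Set.subset_univ _)
    ⟨a, haG, subset_closure haA⟩ ⟨b, hbG, subset_closure hbB⟩
  exact hgG.2 (hηmax g ⟨hgA, hgB⟩ hgG.1)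

end Groth.Agent.S4951
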