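import Groth.Statements.S4954
import Groth.Agent.Lib.Helper55.ChevalleyBound
import Groth.Agent.Lib.Helper55.Equidim

set_option autoImplicit false
open CategoryTheory AlgebraicGeometry
universe u v w
open EGA43

namespace Groth.Agent.S4954

/-- Irreducibility descends along images under inducing maps. -/
theorem isIrreducible_of_image {A B : Type*} [TopologicalSpace A] [TopologicalSpace B]
    (e : A → B) (he : Topology.IsInducing e) (S : Set A) (h : IsIrreducible (e '' S)) :
    IsIrreducible S := by
  refine ⟨h.1.of_image, ?_⟩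
  intro u v hu hv ⟨a, haS, hau⟩ ⟨b, hbS, hbv⟩
  obtain ⟨u', hu', rfl⟩ := he.isOpen_iff.mp hu
  obtain ⟨v', hv', rfl⟩ := he.isOpen_iff.mp hv
  obtain ⟨_, ⟨c, hcS, rfl⟩, hcu, hcv⟩ :=
    h.2 u' v' hu' hv' ⟨e a, ⟨a, haS, rfl⟩, hau⟩ ⟨e b, ⟨b, hbS, rfl⟩, hbv⟩
  exact ⟨c, hcS, hcu, hcv⟩

open Groth.Agent.Lib.Helper55 in
/-- If the connected component of the fibre through `x` is irreducible, its dimension is the local
fibre dimension at `x`. -/
theorem dim_connectedComponentIn_fibre_eq {X Y : Scheme.{u}} (f : X ⟶ Y) [LocallyOfFiniteType f]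
    (x : X) (hirr : IsIrreducible (connectedComponentIn (f ⁻¹' {f x}) x)) :
    topologicalKrullDim ↥(connectedComponentIn (f ⁻¹' {f x}) x) = FlatMor.fibreDimAt f x := by
  set z := f.asFiber x with hz
  have hxF : x ∈ f ⁻¹' {f x} := rfl
  have hφz : f.fiberHomeo (f x) z = ⟨x, hxF⟩ := Subtype.ext (f.fiberι_asFiber x)
  have hCeq : connectedComponentIn (f ⁻¹' {f x}) x = f.fiberι (f x) '' connectedComponent z := by
    rw [connectedComponentIn_eq_image hxF, ← hφz]
    have h1 := (f.fiberHomeo (f x)).image_connectedComponentIn (Set.mem_univ z)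
    rw [Set.image_univ, Set.range_eq_univ.mpr (f.fiberHomeo (f x)).surjective,
      connectedComponentIn_univ, connectedComponentIn_univ] at h1
    rw [← h1, Set.image_image]
    rfl
  have hCC : IsIrreducible (connectedComponent z) := by
    apply isIrreducible_of_image (f.fiberι (f x)) (f.fiberι (f x)).isEmbedding.isInducing
    rw [← hCeq]
    exact hirr
  have hlft : LocallyOfFiniteType (f.fiberToSpecResidueField (f x)) :=
    MorphismProperty.pullback_snd (P := @LocallyOfFiniteType) _ _ inferInstance
  obtain ⟨ξ, hξcomp, hξz, hξdim⟩ := exists_mem_irreducibleComponents_dim_eq_localDim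
    (k := ↑(Y.residueField (f x))) (f.fiberToSpecResidueField (f x)) z
  have h1 : closure ({ξ} : Set ↥(f.fiber (f x))) ⊆ connectedComponent z :=
    (isIrreducible_singleton.closure.isPreirreducible.isPreconnected).subset_connectedComponent
      (specializes_iff_mem_closure.mp hξz)
  have h2 : connectedComponent z ⊆ closure ({ξ} : Set ↥(f.fiber (f x))) := hξcomp.2 hCC h1
  have h3 : connectedComponent z = closure ({ξ} : Set ↥(f.fiber (f x))) := h2.antisymm h1
  have hemb : Topology.IsEmbedding
      (fun t : ↥(connectedComponent z) => f.fiberι (f x) (t : ↥(f.fiber (f x)))) :=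
    (f.fiberι (f x)).isEmbedding.comp Topology.IsEmbedding.subtypeVal
  have hrange : Set.range
      (fun t : ↥(connectedComponent z) => f.fiberι (f x) (t : ↥(f.fiber (f x)))) =
      f.fiberι (f x) '' connectedComponent z := by
    ext p
    constructor
    · rintro ⟨t, rfl⟩
      exact ⟨t.1, t.2, rfl⟩
    · rintro ⟨t, ht, rfl⟩
      exact ⟨⟨t, ht⟩, rfl⟩
  have h4 : topologicalKrullDim ↥(connectedComponent z) =
      topologicalKrullDim ↥(f.fiberι (f x) '' connectedComponent z) := by
    rw [← hrange]
    exact IsHomeomorph.topologicalKrullDim_eq _ hemb.toHomeomorph.isHomeomorph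
  rw [hCeq, ← h4, h3, hξdim]
  rfl
/-- Let f : X ⟶ Y be a morphism of finite presentation with a section g : Y ⟶ X, and for y in Y let
X_y^0 be the connected component of f⁻¹(y) containing g y. Suppose that every X_y^0 is geometrically
irreducible over κ(y) (its preimage in X_y ⊗ K is irreducible for every field extension K of κ(y)).
Then the function y ↦ dim X_y^0 is upper semicontinuous on Y. -/
theorem result {X Y : Scheme.{u}} (f : X ⟶ Y)
    [LocallyOfFinitePresentation f] [QuasiCompact f] [QuasiSeparated f] (g : Y ⟶ X) (hg : g ≫ f = 𝟙 Y)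
    (hirr : ∀ y : Y, (∀ (K : Type u) [Field K] [Algebra (IsLocalRing.ResidueField (Y.presheaf.stalk y)) K],
        IsIrreducible ((FBase.bcπ (f.fiberToSpecResidueField y) K ≫ f.fiberι y).base ⁻¹' connectedComponentIn (f.base ⁻¹' {y}) (g.base y)))) :
    UpperSemicontinuous (fun y : Y => topologicalKrullDim ↥(connectedComponentIn (f.base ⁻¹' {y}) (g.base y))) := by
  have hlft : LocallyOfFiniteType f := inferInstance
  have hfg : ∀ y : Y, f (g y) = y := fun y => by
    have := congr(($hg) y)
    exact this
  have hirr' : ∀ y : Y, IsIrreducible (connectedComponentIn (f ⁻¹' {y}) (g y)) := by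
    intro y
    have h := hirr y (IsLocalRing.ResidueField (Y.presheaf.stalk y))
    have hsurj : Function.Surjective (FBase.bcπ (f.fiberToSpecResidueField y)
        (IsLocalRing.ResidueField (Y.presheaf.stalk y))) := by
      have hs : Surjective (Spec.map (CommRingCat.ofHom (algebraMap
          (IsLocalRing.ResidueField (Y.presheaf.stalk y))
          (IsLocalRing.ResidueField (Y.presheaf.stalk y))))) :=
        ⟨fun x => ⟨IsLocalRing.closedPoint _, Subsingleton.elim _ _⟩⟩
      have hs' : Surjective (Limits.pullback.fst (f.fiberToSpecResidueField y)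
          (Spec.map (CommRingCat.ofHom (algebraMap
            (IsLocalRing.ResidueField (Y.presheaf.stalk y))
            (IsLocalRing.ResidueField (Y.presheaf.stalk y)))))) := inferInstance
      exact hs'.surj
    have himg := h.image (FBase.bcπ (f.fiberToSpecResidueField y)
      (IsLocalRing.ResidueField (Y.presheaf.stalk y)) ≫ f.fiberι y)
      (FBase.bcπ (f.fiberToSpecResidueField y)
      (IsLocalRing.ResidueField (Y.presheaf.stalk y)) ≫ f.fiberι y).continuous.continuousOn
    have hrange : Set.range (FBase.bcπ (f.fiberToSpecResidueField y)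
        (IsLocalRing.ResidueField (Y.presheaf.stalk y)) ≫ f.fiberι y) = f ⁻¹' {y} := by
      rw [Scheme.Hom.comp_base, TopCat.coe_comp, Set.range_comp, Set.range_eq_univ.mpr hsurj,
        Set.image_univ, f.range_fiberι]
    rw [Set.image_preimage_eq_inter_range, hrange,
      Set.inter_eq_left.mpr (connectedComponentIn_subset _ _)] at himg
    exact himg
  have hdim : ∀ y : Y, topologicalKrullDim ↥(connectedComponentIn (f ⁻¹' {y}) (g y)) =
      FlatMor.fibreDimAt f (g y) := by
    intro y
    have h1 : IsIrreducible (connectedComponentIn (f ⁻¹' {f (g y)}) (g y)) := by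
      rw [hfg y]
      exact hirr' y
    have h2 := dim_connectedComponentIn_fibre_eq f (g y) h1
    rw [hfg y] at h2
    exact h2
  intro y c hc
  have hc' : topologicalKrullDim ↥(connectedComponentIn (f ⁻¹' {y}) (g y)) < c := hc
  rw [hdim y] at hc'
  have hopen := Groth.Agent.Lib.Helper55.isOpen_setOf_fibreDimAt_le' f (FlatMor.fibreDimAt f (g y))
  have hmem : g ⁻¹' {x : X | FlatMor.fibreDimAt f x ≤ FlatMor.fibreDimAt f (g y)} ∈ nhds y :=
    (hopen.preimage g.continuous).mem_nhds
      (show FlatMor.fibreDimAt f (g y) ≤ FlatMor.fibreDimAt f (g y) from le_rfl)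
  filter_upwards [hmem] with y' hy'
  change topologicalKrullDim ↥(connectedComponentIn (f ⁻¹' {y'}) (g y')) < c
  rw [hdim y']
  exact lt_of_le_of_lt hy' hc'

end Groth.Agent.S4954
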