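import Groth.Statements.S4958
-- import your own Groth.Agent.* helpers here
import Groth.Agent.Lib.Helper55.FibreComponents

set_option autoImplicit false
open CategoryTheory AlgebraicGeometry
universe u v w
open EGA43

namespace Groth.Agent.S4958

/-- Let Y be an irreducible locally Noetherian scheme with generic point η, f : X ⟶ Y a morphism of
finite type and y a point of Y whose local ring O_{Y,y} is universally catenary. Suppose that dim
O_{X,z} = dim O_{Y,y} for every maximal point z of the fibre X_y. For z' in Y let E(z') be the set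
of dimensions of the irreducible components of X_{z'}. Then E(y) ⊆ E(η), and hence dim X_y ≤ dim
X_η. -/
theorem result {X Y : Scheme.{u}} [IrreducibleSpace Y]
    [IsLocallyNoetherian Y] (f : X ⟶ Y) [LocallyOfFiniteType f] [QuasiCompact f] (y : Y)
    (hcat : CAlg.IsUniversallyCatenary (Y.presheaf.stalk y))
    (hb : ∀ z : X, f.base z = y → (∀ z' : X, f.base z' = y → z ∈ closure {z'} → z' = z) →
      ringKrullDim (X.presheaf.stalk z) = ringKrullDim (Y.presheaf.stalk y)) :
    letI E : Y → Set (WithBot ℕ∞) := fun z =>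
      (fun Z : Set ↥(f.fiber z) => topologicalKrullDim ↥Z) '' irreducibleComponents ↥(f.fiber z)
    E y ⊆ E (genericPoint Y) ∧
      topologicalKrullDim ↥(f.fiber y) ≤ topologicalKrullDim ↥(f.fiber (genericPoint Y)) := by
  have hb' : ∀ z : X, f z = y → (∀ z' : X, f z' = y → z' ⤳ z → z' = z) →
      ringKrullDim (X.presheaf.stalk z) = ringKrullDim (Y.presheaf.stalk y) := by
    intro z hz hmax
    exact hb z hz (fun z' hz' hmem => hmax z' hz' (specializes_iff_mem_closure.mpr hmem))
  have key := fun Z hZ =>
    Groth.Agent.Lib.Helper55.exists_irreducibleComponent_genericFiber f y hcat hb' Z hZ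
  refine ⟨?_, ?_⟩
  · rintro _ ⟨Z, hZ, rfl⟩
    obtain ⟨Z', hZ', hdim⟩ := key Z hZ
    exact ⟨Z', hZ', hdim⟩
  · rw [Groth.Agent.Lib.Helper55.topologicalKrullDim_eq_iSup_closure (X := ↥(f.fiber y))]
    refine iSup_le fun w => ?_
    obtain ⟨Z, hZ, hwZ⟩ := exists_mem_irreducibleComponents_subset_of_isIrreducible
      (closure ({w} : Set ↥(f.fiber y))) isIrreducible_singleton.closure
    obtain ⟨Z', hZ', hdim⟩ := key Z hZ
    calc topologicalKrullDim ↥(closure ({w} : Set ↥(f.fiber y)))
        ≤ topologicalKrullDim ↥Z := Groth.Agent.Lib.Helper55.topologicalKrullDim_mono_set hwZ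
      _ = topologicalKrullDim ↥Z' := hdim.symm
      _ ≤ topologicalKrullDim ↥(f.fiber (genericPoint Y)) := topologicalKrullDim_subspace_le _ _

end Groth.Agent.S4958
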