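import Groth.Statements.S4959
import Mathlib.AlgebraicGeometry.Morphisms.UniversallyClosed
import Mathlib.AlgebraicGeometry.PullbackCarrier

set_option autoImplicit false
open CategoryTheory AlgebraicGeometry
universe u v w
open EGA43

namespace Groth.Agent.S4959

open CategoryTheory.Limits in
/-- Let f : X ⟶ Y be a morphism of schemes and g : Y' ⟶ Y a surjective morphism which is either proper,
or flat and quasi-compact. If the base change f' : X ×_Y Y' ⟶ Y' is universally submersive (all of
its base changes are topological quotient maps), then f is universally submersive. -/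
theorem result {X Y Y' : Scheme.{u}} (f : X ⟶ Y) (g : Y' ⟶ Y) [Surjective g]
    (hg : IsProper g ∨ (Flat g ∧ QuasiCompact g))
    (h : MorphismProperty.universally (topologically @Topology.IsQuotientMap) (pullback.snd f g)) :
    MorphismProperty.universally (topologically @Topology.IsQuotientMap) f := by
  intro X' T i₁ i₂ f' sq
  change Topology.IsQuotientMap f'.base
  -- the base change of `g` to `T` is a quotient map
  have hgT : Topology.IsQuotientMap (pullback.snd g i₂).base := by
    rcases hg with hg | ⟨hg1, hg2⟩
    · exact (pullback.snd g i₂).isClosedMap.isQuotientMap (pullback.snd g i₂).continuous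
        (pullback.snd g i₂).surjective
    · exact Flat.isQuotientMap_of_surjective _
  -- the base change of `pullback.snd f g`
  let top : pullback f' (pullback.snd g i₂) ⟶ pullback f g :=
    pullback.lift (pullback.fst _ _ ≫ i₁) (pullback.snd _ _ ≫ pullback.fst g i₂)
      (by
        rw [Category.assoc, ← sq.w, Category.assoc, pullback.condition (f := g),
          ← Category.assoc, ← Category.assoc, pullback.condition])
  have htop1 : top ≫ pullback.fst f g = pullback.fst _ _ ≫ i₁ := pullback.lift_fst _ _ _
  have htop2 : top ≫ pullback.snd f g = pullback.snd _ _ ≫ pullback.fst g i₂ :=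
    pullback.lift_snd _ _ _
  have outer : IsPullback (pullback.fst f' (pullback.snd g i₂) ≫ i₁)
      (pullback.snd f' (pullback.snd g i₂)) f (pullback.snd g i₂ ≫ i₂) :=
    (IsPullback.of_hasPullback f' (pullback.snd g i₂)).paste_horiz sq.flip
  have outer' : IsPullback (top ≫ pullback.fst f g)
      (pullback.snd f' (pullback.snd g i₂)) f (pullback.fst g i₂ ≫ g) := by
    rw [htop1, pullback.condition (f := g)]
    exact outer
  have sq' : IsPullback top (pullback.snd f' (pullback.snd g i₂)) (pullback.snd f g)
      (pullback.fst g i₂) :=
    IsPullback.of_right outer' htop2 (IsPullback.of_hasPullback f g)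
  have h1 : Topology.IsQuotientMap (pullback.snd f' (pullback.snd g i₂)).base := h _ _ _ sq'.flip
  have h2 : Topology.IsQuotientMap
      ((pullback.snd g i₂).base ∘ (pullback.snd f' (pullback.snd g i₂)).base) := hgT.comp h1
  have e : (pullback.snd g i₂).base ∘ (pullback.snd f' (pullback.snd g i₂)).base =
      f'.base ∘ (pullback.fst f' (pullback.snd g i₂)).base := by
    ext w
    simp only [Function.comp_apply]
    rw [← Scheme.Hom.comp_apply, ← Scheme.Hom.comp_apply, pullback.condition]
  rw [e] at h2
  exact Topology.IsQuotientMap.of_comp (pullback.fst f' (pullback.snd g i₂)).continuous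
    f'.continuous h2

end Groth.Agent.S4959
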