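import Groth.Statements.S4974
import Groth.Agent.H72.CompleteSection

set_option autoImplicit false
open CategoryTheory AlgebraicGeometry
universe u v w
open EGA43

namespace Groth.Agent.S4974

/-- Consider a complete Noetherian local domain A and put Y = Spec A. Suppose f : X ⟶ Y is locally of
finite type, and take a point x ∈ X mapping to the closed point of Y, where f is equidimensional at
x and x is closed in the fibre containing it. Then one can find a local domain A' that contains A
and is finite as an A-algebra, together with a Y-morphism h : Spec A' ⟶ X that is an immersion and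
has x in its image. -/
theorem result {A : Type u} [CommRing A] [IsDomain A]
    [IsNoetherianRing A] [IsLocalRing A] [IsAdicComplete (IsLocalRing.maximalIdeal A) A] {X : Scheme.{u}}
    (f : X ⟶ Spec (CommRingCat.of A)) [LocallyOfFiniteType f] (x : X) (hx : f.base x = IsLocalRing.closedPoint A)
    (hf : EGA43.IsEquidimAt f x) (hcl : ∀ x' : X, f.base x' = f.base x → x ⤳ x' → x' = x) :
    ∃ (A' : Type u) (_ : CommRing A') (_ : IsDomain A') (_ : IsLocalRing A') (_ : Algebra A A') (_ : Module.Finite A A'),
      Function.Injective (algebraMap A A') ∧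
      ∃ h : Spec (CommRingCat.of A') ⟶ X, h ≫ f = Spec.map (CommRingCat.ofHom (algebraMap A A')) ∧
        IsImmersion h ∧ x ∈ Set.range h.base := by
  haveI : HenselianLocalRing A := by
    have hH : HenselianRing A (IsLocalRing.maximalIdeal A) := inferInstance
    exact { is_henselian := fun f hf a₀ h₁ h₂ => hH.is_henselian f hf a₀ h₁ (h₂.map _) }
  haveI : IrreducibleSpace ↥(Spec (CommRingCat.of A)) :=
    PrimeSpectrum.irreducibleSpace_iff_isPrime_nilradical.mpr (by
      rw [nilradical_eq_zero]; exact Ideal.isPrime_bot)
  obtain ⟨T, i, h1, h2, h3, ⟨t, ht⟩, h5, h6, h7, h8⟩ :=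
    Groth.Agent.H72.QuasiSection.hasQuasiSection f x hf hcl
  haveI := h1; haveI := h2; haveI := h3; haveI := h5; haveI := h6; haveI := h8
  obtain ⟨A', i1, i2, i3, i4, i5, hinj, h, hcomp, himm, hmem⟩ :=
    Groth.Agent.H72.CompleteSection.exists_finite_local f i t (by rw [ht]; exact hx)
  exact ⟨A', i1, i2, i3, i4, i5, hinj, h, hcomp, himm, by rw [← ht]; exact hmem⟩

end Groth.Agent.S4974
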