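import Groth.Statements.S4986
-- import your own Groth.Agent.* helpers here
import Groth.Agent.Lib.Helper55.ClosedSubschemeDim
import Groth.Agent.S4985

set_option autoImplicit false
open CategoryTheory AlgebraicGeometry
universe u v w
open EGA43

namespace Groth.Agent.S4986

theorem localDim_congr_set {T : Type*} [TopologicalSpace T] {A B : Set T} (h : A = B) (x : T)
    (hA : x ∈ A) (hB : x ∈ B) :
    FlatMor.localDim ↥A ⟨x, hA⟩ = FlatMor.localDim ↥B ⟨x, hB⟩ := by
  subst h
  rfl

/-- Let Y be locally Noetherian, f : X ⟶ Y of finite type, x ∈ X, y = f x, X' an irreducible closed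
subset containing x with its reduced structure, Y' the closure of f(X') with its reduced structure
and generic point η', and A, B, A', B' the local rings of Y at y, of X at x, of Y' at y and of X' at
x. Suppose dim B = dim A + dim(B ⊗ κ(y)). Then X' satisfies the four conditions (i) dim A' = dim A,
(ii) dim_x(X' ∩ X_y) = dim_x(X_y), (iii) X' equidimensional over Y' at x, (iv) dim B' = dim A' +
dim(B' ⊗ κ(y)), if and only if dim B' = dim B. -/
theorem result {X Y : Scheme.{u}} [IsLocallyNoetherian Y] (f : X ⟶ Y)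
    [LocallyOfFiniteType f] [QuasiCompact f] (x : X) (X' : TopologicalSpace.Closeds X) (hirr : IsIrreducible (X' : Set X))
    (hx : x ∈ X') (w : ↥(Scheme.IdealSheafData.vanishingIdeal X').subscheme)
    (hw : (Scheme.IdealSheafData.vanishingIdeal X').subschemeι.base w = x)
    (v : ↥(Scheme.IdealSheafData.vanishingIdeal
      (⟨closure (f.base '' (X' : Set X)), isClosed_closure⟩ : TopologicalSpace.Closeds Y)).subscheme)
    (hv : (Scheme.IdealSheafData.vanishingIdeal
      (⟨closure (f.base '' (X' : Set X)), isClosed_closure⟩ : TopologicalSpace.Closeds Y)).subschemeι.base v = f.base x)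
    (η' : Y) (hη' : closure ({η'} : Set Y) = closure (f.base '' (X' : Set X))) :
    letI ιX := (Scheme.IdealSheafData.vanishingIdeal X').subschemeι
    letI dA := ringKrullDim (Y.presheaf.stalk (f.base x))
    letI dB := ringKrullDim (X.presheaf.stalk x)
    letI dA' := ringKrullDim ((Scheme.IdealSheafData.vanishingIdeal
      (⟨closure (f.base '' (X' : Set X)), isClosed_closure⟩ : TopologicalSpace.Closeds Y)).subscheme.presheaf.stalk v)
    letI dB' := ringKrullDim ((Scheme.IdealSheafData.vanishingIdeal X').subscheme.presheaf.stalk w)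
    letI dBk := ringKrullDim ((f.fiber (f.base x)).presheaf.stalk (f.asFiber x))
    letI dB'k := ringKrullDim (((ιX ≫ f).fiber ((ιX ≫ f).base w)).presheaf.stalk ((ιX ≫ f).asFiber w))
    letI e' := topologicalKrullDim ↥((X' : Set X) ∩ f.base ⁻¹' {η'})
    dB = dA + dBk →
      ((dA' = dA ∧ FlatMor.localDim ↥((X' : Set X) ∩ f.base ⁻¹' {f.base x}) ⟨x, ⟨hx, rfl⟩⟩ = FlatMor.fibreDimAt f x ∧
        FlatMor.fibreDimAt (ιX ≫ f) w = e' ∧ dB' = dA' + dB'k) ↔ dB' = dB) := by
  subst hw
  have hXloc : IsLocallyNoetherian X := LocallyOfFiniteType.isLocallyNoetherian f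
  obtain ⟨hiX, hiY, hrX, hξη, hηη⟩ := Groth.Agent.S4985.setup f X' hirr η' hη'
  obtain ⟨a, a', b', k, k', t, m, ha, ha', hb', hk, hk', hfg, hff, hm, h1, h2, h3, h4⟩ :=
    Lib.Helper55.closed_subscheme_dim_chain f (Scheme.IdealSheafData.vanishingIdeal X').subschemeι
      (Scheme.IdealSheafData.vanishingIdeal
        (⟨closure (f.base '' (X' : Set X)), isClosed_closure⟩ :
          TopologicalSpace.Closeds Y)).subschemeι (hηη.trans hξη.symm) w v hv
  rw [hrX, hξη] at hm
  obtain ⟨b, hb⟩ := Lib.Helper55.exists_nat_ringKrullDim_stalk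
    ((Scheme.IdealSheafData.vanishingIdeal X').subschemeι w)
  have hL := Lib.Helper55.fibreDimAt_preimmersion_comp_eq f
    (Scheme.IdealSheafData.vanishingIdeal X').subschemeι w
  have hrX' : Set.range (Scheme.IdealSheafData.vanishingIdeal X').subschemeι ∩
      f ⁻¹' {f ((Scheme.IdealSheafData.vanishingIdeal X').subschemeι w)} =
      (X' : Set X) ∩ f.base ⁻¹' {f.base ((Scheme.IdealSheafData.vanishingIdeal X').subschemeι.base w)} := by
    rw [hrX]
  rw [localDim_congr_set hrX' _ _ ⟨hx, rfl⟩, hfg] at hL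
  have key : ∀ (A A' B B' K K' L Ff F E : WithBot ℕ∞), A = a → A' = a' → B = b → B' = b' → K = k →
      K' = k' → ((k' + t : ℕ) : WithBot ℕ∞) = L → Ff = ((k + t : ℕ) : WithBot ℕ∞) →
      F = ((k' + t : ℕ) : WithBot ℕ∞) → E = m →
      (B = A + K → ((A' = A ∧ L = Ff ∧ F = E ∧ B' = A' + K') ↔ B' = B)) := by
    intro A A' B B' K K' L Ff F E hA hA' hB hB' hK hK' hL hFf hF hE
    subst hA hA' hB hB' hK hK' hL hFf hF hE
    norm_cast
    omega
  exact key _ _ _ _ _ _ _ _ _ _ ha ha' hb hb' hk hk' hL hff hfg hm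

end Groth.Agent.S4986
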