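import Groth.Statements.S4993
import Groth.Agent.Lib.Helper24.KaehlerStalkSmooth
import Groth.Agent.Lib.Helper24.EtaleKaehler
import Groth.Agent.Lib.Helper21.OfComp

set_option autoImplicit false
universe u
open CategoryTheory CategoryTheory.Limits AlgebraicGeometry TopologicalSpace
open Unram17

namespace Groth.Agent.S4993

open TensorProduct in
/-- A surjective linear map between finite free modules of the same rank is bijective. -/
theorem bijective_of_surjective_of_finrank_eq {T M N : Type u} [CommRing T] [Nontrivial T]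
    [AddCommGroup M] [Module T M] [AddCommGroup N] [Module T N]
    [Module.Free T M] [Module.Finite T M] [Module.Free T N] [Module.Finite T N]
    (φ : M →ₗ[T] N) (hφ : Function.Surjective φ)
    (hr : Module.finrank T M = Module.finrank T N) : Function.Bijective φ := by
  let e : N ≃ₗ[T] M := LinearEquiv.ofFinrankEq N M hr.symm
  have hs : Function.Surjective (e.toLinearMap.comp φ) := e.surjective.comp hφ
  have hi : Function.Injective (e.toLinearMap.comp φ) :=
    OrzechProperty.injective_of_surjective_endomorphism _ hs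
  refine ⟨?_, hφ⟩
  intro a b hab
  exact hi (by simp [hab])

open TensorProduct in
/-- Key step: the stalk map of `g` at `x` is formally smooth. -/
theorem formallySmooth_stalkMap_of_mono {X Y S : Scheme.{u}} (f : Y ⟶ S) (g : X ⟶ Y)
    [Smooth f] [Smooth (g ≫ f)] [Mono g] (x : X)
    (hx : FlatMor.fibreDimAt f (g.base x) = FlatMor.fibreDimAt (g ≫ f) x) :
    (g.stalkMap x).hom.FormallySmooth := by
  have hlfp : LocallyOfFinitePresentation g :=
    Groth.Agent.Lib.Helper21.locallyOfFinitePresentation_of_comp_of_locallyOfFiniteType g f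
  have hunr : FormallyUnramified g := inferInstance
  have hu : (g.stalkMap x).hom.FormallyUnramified := FormallyUnramified.stalkMap g x
  have hsm : ((g ≫ f).stalkMap x).hom.FormallySmooth := by
    have : x ∈ (g ≫ f).smoothLocus := by
      rw [(g ≫ f).smoothLocus_eq_top]; trivial
    exact Scheme.Hom.mem_smoothLocus.mp this
  obtain ⟨f1, f2, f3⟩ := Groth.Agent.Lib.Helper24.kaehler_stalk_free_finrank_of_smooth f (g.base x)
  obtain ⟨h1, h2, h3⟩ := Groth.Agent.Lib.Helper24.kaehler_stalk_free_finrank_of_smooth (g ≫ f) x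
  let algRS : Algebra (S.presheaf.stalk (f (g x))) (Y.presheaf.stalk (g x)) :=
    (f.stalkMap (g x)).hom.toAlgebra
  let algST : Algebra (Y.presheaf.stalk (g x)) (X.presheaf.stalk x) :=
    (g.stalkMap x).hom.toAlgebra
  let algRT : Algebra (S.presheaf.stalk (f (g x))) (X.presheaf.stalk x) :=
    ((g ≫ f).stalkMap x).hom.toAlgebra
  have tower : IsScalarTower (S.presheaf.stalk (f (g x))) (Y.presheaf.stalk (g x))
      (X.presheaf.stalk x) := by
    refine IsScalarTower.of_algebraMap_eq' ?_
    change ((g ≫ f).stalkMap x).hom = (g.stalkMap x).hom.comp (f.stalkMap (g x)).hom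
    rw [Scheme.Hom.stalkMap_comp]
    rfl
  have h1' : Module.Free (X.presheaf.stalk x)
      Ω[X.presheaf.stalk x⁄S.presheaf.stalk (f (g x))] := h1
  have h2' : Module.Finite (X.presheaf.stalk x)
      Ω[X.presheaf.stalk x⁄S.presheaf.stalk (f (g x))] := h2
  have h3' : ((Module.finrank (X.presheaf.stalk x)
      Ω[X.presheaf.stalk x⁄S.presheaf.stalk (f (g x))] : ℕ) : WithBot ℕ∞) =
      FlatMor.fibreDimAt (g ≫ f) x := h3
  have hsm' : Algebra.FormallySmooth (S.presheaf.stalk (f (g x))) (X.presheaf.stalk x) := hsm
  have hu' : Algebra.FormallyUnramified (Y.presheaf.stalk (g x)) (X.presheaf.stalk x) := hu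
  have hrk : Module.finrank (Y.presheaf.stalk (g x))
      Ω[Y.presheaf.stalk (g x)⁄S.presheaf.stalk (f (g x))] =
      Module.finrank (X.presheaf.stalk x) Ω[X.presheaf.stalk x⁄S.presheaf.stalk (f (g x))] := by
    have : ((Module.finrank (Y.presheaf.stalk (g x))
      Ω[Y.presheaf.stalk (g x)⁄S.presheaf.stalk (f (g x))] : ℕ) : WithBot ℕ∞) =
      ((Module.finrank (X.presheaf.stalk x)
        Ω[X.presheaf.stalk x⁄S.presheaf.stalk (f (g x))] : ℕ) : WithBot ℕ∞) := by
      rw [f3, hx]; exact h3'.symm
    exact_mod_cast this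
  have hsurj : Function.Surjective (KaehlerDifferential.mapBaseChange
      (S.presheaf.stalk (f (g x))) (Y.presheaf.stalk (g x)) (X.presheaf.stalk x)) :=
    fun z ↦ (KaehlerDifferential.exact_mapBaseChange_map _ _ _ z).mp (Subsingleton.elim _ _)
  have hbij : Function.Bijective (KaehlerDifferential.mapBaseChange
      (S.presheaf.stalk (f (g x))) (Y.presheaf.stalk (g x)) (X.presheaf.stalk x)) := by
    refine bijective_of_surjective_of_finrank_eq _ hsurj ?_
    rw [Module.finrank_baseChange, hrk]
  have het : Algebra.FormallyEtale (Y.presheaf.stalk (g x)) (X.presheaf.stalk x) :=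
    (Groth.Agent.Lib.Helper24.formallyEtale_iff_bijective_mapBaseChange
      (S.presheaf.stalk (f (g x))) (Y.presheaf.stalk (g x)) (X.presheaf.stalk x)).mpr hbij
  have hfs : Algebra.FormallySmooth (Y.presheaf.stalk (g x)) (X.presheaf.stalk x) :=
    inferInstance
  exact hfs


/-- Let f : Y ⟶ S and h : X ⟶ S be smooth and let g : X ⟶ Y satisfy g ≫ f = h. Then g is an open
immersion if and only if g is a monomorphism and, for every point x of X, the local dimension at
g(x) of the fibre of f through g(x) equals the local dimension at x of the fibre of h through x. -/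
theorem result {X Y S : Scheme.{u}} (f : Y ⟶ S) (h : X ⟶ S)
    [Smooth f] [Smooth h] (g : X ⟶ Y) (w : g ≫ f = h) :
    IsOpenImmersion g ↔ Mono g ∧ ∀ x : ↥X, FlatMor.fibreDimAt f (g.base x) = FlatMor.fibreDimAt h x := by
  constructor
  · intro hg
    refine ⟨inferInstance, fun x ↦ ?_⟩
    exact (Groth.Agent.S7408.result f h g (𝟙 S) (by rw [w, Category.comp_id]) x)
  · rintro ⟨hmono, hdim⟩
    subst w
    have hlfp : LocallyOfFinitePresentation g :=
      Groth.Agent.Lib.Helper21.locallyOfFinitePresentation_of_comp_of_locallyOfFiniteType g f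
    have hsm : Smooth g := by
      rw [← Scheme.Hom.smoothLocus_eq_top_iff]
      ext x
      simp only [TopologicalSpace.Opens.coe_top, Set.mem_univ, iff_true]
      exact Scheme.Hom.mem_smoothLocus.mpr (formallySmooth_stalkMap_of_mono f g x (hdim x))
    exact IsOpenImmersion.of_flat_of_mono g

end Groth.Agent.S4993
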