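import Groth.Statements.S4998
import Mathlib.RingTheory.Etale.Field
import Mathlib.RingTheory.Unramified.Field
import Mathlib.RingTheory.Unramified.Finite

set_option autoImplicit false
universe u
open Unram17

namespace Groth.Agent.S4998

open Polynomial in
/-- A (commutative) algebra all of whose elements are separable over the base ring is formally
unramified. -/
theorem formallyUnramified_of_isSeparable (K A : Type u) [Field K] [CommRing A] [Algebra K A]
    [Algebra.IsSeparable K A] : Algebra.FormallyUnramified K A := by
  rw [Algebra.FormallyUnramified.iff_comp_injective]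
  intro B _ _ I hI f₁ f₂ e
  ext x
  have : f₁ x - f₂ x ∈ I := by
    simpa [Ideal.Quotient.mk_eq_mk_iff_sub_mem] using AlgHom.congr_fun e x
  have := Polynomial.eval_add_of_sq_eq_zero ((minpoly K x).map (algebraMap K B)) (f₂ x)
    (f₁ x - f₂ x) (show (f₁ x - f₂ x) ^ 2 ∈ ⊥ from hI ▸ Ideal.pow_mem_pow this 2)
  simp only [add_sub_cancel, eval_map_algebraMap, aeval_algHom_apply, minpoly.aeval, map_zero,
    derivative_map, zero_add] at this
  have hu : IsUnit (aeval x (derivative (minpoly K x))) := by
    obtain ⟨a, b, hab⟩ := Algebra.IsSeparable.isSeparable K x
    have h := congrArg (aeval x) hab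
    simp only [map_add, map_mul, minpoly.aeval, mul_zero, zero_add, map_one] at h
    exact IsUnit.of_mul_eq_one _ (by rw [mul_comm]; exact h)
  rwa [eq_comm, (hu.map f₂).mul_right_eq_zero, sub_eq_zero] at this

open Polynomial in
/-- An element of a finite product of fields all of whose components are separable is separable. -/
theorem isSeparable_pi {K : Type u} [Field K] {I : Type u} [Finite I] (Ai : I → Type u)
    [∀ i, Field (Ai i)] [∀ i, Algebra K (Ai i)] (y : Π i, Ai i)
    (hy : ∀ i, IsSeparable K (y i)) : IsSeparable K y := by
  classical
  cases nonempty_fintype I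
  let S : Finset K[X] := Finset.univ.image (fun i => minpoly K (y i))
  let p : K[X] := ∏ q ∈ S, q
  have hp : p.Separable := by
    refine separable_prod' (f := id) ?_ ?_
    · intro q1 hq1 q2 hq2 hne
      obtain ⟨i, -, rfl⟩ := Finset.mem_image.mp hq1
      obtain ⟨j, -, rfl⟩ := Finset.mem_image.mp hq2
      have hi := minpoly.irreducible (hy i).isIntegral
      have hj := minpoly.irreducible (hy j).isIntegral
      simp only [id]
      rw [hi.coprime_iff_not_dvd]
      intro hdvd
      apply hne
      have hassoc : Associated (minpoly K (y i)) (minpoly K (y j)) :=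
        hi.associated_of_dvd hj hdvd
      exact eq_of_monic_of_associated (minpoly.monic (hy i).isIntegral)
        (minpoly.monic (hy j).isIntegral) hassoc
    · intro q hq
      obtain ⟨i, -, rfl⟩ := Finset.mem_image.mp hq
      exact hy i
  have hpy : aeval y p = 0 := by
    ext i
    have h1 : (aeval y p) i = aeval (y i) p := by
      have := Polynomial.aeval_algHom_apply (Pi.evalAlgHom K Ai i) y p
      simpa using this.symm
    rw [h1, Pi.zero_apply]
    have hdvd : minpoly K (y i) ∣ p :=
      Finset.dvd_prod_of_mem (fun q => q) (Finset.mem_image_of_mem _ (Finset.mem_univ i))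
    obtain ⟨c, hc⟩ := hdvd
    rw [hc, map_mul, minpoly.aeval, zero_mul]
  exact hp.of_dvd (minpoly.dvd K y hpy)

/-- Let A be an algebra of finite type over a field k. Then A is formally unramified over k if and only
if A is finite over k and every element of A has separable minimal polynomial over k (equivalently,
A is a finite product of finite separable extensions of k). -/
theorem result (k A : Type u) [Field k] [CommRing A]
    [Algebra k A] [Algebra.FiniteType k A] :
    Algebra.FormallyUnramified k A ↔ Module.Finite k A ∧ Algebra.IsSeparable k A := by
  constructor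
  · intro h
    have hfin : Module.Finite k A := Algebra.FormallyUnramified.finite_of_free k A
    refine ⟨hfin, ?_⟩
    have het : Algebra.FormallyEtale k A := Algebra.FormallyEtale.of_formallyUnramified_of_field k A
    obtain ⟨I, _, Ai, _, _, e, hsep⟩ := (Algebra.FormallyEtale.iff_exists_algEquiv_prod k A).mp het
    refine ⟨fun x => ?_⟩
    rw [← isSeparable_map_iff e.toAlgHom e.injective]
    exact isSeparable_pi Ai _ fun i => Algebra.IsSeparable.isSeparable k _
  · rintro ⟨_, hsep⟩
    exact formallyUnramified_of_isSeparable k A

end Groth.Agent.S4998
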