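import Groth.Statements.S5000
import Mathlib
import Groth.Agent.Lib.Helper94.JacobianCore

set_option autoImplicit false
universe u
open Unram17

namespace Groth.Agent.S5000

open IsLocalRing TensorProduct KaehlerDifferential

/-- (c) For a local `k`-algebra with formally smooth residue field, `m/m² → κ ⊗ Ω` is injective. -/
theorem kerCotangentToTensor_residueField_injective (k T : Type u) [CommRing k] [CommRing T]
    [Algebra k T] [IsLocalRing T] [Algebra.FormallySmooth k (ResidueField T)] :
    Function.Injective (kerCotangentToTensor k T (ResidueField T)) := by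
  have hf : Function.Surjective (algebraMap T (ResidueField T)) := residue_surjective
  let φ := (IsScalarTower.toAlgHom k T (ResidueField T)).kerSquareLift
  have hφ : Function.Surjective φ := by
    intro x
    obtain ⟨y, rfl⟩ := hf x
    exact ⟨Ideal.Quotient.mk _ y, rfl⟩
  have hnil : IsNilpotent (RingHom.ker (φ : (T ⧸ RingHom.ker
      (IsScalarTower.toAlgHom k T (ResidueField T)).toRingHom ^ 2) →+* ResidueField T)) := by
    refine ⟨2, ?_⟩
    have := (IsScalarTower.toAlgHom k T (ResidueField T)).ker_kerSquareLift
    rw [show RingHom.ker (φ : (T ⧸ RingHom.ker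
      (IsScalarTower.toAlgHom k T (ResidueField T)).toRingHom ^ 2) →+* ResidueField T) = _
      from this, Ideal.cotangentIdeal_square]
    rfl
  let g := Algebra.FormallySmooth.liftOfSurjective (AlgHom.id k (ResidueField T)) φ hφ hnil
  have hg : φ.comp g = AlgHom.id k (ResidueField T) :=
    Algebra.FormallySmooth.comp_liftOfSurjective _ _ _ _
  obtain ⟨l, hl⟩ := (retractionKerCotangentToTensorEquivSection (R := k) hf).symm ⟨g, hg⟩
  intro x y hxy
  have := congrArg l hxy
  rwa [← LinearMap.comp_apply, ← LinearMap.comp_apply, hl] at this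

/-- In a local `k`-algebra with formally smooth residue field, `f ∈ m` with `d f ∈ m Ω` lies in
`m²`. -/
theorem mem_sq_of_D_mem (k T : Type u) [CommRing k] [CommRing T]
    [Algebra k T] [IsLocalRing T] [Algebra.FormallySmooth k (ResidueField T)] {f : T}
    (hf : f ∈ maximalIdeal T)
    (hD : D k T f ∈ (maximalIdeal T) • (⊤ : Submodule T Ω[T⁄k])) :
    f ∈ maximalIdeal T ^ 2 := by
  have hker : RingHom.ker (algebraMap T (ResidueField T)) = maximalIdeal T := ker_residue
  have hf' : f ∈ RingHom.ker (algebraMap T (ResidueField T)) := by rw [hker]; exact hf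
  have h1 : kerCotangentToTensor k T (ResidueField T)
      ((RingHom.ker (algebraMap T (ResidueField T))).toCotangent ⟨f, hf'⟩) = 0 := by
    rw [kerCotangentToTensor_toCotangent]
    refine Submodule.smul_induction_on hD ?_ ?_
    · intro r hr n _
      rw [TensorProduct.tmul_smul, TensorProduct.smul_tmul', Algebra.smul_def, mul_one]
      have : algebraMap T (ResidueField T) r = 0 := by
        rw [← RingHom.mem_ker, hker]; exact hr
      rw [this, TensorProduct.zero_tmul]
    · intro x y hx hy
      rw [TensorProduct.tmul_add, hx, hy, add_zero]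
  have h2 := kerCotangentToTensor_residueField_injective k T (h1.trans (map_zero _).symm)
  rw [Ideal.toCotangent_eq_zero] at h2
  rw [← hker]
  exact h2

/-- (d) In a finite free module over a local ring, an element outside `m • ⊤` has a functional
taking a unit value on it. -/
theorem exists_functional_isUnit {T M : Type*} [CommRing T] [IsLocalRing T] [AddCommGroup M]
    [Module T M] [Module.Free T M] [Module.Finite T M] {x : M}
    (hx : x ∉ (maximalIdeal T) • (⊤ : Submodule T M)) : ∃ φ : M →ₗ[T] T, IsUnit (φ x) := by
  classical
  let b := Module.Free.chooseBasis T M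
  by_contra hcon
  push Not at hcon
  apply hx
  rw [← b.sum_repr x]
  refine Submodule.sum_mem _ fun i _ => ?_
  refine Submodule.smul_mem_smul ?_ Submodule.mem_top
  have := hcon (b.coord i)
  rwa [Module.Basis.coord_apply, ← mem_nonunits_iff, ← mem_maximalIdeal] at this

/-- (e) in characteristic zero, an element with a derivation taking a unit value on it is not
nilpotent. -/
theorem not_isNilpotent_of_derivation_isUnit {k T : Type*} [Field k] [CharZero k] [CommRing T]
    [Nontrivial T] [Algebra k T] (D : Derivation k T T) {f : T} (hD : IsUnit (D f)) :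
    ¬ IsNilpotent f := by
  rintro ⟨N, hN⟩
  induction N with
  | zero => rw [pow_zero] at hN; exact one_ne_zero hN
  | succ N ih =>
    apply ih
    have h1 : D (f ^ (N + 1)) = 0 := by rw [hN, map_zero]
    rw [Derivation.leibniz_pow, Nat.add_sub_cancel, ← Nat.cast_smul_eq_nsmul k, smul_eq_mul] at h1
    have hu : ((N + 1 : ℕ) : k) ≠ 0 := Nat.cast_ne_zero.mpr (Nat.succ_ne_zero N)
    have h2 : f ^ N * D f = 0 := by
      have := congrArg (fun y => ((N + 1 : ℕ) : k)⁻¹ • y) h1
      simp only [smul_smul, inv_mul_cancel₀ hu, one_smul, smul_zero] at this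
      exact this
    exact (hD.mul_left_eq_zero).mp h2

/-- A Noetherian local `k`-algebra (`char k = 0`) whose maximal ideal consists of nilpotent
elements, with formally smooth residue field and finite free `Ω`, is a field. -/
theorem maximalIdeal_eq_bot_of_free_kaehler (k T : Type u) [Field k] [CharZero k] [CommRing T]
    [Algebra k T] [IsLocalRing T] [IsNoetherianRing T]
    [Algebra.FormallySmooth k (ResidueField T)] [Module.Free T Ω[T⁄k]] [Module.Finite T Ω[T⁄k]]
    (hnil : ∀ f ∈ maximalIdeal T, IsNilpotent f) : maximalIdeal T = ⊥ := by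
  have hle : maximalIdeal T ≤ maximalIdeal T • maximalIdeal T := by
    intro f hf
    by_contra hf2
    have hD : D k T f ∉ (maximalIdeal T) • (⊤ : Submodule T Ω[T⁄k]) := by
      intro hD
      apply hf2
      have := mem_sq_of_D_mem k T hf hD
      rwa [pow_two] at this
    obtain ⟨φ, hφ⟩ := exists_functional_isUnit hD
    exact not_isNilpotent_of_derivation_isUnit (φ.compDer (D k T)) hφ (hnil f hf)
  exact Submodule.eq_bot_of_le_smul_of_le_jacobson_bot (maximalIdeal T) (maximalIdeal T)
    (IsNoetherian.noetherian _) hle
    (by rw [IsLocalRing.jacobson_eq_maximalIdeal ⊥ bot_ne_top])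

/-- If `Ω[A_q⁄k]` is projective and `A_q` is smooth over `k` at some prime, then `A` is smooth
at `q`. -/
theorem isSmoothAt_of_projective_of_isSmoothAt_localization (k A : Type u) [Field k] [CommRing A]
    [Algebra k A] [Algebra.FiniteType k A] (q : Ideal A) [q.IsPrime]
    [Module.Projective (Localization.AtPrime q) Ω[Localization.AtPrime q⁄k]]
    (p' : Ideal (Localization.AtPrime q)) [p'.IsPrime] (h : Algebra.IsSmoothAt k p') :
    Algebra.IsSmoothAt k q := by
  obtain ⟨n, f₀, hf₀⟩ := Algebra.FiniteType.iff_quotient_mvPolynomial''.mp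
    (inferInstance : Algebra.FiniteType k A)
  let Q : Ideal (MvPolynomial (Fin n) k) := q.comap f₀
  have hQ : Q.IsPrime := Ideal.comap_isPrime f₀ q
  let P := Localization.AtPrime Q
  let B := Localization.AtPrime q
  let fP : P →ₐ[k] B := IsLocalization.liftAlgHom (M := Q.primeCompl)
      (f := (IsScalarTower.toAlgHom k A B).comp f₀) fun x ↦ by
    simpa using IsLocalization.map_units (M := q.primeCompl) B ⟨f₀ x.1, x.2⟩
  have hf₁ : Function.Surjective fP := by
    intro x
    obtain ⟨x, ⟨s, hs⟩, rfl⟩ := IsLocalization.exists_mk'_eq q.primeCompl x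
    obtain ⟨x, rfl⟩ := hf₀ x
    obtain ⟨s, rfl⟩ := hf₀ s
    refine ⟨IsLocalization.mk' (M := Q.primeCompl) _ x ⟨s, hs⟩, ?_⟩
    simp [fP, IsLocalization.lift_mk', Units.mul_inv_eq_iff_eq_mul, IsUnit.liftRight]
  algebraize [fP.toRingHom]
  have : IsScalarTower k P B := .of_algebraMap_eq' fP.comp_algebraMap.symm
  have hsurjPB : Function.Surjective (algebraMap P B) := hf₁
  let E : Algebra.Extension.{u} k B := ⟨P, Function.surjInv hsurjPB, Function.surjInv_eq hsurjPB⟩
  haveI : IsRegularLocalRing E.Ring :=
    (IsRegularRing.isRegularLocalRing_localization Q : IsRegularLocalRing P)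
  haveI : Algebra.FormallySmooth k E.Ring :=
    (inferInstance : Algebra.FormallySmooth k P)
  haveI : Module.Finite E.Ring Ω[E.Ring⁄k] := (inferInstance : Module.Finite P Ω[P⁄k])
  haveI : Module.Free E.Ring Ω[E.Ring⁄k] :=
    (Module.free_of_flat_of_isLocalRing : Module.Free P Ω[P⁄k])
  have hp' : (⟨p', inferInstance⟩ : PrimeSpectrum B) ∉
      Module.support B (Algebra.H1Cotangent k B) := by
    have hmem : (⟨p', inferInstance⟩ : PrimeSpectrum B) ∈ Algebra.smoothLocus k B := h
    rw [Algebra.smoothLocus_eq_compl_support_inter] at hmem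
    exact hmem.1
  exact Groth.Agent.Lib.Helper94.JacobianCore.formallySmooth_of_extension E _ hp'

/-- Let k be a field of characteristic zero, A a k-algebra of finite type and q a prime of A. Then A is
smooth over k at q if and only if the module of differentials of the local ring A_q over k is free. -/
theorem result (k A : Type u) [Field k] [CharZero k] [CommRing A]
    [Algebra k A] [Algebra.FiniteType k A] (q : Ideal A) [q.IsPrime] :
    Algebra.IsSmoothAt k q ↔
      Module.Free (Localization.AtPrime q) (KaehlerDifferential k (Localization.AtPrime q)) := by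
  constructor
  · intro h
    haveI : Algebra.FormallySmooth k (Localization.AtPrime q) := h
    exact Module.free_of_flat_of_isLocalRing
  · intro hfree
    haveI : IsNoetherianRing A := Algebra.FiniteType.isNoetherianRing k A
    let B := Localization.AtPrime q
    haveI : IsNoetherianRing B := IsLocalization.isNoetherianRing q.primeCompl B inferInstance
    obtain ⟨p', hp'min, -⟩ := Ideal.exists_minimalPrimes_le (bot_le : (⊥ : Ideal B) ≤ maximalIdeal B)
    haveI : p'.IsPrime := hp'min.1.1
    let T := Localization.AtPrime p'
    haveI : IsNoetherianRing T := IsLocalization.isNoetherianRing p'.primeCompl T inferInstance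
    have hnil : ∀ f ∈ maximalIdeal T, IsNilpotent f := by
      intro f hf
      rw [← Localization.AtPrime.map_eq_maximalIdeal,
        ← IsLocalization.AtPrime.radical_map_of_mem_minimalPrimes T p' ⊥ hp'min,
        Ideal.map_bot] at hf
      exact hf
    haveI : Module.Projective T Ω[T⁄k] := by
      have e1 := IsLocalizedModule.iso p'.primeCompl (KaehlerDifferential.map k k B T)
      have e2 := e1.extendScalarsOfIsLocalization p'.primeCompl T
      exact Module.Projective.of_equiv e2
    haveI : Module.Free T Ω[T⁄k] := Module.free_of_flat_of_isLocalRing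
    haveI : Algebra.EssFiniteType k (ResidueField T) := Algebra.EssFiniteType.comp k T _
    haveI : Algebra.FormallySmooth k (ResidueField T) := Algebra.FormallySmooth.of_perfectField
    have hm : maximalIdeal T = ⊥ := maximalIdeal_eq_bot_of_free_kaehler k T hnil
    have hinj : Function.Injective (IsScalarTower.toAlgHom k T (ResidueField T)) := by
      rw [injective_iff_map_eq_zero]
      intro x hx
      have : x ∈ maximalIdeal T := by
        rw [← ker_residue]; exact hx
      rw [hm] at this
      exact this
    let e : T ≃ₐ[k] ResidueField T :=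
      AlgEquiv.ofBijective (IsScalarTower.toAlgHom k T (ResidueField T))
        ⟨hinj, residue_surjective⟩
    have hsm : Algebra.IsSmoothAt k p' := Algebra.FormallySmooth.of_equiv e.symm
    exact isSmoothAt_of_projective_of_isSmoothAt_localization k A q p' hsm

end Groth.Agent.S5000
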