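import Groth.Statements.S5001
import Mathlib
import Groth.Agent.S5000
import Groth.Agent.S2790

set_option autoImplicit false
universe u
open Unram17

namespace Groth.Agent.S5001

open IsLocalRing TensorProduct KaehlerDifferential

theorem span_D_eq_top_iff (k T : Type u) [Field k] [CommRing T] [Algebra k T] [IsLocalRing T]
    [IsNoetherianRing T] [Module.Finite T Ω[T⁄k]]
    [Algebra.FormallySmooth k (ResidueField T)] [Algebra.FormallyUnramified k (ResidueField T)]
    {n : ℕ} (g : Fin n → T) (hg : ∀ i, g i ∈ maximalIdeal T) :
    Submodule.span T (Set.range fun i => D k T (g i)) = ⊤ ↔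
      Ideal.span (Set.range g) = maximalIdeal T := by
  have hker : RingHom.ker (algebraMap T (ResidueField T)) = maximalIdeal T := ker_residue
  constructor
  · intro hD
    refine le_antisymm (Ideal.span_le.2 (by rintro _ ⟨i, rfl⟩; exact hg i)) ?_
    refine Submodule.le_of_le_smul_of_le_jacobson_bot (I := maximalIdeal T)
      (IsNoetherian.noetherian _) (IsLocalRing.maximalIdeal_le_jacobson _) ?_
    intro x hx
    have hDx : D k T x ∈ Submodule.span T (Set.range fun i => D k T (g i)) := by
      rw [hD]; trivial
    obtain ⟨a, ha⟩ := (Submodule.mem_span_range_iff_exists_fun T).1 hDx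
    have hy : x - ∑ i, a i * g i ∈ maximalIdeal T :=
      sub_mem hx (sum_mem fun i _ => Ideal.mul_mem_left _ _ (hg i))
    have hDy : D k T (x - ∑ i, a i * g i) ∈ (maximalIdeal T) • (⊤ : Submodule T Ω[T⁄k]) := by
      rw [map_sub, map_sum, ← ha, ← Finset.sum_sub_distrib]
      refine sum_mem fun i _ => ?_
      rw [Derivation.leibniz, sub_add_cancel_left]
      exact neg_mem (Submodule.smul_mem_smul (hg i) trivial)
    have h2 := S5000.mem_sq_of_D_mem k T hy hDy
    have : x = ∑ i, a i * g i + (x - ∑ i, a i * g i) := by ring
    rw [this]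
    refine Submodule.add_mem_sup ?_ ?_
    · exact sum_mem fun i _ => Ideal.mul_mem_left _ _ (Ideal.subset_span ⟨i, rfl⟩)
    · rwa [smul_eq_mul, ← pow_two]
  · intro hm
    rw [← IsLocalRing.map_tensorProduct_mk_eq_top, eq_top_iff]
    intro z _
    have hsurj : Function.Surjective (algebraMap T (ResidueField T)) := residue_surjective
    obtain ⟨ω, rfl⟩ := TensorProduct.mk_surjective T Ω[T⁄k] (ResidueField T) hsurj z
    have hex := KaehlerDifferential.exact_kerCotangentToTensor_mapBaseChange k T (ResidueField T) hsurj
    have h0 : mapBaseChange k T (ResidueField T) ((1 : ResidueField T) ⊗ₜ[T] ω) = 0 :=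
      Subsingleton.elim _ _
    obtain ⟨c, hc⟩ := (hex _).1 h0
    obtain ⟨⟨x, hx⟩, rfl⟩ := Ideal.toCotangent_surjective _ c
    rw [kerCotangentToTensor_toCotangent] at hc
    have hx' : x ∈ Ideal.span (Set.range g) := by rw [hm, ← hker]; exact hx
    obtain ⟨a, ha⟩ := (Submodule.mem_span_range_iff_exists_fun T).1 hx'
    refine ⟨∑ i, a i • D k T (g i), ?_, ?_⟩
    · exact sum_mem fun i _ => Submodule.smul_mem _ _ (Submodule.subset_span ⟨i, rfl⟩)
    · rw [TensorProduct.mk_apply, TensorProduct.mk_apply, ← hc]
      simp only at hc ⊢
      rw [← ha, map_sum, ← sub_eq_zero, ← TensorProduct.tmul_sub, ← Finset.sum_sub_distrib]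
      rw [TensorProduct.tmul_sum]
      refine Finset.sum_eq_zero fun i _ => ?_
      rw [smul_eq_mul, Derivation.leibniz, sub_add_cancel_left, TensorProduct.tmul_neg,
        TensorProduct.tmul_smul, TensorProduct.smul_tmul', Algebra.smul_def, mul_one]
      have : algebraMap T (ResidueField T) (g i) = 0 := by
        rw [← RingHom.mem_ker, hker]; exact hg i
      rw [this, TensorProduct.zero_tmul, neg_zero]

/-- Let k be a field, A a k-algebra of finite type equipped with a k-algebra map from the polynomial
ring in n variables, with images g_i of the variables, and p a prime of A such that Spec A has local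
dimension n at p, the residue field of p is a finite separable extension of k, and every g_i lies in
p. Then A is etale over the polynomial ring at p if and only if the images of the g_i generate the
maximal ideal of the local ring A_p. -/
theorem result (k A : Type u) [Field k] [CommRing A] [Algebra k A]
    [Algebra.FiniteType k A] (n : ℕ) [Algebra (MvPolynomial (Fin n) k) A]
    [IsScalarTower k (MvPolynomial (Fin n) k) A] (p : Ideal A) [p.IsPrime]
    (hn : FlatMor.localDim (PrimeSpectrum A) ⟨p, inferInstance⟩ = (n : WithBot ℕ∞))
    [Module.Finite k p.ResidueField] [Algebra.IsSeparable k p.ResidueField]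
    (hg : ∀ i : Fin n, algebraMap (MvPolynomial (Fin n) k) A (MvPolynomial.X i) ∈ p) :
    Algebra.IsEtaleAt (MvPolynomial (Fin n) k) p ↔
      Ideal.span (Set.range fun i : Fin n =>
        algebraMap A (Localization.AtPrime p) (algebraMap (MvPolynomial (Fin n) k) A (MvPolynomial.X i))) =
        IsLocalRing.maximalIdeal (Localization.AtPrime p) := by
  rw [Groth.Agent.S2790.result k A n p hn]
  haveI : IsNoetherianRing A := Algebra.FiniteType.isNoetherianRing k A
  haveI : IsNoetherianRing (Localization.AtPrime p) :=
    IsLocalization.isNoetherianRing p.primeCompl _ inferInstance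
  haveI : Algebra.EssFiniteType k (Localization.AtPrime p) :=
    Algebra.EssFiniteType.comp k A (Localization.AtPrime p)
  haveI : Algebra.EssFiniteType k (ResidueField (Localization.AtPrime p)) :=
    inferInstanceAs (Algebra.EssFiniteType k p.ResidueField)
  haveI : Algebra.IsSeparable k (ResidueField (Localization.AtPrime p)) :=
    inferInstanceAs (Algebra.IsSeparable k p.ResidueField)
  haveI : Algebra.FormallyEtale k (ResidueField (Localization.AtPrime p)) :=
    (Algebra.FormallyEtale.iff_isSeparable _ _).2 inferInstance
  refine span_D_eq_top_iff k (Localization.AtPrime p) _ (fun i => ?_)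
  exact (IsLocalization.AtPrime.to_map_mem_maximal_iff _ p _).2 (hg i)

end Groth.Agent.S5001
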