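import Groth.Statements.S5002
import Mathlib.RingTheory.Finiteness.NilpotentKer
import Mathlib.RingTheory.Kaehler.Basic

set_option autoImplicit false
universe u
open PP16

namespace Groth.Agent.S5002

/-- Suppose A is a commutative ring and B is a finite-type A-algebra. For each n, the ring of principal
parts of order n of B over A is then finitely generated as a B-module, where B acts via the first
factor. -/
theorem result (n : ℕ) (A B : Type u) [CommRing A] [CommRing B] [Algebra A B]
    [Algebra.FiniteType A B] : Module.Finite B (PP16.P n A B) := by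
  let J := KaehlerDifferential.ideal A B
  let m : TensorProduct A B B →ₐ[B] B := Algebra.TensorProduct.lmul'' A
  have hJ : ∀ c : TensorProduct A B B, c ∈ J ↔ m c = 0 := fun c => Iff.rfl
  have hle : ∀ a ∈ J ^ (n + 1), m a = 0 := fun a ha =>
    (hJ a).mp (Ideal.pow_le_self (Nat.succ_ne_zero n) ha)
  let f : PP16.P n A B →ₐ[B] B := Ideal.Quotient.liftₐ (J ^ (n + 1)) m hle
  have hfmk : ∀ c : TensorProduct A B B, f (Ideal.Quotient.mk _ c) = m c := fun c => rfl
  have hker : RingHom.ker f = J.map (Ideal.Quotient.mk (J ^ (n + 1))) := by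
    ext x
    obtain ⟨c, rfl⟩ := Ideal.Quotient.mk_surjective x
    rw [RingHom.mem_ker]
    constructor
    · intro h
      exact Ideal.mem_map_of_mem _ ((hJ c).mpr ((hfmk c).symm.trans h))
    · intro h
      rw [Ideal.mem_map_iff_of_surjective _ Ideal.Quotient.mk_surjective] at h
      obtain ⟨c', hc', e⟩ := h
      rw [← e]
      exact (hfmk c').trans ((hJ c').mp hc')
  refine Module.finite_of_surjective_of_ker_le_nilradical f ?_ ?_ ?_
  · intro b
    refine ⟨Ideal.Quotient.mk _ (TensorProduct.tmul A b (1 : B)), ?_⟩
    rw [hfmk]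
    simp [m, Algebra.TensorProduct.lmul'']
  · rw [hker]
    intro x hx
    refine ⟨n + 1, ?_⟩
    have : x ^ (n + 1) ∈ (J.map (Ideal.Quotient.mk (J ^ (n + 1)))) ^ (n + 1) :=
      Ideal.pow_mem_pow hx _
    rw [← Ideal.map_pow, Ideal.map_quotient_self] at this
    exact this
  · rw [hker]
    exact (KaehlerDifferential.ideal_fg A B).map _

end Groth.Agent.S5002
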