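import Groth.Statements.S5006
import Mathlib.RingTheory.Noetherian.Nilpotent
import Mathlib.RingTheory.Nakayama
import Mathlib.RingTheory.Nilpotent.Lemmas
import Mathlib.RingTheory.LocalRing.Basic

set_option autoImplicit false
universe u
open Nrm16

namespace Groth.Agent.S5006

/-- If a finitely generated ideal `J` maps to zero in the localization at `p`, some `f ∉ p`
annihilates `J`. -/
theorem exists_notMem_mul_eq_zero {A : Type u} [CommRing A] (J : Ideal A) (hJ : J.FG)
    (p : Ideal A) [p.IsPrime]
    (h : J.map (algebraMap A (Localization.AtPrime p)) = ⊥) :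
    ∃ f : A, f ∉ p ∧ ∀ x ∈ J, f * x = 0 := by
  classical
  obtain ⟨s, rfl⟩ := hJ
  have key : ∀ g ∈ s, ∃ m : A, m ∉ p ∧ m * g = 0 := by
    intro g hg
    have : algebraMap A (Localization.AtPrime p) g = 0 := by
      have : algebraMap A (Localization.AtPrime p) g ∈
          (Ideal.span (s : Set A)).map (algebraMap A (Localization.AtPrime p)) :=
        Ideal.mem_map_of_mem _ (Ideal.subset_span hg)
      rw [h] at this
      exact this
    obtain ⟨m, hm⟩ := (IsLocalization.map_eq_zero_iff p.primeCompl (Localization.AtPrime p) g).mp this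
    exact ⟨m, m.2, hm⟩
  choose! m hm1 hm2 using key
  refine ⟨∏ g ∈ s, m g, ?_, ?_⟩
  · have : (∏ g ∈ s, m g) ∈ p.primeCompl :=
      Submonoid.prod_mem _ fun g hg => hm1 g hg
    exact this
  · intro x hx
    induction hx using Submodule.span_induction with
    | mem g hg =>
      obtain ⟨c, hc⟩ := Finset.dvd_prod_of_mem m hg
      rw [hc, mul_comm (m g) c, mul_assoc, hm2 g hg, mul_zero]
    | zero => rw [mul_zero]
    | add x y _ _ hx hy => rw [mul_add, hx, hy, add_zero]
    | smul a x _ hx => rw [smul_eq_mul, mul_left_comm, hx, mul_zero]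

/-- Let A be a commutative ring, I a finitely generated ideal and p a prime ideal containing I. Then
some basic open neighbourhood of p in Spec A is contained in the closed set V(I) (so that V(I) ⟶
Spec A is a local homeomorphism onto an open set near p) if and only if there is an integer n > 0
with I^n A_p = I^(n+1) A_p in the local ring at p. Affine form. -/
theorem result (A : Type u) [CommRing A] (I : Ideal A) (hI : I.FG)
    (p : Ideal A) [p.IsPrime] (hp : I ≤ p) :
    (∃ f : A, f ∉ p ∧ ∀ q : Ideal A, q.IsPrime → f ∉ q → I ≤ q) ↔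
      ∃ n : ℕ, 0 < n ∧
        (I ^ n).map (algebraMap A (Localization.AtPrime p)) =
          (I ^ (n + 1)).map (algebraMap A (Localization.AtPrime p)) := by
  constructor
  · rintro ⟨f, hfp, hf⟩
    -- `f • I` consists of nilpotent elements
    have hnil : Ideal.span {f} * I ≤ nilradical A := by
      rw [nilradical_eq_sInf]
      refine le_sInf ?_
      intro q hq
      have hq' : q.IsPrime := hq
      by_cases hfq : f ∈ q
      · exact Ideal.mul_le_left.trans ((Ideal.span_singleton_le_iff_mem q).mpr hfq)
      · exact Ideal.mul_le_right.trans (hf q hq' hfq)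
    have hfg : (Ideal.span {f} * I).FG :=
      Ideal.FG.mul (Submodule.fg_span_singleton f) hI
    obtain ⟨n, hn⟩ := (hfg.isNilpotent_iff_le_nilradical).mpr hnil
    have hzero : ∀ k, n ≤ k → (I ^ k).map (algebraMap A (Localization.AtPrime p)) = ⊥ := by
      intro k hk
      rw [eq_bot_iff, Ideal.map_le_iff_le_comap]
      intro x hx
      have hx' : x ∈ I ^ n := Ideal.pow_le_pow_right hk hx
      have h1 : f ^ n * x ∈ (Ideal.span {f} * I) ^ n := by
        rw [mul_pow, Ideal.span_singleton_pow]
        exact Ideal.mul_mem_mul (Ideal.mem_span_singleton_self _) hx'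
      rw [hn] at h1
      rw [Ideal.mem_comap, Ideal.mem_bot]
      rw [IsLocalization.map_eq_zero_iff p.primeCompl]
      have hfn : f ^ n ∈ p.primeCompl := fun hmem =>
        hfp ((inferInstance : p.IsPrime).mem_of_pow_mem n hmem)
      exact ⟨⟨f ^ n, hfn⟩, h1⟩
    refine ⟨n + 1, Nat.succ_pos n, ?_⟩
    rw [hzero (n + 1) (Nat.le_succ n), hzero (n + 1 + 1) (by omega)]
  · rintro ⟨n, hn0, hn⟩
    set φ := algebraMap A (Localization.AtPrime p)
    have hJ : (I ^ n).map φ = ⊥ := by
      have hfg : ((I ^ n).map φ).FG := (hI.pow (n := n)).map φ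
      refine Submodule.eq_bot_of_le_smul_of_le_jacobson_bot (I.map φ) _ hfg ?_ ?_
      · rw [smul_eq_mul, ← Ideal.map_mul, mul_comm, ← pow_succ, ← hn]
      · rw [IsLocalRing.jacobson_eq_maximalIdeal ⊥ bot_ne_top,
          ← Localization.AtPrime.map_eq_maximalIdeal]
        exact Ideal.map_mono hp
    obtain ⟨f, hfp, hf⟩ := exists_notMem_mul_eq_zero (I ^ n) (hI.pow) p hJ
    refine ⟨f, hfp, fun q hq hfq => ?_⟩
    have : I ^ n ≤ q := by
      intro x hx
      have := hf x hx
      have h0 : f * x ∈ q := by rw [this]; exact q.zero_mem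
      exact (hq.mem_or_mem h0).resolve_left hfq
    exact hq.le_of_pow_le this

end Groth.Agent.S5006
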