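import Groth.Statements.S5007
import Mathlib
import Groth.Agent.Lib.Helper24.UnramifiedLocus

set_option autoImplicit false
universe u
open CategoryTheory CategoryTheory.Limits AlgebraicGeometry TopologicalSpace
open Unram17

namespace Groth.Agent.S5007

set_option backward.isDefEq.respectTransparency.types false in
theorem fu_pullback_snd {X Y T : Scheme.{u}} (f : X ⟶ Y) (t : T ⟶ Y) (hf : FormallyUnramified f) :
    FormallyUnramified (pullback.snd f t) :=
  MorphismProperty.pullback_snd (P := @FormallyUnramified) _ _ hf

/-- Let g : Y ⟶ S and h : X ⟶ S be locally of finite presentation and f : X ⟶ Y a morphism over S. Then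
f is (formally) unramified if and only if for every point s of S the base change of f along the
fibre Y_s ⟶ Y, which is the fibre map X_s ⟶ Y_s, is (formally) unramified. -/
theorem result {X Y S : Scheme.{u}} (g : Y ⟶ S) (h : X ⟶ S)
    [LocallyOfFinitePresentation g] [LocallyOfFinitePresentation h] (f : X ⟶ Y) (w : f ≫ g = h) :
    FormallyUnramified f ↔ ∀ s : ↥S, FormallyUnramified (pullback.snd f (g.fiberι s)) := by
  open Groth.Agent.Lib.Helper24 in
  have hlft : LocallyOfFiniteType f := by
    have : LocallyOfFiniteType (f ≫ g) := by rw [w]; infer_instance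
    exact locallyOfFiniteType_of_comp f g
  constructor
  · intro hf s
    exact fu_pullback_snd f _ hf
  · intro H
    refine HasRingHomProperty.of_stalkMap RingHom.FormallyUnramified.ofLocalizationPrime
      fun x => ?_
    obtain ⟨p, hp1, hp2⟩ := Scheme.Pullback.exists_preimage_pullback x (g.asFiber (f x))
      (g.fiberι_asFiber (f x)).symm
    have h1 := (formallyUnramified_stalkMap_iff_of_isPullback
      (IsPullback.of_hasPullback f (g.fiberι (g (f x)))) p).mp
      (FormallyUnramified.stalkMap _ p)
    have gen : ∀ y : X, y = x → (f.stalkMap y).hom.FormallyUnramified →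
        (f.stalkMap x).hom.FormallyUnramified := by
      rintro _ rfl h
      exact h
    exact gen _ hp1 h1

end Groth.Agent.S5007
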