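import Groth.Statements.S5008
import Groth.Agent.Lib.Helper61.LocalLift

set_option autoImplicit false
universe u
open CategoryTheory CategoryTheory.Limits AlgebraicGeometry TopologicalSpace
open Unram17

namespace Groth.Agent.S5008

open Groth.Agent.Lib.Helper61.LocalLift

/-- Let f : X ⟶ Y be locally of finite presentation and x a point of X. Then f is smooth at x if and
only if for every surjection of local rings B' → B with square-zero kernel, every morphism Spec B ⟶
X sending the closed point to x and every morphism Spec B' ⟶ Y making the square commute, there is a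
lift Spec B' ⟶ X compatible with both. (No Noetherian hypothesis on Y.) -/
theorem result {X Y : Scheme.{u}} (f : X ⟶ Y)
    [LocallyOfFinitePresentation f] (x : ↥X) :
    x ∈ f.smoothLocus ↔ ∀ (B B' : Type u) [CommRing B] [CommRing B'] [IsLocalRing B] [IsLocalRing B'] (φ : B' →+* B),
      Function.Surjective φ → RingHom.ker φ ^ 2 = ⊥ →
      ∀ (α : Spec (CommRingCat.of B) ⟶ X) (β : Spec (CommRingCat.of B') ⟶ Y),
        α.base (IsLocalRing.closedPoint B) = x → Spec.map (CommRingCat.ofHom φ) ≫ β = α ≫ f →
        ∃ γ : Spec (CommRingCat.of B') ⟶ X, Spec.map (CommRingCat.ofHom φ) ≫ γ = α ∧ γ ≫ f = β := by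
  classical
  rw [Scheme.Hom.mem_smoothLocus]
  constructor
  · intro hx B B' _ _ _ _ φ hφ hker α β hα hβ
    have hφloc : IsLocalHom φ := isLocalHom_of_surjective φ hφ
    have hcl : (Spec.map (CommRingCat.ofHom φ)) (IsLocalRing.closedPoint B) =
        IsLocalRing.closedPoint B' :=
      Spec_closedPoint (R := CommRingCat.of B') (S := CommRingCat.of B) (f := CommRingCat.ofHom φ)
    obtain ⟨a, ha⟩ := exists_stalk_hom (R := CommRingCat.of B) α x hα
    have hβx : β (IsLocalRing.closedPoint B') = f x := by
      have h1 : β ((Spec.map (CommRingCat.ofHom φ)) (IsLocalRing.closedPoint B)) =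
          f (α (IsLocalRing.closedPoint B)) :=
        congrArg (fun g : Spec (CommRingCat.of B) ⟶ Y => g (IsLocalRing.closedPoint B)) hβ
      rw [hcl, hα] at h1
      exact h1
    obtain ⟨b, hb⟩ := exists_stalk_hom (R := CommRingCat.of B') β (f x) hβx
    have hcomp : b ≫ CommRingCat.ofHom φ = f.stalkMap x ≫ a := by
      apply stalk_hom_cancel (X := Y) (x := f x)
      rw [Spec.map_comp, Category.assoc, hb, hβ, ← ha, Category.assoc,
        ← Scheme.SpecMap_stalkMap_fromSpecStalk, Spec.map_comp, Category.assoc]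
    let algC : Algebra (Y.presheaf.stalk (f x)) (X.presheaf.stalk x) :=
      (f.stalkMap x).hom.toAlgebra
    let algB' : Algebra (Y.presheaf.stalk (f x)) B' := b.hom.toAlgebra
    let algB : Algebra (Y.presheaf.stalk (f x)) B := (φ.comp b.hom).toAlgebra
    have : Algebra.FormallySmooth (Y.presheaf.stalk (f x)) (X.presheaf.stalk x) := hx
    let a' : X.presheaf.stalk x →ₐ[Y.presheaf.stalk (f x)] B :=
      { a.hom with
        commutes' := fun r => by
          show a.hom ((f.stalkMap x).hom r) = φ (b.hom r)
          have := congrArg (fun h => h.hom r) hcomp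
          exact this.symm }
    let φ' : B' →ₐ[Y.presheaf.stalk (f x)] B := { φ with commutes' := fun r => rfl }
    have hφ' : Function.Surjective φ' := hφ
    have hker' : IsNilpotent (RingHom.ker (φ' : B' →+* B)) := ⟨2, hker⟩
    let g : X.presheaf.stalk x →ₐ[Y.presheaf.stalk (f x)] B' :=
      Algebra.FormallySmooth.liftOfSurjective a' φ' hφ' hker'
    have hg1 : ∀ c, φ (g c) = a.hom c :=
      Algebra.FormallySmooth.liftOfSurjective_apply a' φ' hφ' hker'
    refine ⟨Spec.map (CommRingCat.ofHom g.toRingHom) ≫ X.fromSpecStalk x, ?_, ?_⟩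
    · rw [← Category.assoc, ← Spec.map_comp, ← ha]
      congr 2
      ext c
      exact hg1 c
    · rw [Category.assoc, ← Scheme.SpecMap_stalkMap_fromSpecStalk, ← Category.assoc,
        ← Spec.map_comp, ← hb]
      congr 2
      ext r
      exact g.commutes r
  · intro H
    let algC : Algebra (Y.presheaf.stalk (f x)) (X.presheaf.stalk x) :=
      (f.stalkMap x).hom.toAlgebra
    show Algebra.FormallySmooth (Y.presheaf.stalk (f x)) (X.presheaf.stalk x)
    refine Algebra.FormallySmooth.of_comp_surjective fun S _ _ I hI g₀ => ?_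
    have locPB : IsLocalRing (PB I g₀) := isLocalRing_PB I g₀ hI
    have hsurj : Function.Surjective (p₁ I g₀ : PB I g₀ →+* X.presheaf.stalk x) :=
      p₁_surjective I g₀
    have hk := ker_p₁_sq I g₀ hI
    have hloc : IsLocalHom (p₁ I g₀ : PB I g₀ →+* X.presheaf.stalk x) :=
      isLocalHom_of_surjective _ hsurj
    let β : Spec (CommRingCat.of (PB I g₀)) ⟶ Y :=
      Spec.map (CommRingCat.ofHom (algebraMap (Y.presheaf.stalk (f x)) (PB I g₀))) ≫
        Y.fromSpecStalk (f x)
    have hβ : Spec.map (CommRingCat.ofHom (p₁ I g₀ : PB I g₀ →+* X.presheaf.stalk x)) ≫ β =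
        X.fromSpecStalk x ≫ f := by
      rw [← Scheme.SpecMap_stalkMap_fromSpecStalk]
      show _ ≫ _ ≫ _ = _
      rw [← Category.assoc, ← Spec.map_comp]
      congr 2
    obtain ⟨γ, hγ1, hγ2⟩ := H (X.presheaf.stalk x) (PB I g₀)
      (p₁ I g₀ : PB I g₀ →+* X.presheaf.stalk x) hsurj hk (X.fromSpecStalk x) β
      Scheme.fromSpecStalk_closedPoint hβ
    have hcl : (Spec.map (CommRingCat.ofHom (p₁ I g₀ : PB I g₀ →+* X.presheaf.stalk x)))
        (IsLocalRing.closedPoint (X.presheaf.stalk x)) = IsLocalRing.closedPoint (PB I g₀) :=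
      Spec_closedPoint (R := CommRingCat.of (PB I g₀)) (S := X.presheaf.stalk x)
        (f := CommRingCat.ofHom (p₁ I g₀ : PB I g₀ →+* X.presheaf.stalk x))
    have hγx : γ (IsLocalRing.closedPoint (PB I g₀)) = x := by
      have h1 : γ ((Spec.map (CommRingCat.ofHom (p₁ I g₀ : PB I g₀ →+* X.presheaf.stalk x)))
          (IsLocalRing.closedPoint (X.presheaf.stalk x))) =
          (X.fromSpecStalk x) (IsLocalRing.closedPoint (X.presheaf.stalk x)) :=
        congrArg (fun g : Spec (X.presheaf.stalk x) ⟶ X =>
          g (IsLocalRing.closedPoint (X.presheaf.stalk x))) hγ1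
      rw [hcl, Scheme.fromSpecStalk_closedPoint] at h1
      exact h1
    obtain ⟨g, hg⟩ := exists_stalk_hom (R := CommRingCat.of (PB I g₀)) γ x hγx
    have h1 : g ≫ CommRingCat.ofHom (p₁ I g₀ : PB I g₀ →+* X.presheaf.stalk x) =
        𝟙 (X.presheaf.stalk x) := by
      apply stalk_hom_cancel (X := X) (x := x)
      rw [Spec.map_comp, Category.assoc, hg, hγ1, Spec.map_id]
      exact (Category.id_comp _).symm
    have h2 : f.stalkMap x ≫ g =
        CommRingCat.ofHom (algebraMap (Y.presheaf.stalk (f x)) (PB I g₀)) := by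
      apply stalk_hom_cancel (X := Y) (x := f x)
      rw [Spec.map_comp, Category.assoc, Scheme.SpecMap_stalkMap_fromSpecStalk,
        ← Category.assoc, hg, hγ2]
    let g' : X.presheaf.stalk x →ₐ[Y.presheaf.stalk (f x)] PB I g₀ :=
      { g.hom with
        commutes' := fun r => by
          have := congrArg (fun h => h.hom r) h2
          exact this }
    refine ⟨(p₂ I g₀).comp g', ?_⟩
    ext c
    show Ideal.Quotient.mk I (p₂ I g₀ (g.hom c)) = g₀ c
    rw [mk_p₂]
    congr 1
    have := congrArg (fun h => h.hom c) h1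
    exact this

end Groth.Agent.S5008
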