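import Groth.Statements.S5009
import Groth.Agent.Lib.Helper61.LocalLift
import Groth.Agent.Lib.Helper14.EtaleNhd

set_option autoImplicit false
universe u
open CategoryTheory CategoryTheory.Limits AlgebraicGeometry TopologicalSpace
open Unram17

namespace Groth.Agent.S5009

open Groth.Agent.Lib.Helper61.LocalLift

/-- Let f : X ⟶ Y be locally of finite presentation and x a point of X. Then f is (formally) unramified
on an open neighbourhood of x if and only if for every surjection of local rings B' → B with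
square-zero kernel, every morphism Spec B ⟶ X sending the closed point to x and every morphism Spec
B' ⟶ Y making the square commute, any two lifts Spec B' ⟶ X compatible with both are equal. -/
theorem result {X Y : Scheme.{u}} (f : X ⟶ Y)
    [LocallyOfFinitePresentation f] (x : ↥X) :
    (∃ U : X.Opens, x ∈ U ∧ FormallyUnramified (U.ι ≫ f)) ↔
      ∀ (B B' : Type u) [CommRing B] [CommRing B'] [IsLocalRing B] [IsLocalRing B'] (φ : B' →+* B),
      Function.Surjective φ → RingHom.ker φ ^ 2 = ⊥ →
      ∀ (α : Spec (CommRingCat.of B) ⟶ X) (β : Spec (CommRingCat.of B') ⟶ Y),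
        α.base (IsLocalRing.closedPoint B) = x → Spec.map (CommRingCat.ofHom φ) ≫ β = α ≫ f →
        ∀ γ₁ γ₂ : Spec (CommRingCat.of B') ⟶ X,
          Spec.map (CommRingCat.ofHom φ) ≫ γ₁ = α → γ₁ ≫ f = β →
          Spec.map (CommRingCat.ofHom φ) ≫ γ₂ = α → γ₂ ≫ f = β → γ₁ = γ₂ := by
  classical
  have key : (∃ U : X.Opens, x ∈ U ∧ FormallyUnramified (U.ι ≫ f)) ↔
      (f.stalkMap x).hom.FormallyUnramified := by
    constructor
    · rintro ⟨U, hxU, hU⟩
      exact Groth.Agent.Lib.Helper14.stalkMap_property_of_nhd f _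
        RingHom.FormallyUnramified.respectsIso U ⟨x, hxU⟩
        (FormallyUnramified.stalkMap (U.ι ≫ f) _)
    · exact Groth.Agent.Lib.Helper14.exists_formallyUnramified_nhd_of_stalkMap f x
  rw [key]
  constructor
  · intro hx B B' _ _ _ _ φ hφ hker α β hα hβ γ₁ γ₂ h11 h12 h21 h22
    have hφloc : IsLocalHom φ := isLocalHom_of_surjective φ hφ
    have hcl : (Spec.map (CommRingCat.ofHom φ)) (IsLocalRing.closedPoint B) =
        IsLocalRing.closedPoint B' :=
      Spec_closedPoint (R := CommRingCat.of B') (S := CommRingCat.of B) (f := CommRingCat.ofHom φ)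
    have hγx : ∀ γ : Spec (CommRingCat.of B') ⟶ X, Spec.map (CommRingCat.ofHom φ) ≫ γ = α →
        γ (IsLocalRing.closedPoint B') = x := by
      intro γ hγ
      have h1 : γ ((Spec.map (CommRingCat.ofHom φ)) (IsLocalRing.closedPoint B)) =
          α (IsLocalRing.closedPoint B) :=
        congrArg (fun g : Spec (CommRingCat.of B) ⟶ X => g (IsLocalRing.closedPoint B)) hγ
      rw [hcl, hα] at h1
      exact h1
    obtain ⟨g₁, hg₁⟩ := exists_stalk_hom (R := CommRingCat.of B') γ₁ x (hγx γ₁ h11)
    obtain ⟨g₂, hg₂⟩ := exists_stalk_hom (R := CommRingCat.of B') γ₂ x (hγx γ₂ h21)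
    have e1 : g₁ ≫ CommRingCat.ofHom φ = g₂ ≫ CommRingCat.ofHom φ := by
      apply stalk_hom_cancel (X := X) (x := x)
      rw [Spec.map_comp, Category.assoc, hg₁, h11, Spec.map_comp, Category.assoc, hg₂, h21]
    have e2 : f.stalkMap x ≫ g₁ = f.stalkMap x ≫ g₂ := by
      apply stalk_hom_cancel (X := Y) (x := f x)
      rw [Spec.map_comp, Category.assoc, Scheme.SpecMap_stalkMap_fromSpecStalk,
        ← Category.assoc, hg₁, h12, Spec.map_comp, Category.assoc,
        Scheme.SpecMap_stalkMap_fromSpecStalk, ← Category.assoc, hg₂, h22]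
    let algC : Algebra (Y.presheaf.stalk (f x)) (X.presheaf.stalk x) :=
      (f.stalkMap x).hom.toAlgebra
    let algB' : Algebra (Y.presheaf.stalk (f x)) B' :=
      (g₁.hom.comp (f.stalkMap x).hom).toAlgebra
    have hun : Algebra.FormallyUnramified (Y.presheaf.stalk (f x)) (X.presheaf.stalk x) := hx
    let g₁' : X.presheaf.stalk x →ₐ[Y.presheaf.stalk (f x)] B' :=
      { g₁.hom with commutes' := fun r => rfl }
    let g₂' : X.presheaf.stalk x →ₐ[Y.presheaf.stalk (f x)] B' :=
      { g₂.hom with
        commutes' := fun r => by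
          have := congrArg (fun h => h.hom r) e2
          exact this.symm }
    have hgg : g₁' = g₂' :=
      Algebra.FormallyUnramified.ext' φ ⟨2, hker⟩ g₁' g₂'
        (fun c => congrArg (fun h => h.hom c) e1)
    have hgg' : g₁ = g₂ := by
      ext c
      exact congrArg (fun h => h c) hgg
    rw [← hg₁, ← hg₂, hgg']
  · intro H
    let algC : Algebra (Y.presheaf.stalk (f x)) (X.presheaf.stalk x) :=
      (f.stalkMap x).hom.toAlgebra
    show Algebra.FormallyUnramified (Y.presheaf.stalk (f x)) (X.presheaf.stalk x)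
    rw [Algebra.FormallyUnramified.iff_comp_injective]
    intro S _ _ I hI g₁ g₂ hg
    have locPB : IsLocalRing (PB I ((Ideal.Quotient.mkₐ (Y.presheaf.stalk (f x)) I).comp g₁)) :=
      isLocalRing_PB I _ hI
    have hsurj : Function.Surjective
        (p₁ I ((Ideal.Quotient.mkₐ (Y.presheaf.stalk (f x)) I).comp g₁) :
          PB I ((Ideal.Quotient.mkₐ (Y.presheaf.stalk (f x)) I).comp g₁) →+*
            X.presheaf.stalk x) := p₁_surjective I _
    have hk := ker_p₁_sq I ((Ideal.Quotient.mkₐ (Y.presheaf.stalk (f x)) I).comp g₁) hI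
    let β : Spec (CommRingCat.of
        (PB I ((Ideal.Quotient.mkₐ (Y.presheaf.stalk (f x)) I).comp g₁))) ⟶ Y :=
      Spec.map (CommRingCat.ofHom (algebraMap (Y.presheaf.stalk (f x))
        (PB I ((Ideal.Quotient.mkₐ (Y.presheaf.stalk (f x)) I).comp g₁)))) ≫
        Y.fromSpecStalk (f x)
    have hβ : Spec.map (CommRingCat.ofHom
        (p₁ I ((Ideal.Quotient.mkₐ (Y.presheaf.stalk (f x)) I).comp g₁) :
          PB I ((Ideal.Quotient.mkₐ (Y.presheaf.stalk (f x)) I).comp g₁) →+*
            X.presheaf.stalk x)) ≫ β = X.fromSpecStalk x ≫ f := by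
      rw [← Scheme.SpecMap_stalkMap_fromSpecStalk]
      show _ ≫ _ ≫ _ = _
      rw [← Category.assoc, ← Spec.map_comp]
      congr 2
    let s₁ := sec I ((Ideal.Quotient.mkₐ (Y.presheaf.stalk (f x)) I).comp g₁) g₁ rfl
    let s₂ := sec I ((Ideal.Quotient.mkₐ (Y.presheaf.stalk (f x)) I).comp g₁) g₂ hg.symm
    have hsec : ∀ s : X.presheaf.stalk x →ₐ[Y.presheaf.stalk (f x)]
        PB I ((Ideal.Quotient.mkₐ (Y.presheaf.stalk (f x)) I).comp g₁),
        (∀ c, p₁ I _ (s c) = c) →
        Spec.map (CommRingCat.ofHom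
          (p₁ I ((Ideal.Quotient.mkₐ (Y.presheaf.stalk (f x)) I).comp g₁) :
            PB I ((Ideal.Quotient.mkₐ (Y.presheaf.stalk (f x)) I).comp g₁) →+*
              X.presheaf.stalk x)) ≫
          (Spec.map (CommRingCat.ofHom s.toRingHom) ≫ X.fromSpecStalk x) = X.fromSpecStalk x ∧
        (Spec.map (CommRingCat.ofHom s.toRingHom) ≫ X.fromSpecStalk x) ≫ f = β := by
      intro s hs
      constructor
      · rw [← Category.assoc, ← Spec.map_comp]
        have : CommRingCat.ofHom s.toRingHom ≫ CommRingCat.ofHom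
            (p₁ I ((Ideal.Quotient.mkₐ (Y.presheaf.stalk (f x)) I).comp g₁) :
              PB I ((Ideal.Quotient.mkₐ (Y.presheaf.stalk (f x)) I).comp g₁) →+*
                X.presheaf.stalk x) = 𝟙 (X.presheaf.stalk x) := by
          ext c
          exact hs c
        rw [this]
        erw [Spec.map_id]
        exact Category.id_comp _
      · rw [Category.assoc, ← Scheme.SpecMap_stalkMap_fromSpecStalk, ← Category.assoc,
          ← Spec.map_comp]
        show _ = _ ≫ _
        congr 2
        exact CommRingCat.hom_ext (RingHom.ext fun r => s.commutes r)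
    obtain ⟨h11, h12⟩ := hsec s₁ (fun c => rfl)
    obtain ⟨h21, h22⟩ := hsec s₂ (fun c => rfl)
    have hγ := H (X.presheaf.stalk x)
      (PB I ((Ideal.Quotient.mkₐ (Y.presheaf.stalk (f x)) I).comp g₁))
      (p₁ I ((Ideal.Quotient.mkₐ (Y.presheaf.stalk (f x)) I).comp g₁) :
        PB I ((Ideal.Quotient.mkₐ (Y.presheaf.stalk (f x)) I).comp g₁) →+* X.presheaf.stalk x)
      hsurj hk (X.fromSpecStalk x) β Scheme.fromSpecStalk_closedPoint hβ _ _ h11 h12 h21 h22
    have hs : CommRingCat.ofHom s₁.toRingHom = CommRingCat.ofHom s₂.toRingHom :=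
      stalk_hom_cancel (X := X) (x := x) hγ
    ext c
    have := congrArg (fun h => (p₂ I _ (h.hom c))) hs
    exact this

end Groth.Agent.S5009
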