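import Groth.Statements.S5012
import Groth.Agent.S2116
import Groth.Agent.S2451
import Groth.Agent.Lib.Helper85.RegularLocal
import Mathlib

set_option autoImplicit false
universe u
open Unram17

namespace Groth.Agent.S5012

theorem maximalIdeal_eq_bot {A : Type*} [CommRing A] (p : Ideal A) [p.IsPrime]
    (hp : p ∈ minimalPrimes A) [IsReduced (Localization.AtPrime p)] :
    IsLocalRing.maximalIdeal (Localization.AtPrime p) = ⊥ := by
  have hsub := IsLocalization.subsingleton_primeSpectrum_of_mem_minimalPrimes p hp
    (Localization.AtPrime p)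
  rw [eq_bot_iff]
  intro x hx
  have hnil : IsNilpotent x := by
    rw [nilpotent_iff_mem_prime]
    intro J hJ
    have : (⟨J, hJ⟩ : PrimeSpectrum (Localization.AtPrime p)) =
        ⟨IsLocalRing.maximalIdeal _, inferInstance⟩ := Subsingleton.elim _ _
    have h2 : J = IsLocalRing.maximalIdeal _ := congrArg PrimeSpectrum.asIdeal this
    rw [h2]
    exact hx
  exact hnil.eq_zero

/-- for a minimal prime with reduced localization, the localization is its residue field -/
noncomputable def equivResidueField {k A : Type*} [Field k] [CommRing A] [Algebra k A]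
    (p : Ideal A) [p.IsPrime]
    (hp : p ∈ minimalPrimes A) [IsReduced (Localization.AtPrime p)] :
    Localization.AtPrime p ≃ₐ[k] p.ResidueField :=
  AlgEquiv.ofBijective (IsScalarTower.toAlgHom k (Localization.AtPrime p) p.ResidueField) (by
    constructor
    · rw [injective_iff_map_eq_zero]
      intro x hx
      have hx' : IsLocalRing.residue (Localization.AtPrime p) x = 0 := hx
      rw [IsLocalRing.residue_eq_zero_iff, maximalIdeal_eq_bot p hp] at hx'
      exact hx'
    · exact IsLocalRing.residue_surjective)

theorem smoothAt_iff_geomReduced (k A : Type u) [Field k] [CommRing A] [Algebra k A]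
    [Algebra.FiniteType k A] (p : Ideal A) [p.IsPrime] (hp : p ∈ minimalPrimes A) :
    Algebra.IsSmoothAt k p ↔ Algebra.IsGeometricallyReduced k (Localization.AtPrime p) := by
  constructor
  · intro h
    have hreg : IsRegularLocalRing (Localization.AtPrime p) :=
      Groth.Agent.S2116.isRegularLocalRing_of_isSmoothAt k A p h
    have hdom : IsDomain (Localization.AtPrime p) :=
      Groth.Agent.Lib.Helper85.isDomain_of_isRegularLocalRing _
    let e := equivResidueField (k := k) p hp
    have h1 : Algebra.FormallySmooth k p.ResidueField := Algebra.FormallySmooth.of_equiv e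
    have h2 : Algebra.IsGeometricallyReduced k p.ResidueField :=
      Groth.Agent.S2451.result.mp h1
    exact Algebra.IsGeometricallyReduced.of_injective e.toAlgHom e.injective
  · intro h
    have hred : IsReduced (Localization.AtPrime p) := Algebra.isReduced_of_isGeometricallyReduced k
    let e := equivResidueField (k := k) p hp
    have h2 : Algebra.IsGeometricallyReduced k p.ResidueField :=
      Algebra.IsGeometricallyReduced.of_injective e.symm.toAlgHom e.symm.injective
    have h1 : Algebra.FormallySmooth k p.ResidueField := Groth.Agent.S2451.result.mpr h2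
    exact Algebra.FormallySmooth.of_equiv e.symm

/-- Let A be an algebra of finite type over a field k. Then Spec A has a dense open subset consisting of
points at which A is smooth over k if and only if, for every minimal prime p of A, the local ring
A_p is geometrically reduced over k (that is, A_p is a field and a separable extension of k). -/
theorem result (k A : Type u) [Field k] [CommRing A] [Algebra k A]
    [Algebra.FiniteType k A] :
    (∃ U : TopologicalSpace.Opens (PrimeSpectrum A), Dense (U : Set (PrimeSpectrum A)) ∧
        ∀ p ∈ U, Algebra.IsSmoothAt k p.asIdeal) ↔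
      ∀ (p : Ideal A) [p.IsPrime], p ∈ minimalPrimes A →
        Algebra.IsGeometricallyReduced k (Localization.AtPrime p) := by
  have hfp : Algebra.FinitePresentation k A :=
    Algebra.FinitePresentation.of_finiteType.mp inferInstance
  have hnoeth : IsNoetherianRing A := Algebra.FiniteType.isNoetherianRing k A
  constructor
  · rintro ⟨U, hUd, hU⟩ p hpp hp
    rw [← smoothAt_iff_geomReduced k A p hp]
    suffices h : (⟨p, hpp⟩ : PrimeSpectrum A) ∈ U from hU _ h
    let Z : Set (PrimeSpectrum A) :=
      ⋃ q ∈ (minimalPrimes A \ {p}), PrimeSpectrum.zeroLocus (q : Set A)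
    have hZ : IsClosed Z := Set.Finite.isClosed_biUnion
      ((minimalPrimes.finite_of_isNoetherianRing A).subset Set.sdiff_subset)
      (fun q _ => PrimeSpectrum.isClosed_zeroLocus _)
    have hpZ : (⟨p, hpp⟩ : PrimeSpectrum A) ∉ Z := by
      simp only [Z, Set.mem_iUnion, PrimeSpectrum.mem_zeroLocus, not_exists]
      intro q hq hqp
      have hqp' : q ≤ p := hqp
      exact hq.2 (le_antisymm hqp' (hp.2 hq.1.1 hqp'))
    obtain ⟨x, hxZ, hxU⟩ := hUd.inter_open_nonempty Zᶜ hZ.isOpen_compl ⟨_, hpZ⟩
    obtain ⟨q, hq, hqx⟩ := Ideal.exists_minimalPrimes_le (bot_le : ⊥ ≤ x.asIdeal)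
    have hqp : q = p := by
      by_contra hne
      apply hxZ
      simp only [Z, Set.mem_iUnion]
      exact ⟨q, ⟨hq, hne⟩, hqx⟩
    subst hqp
    have hspec : (⟨q, hpp⟩ : PrimeSpectrum A) ⤳ x :=
      (PrimeSpectrum.le_iff_specializes _ _).mp hqx
    exact hspec.mem_open U.isOpen hxU
  · intro h
    refine ⟨⟨Algebra.smoothLocus k A, Algebra.isOpen_smoothLocus⟩, ?_, fun p hp => hp⟩
    rw [dense_iff_inter_open]
    rintro V hV ⟨x, hx⟩
    obtain ⟨q, hq, hqx⟩ := Ideal.exists_minimalPrimes_le (bot_le : ⊥ ≤ x.asIdeal)
    have hqp : q.IsPrime := hq.1.1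
    refine ⟨⟨q, hqp⟩, ?_, ?_⟩
    · exact ((PrimeSpectrum.le_iff_specializes ⟨q, hqp⟩ x).mp hqx).mem_open hV hx
    · exact (smoothAt_iff_geomReduced k A q hq).mpr (h q hq)

end Groth.Agent.S5012
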