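import Groth.Statements.S5013
import Groth.Agent.Lib.Helper12.SmoothFibreRing
import Groth.Agent.S2561
import Groth.Agent.S4939
import Groth.Agent.S2595

set_option autoImplicit false
universe u
open CategoryTheory CategoryTheory.Limits AlgebraicGeometry TopologicalSpace
open Unram17

namespace Groth.Agent.S5013

/-- Let Y be locally Noetherian, f : X ⟶ Y locally of finite type, x a point of X with image y, and
suppose the local ring of Y at y is reduced and geometrically unibranch. Then f is smooth on an open
neighbourhood of x if and only if f is equidimensional at x and the local ring of the fibre at x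
(the quotient of the local ring of X at x by the extension of the maximal ideal at y) is
geometrically regular over the residue field κ(y). -/
theorem result {X Y : Scheme.{u}} (f : X ⟶ Y)
    [IsLocallyNoetherian Y] [LocallyOfFiniteType f] (x : ↥X)
    (hred : IsReduced ↑(Y.presheaf.stalk (f.base x)))
    (hgu : CAlg2.IsGeomUnibranch ↑(Y.presheaf.stalk (f.base x))) :
    letI φ := (f.stalkMap x).hom
    letI 𝔪 := IsLocalRing.maximalIdeal ↑(Y.presheaf.stalk (f.base x))
    letI : Algebra (IsLocalRing.ResidueField ↑(Y.presheaf.stalk (f.base x))) (↑(X.presheaf.stalk x) ⧸ 𝔪.map φ) :=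
      (Ideal.quotientMap (𝔪.map φ) φ Ideal.le_comap_map).toAlgebra
    (∃ U : X.Opens, x ∈ U ∧ Smooth (U.ι ≫ f)) ↔
      EGA43.IsEquidimAt f x ∧
        CAlg.IsGeometricallyRegular (IsLocalRing.ResidueField ↑(Y.presheaf.stalk (f.base x)))
          (↑(X.presheaf.stalk x) ⧸ 𝔪.map φ) := by
  open Groth.Agent.Lib.Helper12.SmoothFibreRing in
  haveI : LocallyOfFinitePresentation f := inferInstance
  haveI : LocallyOfFinitePresentation (f.fiberToSpecResidueField (f.base x)) :=
    inferInstanceAs (LocallyOfFinitePresentation
      (pullback.snd f (Y.fromSpecResidueField (f.base x))))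
  change _ ↔ _ ∧ FibRingGeomReg f x
  rw [exists_smooth_nhd_iff_flat_and_fibRingGeomReg]
  constructor
  · rintro ⟨hflat, hreg⟩
    refine ⟨?_, hreg⟩
    have hz := (asFiber_mem_smoothLocus_iff f x).mpr hreg
    have hCM := @isCohenMacaulayLocalRing_of_mem_smoothLocus
      (IsLocalRing.ResidueField (Y.presheaf.stalk (f.base x))) _ (f.fiber (f.base x))
      (f.fiberToSpecResidueField (f.base x)) ‹_› (f.asFiber x) hz
    exact Groth.Agent.S2595.result f x hflat hCM
  · rintro ⟨heq, hreg⟩
    refine ⟨?_, hreg⟩
    have h2 := ((Groth.Agent.S4939.result f x hgu).out 0 2).mp heq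
    exact Groth.Agent.S2561.result f x h2.2 (geomReducedAt_of_fibRingGeomReg f x hreg) hred

end Groth.Agent.S5013
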