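import Groth.Statements.S5014
import Groth.Agent.Lib.Helper24.EtaleKaehler

set_option autoImplicit false
universe u
open Unram17

namespace Groth.Agent.S5014

/-- Let C be a smooth algebra over a commutative ring A, equipped with an A-algebra map from the
polynomial ring in r variables (images s_i of the variables), and let q be a prime of C. Then C is
etale at q over the polynomial ring if and only if the differentials of the s_i are linearly
independent and generate the module of differentials of the local ring C_q over A, i.e. form a basis
of it. -/
theorem result (A C : Type u) [CommRing A] [CommRing C]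
    [Algebra A C] [Algebra.Smooth A C] (r : ℕ) [Algebra (MvPolynomial (Fin r) A) C]
    [IsScalarTower A (MvPolynomial (Fin r) A) C] (q : Ideal C) [q.IsPrime] :
    Algebra.IsEtaleAt (MvPolynomial (Fin r) A) q ↔
      LinearIndependent (Localization.AtPrime q)
          (fun i : Fin r => KaehlerDifferential.D A (Localization.AtPrime q)
            (algebraMap C (Localization.AtPrime q) (algebraMap (MvPolynomial (Fin r) A) C (MvPolynomial.X i)))) ∧
        Submodule.span (Localization.AtPrime q)
          (Set.range fun i : Fin r => KaehlerDifferential.D A (Localization.AtPrime q)
            (algebraMap C (Localization.AtPrime q) (algebraMap (MvPolynomial (Fin r) A) C (MvPolynomial.X i)))) = ⊤ := by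
  have hsm : Algebra.FormallySmooth A (Localization.AtPrime q) :=
    Algebra.FormallySmooth.comp A C (Localization.AtPrime q)
  show Algebra.FormallyEtale (MvPolynomial (Fin r) A) (Localization.AtPrime q) ↔ _
  rw [Groth.Agent.Lib.Helper24.formallyEtale_iff_bijective_mapBaseChange A
    (MvPolynomial (Fin r) A) (Localization.AtPrime q)]
  rw [Groth.Agent.Lib.Helper24.bijective_iff_linearIndependent_and_span_of_basis
    ((KaehlerDifferential.mvPolynomialBasis A (Fin r)).baseChange (Localization.AtPrime q))]
  have key : ∀ i : Fin r,
      KaehlerDifferential.mapBaseChange A (MvPolynomial (Fin r) A) (Localization.AtPrime q)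
        (((KaehlerDifferential.mvPolynomialBasis A (Fin r)).baseChange (Localization.AtPrime q)) i) =
      KaehlerDifferential.D A (Localization.AtPrime q)
        (algebraMap C (Localization.AtPrime q)
          (algebraMap (MvPolynomial (Fin r) A) C (MvPolynomial.X i))) := by
    intro i
    rw [Module.Basis.baseChange_apply, KaehlerDifferential.mvPolynomialBasis_apply,
      KaehlerDifferential.mapBaseChange_tmul, one_smul, KaehlerDifferential.map_D,
      ← IsScalarTower.algebraMap_apply]
  simp only [key]

end Groth.Agent.S5014
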