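import Groth.Statements.S5015
-- import your own Groth.Agent.* helpers here
import Groth.Agent.Lib.Helper51.OmegaUniv.SecDer

set_option autoImplicit false
universe u
open CategoryTheory CategoryTheory.Limits AlgebraicGeometry TopologicalSpace
open Unram17

namespace Groth.Agent.S5015

/-- Let g : Y ⟶ S and h : X ⟶ S be morphisms and f : X ⟶ Y with f ≫ g = h. Given sheaves of
differentials of Y over S and of X over S (universal derivations dY, dX) and the canonical map c
from the pullback of the former to the latter (the O_X-linear map carrying the pullback of dY s to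
dX of the pullback of s), f is formally unramified if and only if c is an epimorphism of
O_X-modules. -/
theorem result {X Y S : Scheme.{u}} (g : Y ⟶ S) (h : X ⟶ S)
    (f : X ⟶ Y) (w : f ≫ g = h)
    (ΩY : Y.Modules) (dY : OmegaSh.Der g ΩY) (hY : OmegaSh.IsUniversal dY)
    (ΩX : X.Modules) (dX : OmegaSh.Der h ΩX) (hX : OmegaSh.IsUniversal dX)
    (c : (Scheme.Modules.pullback f).obj ΩY ⟶ ΩX) (hc : OmegaSh.IsDiffCompat f dY dX c) :
    FormallyUnramified f ↔ Epi c := by
  open Groth.Agent.Lib.Helper51.OmegaUniv Groth.Agent.Lib.Helper13.OmegaShYoneda OmegaSh in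
  constructor
  · intro hf
    refine ⟨fun {F} α β hαβ => ?_⟩
    apply hom_ext_of_isUniversal hX
    -- the derivation attached to `α - β`
    have hγ : c ≫ (α - β) = 0 := by rw [Preadditive.comp_sub, hαβ, sub_self]
    let D : Der h F := dX.postcomp (α - β).val
    have hDf : ∀ (V : Y.Opens) (b : Γ(Y, V)),
        (derCongr w.symm D).app (f ⁻¹ᵁ V) (f.app V b) = 0 := by
      intro V b
      rw [derCongr_app]
      change (α - β).app (f ⁻¹ᵁ V) (dX.app (f ⁻¹ᵁ V) (f.app V b)) = 0
      rw [← hc V b]
      change (c ≫ (α - β)).app (f ⁻¹ᵁ V) _ = 0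
      rw [hγ]
      rfl
    let D' : Der f F := derOfComp f g (derCongr w.symm D) hDf
    have hzero : ∀ (W : X.Opens) (s : Γ(X, W)), D'.app W s = 0 := by
      apply der_app_eq_zero_of_forall_chart
      intro ch s
      apply der_app_eq_zero_of_subsingleton D' ch.hUV
      let _ := (f.appLE ch.V ch.U ch.hUV).hom.toAlgebra
      have h1 : Algebra.FormallyUnramified Γ(Y, ch.V) Γ(X, ch.U) :=
        hf.formallyUnramified_appLE ch.hV ch.hU ch.hUV
      exact h1.subsingleton_kaehlerDifferential
    intro U s
    have h2 : D'.app U s = (α - β).app U (dX.app U s) := derCongr_app w.symm D U s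
    have h3 := hzero U s
    rw [h2, Scheme.Modules.Hom.sub_app] at h3
    exact sub_eq_zero.mp h3
  · intro hc'
    refine ⟨fun {V} hV {U} hU hUV => ?_⟩
    let φ := f.appLE V U hUV
    let _ := φ.hom.toAlgebra
    -- the affine model derivation, pushed forward to `X`
    let tD : Der (Spec.map φ) (tilde (kaehlerMod φ)) := (kaehlerDer φ).tildeDer
    have hsq : Spec.map φ ≫ hV.fromSpec = hU.fromSpec ≫ f :=
      IsAffineOpen.SpecMap_appLE_fromSpec f hV hU hUV
    let Df : Der f ((Scheme.Modules.pushforward hU.fromSpec).obj (tilde (kaehlerMod φ))) :=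
      pushDer f (Spec.map φ) hU.fromSpec hV.fromSpec hsq tD
    let D : Der h _ := derCongr w (derComp f g Df)
    obtain ⟨α, hα, -⟩ := hX _ D
    have hα' : ∀ (W : X.Opens) (s : Γ(X, W)), α.app W (dX.app W s) = Df.app W s := by
      intro W s
      have := congrArg (fun E => Der.app E W s) hα
      exact this.trans (derCongr_app w (derComp f g Df) W s)
    have hcα : c ≫ α = 0 := by
      apply pullback_hom_ext_of_isUniversal f hY
      intro V' b
      change α.app (f ⁻¹ᵁ V') (c.app (f ⁻¹ᵁ V') (pullSect f ΩY V' (dY.app V' b))) = 0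
      rw [hc V' b, hα']
      exact der_app_app Df V' b
    have hα0 : α = 0 := by
      have := hc'.left_cancellation α 0 (by rw [hcα, comp_zero])
      exact this
    -- hence `D s = 0` for all `s`
    have hD0 : ∀ s : Γ(X, U), (kaehlerDer φ).d s = 0 := by
      intro s
      have h1 : Df.app U s = 0 := by rw [← hα', hα0]; rfl
      have h2 : Df.app U s = tD.app (hU.fromSpec ⁻¹ᵁ U) (hU.fromSpec.app U s) := rfl
      have h3 : hU.fromSpec.app U s =
          algebraMap Γ(X, U) Γ(Spec Γ(X, U), hU.fromSpec ⁻¹ᵁ U) s := by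
        rw [AlgebraicGeometry.IsAffineOpen.algebraMap_Spec_obj, hU.fromSpec_app_self]
        rfl
      rw [h2, h3, AlgDer.tildeDer_app_algebraMap'] at h1
      have htop : (⊤ : (Spec Γ(X, U)).Opens) ≤ hU.fromSpec ⁻¹ᵁ U := by
        rw [hU.fromSpec_preimage_self]
      have h4 := tilde.toOpen_res (kaehlerMod φ) (hU.fromSpec ⁻¹ᵁ U) ⊤ (homOfLE htop)
      have h5 := congrArg (fun k => k.hom ((kaehlerDer φ).d s)) h4
      simp only [ModuleCat.hom_comp, LinearMap.comp_apply] at h5
      have h6 : (tilde.toOpen (kaehlerMod φ) ⊤).hom ((kaehlerDer φ).d s) = 0 :=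
        h5.symm.trans ((congrArg _ h1).trans (map_zero _))
      have hinj : Function.Injective (tilde.toOpen (kaehlerMod φ) ⊤).hom :=
        ((ConcreteCategory.isIso_iff_bijective (tilde.toOpen (kaehlerMod φ) ⊤)).mp
          inferInstance).1
      exact hinj (h6.trans (map_zero _).symm)
    have hsub : Subsingleton Ω[Γ(X, U)⁄Γ(Y, V)] := by
      refine ⟨fun a b => ?_⟩
      have hz : ∀ m : Ω[Γ(X, U)⁄Γ(Y, V)], m = 0 := by
        intro m
        have hm : m ∈ Submodule.span Γ(X, U) (Set.range (KaehlerDifferential.D Γ(Y, V) Γ(X, U))) := by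
          rw [KaehlerDifferential.span_range_derivation]; trivial
        induction hm using Submodule.span_induction with
        | mem m hm => obtain ⟨s, rfl⟩ := hm; exact hD0 s
        | zero => rfl
        | add m₁ m₂ _ _ h₁ h₂ => rw [h₁, h₂, add_zero]
        | smul r m _ hm => rw [hm, smul_zero]
      rw [hz a, hz b]
    exact ⟨hsub⟩

end Groth.Agent.S5015
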