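import Groth.Statements.S5016
-- import your own Groth.Agent.* helpers here
import Groth.Agent.Lib.Helper51.OmegaUniv.DiffCompatIso
import Groth.Agent.Lib.Helper51.OmegaUniv.KaehlerAlg2
import Groth.Agent.Lib.Helper7.FormallySmoothLift

set_option autoImplicit false
universe u
open CategoryTheory CategoryTheory.Limits AlgebraicGeometry TopologicalSpace
open Unram17

namespace Groth.Agent.S5016

/-- Let g : Y ⟶ S, h : X ⟶ S and f : X ⟶ Y with f ≫ g = h, and suppose f is formally smooth. Given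
sheaves of differentials of Y over S and of X over S (universal derivations) and the canonical
compatible map c from the pullback of the former to the latter, c is a monomorphism of O_X-modules.
(The published statement also identifies the cokernel of this map with the sheaf of differentials of
X over Y and splits the sequence locally; this row states only that the map is injective.) -/
theorem result {X Y S : Scheme.{u}} (g : Y ⟶ S) (h : X ⟶ S)
    (f : X ⟶ Y) (w : f ≫ g = h) (hf : MoreMor.IsFormallySmoothHom f)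
    (ΩY : Y.Modules) (dY : OmegaSh.Der g ΩY) (hY : OmegaSh.IsUniversal dY)
    (ΩX : X.Modules) (dX : OmegaSh.Der h ΩX) (hX : OmegaSh.IsUniversal dX)
    (c : (Scheme.Modules.pullback f).obj ΩY ⟶ ΩX) (hc : OmegaSh.IsDiffCompat f dY dX c) :
    Mono c := by
  have hq₂ : ΩX.IsQuasicoherent :=
    Groth.Agent.Lib.Helper51.OmegaUniv.isQuasicoherent_of_isUniversal h hX
  have hq₁ : ΩY.IsQuasicoherent :=
    Groth.Agent.Lib.Helper51.OmegaUniv.isQuasicoherent_of_isUniversal g hY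
  have hq₃ : ((Scheme.Modules.pullback f).obj ΩY).IsQuasicoherent :=
    Groth.Agent.Lib.Helper16.FlatPull.isQuasicoherent_pullback f ΩY
  apply Groth.Agent.Lib.Helper51.OmegaUniv.mono_of_app_injective_of_cover
  intro x
  obtain ⟨V, hV, hxV, -⟩ := exists_isAffineOpen_mem_and_subset
    (x := g (f x)) (U := ⊤) trivial
  obtain ⟨U₁, hU₁, hxU₁, h₁⟩ := exists_isAffineOpen_mem_and_subset
    (x := f x) (U := g ⁻¹ᵁ V) hxV
  obtain ⟨U₂, hU₂, hxU₂, hh⟩ := exists_isAffineOpen_mem_and_subset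
    (x := x) (U := f ⁻¹ᵁ U₁) hxU₁
  have h₂ : U₂ ≤ h ⁻¹ᵁ V := by
    intro y hy
    change h y ∈ V
    rw [← w, Scheme.Hom.comp_apply]
    exact h₁ (hh hy)
  obtain ⟨e, e₂, L, hL, -, hsqL⟩ := Groth.Agent.Lib.Helper51.OmegaUniv.exists_chart_square
    f hY hX hc hU₁ hV h₁ hU₂ hV h₂ hh
  refine ⟨U₂, hU₂, hxU₂, Groth.Agent.Lib.Helper51.OmegaUniv.app_injective_of_chart_square
    f e.toEquiv e₂.toEquiv L hsqL ?_⟩
  let _ : Algebra Γ(S, V) Γ(Y, U₁) := (g.appLE V U₁ h₁).hom.toAlgebra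
  let _ : Algebra Γ(S, V) Γ(X, U₂) := (h.appLE V U₂ h₂).hom.toAlgebra
  let _ : Algebra Γ(Y, U₁) Γ(X, U₂) := (f.appLE U₁ U₂ hh).hom.toAlgebra
  have key : ∀ (a b : X ⟶ S) (_ : a = b) (h1 : U₂ ≤ a ⁻¹ᵁ V) (h2 : U₂ ≤ b ⁻¹ᵁ V),
      a.appLE V U₂ h1 = b.appLE V U₂ h2 := by
    rintro a b rfl _ _; rfl
  have t₁ : IsScalarTower Γ(S, V) Γ(Y, U₁) Γ(X, U₂) := by
    refine IsScalarTower.of_algebraMap_eq' ?_
    change (h.appLE V U₂ h₂).hom = (g.appLE V U₁ h₁ ≫ f.appLE U₁ U₂ hh).hom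
    rw [Scheme.Hom.appLE_comp_appLE]
    exact congrArg _ (key _ _ w.symm _ _)
  have u₂ : Algebra.FormallySmooth Γ(Y, U₁) Γ(X, U₂) :=
    Groth.Agent.Lib.Helper7.ringLevel_of_isFormallySmoothHom f hf U₂ U₁ hU₂ hU₁ hh
  exact Groth.Agent.Lib.Helper51.OmegaUniv.KAlg.injective_of_formallySmooth L hL

end Groth.Agent.S5016
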