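import Groth.Statements.S5017
import Groth.Agent.Lib.Helper24.MonoLocal

set_option autoImplicit false
universe u
open CategoryTheory CategoryTheory.Limits AlgebraicGeometry TopologicalSpace
open Unram17

namespace Groth.Agent.S5017

theorem isPurelyInseparable_of_surjective_ringHom {K L : Type u} [Field K] [Field L] (g : K →+* L)
    (hg : Function.Surjective g) : g.IsPurelyInseparable := by
  let _ : Algebra K L := g.toAlgebra
  exact ⟨Algebra.isIntegral_of_surjective hg, fun x _ => hg x⟩


/-- Let f : X ⟶ Y be locally of finite type. Then f is a monomorphism if and only if, for every point x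
of X with image y, x is the only point of its fibre and the canonical map from the residue field
κ(y) to the quotient of the local ring of X at x by the extension of the maximal ideal at y is
bijective (each nonempty fibre is Spec κ(y)). -/
theorem result {X Y : Scheme.{u}} (f : X ⟶ Y) [LocallyOfFiniteType f] :
    Mono f ↔ ∀ x : ↥X,
      (∀ x' : ↥X, f.base x' = f.base x → x' = x) ∧
        Function.Bijective
          (Ideal.quotientMap
            ((IsLocalRing.maximalIdeal ↑(Y.presheaf.stalk (f.base x))).map (f.stalkMap x).hom)
            (f.stalkMap x).hom Ideal.le_comap_map) := by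
  constructor
  · intro hmono x
    have hui : UniversallyInjective f := inferInstance
    have hun : FormallyUnramified f := inferInstance
    refine ⟨fun x' h => f.injective h, ?_⟩
    have h02 : UniversallyInjective f ↔
        (Function.Injective f ∧ ∀ x, (f.residueFieldMap x).hom.IsPurelyInseparable) :=
      (tfae_universallyInjective f).out 0 2
    have hpi : (f.residueFieldMap x).hom.IsPurelyInseparable := (h02.mp hui).2 x
    exact Groth.Agent.Lib.Helper24.bijective_quotientMap_of_formallyUnramified_of_isPurelyInseparable
      (f.stalkMap x).hom (LocallyOfFiniteType.stalkMap f x) (FormallyUnramified.stalkMap f x) hpi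
  · intro h
    have hinj : Function.Injective f := fun x x' hxx' => ((h x').1 x hxx')
    have hun : FormallyUnramified f :=
      HasRingHomProperty.of_stalkMap RingHom.FormallyUnramified.ofLocalizationPrime (fun x =>
        (Groth.Agent.Lib.Helper24.formallyUnramified_and_surjective_of_bijective_quotientMap
          (f.stalkMap x).hom (LocallyOfFiniteType.stalkMap f x) (h x).2).1)
    have hpi : ∀ x, (f.residueFieldMap x).hom.IsPurelyInseparable := fun x =>
      isPurelyInseparable_of_surjective_ringHom _
        (Groth.Agent.Lib.Helper24.formallyUnramified_and_surjective_of_bijective_quotientMap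
          (f.stalkMap x).hom (LocallyOfFiniteType.stalkMap f x) (h x).2).2
    have h02 : UniversallyInjective f ↔
        (Function.Injective f ∧ ∀ x, (f.residueFieldMap x).hom.IsPurelyInseparable) :=
      (tfae_universallyInjective f).out 0 2
    have hui : UniversallyInjective f := h02.mpr ⟨hinj, hpi⟩
    have hsurj : Surjective (pullback.diagonal f) := (UniversallyInjective.iff_diagonal f).mp hui
    have hopen : IsOpenImmersion (pullback.diagonal f) := inferInstance
    have hiso : IsIso (pullback.diagonal f) :=
      (isIso_iff_isOpenImmersion_and_surjective _).mpr ⟨hopen, hsurj⟩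
    exact (pullback.isIso_diagonal_iff f).mp hiso

end Groth.Agent.S5017
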