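import Groth.Statements.S5018
-- import your own Groth.Agent.* helpers here
import Groth.Agent.Lib.Helper51.OmegaUniv.Sections
import Groth.Agent.Lib.Helper49.FinLocFree
import Groth.Agent.Lib.Helper7.FormallySmoothLift

set_option autoImplicit false
universe u
open CategoryTheory CategoryTheory.Limits AlgebraicGeometry TopologicalSpace
open Unram17

namespace Groth.Agent.S5018

/-- Let f : X ⟶ Y be formally smooth and locally of finite type, and let (Ω', d) be a sheaf of
differentials of X over Y, i.e. d a universal Y-derivation of O_X into Ω'. Then Ω' is finite locally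
free. (The published statement also shows that the sheaf of differentials is locally projective for
every formally smooth f; this row states only the case of f locally of finite type.) -/
theorem result {X Y : Scheme.{u}} (f : X ⟶ Y)
    (hf : MoreMor.IsFormallySmoothHom f) [LocallyOfFiniteType f]
    (Ω' : X.Modules) (d : OmegaSh.Der f Ω') (hd : OmegaSh.IsUniversal d) :
    FlatMod.IsFinLocFree Ω' := by
  open Groth.Agent.Lib.Helper49 Groth.Agent.Lib.Helper51.OmegaUniv in
  have hq : Ω'.IsQuasicoherent := isQuasicoherent_of_isUniversal f hd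
  rw [isFinLocFree_iff_isFlat_and_isFinitePresentation]
  have key : ∀ c : Chart f, Module.Finite Γ(X, c.U) Γ(Ω', c.U) ∧
      Module.Projective Γ(X, c.U) Γ(Ω', c.U) := by
    intro c
    let _ := (f.appLE c.V c.U c.hUV).hom.toAlgebra
    obtain ⟨e, -⟩ := exists_sections_equiv f hd c.hU c.hV c.hUV
    have hfs : Algebra.FormallySmooth Γ(Y, c.V) Γ(X, c.U) :=
      Groth.Agent.Lib.Helper7.ringLevel_of_isFormallySmoothHom f hf c.U c.V c.hU c.hV c.hUV
    have hft : Algebra.FiniteType Γ(Y, c.V) Γ(X, c.U) :=
      LocallyOfFiniteType.finiteType_appLE f c.hV c.hU c.hUV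
    exact ⟨Module.Finite.equiv e, Module.Projective.of_equiv e⟩
  constructor
  · intro x
    obtain ⟨c, hxc⟩ := exists_chart f x
    obtain ⟨xU, rfl⟩ : ∃ xU : c.U, (xU : X) = x := ⟨⟨x, hxc⟩, rfl⟩
    let _ := Groth.Agent.Lib.Helper45.stalkModuleSections Ω' xU
    have h1 := Groth.Agent.Lib.Helper45.isLocalizedModule_germₗ c.hU Ω' xU
    have h2 := c.hU.isLocalization_stalk xU
    have h3 := (key c).2
    exact Module.Flat.of_isLocalizedModule (R := Γ(X, c.U)) (M := Γ(Ω', c.U))
      (X.presheaf.stalk (xU : X))
      (c.hU.primeIdealOf xU).asIdeal.primeCompl (Groth.Agent.Lib.Helper45.germₗ Ω' xU)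
  · refine isFinitePresentation_of_affine_cover Ω' fun x => ?_
    obtain ⟨c, hxc⟩ := exists_chart f x
    have h3 := (key c).1
    have h4 := (key c).2
    exact ⟨c.U, c.hU, hxc, Module.finitePresentation_of_projective _ _⟩

end Groth.Agent.S5018
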