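import Groth.Statements.S5023
-- import your own Groth.Agent.* helpers here
import Groth.Agent.Lib.Helper51.OmegaUniv.DiffCompatIso
import Groth.Agent.Lib.Helper51.OmegaUniv.KaehlerAlg4
import Groth.Agent.Lib.Helper51.OmegaUniv.Coprod

set_option autoImplicit false
universe u
open CategoryTheory CategoryTheory.Limits AlgebraicGeometry TopologicalSpace
open Nrm16

namespace Groth.Agent.S5023

/-- Let a : X ⟶ S and b : Y ⟶ S be morphisms and Z a fibre product of X and Y over S with projections p,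
q and structure morphism h. Given sheaves of differentials (universal derivations) of X, Y and Z
over S and the canonical compatible maps c₁ : p^*Ω_X ⟶ Ω_Z and c₂ : q^*Ω_Y ⟶ Ω_Z, the induced map
from the coproduct p^*Ω_X ⨿ q^*Ω_Y to Ω_Z is an isomorphism. -/
theorem result {X Y S Z : Scheme.{u}} (a : X ⟶ S) (b : Y ⟶ S)
    (p : Z ⟶ X) (q : Z ⟶ Y) (h : Z ⟶ S) (wp : p ≫ a = h) (wq : q ≫ b = h) (hZ : IsPullback p q a b)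
    (ΩX : X.Modules) (dX : OmegaSh.Der a ΩX) (hX : OmegaSh.IsUniversal dX)
    (ΩY : Y.Modules) (dY : OmegaSh.Der b ΩY) (hY : OmegaSh.IsUniversal dY)
    (ΩZ : Z.Modules) (dZ : OmegaSh.Der h ΩZ) (hZu : OmegaSh.IsUniversal dZ)
    (c₁ : (Scheme.Modules.pullback p).obj ΩX ⟶ ΩZ) (hc₁ : OmegaSh.IsDiffCompat p dX dZ c₁)
    (c₂ : (Scheme.Modules.pullback q).obj ΩY ⟶ ΩZ) (hc₂ : OmegaSh.IsDiffCompat q dY dZ c₂) :
    IsIso (coprod.desc c₁ c₂) := by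
  have hqX : ΩX.IsQuasicoherent :=
    Groth.Agent.Lib.Helper51.OmegaUniv.isQuasicoherent_of_isUniversal a hX
  have hqY : ΩY.IsQuasicoherent :=
    Groth.Agent.Lib.Helper51.OmegaUniv.isQuasicoherent_of_isUniversal b hY
  have hqZ : ΩZ.IsQuasicoherent :=
    Groth.Agent.Lib.Helper51.OmegaUniv.isQuasicoherent_of_isUniversal h hZu
  have hq₁ : ((Scheme.Modules.pullback p).obj ΩX).IsQuasicoherent :=
    Groth.Agent.Lib.Helper16.FlatPull.isQuasicoherent_pullback p ΩX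
  have hq₂ : ((Scheme.Modules.pullback q).obj ΩY).IsQuasicoherent :=
    Groth.Agent.Lib.Helper16.FlatPull.isQuasicoherent_pullback q ΩY
  apply Groth.Agent.Lib.Helper51.OmegaUniv.isIso_coprod_desc_of_cover
  intro z
  obtain ⟨V, hV, hzV, -⟩ := exists_isAffineOpen_mem_and_subset
    (x := h z) (U := ⊤) trivial
  have hpz : p z ∈ a ⁻¹ᵁ V := by
    change a (p z) ∈ V
    rw [← Scheme.Hom.comp_apply, wp]
    exact hzV
  have hqz : q z ∈ b ⁻¹ᵁ V := by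
    change b (q z) ∈ V
    rw [← Scheme.Hom.comp_apply, wq]
    exact hzV
  obtain ⟨UX, hUX, hzUX, h₁⟩ := exists_isAffineOpen_mem_and_subset
    (x := p z) (U := a ⁻¹ᵁ V) hpz
  obtain ⟨UY, hUY, hzUY, h₁'⟩ := exists_isAffineOpen_mem_and_subset
    (x := q z) (U := b ⁻¹ᵁ V) hqz
  have hzW : z ∈ p ⁻¹ᵁ UX ⊓ q ⁻¹ᵁ UY := ⟨hzUX, hzUY⟩
  have hW : IsAffineOpen (p ⁻¹ᵁ UX ⊓ q ⁻¹ᵁ UY) := by
    have a1 : IsAffine V.toScheme := hV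
    have a2 : IsAffine UY.toScheme := hUY
    have a3 : IsAffine UX.toScheme := hUX
    exact IsAffine.of_isIso (Scheme.Hom.isPullback_resLE hZ h₁' h₁ rfl).isoPullback.hom
  have hh₁ : p ⁻¹ᵁ UX ⊓ q ⁻¹ᵁ UY ≤ p ⁻¹ᵁ UX := inf_le_left
  have hh₂ : p ⁻¹ᵁ UX ⊓ q ⁻¹ᵁ UY ≤ q ⁻¹ᵁ UY := inf_le_right
  have h₂ : p ⁻¹ᵁ UX ⊓ q ⁻¹ᵁ UY ≤ h ⁻¹ᵁ V := by
    intro y hy
    change h y ∈ V
    rw [← wp, Scheme.Hom.comp_apply]
    exact h₁ hy.1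
  obtain ⟨e₁, e₂, L₁, hL₁, he₂, hsq₁⟩ := Groth.Agent.Lib.Helper51.OmegaUniv.exists_chart_square
    p hX hZu hc₁ hUX hV h₁ hW hV h₂ hh₁
  obtain ⟨e₁', e₂', L₂, hL₂, he₂', hsq₂⟩ := Groth.Agent.Lib.Helper51.OmegaUniv.exists_chart_square
    q hY hZu hc₂ hUY hV h₁' hW hV h₂ hh₂
  refine ⟨_, hW, hzW, ?_⟩
  have hpo := (isIso_pushoutSection_iff hZ h₁' h₁ rfl).mp
    (isIso_pushoutSection_of_isAffineOpen hZ h₁' h₁ rfl hV hUY hUX)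
  let _ : Algebra Γ(S, V) Γ(X, UX) := (a.appLE V UX h₁).hom.toAlgebra
  let _ : Algebra Γ(S, V) Γ(Y, UY) := (b.appLE V UY h₁').hom.toAlgebra
  let _ : Algebra Γ(S, V) Γ(Z, p ⁻¹ᵁ UX ⊓ q ⁻¹ᵁ UY) := (h.appLE V _ h₂).hom.toAlgebra
  let _ : Algebra Γ(X, UX) Γ(Z, p ⁻¹ᵁ UX ⊓ q ⁻¹ᵁ UY) := (p.appLE UX _ hh₁).hom.toAlgebra
  let _ : Algebra Γ(Y, UY) Γ(Z, p ⁻¹ᵁ UX ⊓ q ⁻¹ᵁ UY) := (q.appLE UY _ hh₂).hom.toAlgebra
  have key : ∀ (u v : Z ⟶ S) (_ : u = v) (k1 : p ⁻¹ᵁ UX ⊓ q ⁻¹ᵁ UY ≤ u ⁻¹ᵁ V)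
      (k2 : p ⁻¹ᵁ UX ⊓ q ⁻¹ᵁ UY ≤ v ⁻¹ᵁ V), u.appLE V _ k1 = v.appLE V _ k2 := by
    rintro u v rfl _ _; rfl
  have t₁ : IsScalarTower Γ(S, V) Γ(X, UX) Γ(Z, p ⁻¹ᵁ UX ⊓ q ⁻¹ᵁ UY) := by
    refine IsScalarTower.of_algebraMap_eq' ?_
    change (h.appLE V _ h₂).hom = (a.appLE V UX h₁ ≫ p.appLE UX _ hh₁).hom
    rw [Scheme.Hom.appLE_comp_appLE]
    exact congrArg _ (key _ _ wp.symm _ _)
  have t₂ : IsScalarTower Γ(S, V) Γ(Y, UY) Γ(Z, p ⁻¹ᵁ UX ⊓ q ⁻¹ᵁ UY) := by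
    refine IsScalarTower.of_algebraMap_eq' ?_
    change (h.appLE V _ h₂).hom = (b.appLE V UY h₁' ≫ q.appLE UY _ hh₂).hom
    rw [Scheme.Hom.appLE_comp_appLE]
    exact congrArg _ (key _ _ wq.symm _ _)
  have po : Algebra.IsPushout Γ(S, V) Γ(X, UX) Γ(Y, UY) Γ(Z, p ⁻¹ᵁ UX ⊓ q ⁻¹ᵁ UY) :=
    CommRingCat.isPushout_iff_isPushout.mp hpo
  have hb := Groth.Agent.Lib.Helper51.OmegaUniv.KAlg.bijective_coprod_of_isPushout L₁ hL₁ L₂ hL₂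
  have heq : ∀ ω, e₂ ω = e₂' ω := by
    have : e₂.toLinearMap = e₂'.toLinearMap := by
      apply LinearMap.ext_on (KaehlerDifferential.span_range_derivation _ _)
      rintro _ ⟨s, rfl⟩
      exact (he₂ s).trans (he₂' s).symm
    exact fun ω => LinearMap.congr_fun this ω
  have hfun : (fun t : Γ((Scheme.Modules.pullback p).obj ΩX, p ⁻¹ᵁ UX ⊓ q ⁻¹ᵁ UY) ×
        Γ((Scheme.Modules.pullback q).obj ΩY, p ⁻¹ᵁ UX ⊓ q ⁻¹ᵁ UY) =>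
        c₁.app _ t.1 + c₂.app _ t.2) =
      e₂ ∘ (fun x => L₁ x.1 + L₂ x.2) ∘ (Prod.map e₁.symm e₁'.symm) := by
    funext ⟨u, v⟩
    simp only [Function.comp_apply, Prod.map]
    rw [map_add, ← hsq₁, heq, ← hsq₂, LinearEquiv.apply_symm_apply, LinearEquiv.apply_symm_apply]
  rw [hfun]
  exact e₂.bijective.comp (hb.comp (e₁.symm.bijective.prodMap e₁'.symm.bijective))

end Groth.Agent.S5023
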