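import Groth.Statements.S5024
import Mathlib
import Groth.Agent.S2156
import Groth.Agent.Lib.Helper24.SmoothStalkFibres

set_option autoImplicit false
universe u
open CategoryTheory CategoryTheory.Limits AlgebraicGeometry TopologicalSpace
open Unram17

namespace Groth.Agent.S5024

/-- Let Y be locally Noetherian and f : X ⟶ Y locally of finite type, smooth on an open neighbourhood of
a point x with image y. Then for every n the local ring of X at x has Serre's property (S_n),
respectively (R_n), if and only if the local ring of Y at y has it. -/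
theorem result {X Y : Scheme.{u}} (f : X ⟶ Y)
    [IsLocallyNoetherian Y] [LocallyOfFiniteType f] (x : ↥X)
    (hx : ∃ U : X.Opens, x ∈ U ∧ Smooth (U.ι ≫ f)) (n : ℕ) :
    (LocCoh.HasSk n ↑(X.presheaf.stalk x) ↑(X.presheaf.stalk x) ↔
        LocCoh.HasSk n ↑(Y.presheaf.stalk (f.base x)) ↑(Y.presheaf.stalk (f.base x))) ∧
      (LocCoh.HasRk n ↑(X.presheaf.stalk x) ↔ LocCoh.HasRk n ↑(Y.presheaf.stalk (f.base x))) := by
  open AlgebraicGeometry CategoryTheory Limits in
  have hlfp : LocallyOfFinitePresentation f := inferInstance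
  have hxs : x ∈ f.smoothLocus :=
    (Groth.Agent.Lib.Helper14.exists_smooth_nhd_iff_mem_smoothLocus f x).mp hx
  have hlfpX : LocallyOfFinitePresentation (f.fiberToSpecResidueField (f.base x)) :=
    inferInstanceAs (LocallyOfFinitePresentation
      (pullback.snd f (Y.fromSpecResidueField (f.base x))))
  obtain ⟨hflat, -⟩ := (Groth.Agent.S2156.result f x).mp hxs
  have hXN : IsLocallyNoetherian X := LocallyOfFiniteType.isLocallyNoetherian f
  have hfs : (f.stalkMap x).hom.FormallySmooth := Scheme.Hom.mem_smoothLocus.mp hxs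
  algebraize [(f.stalkMap x).hom]
  have : IsLocalHom (algebraMap (Y.presheaf.stalk (f.base x)) (X.presheaf.stalk x)) :=
    inferInstanceAs (IsLocalHom (f.stalkMap x).hom)
  have : Module.Flat (Y.presheaf.stalk (f.base x)) (X.presheaf.stalk x) := hflat
  exact Groth.Agent.Lib.Helper24.hasSk_hasRk_iff_of_flat_of_formallySmooth
    (Y.presheaf.stalk (f.base x)) (X.presheaf.stalk x) n

end Groth.Agent.S5024
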