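import Groth.Statements.S5025
import Mathlib
import Groth.Agent.S2156
import Groth.Agent.Lib.Helper24.SmoothRationalPoint
import Groth.Agent.Lib.Helper49.FiberStalk
import Groth.Agent.Lib.Helper29.FlatAscent
import Groth.Agent.Lib.Helper73.RegularNormal

set_option autoImplicit false
universe u
open CategoryTheory CategoryTheory.Limits AlgebraicGeometry TopologicalSpace
open Unram17

namespace Groth.Agent.S5025

/-- Let Y be locally Noetherian and f : X ⟶ Y locally of finite type, smooth on an open neighbourhood of
a point x with image y. Then the local rings of X at x and of Y at y have the same codepth (Krull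
dimension minus depth); written without subtraction: dim O_{X,x} + depth O_{Y,y} = dim O_{Y,y} +
depth O_{X,x}. -/
theorem result {X Y : Scheme.{u}} (f : X ⟶ Y)
    [IsLocallyNoetherian Y] [LocallyOfFiniteType f] (x : ↥X)
    (hx : ∃ U : X.Opens, x ∈ U ∧ Smooth (U.ι ≫ f)) :
    ringKrullDim ↑(X.presheaf.stalk x) +
        ((LocCoh.depth ↑(Y.presheaf.stalk (f.base x)) ↑(Y.presheaf.stalk (f.base x)) : ℕ∞) : WithBot ℕ∞) =
      ringKrullDim ↑(Y.presheaf.stalk (f.base x)) +
        ((LocCoh.depth ↑(X.presheaf.stalk x) ↑(X.presheaf.stalk x) : ℕ∞) : WithBot ℕ∞) := by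
  open AlgebraicGeometry CategoryTheory Limits Groth.Agent.Lib.Helper24 in
  have hlfp : LocallyOfFinitePresentation f := inferInstance
  have hxs : x ∈ f.smoothLocus :=
    (Groth.Agent.Lib.Helper14.exists_smooth_nhd_iff_mem_smoothLocus f x).mp hx
  have hlfpX : LocallyOfFinitePresentation (f.fiberToSpecResidueField (f.base x)) :=
    inferInstanceAs (LocallyOfFinitePresentation
      (pullback.snd f (Y.fromSpecResidueField (f.base x))))
  obtain ⟨hflat, hsm⟩ := (Groth.Agent.S2156.result f x).mp hxs
  have hXN : IsLocallyNoetherian X := LocallyOfFiniteType.isLocallyNoetherian f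
  -- the stalk of the fibre is regular
  have h1 : IsRegularLocalRing ((f.fiber (f.base x)).presheaf.stalk (f.asFiber x)) :=
    isRegularLocalRing_stalk_of_mem_smoothLocus (Y.residueField (f.base x))
      (f.fiberToSpecResidueField (f.base x)) (f.asFiber x) hsm
  have key : ∀ (x₁ : X) (hx₁ : (f.fiberι (f.base x)).base (f.asFiber x) = x₁),
      (f.stalkMap x₁).hom.Flat →
      ringKrullDim ↑(X.presheaf.stalk x₁) +
        ((LocCoh.depth ↑(Y.presheaf.stalk (f.base x₁)) ↑(Y.presheaf.stalk (f.base x₁)) : ℕ∞) :
          WithBot ℕ∞) =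
      ringKrullDim ↑(Y.presheaf.stalk (f.base x₁)) +
        ((LocCoh.depth ↑(X.presheaf.stalk x₁) ↑(X.presheaf.stalk x₁) : ℕ∞) : WithBot ℕ∞) := by
    rintro _ rfl hfl
    algebraize [(f.stalkMap ((f.fiberι (f.base x)).base (f.asFiber x))).hom]
    have : IsLocalHom (algebraMap (Y.presheaf.stalk
        (f.base ((f.fiberι (f.base x)).base (f.asFiber x))))
        (X.presheaf.stalk ((f.fiberι (f.base x)).base (f.asFiber x)))) :=
      inferInstanceAs (IsLocalHom (f.stalkMap ((f.fiberι (f.base x)).base (f.asFiber x))).hom)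
    have : Module.Flat (Y.presheaf.stalk (f.base ((f.fiberι (f.base x)).base (f.asFiber x))))
        (X.presheaf.stalk ((f.fiberι (f.base x)).base (f.asFiber x))) := hfl
    have hker : RingHom.ker ((f.fiberι (f.base x)).stalkMap (f.asFiber x)).hom =
        Ideal.map (f.stalkMap ((f.fiberι (f.base x)).base (f.asFiber x))).hom
          (IsLocalRing.maximalIdeal (Y.presheaf.stalk
            (f.base ((f.fiberι (f.base x)).base (f.asFiber x))))) :=
      le_antisymm (Groth.Agent.Lib.Helper49.ker_le_map f (f.base x) (f.asFiber x))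
        (Groth.Agent.Lib.Helper49.map_le_ker f (f.base x) (f.asFiber x))
    have hsurj : Function.Surjective ((f.fiberι (f.base x)).stalkMap (f.asFiber x)).hom :=
      (f.fiberι (f.base x)).stalkMap_surjective (f.asFiber x)
    let e := RingHom.quotientKerEquivOfSurjective hsurj
    have h2 : IsRegularLocalRing (X.presheaf.stalk ((f.fiberι (f.base x)).base (f.asFiber x)) ⧸
        RingHom.ker ((f.fiberι (f.base x)).stalkMap (f.asFiber x)).hom) :=
      IsRegularLocalRing.of_ringEquiv e.symm
    rw [hker] at h2
    have h3 : IsRegularLocalRing (EGA4.FibRing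
        (Y.presheaf.stalk (f.base ((f.fiberι (f.base x)).base (f.asFiber x))))
        (X.presheaf.stalk ((f.fiberι (f.base x)).base (f.asFiber x)))) := h2
    have hd := Groth.Agent.Lib.Helper29.depth_self_eq_add_of_flat
      (Y.presheaf.stalk (f.base ((f.fiberι (f.base x)).base (f.asFiber x))))
      (X.presheaf.stalk ((f.fiberι (f.base x)).base (f.asFiber x)))
    have hk := Groth.Agent.Lib.Helper29.ringKrullDim_eq_add_of_flat
      (Y.presheaf.stalk (f.base ((f.fiberι (f.base x)).base (f.asFiber x))))
      (X.presheaf.stalk ((f.fiberι (f.base x)).base (f.asFiber x)))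
    have hr := Groth.Agent.Lib.Helper73.RegularNormal.depth_self_of_isRegularLocalRing (EGA4.FibRing
        (Y.presheaf.stalk (f.base ((f.fiberι (f.base x)).base (f.asFiber x))))
        (X.presheaf.stalk ((f.fiberι (f.base x)).base (f.asFiber x))))
    rw [hk, hd, WithBot.coe_add, hr]
    abel
  exact key x (f.fiberι_asFiber x) hflat

end Groth.Agent.S5025
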