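import Groth.Statements.S5026
import Mathlib
import Groth.Agent.S2790
import Groth.Agent.S2116
import Groth.Agent.Lib.Helper55.LocalDim

set_option autoImplicit false
universe u
open Unram17

namespace Groth.Agent.S5026

open IsLocalRing TensorProduct KaehlerDifferential

/-- Nakayama: a family spans `Ω[T/k]` if its image spans `κ ⊗ Ω[T/k]`. -/
theorem span_eq_top_of_span_tmul_eq_top (k T : Type u) [Field k] [CommRing T] [Algebra k T]
    [IsLocalRing T] [Module.Finite T Ω[T⁄k]] {ι : Type*} (v : ι → Ω[T⁄k])
    (h : Submodule.span (ResidueField T)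
      (Set.range fun i => (1 : ResidueField T) ⊗ₜ[T] v i) = ⊤) :
    Submodule.span T (Set.range v) = ⊤ := by
  rw [← IsLocalRing.map_tensorProduct_mk_eq_top, Submodule.map_span,
    ← Submodule.restrictScalars_span T (ResidueField T) Ideal.Quotient.mk_surjective,
    Submodule.restrictScalars_eq_top_iff, ← Set.range_comp]
  exact h

theorem span_tmul_eq_top_of_span_eq_top (k T : Type u) [Field k] [CommRing T] [Algebra k T]
    [IsLocalRing T] {ι : Type*} (v : ι → Ω[T⁄k])
    (h : Submodule.span T (Set.range v) = ⊤) :
    Submodule.span (ResidueField T)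
      (Set.range fun i => (1 : ResidueField T) ⊗ₜ[T] v i) = ⊤ := by
  rw [eq_top_iff]
  rintro z -
  induction z using TensorProduct.induction_on with
  | zero => exact zero_mem _
  | add x y hx hy => exact add_mem hx hy
  | tmul c ω =>
    have hω : ω ∈ Submodule.span T (Set.range v) := by rw [h]; trivial
    refine Submodule.span_induction ?_ ?_ ?_ ?_ hω
    · rintro _ ⟨i, rfl⟩
      have : c ⊗ₜ[T] v i = c • ((1 : ResidueField T) ⊗ₜ[T] v i) := by
        rw [TensorProduct.smul_tmul', smul_eq_mul, mul_one]
      rw [this]
      exact Submodule.smul_mem _ _ (Submodule.subset_span ⟨i, rfl⟩)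
    · rw [TensorProduct.tmul_zero]; exact zero_mem _
    · intro x y _ _ hx hy
      rw [TensorProduct.tmul_add]; exact add_mem hx hy
    · intro a x _ hx
      have : c ⊗ₜ[T] (a • x) = (algebraMap T (ResidueField T) a) • (c ⊗ₜ[T] x) := by
        rw [TensorProduct.tmul_smul, algebraMap_smul]
      rw [this]
      exact Submodule.smul_mem _ _ hx

/-- Lemma A. -/
theorem span_tmul_D_eq_top (k T : Type u) [Field k] [CommRing T] [Algebra k T] [IsLocalRing T]
    (n r : ℕ) (g : Fin n → T)
    (h1 : Ideal.span (g '' {i : Fin n | (i : ℕ) < r}) = maximalIdeal T)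
    (h2 : Submodule.span (ResidueField T)
      ((fun i : Fin n => D k (ResidueField T) (residue T (g i))) '' {i : Fin n | r ≤ (i : ℕ)}) = ⊤) :
    Submodule.span (ResidueField T)
      (Set.range fun i => (1 : ResidueField T) ⊗ₜ[T] D k T (g i)) = ⊤ := by
  have hsurj : Function.Surjective (algebraMap T (ResidueField T)) := residue_surjective
  have hex := exact_kerCotangentToTensor_mapBaseChange k T (ResidueField T) hsurj
  have hker : LinearMap.ker (mapBaseChange k T (ResidueField T)) ≤
      Submodule.span (ResidueField T)
        (Set.range fun i => (1 : ResidueField T) ⊗ₜ[T] D k T (g i)) := by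
    intro z hz
    obtain ⟨c, rfl⟩ := (hex z).1 hz
    obtain ⟨⟨x, hx⟩, rfl⟩ := Ideal.toCotangent_surjective _ c
    rw [kerCotangentToTensor_toCotangent]
    have hx' : x ∈ Ideal.span (g '' {i : Fin n | (i : ℕ) < r}) := by
      rw [h1]
      have : RingHom.ker (algebraMap T (ResidueField T)) = maximalIdeal T := ker_residue
      rw [← this]; exact hx
    refine Submodule.span_induction (p := fun x _ => (1 : ResidueField T) ⊗ₜ[T] D k T x ∈
      Submodule.span (ResidueField T)
        (Set.range fun i => (1 : ResidueField T) ⊗ₜ[T] D k T (g i))) ?_ ?_ ?_ ?_ hx'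
    · rintro _ ⟨i, _, rfl⟩; exact Submodule.subset_span ⟨i, rfl⟩
    · simp
    · intro x y _ _ hx hy
      rw [map_add, TensorProduct.tmul_add]; exact add_mem hx hy
    · intro a x hxs hx
      have hxm : algebraMap T (ResidueField T) x = 0 := by
        have : RingHom.ker (algebraMap T (ResidueField T)) = maximalIdeal T := ker_residue
        rw [← RingHom.mem_ker, this, ← h1]; exact hxs
      rw [smul_eq_mul, Derivation.leibniz, TensorProduct.tmul_add, TensorProduct.tmul_smul,
        TensorProduct.tmul_smul]
      have e1 : x • ((1 : ResidueField T) ⊗ₜ[T] D k T a) = 0 := by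
        rw [TensorProduct.smul_tmul', Algebra.smul_def, mul_one, hxm, TensorProduct.zero_tmul]
      rw [e1, add_zero, ← algebraMap_smul (ResidueField T) a]
      exact Submodule.smul_mem _ _ hx
  have hmap : (Submodule.span (ResidueField T)
      (Set.range fun i => (1 : ResidueField T) ⊗ₜ[T] D k T (g i))).map
        (mapBaseChange k T (ResidueField T)) = ⊤ := by
    rw [eq_top_iff, ← h2, Submodule.span_le]
    rintro _ ⟨i, _, rfl⟩
    refine ⟨1 ⊗ₜ D k T (g i), Submodule.subset_span ⟨i, rfl⟩, ?_⟩
    rw [mapBaseChange_tmul, one_smul, map_D]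
    rfl
  have := Submodule.comap_map_eq (mapBaseChange k T (ResidueField T))
    (Submodule.span (ResidueField T)
      (Set.range fun i => (1 : ResidueField T) ⊗ₜ[T] D k T (g i)))
  rw [hmap, Submodule.comap_top, sup_eq_left.2 hker] at this
  exact this.symm

/-- Lemma B1. -/
theorem span_D_residue_eq_top (k T : Type u) [Field k] [CommRing T] [Algebra k T] [IsLocalRing T]
    (n r : ℕ) (g : Fin n → T) (hg : ∀ i : Fin n, (i : ℕ) < r → g i ∈ maximalIdeal T)
    (hspan : Submodule.span T (Set.range fun i => D k T (g i)) = ⊤) :
    Submodule.span (ResidueField T)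
      ((fun i : Fin n => D k (ResidueField T) (residue T (g i))) '' {i : Fin n | r ≤ (i : ℕ)}) = ⊤ := by
  have hsurj : Function.Surjective (algebraMap T (ResidueField T)) := residue_surjective
  have hV := span_tmul_eq_top_of_span_eq_top k T _ hspan
  have hφ : Function.Surjective (mapBaseChange k T (ResidueField T)) :=
    mapBaseChange_surjective k T (ResidueField T) hsurj
  have h1 : (⊤ : Submodule (ResidueField T) (ResidueField T ⊗[T] Ω[T⁄k])).map
      (mapBaseChange k T (ResidueField T)) = ⊤ := by
    rw [Submodule.map_top, LinearMap.range_eq_top]; exact hφ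
  rw [← hV, Submodule.map_span] at h1
  rw [eq_top_iff, ← h1, Submodule.span_le]
  rintro _ ⟨_, ⟨i, rfl⟩, rfl⟩
  have e : mapBaseChange k T (ResidueField T) ((1 : ResidueField T) ⊗ₜ[T] D k T (g i)) =
      D k (ResidueField T) (residue T (g i)) := by
    rw [mapBaseChange_tmul, one_smul, map_D]; rfl
  rw [e]
  by_cases hi : (i : ℕ) < r
  · have : residue T (g i) = 0 := (residue_eq_zero_iff _).2 (hg i hi)
    rw [this, map_zero]; exact zero_mem _
  · exact Submodule.subset_span ⟨i, not_lt.1 hi, rfl⟩

/-- Lemma B2. -/
theorem span_eq_maximalIdeal (k T : Type u) [Field k] [CommRing T] [Algebra k T] [IsLocalRing T]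
    [IsNoetherianRing T] (n r : ℕ) (hrn : r ≤ n)
    (hreg : Module.finrank (ResidueField T) (CotangentSpace T) = r)
    (g : Fin n → T) (hg : ∀ i : Fin n, (i : ℕ) < r → g i ∈ maximalIdeal T)
    (hli : LinearIndependent (ResidueField T)
      (fun i => (1 : ResidueField T) ⊗ₜ[T] D k T (g i))) :
    Ideal.span (g '' {i : Fin n | (i : ℕ) < r}) = maximalIdeal T := by
  classical
  let x : Fin r → maximalIdeal T := fun j => ⟨g (Fin.castLE hrn j), hg _ (by simp)⟩
  let v : Fin r → CotangentSpace T := fun j => (maximalIdeal T).toCotangent (x j)
  have hsq : ∀ y ∈ maximalIdeal T ^ 2, (1 : ResidueField T) ⊗ₜ[T] D k T y = 0 := by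
    intro y hy
    rw [pow_two] at hy
    refine Submodule.mul_induction_on hy ?_ ?_
    · intro a ha b hb
      have ha' : algebraMap T (ResidueField T) a = 0 := (residue_eq_zero_iff _).2 ha
      have hb' : algebraMap T (ResidueField T) b = 0 := (residue_eq_zero_iff _).2 hb
      rw [Derivation.leibniz, TensorProduct.tmul_add, TensorProduct.tmul_smul,
        TensorProduct.tmul_smul, TensorProduct.smul_tmul', TensorProduct.smul_tmul',
        Algebra.smul_def, Algebra.smul_def, mul_one, mul_one, ha', hb']
      simp only [TensorProduct.zero_tmul, add_zero]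
    · intro a b ha hb
      rw [map_add, TensorProduct.tmul_add, ha, hb, add_zero]
  have hv : LinearIndependent (ResidueField T) v := by
    rw [Fintype.linearIndependent_iff]
    intro c hc j
    choose a ha using fun j => residue_surjective (R := T) (c j)
    have h0 : (maximalIdeal T).toCotangent (∑ j, a j • x j) = 0 := by
      rw [map_sum, ← hc]
      refine Finset.sum_congr rfl fun j _ => ?_
      rw [map_smul, ← ha j]; rfl
    rw [Ideal.toCotangent_eq_zero] at h0
    have h1 := hsq _ h0
    have h2 : ((∑ j, a j • x j : maximalIdeal T) : T) = ∑ j, a j * g (Fin.castLE hrn j) := by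
      simp [x]
    rw [h2, map_sum, TensorProduct.tmul_sum] at h1
    have h3 : ∀ j, (1 : ResidueField T) ⊗ₜ[T] D k T (a j * g (Fin.castLE hrn j)) =
        c j • ((1 : ResidueField T) ⊗ₜ[T] D k T (g (Fin.castLE hrn j))) := by
      intro j
      have hgj : algebraMap T (ResidueField T) (g (Fin.castLE hrn j)) = 0 :=
        (residue_eq_zero_iff _).2 (hg _ (by simp))
      rw [Derivation.leibniz, TensorProduct.tmul_add, TensorProduct.tmul_smul,
        TensorProduct.tmul_smul, TensorProduct.smul_tmul' (g (Fin.castLE hrn j)),
        Algebra.smul_def, mul_one, hgj, TensorProduct.zero_tmul, add_zero, ← ha j,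
        ← algebraMap_smul (ResidueField T) (a j)]
      rfl
    simp_rw [h3] at h1
    have hli' : LinearIndependent (ResidueField T)
        (fun j : Fin r => (1 : ResidueField T) ⊗ₜ[T] D k T (g (Fin.castLE hrn j))) :=
      hli.comp _ (Fin.castLE_injective hrn)
    exact (Fintype.linearIndependent_iff.1 hli') c h1 j
  haveI : FiniteDimensional (ResidueField T) (CotangentSpace T) := inferInstance
  have hspan : Submodule.span (ResidueField T) (Set.range v) = ⊤ :=
    hv.span_eq_top_of_card_eq_finrank' (by rw [Fintype.card_fin, hreg])
  have hrange : Set.range v = (maximalIdeal T).toCotangent '' (Set.range x) := by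
    rw [← Set.range_comp]; rfl
  rw [hrange, CotangentSpace.span_image_eq_top_iff] at hspan
  have h4 := congrArg (Submodule.map (maximalIdeal T).subtype) hspan
  rw [Submodule.map_span, Submodule.map_top, Submodule.range_subtype, ← Set.range_comp] at h4
  rw [← h4]
  congr 1
  ext y
  constructor
  · rintro ⟨i, hi, rfl⟩
    exact ⟨⟨i, hi⟩, by simp [x]⟩
  · rintro ⟨j, rfl⟩
    exact ⟨Fin.castLE hrn j, by simp, by simp [x]⟩

/-- Let k be a field, A a k-algebra of finite type equipped with a k-algebra map from the polynomial
ring in n variables (images g_i of the variables), p a prime of A such that Spec A has local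
dimension n at p, r the Krull dimension of the local ring A_p, and suppose g_i ∈ p for the indices i
< r. Then A is etale at p over the polynomial ring if and only if the images of the g_i with i < r
generate the maximal ideal of A_p and the differentials of the residue classes of the g_i with i ≥ r
generate the module of differentials of the residue field κ(p) over k. (The published statement adds
that these conditions imply that A is smooth at p over k and that κ(p) is separable over k; this row
does not state that consequence.) -/
theorem result (k A : Type u) [Field k]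
    [CommRing A] [Algebra k A] [Algebra.FiniteType k A] (n r : ℕ) [Algebra (MvPolynomial (Fin n) k) A]
    [IsScalarTower k (MvPolynomial (Fin n) k) A] (p : Ideal A) [p.IsPrime]
    (hn : FlatMor.localDim (PrimeSpectrum A) ⟨p, inferInstance⟩ = (n : WithBot ℕ∞))
    (hr : ringKrullDim (Localization.AtPrime p) = (r : WithBot ℕ∞))
    (hg : ∀ i : Fin n, (i : ℕ) < r → algebraMap (MvPolynomial (Fin n) k) A (MvPolynomial.X i) ∈ p) :
    Algebra.IsEtaleAt (MvPolynomial (Fin n) k) p ↔
      Ideal.span ((fun i : Fin n =>
          algebraMap A (Localization.AtPrime p) (algebraMap (MvPolynomial (Fin n) k) A (MvPolynomial.X i))) ''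
            {i : Fin n | (i : ℕ) < r}) = IsLocalRing.maximalIdeal (Localization.AtPrime p) ∧
        Submodule.span p.ResidueField ((fun i : Fin n =>
          KaehlerDifferential.D k p.ResidueField
            (IsLocalRing.residue (Localization.AtPrime p)
              (algebraMap A (Localization.AtPrime p) (algebraMap (MvPolynomial (Fin n) k) A (MvPolynomial.X i))))) ''
            {i : Fin n | r ≤ (i : ℕ)}) = ⊤ := by
  classical
  haveI : IsNoetherianRing A := Algebra.FiniteType.isNoetherianRing k A
  haveI : IsNoetherianRing (Localization.AtPrime p) :=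
    IsLocalization.isNoetherianRing p.primeCompl _ inferInstance
  haveI : Algebra.EssFiniteType k (Localization.AtPrime p) :=
    Algebra.EssFiniteType.comp k A (Localization.AtPrime p)
  have hgm : ∀ i : Fin n, (i : ℕ) < r → algebraMap A (Localization.AtPrime p)
      (algebraMap (MvPolynomial (Fin n) k) A (MvPolynomial.X i)) ∈
        maximalIdeal (Localization.AtPrime p) := fun i hi =>
    (IsLocalization.AtPrime.to_map_mem_maximal_iff _ p _).2 (hg i hi)
  constructor
  · intro het
    have hfe : Algebra.FormallyEtale (MvPolynomial (Fin n) k) (Localization.AtPrime p) := het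
    let e := KaehlerDifferential.tensorKaehlerEquivOfFormallyEtale k (MvPolynomial (Fin n) k)
      (Localization.AtPrime p)
    let b : Module.Basis (Fin n) (Localization.AtPrime p) (Ω[Localization.AtPrime p⁄k]) :=
      ((KaehlerDifferential.mvPolynomialBasis k (Fin n)).baseChange (Localization.AtPrime p)).map e
    have hb : ∀ i, b i = KaehlerDifferential.D k (Localization.AtPrime p)
        (algebraMap A (Localization.AtPrime p)
          (algebraMap (MvPolynomial (Fin n) k) A (MvPolynomial.X i))) := by
      intro i
      simp [b, e, KaehlerDifferential.tensorKaehlerEquivOfFormallyEtale_apply,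
        ← IsScalarTower.algebraMap_apply]
    have hspan := (Groth.Agent.S2790.result k A n p hn).1 het
    -- smooth over k, hence regular
    have hsm : Algebra.FormallySmooth k (Localization.AtPrime p) :=
      Algebra.FormallySmooth.comp k (MvPolynomial (Fin n) k) (Localization.AtPrime p)
    have hreg : IsRegularLocalRing (Localization.AtPrime p) :=
      Groth.Agent.S2116.isRegularLocalRing_of_isSmoothAt k A p hsm
    have hfr : Module.finrank (ResidueField (Localization.AtPrime p))
        (CotangentSpace (Localization.AtPrime p)) = r := by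
      have := (IsRegularLocalRing.iff_finrank_cotangentSpace (Localization.AtPrime p)).1 hreg
      rw [hr] at this
      exact_mod_cast this
    have hrn : r ≤ n := by
      have h1 := Groth.Agent.Lib.Helper55.localDim_primeSpectrum_eq k A ⟨p, inferInstance⟩
      rw [hn] at h1
      have h2 := IsLocalization.AtPrime.ringKrullDim_eq_height p (Localization.AtPrime p)
      rw [hr] at h2
      have h3 : (0 : WithBot ℕ∞) ≤ ringKrullDim (A ⧸ p) := ringKrullDim_nonneg_of_nontrivial
      have h4 : (r : WithBot ℕ∞) ≤ (n : WithBot ℕ∞) := by
        rw [h1, h2]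
        exact le_add_of_nonneg_left h3
      exact_mod_cast h4
    have hli : LinearIndependent (ResidueField (Localization.AtPrime p))
        (fun i => (1 : ResidueField (Localization.AtPrime p)) ⊗ₜ[Localization.AtPrime p]
          D k (Localization.AtPrime p) (algebraMap A (Localization.AtPrime p)
            (algebraMap (MvPolynomial (Fin n) k) A (MvPolynomial.X i)))) := by
      have := (b.baseChange (ResidueField (Localization.AtPrime p))).linearIndependent
      convert this using 2 with i
      rw [Module.Basis.baseChange_apply, hb]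
    exact ⟨span_eq_maximalIdeal k (Localization.AtPrime p) n r hrn hfr _ hgm hli,
      span_D_residue_eq_top k (Localization.AtPrime p) n r _ hgm hspan⟩
  · rintro ⟨h1, h2⟩
    rw [Groth.Agent.S2790.result k A n p hn]
    exact span_eq_top_of_span_tmul_eq_top k (Localization.AtPrime p) _
      (span_tmul_D_eq_top k (Localization.AtPrime p) n r _ h1 h2)

end Groth.Agent.S5026
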