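import Groth.Statements.S5027
import Mathlib
import Groth.Agent.S2469
import Groth.Agent.S4523
import Groth.Agent.Lib.Helper55.LocalDim

set_option autoImplicit false
universe u
open Unram17

namespace Groth.Agent.S5027

open IsLocalRing TensorProduct KaehlerDifferential

/-- For a finitely generated field extension: differentials are finite-dimensional of dimension
at least the transcendence degree, with equality iff geometrically reduced. -/
theorem geomReduced_iff_finrank_le (k K : Type u) [Field k] [Field K] [Algebra k K]
    [Algebra.EssFiniteType k K] :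
    Module.Finite K Ω[K⁄k] ∧
      (Algebra.IsGeometricallyReduced k K ↔
        Module.finrank K Ω[K⁄k] ≤ Cardinal.toNat (Algebra.trdeg k K)) ∧
      (Algebra.IsGeometricallyReduced k K →
        Module.finrank K Ω[K⁄k] = Cardinal.toNat (Algebra.trdeg k K)) := by
  obtain ⟨h1, h2, h3⟩ := Groth.Agent.S2469.result (K := k) (L := K)
  have h4 := (Groth.Agent.S4523.result (k := k) (K := K)).1
  have h5 : EGA41.imperfection ℤ k K = ⊥ ↔ Module.finrank K (EGA41.imperfection ℤ k K) = 0 := by
    constructor
    · intro h; rw [h]; exact finrank_bot K _
    · intro h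
      haveI := (Module.finrank_zero_iff (R := K) (M := ↥(EGA41.imperfection ℤ k K))).1 h
      exact Submodule.eq_bot_of_subsingleton
  refine ⟨h1, ?_, ?_⟩
  · rw [h4, h5]; omega
  · rw [h4, h5]; omega

/-- Choose `finrank` many elements whose differentials span. -/
theorem exists_fin_span_D (k K : Type u) [Field k] [Field K] [Algebra k K]
    [Module.Finite K Ω[K⁄k]] :
    ∃ y : Fin (Module.finrank K Ω[K⁄k]) → K,
      Submodule.span K (Set.range fun j => D k K (y j)) = ⊤ := by
  classical
  have hs : (⊤ : Submodule K Ω[K⁄k]) ≤ Submodule.span K (Set.range (D k K)) :=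
    (KaehlerDifferential.span_range_derivation k K).ge
  let b := Module.Basis.ofSpan hs
  haveI := FiniteDimensional.fintypeBasisIndex b
  have hcard := Module.finrank_eq_card_basis b
  let e := (Fintype.equivFinOfCardEq hcard.symm).symm
  have hmem : ∀ j, ∃ y : K, D k K y = b (e j) := fun j =>
    Module.Basis.ofSpan_subset hs ⟨e j, rfl⟩
  choose y hy using hmem
  refine ⟨y, ?_⟩
  rw [eq_top_iff, ← b.span_eq, Submodule.span_le]
  rintro _ ⟨i, rfl⟩
  refine Submodule.subset_span ⟨e.symm i, ?_⟩
  simp only [hy, Equiv.apply_symm_apply]

/-- Enumerate a finite set. -/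
theorem exists_fin_range_eq {M : Type*} (S : Set M) (hS : S.Finite) (r : ℕ) (hr : S.ncard = r) :
    ∃ f : Fin r → M, Set.range f = S := by
  classical
  haveI := hS.fintype
  have hcard : Fintype.card S = r := by
    rw [← hr, ← Nat.card_coe_set_eq, Nat.card_eq_fintype_card]
  let e := Fintype.equivFinOfCardEq hcard
  refine ⟨fun j => (e.symm j : M), ?_⟩
  ext x
  constructor
  · rintro ⟨j, rfl⟩; exact (e.symm j).2
  · intro hx; exact ⟨e ⟨x, hx⟩, by simp⟩

/-- Let A be an algebra of finite type over a field k, p a prime of A such that Spec A has local
dimension n at p, and r the Krull dimension of the local ring A_p. Then A_p is regular and the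
residue field κ(p) is a separable extension of k (geometrically reduced over k) if and only if there
exist n elements of the local ring A_p (germs at p in place of sections over an open neighbourhood
of p, which is equivalent) of which those with index < r generate the maximal ideal and the residue
classes of the remaining ones have differentials generating the module of differentials of κ(p) over
k. -/
theorem result (k A : Type u) [Field k]
    [CommRing A] [Algebra k A] [Algebra.FiniteType k A] (n r : ℕ) (p : Ideal A) [p.IsPrime]
    (hn : FlatMor.localDim (PrimeSpectrum A) ⟨p, inferInstance⟩ = (n : WithBot ℕ∞))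
    (hr : ringKrullDim (Localization.AtPrime p) = (r : WithBot ℕ∞)) :
    (IsRegularLocalRing (Localization.AtPrime p) ∧ Algebra.IsGeometricallyReduced k p.ResidueField) ↔
      ∃ g : Fin n → Localization.AtPrime p,
        Ideal.span (g '' {i : Fin n | (i : ℕ) < r}) = IsLocalRing.maximalIdeal (Localization.AtPrime p) ∧
          Submodule.span p.ResidueField ((fun i : Fin n =>
            KaehlerDifferential.D k p.ResidueField (IsLocalRing.residue (Localization.AtPrime p) (g i))) ''
              {i : Fin n | r ≤ (i : ℕ)}) = ⊤ := by
  classical
  haveI : IsNoetherianRing A := Algebra.FiniteType.isNoetherianRing k A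
  haveI : IsNoetherianRing (Localization.AtPrime p) :=
    IsLocalization.isNoetherianRing p.primeCompl _ inferInstance
  haveI : Algebra.EssFiniteType k (Localization.AtPrime p) :=
    Algebra.EssFiniteType.comp k A (Localization.AtPrime p)
  haveI : Algebra.EssFiniteType k p.ResidueField :=
    Algebra.EssFiniteType.comp k (Localization.AtPrime p) p.ResidueField
  obtain ⟨s, hs1, hs2⟩ :=
    Groth.Agent.Lib.Helper55.exists_ringKrullDim_quotient_eq_and_trdeg_residueField_eq k A p
  have hns : n = r + s := by
    have h1 := Groth.Agent.Lib.Helper55.localDim_primeSpectrum_eq k A ⟨p, inferInstance⟩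
    rw [hn] at h1
    have h2 := IsLocalization.AtPrime.ringKrullDim_eq_height p (Localization.AtPrime p)
    rw [hr] at h2
    have h3 : (n : WithBot ℕ∞) = ((s + r : ℕ) : WithBot ℕ∞) := by
      rw [h1, ← h2]
      change ringKrullDim (A ⧸ p) + _ = _
      rw [hs1]; push_cast; rfl
    have h4 : n = s + r := by exact_mod_cast h3
    omega
  obtain ⟨hfin, hiff, heq⟩ := geomReduced_iff_finrank_le k p.ResidueField
  have htr : Cardinal.toNat (Algebra.trdeg k p.ResidueField) = s := by
    rw [hs2]; simp
  rw [htr] at hiff heq
  constructor
  · rintro ⟨hreg, hgr⟩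
    -- generators of the maximal ideal
    have hfg : (maximalIdeal (Localization.AtPrime p)).FG := IsNoetherian.noetherian _
    have hsf : (maximalIdeal (Localization.AtPrime p)).spanFinrank = r := by
      have := hreg.spanFinrank_maximalIdeal
      rw [hr] at this
      exact_mod_cast this
    obtain ⟨f, hf⟩ := exists_fin_range_eq (maximalIdeal (Localization.AtPrime p)).generators
      (Submodule.FG.finite_generators hfg) r (by rw [Submodule.FG.generators_ncard hfg, hsf])
    have hfspan : Ideal.span (Set.range f) = maximalIdeal (Localization.AtPrime p) := by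
      rw [hf]; exact Submodule.span_generators _
    -- differentials
    obtain ⟨y, hy⟩ := exists_fin_span_D k p.ResidueField
    have hfr := heq hgr
    choose z hz using fun j => residue_surjective (R := Localization.AtPrime p) (y j)
    let g' : Fin (r + s) → Localization.AtPrime p :=
      Fin.append f (fun j => z (Fin.cast hfr.symm j))
    refine ⟨g' ∘ Fin.cast hns, ?_, ?_⟩
    · rw [← hfspan]
      congr 1
      ext x
      constructor
      · rintro ⟨i, hi, rfl⟩
        refine ⟨⟨i, hi⟩, ?_⟩
        have : Fin.cast hns i = Fin.castAdd s ⟨i, hi⟩ := by ext; simp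
        simp only [Function.comp_apply, g', this, Fin.append_left]
      · rintro ⟨j, rfl⟩
        refine ⟨Fin.cast hns.symm (Fin.castAdd s j), by simp, ?_⟩
        simp [g', Fin.append_left]
    · rw [eq_top_iff, ← hy, Submodule.span_le]
      rintro _ ⟨j, rfl⟩
      refine Submodule.subset_span ⟨Fin.cast hns.symm (Fin.natAdd r (Fin.cast hfr j)), by simp, ?_⟩
      simp only [Function.comp_apply, g', Fin.cast_cast, Fin.cast_eq_self, Fin.append_right]
      rw [hz]
  · rintro ⟨g, h1, h2⟩
    constructor
    · apply IsRegularLocalRing.of_spanFinrank_maximalIdeal_le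
      rw [hr, ← h1]
      have hfin : (g '' {i : Fin n | (i : ℕ) < r}).Finite := Set.toFinite _
      have h3 := Submodule.spanFinrank_span_le_ncard_of_finite (R := Localization.AtPrime p) hfin
      have h4 : (g '' {i : Fin n | (i : ℕ) < r}).ncard ≤ r := by
        refine (Set.ncard_image_le (Set.toFinite _)).trans ?_
        have : {i : Fin n | (i : ℕ) < r} = ((Finset.univ.filter fun i : Fin n => (i : ℕ) < r) : Set (Fin n)) := by
          ext; simp
        rw [this, Set.ncard_coe_finset]
        rw [Fin.card_filter_val_lt]
        exact min_le_right _ _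
      have : (Ideal.span (g '' {i : Fin n | (i : ℕ) < r})).spanFinrank ≤ r := h3.trans h4
      exact_mod_cast this
    · rw [hiff]
      have hS : ((fun i : Fin n => D k p.ResidueField
            (residue (Localization.AtPrime p) (g i))) '' {i : Fin n | r ≤ (i : ℕ)}) =
          Set.range (fun j : Fin s => D k p.ResidueField
            (residue (Localization.AtPrime p) (g (Fin.cast hns.symm (Fin.natAdd r j))))) := by
        ext x
        constructor
        · rintro ⟨i, hi, rfl⟩
          have hi' : r ≤ (i : ℕ) := hi
          have hlt : (i : ℕ) - r < s := by have := i.2; omega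
          refine ⟨⟨(i : ℕ) - r, hlt⟩, ?_⟩
          have : Fin.cast hns.symm (Fin.natAdd r ⟨(i : ℕ) - r, hlt⟩) = i := by
            ext; simp; omega
          simp only [this]
        · rintro ⟨j, rfl⟩
          exact ⟨_, by simp, rfl⟩
      rw [hS] at h2
      have h5 := finrank_range_le_card (R := p.ResidueField) (fun j : Fin s => D k p.ResidueField
            (residue (Localization.AtPrime p) (g (Fin.cast hns.symm (Fin.natAdd r j)))))
      rw [Set.finrank, h2, finrank_top, Fintype.card_fin] at h5
      exact h5

end Groth.Agent.S5027
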