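import Groth.Statements.S5032
import Groth.Agent.Lib.Helper7.FgSubalgLimit

set_option autoImplicit false
universe u
open CategoryTheory CategoryTheory.Limits AlgebraicGeometry TopologicalSpace
open Unram17

namespace Groth.Agent.S5032

/-- Let A be a commutative ring and f : X ⟶ Spec A an unramified morphism that is quasi-compact and
quasi-separated (hence of finite presentation). Then there exist a finitely generated ℤ-subalgebra
A₀ of A, a scheme X₀ with an unramified morphism of finite type f₀ : X₀ ⟶ Spec A₀, and a morphism X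
⟶ X₀ making X the base change of X₀ along Spec A ⟶ Spec A₀. This is the case of unramified morphisms
(the converse is stability under base change). -/
theorem result (A : Type u) [CommRing A] {X : Scheme.{u}}
    (f : X ⟶ Spec (CommRingCat.of A)) [FormallyUnramified f] [LocallyOfFinitePresentation f] [QuasiCompact f] [QuasiSeparated f] :
    ∃ A₀ : Subalgebra ℤ A, A₀.FG ∧
      ∃ (X₀ : Scheme.{u}) (f₀ : X₀ ⟶ Spec (CommRingCat.of ↥A₀)) (g : X ⟶ X₀),
        FormallyUnramified f₀ ∧ LocallyOfFinitePresentation f₀ ∧ QuasiCompact f₀ ∧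
          IsPullback g f f₀ (Spec.map (CommRingCat.ofHom (algebraMap (↥A₀) A))) := by
  obtain ⟨A₀, hfg, X₀, f₀, g, hP, hlfp, hqc, -, hpb⟩ :=
    Groth.Agent.Lib.Helper7.FgSubalgLimit.exists_model (A := A) @FormallyUnramified
      (fun i X₀ f₀ _ _ _ h => by
        have : CompactSpace X₀ := (HasAffineProperty.iff_of_isAffine (P := @QuasiCompact)).mp ‹_›
        have : QuasiSeparatedSpace X₀ :=
          (HasAffineProperty.iff_of_isAffine (P := @QuasiSeparated)).mp ‹_›
        exact Groth.Agent.Lib.Helper13.LimDescent.exists_formallyUnramified_pullback_fst _ _ i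
          (Groth.Agent.Lib.Helper7.FgSubalgLimit.isLimitSpecC A) f₀ h) f inferInstance
  exact ⟨A₀, hfg, X₀, f₀, g, hP, hlfp, hqc, hpb⟩

end Groth.Agent.S5032
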