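import Groth.Statements.S5034
import Groth.Agent.S0500

set_option autoImplicit false
universe u
open Hensel

namespace Groth.Agent.S5034

/-- a') implies a): let R be a local ring such that for every monic polynomial F over R the quotient
ring R[T]/(F) is isomorphic, as a ring, to a finite product of local rings. Then R is henselian. -/
theorem result (R : Type u) [CommRing R] [IsLocalRing R]
    (h : ∀ F : Polynomial R, F.Monic →
      ∃ (ι : Type u) (_ : Fintype ι) (A : ι → Type u) (_ : ∀ i, CommRing (A i)),
        (∀ i, IsLocalRing (A i)) ∧ Nonempty (AdjoinRoot F ≃+* (∀ i, A i))) :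
    HenselianLocalRing R := by
  open Groth.Agent.Lib.Helper3 Polynomial IsLocalRing in
  refine ((HenselianLocalRing.TFAE R).out 1 0).mp ?_
  intro f hf ab₀ h₁ h₂
  obtain ⟨a₀, rfl⟩ := residue_surjective ab₀
  have hfin : Module.Finite R (AdjoinRoot f) := hf.finite_adjoinRoot
  have hfree : Module.Free R (AdjoinRoot f) := hf.free_adjoinRoot
  obtain ⟨ι, _, A, _, hA, ⟨φ⟩⟩ := h f hf
  have h₁' : f.eval a₀ ∈ maximalIdeal R := by
    rw [← residue_eq_zero_iff, ← aeval_residue]; exact h₁
  have h₂' : IsUnit (f.derivative.eval a₀) := by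
    rw [aeval_residue] at h₂
    have : f.derivative.eval a₀ ∉ maximalIdeal R := by
      rw [← residue_eq_zero_iff]; exact h₂
    rwa [mem_maximalIdeal, mem_nonunits_iff, not_not] at this
  let ev : AdjoinRoot f →ₐ[R] ResidueField R :=
    AdjoinRoot.liftAlgHom f (Algebra.ofId R (ResidueField R)) (residue R a₀) (by
      rw [← h₁, aeval_def]; rfl)
  have hev : ev (AdjoinRoot.root f) = residue R a₀ := AdjoinRoot.liftAlgHom_root _ _ _ _
  have hevsurj : Function.Surjective ev := by
    intro y
    obtain ⟨r, rfl⟩ := residue_surjective y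
    exact ⟨algebraMap R _ r, by rw [AlgHom.commutes]; rfl⟩
  have hmax : (RingHom.ker ev.toRingHom).IsMaximal :=
    RingHom.ker_isMaximal_of_surjective ev.toRingHom hevsurj
  obtain ⟨e, he, hee, hloc⟩ := Groth.Agent.S0500.exists_idempotent_of_pi_local φ _ hmax
  have := exists_root_of_idempotent (AdjoinRoot.root f) AdjoinRoot.adjoinRoot_eq_top f
    (by rw [AdjoinRoot.aeval_eq, AdjoinRoot.mk_self]) a₀ h₁' h₂' ev hev e he hee hloc
  exact this

end Groth.Agent.S5034
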