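import Groth.Statements.S5039
import Mathlib
import Groth.Agent.Lib.Helper9.HensNagata2
import Groth.Agent.Lib.Helper3.BranchCompletion

set_option autoImplicit false
universe u
open Hensel

namespace Groth.Agent.S5039

/-- Let R be a Noetherian local ring and S its henselization. Then S is universally Japanese if and only
if R is. -/
theorem result (R S : Type u) [CommRing R] [IsLocalRing R] [IsNoetherianRing R]
    [CommRing S] [IsLocalRing S] [Algebra R S] [IsLocalHom (algebraMap R S)] [Hensel.IsHenselization R S] :
    CAlg.IsUniversallyJapanese S ↔ CAlg.IsUniversallyJapanese R := by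
  open Groth.Agent.Lib.Helper3 Groth.Agent.Lib.Helper9 Groth.Agent.Lib.Helper48 IsLocalRing in
  have hS : IsEtaleCoveredFin R S := isEtaleCoveredFin_of_isHenselization R S
  haveI hSN : IsNoetherianRing S := (isNoetherianRing_iff_of_isHenselization R S).mp inferInstance
  haveI hff : Module.FaithfullyFlat R S := Hens.faithfullyFlat_of_isHenselization R S
  constructor
  · intro h
    have hNagS : CAlg.IsNagata S := (Groth.Agent.S0567.result S).mpr ⟨hSN, h⟩
    have hNagR : CAlg.IsNagata R :=
      isNagata_of_faithfullyFlat_of_isGeometricallyReduced_fibers hNagS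
        (fun p _ => HensNagata.isGeometricallyReduced_fiber_of_isEtaleCoveredFin hS p)
    exact ((Groth.Agent.S0567.result R).mp hNagR).2
  · intro h
    have hNagR : CAlg.IsNagata R := (Groth.Agent.S0567.result R).mpr ⟨inferInstance, h⟩
    have hgr : EGA4.HasGeomReducedFormalFibres R := hasGeomReducedFormalFibres_of_isNagata R hNagR
    have hCh : HenselianLocalRing (AdicCompletion (maximalIdeal R) R) :=
      Branch.henselianLocalRing_adicCompletion R
    obtain ⟨ψ, hψ, -⟩ := Hensel.IsHenselization.universal (R := R) (S := S)
      (AdicCompletion (maximalIdeal R) R) (algebraMap R _) inferInstance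
    letI : Algebra S (AdicCompletion (maximalIdeal R) R) := ψ.toAlgebra
    haveI : IsScalarTower R S (AdicCompletion (maximalIdeal R) R) :=
      IsScalarTower.of_algebraMap_eq (fun r => (DFunLike.congr_fun hψ r).symm)
    obtain ⟨hflat, hloc⟩ := Branch.flat_and_isLocalHom_of_isEtaleCoveredFin R S
      (AdicCompletion (maximalIdeal R) R) hS
      (Hens.map_maximalIdeal_of_isHenselization (R := R) (S := S))
    haveI : Module.FaithfullyFlat S (AdicCompletion (maximalIdeal R) R) :=
      Module.FaithfullyFlat.of_flat_of_isLocalHom
    haveI : IsNoetherianRing (AdicCompletion (maximalIdeal R) R) :=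
      Groth.Agent.S0543.result R (maximalIdeal R)
    have hNagC : CAlg.IsNagata (AdicCompletion (maximalIdeal R) R) := isNagata_of_complete_local _
    have hNagS : CAlg.IsNagata S :=
      isNagata_of_faithfullyFlat_of_isGeometricallyReduced_fibers hNagC
        (fun q _ => HensNagata.isGeometricallyReduced_fiber_cpl hS hgr q)
    exact ((Groth.Agent.S0567.result S).mp hNagS).2

end Groth.Agent.S5039
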