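import Groth.Statements.S5041
import Groth.Agent.Lib.Helper29.StrictEquidimHens
import Groth.Agent.Lib.Helper9.Hens.NoetherianHens
import Groth.Agent.Lib.Helper9.Hens.Dimension
import Groth.Agent.Lib.Helper9.Hens.LocalFlat

set_option autoImplicit false
universe u
open Hensel

namespace Groth.Agent.S5041

/-- Let R be a Noetherian local ring with henselization S. If R is strictly formally catenary (for every
prime ideal p, every associated prime of the completion of R/p has quotient of dimension dim R/p),
then so is S. -/
theorem result (R S : Type u) [CommRing R] [IsLocalRing R] [IsNoetherianRing R]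
    [CommRing S] [IsLocalRing S] [Algebra R S] [IsLocalHom (algebraMap R S)] [Hensel.IsHenselization R S]
    (h : EGA4.IsFormallyStrictlyCatenary R) : EGA4.IsFormallyStrictlyCatenary S := by
  open Groth.Agent.Lib.Helper29 Groth.Agent.Lib.Helper9 in
  intro q hq
  have hflat : Module.Flat R S := Hens.flat_of_isHenselization R S
  have hNS : IsNoetherianRing S := (isNoetherianRing_iff_of_isHenselization R S).mp inferInstance
  have hcov := isEtaleCovered_of_isHenselization R S
  exact isStrictlyEquidim_cpl_quotient_of_inc R S (Hens.map_maximalIdeal_of_isHenselization R S)
    (Hens.exists_sub_mem_maximalIdeal_of_isHenselization R S)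
    (fun P Q hP hQ hPQ => hcov.under_lt_under hPQ) q (h (q.under R))

end Groth.Agent.S5041
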