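import Groth.Statements.S5043
import Groth.Agent.Lib.Helper9.Hens.AssPrimes

set_option autoImplicit false
universe u
open Hensel

namespace Groth.Agent.S5043

/-- Let R be a Noetherian local ring with henselization S. A prime ideal P of S is an associated prime
of S if and only if its inverse image in R is an associated prime of R. -/
theorem result (R S : Type u) [CommRing R] [IsLocalRing R] [IsNoetherianRing R]
    [CommRing S] [IsLocalRing S] [Algebra R S] [IsLocalHom (algebraMap R S)] [Hensel.IsHenselization R S]
    (P : Ideal S) [P.IsPrime] :
    P ∈ associatedPrimes S S ↔ P.comap (algebraMap R S) ∈ associatedPrimes R R := by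
  open Groth.Agent.Lib.Helper9 in
  haveI : Module.Flat R S := Hens.flat_of_isHenselization R S
  open Groth.Agent.Lib.Helper9 in
  haveI : IsNoetherianRing S := (isNoetherianRing_iff_of_isHenselization R S).mp inferInstance
  open Groth.Agent.Lib.Helper9 in
  have hcov := isEtaleCovered_of_isHenselization R S
  constructor
  · intro h
    exact Groth.Agent.Lib.Helper9.comap_mem_associatedPrimes_of_flat h
  · intro h
    exact Groth.Agent.Lib.Helper9.mem_associatedPrimes_of_comap_mem
      (fun P Q hP hQ hlt => by
        haveI := hP
        haveI := hQ
        exact hcov.under_lt_under hlt) h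

end Groth.Agent.S5043
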