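import Groth.Statements.S5047
import Groth.Agent.Lib.Helper13.UnramFibre

set_option autoImplicit false
open CategoryTheory AlgebraicGeometry
universe u
open Unram

namespace Groth.Agent.S5047

/-- Consider morphisms g : Y ⟶ S and h : X ⟶ S, both locally of finite presentation, where h is flat and
every local ring of every fibre of g is a normal domain (this holds, e.g., when g is smooth). Given
an S-morphism f : X ⟶ Y, the morphism f is an open immersion exactly when it is a monomorphism and,
at each point x of X, the local dimension at x of the h-fibre containing x coincides with the local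
dimension at f x of the g-fibre containing f x. -/
theorem result {X Y S : Scheme.{u}} (g : Y ⟶ S) (h : X ⟶ S)
    [LocallyOfFinitePresentation g] [LocallyOfFinitePresentation h] [Flat h]
    (hnorm : ∀ y : Y, IsDomain ((g.fiber (g.base y)).presheaf.stalk (g.asFiber y)) ∧
      IsIntegrallyClosed ((g.fiber (g.base y)).presheaf.stalk (g.asFiber y)))
    (f : X ⟶ Y) (w : f ≫ g = h) :
    IsOpenImmersion f ↔ (Mono f ∧ ∀ x : X, FlatMor.fibreDimAt h x = FlatMor.fibreDimAt g (f.base x)) := by
  subst w
  haveI hf : LocallyOfFinitePresentation f :=
    Groth.Agent.Lib.Helper23.FibreCritScheme.locallyOfFinitePresentation_of_comp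
      (g := g) inferInstance inferInstance
  constructor
  · intro hoi
    refine ⟨inferInstance, fun x => ?_⟩
    exact Groth.Agent.H52.fibreDimAt_eq_of_etale_square f (𝟙 S) (f ≫ g) g
      (by rw [Category.comp_id]) x
  · rintro ⟨hmono, hdim⟩
    haveI : IsIso (CategoryTheory.Limits.pullback.diagonal f) := (CategoryTheory.Limits.pullback.isIso_diagonal_iff f).mpr hmono
    haveI hunr : FormallyUnramified f := inferInstance
    haveI : Flat f := by
      rw [Flat.iff_flat_stalkMap]
      intro x
      haveI : FormallyUnramified ((⊤ : X.Opens).ι ≫ f) :=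
        MorphismProperty.comp_mem (W := @FormallyUnramified) _ _ inferInstance inferInstance
      obtain ⟨U, hxU, hEt⟩ := (Groth.Agent.Lib.Helper13.UnramFibre.etale_nhd_iff f g x
        (Flat.stalkMap (f ≫ g) x) (hnorm (f x)).1 (hnorm (f x)).2).mpr
        ⟨⟨⊤, trivial, inferInstance⟩, hdim x⟩
      have hfl := Flat.stalkMap (U.ι ≫ f) (⟨x, hxU⟩ : U.toScheme)
      exact (Groth.Agent.S2595.flat_stalkMap_comp_openImmersion_iff U.ι f _).mp hfl
    exact IsOpenImmersion.of_flat_of_mono f

end Groth.Agent.S5047
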