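import Groth.Statements.S5048
import Groth.Agent.Lib.Helper25.MaximalPoints
import Mathlib.AlgebraicGeometry.Morphisms.UniversallyOpen

set_option autoImplicit false
open CategoryTheory AlgebraicGeometry
universe u
open Unram

namespace Groth.Agent.S5048

/-- Let Y be an irreducible scheme with generic point η and f : X ⟶ Y flat, locally of finite type and
locally quasi-finite. Then a point x of X maps to η if and only if its closure is an irreducible
component of X; thus the irreducible components of X are in canonical bijection with the fibre over
η. -/
theorem result {X Y : Scheme.{u}} [IrreducibleSpace ↥Y] (f : X ⟶ Y)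
    [Flat f] [LocallyOfFiniteType f] [LocallyQuasiFinite f] (x : X) :
    f.base x = genericPoint Y ↔ closure ({x} : Set ↥X) ∈ irreducibleComponents ↥X := by
  rw [Groth.Agent.Lib.Helper25.closure_singleton_mem_irreducibleComponents_iff]
  constructor
  · intro hx z hzx
    have h1 : f.base z ⤳ f.base x := hzx.map f.continuous
    rw [hx] at h1
    have h2 : f.base z = genericPoint Y := (h1.antisymm (genericPoint_specializes _)).eq
    exact Groth.Agent.Lib.Helper25.eq_of_specializes_of_isDiscrete
      (f.isDiscrete_preimage_singleton (genericPoint Y)) h2 hx hzx
  · intro h
    obtain ⟨x', hx'x, hx'⟩ := (Flat.generalizingMap f) (genericPoint_specializes (f.base x))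
    rw [← h x' hx'x]
    exact hx'

end Groth.Agent.S5048
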