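import Groth.Statements.S5049
import Groth.Agent.Lib.Helper25.MaximalPoints
import Mathlib.AlgebraicGeometry.Morphisms.UniversallyOpen

set_option autoImplicit false
open CategoryTheory AlgebraicGeometry
universe u
open Unram

namespace Groth.Agent.S5049

open Groth.Agent.Lib.Helper25

/-- Let f : X ⟶ Y be flat, locally of finite type and locally quasi-finite. If the irreducible
components of Y form a locally finite family of subsets, then so do the irreducible components of X. -/
theorem result {X Y : Scheme.{u}} (f : X ⟶ Y)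
    [Flat f] [LocallyOfFiniteType f] [LocallyQuasiFinite f]
    (hY : LocallyFinite (fun Z : ↥(irreducibleComponents ↥Y) => (Z : Set ↥Y))) :
    LocallyFinite (fun Z : ↥(irreducibleComponents ↥X) => (Z : Set ↥X)) := by
  intro x
  obtain ⟨t, ht, htfin⟩ := hY (f.base x)
  obtain ⟨V₀, hV₀t, hV₀open, hxV₀⟩ := mem_nhds_iff.mp ht
  obtain ⟨V, hVaff, hxV, hVV₀⟩ :=
    exists_isAffineOpen_mem_and_subset (U := (⟨V₀, hV₀open⟩ : Y.Opens)) (x := f.base x) hxV₀
  obtain ⟨U, hUaff, hxU, hUV⟩ :=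
    exists_isAffineOpen_mem_and_subset (U := f ⁻¹ᵁ V) (x := x) hxV
  have e : U ≤ f ⁻¹ᵁ V := hUV
  refine ⟨U, U.isOpen.mem_nhds hxU, ?_⟩
  -- the finite set of maximal points of `Y` in `V`
  let E : Set Y := {η | closure ({η} : Set Y) ∈ irreducibleComponents Y ∧ η ∈ V}
  have hEfin : E.Finite := by
    refine Set.Finite.of_injOn (f := fun η : Y => closure ({η} : Set Y))
      (t := (fun Z : ↥(irreducibleComponents ↥Y) => (Z : Set ↥Y)) ''
        {Z | ((Z : Set Y) ∩ t).Nonempty}) ?_ ?_ (htfin.image _)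
    · rintro η ⟨hη, hηV⟩
      exact ⟨⟨_, hη⟩, ⟨η, subset_closure rfl, hV₀t (hVV₀ hηV)⟩, rfl⟩
    · rintro η _ η' _ h
      have h' : closure ({η} : Set Y) = closure {η'} := h
      have h2 : IsGenericPoint η' (closure ({η} : Set Y)) := h'.symm
      exact (isGenericPoint_closure (x := η)).eq h2
  have : IsAffine ↑U := hUaff
  have : IsAffine ↑V := hVaff
  let g : (U : Scheme) ⟶ V := f.resLE V U e
  have hg : g ≫ V.ι = U.ι ≫ f := Scheme.Hom.resLE_comp_ι f e
  have hE'fin : (V.ι ⁻¹' E).Finite :=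
    hEfin.preimage (V.ι.isOpenEmbedding.injective.injOn)
  have hFfin : (U.ι '' (g ⁻¹' (V.ι ⁻¹' E))).Finite :=
    (g.finite_preimage hE'fin).image _
  -- map each component meeting `U` to its generic point
  refine Set.Finite.of_injOn
    (f := fun Z : ↥(irreducibleComponents ↥X) => (Z.2.1 : IsIrreducible (Z : Set X)).genericPoint)
    (t := U.ι '' (g ⁻¹' (V.ι ⁻¹' E))) ?_ ?_ hFfin
  · rintro Z ⟨w, hwZ, hwU⟩
    have hZirr : IsIrreducible (Z : Set X) := Z.2.1
    have hZcl : IsClosed (Z : Set X) := isClosed_of_mem_irreducibleComponents _ Z.2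
    have hgen : IsGenericPoint hZirr.genericPoint (Z : Set X) :=
      hZirr.isGenericPoint_genericPoint hZcl
    set ξ := hZirr.genericPoint with hξ
    have hξU : ξ ∈ U := (hgen.mem_open_set_iff U.isOpen).mpr ⟨w, hwZ, hwU⟩
    have hξmax : ∀ z : X, z ⤳ ξ → z = ξ := by
      rw [← closure_singleton_mem_irreducibleComponents_iff, hgen.def]
      exact Z.2
    have hfξmax : ∀ z : Y, z ⤳ f.base ξ → z = f.base ξ := by
      intro z hz
      obtain ⟨ξ', hξ', hfξ'⟩ := (Flat.generalizingMap f) hz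
      rw [← hfξ', hξmax ξ' hξ']
    have hfξE : f.base ξ ∈ E :=
      ⟨(closure_singleton_mem_irreducibleComponents_iff _).mpr hfξmax, e hξU⟩
    refine ⟨⟨ξ, hξU⟩, ?_, rfl⟩
    change V.ι (g ⟨ξ, hξU⟩) ∈ E
    have h1 : V.ι (g ⟨ξ, hξU⟩) = f (U.ι ⟨ξ, hξU⟩) := by
      have := congrArg (fun k : (U : Scheme) ⟶ Y => k ⟨ξ, hξU⟩) hg
      exact this
    rw [h1]
    exact hfξE
  · rintro Z _ Z' _ h
    have hgen : IsGenericPoint (Z.2.1 : IsIrreducible (Z : Set X)).genericPoint (Z : Set X) :=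
      Z.2.1.isGenericPoint_genericPoint (isClosed_of_mem_irreducibleComponents _ Z.2)
    have hgen' : IsGenericPoint (Z'.2.1 : IsIrreducible (Z' : Set X)).genericPoint (Z' : Set X) :=
      Z'.2.1.isGenericPoint_genericPoint (isClosed_of_mem_irreducibleComponents _ Z'.2)
    apply Subtype.ext
    rw [← hgen.def, ← hgen'.def]
    simp only at h
    rw [h]

end Groth.Agent.S5049
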