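import Groth.Statements.S5057
import Mathlib.AlgebraicGeometry.IdealSheaf.Subscheme
import Mathlib.AlgebraicGeometry.IdealSheaf.Functorial

set_option autoImplicit false
open CategoryTheory CategoryTheory.Limits AlgebraicGeometry
universe u
open Hensel

namespace Groth.Agent.S5057

/-- Let i : S₀ ⟶ S be a closed immersion such that for every finite morphism g : S' ⟶ S every
open-closed subset of S' ×_S S₀ is the inverse image under the first projection of exactly one
open-closed subset of S'. Then for every finite morphism g : S' ⟶ S, every open subset of S'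
containing the image of S' ×_S S₀ is all of S'. -/
theorem result {S S₀ : Scheme.{u}} (i : S₀ ⟶ S) [IsClosedImmersion i]
    (ha : ∀ (S' : Scheme.{u}) (g : S' ⟶ S), IsFinite g →
      ∀ V : Set ↥(pullback g i), IsClopen V → ∃! U : Set ↥S', IsClopen U ∧ (pullback.fst g i).base ⁻¹' U = V)
    {S' : Scheme.{u}} (g : S' ⟶ S) [IsFinite g] (U : Set ↥S') (hU : IsOpen U)
    (hU₀ : Set.range (pullback.fst g i).base ⊆ U) : U = Set.univ := by
  -- the reduced induced closed subscheme on the complement of `U`
  let Z : TopologicalSpace.Closeds S' := ⟨Uᶜ, hU.isClosed_compl⟩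
  let I := Scheme.IdealSheafData.vanishingIdeal Z
  let j : I.subscheme ⟶ S' := I.subschemeι
  have hj : Set.range j = Uᶜ := by
    rw [Scheme.IdealSheafData.range_subschemeι, Scheme.IdealSheafData.coe_support_vanishingIdeal]
    rfl
  have hfin : IsFinite (j ≫ g) := inferInstance
  -- the fibre product with `S₀` is empty
  have hempty : IsEmpty ↥(pullback (j ≫ g) i) := by
    constructor
    intro w
    let l : pullback (j ≫ g) i ⟶ pullback g i :=
      pullback.lift (pullback.fst (j ≫ g) i ≫ j) (pullback.snd (j ≫ g) i)
        (by rw [Category.assoc, pullback.condition])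
    have hl : l ≫ pullback.fst g i = pullback.fst (j ≫ g) i ≫ j := pullback.lift_fst _ _ _
    have h1 : (pullback.fst g i) (l w) ∈ U := hU₀ ⟨l w, rfl⟩
    have h2 : (pullback.fst g i) (l w) = j ((pullback.fst (j ≫ g) i) w) :=
      congrArg (fun k : pullback (j ≫ g) i ⟶ S' => k w) hl
    have h3 : j ((pullback.fst (j ≫ g) i) w) ∈ Uᶜ := by
      rw [← hj]; exact ⟨_, rfl⟩
    rw [h2] at h1
    exact h3 h1
  obtain ⟨W, -, hW⟩ := ha I.subscheme (j ≫ g) hfin ∅ isClopen_empty
  have h1 := hW ∅ ⟨isClopen_empty, Set.preimage_empty⟩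
  have h2 := hW Set.univ ⟨isClopen_univ, by
    ext w; exact (hempty.false w).elim⟩
  have hsub : IsEmpty ↥I.subscheme := by
    constructor
    intro z
    have : z ∈ (Set.univ : Set ↥I.subscheme) := trivial
    rw [h2, ← h1] at this
    exact this
  have : Uᶜ = ∅ := by
    rw [← hj]
    exact Set.range_eq_empty _
  exact Set.compl_empty_iff.mp this

end Groth.Agent.S5057
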