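import Groth.Statements.S5058
-- import your own Groth.Agent.* helpers here
import Groth.Agent.Lib.Helper7.FgSubalgLimit
import Groth.Agent.Lib.Helper9.Hens.NoetherianHens
import Groth.Agent.Lib.Helper9.Hens.Local

set_option autoImplicit false
open CategoryTheory CategoryTheory.Limits AlgebraicGeometry
universe u
open Hensel

namespace Groth.Agent.S5058

/-- Let A be a henselian local ring and f : X ⟶ Spec A a morphism of finite presentation. Then there
exist a Noetherian henselian local ring A₀, a local ring homomorphism φ : A₀ → A, a morphism of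
finite type f₀ : X₀ ⟶ Spec A₀ and a cartesian square exhibiting X as the base change of X₀ along
Spec φ. -/
theorem result (A : Type u) [CommRing A] [HenselianLocalRing A]
    {X : Scheme.{u}} (f : X ⟶ Spec (CommRingCat.of A)) [LocallyOfFinitePresentation f] [QuasiCompact f] [QuasiSeparated f] :
    ∃ (A₀ : Type u) (_ : CommRing A₀) (_ : HenselianLocalRing A₀) (_ : IsNoetherianRing A₀) (φ : A₀ →+* A) (_ : IsLocalHom φ)
      (X₀ : Scheme.{u}) (f₀ : X₀ ⟶ Spec (CommRingCat.of A₀)) (g : X ⟶ X₀),
      LocallyOfFiniteType f₀ ∧ QuasiCompact f₀ ∧ IsPullback g f f₀ (Spec.map (CommRingCat.ofHom φ)) := by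
  obtain ⟨B, hBfg, X₁, f₁, g₁, -, hfp, hqc, hqs, hpb⟩ :=
    Groth.Agent.Lib.Helper7.FgSubalgLimit.exists_model (A := A) (⊤ : MorphismProperty Scheme.{u})
      (fun i X₀ f₀ _ _ _ _ => ⟨Over.mk (𝟙 i), trivial⟩) f trivial
  haveI : Algebra.FiniteType ℤ B := ⟨(Subalgebra.fg_top B).2 hBfg⟩
  haveI : IsNoetherianRing B := Algebra.FiniteType.isNoetherianRing ℤ B
  obtain ⟨p, hp⟩ : ∃ p : Ideal B, p = (IsLocalRing.maximalIdeal A).comap (algebraMap B A) := ⟨_, rfl⟩
  haveI : p.IsPrime := hp ▸ Ideal.comap_isPrime _ _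
  haveI : IsNoetherianRing (Localization.AtPrime p) :=
    IsLocalization.isNoetherianRing p.primeCompl _ inferInstance
  have hmem : ∀ x : B, x ∈ p ↔ algebraMap B A x ∈ IsLocalRing.maximalIdeal A := fun x => by
    rw [hp]; rfl
  have hunits : ∀ y : p.primeCompl, IsUnit (algebraMap B A y) := by
    intro y
    by_contra hy
    exact y.2 ((hmem y).2 ((IsLocalRing.mem_maximalIdeal _).2 hy))
  let ψ : Localization.AtPrime p →+* A := IsLocalization.lift (M := p.primeCompl) hunits
  have hψ : ψ.comp (algebraMap B (Localization.AtPrime p)) = algebraMap B A :=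
    IsLocalization.lift_comp _
  haveI hψloc : IsLocalHom ψ := by
    refine ((IsLocalRing.local_hom_TFAE ψ).out 0 2).mpr ?_
    rw [← Localization.AtPrime.map_eq_maximalIdeal, Ideal.map_map, hψ, hp]
    exact Ideal.map_comap_le
  haveI : IsNoetherianRing (Groth.Agent.Lib.Helper9.Hens.Henselization (Localization.AtPrime p)) :=
    (Groth.Agent.Lib.Helper9.isNoetherianRing_iff_of_isHenselization (Localization.AtPrime p)
      (Groth.Agent.Lib.Helper9.Hens.Henselization (Localization.AtPrime p))).mp inferInstance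
  obtain ⟨φ, hφ, -⟩ := (Groth.Agent.Lib.Helper9.Hens.Henselization.isHenselization
    (Localization.AtPrime p)).universal A ψ inferInstance
  haveI hφloc : IsLocalHom φ := by
    refine ((IsLocalRing.local_hom_TFAE φ).out 0 2).mpr ?_
    rw [← Groth.Agent.Lib.Helper9.Hens.Henselization.map_maximalIdeal, Ideal.map_map, hφ]
    exact ((IsLocalRing.local_hom_TFAE ψ).out 0 2).mp hψloc
  obtain ⟨c, hc⟩ : ∃ c : B →+* Groth.Agent.Lib.Helper9.Hens.Henselization (Localization.AtPrime p),
      c = (algebraMap (Localization.AtPrime p) _).comp (algebraMap B (Localization.AtPrime p)) :=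
    ⟨_, rfl⟩
  have hφc : φ.comp c = algebraMap B A := by
    rw [hc, ← RingHom.comp_assoc, hφ, hψ]
  have hSpec : Spec.map (CommRingCat.ofHom φ) ≫ Spec.map (CommRingCat.ofHom c) =
      Spec.map (CommRingCat.ofHom (algebraMap B A)) := by
    rw [← Spec.map_comp, ← CommRingCat.ofHom_comp, hφc]
  refine ⟨_, inferInstance, inferInstance, inferInstance, φ, inferInstance,
    pullback f₁ (Spec.map (CommRingCat.ofHom c)), pullback.snd _ _,
    pullback.lift g₁ (f ≫ Spec.map (CommRingCat.ofHom φ))
      (by rw [hpb.w, Category.assoc, hSpec]), ?_, ?_, ?_⟩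
  · haveI := hfp
    infer_instance
  · haveI := hqc
    infer_instance
  · have hright : IsPullback (pullback.fst f₁ (Spec.map (CommRingCat.ofHom c)))
        (pullback.snd f₁ (Spec.map (CommRingCat.ofHom c))) f₁ (Spec.map (CommRingCat.ofHom c)) :=
      IsPullback.of_hasPullback _ _
    refine IsPullback.of_right ?_ (pullback.lift_snd _ _ _) hright
    rw [pullback.lift_fst, hSpec]
    exact hpb

end Groth.Agent.S5058
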