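import Groth.Statements.S5060
-- import your own Groth.Agent.* helpers here
import Groth.Agent.Lib.Helper89.HironakaConvC

set_option autoImplicit false
universe u
open CInt

namespace Groth.Agent.S5060

/-- a) iff d) in the Noetherian case: let A be a Noetherian ring, R an ideal, f_1, …, f_n elements of
the Jacobson radical of A forming a regular sequence on A/R and on every R^k/R^(k+1), Q = R + (f_1,
…, f_n), and M a finitely generated A-module. Then every R^k M / R^(k+1) M is flat over A/R if and
only if every Q^k M / Q^(k+1) M is flat over A/Q and, for every associated prime p of A/Q viewed as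
an (A/R)-module, every localized piece (R^k M / R^(k+1) M)_p is flat over (A/R)_p. -/
theorem result (A : Type u) [CommRing A] [IsNoetherianRing A]
    (R : Ideal A) {n : ℕ} (f : Fin n → A) (hrad : ∀ i, f i ∈ (⊥ : Ideal A).jacobson)
    (hreg : RingTheory.Sequence.IsWeaklyRegular (A ⧸ R) (List.ofFn f))
    (hreggr : ∀ k : ℕ, RingTheory.Sequence.IsWeaklyRegular (↥(R ^ k • (⊤ : Submodule A A)) ⧸ (R • (⊤ : Submodule A ↥(R ^ k • (⊤ : Submodule A A))))) (List.ofFn f))
    (M : Type u) [AddCommGroup M] [Module A M] [Module.Finite A M] :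
    EGA4.IsNormallyFlat R M ↔
      EGA4.IsNormallyFlat (R ⊔ Ideal.span (Set.range f)) M ∧
        ∀ (p : Ideal (A ⧸ R)) [p.IsPrime],
          p ∈ associatedPrimes (A ⧸ R) ((A ⧸ R) ⧸ Ideal.map (Ideal.Quotient.mk R) (R ⊔ Ideal.span (Set.range f))) →
            ∀ k : ℕ, Module.Flat (Localization.AtPrime p) (LocalizedModule p.primeCompl (↥(R ^ k • (⊤ : Submodule A M)) ⧸ (R • (⊤ : Submodule A ↥(R ^ k • (⊤ : Submodule A M)))))) := by
  have hof : Ideal.ofList (List.ofFn f) = Ideal.span (Set.range f) := by
    unfold Ideal.ofList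
    congr 1
    ext a
    simp [List.mem_ofFn]
  have hJ : ∀ r ∈ List.ofFn f, r ∈ (⊥ : Ideal A).jacobson := by
    intro r hr
    rw [List.mem_ofFn] at hr
    obtain ⟨i, rfl⟩ := hr
    exact hrad i
  rw [← hof]
  constructor
  · intro h
    refine ⟨Groth.Agent.Lib.Helper89.HironakaTrans.isNormallyFlat_sup_ofList M (List.ofFn f) R hreg h,
      ?_⟩
    intro p _ _ k
    haveI : Module.Flat (A ⧸ R) (↥(R ^ k • (⊤ : Submodule A M)) ⧸
        (R • (⊤ : Submodule A ↥(R ^ k • (⊤ : Submodule A M))))) := h k
    exact Module.Flat.of_isLocalizedModule (Localization.AtPrime p) p.primeCompl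
      (LocalizedModule.mkLinearMap p.primeCompl _)
  · rintro ⟨hQ, hloc⟩
    exact Groth.Agent.Lib.Helper89.HironakaConv.isNormallyFlat_of_sup R (List.ofFn f) hJ hreg M hQ
      (fun p _ hp k => hloc p hp k)

end Groth.Agent.S5060
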