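import Groth.Statements.S5062
import Groth.Agent.Lib.Helper7.HensSection

set_option autoImplicit false
open CategoryTheory AlgebraicGeometry
universe u
open Hensel

namespace Groth.Agent.S5062

/-- a) iff c): a local ring A is henselian with separably closed residue field if and only if, for every
étale morphism f : X ⟶ Spec A and every point x of X lying over the closed point s, there is a
section u of f with u s = x. -/
theorem result (A : Type u) [CommRing A] [IsLocalRing A] :
    (HenselianLocalRing A ∧ IsSepClosed (IsLocalRing.ResidueField A)) ↔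
      ∀ (X : Scheme.{u}) (f : X ⟶ Spec (CommRingCat.of A)), Etale f →
        ∀ x : X, f.base x = IsLocalRing.closedPoint A →
          ∃ u : Spec (CommRingCat.of A) ⟶ X, u ≫ f = 𝟙 _ ∧ u.base (IsLocalRing.closedPoint A) = x := by
  constructor
  · rintro ⟨hH, hS⟩ X f hf x hx
    exact Groth.Agent.Lib.Helper7.HensSection.exists_section_of_strictlyHenselian A f x hx
  · intro H'
    refine Groth.Agent.Lib.Helper7.HensSection.henselian_sepClosed_of_sections A ?_
    intro B _ _ _ q hq hqA
    have hφ : (CommRingCat.ofHom (algebraMap A B)).hom.Etale :=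
      RingHom.etale_algebraMap.mpr inferInstance
    have hf : Etale (Spec.map (CommRingCat.ofHom (algebraMap A B))) :=
      HasRingHomProperty.Spec_iff.mpr hφ
    have hx : (Spec.map (CommRingCat.ofHom (algebraMap A B))).base ⟨q, hq⟩ =
        IsLocalRing.closedPoint A := PrimeSpectrum.ext hqA
    obtain ⟨u, hu1, hu2⟩ := H' (Spec (CommRingCat.of B))
      (Spec.map (CommRingCat.ofHom (algebraMap A B))) hf ⟨q, hq⟩ hx
    obtain ⟨g₀, rfl⟩ := Spec.map_surjective u
    have hcomp : CommRingCat.ofHom (algebraMap A B) ≫ g₀ = 𝟙 _ := by
      apply Spec.map_injective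
      rw [Spec.map_comp, hu1, Spec.map_id]
    refine ⟨{ g₀.hom with commutes' := fun a => ?_ }, ?_⟩
    · have := congrArg (fun k => k.hom a) hcomp
      exact this
    · exact congrArg PrimeSpectrum.asIdeal hu2

end Groth.Agent.S5062
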