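import Groth.Statements.S5064
import Mathlib
import Groth.Agent.Lib.Helper24.UnramifiedLocus
import Groth.Agent.Lib.Helper24.FlatDescentStalk

set_option autoImplicit false
open CategoryTheory CategoryTheory.Limits AlgebraicGeometry
universe u
open Unram

namespace Groth.Agent.S5064

/-- Let f : X ⟶ Y be locally of finite presentation. If f is étale then there are étale morphisms g_a :
Y'_a ⟶ Y and opens U_a of the fibre products X ×_Y Y'_a whose images under the first projections
cover X, such that each U_a ⟶ Y'_a (inclusion followed by the second projection) is an open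
immersion. Conversely, the existence of such a family with the g_a only assumed flat implies that f
is étale. -/
theorem result {X Y : Scheme.{u}} (f : X ⟶ Y) [LocallyOfFinitePresentation f] :
    (Etale f → ∃ (ι : Type u) (Y' : ι → Scheme.{u}) (g : ∀ a, Y' a ⟶ Y) (U : ∀ a, (pullback f (g a)).Opens),
      (∀ a, Etale (g a)) ∧ (∀ x : X, ∃ a, x ∈ (pullback.fst f (g a)).base '' (U a : Set ↥(pullback f (g a)))) ∧
        ∀ a, IsOpenImmersion ((U a).ι ≫ pullback.snd f (g a))) ∧
    ((∃ (ι : Type u) (Y' : ι → Scheme.{u}) (g : ∀ a, Y' a ⟶ Y) (U : ∀ a, (pullback f (g a)).Opens),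
      (∀ a, Flat (g a)) ∧ (∀ x : X, ∃ a, x ∈ (pullback.fst f (g a)).base '' (U a : Set ↥(pullback f (g a)))) ∧
        ∀ a, IsOpenImmersion ((U a).ι ≫ pullback.snd f (g a))) → Etale f) := by
  open Groth.Agent.Lib.Helper24 in
  constructor
  · intro hE
    have hΔ : IsOpenImmersion (pullback.diagonal f) := inferInstance
    refine ⟨PUnit.{u + 1}, fun _ => X, fun _ => f, fun _ => (pullback.diagonal f).opensRange,
      fun _ => hE, fun x => ⟨PUnit.unit, pullback.diagonal f x, ⟨x, rfl⟩, ?_⟩, fun _ => ?_⟩
    · rw [← Scheme.Hom.comp_apply, pullback.diagonal_fst]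
      rfl
    · have : (pullback.diagonal f).opensRange.ι ≫ pullback.snd f f =
          (pullback.diagonal f).isoOpensRange.inv := by
        rw [← Scheme.Hom.isoOpensRange_inv_comp, Category.assoc, pullback.diagonal_snd,
          Category.comp_id]
      rw [this]
      infer_instance
  · rintro ⟨ι, Y', g, U, hg, hcov, hU⟩
    have hstalk : ∀ x : X, (f.stalkMap x).hom.Flat ∧ (f.stalkMap x).hom.FormallyUnramified := by
      intro x
      obtain ⟨a, u, hu, rfl⟩ := hcov x
      have := hg a
      have := hU a
      obtain ⟨u', rfl⟩ : ∃ u' : (U a).toScheme, (U a).ι u' = u := ⟨⟨u, hu⟩, rfl⟩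
      have h1 : ((pullback.snd f (g a)).stalkMap ((U a).ι u')).hom.Flat :=
        (stalkMap_ι_comp_iff RingHom.Flat.respectsIso _ (U a) u').mp (Flat.stalkMap _ u')
      have h2 : ((pullback.snd f (g a)).stalkMap ((U a).ι u')).hom.FormallyUnramified :=
        (stalkMap_ι_comp_iff RingHom.FormallyUnramified.respectsIso _ (U a) u').mp
          (FormallyUnramified.stalkMap _ u')
      exact ⟨flat_stalkMap_of_commSq pullback.condition _ (Flat.stalkMap _ _) h1
          (Flat.stalkMap _ _),
        (formallyUnramified_stalkMap_iff_of_isPullback (IsPullback.of_hasPullback f (g a)) _).mp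
          h2⟩
    rw [Etale.iff_flat_and_formallyUnramified]
    exact ⟨Flat.of_stalkMap _ fun x => (hstalk x).1,
      HasRingHomProperty.of_stalkMap RingHom.FormallyUnramified.ofLocalizationPrime
        fun x => (hstalk x).2, inferInstance⟩

end Groth.Agent.S5064
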