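import Groth.Statements.S5065
import Mathlib
import Groth.Agent.Lib.Helper68.EtaleCompositum

set_option autoImplicit false
universe u
open Unram

namespace Groth.Agent.S5065

open TensorProduct

/-- Let A ⊆ A' be integrally closed domains, L a field algebraic over the fraction field of A in which A
embeds and whose integral closure C over A is an étale A-algebra, and L₁ a field in which A' and L
both embed, compatibly over A, and which is generated as a field by the images of A' and L (a
compositum of L with the fraction field of A'; the map A' → L₁ is injective, so that the fraction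
field of A' is a subfield of L₁). Then the integral closure of A' in L₁ is an étale A'-algebra and
coincides with the A'-subalgebra generated by the image of C. -/
theorem result (A A' L L₁ : Type u) [CommRing A] [IsDomain A]
    [IsIntegrallyClosed A] [CommRing A'] [IsDomain A'] [IsIntegrallyClosed A'] [Algebra A A']
    [Field L] [Algebra A L] [Algebra.IsAlgebraic A L] (hinj : Function.Injective (algebraMap A L))
    [Algebra.Etale A ↥(integralClosure A L)]
    [Field L₁] [Algebra A' L₁] [Algebra L L₁] [Algebra A L₁] [IsScalarTower A A' L₁] [IsScalarTower A L L₁]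
    (hinj' : Function.Injective (algebraMap A' L₁))
    (hgen : Subfield.closure (Set.range (algebraMap A' L₁) ∪ Set.range (algebraMap L L₁)) = ⊤) :
    Algebra.Etale A' ↥(integralClosure A' L₁) ∧
      integralClosure A' L₁ = Algebra.adjoin A' ((algebraMap L L₁) '' {x : L | IsIntegral A x}) := by
  -- notation
  let C := integralClosure A L
  let S := A' ⊗[A] C
  let K' := FractionRing A'
  let g : C →ₐ[A] L₁ := (IsScalarTower.toAlgHom A L L₁).comp C.val
  let φ : S →ₐ[A'] L₁ := Algebra.TensorProduct.lift (Algebra.ofId A' L₁) g (fun _ _ => Commute.all _ _)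
  have hφtmul : ∀ (a' : A') (c : C), φ (a' ⊗ₜ c) = algebraMap A' L₁ a' * algebraMap L L₁ (c : L) := by
    intro a' c
    show (Algebra.TensorProduct.lift (Algebra.ofId A' L₁) g _) (a' ⊗ₜ[A] c) = _
    rw [Algebra.TensorProduct.lift_tmul]
    rfl
  letI : Algebra S L₁ := φ.toRingHom.toAlgebra
  haveI : IsScalarTower A' S L₁ := IsScalarTower.of_algebraMap_eq (fun a => (φ.commutes a).symm)
  letI : Algebra K' L₁ := (IsFractionRing.lift hinj' : K' →+* L₁).toAlgebra
  haveI : IsScalarTower A' K' L₁ := IsScalarTower.of_algebraMap_eq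
    (fun a => (IsFractionRing.lift_algebraMap hinj' a).symm)
  have hAA' : Function.Injective (algebraMap A A') := by
    intro x y hxy
    apply hinj
    apply (algebraMap L L₁).injective
    rw [← IsScalarTower.algebraMap_apply A L L₁, ← IsScalarTower.algebraMap_apply A L L₁,
      IsScalarTower.algebraMap_apply A A' L₁, IsScalarTower.algebraMap_apply A A' L₁, hxy]
  -- the generating set
  have hGmem : ∀ x ∈ (Set.range (algebraMap A' L₁) ∪ Set.range (algebraMap L L₁)),
      ∃ (s : S) (k : K'), x = algebraMap S L₁ s * algebraMap K' L₁ k := by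
    rintro x (⟨a', rfl⟩ | ⟨l, rfl⟩)
    · refine ⟨a' ⊗ₜ 1, 1, ?_⟩
      show _ = φ (a' ⊗ₜ 1) * _
      rw [hφtmul, map_one, OneMemClass.coe_one, map_one, mul_one, mul_one]
    · obtain ⟨a, ha0, haint⟩ := (Algebra.IsAlgebraic.isAlgebraic (R := A) l).exists_integral_multiple
      let c : C := ⟨a • l, haint⟩
      have ha' : algebraMap A' K' (algebraMap A A' a) ≠ 0 := by
        rw [Ne, map_eq_zero_iff _ (IsFractionRing.injective A' K'), map_eq_zero_iff _ hAA']
        exact ha0
      refine ⟨1 ⊗ₜ c, (algebraMap A' K' (algebraMap A A' a))⁻¹, ?_⟩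
      show _ = φ (1 ⊗ₜ c) * _
      rw [hφtmul, map_one, one_mul, map_inv₀, ← IsScalarTower.algebraMap_apply A' K' L₁,
        ← IsScalarTower.algebraMap_apply A A' L₁]
      have hc : (c : L) = a • l := rfl
      rw [hc, Algebra.smul_def, map_mul, ← IsScalarTower.algebraMap_apply A L L₁]
      have hne : algebraMap A L₁ a ≠ 0 := by
        rw [IsScalarTower.algebraMap_apply A A' L₁, Ne, map_eq_zero_iff _ hinj',
          map_eq_zero_iff _ hAA']
        exact ha0
      field_simp
  obtain ⟨hint, e₁, he₁, hker⟩ := Groth.Agent.Lib.Helper68.EtaleCompositum.core A' S K' L₁ _ hgen hGmem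
  -- range of φ
  have hrange : φ.range = Algebra.adjoin A' ((algebraMap L L₁) '' {x : L | IsIntegral A x}) := by
    apply le_antisymm
    · rintro _ ⟨s, rfl⟩
      induction s using TensorProduct.induction_on with
      | zero => simp
      | add x y hx hy => rw [map_add]; exact add_mem hx hy
      | tmul a' c =>
        show φ (a' ⊗ₜ c) ∈ _
        rw [hφtmul, ← Algebra.smul_def]
        exact Subalgebra.smul_mem _ (Algebra.subset_adjoin (Set.mem_image_of_mem _ c.2)) a'
    · apply Algebra.adjoin_le
      rintro _ ⟨l, hl, rfl⟩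
      refine ⟨1 ⊗ₜ (⟨l, (show l ∈ integralClosure A L from hl)⟩ : C), ?_⟩
      show φ (1 ⊗ₜ _) = _
      rw [hφtmul, map_one, one_mul]
  have hDle : Algebra.adjoin A' ((algebraMap L L₁) '' {x : L | IsIntegral A x}) ≤
      integralClosure A' L₁ := by
    apply Algebra.adjoin_le
    rintro _ ⟨l, hl, rfl⟩
    have h1 : IsIntegral A (algebraMap L L₁ l) := hl.map (IsScalarTower.toAlgHom A L L₁)
    exact h1.tower_top
  have hEq : integralClosure A' L₁ =
      Algebra.adjoin A' ((algebraMap L L₁) '' {x : L | IsIntegral A x}) := by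
    apply le_antisymm
    · intro x hx
      rw [← hrange]
      obtain ⟨s, hs⟩ := hint x hx
      exact ⟨s, hs⟩
    · exact hDle
  refine ⟨?_, hEq⟩
  -- étaleness
  have hker' : RingHom.ker (φ.rangeRestrict : S →+* φ.range) = Ideal.span {1 - e₁} := by
    rw [← hker]
    ext s
    simp only [RingHom.mem_ker]
    constructor
    · intro h; exact congrArg Subtype.val h
    · intro h; exact Subtype.ext h
  let e1 : (S ⧸ RingHom.ker (φ.rangeRestrict : S →+* φ.range)) ≃ₐ[A'] φ.range :=
    Ideal.quotientKerAlgEquivOfSurjective (f := φ.rangeRestrict) φ.rangeRestrict_surjective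
  have hloc : IsLocalization.Away e₁ (S ⧸ Ideal.span {1 - e₁}) :=
    IsLocalization.Away.quotient_of_isIdempotentElem he₁
  have het1 : Algebra.Etale S (S ⧸ Ideal.span {1 - e₁}) := Algebra.Etale.of_isLocalizationAway e₁
  have het2 : Algebra.Etale A' (S ⧸ Ideal.span {1 - e₁}) := Algebra.Etale.comp A' S _
  have het3 : Algebra.Etale A' (S ⧸ RingHom.ker (φ.rangeRestrict : S →+* φ.range)) := by
    rw [hker']; exact het2
  have het4 : Algebra.Etale A' φ.range :=
    Algebra.Etale.of_equiv (A := S ⧸ RingHom.ker (φ.rangeRestrict : S →+* φ.range)) e1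
  have hEq' : φ.range = integralClosure A' L₁ := by rw [hEq, hrange]
  exact Algebra.Etale.of_equiv (Subalgebra.equivOfEq _ _ hEq')

end Groth.Agent.S5065
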