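import Groth.Statements.S5066
import Groth.Agent.Lib.Helper3.EtaleLiftRel
import Groth.Agent.Lib.Helper3.IdemBij
import Groth.Agent.S0523

set_option autoImplicit false
universe u
open Hensel

namespace Groth.Agent.S5066

/-- Case of a local ring, affine étale schemes: a local ring A with maximal ideal m is henselian if and
only if, for every finite A-algebra C and every étale A-algebra E, composing with the projection C →
C/mC is a bijection from the set of A-algebra homomorphisms E → C onto the set of A-algebra
homomorphisms E → C/mC. -/
theorem result (A : Type u) [CommRing A] [IsLocalRing A] :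
    HenselianLocalRing A ↔
      ∀ (C : Type u) [CommRing C] [Algebra A C] [Module.Finite A C] (E : Type u) [CommRing E] [Algebra A E] [Algebra.Etale A E],
        Function.Bijective (fun φ : E →ₐ[A] C =>
          (Ideal.Quotient.mkₐ A (Ideal.map (algebraMap A C) (IsLocalRing.maximalIdeal A))).comp φ) := by
  open Groth.Agent.Lib.Helper3 IsLocalRing in
  constructor
  · intro hA C _ _ _ E _ _ _
    have hC : HenselianRing C (Ideal.map (algebraMap A C) (maximalIdeal A)) :=
      henselianRing_map_of_isIntegral (maximalIdeal A) C
    rw [Function.bijective_iff_existsUnique]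
    intro τ
    exact existsUnique_algHom_lift_of_etale E C _ τ
  · intro h
    have hid : Ideal.map (algebraMap A A) (maximalIdeal A) = maximalIdeal A := Ideal.map_id _
    have hH : HenselianRing A (maximalIdeal A) := by
      rw [Groth.Agent.S0523.result]
      intro E _ _ _ σ
      let e := Ideal.quotientEquivAlgOfEq A hid
      obtain ⟨τ, hτ⟩ := (h A E).2 (e.symm.toAlgHom.comp σ)
      refine ⟨τ, ?_⟩
      ext x
      have h1 : e.symm (e (Ideal.Quotient.mk _ (τ x))) = e.symm (σ x) :=
        congrArg (fun f => f x) hτ
      have h2 := e.symm.injective h1
      rw [← h2]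
      rfl
    refine ⟨fun f hf a₀ h₁ h₂ => ?_⟩
    exact HenselianRing.is_henselian f hf a₀ h₁ (h₂.map _)

end Groth.Agent.S5066
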