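import Groth.Statements.S5067
import Groth.Agent.Lib.Helper24.FiniteUnramifiedOnePoint

set_option autoImplicit false
open CategoryTheory AlgebraicGeometry
universe u
open Unram

namespace Groth.Agent.S5067

/-- Let f : X ⟶ Y be an étale separated morphism of integral schemes which maps the generic point of X
to the generic point of Y and induces a bijection between the residue fields of the generic points
(f is birational). Then f is an open immersion. -/
theorem result {X Y : Scheme.{u}} [IsIntegral X] [IsIntegral Y]
    (f : X ⟶ Y) [Etale f] [IsSeparated f] (hgen : f.base (genericPoint X) = genericPoint Y)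
    (hbir : Function.Bijective (f.residueFieldMap (genericPoint X)).hom) : IsOpenImmersion f := by
  have hlqf : LocallyQuasiFinite f := by
    refine ⟨fun {U} hU {V} hV e => ?_⟩
    have h1 : (f.appLE U V e).hom.FiniteType := f.finiteType_appLE hU hV e
    have h2 : (f.appLE U V e).hom.FormallyUnramified := f.formallyUnramified_appLE hU hV e
    algebraize [(f.appLE U V e).hom]
    have : Algebra.QuasiFinite Γ(Y, U) Γ(X, V) := inferInstance
    exact this
  -- the fibre over the generic point of `Y` is the generic point of `X`
  have hfib : f.base ⁻¹' {genericPoint Y} = {genericPoint X} := by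
    ext x
    simp only [Set.mem_preimage, Set.mem_singleton_iff]
    constructor
    · intro hx
      have hd := f.isDiscrete_preimage_singleton (genericPoint Y)
      rw [isDiscrete_iff_forall_mem_exists_isOpen] at hd
      obtain ⟨u, huo, hu⟩ := hd x hx
      have hxu : x ∈ u := (hu.ge rfl).1
      have hgu : genericPoint X ∈ u := (genericPoint_specializes x).mem_open huo hxu
      have : genericPoint X ∈ u ∩ f ⁻¹' {genericPoint Y} := ⟨hgu, hgen⟩
      rw [hu] at this
      exact this.symm
    · rintro rfl
      exact hgen
  have hΔcl : IsClosedImmersion (Limits.pullback.diagonal f) := inferInstance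
  have hΔop : IsOpenImmersion (Limits.pullback.diagonal f) := inferInstance
  have hΔs : Surjective (Limits.pullback.diagonal f) := by
    rw [surjective_iff]
    intro z
    change z ∈ Set.range (Limits.pullback.diagonal f)
    have hclosed : IsClosed (Set.range (Limits.pullback.diagonal f)) :=
      (Limits.pullback.diagonal f).isClosedEmbedding.isClosed_range
    rw [← hclosed.closure_eq, mem_closure_iff]
    intro o ho hzo
    let π : Limits.pullback f f ⟶ Y := Limits.pullback.fst f f ≫ f
    have hπo : IsOpen (π '' o) := π.isOpenMap _ ho
    have hne : (π '' o).Nonempty := ⟨π z, z, hzo, rfl⟩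
    have hη : genericPoint Y ∈ π '' o :=
      ((genericPoint_spec Y).mem_open_set_iff hπo).mpr (by simpa using hne)
    obtain ⟨z', hz'o, hz'⟩ := hη
    exact ⟨z', hz'o, Groth.Agent.Lib.Helper24.mem_range_diagonal_of_fiber_singleton f
      (genericPoint Y) (genericPoint X) hfib hbir.2 z' hz'⟩
  have hΔ : IsIso (Limits.pullback.diagonal f) :=
    (isIso_iff_isOpenImmersion_and_surjective _).mpr ⟨hΔop, hΔs⟩
  have : Mono f := (Limits.pullback.isIso_diagonal_iff f).mp hΔ
  exact IsOpenImmersion.of_flat_of_mono f

end Groth.Agent.S5067
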