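import Groth.Statements.S5071
import Mathlib
import Groth.Agent.Lib.Helper18.RegQuasiReg
import Groth.Agent.Lib.Helper47.QuasiRegularBaseChange
import Groth.Agent.Lib.Helper79.FlatRS
-- import your own Groth.Agent.* helpers here

set_option autoImplicit false
universe u
open CInt

namespace Groth.Agent.S5071

/-- Let B be an A-algebra and J an ideal of B generated by a sequence which is transversally regular
relative to A. Then for n < m the module J^n/J^m is flat over A, and for every prime q of B
containing J the localisation (J^n)_q is flat over A (modules regarded as A-modules by restriction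
of scalars). -/
theorem result (A B : Type u) [CommRing A] [CommRing B] [Algebra A B]
    (rs : List B) (hrs : RegImm.IsTransRegularSeq A B rs) (n m : ℕ) (hnm : n < m) :
    Module.Flat A (RestrictScalars A B
      (↥(Ideal.ofList rs ^ n) ⧸ (Submodule.comap (Ideal.ofList rs ^ n).subtype (Ideal.ofList rs ^ m)))) ∧
      ∀ (q : Ideal B) [q.IsPrime], Ideal.ofList rs ≤ q →
        Module.Flat A (RestrictScalars A B (LocalizedModule q.primeCompl ↥(Ideal.ofList rs ^ n))) := by
  obtain ⟨hreg, hflat⟩ := hrs
  set f : Fin rs.length → B := rs.get with hf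
  have hof : List.ofFn f = rs := List.ofFn_get rs
  have hJ : Ideal.ofList rs = Ideal.span (Set.range f) := by
    rw [Ideal.ofList, hf, Set.range_list_get]
  have hq : CAlgX.IsQuasiRegular f :=
    Groth.Agent.Lib.Helper18.isQuasiRegular_of_isWeaklyRegular _ f (by rw [hof]; exact hreg)
  have hBJ : Module.Flat A (B ⧸ Ideal.span (Set.range f)) := by
    have := hflat rs.length le_rfl
    rw [List.take_length] at this
    exact hJ ▸ this
  have hpow : ∀ k, Module.Flat A (B ⧸ (Ideal.ofList rs) ^ k) := by
    intro k
    rw [hJ]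
    exact Groth.Agent.Lib.Helper47.flat_quotient_pow f hq hBJ k
  have hB : Module.Flat A B := by
    have := hflat 0 (Nat.zero_le _)
    rw [List.take_zero, Ideal.ofList_nil] at this
    exact Module.Flat.of_linearEquiv
      ((Submodule.quotEquivOfEqBot (⊥ : Ideal B) rfl).symm.restrictScalars A)
  constructor
  · haveI := hpow m
    haveI := hpow n
    let φ : (↥(Ideal.ofList rs ^ n) ⧸
        Submodule.comap (Ideal.ofList rs ^ n).subtype (Ideal.ofList rs ^ m)) →ₗ[B]
        (B ⧸ Ideal.ofList rs ^ m) :=
      Submodule.mapQ _ _ (Ideal.ofList rs ^ n).subtype le_rfl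
    let ψ : (B ⧸ Ideal.ofList rs ^ m) →ₗ[B] (B ⧸ Ideal.ofList rs ^ n) :=
      Submodule.mapQ _ _ LinearMap.id
        (by simpa using Ideal.pow_le_pow_right (I := Ideal.ofList rs) hnm.le)
    refine Groth.Agent.Lib.Helper79.FlatRS.flat_rs_of_exact A B _ (B ⧸ Ideal.ofList rs ^ m) (B ⧸ Ideal.ofList rs ^ n) φ ψ ?_ ?_ ?_
    · rw [← LinearMap.ker_eq_bot]
      refine Submodule.ker_liftQ_eq_bot _ _ _ ?_
      intro x hx
      rw [LinearMap.mem_ker, LinearMap.comp_apply, Submodule.mkQ_apply,
        Submodule.Quotient.mk_eq_zero] at hx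
      exact hx
    · intro y
      obtain ⟨b, rfl⟩ := Submodule.Quotient.mk_surjective _ y
      exact ⟨Submodule.Quotient.mk b, rfl⟩
    · intro y
      obtain ⟨b, rfl⟩ := Submodule.Quotient.mk_surjective _ y
      have h1 : ψ (Submodule.Quotient.mk b) = Submodule.Quotient.mk b := rfl
      rw [h1, Submodule.Quotient.mk_eq_zero]
      constructor
      · intro hb
        exact ⟨Submodule.Quotient.mk ⟨b, hb⟩, rfl⟩
      · rintro ⟨x, hx⟩
        obtain ⟨c, rfl⟩ := Submodule.Quotient.mk_surjective _ x
        have h2 : φ (Submodule.Quotient.mk c) = Submodule.Quotient.mk (c : B) := rfl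
        rw [h2, Submodule.Quotient.eq] at hx
        have h3 : b = (c : B) - ((c : B) - b) := by ring
        rw [h3]
        exact Submodule.sub_mem _ c.2 (Ideal.pow_le_pow_right hnm.le hx)
  · intro q _ _
    refine Groth.Agent.Lib.Helper79.FlatRS.flat_rs_localizedModule A B q.primeCompl _ ?_
    haveI := hpow n
    refine Groth.Agent.Lib.Helper79.FlatRS.flat_rs_of_exact A B _ B (B ⧸ Ideal.ofList rs ^ n) (Ideal.ofList rs ^ n).subtype
      (Submodule.mkQ _) Subtype.val_injective (Submodule.mkQ_surjective _) ?_
    intro b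
    rw [Submodule.mkQ_apply, Submodule.Quotient.mk_eq_zero]
    constructor
    · intro hb
      exact ⟨⟨b, hb⟩, rfl⟩
    · rintro ⟨c, rfl⟩
      exact c.2

end Groth.Agent.S5071
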