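import Groth.Statements.S5072
import Groth.Agent.Lib.Helper9.HensK.FiniteLocal

set_option autoImplicit false
open scoped TensorProduct
universe u
open Hensel

namespace Groth.Agent.S5072

/-- Case of a local ring A and a local finite A-algebra B: let S be a strict henselization of A and T a
strict henselization of B. Then there is a maximal ideal q of B ⊗_A S such that T is isomorphic, as
a B-algebra, to the local ring (B ⊗_A S)_q. -/
theorem result (A B S T : Type u) [CommRing A] [IsLocalRing A]
    [CommRing B] [IsLocalRing B] [Algebra A B] [Module.Finite A B]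
    [CommRing S] [IsLocalRing S] [Algebra A S] [IsLocalHom (algebraMap A S)] [Hensel.IsStrictHenselization A S]
    [CommRing T] [IsLocalRing T] [Algebra B T] [IsLocalHom (algebraMap B T)] [Hensel.IsStrictHenselization B T] :
    ∃ (q : Ideal (B ⊗[A] S)) (_ : q.IsMaximal), Nonempty (Localization.AtPrime q ≃ₐ[B] T) := by
  haveI : Module.FaithfullyFlat A S :=
    Groth.Agent.Lib.Helper9.HensK.faithfullyFlat_of_isStrictHenselization A S
  haveI : Nontrivial (B ⊗[A] S) := inferInstance
  obtain ⟨q, hq⟩ := Ideal.exists_maximal (B ⊗[A] S)
  haveI := hq
  haveI : IsLocalHom (algebraMap B (Localization.AtPrime q)) :=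
    Groth.Agent.Lib.Helper9.HensK.isLocalHom_left A B S q
  haveI : Hensel.IsStrictHenselization B (Localization.AtPrime q) :=
    Groth.Agent.Lib.Helper9.HensK.isStrictHenselization_localization A B S q inferInstance
  exact ⟨q, hq, Groth.Agent.Lib.Helper9.HensK.nonempty_algEquiv_of_isStrictHenselization B
    (Localization.AtPrime q) T⟩

end Groth.Agent.S5072
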