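import Groth.Statements.S5073
import Mathlib.RingTheory.Ideal.MinimalPrime.Localization
import Mathlib.RingTheory.Ideal.MinimalPrime.Noetherian

set_option autoImplicit false
universe u
open EGA418

namespace Groth.Agent.S5073

/-- The kernel of the localization map at `p` is not contained in any minimal prime not below `p`. -/
theorem ker_not_le {A : Type u} [CommRing A] (p : Ideal A) [p.IsPrime]
    (q : Ideal A) (hq : q ∈ minimalPrimes A) (hqp : ¬ q ≤ p) :
    ¬ RingHom.ker (algebraMap A (Localization.AtPrime p)) ≤ q := by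
  intro hK
  obtain ⟨s, hsq, hsp⟩ := SetLike.not_le_iff_exists.mp hqp
  have hqprime : q.IsPrime := hq.1.1
  have hrad := IsLocalization.AtPrime.radical_map_of_mem_minimalPrimes
    (A := Localization.AtPrime q) q ⊥ hq
  have hs : algebraMap A (Localization.AtPrime q) s ∈
      ((⊥ : Ideal A).map (algebraMap A (Localization.AtPrime q))).radical := by
    rw [hrad]
    exact Ideal.mem_map_of_mem _ hsq
  rw [Ideal.map_bot] at hs
  obtain ⟨n, hn⟩ := hs
  rw [Ideal.mem_bot, ← map_pow, IsLocalization.map_eq_zero_iff q.primeCompl] at hn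
  obtain ⟨t, ht⟩ := hn
  have htK : (t : A) ∈ RingHom.ker (algebraMap A (Localization.AtPrime p)) := by
    rw [RingHom.mem_ker, IsLocalization.map_eq_zero_iff p.primeCompl]
    refine ⟨⟨s ^ n, ?_⟩, ?_⟩
    · exact fun h => hsp (Ideal.IsPrime.mem_of_pow_mem inferInstance n h)
    · simpa [mul_comm] using ht
  exact t.2 (hK htK)

/-- Let A be a Noetherian local ring, p a prime ideal and x an element of A. Then there is an element x'
of A whose image in A_p equals that of x and which belongs to no minimal prime ideal of A not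
contained in p. -/
theorem result (A : Type u) [CommRing A] [IsNoetherianRing A] [IsLocalRing A]
    (p : Ideal A) [p.IsPrime] (x : A) :
    ∃ x' : A, algebraMap A (Localization.AtPrime p) x' = algebraMap A (Localization.AtPrime p) x ∧
      ∀ q ∈ minimalPrimes A, ¬ q ≤ p → x' ∉ q := by
  classical
  have hfin : (minimalPrimes A).Finite := minimalPrimes.finite_of_isNoetherianRing A
  set K : Ideal A := RingHom.ker (algebraMap A (Localization.AtPrime p)) with hK
  let Qs : Finset (Ideal A) := hfin.toFinset.filter (fun q => ¬ q ≤ p)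
  have hQs : ∀ q, q ∈ Qs ↔ q ∈ minimalPrimes A ∧ ¬ q ≤ p := by
    intro q; simp [Qs]
  let J := Qs.filter (fun q => x ∈ q)
  let J' := Qs.filter (fun q => x ∉ q)
  let I : Ideal A := K ⊓ J'.inf id
  have hI : ¬ ((I : Set A) ⊆ ⋃ q ∈ (J : Set (Ideal A)), ((id q : Ideal A) : Set A)) := by
    rw [Ideal.subset_union_prime (f := id) ⊥ ⊥
      (fun q hq _ _ => ((hQs q).mp (Finset.mem_filter.mp hq).1).1.1.1)]
    rintro ⟨q₀, hq₀J, hIq₀⟩
    obtain ⟨hq₀Qs, hxq₀⟩ := Finset.mem_filter.mp hq₀J
    obtain ⟨hq₀min, hq₀p⟩ := (hQs q₀).mp hq₀Qs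
    have hq₀prime : q₀.IsPrime := hq₀min.1.1
    rcases hq₀prime.inf_le.mp hIq₀ with h | h
    · exact ker_not_le p q₀ hq₀min hq₀p h
    · obtain ⟨q, hqJ', hqq₀⟩ := hq₀prime.inf_le'.mp h
      obtain ⟨hqQs, hxq⟩ := Finset.mem_filter.mp hqJ'
      obtain ⟨hqmin, -⟩ := (hQs q).mp hqQs
      have : q₀ ≤ q := hq₀min.2 ⟨hqmin.1.1, bot_le⟩ hqq₀
      exact hxq (this hxq₀)
  obtain ⟨k, hkI, hk⟩ := Set.not_subset.mp hI
  refine ⟨x + k, ?_, ?_⟩
  · have : algebraMap A (Localization.AtPrime p) k = 0 := hkI.1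
    rw [map_add, this, add_zero]
  · intro q hqmin hqp hxk
    have hqQs : q ∈ Qs := (hQs q).mpr ⟨hqmin, hqp⟩
    by_cases hxq : x ∈ q
    · have hqJ : q ∈ J := Finset.mem_filter.mpr ⟨hqQs, hxq⟩
      apply hk
      simp only [Set.mem_iUnion]
      refine ⟨q, hqJ, ?_⟩
      have : k = (x + k) - x := by ring
      rw [this]
      exact q.sub_mem hxk hxq
    · have hqJ' : q ∈ J' := Finset.mem_filter.mpr ⟨hqQs, hxq⟩
      have hkq : k ∈ q := by
        have h1 : J'.inf id ≤ q := Finset.inf_le (f := id) hqJ'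
        exact h1 hkI.2
      apply hxq
      have : x = (x + k) - k := by ring
      rw [this]
      exact q.sub_mem hxk hkq

end Groth.Agent.S5073
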