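import Groth.Statements.S5076
import Mathlib

set_option autoImplicit false
universe u
open Unram

namespace Groth.Agent.S5076

section
variable {A C : Type u} [CommRing A]
    [CommRing C] [Algebra A C] [Module.Finite A C] (r : Ideal C) [r.IsMaximal] (u : C)

/-- key lemma: an ideal of `C` whose contraction to `B = A[u]` is inside `n = r ∩ B` is inside `r`. -/
theorem le_of_comap_le (hu₁ : ∀ r' : Ideal C, r'.IsMaximal → r' ≠ r → u ∈ r') (hu₂ : u ∉ r)
    (J : Ideal C)
    (hJ : J.comap (algebraMap (Algebra.adjoin A ({u} : Set C)) C) ≤
      r.comap (algebraMap (Algebra.adjoin A ({u} : Set C)) C)) : J ≤ r := by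
  have hint : Algebra.IsIntegral (Algebra.adjoin A ({u} : Set C)) C :=
    Algebra.IsIntegral.tower_top (R := A)
  obtain ⟨Q, hQJ, hQp, hQ⟩ := Ideal.exists_ideal_over_prime_of_isIntegral
    (r.comap (algebraMap (Algebra.adjoin A ({u} : Set C)) C)) J hJ
  have hnmax : (r.comap (algebraMap (Algebra.adjoin A ({u} : Set C)) C)).IsMaximal :=
    Ideal.isMaximal_comap_of_isIntegral_of_isMaximal r
  have hQmax : Q.IsMaximal := by
    apply Ideal.isMaximal_of_isIntegral_of_isMaximal_comap (R := Algebra.adjoin A ({u} : Set C)) Q
    rw [hQ]
    exact hnmax
  have hQr : Q = r := by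
    by_contra hne
    have huQ : u ∈ Q := hu₁ Q hQmax hne
    have : (⟨u, Algebra.subset_adjoin (Set.mem_singleton u)⟩ : Algebra.adjoin A ({u} : Set C)) ∈
        Q.comap (algebraMap (Algebra.adjoin A ({u} : Set C)) C) := huQ
    rw [hQ] at this
    exact hu₂ this
  exact hQr ▸ hQJ

end

/-- Let A be a local ring with maximal ideal m, C a finite A-algebra, r a maximal ideal of C, and u an
element of C which lies in every maximal ideal of C other than r, does not lie in r, and whose image
generates C_r modulo m C_r as an A-algebra. Let B = A[u] be the A-subalgebra of C generated by u and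
n the inverse image of r in B. Then the canonical homomorphism B_n → C_r is bijective. -/
theorem result (A C : Type u) [CommRing A] [IsLocalRing A]
    [CommRing C] [Algebra A C] [Module.Finite A C] (r : Ideal C) [r.IsMaximal] (u : C)
    (hu₁ : ∀ r' : Ideal C, r'.IsMaximal → r' ≠ r → u ∈ r') (hu₂ : u ∉ r)
    (hu₃ : Subalgebra.toSubmodule (Algebra.adjoin A {algebraMap C (Localization.AtPrime r) u}) ⊔
        Submodule.restrictScalars A (Ideal.map (algebraMap A (Localization.AtPrime r)) (IsLocalRing.maximalIdeal A)) = ⊤) :
    Function.Bijective (Localization.localRingHom (Ideal.comap (Algebra.adjoin A ({u} : Set C)).val.toRingHom r) r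
      (Algebra.adjoin A ({u} : Set C)).val.toRingHom rfl) := by
  classical
  set B := Algebra.adjoin A ({u} : Set C) with hB
  have hφ₀ : B.val.toRingHom = algebraMap B C := rfl
  set n := Ideal.comap B.val.toRingHom r with hn
  set φ := Localization.localRingHom n r B.val.toRingHom rfl with hφ
  have L := le_of_comap_le (A := A) r u hu₁ hu₂
  have hinj0 : Function.Injective (algebraMap B C) := Subtype.val_injective
  have hdiv : ∀ c : C, c ∉ r → ∃ (c' : C) (s : B), s ∉ n ∧ c' * c = algebraMap B C s := by
    intro c hc
    by_contra hcon
    push Not at hcon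
    apply hc
    apply L (Ideal.span {c}) _ (Ideal.subset_span (Set.mem_singleton c))
    intro s hs
    by_contra hsn
    obtain ⟨c', hc'⟩ := Ideal.mem_span_singleton'.mp hs
    exact hcon c' s hsn hc'
  constructor
  · rw [injective_iff_map_eq_zero]
    intro x hx
    obtain ⟨b, s, rfl⟩ := IsLocalization.exists_mk'_eq n.primeCompl x
    rw [hφ, Localization.localRingHom_mk'] at hx
    rw [IsLocalization.mk'_eq_zero_iff] at hx ⊢
    obtain ⟨c, hc⟩ := hx
    obtain ⟨c', t, htn, ht⟩ := hdiv c.1 c.2
    refine ⟨⟨t, htn⟩, ?_⟩
    apply hinj0
    rw [map_mul, map_zero, ← ht, mul_assoc]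
    have : (c : C) * (algebraMap B C) b = 0 := hc
    rw [this, mul_zero]
  · let _ : Algebra (Localization.AtPrime n) (Localization.AtPrime r) := φ.toAlgebra
    have hφmap : ∀ b : B, φ (algebraMap B (Localization.AtPrime n) b) =
        algebraMap C (Localization.AtPrime r) (algebraMap B C b) := fun b => by
      rw [hφ, Localization.localRingHom_to_map]
      rfl
    have htower : IsScalarTower B (Localization.AtPrime n) (Localization.AtPrime r) :=
      IsScalarTower.of_algebraMap_eq (fun b => by
        rw [RingHom.algebraMap_toAlgebra, hφmap,
          IsScalarTower.algebraMap_apply B C (Localization.AtPrime r)])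
    have hfinBC : Module.Finite B C := Module.Finite.of_restrictScalars_finite A B C
    obtain ⟨G, hG⟩ := hfinBC.fg_top
    have hspan : ∀ c : C, algebraMap C (Localization.AtPrime r) c ∈
        Submodule.span (Localization.AtPrime n)
          ((algebraMap C (Localization.AtPrime r)) '' (G : Set C)) := by
      intro c
      have hc : c ∈ Submodule.span B (G : Set C) := hG ▸ Submodule.mem_top
      induction hc using Submodule.span_induction with
      | mem x hx => exact Submodule.subset_span ⟨x, hx, rfl⟩
      | zero => simp
      | add x y _ _ hx hy => rw [map_add]; exact add_mem hx hy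
      | smul b x _ hx =>
        have : algebraMap C (Localization.AtPrime r) (b • x) =
            (algebraMap B (Localization.AtPrime n) b) • algebraMap C (Localization.AtPrime r) x := by
          rw [Algebra.smul_def, Algebra.smul_def, map_mul, RingHom.algebraMap_toAlgebra, hφmap]
        rw [this]
        exact Submodule.smul_mem _ _ hx
    have hfin : (⊤ : Submodule (Localization.AtPrime n) (Localization.AtPrime r)).FG := by
      refine ⟨G.image (algebraMap C (Localization.AtPrime r)), ?_⟩
      rw [eq_top_iff]
      intro y _
      obtain ⟨c₁, c, rfl⟩ := IsLocalization.exists_mk'_eq r.primeCompl y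
      obtain ⟨c', s, hsn, hs⟩ := hdiv c.1 c.2
      have hy : IsLocalization.mk' (Localization.AtPrime r) c₁ c =
          (IsLocalization.mk' (Localization.AtPrime n) (1 : B) (⟨s, hsn⟩ : n.primeCompl)) •
            algebraMap C (Localization.AtPrime r) (c₁ * c') := by
        rw [Algebra.smul_def, RingHom.algebraMap_toAlgebra, hφ, Localization.localRingHom_mk',
          IsLocalization.mk'_eq_iff_eq_mul]
        have h1 : IsLocalization.mk' (Localization.AtPrime r) (B.val.toRingHom 1)
            (⟨B.val.toRingHom s, hsn⟩ : r.primeCompl) * algebraMap C (Localization.AtPrime r) (algebraMap B C s) =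
            1 := by
          have := IsLocalization.mk'_spec (Localization.AtPrime r) (B.val.toRingHom 1)
            (⟨B.val.toRingHom s, hsn⟩ : r.primeCompl)
          rw [map_one, map_one] at this
          rw [map_one]
          exact this
        have h2 : algebraMap C (Localization.AtPrime r) (c₁ * c') *
            algebraMap C (Localization.AtPrime r) c =
            algebraMap C (Localization.AtPrime r) c₁ *
              algebraMap C (Localization.AtPrime r) (algebraMap B C s) := by
          rw [← map_mul, ← map_mul, ← hs]
          ring_nf
        rw [mul_assoc, h2, mul_left_comm, h1, mul_one]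
      rw [hy, Finset.coe_image]
      exact Submodule.smul_mem _ _ (hspan _)
    have hintAC : Algebra.IsIntegral A C := inferInstance
    have hrA : r.comap (algebraMap A C) = IsLocalRing.maximalIdeal A := by
      have : (r.comap (algebraMap A C)).IsMaximal :=
        Ideal.isMaximal_comap_of_isIntegral_of_isMaximal r
      exact IsLocalRing.eq_maximalIdeal this
    have hAn : ∀ a₀ ∈ IsLocalRing.maximalIdeal A,
        algebraMap B (Localization.AtPrime n) (algebraMap A B a₀) ∈
          IsLocalRing.maximalIdeal (Localization.AtPrime n) := by
      intro a₀ ha₀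
      rw [IsLocalization.AtPrime.to_map_mem_maximal_iff (Localization.AtPrime n) n]
      have : algebraMap A C a₀ ∈ r := by
        rw [← hrA] at ha₀
        exact ha₀
      exact this
    have hAr : ∀ a₀ : A, algebraMap A (Localization.AtPrime r) a₀ =
        algebraMap (Localization.AtPrime n) (Localization.AtPrime r)
          (algebraMap B (Localization.AtPrime n) (algebraMap A B a₀)) := by
      intro a₀
      rw [RingHom.algebraMap_toAlgebra, hφmap, IsScalarTower.algebraMap_apply A C
        (Localization.AtPrime r)]
      rfl
    let N : Submodule (Localization.AtPrime n) (Localization.AtPrime r) :=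
      LinearMap.range (Algebra.linearMap (Localization.AtPrime n) (Localization.AtPrime r))
    have hN : (⊤ : Submodule (Localization.AtPrime n) (Localization.AtPrime r)) ≤ N := by
      apply Submodule.le_of_le_smul_of_le_jacobson_bot hfin
        (I := IsLocalRing.maximalIdeal (Localization.AtPrime n))
        (by rw [IsLocalRing.jacobson_eq_maximalIdeal _ bot_ne_top])
      intro y _
      have hy : y ∈ (Subalgebra.toSubmodule
          (Algebra.adjoin A {algebraMap C (Localization.AtPrime r) u}) ⊔
          Submodule.restrictScalars A (Ideal.map (algebraMap A (Localization.AtPrime r))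
            (IsLocalRing.maximalIdeal A))) := hu₃ ▸ Submodule.mem_top
      obtain ⟨a, ha, z, hz, rfl⟩ := Submodule.mem_sup.mp hy
      refine Submodule.add_mem_sup ?_ ?_
      · have ha' : a ∈ Algebra.adjoin A {algebraMap C (Localization.AtPrime r) u} := ha
        have himg : ({algebraMap C (Localization.AtPrime r) u} : Set (Localization.AtPrime r)) =
            (IsScalarTower.toAlgHom A C (Localization.AtPrime r)) '' {u} := by
          rw [Set.image_singleton]
          rfl
        rw [himg, ← AlgHom.map_adjoin] at ha'
        obtain ⟨b, hb, rfl⟩ := ha'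
        refine ⟨algebraMap B (Localization.AtPrime n) ⟨b, hb⟩, ?_⟩
        rw [Algebra.linearMap_apply, RingHom.algebraMap_toAlgebra, hφmap]
        rfl
      · have hz' : z ∈ Ideal.map (algebraMap A (Localization.AtPrime r))
            (IsLocalRing.maximalIdeal A) := hz
        rw [Ideal.smul_top_eq_map, Submodule.restrictScalars_mem]
        have hle : Ideal.map (algebraMap A (Localization.AtPrime r))
            (IsLocalRing.maximalIdeal A) ≤
            Ideal.map (algebraMap (Localization.AtPrime n) (Localization.AtPrime r))
              (IsLocalRing.maximalIdeal (Localization.AtPrime n)) := by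
          rw [Ideal.map_le_iff_le_comap]
          intro a₀ ha₀
          rw [Ideal.mem_comap, hAr]
          exact Ideal.mem_map_of_mem _ (hAn a₀ ha₀)
        exact hle hz'
    intro y
    obtain ⟨x, hx⟩ := hN (Submodule.mem_top : y ∈ ⊤)
    exact ⟨x, hx⟩

end Groth.Agent.S5076
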