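import Groth.Statements.S5078
import Mathlib.RingTheory.Finiteness.Projective
import Mathlib.RingTheory.AdicCompletion.Functoriality

set_option autoImplicit false
universe u v
open Hensel

namespace Groth.Agent.S5078

/-- Membership in `I ^ k • ⊤` of a finite power of a ring is coordinatewise. -/
theorem mem_pow_smul_top_pi_iff {A : Type u} [CommRing A] (J : Ideal A) (n : ℕ)
    (f : Fin n → A) :
    f ∈ (J • (⊤ : Submodule A (Fin n → A))) ↔ ∀ i, f i ∈ J := by
  constructor
  · intro hf i
    refine Submodule.smul_induction_on hf ?_ ?_
    · intro r hr g _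
      simpa using J.mul_mem_right (g i) hr
    · intro x y hx hy
      simpa using J.add_mem hx hy
  · intro hf
    have : f = ∑ i, f i • (Pi.single i (1 : A) : Fin n → A) := by
      ext j
      simp [Finset.sum_apply, Pi.single_apply]
    rw [this]
    exact Submodule.sum_mem _ fun i _ => Submodule.smul_mem_smul (hf i) Submodule.mem_top

theorem isAdicComplete_pi_fin {A : Type u} [CommRing A] (I : Ideal A) [IsAdicComplete I A]
    (n : ℕ) : IsAdicComplete I (Fin n → A) := by
  refine { haus' := ?_, prec' := ?_ }
  · intro f hf
    ext i
    refine IsHausdorff.haus' (I := I) (f i) fun k => ?_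
    have := hf k
    rw [SModEq.zero, mem_pow_smul_top_pi_iff] at this
    rw [SModEq.zero]
    simpa using this i
  · intro f hf
    have key : ∀ i : Fin n, ∃ L : A, ∀ k, (f k i) ≡ L [SMOD (I ^ k • ⊤ : Submodule A A)] := by
      intro i
      refine IsPrecomplete.prec' (I := I) (fun k => f k i) ?_
      intro m k hmk
      have := hf hmk
      rw [SModEq.sub_mem, mem_pow_smul_top_pi_iff] at this
      rw [SModEq.sub_mem]
      simpa using this i
    choose L hL using key
    refine ⟨L, fun k => ?_⟩
    rw [SModEq.sub_mem, mem_pow_smul_top_pi_iff]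
    intro i
    have := hL i k
    rw [SModEq.sub_mem] at this
    simpa using this

theorem isAdicComplete_of_retract {A : Type u} [CommRing A] (I : Ideal A)
    {M : Type v} [AddCommGroup M] [Module A M] {N : Type*} [AddCommGroup N] [Module A N]
    [IsAdicComplete I N] (g : M →ₗ[A] N) (p : N →ₗ[A] M) (h : p ∘ₗ g = LinearMap.id) :
    IsAdicComplete I M := by
  have hpg : ∀ x, p (g x) = x := fun x => by
    have := LinearMap.congr_fun h x
    simpa using this
  have hg : ∀ (k : ℕ) (x : M), x ∈ (I ^ k • ⊤ : Submodule A M) →
      g x ∈ (I ^ k • ⊤ : Submodule A N) := by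
    intro k x hx
    have : (I ^ k • ⊤ : Submodule A M).map g ≤ I ^ k • ⊤ := by
      rw [Submodule.map_smul'']
      exact Submodule.smul_mono le_rfl le_top
    exact this (Submodule.mem_map_of_mem hx)
  have hp : ∀ (k : ℕ) (x : N), x ∈ (I ^ k • ⊤ : Submodule A N) →
      p x ∈ (I ^ k • ⊤ : Submodule A M) := by
    intro k x hx
    have : (I ^ k • ⊤ : Submodule A N).map p ≤ I ^ k • ⊤ := by
      rw [Submodule.map_smul'']
      exact Submodule.smul_mono le_rfl le_top
    exact this (Submodule.mem_map_of_mem hx)
  refine { haus' := ?_, prec' := ?_ }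
  · intro x hx
    have : g x = 0 := by
      refine IsHausdorff.haus' (I := I) (g x) fun k => ?_
      rw [SModEq.zero]
      exact hg k x (by simpa [SModEq.zero] using hx k)
    rw [← hpg x, this, map_zero]
  · intro f hf
    obtain ⟨L, hL⟩ := IsPrecomplete.prec' (I := I) (fun k => g (f k)) (by
      intro m k hmk
      rw [SModEq.sub_mem, ← map_sub]
      exact hg m _ (by simpa [SModEq.sub_mem] using hf hmk))
    refine ⟨p L, fun k => ?_⟩
    rw [SModEq.sub_mem]
    have := hp k _ (by simpa [SModEq.sub_mem] using hL k)
    simpa [map_sub, hpg] using this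

/-- Let A be a ring, I an ideal such that A is I-adically separated and complete, and M a finitely
generated projective A-module. Then M is I-adically separated and complete. -/
theorem result {A : Type u} [CommRing A] (I : Ideal A) [IsAdicComplete I A]
    (M : Type v) [AddCommGroup M] [Module A M] [Module.Finite A M] [Module.Projective A M] :
    IsAdicComplete I M := by
  obtain ⟨n, f, g, -, -, hfg⟩ := Module.Finite.exists_comp_eq_id_of_projective A M
  have := isAdicComplete_pi_fin I n
  exact isAdicComplete_of_retract I g f hfg

end Groth.Agent.S5078
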