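import Groth.Statements.S5079
import Groth.Agent.Lib.Helper2.PuncturedSections
import Groth.Agent.Lib.Helper29.ReducedTotalFrac

set_option autoImplicit false
open CategoryTheory AlgebraicGeometry Opposite
universe u
open Unram

namespace Groth.Agent.S5079

/-- Let A be a reduced Noetherian local ring, A' the integral closure of A in its total ring of
fractions and U the punctured spectrum of A. Assume that for every maximal ideal m' of A' lying over
the maximal ideal of A the local ring A'_{m'} has dimension at least 2. Then, writing ρ for the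
restriction map A = Γ(Spec A, O) → Γ(U, O), the ring Γ(U, O) is integral over A via ρ and there is
an injective ring homomorphism Γ(U, O) → A' compatible with ρ and the inclusion of A in A'. -/
theorem result (A : Type u) [CommRing A] [IsNoetherianRing A]
    [IsLocalRing A] [IsReduced A]
    (hdim : ∀ (m' : Ideal ↥(integralClosure A (FractionRing A))) [m'.IsMaximal],
      m'.comap (algebraMap A ↥(integralClosure A (FractionRing A))) = IsLocalRing.maximalIdeal A →
        2 ≤ ringKrullDim (Localization.AtPrime m')) :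
    (((Spec (CommRingCat.of A)).presheaf.map (homOfLE (le_top : FEt.puncturedSpec A ≤ ⊤)).op).hom.comp
        (Scheme.ΓSpecIso (CommRingCat.of A)).inv.hom).IsIntegral ∧
      ∃ φ : ↑((Spec (CommRingCat.of A)).presheaf.obj (op (FEt.puncturedSpec A))) →+* ↥(integralClosure A (FractionRing A)),
        Function.Injective φ ∧
          φ.comp (((Spec (CommRingCat.of A)).presheaf.map (homOfLE (le_top : FEt.puncturedSpec A ≤ ⊤)).op).hom.comp
            (Scheme.ΓSpecIso (CommRingCat.of A)).inv.hom) = algebraMap A ↥(integralClosure A (FractionRing A)) := by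
  classical
  let X : Scheme.{u} := Spec (CommRingCat.of A)
  let U : X.Opens := FEt.puncturedSpec A
  let e : A ≃+* Γ(X, ⊤) := (Scheme.ΓSpecIso (CommRingCat.of A)).symm.commRingCatIsoToRingEquiv
  have he : ∀ a : A, e a = (Scheme.ΓSpecIso (CommRingCat.of A)).inv a := fun _ => rfl
  set ρ : A →+* Γ(X, U) := ((Spec (CommRingCat.of A)).presheaf.map
    (homOfLE (le_top : FEt.puncturedSpec A ≤ ⊤)).op).hom.comp
      (Scheme.ΓSpecIso (CommRingCat.of A)).inv.hom with hρ
  have hρ_apply : ∀ a, ρ a = Groth.Agent.Lib.Helper2.res (le_top : U ≤ ⊤) (e a) := fun _ => rfl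
  -- basic opens of elements of the maximal ideal lie in the punctured spectrum
  have hmem : ∀ g : A, g ∈ IsLocalRing.maximalIdeal A → X.basicOpen (e g) ≤ U := by
    intro g hg
    rw [he, basicOpen_eq_of_affine]
    intro p hp
    change p ∈ ({IsLocalRing.closedPoint A}ᶜ : Set (PrimeSpectrum A))
    intro hcon
    have h1 : p.asIdeal = IsLocalRing.maximalIdeal A :=
      congrArg PrimeSpectrum.asIdeal (Set.mem_singleton_iff.mp hcon)
    exact hp (h1 ▸ hg)
  have hreg : ∀ g : A, g ∈ nonZeroDivisors A → IsSMulRegular Γ(X, ⊤) (e g) := by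
    intro g hg
    apply Groth.Agent.Lib.Helper2.isSMulRegular_ringEquiv e
    intro z z' h
    simp only [smul_eq_mul] at h
    exact (mem_nonZeroDivisors_iff_left.mp hg) |> fun H => by
      have h0 : g * (z - z') = 0 := by rw [mul_sub, h, sub_self]
      exact sub_eq_zero.mp (H _ h0)
  have hfrac : ∀ g : A, g ∈ IsLocalRing.maximalIdeal A → g ∈ nonZeroDivisors A →
      ∀ t : Γ(X, U), ∃ (n : ℕ) (a : A), t * ρ g ^ n = ρ a := by
    intro g hgm hgn t
    have hgU := hmem g hgm
    obtain ⟨n, a', ha'⟩ := Groth.Agent.Lib.Helper2.exists_res_eq_mul_pow (isAffineOpen_top X) (e g)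
      (Groth.Agent.Lib.Helper2.res hgU t)
    refine ⟨n, e.symm a', ?_⟩
    have hz : Groth.Agent.Lib.Helper2.res hgU (t * ρ g ^ n - ρ (e.symm a')) = 0 := by
      rw [map_sub, map_mul, map_pow, hρ_apply, hρ_apply, e.apply_symm_apply,
        Groth.Agent.Lib.Helper2.res_res, Groth.Agent.Lib.Helper2.res_res, ha', sub_self]
    exact sub_eq_zero.mp (Groth.Agent.Lib.Helper2.eq_zero_of_res_basicOpen_eq_zero U (e g) hgU
      (hreg g hgn) _ hz)
  have hnzd : ∀ g : A, g ∈ IsLocalRing.maximalIdeal A → g ∈ nonZeroDivisors A →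
      ∀ (t : Γ(X, U)) (n : ℕ), t * ρ g ^ n = 0 → t = 0 := by
    intro g hgm hgn t n h
    have hgU := hmem g hgm
    apply Groth.Agent.Lib.Helper2.eq_zero_of_res_basicOpen_eq_zero U (e g) hgU (hreg g hgn)
    have h1 := congrArg (Groth.Agent.Lib.Helper2.res hgU) h
    rw [map_mul, map_pow, hρ_apply, Groth.Agent.Lib.Helper2.res_res, map_zero] at h1
    have hu : IsUnit (Groth.Agent.Lib.Helper2.res (X.basicOpen_le (e g)) (e g) ^ n) :=
      (Groth.Agent.Lib.Helper2.isUnit_res_basicOpen (e g)).pow n
    exact hu.mul_left_eq_zero.mp h1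
  -- a nonzerodivisor in the maximal ideal
  have hm := Groth.Agent.Lib.Helper29.RedFrac.maximalIdeal_notMem_minimalPrimes hdim
  obtain ⟨q0, hq0⟩ := Ideal.nonempty_minimalPrimes (bot_ne_top : (⊥ : Ideal A) ≠ ⊤)
  have hq0p : q0.IsPrime := hq0.1.1
  obtain ⟨x, hxm, -, hxn⟩ := Groth.Agent.Lib.Helper29.RedFrac.exists_mem_maximalIdeal_notMem hm q0
    (fun h => hm (h ▸ hq0))
  have hxU := hmem x hxm
  have hloc : IsLocalization.Away (e x) Γ(X, X.basicOpen (e x)) :=
    (isAffineOpen_top X).isLocalization_basicOpen (e x)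
  let g₀ : Γ(X, ⊤) →+* FractionRing A := (algebraMap A (FractionRing A)).comp e.symm.toRingHom
  have hg₀ : IsUnit (g₀ (e x)) := by
    change IsUnit (algebraMap A (FractionRing A) (e.symm (e x)))
    rw [e.symm_apply_apply]
    exact IsLocalization.map_units (FractionRing A) ⟨x, hxn⟩
  let ψ₀ : Γ(X, X.basicOpen (e x)) →+* FractionRing A := IsLocalization.Away.lift (e x) hg₀
  let ψ : Γ(X, U) →+* FractionRing A := ψ₀.comp (Groth.Agent.Lib.Helper2.res hxU)
  have hψρ : ∀ a : A, ψ (ρ a) = algebraMap A (FractionRing A) a := by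
    intro a
    change ψ₀ (Groth.Agent.Lib.Helper2.res hxU (Groth.Agent.Lib.Helper2.res le_top (e a))) = _
    rw [Groth.Agent.Lib.Helper2.res_res]
    have h1 : ψ₀ (algebraMap Γ(X, ⊤) Γ(X, X.basicOpen (e x)) (e a)) = g₀ (e a) :=
      IsLocalization.Away.lift_eq (e x) hg₀ (e a)
    rw [Groth.Agent.Lib.Helper2.algebraMap_basicOpen_eq] at h1
    rw [h1]
    change algebraMap A (FractionRing A) (e.symm (e a)) = _
    rw [e.symm_apply_apply]
  have hψinj : Function.Injective ψ := by
    rw [injective_iff_map_eq_zero]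
    intro t ht
    obtain ⟨n, a, hna⟩ := hfrac x hxm hxn t
    have h1 := congrArg ψ hna
    rw [map_mul, ht, zero_mul, hψρ] at h1
    have ha : a = 0 := IsFractionRing.injective A (FractionRing A) (by rw [← h1, map_zero])
    rw [ha, map_zero] at hna
    exact hnzd x hxm hxn t n hna
  have hint : ∀ t : Γ(X, U), IsIntegral A (ψ t) := by
    intro t
    apply Groth.Agent.Lib.Helper29.RedFrac.isIntegral_of_punctured hdim
    intro g hgm hgn
    obtain ⟨n, a, hna⟩ := hfrac g hgm hgn t
    refine ⟨n, a, ?_⟩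
    have h1 := congrArg ψ hna
    rw [map_mul, map_pow, hψρ, hψρ] at h1
    exact h1
  have hcomp : ψ.comp ρ = algebraMap A (FractionRing A) := RingHom.ext hψρ
  refine ⟨?_, ?_⟩
  · intro t
    obtain ⟨P, hPm, hP⟩ := hint t
    refine ⟨P, hPm, ?_⟩
    apply hψinj
    rw [map_zero, Polynomial.hom_eval₂, hcomp]
    exact hP
  · refine ⟨ψ.codRestrict (integralClosure A (FractionRing A)) hint, ?_, ?_⟩
    · intro t t' h
      apply hψinj
      exact congrArg Subtype.val h
    · ext a
      exact hψρ a

end Groth.Agent.S5079
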