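import Groth.Statements.S5080
import Mathlib
import Groth.Agent.Lib.Helper75.CompletedModules
import Groth.Agent.Lib.Helper75.LocalGenerators

set_option autoImplicit false
universe u
open EGA418

namespace Groth.Agent.S5080

/-- the completed differentials are generated by the differentials of units -/
lemma span_units (k A : Type u) [Field k] [CommRing A]
    [IsLocalRing A] [IsNoetherianRing A] [Algebra k A] [IsAdicComplete (IsLocalRing.maximalIdeal A) A]
    [Module.Finite A (AdicCompletion (IsLocalRing.maximalIdeal A) (KaehlerDifferential k A))] :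
    Submodule.span A (Set.range fun u : Aˣ =>
      AdicCompletion.of (IsLocalRing.maximalIdeal A) (KaehlerDifferential k A)
        (KaehlerDifferential.D k A (u : A))) = ⊤ := by
  set I := IsLocalRing.maximalIdeal A
  have hIfg : I.FG := (isNoetherianRing_iff_ideal_fg A).mp inferInstance I
  set G := Submodule.span A (Set.range fun u : Aˣ =>
      AdicCompletion.of I (KaehlerDifferential k A) (KaehlerDifferential.D k A (u : A))) with hG
  have hD : ∀ b : A, AdicCompletion.of I (KaehlerDifferential k A) (KaehlerDifferential.D k A b) ∈ G := by
    intro b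
    by_cases hb : IsUnit b
    · obtain ⟨u, rfl⟩ := hb
      exact Submodule.subset_span ⟨u, rfl⟩
    · have hb' : b ∈ I := (IsLocalRing.mem_maximalIdeal b).mpr hb
      have h1 : IsUnit (1 + b) := by
        have := IsLocalRing.isUnit_one_sub_self_of_mem_nonunits (-b)
          (by simpa [mem_nonunits_iff] using hb)
        simpa [sub_neg_eq_add] using this
      obtain ⟨u, hu⟩ := h1
      have h2 : KaehlerDifferential.D k A b = KaehlerDifferential.D k A (u : A) := by
        rw [hu, map_add, Derivation.map_one_eq_zero, zero_add]
      rw [h2]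
      exact Submodule.subset_span ⟨u, rfl⟩
  have hof : ∀ ω : KaehlerDifferential k A, AdicCompletion.of I (KaehlerDifferential k A) ω ∈ G := by
    intro ω
    have hω : ω ∈ Submodule.span A (Set.range (KaehlerDifferential.D k A)) := by
      rw [KaehlerDifferential.span_range_derivation]; trivial
    induction hω using Submodule.span_induction with
    | mem x hx => obtain ⟨b, rfl⟩ := hx; exact hD b
    | zero => rw [map_zero]; exact G.zero_mem
    | add x y _ _ hx hy => rw [map_add]; exact G.add_mem hx hy
    | smul a x _ hx => rw [map_smul]; exact G.smul_mem a hx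
  rw [eq_top_iff]
  apply Submodule.le_of_le_smul_of_le_jacobson_bot (I := I) Module.Finite.fg_top
    (IsLocalRing.maximalIdeal_le_jacobson _)
  intro y _
  obtain ⟨ω, hω⟩ := Submodule.mkQ_surjective _ (AdicCompletion.eval I (KaehlerDifferential k A) 1 y)
  have h1 : y - AdicCompletion.of I (KaehlerDifferential k A) ω ∈
      (I ^ 1 • ⊤ : Submodule A (AdicCompletion I (KaehlerDifferential k A))) := by
    rw [AdicCompletion.pow_smul_top_eq_ker_eval hIfg, LinearMap.mem_ker, map_sub,
      AdicCompletion.eval_of, hω, sub_self]
  rw [pow_one] at h1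
  have h2 : y = AdicCompletion.of I (KaehlerDifferential k A) ω +
      (y - AdicCompletion.of I (KaehlerDifferential k A) ω) := by abel
  rw [h2]
  exact Submodule.add_mem_sup (hof ω) h1


/-- Let k be a field, A a complete Noetherian local k-algebra with maximal ideal m whose residue field
is a finite extension of k, p a prime ideal distinct from m, Ω̂ the completion of the module of
differentials of A over k, and M the least number of generators of the A_p-module Ω̂_p. Then for
every family x_1, …, x_M of elements of m not in p there are units u_1, …, u_M of A such that the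
images in Ω̂_p of the differentials d(u_i x_i) generate Ω̂_p. -/
theorem result (k A : Type u) [Field k] [CommRing A]
    [IsLocalRing A] [IsNoetherianRing A] [Algebra k A] [IsAdicComplete (IsLocalRing.maximalIdeal A) A]
    [Module.Finite k (IsLocalRing.ResidueField A)] (p : Ideal A) [p.IsPrime] (hp : p ≠ IsLocalRing.maximalIdeal A)
    (M : ℕ) (hgen : ∃ s : Fin M → (LocalizedModule p.primeCompl (AdicCompletion (IsLocalRing.maximalIdeal A) (KaehlerDifferential k A))), Submodule.span (Localization.AtPrime p) (Set.range s) = ⊤)
    (hmin : ∀ (s : Finset (LocalizedModule p.primeCompl (AdicCompletion (IsLocalRing.maximalIdeal A) (KaehlerDifferential k A)))), Submodule.span (Localization.AtPrime p) (↑s : Set (LocalizedModule p.primeCompl (AdicCompletion (IsLocalRing.maximalIdeal A) (KaehlerDifferential k A)))) = ⊤ → M ≤ s.card)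
    (x : Fin M → A) (hx : ∀ i, x i ∈ IsLocalRing.maximalIdeal A ∧ x i ∉ p) :
    ∃ u : Fin M → Aˣ, Submodule.span (Localization.AtPrime p)
      (Set.range (fun i => LocalizedModule.mkLinearMap p.primeCompl (AdicCompletion (IsLocalRing.maximalIdeal A) (KaehlerDifferential k A)) (AdicCompletion.of (IsLocalRing.maximalIdeal A) (KaehlerDifferential k A) (KaehlerDifferential.D k A ((u i : A) * x i))))) = ⊤ := by
  have hmfg : (IsLocalRing.maximalIdeal A).FG :=
    (isNoetherianRing_iff_ideal_fg A).mp inferInstance _
  have hK : Module.Finite (IsLocalRing.ResidueField A) (Ω[IsLocalRing.ResidueField A⁄k]) :=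
    inferInstance
  have hq : Module.Finite A ((Ω[A⁄k]) ⧸
      (IsLocalRing.maximalIdeal A • ⊤ : Submodule A (Ω[A⁄k]))) :=
    Groth.Agent.Lib.Helper75.CompletedModules.finite_quot_kaehler k A hmfg
  have hN : Module.Finite A (AdicCompletion (IsLocalRing.maximalIdeal A) (Ω[A⁄k])) :=
    Groth.Agent.Lib.Helper75.CompletedModules.finite_adicCompletion_of_finite_quot
      (IsLocalRing.maximalIdeal A) (Ω[A⁄k])
  set Ωh := AdicCompletion (IsLocalRing.maximalIdeal A) (KaehlerDifferential k A) with hΩh
  set ι := LocalizedModule.mkLinearMap p.primeCompl Ωh with hι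
  let δ : A → LocalizedModule p.primeCompl Ωh := fun a =>
    ι (AdicCompletion.of (IsLocalRing.maximalIdeal A) (KaehlerDifferential k A) (KaehlerDifferential.D k A a))
  have hδmul : ∀ a b : A, δ (a * b) = a • δ b + b • δ a := by
    intro a b
    simp only [δ]
    rw [Derivation.leibniz, map_add, map_add, map_smul, map_smul, map_smul, map_smul]
  have hA := Groth.Agent.S5080.span_units k A
  have hB : Submodule.span (Localization.AtPrime p) (Set.range fun u : Aˣ => δ (u : A)) = ⊤ := by
    have := span_eq_top_of_isLocalizedModule (Localization.AtPrime p) p.primeCompl ι hA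
    rw [← Set.range_comp] at this
    exact this
  have hS : ∀ i, Submodule.span (Localization.AtPrime p)
      (Set.range fun u : Aˣ => δ ((u : A) * x i)) = ⊤ := by
    intro i
    set W := Submodule.span (Localization.AtPrime p)
      (Set.range fun u : Aˣ => δ ((u : A) * x i)) with hW
    have hAW : ∀ (a : A) (w : LocalizedModule p.primeCompl Ωh), w ∈ W → a • w ∈ W := by
      intro a w hw
      rw [← algebraMap_smul (Localization.AtPrime p) a w]
      exact W.smul_mem _ hw
    have h1 : δ (x i) ∈ W := by
      apply Submodule.subset_span
      exact ⟨1, by simp⟩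
    have h2 : ∀ u : Aˣ, δ (u : A) ∈ W := by
      intro u
      have h3 : δ ((u : A) * x i) ∈ W := Submodule.subset_span ⟨u, rfl⟩
      rw [hδmul] at h3
      have h4 : x i • δ (u : A) ∈ W := by
        have := W.sub_mem h3 (hAW (u : A) _ h1)
        simpa using this
      rw [← algebraMap_smul (Localization.AtPrime p) (x i) (δ (u : A))] at h4
      have hu : IsUnit (algebraMap A (Localization.AtPrime p) (x i)) :=
        IsLocalization.map_units (Localization.AtPrime p) (⟨x i, (hx i).2⟩ : p.primeCompl)
      exact (Submodule.smul_mem_iff_of_isUnit W hu).mp h4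
    rw [eq_top_iff, ← hB]
    apply Submodule.span_le.mpr
    rintro _ ⟨u, rfl⟩
    exact h2 u
  obtain ⟨v, hvS, hv⟩ :=
    Groth.Agent.Lib.Helper75.LocalGenerators.exists_span_eq_top_of_forall_span_eq_top
      (R := Localization.AtPrime p) (L := LocalizedModule p.primeCompl Ωh) M hgen hmin
      (fun i => Set.range fun u : Aˣ => δ ((u : A) * x i)) hS
  choose u hu using hvS
  refine ⟨u, ?_⟩
  have : (fun i => δ ((u i : A) * x i)) = v := funext hu
  change Submodule.span (Localization.AtPrime p) (Set.range (fun i => δ ((u i : A) * x i))) = ⊤
  rw [this, hv]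

end Groth.Agent.S5080
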