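import Groth.Statements.S5082
import Groth.Agent.Lib.Helper20.MeroDiv
import Groth.Agent.Lib.Helper29.Depth
import Mathlib.AlgebraicGeometry.Stalk

set_option autoImplicit false
universe u
open CategoryTheory CategoryTheory.Limits AlgebraicGeometry TopologicalSpace
open Mero

namespace Groth.Agent.S5082

open Groth.Agent.Lib.Helper20.MeroDiv Groth.Agent.Lib.Helper29 Groth.Agent.Lib.Helper45 IsLocalRing

/-- In a Noetherian local ring of depth zero every nonzerodivisor is a unit. -/
lemma isUnit_of_mem_nonZeroDivisors_of_depth_zero (O : Type u) [CommRing O] [IsLocalRing O]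
    [IsNoetherianRing O] (h0 : LocCoh.depth O O = 0) (a : O) (ha : a ∈ nonZeroDivisors O) :
    IsUnit a := by
  by_contra hu
  have hm : a ∈ maximalIdeal O := (mem_maximalIdeal a).mpr hu
  rw [depth_eq_zero_iff, ← forall_not_isSMulRegular_iff_mem_associatedPrimes] at h0
  exact h0 a hm (isRegular_iff_mem_nonZeroDivisors.mpr ha).left.isSMulRegular

/-- Let A be a Noetherian local ring. Then the group of divisors of Spec A is trivial (every divisor
equals the unit divisor, divisors being written multiplicatively) if and only if A has depth 0, that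
is, if and only if every element of the maximal ideal of A is a zero-divisor. -/
theorem result (A : Type u) [CommRing A] [IsNoetherianRing A] [IsLocalRing A] :
    (∀ D : Mero.Divisor (Spec (CommRingCat.of A)), D = 1) ↔ LocCoh.depth A A = 0 := by
  set R : CommRingCat.{u} := CommRingCat.of A with hR
  have : IsLocalRing R := ‹IsLocalRing A›
  set X : Scheme.{u} := Spec R with hX
  set m : X := closedPoint R with hm
  let e : X.presheaf.stalk m ≃+* A := (stalkClosedPointIso R).commRingCatIsoToRingEquiv
  have : IsNoetherianRing (X.presheaf.stalk m) := isNoetherianRing_of_ringEquiv A e.symm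
  have hdepth : LocCoh.depth (X.presheaf.stalk m) (X.presheaf.stalk m) = LocCoh.depth A A :=
    depth_self_eq_of_ringEquiv e
  have hgerm : ∀ t : Γ(X, ⊤), e (X.presheaf.germ ⊤ m trivial t) = (Scheme.ΓSpecIso R).hom t := by
    intro t
    have := germ_stalkClosedPointIso_hom R
    exact congrArg (fun φ => φ.hom t) this
  constructor
  · intro H
    by_contra hne
    -- a regular element of the maximal ideal
    have : ¬ (∀ x ∈ maximalIdeal A, ¬ IsSMulRegular A x) := by
      rw [forall_not_isSMulRegular_iff_mem_associatedPrimes, ← depth_eq_zero_iff]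
      exact hne
    push Not at this
    obtain ⟨t, htm, htreg⟩ := this
    set t' : Γ(X, ⊤) := (Scheme.ΓSpecIso R).inv t with ht'
    have ht'A : (Scheme.ΓSpecIso R).hom t' = t := by
      rw [ht']
      exact congrArg (fun φ => φ.hom t) (Scheme.ΓSpecIso R).inv_hom_id
    have ht'reg : t' ∈ regSub X ⊤ := by
      rw [Groth.Agent.S12513.result X ⊤ (isAffineOpen_top X), mem_nonZeroDivisors_iff_right]
      intro s hs
      have h1 : t * (Scheme.ΓSpecIso R).hom s = 0 := by
        rw [← ht'A, ← map_mul, mul_comm, hs, map_zero]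
      have h2 : (Scheme.ΓSpecIso R).hom s = 0 := htreg (by simpa using h1)
      have h3 := congrArg (Scheme.ΓSpecIso R).inv h2
      rw [map_zero] at h3
      rw [← h3]
      exact (congrArg (fun φ => φ.hom s) (Scheme.ΓSpecIso R).hom_inv_id).symm
    have hunit := isUnit_toK_of_mem_regSub ⊤ t' ht'reg
    have hD := H (Mero.div hunit.unit)
    have hDm : (Mero.div hunit.unit).1 m = 1 := by rw [hD]; rfl
    obtain ⟨u, hu⟩ := (quot_eq_one_iff (regStalk X m) _).mp hDm
    have hval : ((Units.map (evalK X ⊤ ⟨m, Opens.mem_top m⟩).toMonoidHom hunit.unit :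
        (KStalk X m)ˣ) : KStalk X m) =
        algebraMap (X.presheaf.stalk m) (KStalk X m) (X.presheaf.germ ⊤ m trivial t') := by
      change (toK X ⊤ t').1 ⟨m, _⟩ = _
      rw [toK_apply, mk_eq_mk', IsLocalization.mk'_one]
    rw [hval] at hu
    have hu' := algebraMap_KStalk_injective m hu
    have hunit' : IsUnit (X.presheaf.germ ⊤ m trivial t') := by
      rw [← hu']; exact u.isUnit
    have hut : IsUnit t := by
      rw [← ht'A, ← hgerm]
      exact hunit'.map e
    exact (mem_maximalIdeal t).mp htm hut
  · intro h0 D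
    apply Subtype.ext
    funext y
    change D.1 y = 1
    obtain ⟨V, hV, hmV, a, b, h⟩ := exists_localFrac D m
    have hy : y ∈ V := (IsLocalRing.specializes_closedPoint y).mem_open V.isOpen hmV
    have hO0 : LocCoh.depth (X.presheaf.stalk m) (X.presheaf.stalk m) = 0 := by rw [hdepth, h0]
    have hau := isUnit_of_mem_nonZeroDivisors_of_depth_zero _ hO0 _ (h.germ_a_mem hmV)
    have hbu := isUnit_of_mem_nonZeroDivisors_of_depth_zero _ hO0 _ (h.germ_b_mem hmV)
    have hma : m ∈ X.basicOpen a := (X.mem_basicOpen a m hmV).mpr hau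
    have hmb : m ∈ X.basicOpen b := (X.mem_basicOpen b m hmV).mpr hbu
    have hya : y ∈ X.basicOpen a :=
      (IsLocalRing.specializes_closedPoint y).mem_open (X.basicOpen a).isOpen hma
    have hyb : y ∈ X.basicOpen b :=
      (IsLocalRing.specializes_closedPoint y).mem_open (X.basicOpen b).isOpen hmb
    have hau' : IsUnit (X.presheaf.germ V y hy a) := (X.mem_basicOpen a y hy).mp hya
    have hbu' : IsUnit (X.presheaf.germ V y hy b) := (X.mem_basicOpen b y hy).mp hyb
    refine (h.eq_one_iff hy).mpr ⟨hbu'.unit⁻¹ * hau'.unit, ?_⟩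
    rw [Units.val_mul, ← mul_assoc, IsUnit.mul_val_inv, one_mul, IsUnit.unit_spec]


end Groth.Agent.S5082
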