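import Groth.Statements.S5083

set_option autoImplicit false
universe u
open CategoryTheory CategoryTheory.Limits AlgebraicGeometry TopologicalSpace
open Mero

namespace Groth.Agent.S5083

section
variable {X : Scheme.{u}}

/-- The restriction to `U` of a global section of `K_X`, as a family. -/
noncomputable abbrev resFam (c : Γ(Mero.kmod X, ⊤)) (U : X.Opens) : ∀ x : U, Mero.KStalk X x.1 :=
  fun x => c.1 ⟨x.1, Opens.mem_top x.1⟩

theorem resFam_pred (c : Γ(Mero.kmod X, ⊤)) (U : X.Opens) : (Mero.kLoc X).pred (resFam c U) :=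
  (Mero.kLoc X).res (homOfLE (le_top : U ≤ ⊤)) c.1 c.2

/-- Multiplication by a global meromorphic function mapping `O_X(D)` into `O_X(D')`. -/
noncomputable def mulHom (D D' : Mero.Divisor X) (c : Γ(Mero.kmod X, ⊤))
    (hc : ∀ (x : X) (t : Mero.KStalk X x), Mero.DivCond D x t →
      Mero.DivCond D' x (t * c.1 ⟨x, Opens.mem_top x⟩)) :
    Mero.divMod D ⟶ Mero.divMod D' :=
  ⟨PresheafOfModules.homMk (M₁ := (Mero.divMod D).val) (M₂ := (Mero.divMod D').val)
    { app := fun U => AddCommGrpCat.ofHom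
        { toFun := fun (s : Γ(Mero.divMod D, U.unop)) =>
            (⟨fun x => s.1 x * resFam c U.unop x,
              ⟨Mero.kLoc_mul X U.unop _ _ s.2.1 (resFam_pred c U.unop),
                fun x => hc x.1 _ (s.2.2 x)⟩⟩ : Γ(Mero.divMod D', U.unop))
          map_zero' := Subtype.ext (funext fun x => zero_mul _)
          map_add' := fun s s' => Subtype.ext (funext fun x => add_mul _ _ _) }
      naturality := by intros; rfl }
    (fun U r s => Subtype.ext (funext fun x => smul_mul_assoc _ _ _))⟩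

theorem mulHom_app_apply (D D' : Mero.Divisor X) (c : Γ(Mero.kmod X, ⊤)) (hc)
    (U : X.Opens) (s : Γ(Mero.divMod D, U)) (x : U) :
    ((mulHom D D' c hc).app U s).1 x = s.1 x * c.1 ⟨x.1, Opens.mem_top x.1⟩ := rfl

/-- The value at a point of a unit of `Γ(X, K_X)`, as a unit of `K_{X,x}`. -/
noncomputable abbrev uval (f : (Γ(Mero.kmod X, ⊤))ˣ) (x : X) : (Mero.KStalk X x)ˣ :=
  Units.map (Mero.evalK X ⊤ ⟨x, Opens.mem_top x⟩).toMonoidHom f

theorem divCond_mul (D D' : Mero.Divisor X) (f : (Γ(Mero.kmod X, ⊤))ˣ)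
    (h : ∀ x : X, D.1 x = D'.1 x * QuotientGroup.mk (uval f x))
    (x : X) (t : Mero.KStalk X x) (ht : Mero.DivCond D x t) :
    Mero.DivCond D' x (t * (f : Γ(Mero.kmod X, ⊤)).1 ⟨x, Opens.mem_top x⟩) := by
  intro g' hg'
  have h1 : D.1 x = QuotientGroup.mk (g' * uval f x) := by
    rw [h x, hg', QuotientGroup.mk_mul]
  have h2 := ht (g' * uval f x) h1
  have h3 : t * ((g' * uval f x : (Mero.KStalk X x)ˣ) : Mero.KStalk X x) =
      t * (f : Γ(Mero.kmod X, ⊤)).1 ⟨x, Opens.mem_top x⟩ * g' := by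
    rw [Units.val_mul]
    change t * ((g' : Mero.KStalk X x) * (f : Γ(Mero.kmod X, ⊤)).1 ⟨x, Opens.mem_top x⟩) = _
    ring
  rwa [h3] at h2

end

/-- Let X be a scheme and D, D' divisors on X (global sections of the sheaf of units of K_X modulo units
of O_X, written multiplicatively). If D and D' are linearly equivalent, i.e. D · D'⁻¹ is the divisor
of a unit of the ring of global sections of K_X, then the O_X-modules O_X(D) and O_X(D') are
isomorphic. (The published statement is an equivalence: O_X(D) and O_X(D') are isomorphic if and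
only if D and D' are linearly equivalent; this row states only that linearly equivalent divisors
have isomorphic modules.) -/
theorem result (X : Scheme.{u}) (D D' : Mero.Divisor X) (h : Mero.LinEquiv D D') :
    Nonempty (Mero.divMod D ≅ Mero.divMod D') := by
  obtain ⟨f, hf⟩ := h
  have h1 : ∀ x : X, D.1 x = D'.1 x * QuotientGroup.mk (uval f x) := by
    intro x
    have := congrArg (fun E : Mero.Divisor X => E.1 x) hf
    change D.1 x * (D'.1 x)⁻¹ = QuotientGroup.mk (uval f x) at this
    rw [← this, mul_comm (D'.1 x), inv_mul_cancel_right]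
  have h2 : ∀ x : X, D'.1 x = D.1 x * QuotientGroup.mk (uval f⁻¹ x) := by
    intro x
    rw [h1 x, mul_assoc, ← QuotientGroup.mk_mul]
    have : uval f x * uval f⁻¹ x = 1 := by
      rw [← map_mul, mul_inv_cancel, map_one]
    rw [this, QuotientGroup.mk_one]
    exact (mul_one (D'.1 x)).symm
  refine ⟨{ hom := mulHom D D' f (divCond_mul D D' f h1)
            inv := mulHom D' D (f⁻¹ : (Γ(Mero.kmod X, ⊤))ˣ) (divCond_mul D' D f⁻¹ h2)
            hom_inv_id := ?_
            inv_hom_id := ?_ }⟩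
  · apply Scheme.Modules.hom_ext
    intro U
    ext s
    apply Subtype.ext
    funext x
    change (s.1 x * (f : Γ(Mero.kmod X, ⊤)).1 ⟨x.1, Opens.mem_top x.1⟩) *
      ((f⁻¹ : (Γ(Mero.kmod X, ⊤))ˣ) : Γ(Mero.kmod X, ⊤)).1 ⟨x.1, Opens.mem_top x.1⟩ = s.1 x
    rw [mul_assoc, ← Mero.kmod_mul_apply, Units.mul_inv, Mero.kmod_one_apply, mul_one]
  · apply Scheme.Modules.hom_ext
    intro U
    ext s
    apply Subtype.ext
    funext x
    change (s.1 x * ((f⁻¹ : (Γ(Mero.kmod X, ⊤))ˣ) : Γ(Mero.kmod X, ⊤)).1 ⟨x.1, Opens.mem_top x.1⟩) *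
      (f : Γ(Mero.kmod X, ⊤)).1 ⟨x.1, Opens.mem_top x.1⟩ = s.1 x
    rw [mul_assoc, ← Mero.kmod_mul_apply, Units.inv_mul, Mero.kmod_one_apply, mul_one]

end Groth.Agent.S5083
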