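import Groth.Statements.S8889
import Groth.Agent.Lib.Helper45.WeakAssPoint
import Groth.Agent.Lib.Helper45.ModulesExact

set_option autoImplicit false
universe u
open CategoryTheory CategoryTheory.Limits AlgebraicGeometry TopologicalSpace
open SDiv

namespace Groth.Agent.S8889

open Groth.Agent.Lib.Helper45

variable {X : Scheme.{u}}

/-- A morphism of `O_X`-modules which is injective on sections is a monomorphism. -/
theorem mono_of_app_injective {F G : X.Modules} (φ : F ⟶ G)
    (h : ∀ U : X.Opens, Function.Injective (φ.app U)) : Mono φ := by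
  apply (Scheme.Modules.toPresheaf X).mono_of_mono_map
  have : ∀ U, Mono (((Scheme.Modules.toPresheaf X).map φ).app U) := by
    intro U
    rw [AddCommGrpCat.mono_iff_injective]
    exact h U.unop
  exact NatTrans.mono_of_mono_app _

/-- Injectivity on sections can be checked on affine opens. -/
theorem app_injective_of_affine {F G : X.Modules} (φ : F ⟶ G)
    (h : ∀ U : X.Opens, IsAffineOpen U → Function.Injective (φ.app U)) (V : X.Opens) :
    Function.Injective (φ.app V) := by
  rw [injective_iff_map_eq_zero]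
  intro s hs
  apply section_ext_germ
  intro x hx
  obtain ⟨_, ⟨W, hW : IsAffineOpen W, rfl⟩, hxW, hWV⟩ :=
    X.isBasis_affineOpens.exists_subset_of_mem_open hx V.2
  have hWV' : W ≤ V := hWV
  have h0 : F.presheaf.map (homOfLE hWV').op s = 0 := by
    apply h W hW
    have := congrArg (fun f => (ConcreteCategory.hom f) s)
      ((Scheme.Modules.Hom.mapPresheaf φ).naturality (homOfLE hWV').op)
    simp only [Scheme.Modules.mapPresheaf_app, ConcreteCategory.comp_apply] at this
    change φ.app W (F.presheaf.map (homOfLE hWV').op s) = _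
    rw [this, map_zero]
    change G.presheaf.map (homOfLE hWV').op (φ.app V s) = 0
    rw [hs, map_zero]
  rw [← TopCat.Presheaf.germ_res_apply F.presheaf (homOfLE hWV') x hxW s, h0, map_zero, map_zero]

/-- Let X be a scheme and φ : F ⟶ G a morphism of quasi-coherent O_X-modules. Assume that for every
point x of X either the stalk map F_x → G_x is injective or x is not a weakly associated point of F.
Then φ is injective. -/
theorem result (X : Scheme.{u}) {F G : X.Modules} (φ : F ⟶ G) (hF : Coh.IsQCoh F)
    (hG : Coh.IsQCoh G)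
    (h : ∀ x : ↥X, Function.Injective ((TopCat.Presheaf.stalkFunctor AddCommGrpCat.{u} x).map (Scheme.Modules.Hom.mapPresheaf φ)) ∨ ¬ Curv2.IsWeakAssPoint F x) :
    Mono φ := by
  have : F.IsQuasicoherent := hF
  apply mono_of_app_injective
  apply app_injective_of_affine
  intro U hU
  rw [injective_iff_map_eq_zero]
  intro m hm
  by_contra hm0
  -- the kernel of `φ_U` as an `R`-module
  let K : Submodule Γ(X, U) Γ(F, U) := LinearMap.ker (appₗ φ U)
  have hmK : m ∈ K := hm
  have hne : (⟨m, hmK⟩ : K) ≠ 0 := fun h0 => hm0 (congrArg Subtype.val h0)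
  obtain ⟨p, hp, -⟩ := exists_mem_weakAss_of_ne_zero (R := Γ(X, U)) hne
  have hpP : p.IsPrime := isPrime_of_mem_weakAss hp
  obtain ⟨k, hk⟩ := hp
  replace hk : p ∈ (annEl Γ(X, U) k).minimalPrimes := hk
  have hpM : p ∈ FlatCA.weakAss Γ(X, U) Γ(F, U) :=
    weakAss_subset_of_injective K.subtype K.injective_subtype ⟨k, hk⟩
  obtain ⟨x, hx⟩ := exists_primeIdealOf_eq hU ⟨p, hpP⟩
  have hxp : (hU.primeIdealOf x).asIdeal = p := congrArg PrimeSpectrum.asIdeal hx
  have hw : Curv2.IsWeakAssPoint F (x : X) := by
    rw [isWeakAssPoint_iff_of_isAffineOpen hU F x, hxp]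
    exact hpM
  have hinj := (h x).resolve_right (fun hn => hn hw)
  -- the germ of `k` vanishes
  have hgerm : F.presheaf.germ U x x.2 (k : Γ(F, U)) = 0 := by
    apply hinj
    refine (TopCat.Presheaf.stalkFunctor_map_germ_apply U (x : X) x.2
      (Scheme.Modules.Hom.mapPresheaf φ) (k : Γ(F, U))).trans ?_
    have hk0 : φ.app U (k : Γ(F, U)) = 0 := k.2
    refine Eq.trans ?_ (map_zero _).symm
    change G.presheaf.germ U x x.2 (φ.app U (k : Γ(F, U))) = 0
    rw [hk0, map_zero]
  let _ := stalkModuleSections F x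
  have hloc := isLocalizedModule_germₗ hU F x
  have h0 : germₗ F x (k : Γ(F, U)) = 0 := hgerm
  obtain ⟨s, hs⟩ := (IsLocalizedModule.eq_zero_iff (hU.primeIdealOf x).asIdeal.primeCompl
    (germₗ F x)).mp h0
  have hsp : (s : Γ(X, U)) ∈ p := by
    apply hk.1.2
    rw [mem_annEl]
    apply Subtype.ext
    exact hs
  exact s.2 (hxp ▸ hsp)

end Groth.Agent.S8889
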