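import Groth.Statements.S5084
import Groth.Agent.S8863
import Groth.Agent.S8889
import Groth.Agent.Lib.Helper29.Depth
import Groth.Agent.Lib.Helper45.AssStructure
import Groth.Agent.Lib.Helper45.ModulesExact
import Groth.Agent.Lib.Helper45.AssPoint

set_option autoImplicit false
universe u
open CategoryTheory CategoryTheory.Limits AlgebraicGeometry TopologicalSpace
open Mero

namespace Groth.Agent.S5084

open Groth.Agent.Lib.Helper45

/-- `F ⟶ K_X(F)` is a monomorphism iff at every point the germs of regular sections act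
injectively on the stalk of `F`. -/
theorem mono_toMer_iff {X : Scheme.{u}} (F : X.Modules) :
    Mono (Mero.toMer F) ↔
      ∀ (x : X) (b : X.presheaf.stalk x), b ∈ Mero.regStalk X x →
        ∀ d : F.presheaf.stalk x, b • d = 0 → d = 0 := by
  constructor
  · intro hmono x b hb d hbd
    obtain ⟨U', hxU', f, hf, rfl⟩ := hb
    obtain ⟨V', hxV', m, rfl⟩ := TopCat.Presheaf.exists_germ_eq F.presheaf d
    have hxW0 : x ∈ U' ⊓ V' := ⟨hxU', hxV'⟩
    let f0 : Γ(X, U' ⊓ V') := X.presheaf.map (homOfLE (inf_le_left : U' ⊓ V' ≤ U')).op f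
    let m0 : Γ(F, U' ⊓ V') := F.presheaf.map (homOfLE (inf_le_right : U' ⊓ V' ≤ V')).op m
    have h1 : F.presheaf.germ (U' ⊓ V') x hxW0 (f0 • m0) = F.presheaf.germ (U' ⊓ V') x hxW0 0 := by
      rw [Groth.Agent.Lib.Helper45.germ_smul, TopCat.Presheaf.germ_res_apply,
        TopCat.Presheaf.germ_res_apply, hbd]
      exact (map_zero _).symm
    obtain ⟨W, hxW, i₁, i₂, hW⟩ := TopCat.Presheaf.germ_eq F.presheaf x hxW0 hxW0 _ 0 h1
    have hW' : F.presheaf.map i₁.op (f0 • m0) = 0 := hW.trans (map_zero _)
    rw [Scheme.Modules.map_smul] at hW'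
    have hfW : X.presheaf.map i₁.op f0 ∈ Mero.regSub X W :=
      Mero.regSub_res i₁ (Mero.regSub_res _ hf)
    have hzero : (Mero.toMer F).app W (F.presheaf.map i₁.op m0) = 0 := by
      change Mero.toMerFun F W (F.presheaf.map i₁.op m0) = 0
      refine Subtype.ext (funext fun y => ?_)
      change LocalizedModule.mk (F.presheaf.germ W y.1 y.2 (F.presheaf.map i₁.op m0)) 1 = 0
      rw [← LocalizedModule.zero_mk 1, LocalizedModule.mk_eq]
      refine ⟨Mero.regGerm y ⟨_, hfW⟩, ?_⟩
      simp only [one_smul, smul_zero]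
      change X.presheaf.germ W y.1 y.2 (X.presheaf.map i₁.op f0) •
        F.presheaf.germ W y.1 y.2 (F.presheaf.map i₁.op m0) = 0
      rw [← Groth.Agent.Lib.Helper45.germ_smul, hW']
      exact map_zero _
    have hm0 : F.presheaf.map i₁.op m0 = 0 := by
      apply app_injective_of_mono (Mero.toMer F) W
      rw [hzero]
      exact (map_zero _).symm
    rw [← TopCat.Presheaf.germ_res_apply F.presheaf (homOfLE (inf_le_right : U' ⊓ V' ≤ V')) x hxW0,
      ← TopCat.Presheaf.germ_res_apply F.presheaf i₁ x hxW]
    change F.presheaf.germ W x hxW (F.presheaf.map i₁.op m0) = 0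
    rw [hm0]
    exact map_zero _
  · intro h
    apply Groth.Agent.S8889.mono_of_app_injective
    intro U
    rw [injective_iff_map_eq_zero]
    intro m hm
    apply section_ext_germ
    intro x hx
    rw [map_zero]
    have h1 : (Mero.toMerFun F U m).1 ⟨x, hx⟩ = 0 := by
      have : Mero.toMerFun F U m = 0 := hm
      rw [this]
      rfl
    rw [Mero.toMerFun_apply, ← LocalizedModule.zero_mk 1, LocalizedModule.mk_eq] at h1
    obtain ⟨c, hc⟩ := h1
    simp only [one_smul, smul_zero] at hc
    exact h x c.1 c.2 _ hc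

/-- Let X be a locally Noetherian scheme and F a quasi-coherent O_X-module. Then F is torsion-free — the
canonical map from F to its sheaf of meromorphic sections K_X(F), m ↦ m/1, is a monomorphism, i.e.
at every point no germ of a regular function kills a nonzero element of the stalk of F — if and only
if every associated point of F is an associated point of the structure sheaf (a point x such that
the maximal ideal of O_{X,x} is an associated prime of O_{X,x}). -/
theorem result (X : Scheme.{u}) [IsLocallyNoetherian X]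
    (F : X.Modules) (hF : Coh.IsQCoh F) :
    Mono (Mero.toMer F) ↔
      ∀ x : ↥X, Curv2.IsAssPoint F x →
        IsAssociatedPrime (IsLocalRing.maximalIdeal ↑(X.presheaf.stalk x)) ↑(X.presheaf.stalk x) := by
  have hq : SheafOfModules.IsQuasicoherent.{u, u, u} F := hF
  rw [mono_toMer_iff]
  constructor
  · intro h x hx
    by_contra hnot
    have : IsNoetherianRing (X.presheaf.stalk x) := inferInstance
    have h1 : ¬ ∀ b ∈ IsLocalRing.maximalIdeal (X.presheaf.stalk x),
        ¬ IsSMulRegular (X.presheaf.stalk x) b := by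
      rw [Groth.Agent.Lib.Helper29.forall_not_isSMulRegular_iff_mem_associatedPrimes]
      exact hnot
    push Not at h1
    obtain ⟨b, hbm, hbreg⟩ := h1
    have hbnzd : b ∈ nonZeroDivisors (X.presheaf.stalk x) := by
      rw [mem_nonZeroDivisors_iff_right]
      intro z hz
      rw [mul_comm] at hz
      exact (isSMulRegular_iff_right_eq_zero_of_smul.mp hbreg) z hz
    rw [← Groth.Agent.S8863.result X x] at hbnzd
    obtain ⟨hprime, d, hd⟩ : IsAssociatedPrime (IsLocalRing.maximalIdeal (X.presheaf.stalk x))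
      (F.presheaf.stalk x) := hx
    rw [hd] at hbm
    obtain ⟨n, hn⟩ := hbm
    rw [Submodule.mem_colon_singleton, Submodule.mem_bot] at hn
    have hd0 : d = 0 := by
      clear hd
      induction n with
      | zero => simpa using hn
      | succ k ih =>
        apply ih
        rw [pow_succ', mul_smul] at hn
        exact h x b hbnzd _ hn
    have htop : (⊥ : Submodule (X.presheaf.stalk x) (F.presheaf.stalk x)).colon {d} = ⊤ := by
      rw [Ideal.eq_top_iff_one, Submodule.mem_colon_singleton, hd0, smul_zero]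
      exact Submodule.zero_mem _
    rw [htop, Ideal.radical_top] at hd
    exact hprime.ne_top hd
  · intro h x b hb d hbd
    obtain ⟨U', hxU', f, hf, rfl⟩ := hb
    obtain ⟨V', hxV', m, rfl⟩ := TopCat.Presheaf.exists_germ_eq F.presheaf d
    have hxW0 : x ∈ U' ⊓ V' := ⟨hxU', hxV'⟩
    let f0 : Γ(X, U' ⊓ V') := X.presheaf.map (homOfLE (inf_le_left : U' ⊓ V' ≤ U')).op f
    let m0 : Γ(F, U' ⊓ V') := F.presheaf.map (homOfLE (inf_le_right : U' ⊓ V' ≤ V')).op m
    have h1 : F.presheaf.germ (U' ⊓ V') x hxW0 (f0 • m0) = F.presheaf.germ (U' ⊓ V') x hxW0 0 := by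
      rw [Groth.Agent.Lib.Helper45.germ_smul, TopCat.Presheaf.germ_res_apply,
        TopCat.Presheaf.germ_res_apply, hbd]
      exact (map_zero _).symm
    obtain ⟨W', hxW', i₁, i₂, hW'⟩ := TopCat.Presheaf.germ_eq F.presheaf x hxW0 hxW0 _ 0 h1
    obtain ⟨_, ⟨W, hW : IsAffineOpen W, rfl⟩, hxW, hWW'⟩ :=
      X.isBasis_affineOpens.exists_subset_of_mem_open hxW' W'.2
    have hle : W ≤ U' ⊓ V' := (show W ≤ W' from hWW').trans i₁.le
    have hfm : X.presheaf.map (homOfLE hle).op f0 • F.presheaf.map (homOfLE hle).op m0 = 0 := by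
      rw [← Scheme.Modules.map_smul]
      have h2 := congrArg (F.presheaf.map (homOfLE (show W ≤ W' from hWW')).op) hW'
      rw [← ConcreteCategory.comp_apply, ← ConcreteCategory.comp_apply, ← Functor.map_comp,
        ← Functor.map_comp] at h2
      exact h2.trans (map_zero _)
    have hfW : X.presheaf.map (homOfLE hle).op f0 ∈ Mero.regSub X W :=
      Mero.regSub_res _ (Mero.regSub_res _ hf)
    have hm0 : F.presheaf.map (homOfLE hle).op m0 = 0 := by
      by_contra hne
      obtain ⟨p, hp, hple⟩ := exists_mem_weakAss_of_ne_zero (R := Γ(X, W)) hne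
      have hpP : p.IsPrime := isPrime_of_mem_weakAss hp
      obtain ⟨z, hz⟩ := exists_primeIdealOf_eq hW ⟨p, hpP⟩
      have hzp : (hW.primeIdealOf z).asIdeal = p := congrArg PrimeSpectrum.asIdeal hz
      subst hzp
      have hzw : Curv2.IsWeakAssPoint F (z : X) :=
        (isWeakAssPoint_iff_of_isAffineOpen hW F z).mpr hp
      have hzass := h (z : X) ((isAssPoint_iff_isWeakAssPoint F _).mpr hzw)
      have hunit : IsUnit (X.presheaf.germ W z z.2 (X.presheaf.map (homOfLE hle).op f0)) :=
        isUnit_of_mem_nonZeroDivisors_of_isAssociatedPrime hzass _ (hfW z)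
      have hnot : X.presheaf.map (homOfLE hle).op f0 ∉ (hW.primeIdealOf z).asIdeal :=
        (mem_basicOpen_iff_not_mem_primeIdealOf hW z _).mp ((X.mem_basicOpen _ z z.2).mpr hunit)
      exact hnot (hple (mem_annEl.mpr hfm))
    rw [← TopCat.Presheaf.germ_res_apply F.presheaf (homOfLE (inf_le_right : U' ⊓ V' ≤ V')) x hxW0,
      ← TopCat.Presheaf.germ_res_apply F.presheaf (homOfLE hle) x hxW]
    change F.presheaf.germ W x hxW (F.presheaf.map (homOfLE hle).op m0) = 0
    rw [hm0]
    exact map_zero _

end Groth.Agent.S5084
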