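import Groth.Statements.S5092
import Groth.Agent.Lib.Helper45.AssStructure
import Groth.Agent.Lib.Helper45.RegularSections

set_option autoImplicit false
universe u
open CategoryTheory CategoryTheory.Limits AlgebraicGeometry TopologicalSpace
open Mero

namespace Groth.Agent.S5092

open Groth.Agent.Lib.Helper45

/-- Suppose X and Y are schemes, both locally Noetherian, and f : X → Y is a morphism carrying each
associated point of O_X (that is, a point whose local ring has its maximal ideal among its
associated primes) to an associated point of O_Y. Then, given any open subset U of Y and any regular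
function s on U (one whose germ at each point of U is a non-zero-divisor), the function on f⁻¹(U)
obtained by pulling s back along f is again regular; as a result, every meromorphic function and
every divisor on Y admits a well-defined pullback along f. -/
theorem result {X Y : Scheme.{u}} [IsLocallyNoetherian X] [IsLocallyNoetherian Y]
    (f : X ⟶ Y)
    (hf : ∀ x : ↥X, IsAssociatedPrime (IsLocalRing.maximalIdeal ↑(X.presheaf.stalk x)) ↑(X.presheaf.stalk x) →
      IsAssociatedPrime (IsLocalRing.maximalIdeal ↑(Y.presheaf.stalk (f x))) ↑(Y.presheaf.stalk (f x))) :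
    ∀ (U : Y.Opens) (s : Γ(Y, U)), s ∈ Mero.regSub Y U → f.app U s ∈ Mero.regSub X (f ⁻¹ᵁ U) := by
  intro U s hs
  rintro ⟨x, hx⟩
  obtain ⟨_, ⟨V, hV : IsAffineOpen V, rfl⟩, hxV, hVU⟩ :=
    X.isBasis_affineOpens.exists_subset_of_mem_open hx (f ⁻¹ᵁ U).2
  have hVU' : V ≤ f ⁻¹ᵁ U := hVU
  have ht : X.presheaf.map (homOfLE hVU').op (f.app U s) ∈ nonZeroDivisors Γ(X, V) := by
    apply mem_nonZeroDivisors_of_isUnit_germ hV
    intro x' hw
    have hx'U : f (x' : X) ∈ U := hVU' x'.2
    have hass := hf x' ((isAssociatedPrime_stalk_iff_isWeakAssPoint (x' : X)).mpr hw)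
    have hunit : IsUnit (Y.presheaf.germ U (f (x' : X)) hx'U s) :=
      isUnit_of_mem_nonZeroDivisors_of_isAssociatedPrime hass _ (hs ⟨f (x' : X), hx'U⟩)
    have h2 := hunit.map (f.stalkMap (x' : X)).hom
    rw [TopCat.Presheaf.germ_res_apply]
    have h3 := Scheme.Hom.germ_stalkMap_apply f U (x' : X) hx'U s
    rw [← h3]
    exact h2
  let _ := X.presheaf.algebra_section_stalk (⟨x, hxV⟩ : V)
  have hloc : IsLocalization.AtPrime (X.presheaf.stalk x) (hV.primeIdealOf ⟨x, hxV⟩).asIdeal :=
    hV.isLocalization_stalk ⟨x, hxV⟩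
  have h2 := IsLocalization.map_nonZeroDivisors_le (hV.primeIdealOf ⟨x, hxV⟩).asIdeal.primeCompl
    (X.presheaf.stalk x) (Submonoid.mem_map_of_mem _ ht)
  change X.presheaf.germ (f ⁻¹ᵁ U) x hx (f.app U s) ∈ nonZeroDivisors (X.presheaf.stalk x)
  rw [← TopCat.Presheaf.germ_res_apply X.presheaf (homOfLE hVU') x hxV]
  exact h2

end Groth.Agent.S5092
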