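import Groth.Statements.S8901
import Groth.Agent.Lib.Helper45.RegularSections

set_option autoImplicit false
universe u
open CategoryTheory CategoryTheory.Limits AlgebraicGeometry TopologicalSpace
open SDiv

namespace Groth.Agent.S8901

open Groth.Agent.Lib.Helper45

/-- Let f : X ⟶ Y be a morphism of schemes under which each weakly associated point of X (of O_X) goes
to a point of Y with no proper generization (the generic point of some irreducible component of Y).
Then pullbacks of meromorphic functions are defined for f: for every open U ⊆ Y and every regular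
section s of O_Y over U, the pulled-back section of O_X over f⁻¹U is regular. -/
theorem result {X Y : Scheme.{u}} (f : X ⟶ Y)
    (h : ∀ x : ↥X, Curv2.IsWeakAssPoint (Coh.structureModule X) x → ∀ y : ↥Y, y ⤳ f x → y = f x)
    (U : Y.Opens) (s : Γ(Y, U)) (hs : s ∈ Mero.regSub Y U) : f.app U s ∈ Mero.regSub X (f ⁻¹ᵁ U) := by
  rintro ⟨x, hx⟩
  obtain ⟨_, ⟨V, hV : IsAffineOpen V, rfl⟩, hxV, hVU⟩ :=
    X.isBasis_affineOpens.exists_subset_of_mem_open hx (f ⁻¹ᵁ U).2
  have hVU' : V ≤ f ⁻¹ᵁ U := hVU
  have ht : X.presheaf.map (homOfLE hVU').op (f.app U s) ∈ nonZeroDivisors Γ(X, V) := by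
    apply mem_nonZeroDivisors_of_isUnit_germ hV
    intro x' hw
    have hx'U : f (x' : X) ∈ U := hVU' x'.2
    have hmax := h x' hw
    have hunit : IsUnit (Y.presheaf.germ U (f (x' : X)) hx'U s) :=
      isUnit_of_mem_nonZeroDivisors_of_maximal_point _ hmax _ (hs ⟨f (x' : X), hx'U⟩)
    have h2 := hunit.map (f.stalkMap (x' : X)).hom
    rw [TopCat.Presheaf.germ_res_apply]
    have h3 := Scheme.Hom.germ_stalkMap_apply f U (x' : X) hx'U s
    rw [← h3]
    exact h2
  let _ := X.presheaf.algebra_section_stalk (⟨x, hxV⟩ : V)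
  have hloc : IsLocalization.AtPrime (X.presheaf.stalk x) (hV.primeIdealOf ⟨x, hxV⟩).asIdeal :=
    hV.isLocalization_stalk ⟨x, hxV⟩
  have h2 := IsLocalization.map_nonZeroDivisors_le (hV.primeIdealOf ⟨x, hxV⟩).asIdeal.primeCompl
    (X.presheaf.stalk x) (Submonoid.mem_map_of_mem _ ht)
  change X.presheaf.germ (f ⁻¹ᵁ U) x hx (f.app U s) ∈ nonZeroDivisors (X.presheaf.stalk x)
  rw [← TopCat.Presheaf.germ_res_apply X.presheaf (homOfLE hVU') x hxV]
  exact h2

end Groth.Agent.S8901
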