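import Mathlib
import Groth.Statements.S5094
import Groth.Agent.Lib.Helper23.ZMTLocalIso

set_option autoImplicit false
universe u
open CategoryTheory AlgebraicGeometry Topology
open Groth.Agent.Lib.Helper23

namespace Groth.Agent.S5094

/-- A point of a fibre which is isolated in the fibre is a point where the morphism is
quasi-finite. -/
theorem quasiFiniteAt_of_isOpen_singleton {X Y : Scheme.{u}} (f : X ⟶ Y) [LocallyOfFiniteType f]
    (y : Y) (x : f.fiber y) (hx : IsOpen ({x} : Set (f.fiber y))) :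
    f (f.fiberι y x) = y ∧ f.QuasiFiniteAt (f.fiberι y x) := by
  obtain ⟨⟨x', hx'⟩, hxx⟩ : ∃ z : f ⁻¹' {y}, z = f.fiberHomeo y x := ⟨_, rfl⟩
  have h1 : x = (f.fiberHomeo y).symm ⟨x', hx'⟩ := by rw [hxx]; simp
  subst h1
  obtain rfl : f x' = y := hx'
  rw [Scheme.Hom.fiberι_fiberHomeo_symm]
  exact ⟨rfl, Scheme.Hom.quasiFiniteAt_iff_isOpen_singleton_asFiber.mpr hx⟩

/-- Let X and Y be integral schemes and f : X → Y a separated morphism, locally of finite type and
birational (f sends the generic point of X to the generic point of Y and its stalk map there, the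
induced homomorphism of function fields, is an isomorphism). Let y be a normal point of Y (the local
ring O_{Y,y} is integrally closed) and suppose that some point of the fibre f⁻¹(y) is isolated in
that fibre. Then y has an open neighbourhood U such that the restriction f⁻¹(U) → U of f is an
isomorphism. -/
theorem result {X Y : Scheme.{u}} [IsIntegral X]
    [IsIntegral Y] (f : X ⟶ Y) [IsSeparated f] [LocallyOfFiniteType f]
    (hgen : f (genericPoint X) = genericPoint Y) (hbir : IsIso (f.stalkMap (genericPoint X)))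
    (y : ↥Y) (hy : IsIntegrallyClosed ↑(Y.presheaf.stalk y))
    (x : ↥(f.fiber y)) (hx : IsOpen ({x} : Set ↥(f.fiber y))) :
    ∃ U : Y.Opens, y ∈ U ∧ IsIso (f ∣_ U) := by
  obtain ⟨hxy, hqf⟩ := quasiFiniteAt_of_isOpen_singleton f y x hx
  generalize f.fiberι y x = x' at hxy hqf
  subst hxy
  obtain ⟨U, V, e, hxV, hiso⟩ := exists_isIso_resLE_of_quasiFiniteAt f hgen hbir x' hy hqf
  have hxP : x' ∈ f ⁻¹ᵁ U := e hxV
  have hne : Nonempty ↥(f ⁻¹ᵁ U) := ⟨⟨x', hxP⟩⟩
  -- the section of `f ∣_ U` given by the inverse of the isomorphism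
  have hfac : f.resLE U V e = X.homOfLE e ≫ f ∣_ U := rfl
  have hsec : (inv (f.resLE U V e) ≫ X.homOfLE e) ≫ f ∣_ U = 𝟙 _ := by
    rw [Category.assoc, ← hfac, IsIso.inv_hom_id]
  have hci : IsClosedImmersion (inv (f.resLE U V e) ≫ X.homOfLE e) := by
    have : IsClosedImmersion ((inv (f.resLE U V e) ≫ X.homOfLE e) ≫ f ∣_ U) := by
      rw [hsec]; infer_instance
    exact IsClosedImmersion.of_comp _ (f ∣_ U)
  have hrange : Set.range (inv (f.resLE U V e) ≫ X.homOfLE e) = Set.range (X.homOfLE e) := by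
    rw [Scheme.Hom.comp_base, TopCat.coe_comp, Set.range_comp,
      Set.range_eq_univ.mpr (inv (f.resLE U V e)).surjective, Set.image_univ]
  have hclopen : IsClopen (Set.range (X.homOfLE e)) :=
    ⟨hrange ▸ (inv (f.resLE U V e) ≫ X.homOfLE e).isClosedEmbedding.isClosed_range,
      (X.homOfLE e).isOpenEmbedding.isOpen_range⟩
  have : Nonempty ((f ⁻¹ᵁ U : X.Opens) : Scheme.{u}) := hne
  have : IsIntegral (f ⁻¹ᵁ U : Scheme.{u}) := isIntegral_of_isOpenImmersion (f ⁻¹ᵁ U).ι
  have : IrreducibleSpace ((f ⁻¹ᵁ U : X.Opens) : Scheme.{u}) := inferInstance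
  have : PreconnectedSpace ((f ⁻¹ᵁ U : X.Opens) : Scheme.{u}) := inferInstance
  have huniv : Set.range (X.homOfLE e) = Set.univ := by
    rcases isClopen_iff.mp hclopen with h0 | h1
    · exact absurd h0 (Set.Nonempty.ne_empty ⟨_, ⟨⟨x', hxV⟩, rfl⟩⟩)
    · exact h1
  have hle : f ⁻¹ᵁ U ≤ V := by
    intro z hz
    obtain ⟨w, hw⟩ : (⟨z, hz⟩ : ↥(f ⁻¹ᵁ U)) ∈ Set.range (X.homOfLE e) := huniv ▸ Set.mem_univ _
    have h2 : (X.homOfLE e ≫ (f ⁻¹ᵁ U).ι) w = z := by
      rw [Scheme.Hom.comp_apply, hw]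
      rfl
    rw [Scheme.homOfLE_ι] at h2
    exact h2 ▸ w.2
  obtain rfl : V = f ⁻¹ᵁ U := le_antisymm e hle
  refine ⟨U, hxP, ?_⟩
  have h3 : f.resLE U (f ⁻¹ᵁ U) e = f ∣_ U := by
    rw [hfac, Scheme.homOfLE_rfl, Category.id_comp]
  rw [← h3]
  exact hiso

end Groth.Agent.S5094
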