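import Groth.Statements.S5097

set_option autoImplicit false
universe u
open CategoryTheory CategoryTheory.Limits AlgebraicGeometry TopologicalSpace
open Mero

namespace Groth.Agent.S5097

section
variable {X : Scheme.{u}}

/-- The value at a point of a unit of `Γ(U, K_X)`, as a unit of `K_{X,x}`. -/
noncomputable abbrev uval {U : X.Opens} (f : (Γ(Mero.kmod X, U))ˣ) (y : U) : (Mero.KStalk X y.1)ˣ :=
  Units.map (Mero.evalK X U y).toMonoidHom f

theorem uval_inv_val {U : X.Opens} (f : (Γ(Mero.kmod X, U))ˣ) (y : U) :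
    ((uval f y)⁻¹ : (Mero.KStalk X y.1)ˣ).1 = ((f⁻¹ : (Γ(Mero.kmod X, U))ˣ) : Γ(Mero.kmod X, U)).1 y := by
  rw [← map_inv]
  rfl

/-- If the germ of `D` on `U` is given by the unit `f`, then `f⁻¹` satisfies the condition
defining `O_X(D)` at every point of `U`. -/
theorem divCond_inv (D : Mero.Divisor X) {U : X.Opens} (f : (Γ(Mero.kmod X, U))ˣ)
    (hf : ∀ y : U, D.1 y.1 = Mero.germOf f y) (y : U) :
    Mero.DivCond D y.1 (((f⁻¹ : (Γ(Mero.kmod X, U))ˣ) : Γ(Mero.kmod X, U)).1 y) := by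
  intro g hg
  rw [hf y] at hg
  have h1 : (uval f y)⁻¹ * g ∈ Mero.stalkUnits X y.1 := QuotientGroup.eq.mp hg
  obtain ⟨w, hw⟩ := h1
  refine ⟨(w : X.presheaf.stalk y.1), ?_⟩
  have := congrArg Units.val hw
  rw [Units.val_mul, uval_inv_val] at this
  rw [← this]
  rfl

/-- From the two containments at a point, the germs agree. -/
theorem germ_eq_of_mem_range (x : X) (a b : (Mero.KStalk X x)ˣ)
    (h1 : (a⁻¹ : (Mero.KStalk X x)ˣ).1 * b.1 ∈ (algebraMap (X.presheaf.stalk x) (Mero.KStalk X x)).range)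
    (h2 : (b⁻¹ : (Mero.KStalk X x)ˣ).1 * a.1 ∈ (algebraMap (X.presheaf.stalk x) (Mero.KStalk X x)).range) :
    (QuotientGroup.mk a : Mero.Germ X x) = QuotientGroup.mk b := by
  obtain ⟨r, hr⟩ := h1
  obtain ⟨r', hr'⟩ := h2
  have hrr' : r * r' = 1 := by
    apply Mero.algebraMap_KStalk_injective x
    rw [map_mul, map_one, hr, hr']
    calc (a⁻¹ : (Mero.KStalk X x)ˣ).1 * b.1 * ((b⁻¹ : (Mero.KStalk X x)ˣ).1 * a.1)
        = (a⁻¹ : (Mero.KStalk X x)ˣ).1 * (b.1 * (b⁻¹ : (Mero.KStalk X x)ˣ).1) * a.1 := by ring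
      _ = 1 := by rw [Units.mul_inv, mul_one, Units.inv_mul]
  rw [QuotientGroup.eq]
  refine ⟨⟨r, r', hrr', by rw [mul_comm]; exact hrr'⟩, ?_⟩
  apply Units.ext
  rw [Units.val_mul]
  exact hr

end

/-- Injectivity of the canonical homomorphism from divisors to invertible fractional ideals: let X be a
scheme and D, D' two divisors on X such that, over every open subset U, a section t of the sheaf of
meromorphic functions lies in O_X(D) (t_x · g ∈ O_{X,x} for a representative g of the germ of D at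
x, for all x in U) if and only if it lies in O_X(D'). Then D = D'. -/
theorem result (X : Scheme.{u}) (D D' : Mero.Divisor X)
    (h : ∀ (U : X.Opens) (t : Γ(Mero.kmod X, U)),
      (∀ x : ↥U, Mero.DivCond D x.1 (t.1 x)) ↔ (∀ x : ↥U, Mero.DivCond D' x.1 (t.1 x))) :
    D = D' := by
  apply Subtype.ext
  funext x
  obtain ⟨U, hxU, f, hf⟩ := D.2 x
  obtain ⟨U', hxU', f', hf'⟩ := D'.2 x
  let W : X.Opens := U ⊓ U'
  have hxW : x ∈ W := ⟨hxU, hxU'⟩
  -- restrict `f⁻¹` and `f'⁻¹` to `W`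
  let t : Γ(Mero.kmod X, W) := (Mero.kmod X).presheaf.map (homOfLE (inf_le_left : W ≤ U)).op
    ((f⁻¹ : (Γ(Mero.kmod X, U))ˣ) : Γ(Mero.kmod X, U))
  let t' : Γ(Mero.kmod X, W) := (Mero.kmod X).presheaf.map (homOfLE (inf_le_right : W ≤ U')).op
    ((f'⁻¹ : (Γ(Mero.kmod X, U'))ˣ) : Γ(Mero.kmod X, U'))
  have ht : ∀ y : W, t.1 y = ((f⁻¹ : (Γ(Mero.kmod X, U))ˣ) : Γ(Mero.kmod X, U)).1 ⟨y.1, y.2.1⟩ :=
    fun y => rfl
  have ht' : ∀ y : W, t'.1 y =
      ((f'⁻¹ : (Γ(Mero.kmod X, U'))ˣ) : Γ(Mero.kmod X, U')).1 ⟨y.1, y.2.2⟩ := fun y => rfl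
  have h1 := (h W t).mp (fun y => by rw [ht]; exact divCond_inv D f hf ⟨y.1, y.2.1⟩) ⟨x, hxW⟩
  have h2 := (h W t').mpr (fun y => by rw [ht']; exact divCond_inv D' f' hf' ⟨y.1, y.2.2⟩) ⟨x, hxW⟩
  have h1' := h1 (uval f' ⟨x, hxU'⟩) (hf' ⟨x, hxU'⟩)
  have h2' := h2 (uval f ⟨x, hxU⟩) (hf ⟨x, hxU⟩)
  rw [ht, ← uval_inv_val] at h1'
  rw [ht', ← uval_inv_val] at h2'
  rw [hf ⟨x, hxU⟩, hf' ⟨x, hxU'⟩]
  exact germ_eq_of_mem_range x _ _ h1' h2'

end Groth.Agent.S5097
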