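import Groth.Statements.S5102
import Groth.Agent.Lib.Helper97.MeroLib2
import Mathlib

set_option autoImplicit false
universe u
open CategoryTheory CategoryTheory.Limits AlgebraicGeometry TopologicalSpace
open Mero

namespace Groth.Agent.S5102

open Groth.Agent.Lib.Helper97.MeroLib
open Groth.Agent.Lib.Helper45 Groth.Agent.Lib.Helper49 Groth.Agent.Lib.Helper11.GenLocus

variable {X : Scheme.{u}}

theorem app_inj {K F : X.Modules} (i : K ⟶ F) [Mono i] (U : X.Opens) :
    Function.Injective (i.app U) := by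
  have h1 : Mono ((Scheme.Modules.toPresheaf X).map i) := inferInstance
  have h2 : Mono (((Scheme.Modules.toPresheaf X).map i).app (.op U)) := inferInstance
  exact (AddCommGrpCat.mono_iff_injective _).mp h2

/-- the module action on `K_X` is multiplication by the image of the function. -/
theorem smul_eq_toK_mul {V : X.Opens} (r : Γ(X, V)) (t : Γ(Mero.kmod X, V)) :
    r • t = Mero.toK X V r * t :=
  Subtype.ext (funext fun y => Algebra.smul_def (X.presheaf.germ V y.1 y.2 r) (t.1 y))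

theorem kres_apply {U V : X.Opens} (h : V ≤ U) (t : Γ(Mero.kmod X, U)) (y : V) :
    ((Mero.kmod X).presheaf.map (homOfLE h).op t).1 y = t.1 ⟨y.1, h y.2⟩ := rfl

/-- value of `ι` on the restriction of a section. -/
theorem ι_res (J : X.Modules) (ι : J ⟶ Mero.kmod X) {U V : X.Opens} (h : V ≤ U) (j : Γ(J, U)) (y : V) :
    (ι.app V (mres J h j)).1 y = (ι.app U j).1 ⟨y.1, h y.2⟩ := by
  rw [← app_mres]
  rfl

/-- cancellation of a pointwise unit. -/
theorem eq_of_toK_mul_eq {V : X.Opens} (t : Γ(Mero.kmod X, V)) (ht : ∀ y : V, IsUnit (t.1 y))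
    {r r' : Γ(X, V)} (h : Mero.toK X V r * t = Mero.toK X V r' * t) : r = r' := by
  apply TopCat.Presheaf.section_ext X.sheaf V
  intro y hy
  have h1 := congrArg (fun s : Γ(Mero.kmod X, V) => s.1 ⟨y, hy⟩) h
  have h2 : (LocalizedModule.mk (X.presheaf.germ V y hy r) 1 : Mero.KStalk X y) * t.1 ⟨y, hy⟩ =
      LocalizedModule.mk (X.presheaf.germ V y hy r') 1 * t.1 ⟨y, hy⟩ := h1
  exact mk_one_injective y ((ht ⟨y, hy⟩).mul_left_injective h2)

theorem isUnit_apply {U : X.Opens} (f : (Γ(Mero.kmod X, U))ˣ) (y : U) : IsUnit (f.1.1 y) :=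
  IsUnit.of_mul_eq_one _ (unit_mul_inv_apply f y)


/-- Let X be a scheme and J a fractional ideal, i.e. a sub-O_X-module of the sheaf of meromorphic
functions K_X (given by a monomorphism J → K_X). Then J is an invertible O_X-module if and only if
every point of X has an open neighbourhood U together with a unit f of the ring Γ(U, K_X) such that
J|_U = O_U · f: over every open subset V of U, the sections of J are exactly the r · f|_V with r a
function on V. -/
theorem result (X : Scheme.{u}) (J : X.Modules)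
    (ι : J ⟶ Mero.kmod X) [Mono ι] :
    PicF.IsInvertible J ↔ ∀ x : ↥X, ∃ (U : X.Opens) (_ : x ∈ U) (f : (Γ(Mero.kmod X, U))ˣ),
      ∀ (V : X.Opens) (hV : V ≤ U),
        Set.range ⇑(ι.val.app (Opposite.op V)) =
          {t : Γ(Mero.kmod X, V) | ∃ r : Γ(X, V),
            t = Mero.toK X V r * (Mero.kmod X).presheaf.map (homOfLE hV).op (f : Γ(Mero.kmod X, U))} := by
  constructor
  · -- invertible ⟹ locally generated by a unit of `K_X`
    intro hJ x
    obtain ⟨U₀, hxU₀, j, hj⟩ := exists_isBasisOn_of_isInvertible hJ x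
    obtain ⟨V, hxV, i, a, b, hab⟩ := (ι.app U₀ j).2 ⟨x, hxU₀⟩
    have hVU₀ : V ≤ U₀ := i.le
    -- `a` is a regular section
    have ha : a ∈ Mero.regSub X V := by
      intro y
      rw [mem_nonZeroDivisors_iff_right]
      intro ρ hρ
      obtain ⟨W₀, hyW₀, r₀, hr₀⟩ := TopCat.Presheaf.exists_germ_eq X.presheaf ρ
      have hyW₁ : y.1 ∈ W₀ ⊓ V := ⟨hyW₀, y.2⟩
      have e1 : X.presheaf.germ (W₀ ⊓ V) y.1 hyW₁ (fres inf_le_left r₀ * fres inf_le_right a) =
          X.presheaf.germ (W₀ ⊓ V) y.1 hyW₁ 0 := by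
        rw [map_mul, germ_fres, germ_fres, hr₀, map_zero]
        exact hρ
      obtain ⟨W, hyW, iU, iV, hUV⟩ := TopCat.Presheaf.germ_eq X.presheaf y.1 hyW₁ hyW₁ _ _ e1
      have hWW₁ : W ≤ W₀ ⊓ V := iU.le
      have e2 : fres (hWW₁.trans inf_le_left) r₀ * fres (hWW₁.trans inf_le_right) a = 0 := by
        have h1 : fres hWW₁ (fres inf_le_left r₀ * fres inf_le_right a) = fres hWW₁ 0 := hUV
        rw [map_mul, fres_fres, fres_fres, map_zero] at h1
        exact h1
      have hWU₀ : W ≤ U₀ := (hWW₁.trans inf_le_right).trans hVU₀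
      -- `r₀|W • j|W` is killed by `ι`
      have e3 : ι.app W (fres (hWW₁.trans inf_le_left) r₀ • mres J hWU₀ j) = 0 := by
        rw [Scheme.Modules.Hom.app_smul]
        refine Subtype.ext (funext fun z => ?_)
        have h1 : (ι.app W (mres J hWU₀ j)).1 z = (ι.app U₀ j).1 ⟨z.1, hWU₀ z.2⟩ := ι_res J ι hWU₀ j z
        have h2 := hab ⟨z.1, (hWW₁.trans inf_le_right) z.2⟩
        have h3 : (fres (hWW₁.trans inf_le_left) r₀ • ι.app W (mres J hWU₀ j)).1 z =
            X.presheaf.germ W z.1 z.2 (fres (hWW₁.trans inf_le_left) r₀) •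
              (ι.app W (mres J hWU₀ j)).1 z := rfl
        rw [h3, h1]
        refine (congrArg (fun κ => X.presheaf.germ W z.1 z.2 (fres (hWW₁.trans inf_le_left) r₀) • κ)
          h2).trans ?_
        rw [LocalizedModule.smul'_mk]
        have h4 : X.presheaf.germ W z.1 z.2 (fres (hWW₁.trans inf_le_left) r₀) •
            X.presheaf.germ V z.1 ((hWW₁.trans inf_le_right) z.2) a = 0 := by
          rw [smul_eq_mul, ← germ_fres (hWW₁.trans inf_le_right) z.1 z.2 a, ← map_mul, e2, map_zero]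
        rw [h4, LocalizedModule.zero_mk]
        rfl
      have e4 : fres (hWW₁.trans inf_le_left) r₀ • mres J hWU₀ j = 0 :=
        app_inj ι W (e3.trans (map_zero _).symm)
      have e5 : fres (hWW₁.trans inf_le_left) r₀ = 0 :=
        (hj.mono hWU₀).eq_of_smul_eq (by rw [e4, zero_smul])
      rw [← hr₀, ← germ_fres (hWW₁.trans inf_le_left) y.1 hyW r₀, e5, map_zero]
    -- the unit `f = a/b`
    refine ⟨V, hxV, toKUnit ⟨a, ha⟩ * (toKUnit b)⁻¹, fun V' hV' => ?_⟩
    have hV'U₀ : V' ≤ U₀ := hV'.trans hVU₀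
    have hf : ∀ y : V', ((Mero.kmod X).presheaf.map (homOfLE hV').op
        ((toKUnit ⟨a, ha⟩ * (toKUnit b)⁻¹ : (Γ(Mero.kmod X, V))ˣ) : Γ(Mero.kmod X, V))).1 y =
        (ι.app V' (mres J hV'U₀ j)).1 y := by
      intro y
      rw [ι_res J ι hV'U₀ j y, kres_apply]
      refine Eq.trans ?_ (hab ⟨y.1, hV' y.2⟩).symm
      change (LocalizedModule.mk (X.presheaf.germ V y.1 (hV' y.2) a) 1 : Mero.KStalk X y.1) *
        LocalizedModule.mk 1 (Mero.regGerm ⟨y.1, hV' y.2⟩ b) = _
      exact LocalizedModule.mk_mul_mk.trans (Mero.mk_congr (by rw [mul_one]) (by rw [one_mul]))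
    have hf' : (Mero.kmod X).presheaf.map (homOfLE hV').op
        ((toKUnit ⟨a, ha⟩ * (toKUnit b)⁻¹ : (Γ(Mero.kmod X, V))ˣ) : Γ(Mero.kmod X, V)) =
        ι.app V' (mres J hV'U₀ j) := Subtype.ext (funext hf)
    rw [hf']
    ext t
    constructor
    · rintro ⟨m, rfl⟩
      obtain ⟨r, rfl⟩ := (hj.mono hV'U₀).exists_eq_smul m
      refine ⟨r, ?_⟩
      rw [← smul_eq_toK_mul, ← Scheme.Modules.Hom.app_smul]
      rfl
    · rintro ⟨r, rfl⟩
      refine ⟨r • mres J hV'U₀ j, ?_⟩
      rw [← smul_eq_toK_mul, ← Scheme.Modules.Hom.app_smul]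
      rfl
  · -- locally generated by a unit ⟹ invertible
    intro h
    apply isInvertible_of_forall_exists_isBasisOn
    intro x
    obtain ⟨U, hxU, f, hf⟩ := h x
    have hmapid : (Mero.kmod X).presheaf.map (homOfLE (le_refl U)).op (f : Γ(Mero.kmod X, U)) = f.1 :=
      Subtype.ext (funext fun y => rfl)
    have h1 : (f : Γ(Mero.kmod X, U)) ∈ Set.range ⇑(ι.val.app (Opposite.op U)) := by
      rw [hf U (le_refl U)]
      exact ⟨1, by rw [map_one, one_mul, hmapid]⟩
    obtain ⟨j, hj⟩ := h1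
    have hj' : ι.app U j = f.1 := hj
    refine ⟨U, hxU, j, fun V hV => ?_⟩
    have hjV : ι.app V (mres J hV j) = (Mero.kmod X).presheaf.map (homOfLE hV).op (f : Γ(Mero.kmod X, U)) := by
      refine Subtype.ext (funext fun y => ?_)
      rw [ι_res J ι hV j y, hj']
      rfl
    have hunit : ∀ y : V, IsUnit (((Mero.kmod X).presheaf.map (homOfLE hV).op
        (f : Γ(Mero.kmod X, U))).1 y) := fun y => isUnit_apply f ⟨y.1, hV y.2⟩
    constructor
    · intro r r' hrr'
      have h2 := congrArg (ι.app V) hrr'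
      rw [Scheme.Modules.Hom.app_smul, Scheme.Modules.Hom.app_smul, hjV, smul_eq_toK_mul,
        smul_eq_toK_mul] at h2
      exact eq_of_toK_mul_eq _ hunit h2
    · intro m
      have h2 : ι.app V m ∈ Set.range ⇑(ι.val.app (Opposite.op V)) := ⟨m, rfl⟩
      rw [hf V hV] at h2
      obtain ⟨r, hr⟩ := h2
      refine ⟨r, ?_⟩
      apply app_inj ι V
      rw [Scheme.Modules.Hom.app_smul, hjV, smul_eq_toK_mul]
      exact hr.symm

end Groth.Agent.S5102
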