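import Groth.Statements.S5105
import Groth.Agent.Lib.Helper45.LocFactorial
import Groth.Agent.S5090

set_option autoImplicit false
universe u
open CategoryTheory CategoryTheory.Limits AlgebraicGeometry TopologicalSpace
open Div21

namespace Groth.Agent.S5105

/-- For an integral scheme (X is locally factorial exactly when the canonical map Pic(X) → Cl(X) is a
bijection; in the presence of (i), being bijective means that each codimension-1 cycle arises as the
Weil divisor of some rational section of an invertible module): suppose X is an integral scheme that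
is normal and locally Noetherian. Then these two conditions are equivalent: (1) whenever Z is a
function from the points of X to the integers that is zero away from the points of codimension 1
(coheight 1) and whose support is locally finite, one can find an invertible O_X-module L together
with a nonzero rational section s of L (a nonzero element of the generic fibre of L) such that, at
each point of codimension 1, the order of s equals the value Z takes there; (2) each local ring of X
is a unique factorisation domain. -/
theorem result (X : Scheme.{u}) [IsIntegral X]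
    [IsLocallyNoetherian X] (hX : Pi1.IsNormalScheme X) :
    (∀ Z : ↥X → ℤ, (∀ x : ↥X, Order.coheight x ≠ 1 → Z x = 0) →
        (∀ x : ↥X, ∃ W : X.Opens, x ∈ W ∧ {z : ↥X | z ∈ W ∧ Z z ≠ 0}.Finite) →
        ∃ (L : X.Modules) (_ : PicF.IsInvertible L) (s : Cyc.secFibre L (genericPoint ↥X)), s ≠ 0 ∧
          ∀ x : ↥X, Order.coheight x = 1 →
            Cyc.secOrdAt L (genericPoint ↥X) x (genericPoint_specializes x) s = Z x) ↔
      ∀ x : ↥X, UniqueFactorizationMonoid ↑(X.presheaf.stalk x) := by
  classical
  constructor
  · intro h1
    have key := (Groth.Agent.S5090.result X (fun x _ => inferInstance)).mp ?_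
    · intro x
      obtain ⟨_, hu⟩ := key x
      exact hu
    · intro ζ hζdim x h
      have hζ : Order.coheight ζ = 1 :=
        (Groth.Agent.Lib.Helper45.OrdGeneric.coheight_eq_one_iff ζ).mpr hζdim
      obtain ⟨L, hL, s, hs, hord⟩ := h1 (fun z => if z = ζ then 1 else 0)
        (fun z hz => if_neg (by rintro rfl; exact hz hζ))
        (fun z => ⟨⊤, trivial, (Set.finite_singleton ζ).subset (by
          rintro z ⟨-, hz⟩
          by_contra hne
          exact hz (if_neg hne))⟩)
      obtain ⟨W, hxW, τ, hτ⟩ := Groth.Agent.Lib.Helper45.exists_isBasisOn_of_isInvertible hL x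
      obtain ⟨σ, rfl⟩ := Groth.Agent.Lib.Helper45.OrdGeneric.secFibre_mk_surjective L s
      have hσ : σ ≠ 0 := by
        rintro rfl
        exact hs rfl
      have hηW : genericPoint X ∈ W := (genericPoint_specializes x).mem_open W.isOpen hxW
      have hL1 := Groth.Agent.Lib.Helper45.InvRef1.isRef1_of_isInvertible L hL
      have hgerm_ne : L.presheaf.germ W (genericPoint X) hηW τ ≠ 0 := by
        intro h0
        have h1' : (1 : X.presheaf.stalk (genericPoint X)) = 0 :=
          Groth.Agent.Lib.Helper45.InvOrd.germ_basis_ann hτ _ hηW 1 (by rw [h0, smul_zero])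
        exact one_ne_zero h1'
      obtain ⟨φ, hφ⟩ := Groth.Agent.Lib.Helper45.Ref1Codim1.exists_smul_eq_of_ne_zero L hL1.2.2 _
        hgerm_ne σ
      have hφ0 : φ ≠ 0 := by
        rintro rfl
        rw [zero_smul] at hφ
        exact hσ hφ
      have hordφ : ∀ y : X, y ∈ W → Order.coheight y = 1 →
          Scheme.ord (X := X) φ y = if y = ζ then 1 else 0 := by
        intro y hy hcy
        rw [← hord y hcy, hφ]
        exact (Groth.Agent.Lib.Helper45.InvOrd.secOrdAt_eq_ord_of_isBasisOn hτ y hy hcy _ φ
          hηW).symm
      obtain ⟨t, ht0, ht⟩ :=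
        Groth.Agent.Lib.Helper45.LocFactorial.exists_generator_comap_maximalIdeal hX hζ h φ hφ0
          (by rw [hordφ ζ (h.mem_open W.isOpen hxW) hζ, if_pos rfl])
          (fun y hy hyx hne => by rw [hordφ y (hyx.mem_open W.isOpen hxW) hy, if_neg hne])
      exact ⟨t, mem_nonZeroDivisors_of_ne_zero ht0, ht⟩
  · intro hUFD Z hZ0 hZfin
    have hlf : LocallyFiniteSupport Z := fun z => by
      obtain ⟨W, hzW, hfin⟩ := hZfin z
      exact ⟨W, W.isOpen.mem_nhds hzW, hfin.subset (fun y hy => ⟨hy.1, hy.2⟩)⟩
    obtain ⟨F, hF1, σ, hσ, hd⟩ :=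
      Groth.Agent.Lib.Helper45.DivIdealMod.exists_hasDiv hX Z hlf hZ0
    have hinv : PicF.IsInvertible F :=
      Groth.Agent.Lib.Helper45.InvRef1.isInvertible_of_stalk_equiv F hF1.1 (fun x => by
        haveI := hUFD x
        haveI : F.IsQuasicoherent := hF1.1.1
        haveI : Module.IsReflexive (X.presheaf.stalk x) (F.presheaf.stalk x) :=
          (Groth.Agent.Lib.Helper45.RefHullStalk.isReflexive_iff_forall_isReflexiveAt F
            hF1.1).mp hF1.2.1 x
        obtain ⟨n₀, hn₀, hrank⟩ :=
          Groth.Agent.Lib.Helper45.Rank1Invertible.exists_rank_one_stalk F hF1.2.2 x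
        exact Groth.Agent.Lib.Helper45.ReflexiveUFD.nonempty_linearEquiv_self_of_isReflexive_rank_one
          (A := X.presheaf.stalk x) (F.presheaf.stalk x) n₀ hn₀ hrank)
    refine ⟨F, hinv, Submodule.Quotient.mk σ, fun h0 => hσ ?_, hd⟩
    exact (Groth.Agent.Lib.Helper45.OrdGeneric.secFibre_mk_eq_iff F σ 0).mp h0

end Groth.Agent.S5105
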