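import Groth.Statements.S5107
import Groth.Agent.Lib.Helper13.SchDense

set_option autoImplicit false
universe u
open CategoryTheory CategoryTheory.Limits AlgebraicGeometry TopologicalSpace
open Lim8

namespace Groth.Agent.S5107

open Groth.Agent.Lib.Helper13.SchDense Groth.Agent.Lib.Helper13.LimSections Opposite

lemma appLE_of_eq {X Y : Scheme.{u}} {h₁ h₂ : X ⟶ Y} (e : h₁ = h₂) (U : Y.Opens) (V : X.Opens)
    (e₁ : V ≤ h₁ ⁻¹ᵁ U) : h₁.appLE U V e₁ = h₂.appLE U V (e ▸ e₁) := by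
  subst e; rfl

section

variable {I : Type u} [SmallCategory I] (D : I ⥤ Scheme.{u}) (c : Cone D)
  (i₀ : I) (a : (D.obj i₀).Opens)

/-- the rings of the system -/
abbrev R (j : Over i₀) : Type u := Γ(D.obj j.left, D.map j.hom ⁻¹ᵁ a)

/-- the ring of the limit -/
abbrev Rinf : Type u := Γ(c.pt, c.π.app i₀ ⁻¹ᵁ a)

/-- transition maps -/
noncomputable def τ {j k : Over i₀} (b : k ⟶ j) : R D i₀ a j →+* R D i₀ a k :=
  ((D.map b.left).appLE (D.map j.hom ⁻¹ᵁ a) (D.map k.hom ⁻¹ᵁ a) (preimage_le_of_hom D b a)).hom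

/-- maps to the limit -/
noncomputable def lam (j : Over i₀) : R D i₀ a j →+* Rinf D c i₀ a :=
  ((c.π.app j.left).appLE (D.map j.hom ⁻¹ᵁ a) (c.π.app i₀ ⁻¹ᵁ a)
    (preimage_preimage_eq D c j a).ge).hom

lemma hτ {j k l : Over i₀} (b : k ⟶ j) (b' : l ⟶ k) (x : R D i₀ a j) :
    τ D i₀ a b' (τ D i₀ a b x) = τ D i₀ a (b' ≫ b) x := by
  have h1 := Scheme.Hom.appLE_comp_appLE (D.map b'.left) (D.map b.left) (D.map j.hom ⁻¹ᵁ a)
    (D.map k.hom ⁻¹ᵁ a) (D.map l.hom ⁻¹ᵁ a) (preimage_le_of_hom D b a) (preimage_le_of_hom D b' a)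
  have h2 : D.map b'.left ≫ D.map b.left = D.map (b' ≫ b).left := by
    rw [← D.map_comp]; rfl
  have h3 := h1.trans (appLE_of_eq h2 _ _ _)
  exact congrArg (fun φ => φ.hom x) h3

lemma hlam {j k : Over i₀} (b : k ⟶ j) (x : R D i₀ a j) :
    lam D c i₀ a k (τ D i₀ a b x) = lam D c i₀ a j x := by
  have h1 := Scheme.Hom.appLE_comp_appLE (c.π.app k.left) (D.map b.left) (D.map j.hom ⁻¹ᵁ a)
    (D.map k.hom ⁻¹ᵁ a) (c.π.app i₀ ⁻¹ᵁ a) (preimage_le_of_hom D b a)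
    (preimage_preimage_eq D c k a).ge
  have h2 : c.π.app k.left ≫ D.map b.left = c.π.app j.left := c.w b.left
  have h3 := h1.trans (appLE_of_eq h2 _ _ _)
  exact congrArg (fun φ => φ.hom x) h3

variable {ι : Type*} (f : ι → Γ(D.obj i₀, a))

/-- the functions at each stage -/
noncomputable def F (j : Over i₀) (k : ι) : R D i₀ a j := ((D.map j.hom).app a).hom (f k)

/-- the functions on the limit -/
noncomputable def Finf (k : ι) : Rinf D c i₀ a := ((c.π.app i₀).app a).hom (f k)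

lemma hF {j k : Over i₀} (b : k ⟶ j) (i : ι) : τ D i₀ a b (F D i₀ a f j i) = F D i₀ a f k i := by
  have h1 := (Scheme.Hom.comp_appLE (D.map b.left) (D.map j.hom) a (D.map k.hom ⁻¹ᵁ a)
    (by rw [← D.map_comp, Over.w b])).symm
  have h2 : D.map b.left ≫ D.map j.hom = D.map k.hom := by rw [← D.map_comp, Over.w b]
  have h3 := h1.trans ((appLE_of_eq h2 _ _ _).trans (Scheme.Hom.appLE_eq_app _))
  exact congrArg (fun φ => φ.hom (f i)) h3

lemma hFinf (j : Over i₀) (i : ι) : lam D c i₀ a j (F D i₀ a f j i) = Finf D c i₀ a f i := by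
  have h1 := (Scheme.Hom.comp_appLE (c.π.app j.left) (D.map j.hom) a (c.π.app i₀ ⁻¹ᵁ a)
    (by rw [c.w])).symm
  have h2 : c.π.app j.left ≫ D.map j.hom = c.π.app i₀ := c.w j.hom
  have h3 := h1.trans ((appLE_of_eq h2 _ _ _).trans (Scheme.Hom.appLE_eq_app _))
  exact congrArg (fun φ => φ.hom (f i)) h3

end

section Main

variable {I : Type u} [SmallCategory I] [IsCofiltered I] (D : I ⥤ Scheme.{u}) (c : Cone D)
  (hc : IsLimit c) [hAff : ∀ {i j : I} (g : i ⟶ j), IsAffineHom (D.map g)]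
  (i₀ : I) (a : (D.obj i₀).Opens) (ha : IsAffineOpen a)

include hc ha in
lemma hsurj (x : Rinf D c i₀ a) : ∃ (j : Over i₀) (s : R D i₀ a j), lam D c i₀ a j s = x := by
  obtain ⟨j, s, hs⟩ := exists_appLE_eq D c hc i₀ a ha x
  exact ⟨j, s, hs.symm⟩

include hc ha in
lemma hzero (j : Over i₀) (s : R D i₀ a j) (h : lam D c i₀ a j s = 0) :
    ∃ (k : Over i₀) (b : k ⟶ j), τ D i₀ a b s = 0 :=
  exists_appLE_eq_zero D c hc i₀ a ha j s h

include ha in
omit [IsCofiltered I] in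
lemma flat_τ [hFl : ∀ {i j : I} (g : i ⟶ j), Flat (D.map g)] {j k : Over i₀} (b : k ⟶ j) :
    (τ D i₀ a b).Flat :=
  HasRingHomProperty.appLE @Flat (D.map b.left) inferInstance ⟨_, ha.preimage _⟩
    ⟨_, ha.preimage _⟩ _

variable (U₀ : (D.obj i₀).Opens) {ι : Type*} (f : ι → Γ(D.obj i₀, a))

omit [IsCofiltered I] hAff in
lemma stage_le (j : Over i₀) (hf : a ⊓ U₀ ≤ ⨆ k, (D.obj i₀).basicOpen (f k)) :
    D.map j.hom ⁻¹ᵁ a ⊓ D.map j.hom ⁻¹ᵁ U₀ ≤
      ⨆ k, (D.obj j.left).basicOpen (F D i₀ a f j k) := by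
  intro x hx
  have hx' : (D.map j.hom) x ∈ a ⊓ U₀ := hx
  obtain ⟨k, hk⟩ := Opens.mem_iSup.mp (hf hx')
  refine Opens.mem_iSup.mpr ⟨k, ?_⟩
  have := Scheme.preimage_basicOpen (D.map j.hom) (f k)
  exact this ▸ hk

omit [IsCofiltered I] hAff in
lemma stage_basicOpen_le (j : Over i₀) (k : ι) (h : (D.obj i₀).basicOpen (f k) ≤ U₀) :
    (D.obj j.left).basicOpen (F D i₀ a f j k) ≤ D.map j.hom ⁻¹ᵁ U₀ := by
  have := Scheme.preimage_basicOpen (D.map j.hom) (f k)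
  exact this ▸ (D.map j.hom).preimage_mono h

omit [IsCofiltered I] hAff in
lemma limit_le (hf : a ⊓ U₀ ≤ ⨆ k, (D.obj i₀).basicOpen (f k)) :
    c.π.app i₀ ⁻¹ᵁ a ⊓ c.π.app i₀ ⁻¹ᵁ U₀ ≤ ⨆ k, c.pt.basicOpen (Finf D c i₀ a f k) := by
  intro x hx
  have hx' : (c.π.app i₀) x ∈ a ⊓ U₀ := hx
  obtain ⟨k, hk⟩ := Opens.mem_iSup.mp (hf hx')
  refine Opens.mem_iSup.mpr ⟨k, ?_⟩
  have := Scheme.preimage_basicOpen (c.π.app i₀) (f k)
  exact this ▸ hk

omit [IsCofiltered I] hAff in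
lemma limit_basicOpen_le (k : ι) (h : (D.obj i₀).basicOpen (f k) ≤ U₀) :
    c.pt.basicOpen (Finf D c i₀ a f k) ≤ c.π.app i₀ ⁻¹ᵁ U₀ := by
  have := Scheme.preimage_basicOpen (c.π.app i₀) (f k)
  exact this ▸ (c.π.app i₀).preimage_mono h

end Main

section Final

variable {I : Type u} [SmallCategory I] [IsCofiltered I] (D : I ⥤ Scheme.{u}) (c : Cone D)
  (hc : IsLimit c) [hAff : ∀ {i j : I} (g : i ⟶ j), IsAffineHom (D.map g)]
  [hFl : ∀ {i j : I} (g : i ⟶ j), Flat (D.map g)]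
  [∀ i : I, IsNoetherian (D.obj i)] (i₀ : I) (U₀ : (D.obj i₀).Opens)

include hc in
theorem dense_limit (i : I) (g : i ⟶ i₀) (hi : CInt.IsSchematicallyDense (D.map g ⁻¹ᵁ U₀)) :
    CInt.IsSchematicallyDense (c.π.app i₀ ⁻¹ᵁ U₀) := by
  have hπ : IsAffineHom (c.π.app i₀) := isAffineHom_π_app D c hc i₀
  choose t ht using fun a : (D.obj i₀).affineOpens => exists_finset_basicOpen_eq a.2 U₀
  have hle : ∀ (a : (D.obj i₀).affineOpens) (k : t a),
      (D.obj i₀).basicOpen (k : Γ(D.obj i₀, a.1)) ≤ U₀ := fun a k =>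
    (le_iSup (fun k : t a => (D.obj i₀).basicOpen (k : Γ(D.obj i₀, a.1))) k).trans
      ((ht a).ge.trans inf_le_right)
  refine isSchematicallyDense_of_torFree (c.π.app i₀ ⁻¹ᵁ U₀) (α := (D.obj i₀).affineOpens)
    (fun a => c.π.app i₀ ⁻¹ᵁ a.1) (fun a => a.2.preimage _) ?_ (fun a => ↥(t a))
    (fun a => Finf D c i₀ a.1 (fun k : t a => (k : Γ(D.obj i₀, a.1))))
    (fun a k => limit_basicOpen_le D c i₀ a.1 U₀ _ k (hle a k)) ?_
  · intro x
    obtain ⟨_, ⟨V, hV, rfl⟩, hxV, -⟩ := (D.obj i₀).isBasis_affineOpens.exists_subset_of_mem_open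
      (Set.mem_univ ((c.π.app i₀) x)) isOpen_univ
    exact ⟨⟨V, hV⟩, hxV⟩
  · intro a
    refine Sys.torFree_limit (R D i₀ a.1) (Rinf D c i₀ a.1) (@τ _ _ D i₀ a.1) (lam D c i₀ a.1)
      (hτ D i₀ a.1) (hlam D c i₀ a.1) (hsurj D c hc i₀ a.1 a.2) (hzero D c hc i₀ a.1 a.2)
      (F D i₀ a.1 _) (Finf D c i₀ a.1 _) (hF D i₀ a.1 _) (hFinf D c i₀ a.1 _) (Over.mk g) ?_
    rintro k ⟨b⟩
    have h1 : TorFree (F D i₀ a.1 (fun k : t a => (k : Γ(D.obj i₀, a.1))) (Over.mk g)) :=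
      torFree_of_isSchematicallyDense (D.map g ⁻¹ᵁ U₀) hi _
        (stage_le D i₀ a.1 U₀ _ (Over.mk g) (ht a).le)
    let _ := (τ D i₀ a.1 b).toAlgebra
    have : Module.Flat (R D i₀ a.1 (Over.mk g)) (R D i₀ a.1 k) := flat_τ D i₀ a.1 a.2 b
    have h2 := torFree_of_flat (A := R D i₀ a.1 (Over.mk g)) (B := R D i₀ a.1 k)
      (F D i₀ a.1 (fun k : t a => (k : Γ(D.obj i₀, a.1))) (Over.mk g))
      (fun x hx => by rw [h1 x hx, map_zero])
    intro x hx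
    apply h2
    intro i
    obtain ⟨N, hN⟩ := hx i
    refine ⟨N, ?_⟩
    change τ D i₀ a.1 b (F D i₀ a.1 _ (Over.mk g) i) ^ N * x = 0
    rw [hF]
    exact hN

include hc in
theorem dense_stage (h : CInt.IsSchematicallyDense (c.π.app i₀ ⁻¹ᵁ U₀)) :
    ∃ (i : I) (g : i ⟶ i₀), CInt.IsSchematicallyDense (D.map g ⁻¹ᵁ U₀) := by
  classical
  have hπ : IsAffineHom (c.π.app i₀) := isAffineHom_π_app D c hc i₀
  choose t ht using fun a : (D.obj i₀).affineOpens => exists_finset_basicOpen_eq a.2 U₀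
  have hle : ∀ (a : (D.obj i₀).affineOpens) (k : t a),
      (D.obj i₀).basicOpen (k : Γ(D.obj i₀, a.1)) ≤ U₀ := fun a k =>
    (le_iSup (fun k : t a => (D.obj i₀).basicOpen (k : Γ(D.obj i₀, a.1))) k).trans
      ((ht a).ge.trans inf_le_right)
  have key : ∀ a : (D.obj i₀).affineOpens, ∃ (j : Over i₀) (_ : j ⟶ Over.mk (𝟙 i₀)),
      ∀ (k : Over i₀) (_ : k ⟶ j),
        TorFree (F D i₀ a.1 (fun k : t a => (k : Γ(D.obj i₀, a.1))) k) := by
    intro a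
    have : IsNoetherianRing (R D i₀ a.1 (Over.mk (𝟙 i₀))) :=
      IsLocallyNoetherian.component_noetherian
        (⟨_, a.2.preimage (D.map (𝟙 i₀))⟩ : (D.obj i₀).affineOpens)
    exact Sys.exists_stage_torFree (R D i₀ a.1) (Rinf D c i₀ a.1) (@τ _ _ D i₀ a.1)
      (lam D c i₀ a.1) (hτ D i₀ a.1) (hlam D c i₀ a.1) (hzero D c hc i₀ a.1 a.2)
      (F D i₀ a.1 _) (Finf D c i₀ a.1 _) (hF D i₀ a.1 _) (hFinf D c i₀ a.1 _) (Over.mk (𝟙 i₀))
      (fun b => flat_τ D i₀ a.1 a.2 b)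
      (torFree_of_isSchematicallyDense (c.π.app i₀ ⁻¹ᵁ U₀) h _
        (limit_le D c i₀ a.1 U₀ _ (ht a).le))
  choose ja _ hja using key
  obtain ⟨s, hsfin, hs⟩ := (isCompact_iff_finite_and_eq_biUnion_affineOpens
    (U := (⊤ : (D.obj i₀).Opens))).mp isCompact_univ
  obtain ⟨j, hj⟩ := IsCofiltered.inf_objs_exists (hsfin.toFinset.image ja)
  refine ⟨j.left, j.hom, ?_⟩
  refine isSchematicallyDense_of_torFree (D.map j.hom ⁻¹ᵁ U₀) (α := s)
    (fun a => D.map j.hom ⁻¹ᵁ a.1.1) (fun a => a.1.2.preimage _) ?_ (fun a => ↥(t a.1))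
    (fun a => F D i₀ a.1.1 (fun k : t a.1 => (k : Γ(D.obj i₀, a.1.1))) j)
    (fun a k => stage_basicOpen_le D i₀ a.1.1 U₀ _ j k (hle a.1 k)) ?_
  · intro x
    have hx : (D.map j.hom) x ∈ (⊤ : (D.obj i₀).Opens) := trivial
    rw [hs] at hx
    obtain ⟨a, hxa⟩ := Opens.mem_iSup.mp hx
    obtain ⟨has, hxa⟩ := Opens.mem_iSup.mp hxa
    exact ⟨⟨a, has⟩, hxa⟩
  · intro a
    obtain ⟨b⟩ := hj (Finset.mem_image_of_mem ja (hsfin.mem_toFinset.mpr a.2))
    exact hja a.1 j b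

end Final

/-- Let (X_i) be a cofiltered system of Noetherian schemes with affine and flat transition morphisms, X
its limit, assumed Noetherian as well, and U₀ an open subset of X_{i₀}, with inverse images U_i in
X_i (for i over i₀) and U in X. Then U is schematically dense in X if and only if there is an index
i over i₀ such that U_i is schematically dense in X_i (and then, the transition morphisms being
flat, U_j is schematically dense in X_j for every j over i). -/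
theorem result {I : Type u} [SmallCategory I]
    [IsCofiltered I] (D : I ⥤ Scheme.{u}) (c : Limits.Cone D) (hc : Limits.IsLimit c)
    [∀ (i j : I) (g : i ⟶ j), IsAffineHom (D.map g)] [∀ (i j : I) (g : i ⟶ j), Flat (D.map g)]
    [∀ i : I, IsNoetherian (D.obj i)] [IsNoetherian c.pt] (i₀ : I) (U₀ : (D.obj i₀).Opens) :
    CInt.IsSchematicallyDense ((c.π.app i₀) ⁻¹ᵁ U₀) ↔
      ∃ (i : I) (g : i ⟶ i₀), CInt.IsSchematicallyDense ((D.map g) ⁻¹ᵁ U₀) := by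
  have hAff : ∀ {i j : I} (g : i ⟶ j), IsAffineHom (D.map g) := fun g => inferInstance
  have hFl : ∀ {i j : I} (g : i ⟶ j), Flat (D.map g) := fun g => inferInstance
  exact ⟨fun h => dense_stage D c hc i₀ U₀ h, fun ⟨i, g, hi⟩ => dense_limit D c hc i₀ U₀ i g hi⟩

end Groth.Agent.S5107
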