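import Mathlib
import Groth.Statements.S5110
import Groth.Agent.Lib.Helper23.MaximalPoints
import Groth.Agent.S5106

set_option autoImplicit false
universe u
open CategoryTheory AlgebraicGeometry Topology
open Groth.Agent.Lib.Helper23

namespace Groth.Agent.S5110

/-- Let (S_i) be a cofiltered system of schemes with affine transition morphisms and S its limit, such
that every S_i has finitely many maximal points and the transition morphisms send maximal points to
maximal points; let S_{i₀} be quasi-compact and V₀ an open subset of S_{i₀}, with inverse images V_i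
in the S_i over i₀ and V in S. If V₀ is dense in S_{i₀} then every V_i and V are dense. Conversely,
if V is dense in S and S has only finitely many maximal points, then V_i is dense in S_i for some i
over i₀. -/
theorem result {I : Type u} [SmallCategory I] [IsCofiltered I]
    (D : I ⥤ Scheme.{u}) (c : Limits.Cone D) (hc : Limits.IsLimit c)
    [∀ (i j : I) (g : i ⟶ j), IsAffineHom (D.map g)]
    (hfin : ∀ i : I, {s : ↥(D.obj i) | ∀ z : ↥(D.obj i), z ⤳ s → z = s}.Finite)
    (hsys : ∀ (i j : I) (g : i ⟶ j) (s : ↥(D.obj i)), (∀ z : ↥(D.obj i), z ⤳ s → z = s) →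
      ∀ z : ↥(D.obj j), z ⤳ D.map g s → z = D.map g s)
    (i₀ : I) [CompactSpace ↥(D.obj i₀)] (V₀ : (D.obj i₀).Opens) :
    (Dense (V₀ : Set ↥(D.obj i₀)) →
        (∀ (i : I) (g : i ⟶ i₀), Dense (((D.map g) ⁻¹ᵁ V₀ : (D.obj i).Opens) : Set ↥(D.obj i))) ∧
          Dense (((c.π.app i₀) ⁻¹ᵁ V₀ : c.pt.Opens) : Set ↥c.pt)) ∧
      (Dense (((c.π.app i₀) ⁻¹ᵁ V₀ : c.pt.Opens) : Set ↥c.pt) →
        {s : ↥c.pt | ∀ z : ↥c.pt, z ⤳ s → z = s}.Finite →
          ∃ (i : I) (g : i ⟶ i₀), Dense (((D.map g) ⁻¹ᵁ V₀ : (D.obj i).Opens) : Set ↥(D.obj i))) := by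
  have inst : ∀ {i j : I} (f : i ⟶ j), IsAffineHom (D.map f) := fun f => inferInstance
  refine ⟨fun hd => ⟨fun i g => ?_, ?_⟩, fun hd hfinS => ?_⟩
  · refine dense_of_forall_maximal_mem fun η hη => ?_
    exact mem_of_dense_of_maximal (hfin i₀) V₀.2 hd (hsys i i₀ g η hη)
  · refine dense_of_forall_maximal_mem fun s hs => ?_
    have h1 := (Groth.Agent.S5106.result D c hc hfin hsys s).mp hs i₀
    exact mem_of_dense_of_maximal (hfin i₀) V₀.2 hd h1
  · by_contra hcon
    push Not at hcon
    have instO : ∀ {j k : Over i₀} (f : j ⟶ k), IsAffineHom ((Over.forget i₀ ⋙ D).map f) :=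
      fun f => inst f.left
    obtain ⟨p, hp⟩ := exists_maximal_point_of_finite (Over.forget i₀ ⋙ D)
      (c.whisker (Over.forget i₀))
      ((Functor.Initial.isLimitWhiskerEquiv (Over.forget i₀) c).symm hc)
      (fun j => {z : D.obj j.left | (∀ w : D.obj j.left, w ⤳ z → w = z) ∧ D.map j.hom z ∉ V₀})
      (fun j => (hfin j.left).subset fun z hz => hz.1)
      (fun j => by
        by_contra hne
        refine hcon j.left j.hom (dense_of_forall_maximal_mem fun η hη => ?_)
        by_contra hηV
        exact hne ⟨η, hη, hηV⟩)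
      (fun {j k} φ z hz => ⟨hsys _ _ φ.left z hz.1, by
        have h2 : D.map k.hom (D.map φ.left z) = D.map j.hom z := by
          rw [← Scheme.Hom.comp_apply, ← D.map_comp, Over.w]
        change D.map k.hom (D.map φ.left z) ∉ V₀
        rw [h2]
        exact hz.2⟩)
    have hpmax : ∀ z : c.pt, z ⤳ p → z = p := by
      refine maximal_of_forall_π_app_maximal D c hc fun i => ?_
      have h3 := (hp (Over.mk (IsCofiltered.minToRight i i₀))).1
      have h4 : c.π.app i p = D.map (IsCofiltered.minToLeft i i₀)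
          (c.π.app (IsCofiltered.min i i₀) p) := by
        rw [← Scheme.Hom.comp_apply, c.w]
      rw [h4]
      exact hsys _ _ _ _ h3
    have hpV : p ∈ ((c.π.app i₀) ⁻¹ᵁ V₀ : c.pt.Opens) :=
      mem_of_dense_of_maximal hfinS ((c.π.app i₀) ⁻¹ᵁ V₀).2 hd hpmax
    have h5 := (hp (Over.mk (𝟙 i₀))).2
    apply h5
    change D.map (𝟙 i₀) (c.π.app i₀ p) ∈ V₀
    rw [D.map_id]
    exact hpV

end Groth.Agent.S5110
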