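import Groth.Statements.S5115
import Groth.Agent.H8.RadDescent

set_option autoImplicit false
universe u
open EtBase

namespace Groth.Agent.S5115

open AlgebraicGeometry CategoryTheory CategoryTheory.Limits in
/-- Let g : S' ⟶ S be faithfully flat (flat and surjective), quasi-compact and radicial (universally
injective). Then base change along g is an equivalence from the category of schemes etale over S to
the category of schemes etale over S'. -/
theorem result {S S' : Scheme.{u}} (g : S' ⟶ S)
    [Flat g] [Surjective g] [QuasiCompact g] [UniversallyInjective g] :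
    (EtCoh.bc g).IsEquivalence := by
  haveI : GeometricallyConnected g := Groth.Agent.H8.RadDescent.geometricallyConnected_of_radicial g
  have hP : ∀ (X Y : S.Etale), Function.Bijective
      (fun φ : (Scheme.Etale.forget S).obj Y ⟶ (Scheme.Etale.forget S).obj X =>
        (Over.pullback g).map φ) := by
    intro X Y
    have : AlgebraicGeometry.Etale ((Scheme.Etale.forget S).obj X).hom := X.prop
    exact Groth.Agent.H8.RadDescent.bijective_pullback_map g _ _
  have hfaith : (Scheme.Etale.forget S ⋙ Over.pullback g).Faithful := by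
    refine ⟨fun {Y X} f g' h => ?_⟩
    exact (Scheme.Etale.forget S).map_injective ((hP X Y).1 h)
  have hfull : (Scheme.Etale.forget S ⋙ Over.pullback g).Full := by
    refine ⟨fun {Y X} φ => ?_⟩
    obtain ⟨ψ, hψ⟩ := (hP X Y).2 φ
    obtain ⟨ψ', rfl⟩ := (Scheme.Etale.forget S).map_surjective ψ
    exact ⟨ψ', hψ⟩
  let e : EtCoh.bc g ⋙ Scheme.Etale.forget S' ≅ Scheme.Etale.forget S ⋙ Over.pullback g :=
    MorphismProperty.Over.pullbackCompForgetIso (P := EtCoh.etaleMP) (Q := ⊤) g
  have hfaith' : (EtCoh.bc g ⋙ Scheme.Etale.forget S').Faithful := Functor.Faithful.of_iso e.symm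
  have hfull' : (EtCoh.bc g ⋙ Scheme.Etale.forget S').Full := Functor.Full.of_iso e.symm
  have h1 : (EtCoh.bc g).Faithful := Functor.Faithful.of_comp (EtCoh.bc g) (Scheme.Etale.forget S')
  have h2 : (EtCoh.bc g).Full := Functor.Full.of_comp_faithful (EtCoh.bc g) (Scheme.Etale.forget S')
  have h3 : (EtCoh.bc g).EssSurj := by
    refine ⟨fun V => ?_⟩
    have : AlgebraicGeometry.Etale ((Scheme.Etale.forget S').obj V).hom := V.prop
    obtain ⟨U, hU, ε, hε⟩ :=
      Groth.Agent.H8.RadDescent.exists_descent g ((Scheme.Etale.forget S').obj V)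
    refine ⟨Scheme.Etale.mk U.hom, ⟨?_⟩⟩
    exact MorphismProperty.Over.isoMk ε hε
  exact { faithful := h1, full := h2, essSurj := h3 }

end Groth.Agent.S5115
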