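import Groth.Statements.S5118
import Groth.Agent.Lib.Helper25.Monogenic
import Mathlib.RingTheory.Etale.StandardEtale

set_option autoImplicit false
universe u
open SGA1t

namespace Groth.Agent.S5118

open Polynomial

section
variable (A : Type u) [CommRing A] (n : ℕ)

theorem monic_f (hn : 1 ≤ n) : (X ^ n - 1 : A[X]).Monic := by
  have : (X ^ n - 1 : A[X]) = X ^ n - C 1 := by rw [C_1]
  rw [this]
  exact monic_X_pow_sub_C 1 (by omega)

theorem derivative_f : derivative (X ^ n - 1 : A[X]) = C (n : A) * X ^ (n - 1) := by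
  rw [derivative_sub, derivative_one, sub_zero, derivative_X_pow]

/-- The standard étale pair `(X^n - 1, 1)` when `n` is invertible. -/
noncomputable def pair (hn : 1 ≤ n) (m : A) (hm : (n : A) * m = 1) : StandardEtalePair A where
  f := X ^ n - 1
  monic_f := monic_f A n hn
  g := 1
  cond := ⟨C m * X, -1, 1, by
    rw [derivative_f]
    have h1 : (X : A[X]) ^ (n - 1) * X = X ^ n := by
      rw [← pow_succ, Nat.sub_add_cancel hn]
    have h2 : C (n : A) * X ^ (n - 1) * (C m * X) = C ((n : A) * m) * (X ^ (n - 1) * X) := by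
      rw [C_mul]; ring
    rw [h2, h1, hm, C_1]
    ring⟩

theorem hasMap_root (P : StandardEtalePair A) (hg : P.g = 1) : P.HasMap (AdjoinRoot.root P.f) := by
  unfold StandardEtalePair.HasMap
  exact ⟨by rw [AdjoinRoot.aeval_eq, AdjoinRoot.mk_self], by rw [hg, map_one]; exact isUnit_one⟩

theorem eval₂_X_f (P : StandardEtalePair A) :
    eval₂ (Algebra.ofId A P.Ring : A →+* P.Ring) P.X P.f = 0 := by
  have := P.hasMap_X
  unfold StandardEtalePair.HasMap at this
  have h1 := this.1
  rwa [aeval_def] at h1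

/-- A standard étale algebra with `g = 1` is `AdjoinRoot f`. -/
noncomputable def equivAdjoinRoot (P : StandardEtalePair A) (hg : P.g = 1) :
    P.Ring ≃ₐ[A] AdjoinRoot P.f :=
  AlgEquiv.ofAlgHom
    (P.lift (AdjoinRoot.root P.f) (hasMap_root A P hg))
    (AdjoinRoot.liftAlgHom P.f (Algebra.ofId A _) P.X (eval₂_X_f A P))
    (by
      apply AdjoinRoot.algHom_ext
      rw [AlgHom.comp_apply, AdjoinRoot.liftAlgHom_root]
      exact P.lift_X _ _)
    (by
      apply StandardEtalePair.hom_ext
      rw [AlgHom.comp_apply, P.lift_X, AdjoinRoot.liftAlgHom_root]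
      rfl)

theorem etale_of_isUnit (hn : 1 ≤ n) (h : IsUnit ((n : ℕ) : A)) :
    Algebra.Etale A (AdjoinRoot (X ^ n - 1 : A[X])) := by
  obtain ⟨m, hm⟩ := h.exists_right_inv
  exact Algebra.Etale.of_equiv (equivAdjoinRoot A (pair A n hn m hm) rfl)

theorem ker_aeval_root (f : A[X]) :
    RingHom.ker (aeval (AdjoinRoot.root f) : A[X] →ₐ[A] AdjoinRoot f) = Ideal.span {f} := by
  ext g
  rw [RingHom.mem_ker, AdjoinRoot.aeval_eq, AdjoinRoot.mk_eq_zero, Ideal.mem_span_singleton]

theorem isUnit_of_etale [Algebra.Etale A (AdjoinRoot (X ^ n - 1 : A[X]))] :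
    IsUnit ((n : ℕ) : A) := by
  set f : A[X] := X ^ n - 1 with hf
  have hann := Groth.Agent.Lib.Helper25.annihilator_eq_span_derivative
    (AdjoinRoot.root f) AdjoinRoot.adjoinRoot_eq_top f (ker_aeval_root A f)
  have hsub : Subsingleton (Ω[AdjoinRoot f⁄A]) := inferInstance
  have htop : Module.annihilator (AdjoinRoot f) (Ω[AdjoinRoot f⁄A]) = ⊤ := by
    rw [Ideal.eq_top_iff_one, Module.mem_annihilator]
    intro ω; exact Subsingleton.elim _ _
  rw [htop] at hann
  have hunit : IsUnit (aeval (AdjoinRoot.root f) (derivative f)) :=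
    Ideal.span_singleton_eq_top.mp hann.symm
  rw [hf, derivative_f, map_mul, aeval_C] at hunit
  have hunit' : IsUnit (algebraMap A (AdjoinRoot (X ^ n - 1 : A[X])) (n : A)) :=
    isUnit_of_mul_isUnit_left hunit
  -- the augmentation `root ↦ 1`
  let ε : AdjoinRoot (X ^ n - 1 : A[X]) →ₐ[A] A :=
    AdjoinRoot.liftAlgHom (X ^ n - 1 : A[X]) (Algebra.ofId A A) 1 (by simp)
  have := hunit'.map ε
  simpa using this

end

open Polynomial in
/-- The etaleness criterion for the Kummer group scheme: Let A be a commutative ring and n ≥ 1. The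
group scheme μ_n over Spec A is the spectrum of A[t]/(t^n − 1), a free A-module of rank n; it is
etale over A if and only if n is a unit of A (equivalently, n is prime to the characteristic of the
residue field at every point of Spec A). -/
theorem result (A : Type u) [CommRing A] (n : ℕ) (hn : 1 ≤ n) :
    Algebra.Etale A (AdjoinRoot ((X : A[X]) ^ n - 1)) ↔ IsUnit ((n : ℕ) : A) :=
  ⟨fun _ => isUnit_of_etale A n, etale_of_isUnit A n hn⟩

end Groth.Agent.S5118
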