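import Groth.Statements.S5119

set_option autoImplicit false
universe u
open scoped LaurentPolynomial
open SGA1t

namespace Groth.Agent.S5119

open LaurentPolynomial

section
variable {A : Type u} [CommRing A] (n : ℕ) (hn : 1 ≤ n)

theorem mulLeft_injective (n : ℕ) (hn : 1 ≤ n) :
    Function.Injective (AddMonoidHom.mulLeft (n : ℤ)) := by
  intro a b hab
  have hn' : (n : ℤ) ≠ 0 := by exact_mod_cast (by omega : n ≠ 0)
  exact mul_left_cancel₀ hn' (by simpa using hab)

include hn in
/-- Coefficient extraction: the coefficient of `Σ_i u_n(c_i) T^i` at `n m + j` is that of `c_j`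
at `m`. -/
theorem key (c : Fin n → A[T;T⁻¹]) (m : ℤ) (j : Fin n) :
    (∑ i : Fin n, (AddMonoidAlgebra.mapDomainRingHom A (AddMonoidHom.mulLeft (n : ℤ)) :
        A[T;T⁻¹] →+* A[T;T⁻¹]) (c i) * LaurentPolynomial.T (i : ℤ)).coeff ((n : ℤ) * m + j) =
      (c j).coeff m := by
  rw [AddMonoidAlgebra.coeff_sum, Finsupp.finsetSum_apply, Finset.sum_eq_single j]
  · rw [LaurentPolynomial.T, AddMonoidAlgebra.coeff_mul_single_apply, mul_one,
      AddMonoidAlgebra.mapDomainRingHom_apply, AddMonoidAlgebra.coeff_mapDomain]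
    have : (n : ℤ) * m + (j : ℤ) + -(j : ℤ) = AddMonoidHom.mulLeft (n : ℤ) m := by
      simp
    rw [this, Finsupp.mapDomain_apply (mulLeft_injective n hn)]
  · intro i _ hij
    rw [LaurentPolynomial.T, AddMonoidAlgebra.coeff_mul_single_apply, mul_one,
      AddMonoidAlgebra.mapDomainRingHom_apply, AddMonoidAlgebra.coeff_mapDomain]
    apply Finsupp.mapDomain_of_notMem_range
    rintro ⟨k, hk⟩
    simp only [AddMonoidHom.coe_mulLeft] at hk
    have hi := i.2
    have hj := j.2
    have hne : (i : ℤ) ≠ (j : ℤ) := by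
      intro h; exact hij (Fin.ext (by exact_mod_cast h))
    have h1 : (n : ℤ) * (k - m) = (j : ℤ) - (i : ℤ) := by linarith
    have h2 : (n : ℤ) ∣ (j : ℤ) - (i : ℤ) := ⟨k - m, h1.symm⟩
    have h3 : |(j : ℤ) - (i : ℤ)| < n := by
      rw [abs_lt]; constructor <;> omega
    have := Int.eq_zero_of_abs_lt_dvd h2 h3
    omega
  · intro h; exact absurd (Finset.mem_univ j) h

end

/-- The computation behind the exactness of the Kummer sequence 0 → μ_n → G_m → G_m → 0, i.e. faithful
flatness of the n-th power map u_n of G_m: Let A be a commutative ring and n ≥ 1, and let u_n be the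
ring endomorphism of A[t, t⁻¹] with u_n(t) = t^n (on monomials, t^k ↦ t^{nk}). Then A[t, t⁻¹] is
free of rank n over itself via u_n, with basis 1, t, …, t^{n−1}: every Laurent polynomial q can be
written in exactly one way as Σ_{i<n} u_n(c_i) t^i. -/
theorem result (A : Type u) [CommRing A] (n : ℕ) (hn : 1 ≤ n) (q : A[T;T⁻¹]) :
    ∃! c : Fin n → A[T;T⁻¹],
      q = ∑ i : Fin n, (AddMonoidAlgebra.mapDomainRingHom A (AddMonoidHom.mulLeft (n : ℤ)) : A[T;T⁻¹] →+* A[T;T⁻¹]) (c i) *
        LaurentPolynomial.T (i : ℤ) := by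
  have hn0 : (n : ℤ) ≠ 0 := by exact_mod_cast (by omega : n ≠ 0)
  have hnpos : (0 : ℤ) < n := by exact_mod_cast hn
  have hinj : ∀ i : Fin n, Function.Injective (fun m : ℤ => (n : ℤ) * m + (i : ℤ)) := by
    intro i a b hab
    simp only [add_left_inj] at hab
    exact mul_left_cancel₀ hn0 hab
  refine ⟨fun i => AddMonoidAlgebra.comapDomain (fun m : ℤ => (n : ℤ) * m + (i : ℤ)) (hinj i) q,
    ?_, ?_⟩
  · apply AddMonoidAlgebra.ext
    ext k
    have hk : k = (n : ℤ) * (k / n) + ((⟨(k % n).toNat, by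
        have := Int.emod_lt_of_pos k hnpos
        have := Int.emod_nonneg k hn0
        omega⟩ : Fin n) : ℕ) := by
      have h1 := Int.emod_nonneg k hn0
      simp only [Int.toNat_of_nonneg h1]
      exact (Int.mul_ediv_add_emod k n).symm
    conv_rhs => rw [hk]
    rw [key n hn, AddMonoidAlgebra.coeff_comapDomain, Finsupp.comapDomain_apply]
    congr 1
  · intro c hc
    funext j
    apply AddMonoidAlgebra.ext
    ext m
    rw [AddMonoidAlgebra.coeff_comapDomain, Finsupp.comapDomain_apply, hc, key n hn]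

end Groth.Agent.S5119
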