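import Groth.Statements.S5120

set_option autoImplicit false
set_option linter.unusedSectionVars false
universe u
open SGA1t

namespace Groth.Agent.S5120

open Polynomial

section
variable {A : Type u} [CommRing A] [Nontrivial A] (p : ℕ) (hp : 2 ≤ p)

/-- The monic polynomial `X^p - X`. -/
noncomputable def G (A : Type u) [CommRing A] (p : ℕ) : A[X] := X ^ p - X

include hp in
theorem G_monic : (G A p).Monic := by
  unfold G
  apply monic_X_pow_sub
  rw [degree_X]
  exact_mod_cast (by omega : 1 < p)

include hp in
theorem G_natDegree : (G A p).natDegree = p := by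
  unfold G
  rw [natDegree_sub_eq_left_of_natDegree_lt]
  · exact natDegree_X_pow p
  · rw [natDegree_X_pow, natDegree_X]; omega

theorem neg_G : (X - X ^ p : A[X]) = - G A p := by unfold G; ring

theorem sum_const_eq (q : A[X]) (hq : q.natDegree < p) :
    q = ∑ i : Fin p, aeval (X - X ^ p : A[X]) (C (q.coeff i)) * X ^ (i : ℕ) := by
  conv_lhs => rw [as_sum_range' q p hq]
  rw [← Fin.sum_univ_eq_sum_range (fun i => monomial i (q.coeff i)) p]
  refine Finset.sum_congr rfl fun i _ => ?_
  rw [aeval_C, ← C_mul_X_pow_eq_monomial]
  rfl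

include hp in
theorem exists_rep : ∀ (n : ℕ) (q : A[X]), q.natDegree ≤ n →
    ∃ c : Fin p → A[X], q = ∑ i : Fin p, aeval (X - X ^ p : A[X]) (c i) * X ^ (i : ℕ) := by
  intro n
  induction n using Nat.strong_induction_on with
  | _ n ih =>
    intro q hq
    by_cases hlt : q.natDegree < p
    · exact ⟨fun i => C (q.coeff i), sum_const_eq p q hlt⟩
    · push Not at hlt
      have hG := G_monic (A := A) p hp
      have hGd := G_natDegree (A := A) p hp
      have hQ : (q /ₘ G A p).natDegree < n := by
        rw [natDegree_divByMonic q hG, hGd]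
        omega
      obtain ⟨c', hc'⟩ := ih _ hQ (q /ₘ G A p) le_rfl
      have hR : (q %ₘ G A p).natDegree < p := by
        have := natDegree_modByMonic_lt q hG (by
          intro h
          have := congrArg natDegree h
          rw [hGd, natDegree_one] at this
          omega)
        rwa [hGd] at this
      refine ⟨fun i => -X * c' i + C ((q %ₘ G A p).coeff i), ?_⟩
      have h1 : ∀ i : Fin p, aeval (X - X ^ p : A[X]) (-X * c' i + C ((q %ₘ G A p).coeff i))
            * X ^ (i : ℕ) =
          G A p * (aeval (X - X ^ p : A[X]) (c' i) * X ^ (i : ℕ)) +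
            aeval (X - X ^ p : A[X]) (C ((q %ₘ G A p).coeff i)) * X ^ (i : ℕ) := by
        intro i
        simp only [map_add, map_mul, map_neg, aeval_X, aeval_C]
        rw [neg_G]
        ring
      simp only [h1]
      rw [Finset.sum_add_distrib, ← Finset.mul_sum, ← hc', ← sum_const_eq p _ hR, add_comm]
      exact (modByMonic_add_div q (G A p)).symm

include hp in
theorem unique_zero : ∀ (n : ℕ) (d : Fin p → A[X]), (∀ i m, n ≤ m → (d i).coeff m = 0) →
    ∑ i : Fin p, aeval (X - X ^ p : A[X]) (d i) * X ^ (i : ℕ) = 0 → d = 0 := by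
  intro n
  induction n with
  | zero =>
    intro d hd _
    funext i
    ext m
    simpa using hd i m (Nat.zero_le _)
  | succ n ih =>
    intro d hd hsum
    have hG := G_monic (A := A) p hp
    have hGd := G_natDegree (A := A) p hp
    have hdec : ∀ i, d i = divX (d i) * X + C ((d i).coeff 0) := fun i => (divX_mul_X_add (d i)).symm
    have h1 : ∀ i : Fin p, aeval (X - X ^ p : A[X]) (d i) * X ^ (i : ℕ) =
        C ((d i).coeff 0) * X ^ (i : ℕ) +
          G A p * (-(aeval (X - X ^ p : A[X]) (divX (d i)) * X ^ (i : ℕ))) := by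
      intro i
      conv_lhs => rw [hdec i]
      simp only [map_add, map_mul, aeval_X, aeval_C]
      rw [neg_G]
      simp only [algebraMap_eq]
      ring
    simp only [h1] at hsum
    rw [Finset.sum_add_distrib, ← Finset.mul_sum, Finset.sum_neg_distrib] at hsum
    have hdeg : (∑ i : Fin p, C ((d i).coeff 0) * X ^ (i : ℕ)).degree < (G A p).degree := by
      rw [degree_eq_natDegree hG.ne_zero, hGd]
      exact degree_sum_fin_lt _
    obtain ⟨hq0, hr0⟩ := div_modByMonic_unique _ _ hG ⟨hsum, hdeg⟩
    rw [zero_divByMonic] at hq0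
    rw [zero_modByMonic] at hr0
    have hQ : ∑ i : Fin p, aeval (X - X ^ p : A[X]) (divX (d i)) * X ^ (i : ℕ) = 0 := by
      rw [← neg_eq_zero]; exact hq0.symm
    have he : (fun i => divX (d i)) = 0 := by
      apply ih _ _ hQ
      intro i m hm
      rw [coeff_divX]
      exact hd i (m + 1) (by omega)
    have hr : ∀ j : Fin p, (d j).coeff 0 = 0 := by
      intro j
      have := congrArg (fun f => f.coeff (j : ℕ)) hr0
      simp only [coeff_zero, finsetSum_coeff, coeff_C_mul, coeff_X_pow] at this
      rw [Finset.sum_eq_single j] at this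
      · simpa using this.symm
      · intro i _ hij
        have : (j : ℕ) ≠ (i : ℕ) := fun h => hij (Fin.ext h.symm)
        simp [this]
      · intro h; exact absurd (Finset.mem_univ j) h
    funext i
    rw [hdec i]
    have := congrFun he i
    simp only [Pi.zero_apply] at this
    rw [this, hr i]
    simp

end

/-- The computation behind the exactness of the Artin-Schreier sequence 0 → Z/p → G_a → G_a → 0 in
characteristic p, i.e. faithful flatness of ℘ = id − F: Let p be a prime and A a ring of
characteristic p. Then A[t] is free of rank p over itself via the endomorphism t ↦ t − t^p, with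
basis 1, t, …, t^{p−1}: every polynomial q can be written in exactly one way as Σ_{i<p} c_i(t − t^p)
t^i. -/
theorem result (p : ℕ) [Fact p.Prime] (A : Type u) [CommRing A] [CharP A p]
    (q : A[X]) :
    ∃! c : Fin p → A[X], q = ∑ i : Fin p, aeval (X - X ^ p : A[X]) (c i) * X ^ (i : ℕ) := by
  have hp : 2 ≤ p := (Fact.out : p.Prime).two_le
  have : Nontrivial A := CharP.nontrivial_of_char_ne_one (R := A) (v := p) (by omega)
  obtain ⟨c, hc⟩ := exists_rep p hp _ q le_rfl
  refine ⟨c, hc, fun c' hc' => ?_⟩
  have hsub : ∑ i : Fin p, aeval (X - X ^ p : A[X]) ((c' - c) i) * X ^ (i : ℕ) = 0 := by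
    simp only [Pi.sub_apply, map_sub, sub_mul, Finset.sum_sub_distrib]
    rw [← hc, ← hc', sub_self]
  classical
  let n := (Finset.univ.sup fun i : Fin p => ((c' - c) i).natDegree) + 1
  have hz := unique_zero p hp n (c' - c) (by
    intro i m hm
    apply coeff_eq_zero_of_natDegree_lt
    have : ((c' - c) i).natDegree ≤ Finset.univ.sup fun i : Fin p => ((c' - c) i).natDegree :=
      Finset.le_sup (f := fun i : Fin p => ((c' - c) i).natDegree) (Finset.mem_univ i)
    omega) hsub
  exact sub_eq_zero.mp hz

end Groth.Agent.S5120
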