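import Groth.Statements.S5128
import Mathlib.AlgebraicGeometry.Morphisms.FlatMono
import Mathlib.AlgebraicGeometry.Morphisms.UniversallyInjective
import Mathlib.AlgebraicGeometry.Morphisms.Etale
import Mathlib.AlgebraicGeometry.Morphisms.IsIso

set_option autoImplicit false
universe u
open SGA1

namespace Groth.Agent.S5128

open AlgebraicGeometry CategoryTheory CategoryTheory.Limits in
/-- Let X and Y be S-schemes with Y etale over S. The map f ↦ Γ_f sending an S-morphism f : X ⟶ Y to the
subset of X ×_S Y underlying its graph is a bijection from Hom_S(X, Y) onto the set of open subsets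
Γ of X ×_S Y for which the restriction Γ → X of the first projection is radicial (universally
injective) and surjective. Stated as: the graph of every S-morphism is an open immersion, and every
such open Γ is the image of the graph of exactly one S-morphism. -/
theorem result {S X Y : Scheme.{u}} (p : X ⟶ S)
    (q : Y ⟶ S) [Etale q] :
    (∀ f : {f : X ⟶ Y // f ≫ q = p},
      IsOpenImmersion (pullback.lift (𝟙 X) f.1 ((Category.id_comp p).trans f.2.symm) : X ⟶ pullback p q)) ∧
    ∀ Γ : (pullback p q).Opens, UniversallyInjective (Γ.ι ≫ pullback.fst p q) → Surjective (Γ.ι ≫ pullback.fst p q) →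
      ∃! f : {f : X ⟶ Y // f ≫ q = p},
        Set.range (pullback.lift (𝟙 X) f.1 ((Category.id_comp p).trans f.2.symm) : X ⟶ pullback p q).base =
          (Γ : Set ↥(pullback p q)) := by
  have hdiag : IsOpenImmersion (pullback.diagonal q) := inferInstance
  refine ⟨?_, ?_⟩
  · rintro ⟨f, rfl⟩
    exact MorphismProperty.of_isPullback (P := @IsOpenImmersion)
      (pullback_lift_diagonal_isPullback f q) hdiag
  · intro Γ hinj hsurj
    set γ : (Γ : Scheme.{u}) ⟶ X := Γ.ι ≫ pullback.fst p q with hγ
    have hγet : Etale γ := by rw [hγ]; infer_instance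
    have hdγ : IsOpenImmersion (pullback.diagonal γ) := inferInstance
    have hdγs : Surjective (pullback.diagonal γ) := (UniversallyInjective.iff_diagonal γ).mp hinj
    have hdγi : IsIso (pullback.diagonal γ) :=
      (isIso_iff_isOpenImmersion_and_surjective _).mpr ⟨hdγ, hdγs⟩
    have hγmono : Mono γ := (pullback.isIso_diagonal_iff γ).mp hdγi
    have hγoi : IsOpenImmersion γ := IsOpenImmersion.of_flat_of_mono γ
    have hγiso : IsIso γ := (isIso_iff_isOpenImmersion_and_surjective _).mpr ⟨hγoi, hsurj⟩
    have hfq : (inv γ ≫ Γ.ι ≫ pullback.snd p q) ≫ q = p := by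
      rw [Category.assoc, Category.assoc, ← pullback.condition, IsIso.inv_comp_eq, hγ,
        Category.assoc]
    have hgraph : ∀ f : {f : X ⟶ Y // f ≫ q = p},
        Set.range (pullback.lift (𝟙 X) f.1 ((Category.id_comp p).trans f.2.symm) :
          X ⟶ pullback p q).base = (Γ : Set ↥(pullback p q)) →
        (pullback.lift (𝟙 X) f.1 ((Category.id_comp p).trans f.2.symm) : X ⟶ pullback p q) =
          inv γ ≫ Γ.ι := by
      intro f hf
      have hsub : Set.range (pullback.lift (𝟙 X) f.1 ((Category.id_comp p).trans f.2.symm) :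
          X ⟶ pullback p q).base ⊆ Set.range Γ.ι.base := by
        rw [hf, Scheme.Opens.range_ι]
      have hfac := IsOpenImmersion.lift_fac Γ.ι _ hsub
      have h1 : IsOpenImmersion.lift Γ.ι _ hsub ≫ γ = 𝟙 X := by
        rw [hγ, ← Category.assoc, hfac, pullback.lift_fst]
      rw [← hfac]
      congr 1
      rw [← cancel_mono γ, h1, IsIso.inv_hom_id]
    refine ⟨⟨inv γ ≫ Γ.ι ≫ pullback.snd p q, hfq⟩, ?_, ?_⟩
    · have heq : (pullback.lift (𝟙 X) (inv γ ≫ Γ.ι ≫ pullback.snd p q)
          ((Category.id_comp p).trans hfq.symm) : X ⟶ pullback p q) = inv γ ≫ Γ.ι := by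
        apply pullback.hom_ext
        · rw [pullback.lift_fst, Category.assoc, ← hγ, IsIso.inv_hom_id]
        · rw [pullback.lift_snd, Category.assoc]
      show Set.range (pullback.lift (𝟙 X) (inv γ ≫ Γ.ι ≫ pullback.snd p q)
          ((Category.id_comp p).trans hfq.symm) : X ⟶ pullback p q).base = _
      rw [heq]
      have : Set.range (inv γ ≫ Γ.ι).base = Set.range Γ.ι.base := by
        rw [Scheme.Hom.comp_base, TopCat.coe_comp, Set.range_comp,
          Set.range_eq_univ.mpr (inv γ).surjective, Set.image_univ]
      rw [this, Scheme.Opens.range_ι]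
    · intro f' hf'
      have := hgraph f' hf'
      apply Subtype.ext
      have h2 : f'.1 = (pullback.lift (𝟙 X) f'.1 ((Category.id_comp p).trans f'.2.symm) :
          X ⟶ pullback p q) ≫ pullback.snd p q := (pullback.lift_snd _ _ _).symm
      rw [h2, this, Category.assoc]

end Groth.Agent.S5128
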