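import Groth.Statements.S5132
-- import your own Groth.Agent.* helpers here

set_option autoImplicit false
open CategoryTheory AlgebraicGeometry
universe u
open SGA1

namespace Groth.Agent.S5132

/-- Quasi-compactness of a morphism descends along a surjective and quasi-compact base change; flatness
of the base change is not needed for this property. -/
theorem result :
    MorphismProperty.DescendsAlong @QuasiCompact (@Surjective ⊓ @QuasiCompact : MorphismProperty Scheme.{u}) := by
  apply MorphismProperty.DescendsAlong.mk'
  intro X Y Z f g _ hf hfst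
  obtain ⟨hf1, hf2⟩ := hf
  have hf1 : Surjective f := hf1
  have hf2 : QuasiCompact f := hf2
  have hfst : QuasiCompact (Limits.pullback.fst f g) := hfst
  constructor
  intro U hU hUc
  have hsurj : Function.Surjective (Limits.pullback.snd f g) :=
    (Limits.pullback.snd f g).surjective
  have h1 : IsCompact (f ⁻¹' U) := hf2.isCompact_preimage U hU hUc
  have h1o : IsOpen (f ⁻¹' U) := hU.preimage f.continuous
  have h2 : IsCompact ((Limits.pullback.fst f g) ⁻¹' (f ⁻¹' U)) :=
    hfst.isCompact_preimage _ h1o h1
  have h3 : g ⁻¹' U = (Limits.pullback.snd f g) '' ((Limits.pullback.fst f g) ⁻¹' (f ⁻¹' U)) := by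
    have : (Limits.pullback.fst f g) ⁻¹' (f ⁻¹' U) = (Limits.pullback.snd f g) ⁻¹' (g ⁻¹' U) := by
      ext x
      simp only [Set.mem_preimage]
      rw [← Scheme.Hom.comp_apply, ← Scheme.Hom.comp_apply, Limits.pullback.condition]
    rw [this, Set.image_preimage_eq _ hsurj]
  rw [h3]
  exact h2.image (Limits.pullback.snd f g).continuous

end Groth.Agent.S5132
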