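import Groth.Statements.S5135
import Mathlib.RingTheory.Flat.Basic
-- import your own Groth.Agent.* helpers here

set_option autoImplicit false
universe u
open scoped TensorProduct
open SGA1

namespace Groth.Agent.S5135

section
variable (A A' : Type u) [CommRing A] [CommRing A'] [Algebra A A']
  (M : Type u) [AddCommGroup M] [Module A M] (N' : Submodule A' (A' ⊗[A] M))

/-- the quotient map, `A`-linear -/
noncomputable abbrev qA : (A' ⊗[A] M) →ₗ[A] ((A' ⊗[A] M) ⧸ N') := N'.mkQ.restrictScalars A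

/-- `Ψ : (A' ⊗ A') ⊗ M → A' ⊗ Q'`, `(a ⊗ b) ⊗ m ↦ a ⊗ q (b ⊗ m)`. -/
noncomputable def Ψ : ((A' ⊗[A] A') ⊗[A] M) →ₗ[A] A' ⊗[A] ((A' ⊗[A] M) ⧸ N') :=
  (LinearMap.lTensor A' (qA A A' M N')) ∘ₗ (TensorProduct.assoc A A' A' M).toLinearMap

lemma Ψ_tmul (a b : A') (m : M) :
    Ψ A A' M N' ((a ⊗ₜ b) ⊗ₜ m) = a ⊗ₜ (N'.mkQ (b ⊗ₜ m)) := by
  simp [Ψ]

lemma Ψ_includeLeft :
    Ψ A A' M N' ∘ₗ ((Algebra.TensorProduct.includeLeft : A' →ₐ[A] A' ⊗[A] A').toLinearMap.rTensor M) =
      LinearMap.lTensor A' (qA A A' M N' ∘ₗ TensorProduct.mk A A' M 1) := by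
  ext a m
  simp [Ψ_tmul]

lemma Ψ_includeRight :
    Ψ A A' M N' ∘ₗ ((Algebra.TensorProduct.includeRight : A' →ₐ[A] A' ⊗[A] A').toLinearMap.rTensor M) =
      (TensorProduct.mk A A' _ 1) ∘ₗ qA A A' M N' := by
  ext a m
  simp [Ψ_tmul]

end

section
variable (A A' : Type u) [CommRing A] [CommRing A'] [Algebra A A']
  (M : Type u) [AddCommGroup M] [Module A M] (N' : Submodule A' (A' ⊗[A] M))

/-- the twisted action on the target -/
noncomputable def Tcd (c d : A') : (A' ⊗[A] ((A' ⊗[A] M) ⧸ N')) →ₗ[A] (A' ⊗[A] ((A' ⊗[A] M) ⧸ N')) :=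
  TensorProduct.map (LinearMap.mulLeft A c) ((LinearMap.lsmul A' ((A' ⊗[A] M) ⧸ N') d).restrictScalars A)

lemma Ψ_smul_tmul (c d : A') (w : (A' ⊗[A] A') ⊗[A] M) :
    Ψ A A' M N' ((c ⊗ₜ[A] d) • w) = Tcd A A' M N' c d (Ψ A A' M N' w) := by
  induction w using TensorProduct.induction_on with
  | zero => simp
  | add x y hx hy => rw [smul_add, map_add, map_add, map_add, hx, hy]
  | tmul s m =>
    induction s using TensorProduct.induction_on with
    | zero => simp
    | add x y hx hy =>
      rw [TensorProduct.add_tmul, smul_add, map_add, map_add, map_add, hx, hy]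
    | tmul a b =>
      rw [TensorProduct.smul_tmul', smul_eq_mul, Algebra.TensorProduct.tmul_mul_tmul, Ψ_tmul, Ψ_tmul]
      simp only [Tcd, TensorProduct.map_tmul, LinearMap.mulLeft_apply, LinearMap.coe_restrictScalars,
        LinearMap.lsmul_apply]
      rw [← map_smul, TensorProduct.smul_tmul', smul_eq_mul]

lemma Ψ_smul_eq_zero (t : A' ⊗[A] A') (w : (A' ⊗[A] A') ⊗[A] M) (hw : Ψ A A' M N' w = 0) :
    Ψ A A' M N' (t • w) = 0 := by
  induction t using TensorProduct.induction_on with
  | zero => simp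
  | add x y hx hy => rw [add_smul, map_add, hx, hy, add_zero]
  | tmul c d => rw [Ψ_smul_tmul, hw, map_zero]

lemma Ψ_span_eq_zero (w : (A' ⊗[A] A') ⊗[A] M)
    (hw : w ∈ Submodule.span (A' ⊗[A] A')
          ((N'.restrictScalars A).map
            ((Algebra.TensorProduct.includeRight : A' →ₐ[A] A' ⊗[A] A').toLinearMap.rTensor M) : Set ((A' ⊗[A] A') ⊗[A] M))) :
    Ψ A A' M N' w = 0 := by
  induction hw using Submodule.span_induction with
  | mem x hx =>
    obtain ⟨y, hy, rfl⟩ := hx
    have := LinearMap.congr_fun (Ψ_includeRight A A' M N') y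
    simp only [LinearMap.coe_comp, Function.comp_apply] at this
    rw [this]
    have hy0 : qA A A' M N' y = 0 := by
      simp only [qA, LinearMap.coe_restrictScalars, Submodule.mkQ_apply, Submodule.Quotient.mk_eq_zero]
      exact hy
    rw [hy0, map_zero]
  | zero => simp
  | add x y _ _ hx hy => rw [map_add, hx, hy, add_zero]
  | smul t x _ hx => exact Ψ_smul_eq_zero A A' M N' t x hx

end


/-- The affine case, in submodule form (descent of submodules, equivalently of quotient modules): for A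
⟶ A' faithfully flat, M an A-module and N' an A'-submodule of A' ⊗ M whose two extensions to (A' ⊗
A') ⊗ M, along a ↦ a ⊗ 1 and a ↦ 1 ⊗ a, generate the same submodule, N' is the base change of the
submodule of M formed by the elements m with 1 ⊗ m in N'. -/
theorem result (A A' : Type u) [CommRing A] [CommRing A'] [Algebra A A']
    [Module.FaithfullyFlat A A'] (M : Type u) [AddCommGroup M] [Module A M] (N' : Submodule A' (A' ⊗[A] M))
    (h : Submodule.span (A' ⊗[A] A')
          ((N'.restrictScalars A).map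
            ((Algebra.TensorProduct.includeLeft : A' →ₐ[A] A' ⊗[A] A').toLinearMap.rTensor M) : Set ((A' ⊗[A] A') ⊗[A] M)) =
        Submodule.span (A' ⊗[A] A')
          ((N'.restrictScalars A).map
            ((Algebra.TensorProduct.includeRight : A' →ₐ[A] A' ⊗[A] A').toLinearMap.rTensor M) : Set ((A' ⊗[A] A') ⊗[A] M))) :
    ((N'.restrictScalars A).comap (TensorProduct.mk A A' M 1)).baseChange A' = N' := by
  set N₀ := (N'.restrictScalars A).comap (TensorProduct.mk A A' M 1) with hN₀
  apply le_antisymm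
  · rw [Submodule.baseChange_eq_span, Submodule.span_le]
    rintro _ ⟨m, hm, rfl⟩
    exact hm
  · intro x hx
    let φ : M →ₗ[A] ((A' ⊗[A] M) ⧸ N') := qA A A' M N' ∘ₗ TensorProduct.mk A A' M 1
    have hker : LinearMap.ker φ = N₀ := by
      ext m
      simp only [φ, qA, LinearMap.mem_ker, LinearMap.coe_comp, LinearMap.coe_restrictScalars,
        Function.comp_apply, Submodule.mkQ_apply, Submodule.Quotient.mk_eq_zero, hN₀,
        Submodule.mem_comap, Submodule.restrictScalars_mem]
    have hex : Function.Exact N₀.subtype φ := by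
      rw [LinearMap.exact_iff, hker, Submodule.range_subtype]
    have hex' := Module.Flat.lTensor_exact A' hex
    -- (lTensor φ) x = 0
    have hx1 : ((Algebra.TensorProduct.includeLeft : A' →ₐ[A] A' ⊗[A] A').toLinearMap.rTensor M) x ∈
        Submodule.span (A' ⊗[A] A')
          ((N'.restrictScalars A).map
            ((Algebra.TensorProduct.includeLeft : A' →ₐ[A] A' ⊗[A] A').toLinearMap.rTensor M) : Set ((A' ⊗[A] A') ⊗[A] M)) :=
      Submodule.subset_span ⟨x, hx, rfl⟩
    rw [h] at hx1
    have hx2 := Ψ_span_eq_zero A A' M N' _ hx1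
    have hx3 : (LinearMap.lTensor A' φ) x = 0 := by
      have := LinearMap.congr_fun (Ψ_includeLeft A A' M N') x
      simp only [LinearMap.coe_comp, Function.comp_apply] at this
      rw [← this]
      exact hx2
    obtain ⟨z, hz⟩ := (hex' x).mp hx3
    exact ⟨z, hz⟩

end Groth.Agent.S5135
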