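import Groth.Statements.S5138
import Groth.Agent.Lib.Helper54.EtLocalBridge

set_option autoImplicit false
open CategoryTheory AlgebraicGeometry
universe u
open SGA1

namespace Groth.Agent.S5138

/-- For X ⟶ X' ⟶ Y locally of finite type over a locally Noetherian Y and a point x of X, if X ⟶ X' and
the composite X ⟶ Y are both etale near x then X' ⟶ Y is etale near the image of x; 'etale near a
point' is membership in the etale locus, the union of the opens on which the morphism is etale. (The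
published statement takes the morphisms of finite type; quasi-compactness plays no role in this
assertion about single points, so only local finiteness is assumed.) -/
theorem result {X X' Y : Scheme.{u}} (f : X ⟶ X') (g : X' ⟶ Y)
    [IsLocallyNoetherian Y] [LocallyOfFiniteType f] [LocallyOfFiniteType g] (x : X)
    (hf : x ∈ Pi1X.etaleLocus f) (hfg : x ∈ Pi1X.etaleLocus (f ≫ g)) : f.base x ∈ Pi1X.etaleLocus g := by
  obtain ⟨U, hU1, hxU⟩ : ∃ U : X.Opens, Etale (U.ι ≫ f) ∧ x ∈ U :=
    TopologicalSpace.Opens.mem_sSup.mp hf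
  obtain ⟨U', hU2, hxU'⟩ : ∃ U : X.Opens, Etale (U.ι ≫ f ≫ g) ∧ x ∈ U :=
    TopologicalSpace.Opens.mem_sSup.mp hfg
  let W : X.Opens := U ⊓ U'
  have hxW : x ∈ W := ⟨hxU, hxU'⟩
  have hW1 : Etale (W.ι ≫ f) := by
    have : W.ι ≫ f = X.homOfLE (inf_le_left : W ≤ U) ≫ U.ι ≫ f := by
      rw [Scheme.homOfLE_ι_assoc]
    rw [this]
    infer_instance
  have hW2 : Etale (W.ι ≫ f ≫ g) := by
    have : W.ι ≫ f ≫ g = X.homOfLE (inf_le_right : W ≤ U') ≫ U'.ι ≫ f ≫ g := by
      rw [Scheme.homOfLE_ι_assoc]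
    rw [this]
    infer_instance
  let V' : X'.Opens := ⟨Set.range (W.ι ≫ f).base, (W.ι ≫ f).isOpenMap.isOpen_range⟩
  have hV' : Set.range (W.ι ≫ f).base ⊆ Set.range V'.ι.base := by
    rw [Scheme.Opens.range_ι]
    exact fun _ h => h
  let e : W.toScheme ⟶ V'.toScheme := IsOpenImmersion.lift V'.ι (W.ι ≫ f) hV'
  have he : e ≫ V'.ι = W.ι ≫ f := IsOpenImmersion.lift_fac _ _ _
  haveI : Etale (e ≫ V'.ι) := by rw [he]; exact hW1
  haveI : Etale e := MorphismProperty.of_postcomp (W := @Etale) (W' := @Etale) e V'.ι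
    inferInstance inferInstance
  haveI : Surjective e := by
    constructor
    intro w
    obtain ⟨t, ht⟩ : w.1 ∈ Set.range (W.ι ≫ f).base := w.2
    refine ⟨t, ?_⟩
    apply V'.ι.isOpenEmbedding.injective
    have : V'.ι.base (e.base t) = (e ≫ V'.ι).base t := rfl
    rw [this, he, ht]
    rfl
  have h3 : Etale (e ≫ V'.ι ≫ g) := by
    rw [← Category.assoc, he, Category.assoc]
    exact hW2
  have h4 : Etale (V'.ι ≫ g) :=
    Groth.Agent.Lib.Helper54.etLocal_etale.descend e (V'.ι ≫ g) inferInstance inferInstance h3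
  refine TopologicalSpace.Opens.mem_sSup.mpr ⟨V', h4, ?_⟩
  exact ⟨⟨x, hxW⟩, rfl⟩

end Groth.Agent.S5138
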