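import Groth.Statements.S5139


set_option autoImplicit false
open CategoryTheory
universe u v u₂ v₂
open FibCat

namespace Groth.Agent.S5139

/-- A functor F : 𝒳 ⟶ 𝒴 over C is an equivalence over C exactly when its underlying functor is fully
faithful and every object η of 𝒴 admits an object ξ of 𝒳 and an isomorphism F ξ ≅ η lying over the
identity of the object of C under η. -/
theorem result {C : Type u} [Category.{v} C]
    {𝒳 𝒴 : BasedCategory.{v₂, u₂} C} (F : 𝒳 ⥤ᵇ 𝒴) :
    FibCat.IsEquivOver F ↔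
      (F.toFunctor.Full ∧ F.toFunctor.Faithful) ∧
        ∀ η : 𝒴.obj, ∃ (ξ : 𝒳.obj) (e : F.toFunctor.obj ξ ≅ η), 𝒴.p.IsHomLift (𝟙 (𝒴.p.obj η)) e.hom := by
  constructor
  · rintro ⟨G, ⟨ε⟩, ⟨η⟩⟩
    let ε' : F.toFunctor ⋙ G.toFunctor ≅ 𝟭 𝒳.obj := (BasedNatTrans.forgetful 𝒳 𝒳).mapIso ε
    let η' : G.toFunctor ⋙ F.toFunctor ≅ 𝟭 𝒴.obj := (BasedNatTrans.forgetful 𝒴 𝒴).mapIso η
    let E : 𝒳.obj ≌ 𝒴.obj := CategoryTheory.Equivalence.mk F.toFunctor G.toFunctor ε'.symm η'
    have hE : E.functor = F.toFunctor := rfl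
    have : F.toFunctor.IsEquivalence := hE ▸ E.isEquivalence_functor
    refine ⟨⟨inferInstance, inferInstance⟩, fun y => ⟨G.obj y, η'.app y, ?_⟩⟩
    exact η.hom.isHomLift' y
  · rintro ⟨⟨hfull, hfaith⟩, hes⟩
    choose ξ e he using hes
    have hlift : ∀ {y y' : 𝒴.obj} (f : y ⟶ y'),
        𝒴.p.IsHomLift (𝒴.p.map f) ((e y).hom ≫ f ≫ (e y').inv) := by
      intro y y' f
      have h1 : 𝒴.p.IsHomLift (𝟙 (𝒴.p.obj y')) (e y').inv := inferInstance
      have h2 : 𝒴.p.IsHomLift (𝒴.p.map f) (f ≫ (e y').inv) := inferInstance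
      infer_instance
    have hlift' : ∀ {y y' : 𝒴.obj} (f : y ⟶ y'),
        𝒳.p.IsHomLift (𝒴.p.map f) (F.toFunctor.preimage ((e y).hom ≫ f ≫ (e y').inv)) := by
      intro y y' f
      rw [← BasedFunctor.isHomLift_iff F]
      change 𝒴.p.IsHomLift _ (F.toFunctor.map _)
      rw [F.toFunctor.map_preimage]
      exact hlift f
    let G : 𝒴 ⥤ᵇ 𝒳 :=
      { toFunctor :=
          { obj := ξ
            map := fun {y y'} f => F.toFunctor.preimage ((e y).hom ≫ f ≫ (e y').inv)
            map_id := fun y => by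
              apply F.toFunctor.map_injective
              simp
            map_comp := fun f g => by
              apply F.toFunctor.map_injective
              simp }
        w := Functor.ext
          (fun y => (F.w_obj (ξ y)).symm.trans (IsHomLift.domain_eq 𝒴.p (𝟙 _) (e y).hom))
          (fun y y' f => by
            have := hlift' f
            exact IsHomLift.fac' 𝒳.p (𝒴.p.map f) _) }
    refine ⟨G, ⟨?_⟩, ⟨?_⟩⟩
    · refine BasedNatIso.mkNatIso
        (NatIso.ofComponents (fun a => F.toFunctor.preimageIso (e (F.obj a))) ?_) ?_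
      · intro a b f
        apply F.toFunctor.map_injective
        change F.toFunctor.map (F.toFunctor.preimage ((e (F.obj a)).hom ≫ F.toFunctor.map f ≫
          (e (F.obj b)).inv) ≫ F.toFunctor.preimage (e (F.obj b)).hom) =
          F.toFunctor.map (F.toFunctor.preimage (e (F.obj a)).hom ≫ f)
        simp
      · intro a
        rw [← BasedFunctor.isHomLift_iff F]
        change 𝒴.p.IsHomLift _ (F.toFunctor.map _)
        simp only [NatIso.ofComponents_hom_app, Functor.preimageIso_hom, Functor.map_preimage]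
        have := he (F.obj a)
        rwa [F.w_obj a] at this
    · refine BasedNatIso.mkNatIso
        (NatIso.ofComponents (fun y => e y) ?_) ?_
      · intro y y' f
        change F.toFunctor.map (F.toFunctor.preimage ((e y).hom ≫ f ≫ (e y').inv)) ≫ (e y').hom =
          (e y).hom ≫ f
        simp
      · intro y
        exact he y

end Groth.Agent.S5139
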