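import Groth.Statements.S5141
import Groth.Agent.S5139

set_option autoImplicit false
open CategoryTheory
universe u v u₂ v₂
open FibCat

namespace Groth.Agent.S5141

/-- In the sharper form given by its proof: for an equivalence F : 𝒳 ⟶ 𝒴 over C, a morphism φ of 𝒳 is
cartesian (over its image in C) if and only if F φ is; in particular an equivalence over C is a
cartesian functor. -/
theorem result {C : Type u} [Category.{v} C]
    {𝒳 𝒴 : BasedCategory.{v₂, u₂} C} (F : 𝒳 ⥤ᵇ 𝒴) (hF : FibCat.IsEquivOver F) {a b : 𝒳.obj} (φ : a ⟶ b) :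
    𝒴.p.IsCartesian (𝒳.p.map φ) (F.toFunctor.map φ) ↔ 𝒳.p.IsCartesian (𝒳.p.map φ) φ := by
  rw [Groth.Agent.S5139.result] at hF
  obtain ⟨⟨hfull, hfaith⟩, hes⟩ := hF
  constructor
  · intro hc
    refine { toIsHomLift := inferInstance, universal_property := ?_ }
    intro a' φ' hφ'
    have h1 : 𝒴.p.IsHomLift (𝒳.p.map φ) (F.toFunctor.map φ') :=
      BasedFunctor.preserves_isHomLift F _ φ'
    let χ := Functor.IsCartesian.map 𝒴.p (𝒳.p.map φ) (F.toFunctor.map φ) (F.toFunctor.map φ')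
    have hχ : 𝒴.p.IsHomLift (𝟙 (𝒳.p.obj a)) χ := inferInstance
    have hχfac : χ ≫ F.toFunctor.map φ = F.toFunctor.map φ' :=
      Functor.IsCartesian.fac 𝒴.p (𝒳.p.map φ) (F.toFunctor.map φ) (F.toFunctor.map φ')
    refine ⟨F.toFunctor.preimage χ, ⟨?_, ?_⟩, ?_⟩
    · rw [← BasedFunctor.isHomLift_iff F]
      change 𝒴.p.IsHomLift _ (F.toFunctor.map _)
      rw [F.toFunctor.map_preimage]
      exact hχ
    · apply F.toFunctor.map_injective
      rw [F.toFunctor.map_comp, F.toFunctor.map_preimage, hχfac]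
    · rintro χ₁ ⟨hχ₁, hχ₁fac⟩
      apply F.toFunctor.map_injective
      rw [F.toFunctor.map_preimage]
      have : 𝒴.p.IsHomLift (𝟙 (𝒳.p.obj a)) (F.toFunctor.map χ₁) :=
        BasedFunctor.preserves_isHomLift F _ χ₁
      apply Functor.IsCartesian.map_uniq 𝒴.p (𝒳.p.map φ) (F.toFunctor.map φ) (F.toFunctor.map φ')
      rw [← F.toFunctor.map_comp, hχ₁fac]
  · intro hc
    have hFφ : 𝒴.p.IsHomLift (𝒳.p.map φ) (F.toFunctor.map φ) :=
      BasedFunctor.preserves_isHomLift F _ φ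
    refine { toIsHomLift := hFφ, universal_property := ?_ }
    intro y' ψ hψ
    obtain ⟨x, e, he⟩ := hes y'
    have hy' : 𝒴.p.obj y' = 𝒳.p.obj a := IsHomLift.domain_eq 𝒴.p (𝒳.p.map φ) ψ
    have he' : 𝒴.p.IsHomLift (𝟙 (𝒳.p.obj a)) e.hom := by rw [← hy']; exact he
    have he'' : 𝒴.p.IsHomLift (𝟙 (𝒳.p.obj a)) e.inv := inferInstance
    have h1 : 𝒴.p.IsHomLift (𝒳.p.map φ) (e.hom ≫ ψ) := inferInstance
    let ψ₀ : x ⟶ b := F.toFunctor.preimage (e.hom ≫ ψ)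
    have hψ₀ : 𝒳.p.IsHomLift (𝒳.p.map φ) ψ₀ := by
      rw [← BasedFunctor.isHomLift_iff F]
      change 𝒴.p.IsHomLift _ (F.toFunctor.map _)
      rw [F.toFunctor.map_preimage]
      exact h1
    let χ₀ := Functor.IsCartesian.map 𝒳.p (𝒳.p.map φ) φ ψ₀
    have hχ₀ : 𝒳.p.IsHomLift (𝟙 (𝒳.p.obj a)) χ₀ := inferInstance
    have hχ₀fac : χ₀ ≫ φ = ψ₀ := Functor.IsCartesian.fac 𝒳.p (𝒳.p.map φ) φ ψ₀
    have hFχ₀ : 𝒴.p.IsHomLift (𝟙 (𝒳.p.obj a)) (F.toFunctor.map χ₀) :=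
      BasedFunctor.preserves_isHomLift F _ χ₀
    refine ⟨e.inv ≫ F.toFunctor.map χ₀, ⟨inferInstance, ?_⟩, ?_⟩
    · rw [Category.assoc, ← F.toFunctor.map_comp, hχ₀fac, F.toFunctor.map_preimage,
        Iso.inv_hom_id_assoc]
    · rintro χ' ⟨hχ', hχ'fac⟩
      rw [Iso.eq_inv_comp]
      have h2 : 𝒴.p.IsHomLift (𝟙 (𝒳.p.obj a)) (e.hom ≫ χ') := inferInstance
      let χ₁ : x ⟶ a := F.toFunctor.preimage (e.hom ≫ χ')
      have hχ₁ : 𝒳.p.IsHomLift (𝟙 (𝒳.p.obj a)) χ₁ := by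
        rw [← BasedFunctor.isHomLift_iff F]
        change 𝒴.p.IsHomLift _ (F.toFunctor.map _)
        rw [F.toFunctor.map_preimage]
        exact h2
      have h3 : χ₁ = χ₀ := by
        apply Functor.IsCartesian.map_uniq 𝒳.p (𝒳.p.map φ) φ ψ₀
        apply F.toFunctor.map_injective
        rw [F.toFunctor.map_comp, F.toFunctor.map_preimage, F.toFunctor.map_preimage,
          Category.assoc, hχ'fac]
      rw [← h3, F.toFunctor.map_preimage]

end Groth.Agent.S5141
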