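import Groth.Statements.S5143
import Groth.Agent.Lib.Helper26.FibProd

set_option autoImplicit false
open CategoryTheory
universe u v u₂ v₂
open FibCat

namespace Groth.Agent.S5143

/-- The fibre product over C of two fibred (resp. prefibred) categories over C is fibred (resp.
prefibred); fibred and prefibred are Mathlib's notions for the structure functors, and the fibre
product is the 2-fibre product over C of the two structure functors. -/
theorem result {C : Type u} [Category.{v} C] {𝒳 𝒴 : BasedCategory.{v₂, u₂} C} :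
    (𝒳.p.IsFibered → 𝒴.p.IsFibered → (FibCat.fp (FibCat.toSelf 𝒳) (FibCat.toSelf 𝒴)).p.IsFibered) ∧
      (𝒳.p.IsPreFibered → 𝒴.p.IsPreFibered → (FibCat.fp (FibCat.toSelf 𝒳) (FibCat.toSelf 𝒴)).p.IsPreFibered) := by
  have pre : 𝒳.p.IsPreFibered → 𝒴.p.IsPreFibered →
      (FibCat.fp (FibCat.toSelf 𝒳) (FibCat.toSelf 𝒴)).p.IsPreFibered := by
    intro h𝒳 h𝒴
    refine ⟨fun {y R} f => ?_⟩
    have hy2 : 𝒴.p.obj y.obj.snd = 𝒳.p.obj y.obj.fst :=
      Groth.Agent.Lib.Helper26.FibProd.snd_proj y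
    change R ⟶ 𝒳.p.obj y.obj.fst at f
    obtain ⟨x₁, φ₁, hφ₁⟩ := IsPreFibered.exists_isCartesian 𝒳.p (a := y.obj.fst) rfl f
    obtain ⟨x₂, φ₂, hφ₂⟩ := IsPreFibered.exists_isCartesian 𝒴.p (a := y.obj.snd) hy2 f
    have hx₁ : 𝒳.p.obj x₁ = R := IsHomLift.domain_eq 𝒳.p f φ₁
    have hx₂ : 𝒴.p.obj x₂ = R := IsHomLift.domain_eq 𝒴.p f φ₂
    let x := Groth.Agent.Lib.Helper26.FibProd.mkObj x₁ x₂ (hx₁.trans hx₂.symm)
    refine ⟨x, Groth.Agent.Lib.Helper26.FibProd.mkHom (x := x) f φ₁ φ₂ (hα := hφ₁.toIsHomLift)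
      (hβ := hφ₂.toIsHomLift), ?_⟩
    rw [Groth.Agent.Lib.Helper26.FibProd.isCartesian_iff]
    exact ⟨hφ₁, hφ₂⟩
  refine ⟨fun h𝒳 h𝒴 => ?_, pre⟩
  have := pre inferInstance inferInstance
  refine { comp := ?_ }
  intro R S T f g a b c φ ψ hφ hψ
  rw [Groth.Agent.Lib.Helper26.FibProd.isCartesian_iff] at hφ hψ ⊢
  obtain ⟨hφ1, hφ2⟩ := hφ
  obtain ⟨hψ1, hψ2⟩ := hψ
  exact ⟨Functor.IsFibered.comp f g φ.hom.fst ψ.hom.fst,
    Functor.IsFibered.comp f g φ.hom.snd ψ.hom.snd⟩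

end Groth.Agent.S5143
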