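import Groth.Statements.S5151
import Groth.Agent.Lib.Helper29.DepthLoc3

set_option autoImplicit false
universe u
open LocCoh

namespace Groth.Agent.S5151

/-- Let A be a Noetherian ring, I an ideal and M a finite A-module with IM ≠ M. Every weakly M-regular
sequence of elements of I can be extended to a maximal one (one after which no element of I is
M-regular on the quotient), and any maximal weakly M-regular sequence of elements of I has length
equal to the I-depth of M. (The published statement does not assume IM ≠ M; without it the first
assertion fails: over ℤ with I = (2) and M = ℤ/3 the element 2 is M-regular with M/2M = 0, after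
which every element of I is regular on the zero module, so no weakly M-regular sequence of elements
of I is maximal, while the I-depth is infinite. With IM ≠ M every weakly M-regular sequence in I is
M-regular and the I-depth is finite.) -/
theorem result (A : Type u) [CommRing A] [IsNoetherianRing A] (I : Ideal A) (M : Type u) [AddCommGroup M] [Module A M] [Module.Finite A M] (hIM : I • (⊤ : Submodule A M) ≠ ⊤) : (∀ rs : List A, RingTheory.Sequence.IsWeaklyRegular M rs → (∀ r ∈ rs, r ∈ I) → ∃ rs' : List A, rs <+: rs' ∧ RingTheory.Sequence.IsWeaklyRegular M rs' ∧ (∀ r ∈ rs', r ∈ I) ∧ ∀ r ∈ I, ¬ RingTheory.Sequence.IsWeaklyRegular M (rs' ++ [r])) ∧ (∀ rs : List A, RingTheory.Sequence.IsWeaklyRegular M rs → (∀ r ∈ rs, r ∈ I) → (∀ r ∈ I, ¬ RingTheory.Sequence.IsWeaklyRegular M (rs ++ [r])) → (rs.length : ℕ∞) = LocCoh.idealDepth I M) := by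
  open Groth.Agent.Lib.Helper29 in
  refine ⟨?_, fun rs hreg hmem hmax => length_eq_idealDepth_of_maximal A I rs M hIM hreg hmem hmax⟩
  obtain ⟨d, hd⟩ := ENat.ne_top_iff_exists.mp (idealDepth_ne_top A I M hIM)
  -- induction on `d - rs.length`
  have key : ∀ k : ℕ, ∀ rs : List A, RingTheory.Sequence.IsWeaklyRegular M rs →
      (∀ r ∈ rs, r ∈ I) → d - rs.length = k →
      ∃ rs' : List A, rs <+: rs' ∧ RingTheory.Sequence.IsWeaklyRegular M rs' ∧
        (∀ r ∈ rs', r ∈ I) ∧ ∀ r ∈ I, ¬ RingTheory.Sequence.IsWeaklyRegular M (rs' ++ [r]) := by
    intro k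
    induction k with
    | zero =>
      intro rs hreg hmem hk
      refine ⟨rs, List.prefix_refl rs, hreg, hmem, ?_⟩
      intro r hr hcon
      have h1 := length_le_idealDepth I M (rs ++ [r]) hcon (by
        intro y hy
        rcases List.mem_append.mp hy with hy | hy
        · exact hmem y hy
        · rw [List.mem_singleton] at hy; rw [hy]; exact hr)
      rw [← hd] at h1
      have h2 : (rs ++ [r]).length ≤ d := by exact_mod_cast h1
      rw [List.length_append, List.length_singleton] at h2
      omega
    | succ k ih =>
      intro rs hreg hmem hk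
      by_cases hmax : ∀ r ∈ I, ¬ RingTheory.Sequence.IsWeaklyRegular M (rs ++ [r])
      · exact ⟨rs, List.prefix_refl rs, hreg, hmem, hmax⟩
      · push Not at hmax
        obtain ⟨r, hr, hcon⟩ := hmax
        have hmem' : ∀ y ∈ rs ++ [r], y ∈ I := by
          intro y hy
          rcases List.mem_append.mp hy with hy | hy
          · exact hmem y hy
          · rw [List.mem_singleton] at hy; rw [hy]; exact hr
        obtain ⟨rs', h1, h2, h3, h4⟩ := ih (rs ++ [r]) hcon hmem' (by
          rw [List.length_append, List.length_singleton]; omega)
        exact ⟨rs', (List.prefix_append rs [r]).trans h1, h2, h3, h4⟩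
  intro rs hreg hmem
  exact key _ rs hreg hmem rfl

end Groth.Agent.S5151
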