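import Groth.Statements.S5167
import Groth.Agent.Lib.Helper93.GrothFin
import Groth.Agent.S0817
import Groth.Agent.S0564

set_option autoImplicit false
universe u
open LocCoh

namespace Groth.Agent.S5167

/-- Let A be a Noetherian local ring which is a quotient of a regular local ring, m its maximal ideal, M
a finite A-module and n ≥ 0. Then H^i_m(M) is of finite length for all i ≤ n if and only if
depth(M_p) > n − dim(A/p) for every prime p ≠ m. -/
theorem result (R : Type u) [CommRing R] [IsRegularLocalRing R] (A : Type u) [CommRing A] [IsLocalRing A] [IsNoetherianRing A] (π : R →+* A) (hπ : Function.Surjective π) (M : Type u) [AddCommGroup M] [Module A M] [Module.Finite A M] (n : ℕ) : (∀ i : ℕ, i ≤ n → IsFiniteLength A (LocCoh.H (IsLocalRing.maximalIdeal A) i M)) ↔ ∀ p : PrimeSpectrum A, p.asIdeal ≠ IsLocalRing.maximalIdeal A → ∀ e : ℕ, ringKrullDim (A ⧸ p.asIdeal) = e → (n : ℕ∞) < LocCoh.depth (Localization.AtPrime p.asIdeal) (LocalizedModule p.asIdeal.primeCompl M) + e := by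
  classical
  have hreg : IsRegularRing R := ⟨fun p _ => Groth.Agent.S0564.result R p⟩
  have hfl : (∀ i : ℕ, i ≤ n → IsFiniteLength A (LocCoh.H (IsLocalRing.maximalIdeal A) i M)) ↔
      (∀ i : ℕ, i ≤ n → Module.Finite A (LocCoh.H (IsLocalRing.maximalIdeal A) i M)) := by
    refine forall₂_congr fun i _ => ?_
    rw [isFiniteLength_iff_isNoetherian_isArtinian]
    constructor
    · rintro ⟨h1, -⟩
      infer_instance
    · intro h1
      exact ⟨isNoetherian_of_isNoetherianRing_of_finite A _, Groth.Agent.S0817.result A M i⟩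
  rw [hfl, Groth.Agent.Lib.Helper93.GrothFin.finite_below_iff' R π hπ (IsLocalRing.maximalIdeal A) M n]
  have key : ∀ p : PrimeSpectrum A, p.asIdeal ≠ IsLocalRing.maximalIdeal A →
      (((IsLocalRing.maximalIdeal A ⊔ p.asIdeal).map (Ideal.Quotient.mk p.asIdeal)).height :
        WithBot ℕ∞) = ringKrullDim (A ⧸ p.asIdeal) := by
    intro p hp
    have hpm : p.asIdeal ≤ IsLocalRing.maximalIdeal A := IsLocalRing.le_maximalIdeal p.2.ne_top
    have hloc : IsLocalRing (A ⧸ p.asIdeal) :=
      .of_surjective' (Ideal.Quotient.mk p.asIdeal) Ideal.Quotient.mk_surjective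
    rw [sup_eq_left.mpr hpm,
      IsLocalRing.map_maximalIdeal_of_surjective (Ideal.Quotient.mk p.asIdeal)
        Ideal.Quotient.mk_surjective]
    exact IsLocalRing.maximalIdeal_height_eq_ringKrullDim
  have hne : ∀ p : PrimeSpectrum A, (¬ IsLocalRing.maximalIdeal A ≤ p.asIdeal) ↔
      p.asIdeal ≠ IsLocalRing.maximalIdeal A := by
    intro p
    constructor
    · intro h1 h2
      exact h1 h2.ge
    · intro h1 h2
      exact h1 (le_antisymm (IsLocalRing.le_maximalIdeal p.2.ne_top) h2)
  constructor
  · intro h p hp e he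
    have h1 := h p ((hne p).mpr hp)
    have h2 := key p hp
    rw [he] at h2
    have h3 : ((IsLocalRing.maximalIdeal A ⊔ p.asIdeal).map (Ideal.Quotient.mk p.asIdeal)).height =
        (e : ℕ∞) := by exact_mod_cast h2
    rwa [h3] at h1
  · intro h p hp
    have hp' := (hne p).mp hp
    have h2 := key p hp'
    have hfin : ((IsLocalRing.maximalIdeal A ⊔ p.asIdeal).map
        (Ideal.Quotient.mk p.asIdeal)).height ≠ ⊤ := by
      apply Ideal.height_ne_top
      have hpm : p.asIdeal ≤ IsLocalRing.maximalIdeal A := IsLocalRing.le_maximalIdeal p.2.ne_top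
      have hloc : IsLocalRing (A ⧸ p.asIdeal) :=
        .of_surjective' (Ideal.Quotient.mk p.asIdeal) Ideal.Quotient.mk_surjective
      rw [sup_eq_left.mpr hpm,
        IsLocalRing.map_maximalIdeal_of_surjective (Ideal.Quotient.mk p.asIdeal)
          Ideal.Quotient.mk_surjective]
      exact Ideal.IsPrime.ne_top'
    obtain ⟨e, he⟩ := ENat.ne_top_iff_exists.mp hfin
    rw [← he] at h2 ⊢
    exact h p hp' e (by rw [← h2]; rfl)

end Groth.Agent.S5167
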