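import Groth.Statements.S5172
import Groth.Agent.Lib.Helper29.RelCodim

set_option autoImplicit false
universe u
open LocCoh

namespace Groth.Agent.S5172

/-- Let A be a Noetherian ring which is a quotient of a regular ring, I an ideal, M a finite A-module
and n ≥ 0; c(p) = codim(V(p) ∩ V(I), V(p)). Then depth M_p > n − c(p) for all primes p ⊉ I if and
only if depth M_p ≥ n for all primes p ⊉ I with c(p) = 1. -/
theorem result (R : Type u) [CommRing R] [IsRegularRing R] (A : Type u) [CommRing A] [IsNoetherianRing A] (π : R →+* A) (hπ : Function.Surjective π) (I : Ideal A) (M : Type u) [AddCommGroup M] [Module A M] [Module.Finite A M] (n : ℕ) : (∀ p : PrimeSpectrum A, ¬ I ≤ p.asIdeal → (n : ℕ∞) < LocCoh.depth (Localization.AtPrime p.asIdeal) (LocalizedModule p.asIdeal.primeCompl M) + SGA2.relCodim I p) ↔ (∀ p : PrimeSpectrum A, ¬ I ≤ p.asIdeal → SGA2.relCodim I p = 1 → (n : ℕ∞) ≤ LocCoh.depth (Localization.AtPrime p.asIdeal) (LocalizedModule p.asIdeal.primeCompl M)) := by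
  constructor
  · intro h p hIp h1
    have h2 := h p hIp
    rw [h1] at h2
    by_cases htop : LocCoh.depth (Localization.AtPrime p.asIdeal)
        (LocalizedModule p.asIdeal.primeCompl M) = ⊤
    · rw [htop]; exact le_top
    · exact (ENat.lt_add_one_iff htop).mp h2
  · intro h
    have key : ∀ (d : ℕ) (p q : PrimeSpectrum A) (hpq : p ≤ q), I ≤ q.asIdeal → ¬ I ≤ p.asIdeal →
        Order.height (⟨q, hpq⟩ : Set.Ici p) ≤ d →
        (n : ℕ∞) < LocCoh.depth (Localization.AtPrime p.asIdeal)
          (LocalizedModule p.asIdeal.primeCompl M) + d := by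
      intro d
      induction d with
      | zero =>
        intro p q hpq hIq hIp hht
        exfalso
        have hlt : p < q := lt_of_le_of_ne hpq (fun heq => hIp (heq ▸ hIq))
        have h1 := Groth.Agent.Lib.Helper29.one_le_height_Ici_of_lt hlt
        have h2 : (1 : ℕ∞) ≤ ((0 : ℕ) : ℕ∞) := h1.trans hht
        simp at h2
      | succ d ih =>
        intro p q hpq hIq hIp hht
        have hlt : p < q := lt_of_le_of_ne hpq (fun heq => hIp (heq ▸ hIq))
        obtain ⟨p', hcov, hp'q⟩ := Groth.Agent.Lib.Helper29.exists_covBy_le_of_lt hlt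
        have hdepth := Groth.Agent.Lib.Helper29.depth_localization_le_add_one_of_covBy hcov M
        by_cases hIp' : I ≤ p'.asIdeal
        · have h1 : SGA2.relCodim I p = 1 := by
            apply le_antisymm
            · refine (iInf_le _ (⟨p', hcov.le, hIp'⟩ :
                {q : PrimeSpectrum A // p ≤ q ∧ I ≤ q.asIdeal})).trans ?_
              exact Groth.Agent.Lib.Helper29.height_Ici_le_one_of_covBy hcov
            · refine le_iInf ?_
              rintro ⟨r, hpr, hIr⟩
              have hlt' : p < r := lt_of_le_of_ne hpr (fun heq => hIp (heq ▸ hIr))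
              exact Groth.Agent.Lib.Helper29.one_le_height_Ici_of_lt hlt'
          have h2 := h p hIp h1
          by_cases htop : LocCoh.depth (Localization.AtPrime p.asIdeal)
              (LocalizedModule p.asIdeal.primeCompl M) = ⊤
          · rw [htop, top_add]
            exact ENat.natCast_lt_top n
          · refine lt_of_le_of_lt h2 ?_
            obtain ⟨m, hm⟩ := ENat.ne_top_iff_exists.mp htop
            rw [← hm]
            exact_mod_cast Nat.lt_add_of_pos_right (Nat.succ_pos d)
        · have hht' : Order.height (⟨q, hp'q⟩ : Set.Ici p') ≤ d := by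
            have h3 := (Groth.Agent.Lib.Helper29.height_Ici_add_one_le hcov.lt hp'q).trans hht
            rw [Nat.cast_add, Nat.cast_one] at h3
            exact (ENat.add_le_add_iff_right ENat.one_ne_top).mp h3
          have h4 := ih p' q hp'q hIq hIp' hht'
          refine lt_of_lt_of_le h4 ?_
          refine (add_le_add_left hdepth _).trans ?_
          rw [Nat.cast_add, Nat.cast_one, add_assoc, add_comm (1 : ℕ∞)]
    intro p hIp
    by_cases hne : Nonempty {q : PrimeSpectrum A // p ≤ q ∧ I ≤ q.asIdeal}
    · obtain ⟨⟨q, hpq, hIq⟩, hq⟩ := ENat.exists_eq_iInf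
        (fun q : {q : PrimeSpectrum A // p ≤ q ∧ I ≤ q.asIdeal} =>
          Order.height (⟨q.1, q.2.1⟩ : Set.Ici p))
      have hrel : SGA2.relCodim I p = Order.height (⟨q, hpq⟩ : Set.Ici p) := hq.symm
      by_cases htop : Order.height (⟨q, hpq⟩ : Set.Ici p) = ⊤
      · rw [hrel, htop, add_top]
        exact ENat.natCast_lt_top n
      · obtain ⟨d, hd⟩ := ENat.ne_top_iff_exists.mp htop
        rw [hrel, ← hd]
        exact key d p q hpq hIq hIp hd.symm.le
    · have hrel : SGA2.relCodim I p = ⊤ := by
        unfold SGA2.relCodim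
        rw [not_nonempty_iff] at hne
        exact iInf_of_empty _
      rw [hrel, add_top]
      exact ENat.natCast_lt_top n

end Groth.Agent.S5172
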