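import Groth.Statements.S5178
import Groth.Agent.Lib.Helper82.CICompl

set_option autoImplicit false
universe u
open CInt

namespace Groth.Agent.S5178

/-- Let A be a Noetherian local ring of dimension d, and let the completion of A be presented as B/I
with B a regular local ring of dimension e and I an ideal whose minimal number of generators is q,
so that e − q is the geometric depth of A (this number does not depend on the presentation). Then e
− q ≤ d, and equality holds if and only if A is a complete intersection, i.e. its completion is a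
regular local ring modulo an ideal generated by a regular sequence. -/
theorem result (A : Type u) [CommRing A] [IsLocalRing A] [IsNoetherianRing A] (B : Type u) [CommRing B] [IsRegularLocalRing B] (I : Ideal B) (hpres : Nonempty (AdicCompletion (IsLocalRing.maximalIdeal A) A ≃+* B ⧸ I)) (d e : ℕ) (hd : ringKrullDim A = (d : WithBot ℕ∞)) (he : ringKrullDim B = (e : WithBot ℕ∞)) : (e : ℤ) - (I.spanFinrank : ℤ) ≤ (d : ℤ) ∧ ((e : ℤ) - (I.spanFinrank : ℤ) = (d : ℤ) ↔ Pi1.IsCompleteIntersection A) := by
  classical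
  obtain ⟨φ⟩ := hpres
  have hNC : IsNoetherianRing (AdicCompletion (IsLocalRing.maximalIdeal A) A) :=
    Groth.Agent.S0543.result A _
  have hdimC : ringKrullDim (AdicCompletion (IsLocalRing.maximalIdeal A) A) = d := by
    rw [← hd]
    exact Groth.Agent.Lib.Helper47.ringKrullDim_eq_of_flat_of_map_maximalIdeal
      (AdicCompletion.maximalIdeal_eq_map (R := A)).symm
  let π : B →+* AdicCompletion (IsLocalRing.maximalIdeal A) A :=
    (φ.symm : (B ⧸ I) →+* AdicCompletion (IsLocalRing.maximalIdeal A) A).comp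
      (Ideal.Quotient.mk I)
  have hπ : Function.Surjective π := φ.symm.surjective.comp Ideal.Quotient.mk_surjective
  have hker : RingHom.ker π = I := by
    change RingHom.ker ((φ.symm : (B ⧸ I) →+*
      AdicCompletion (IsLocalRing.maximalIdeal A) A).comp (Ideal.Quotient.mk I)) = _
    rw [← RingEquiv.toRingHom_eq_coe, RingHom.ker_equiv_comp, Ideal.mk_ker]
  have hItop : I ≠ ⊤ := hker ▸ Groth.Agent.Lib.Helper82.CIPres.ker_ne_top π
  have hIm : I ≤ IsLocalRing.maximalIdeal B := IsLocalRing.le_maximalIdeal hItop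
  have hdimQ : ringKrullDim (B ⧸ I) = d := by
    rw [← hdimC]
    exact (ringKrullDim_eq_of_ringEquiv φ).symm
  have hge : ringKrullDim B ≤ ringKrullDim (B ⧸ I) + (I.spanFinrank : WithBot ℕ∞) :=
    ringKrullDim_le_ringKrullDim_quotient_add_spanFinrank _
      (by rw [IsLocalRing.ringJacobson_eq_maximalIdeal]; exact hIm)
  rw [he, hdimQ] at hge
  have hge' : e ≤ d + I.spanFinrank := by exact_mod_cast hge
  have hcrit := Groth.Agent.Lib.Helper82.CICrit.exists_isRegular_iff B _ π hπ
  rw [hker, hdimC, he] at hcrit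
  have hcrit' : (∃ rs : List B, RingTheory.Sequence.IsRegular B rs ∧ Ideal.ofList rs = I) ↔
      I.spanFinrank + d = e := by
    rw [hcrit]
    exact_mod_cast Iff.rfl
  refine ⟨by omega, ?_⟩
  constructor
  · intro h
    obtain ⟨rs, hreg, hrs⟩ := hcrit'.mpr (by omega)
    refine ⟨B, inferInstance, inferInstance, rs, ?_, hreg,
      ⟨φ.trans (Ideal.quotEquivOfEq hrs.symm)⟩⟩
    intro r hr
    exact hIm (hrs ▸ Ideal.subset_span hr)
  · rintro ⟨B₀, _, hB₀, rs₀, hmem, hreg, ⟨φ₀⟩⟩
    let π₀ : B₀ →+* AdicCompletion (IsLocalRing.maximalIdeal A) A :=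
      (φ₀.symm : (B₀ ⧸ Ideal.span {r | r ∈ rs₀}) →+*
        AdicCompletion (IsLocalRing.maximalIdeal A) A).comp
        (Ideal.Quotient.mk (Ideal.span {r | r ∈ rs₀}))
    have hπ₀ : Function.Surjective π₀ := φ₀.symm.surjective.comp Ideal.Quotient.mk_surjective
    have hker₀ : RingHom.ker π₀ = Ideal.ofList rs₀ := by
      change RingHom.ker ((φ₀.symm : (B₀ ⧸ Ideal.span {r | r ∈ rs₀}) →+*
        AdicCompletion (IsLocalRing.maximalIdeal A) A).comp
        (Ideal.Quotient.mk (Ideal.span {r | r ∈ rs₀}))) = _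
      rw [← RingEquiv.toRingHom_eq_coe, RingHom.ker_equiv_comp, Ideal.mk_ker]
    obtain ⟨rs, hrs, hrsker⟩ :=
      Groth.Agent.Lib.Helper82.CICrit.exists_isRegular_of_exists_isRegular B₀ _ π₀ hπ₀ B π hπ
        ⟨rs₀, hreg, hker₀.symm⟩
    have := hcrit'.mp ⟨rs, hrs, hrsker.trans hker⟩
    omega

end Groth.Agent.S5178
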