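import Groth.Statements.S5179
import Groth.Agent.Lib.Helper82.KoszH1Flat


set_option autoImplicit false
universe u
open CInt

namespace Groth.Agent.S5179

/-- Let A → A' be a flat local homomorphism of Noetherian local rings such that m_A A' is the maximal
ideal of A' and the residue field of A' is a separable extension of the residue field k of A
(separable in the sense that it is formally smooth over k; so A' ⊗_A k is a field separable over k).
Present the completions as Â ≅ B/I and Â' ≅ B'/I' with B, B' regular local rings of dimensions e,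
e'. Then e − μ(I) = e' − μ(I'), μ denoting the minimal number of generators: A and A' have the same
geometric depth. -/
theorem result (A A' : Type u) [CommRing A] [IsLocalRing A] [IsNoetherianRing A] [CommRing A'] [IsLocalRing A'] [IsNoetherianRing A'] [Algebra A A'] [IsLocalHom (algebraMap A A')] [Module.Flat A A'] (hmax : Ideal.map (algebraMap A A') (IsLocalRing.maximalIdeal A) = IsLocalRing.maximalIdeal A') (hsep : Algebra.FormallySmooth (IsLocalRing.ResidueField A) (IsLocalRing.ResidueField A')) (B B' : Type u) [CommRing B] [IsRegularLocalRing B] [CommRing B'] [IsRegularLocalRing B'] (I : Ideal B) (I' : Ideal B') (hpres : Nonempty (AdicCompletion (IsLocalRing.maximalIdeal A) A ≃+* B ⧸ I)) (hpres' : Nonempty (AdicCompletion (IsLocalRing.maximalIdeal A') A' ≃+* B' ⧸ I')) (e e' : ℕ) (he : ringKrullDim B = (e : WithBot ℕ∞)) (he' : ringKrullDim B' = (e' : WithBot ℕ∞)) : (e : ℤ) - (I.spanFinrank : ℤ) = (e' : ℤ) - (I'.spanFinrank : ℤ) := by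
  have h := Groth.Agent.Lib.Helper82.KoszH1Flat.geomDepth_eq A A' hmax B B' I I' hpres hpres'
  have hB : ((IsLocalRing.maximalIdeal B).spanFinrank : WithBot ℕ∞) = (e : WithBot ℕ∞) := by
    rw [← he]; exact IsRegularLocalRing.spanFinrank_maximalIdeal
  have hB' : ((IsLocalRing.maximalIdeal B').spanFinrank : WithBot ℕ∞) = (e' : WithBot ℕ∞) := by
    rw [← he']; exact IsRegularLocalRing.spanFinrank_maximalIdeal
  have e1 : (IsLocalRing.maximalIdeal B).spanFinrank = e := by exact_mod_cast hB
  have e2 : (IsLocalRing.maximalIdeal B').spanFinrank = e' := by exact_mod_cast hB'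
  rw [e1, e2] at h
  omega

end Groth.Agent.S5179
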