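import Groth.Statements.S5182
import Groth.Agent.Lib.Helper47.WeaklyRegularFiltration

set_option autoImplicit false
universe u
open CInt

namespace Groth.Agent.S5182

/-- In the local algebraic form to which its proof reduces. Let A be a Noetherian local ring, J a proper
ideal such that A is normally flat along J, i.e. every J^k/J^{k+1} is a flat (equivalently free)
A/J-module, and f_1, …, f_r elements of A whose images form a weakly regular sequence on A/J (each
f_i a non-zero-divisor on A/J modulo the preceding ones). Then for every k ≥ 0 the f_i form a weakly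
regular sequence on the A-module J^k and on the A-module J^k/J^{k+1}; in particular (k = 0) on A
itself, so that they are regular on the Rees algebra ⊕ J^k and on the associated graded ring ⊕
J^k/J^{k+1}. -/
theorem result (A : Type u) [CommRing A] [IsLocalRing A] [IsNoetherianRing A] (J : Ideal A) (hJ : J ≠ ⊤) (hflat : ∀ k : ℕ, Module.Flat (A ⧸ J) (↥(J ^ k) ⧸ (J • (⊤ : Submodule A ↥(J ^ k))))) (fs : List A) (hreg : RingTheory.Sequence.IsWeaklyRegular (A ⧸ J) fs) (k : ℕ) : RingTheory.Sequence.IsWeaklyRegular (↥(J ^ k)) fs ∧ RingTheory.Sequence.IsWeaklyRegular (↥(J ^ k) ⧸ (J • (⊤ : Submodule A ↥(J ^ k)))) fs := by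
  classical
  open RingTheory.Sequence Groth.Agent.Lib.Helper47.WRFilt in
  -- (a) the graded pieces
  have hgr : ∀ n : ℕ, IsWeaklyRegular (↥(J ^ n) ⧸ (J • (⊤ : Submodule A ↥(J ^ n)))) fs := by
    intro n
    haveI := hflat n
    have h1 : IsWeaklyRegular (A ⧸ J) (fs.map (algebraMap A (A ⧸ J))) :=
      (isWeaklyRegular_map_algebraMap_iff (A ⧸ J) (A ⧸ J) fs).mpr hreg
    have h2 := h1.isWeaklyRegular_rTensor (M₂ := ↥(J ^ n) ⧸ (J • (⊤ : Submodule A ↥(J ^ n))))
    have h3 := ((TensorProduct.lid (A ⧸ J)
      (↥(J ^ n) ⧸ (J • (⊤ : Submodule A ↥(J ^ n))))).isWeaklyRegular_congr _).mp h2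
    exact (isWeaklyRegular_map_algebraMap_iff (A ⧸ J) _ fs).mp h3
  refine ⟨?_, hgr k⟩
  -- identification of the submodules
  have hsub : ∀ n m : ℕ, (J ^ m • (⊤ : Submodule A ↥(J ^ n))) =
      Submodule.comap (Submodule.subtype (J ^ n)) (J ^ (n + m)) := by
    intro n m
    ext x
    rw [Submodule.mem_smul_top_iff, Submodule.mem_comap, smul_eq_mul, ← pow_add, add_comm]
    rfl
  -- (b) the subquotients
  have hSQ : ∀ m : ℕ, IsWeaklyRegular (SQ (J ^ k) (J ^ (k + m))) fs := by
    intro m
    induction m with
    | zero =>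
      haveI := subsingleton_SQ (J ^ k) (J ^ (k + 0)) (le_of_eq (by rw [add_zero]))
      exact isWeaklyRegular_of_subsingleton fs _
    | succ m ih =>
      have ha : IsWeaklyRegular (SQ (J ^ (k + m)) (J ^ (k + (m + 1)))) fs := by
        have e : (J • (⊤ : Submodule A ↥(J ^ (k + m)))) =
            Submodule.comap (Submodule.subtype (J ^ (k + m))) (J ^ (k + (m + 1))) := by
          have := hsub (k + m) 1
          rw [pow_one] at this
          rw [this, add_assoc]
        exact ((Submodule.quotEquivOfEq _ _ e).isWeaklyRegular_congr fs).mp (hgr (k + m))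
      exact isWeaklyRegular_SQ fs (J ^ k) (J ^ (k + m)) (J ^ (k + (m + 1)))
        (Ideal.pow_le_pow_right (Nat.le_add_right k m))
        (Ideal.pow_le_pow_right (by omega)) ha ih
  -- (c), (d)
  apply isWeaklyRegular_of_forall_quotient J hJ fs
  intro m
  exact ((Submodule.quotEquivOfEq _ _ (hsub k m)).isWeaklyRegular_congr fs).mpr (hSQ m)

end Groth.Agent.S5182
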