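import Groth.Statements.S5186
-- import your own Groth.Agent.* helpers here
import Groth.Agent.Lib.Helper32.RpushCoh
import Groth.Agent.Lib.Helper32.WayOut
import Groth.Agent.Lib.Helper1.SupportClosed
import Groth.Agent.S0922

set_option autoImplicit false
universe u
open CategoryTheory AlgebraicGeometry
open Coherent

namespace Groth.Agent.S5186

section Helpers

open CategoryTheory.Limits CategoryTheory.Pretriangulated DerivedCategory Scheme.Modules
open Groth.Agent.Lib.Helper32.KInjDerived Groth.Agent.Lib.Helper32.RDerCrit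
  Groth.Agent.Lib.Helper32.TriRF Groth.Agent.Lib.Helper32.OpenSupp Groth.Agent.Lib.Helper32.OpenKInj
  Groth.Agent.Lib.Helper32.RpushCoh Groth.Agent.Lib.Helper32.RpushQCohPlus
  Groth.Agent.Lib.Helper32.MVTriangle Groth.Agent.Lib.Helper32.WayOut DerivedCategory.TStructure

attribute [local instance] HasDerivedCategory.standard

/-- closed subsets are proper over the base of a proper morphism -/
theorem isProperOver_of_isProper {X S : Scheme.{u}} (f : X ⟶ S) [IsProper f] (Z : Set X)
    (hZ : IsClosed Z) : ClSub.IsProperOver f Z :=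
  ⟨hZ, inferInstance⟩

theorem main {X S : Scheme.{u}} (f : X ⟶ S) [IsProper f] [IsLocallyNoetherian S] (U : X.Opens)
    [HasInjectiveResolutions (U : Scheme.{u}).Modules] [HasInjectiveResolutions X.Modules]
    (F : (U : Scheme.{u}).Modules) (n : ℕ)
    (hg : ∀ i : ℕ, i ≤ n → Coh.IsCoh ((Coh.Rpush U.ι i).obj F)) (i : ℕ) (hi : i ≤ n) :
    Coh.IsCoh ((Coh.Rpush (U.ι ≫ f) i).obj F) := by
  haveI : DCoh.HasRpush U.ι := hasRightDerivedFunctor (hasKInjRes (U : Scheme.{u})) _
  haveI : DCoh.HasRpush f := hasRightDerivedFunctor (hasKInjRes X) _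
  haveI : DCoh.HasRpush (U.ι ≫ f) := hasRightDerivedFunctor (hasKInjRes (U : Scheme.{u})) _
  let αg := (DCoh.pushKh U.ι).totalRightDerivedUnit DerivedCategory.Qh
    (HomotopyCategory.quasiIso (U : Scheme.{u}).Modules (ComplexShape.up ℤ))
  let αf := (DCoh.pushKh f).totalRightDerivedUnit DerivedCategory.Qh
    (HomotopyCategory.quasiIso X.Modules (ComplexShape.up ℤ))
  let αh := (DCoh.pushKh (U.ι ≫ f)).totalRightDerivedUnit DerivedCategory.Qh
    (HomotopyCategory.quasiIso (U : Scheme.{u}).Modules (ComplexShape.up ℤ))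
  obtain ⟨ec⟩ := Groth.Agent.S0922.result U.ι f
  let K : DCoh.D X := (DCoh.Rpush U.ι).obj ((singleFunctor (U : Scheme.{u}).Modules 0).obj F)
  have hK0 : K.IsGE 0 := isGE_Rpush U.ι _ 0 inferInstance
  haveI := hK0
  let Δ := (t.triangleLEGE n (n + 1) rfl).obj K
  have hΔ : Δ ∈ distTriang _ := t.triangleLEGE_distinguished n (n + 1) rfl K
  have hΔ₁LE : Δ.obj₁.IsLE n := by
    change ((t.truncLE n).obj K).IsLE n
    infer_instance
  have hΔ₁GE : Δ.obj₁.IsGE 0 := by
    change ((t.truncLE n).obj K).IsGE 0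
    infer_instance
  have hΔ₃GE : Δ.obj₃.IsGE (n + 1) := by
    change ((t.truncGE (n + 1)).obj K).IsGE (n + 1)
    infer_instance
  -- cohomology of the truncation
  have hcoh : DCoh.IsCohD Δ.obj₁ := by
    intro q
    by_cases hq0 : q < 0
    · exact Groth.Agent.Lib.Helper16.CohThick.isCoh_of_isZero
        (DerivedCategory.isZero_of_isGE _ 0 q hq0)
    by_cases hqn : (n : ℤ) < q
    · exact Groth.Agent.Lib.Helper16.CohThick.isCoh_of_isZero
        (DerivedCategory.isZero_of_isLE _ n q hqn)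
    obtain ⟨p, hp⟩ : ∃ p : ℕ, (p : ℤ) = q - 0 := ⟨q.toNat, by omega⟩
    haveI := isIso_homologyMap_mor₁ Δ hΔ (n + 1) q (by omega) hΔ₃GE
    obtain ⟨e⟩ := nonempty_homology_single_iso (pushforward U.ι) (DCoh.Rpush U.ι) αg
      (hasKInjRes (U : Scheme.{u})) F 0 q p hp
    exact Groth.Agent.Lib.Helper16.CohThick.isCoh_of_iso
      (e.symm ≪≫ (asIso ((homologyFunctor X.Modules q).map Δ.mor₁)).symm) (hg p (by omega))
  have hsupp : ∀ q : ℤ, ClSub.IsProperOver f (CohB1.support (DCoh.HD Δ.obj₁ q)) := fun q =>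
    isProperOver_of_isProper f _
      (Groth.Agent.Lib.Helper1.isClosed_support_of_isFiniteType _ (hcoh q).2)
  have h1 := isCohD_Rpush_of_isGE f Δ.obj₁ 0 hΔ₁GE hcoh hsupp
  obtain ⟨δ, hT⟩ := exists_distinguished (pushforward f) (DCoh.Rpush f) αf (hasKInjRes X) Δ hΔ
  have h3 : ((DCoh.Rpush f).obj Δ.obj₃).IsGE (n + 1) := isGE_Rpush f _ _ hΔ₃GE
  have hiso : IsIso ((homologyFunctor S.Modules i).map ((DCoh.Rpush f).map Δ.mor₁)) :=
    isIso_homologyMap_mor₁ _ hT (n + 1) i (by omega) h3
  obtain ⟨e2⟩ := nonempty_homology_single_iso (pushforward (U.ι ≫ f)) (DCoh.Rpush (U.ι ≫ f)) αh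
    (hasKInjRes (U : Scheme.{u})) F 0 i i (by simp)
  exact Groth.Agent.Lib.Helper16.CohThick.isCoh_of_iso
    (@asIso _ _ _ _ _ hiso ≪≫
      (homologyFunctor S.Modules i).mapIso (ec.app _) ≪≫ e2) (h1 i)

end Helpers

/-- Let f : X → S be a proper morphism of schemes with S locally Noetherian, U an open subset of X with
inclusion g : U → X, h = f ∘ g : U → S, F an O_U-module and n ≥ 0. If the higher direct images R^i
g_*(F) are coherent O_X-modules for all i ≤ n, then the higher direct images R^i h_*(F) are coherent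
O_S-modules for all i ≤ n. (The existence of injective resolutions in the module categories is
carried as instance arguments.) -/
theorem result {X S : Scheme.{u}} (f : X ⟶ S) [IsProper f] [IsLocallyNoetherian S] (U : X.Opens) [HasInjectiveResolutions (U : Scheme.{u}).Modules] [HasInjectiveResolutions X.Modules] (F : (U : Scheme.{u}).Modules) (n : ℕ) (hg : ∀ i : ℕ, i ≤ n → Coh.IsCoh ((Coh.Rpush U.ι i).obj F)) (i : ℕ) (hi : i ≤ n) : Coh.IsCoh ((Coh.Rpush (U.ι ≫ f) i).obj F) := by
  exact main f U F n hg i hi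

end Groth.Agent.S5186
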