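import Groth.Statements.S5189
import Groth.Agent.Lib.Helper33.EtSecSuppAcyc

set_option autoImplicit false
universe u
open CategoryTheory CategoryTheory.Limits AlgebraicGeometry Opposite
open EtDepth

namespace Groth.Agent.S5189

/-- For an abelian sheaf. Let X be a scheme, j : U → X an open immersion with closed complement Y, F an
abelian sheaf on the small étale site of X and n ≥ 0, and suppose the Y-étale depth of F is ≥ n (the
local cohomology sheaves H^p_Y(F) vanish for p < n). Then the edge homomorphism H^n_Y(X, F) → H^0(X,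
H^n_Y(F)) of the spectral sequence of the composite functor Γ(X, −) ∘ Γ_Y, from the n-th local
cohomology group to the group of global sections of the n-th local cohomology sheaf, is an
isomorphism. -/
theorem result {X U : Scheme.{u}} (j : U ⟶ X) [IsOpenImmersion j] [EtCoh.BCCont j] (F : EtCoh.Ab X) (n : ℕ) (h : EtDepth.DepthGE j F n) : IsIso (RDer.edgeOut (EtDual.secSupp j) (sheafToPresheaf X.smallEtaleTopology AddCommGrpCat.{u+1} ⋙ (evaluation X.Etaleᵒᵖ AddCommGrpCat.{u+1}).obj (op (EtCoh.top X))) n F) := by
  have : EtShriek.JCont j := Groth.Agent.Lib.Helper4.EtRestr.jCont j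
  have hK : ∀ p, Groth.Agent.Lib.Helper33.CompositeLow.Acyc
      (sheafToPresheaf X.smallEtaleTopology AddCommGrpCat.{u+1} ⋙
        (evaluation X.Etaleᵒᵖ AddCommGrpCat.{u+1}).obj (op (EtCoh.top X)))
      ((((EtDual.secSupp j).mapHomologicalComplex (ComplexShape.up ℕ)).obj
        (injectiveResolution F).cocomplex).X p) := fun p =>
    Groth.Agent.Lib.Helper33.EtSecSuppAcyc.acyc_secSupp j (EtCoh.top X)
      ((injectiveResolution F).cocomplex.X p)
  have hH : ∀ p, p < n → IsZero ((((EtDual.secSupp j).mapHomologicalComplex (ComplexShape.up ℕ)).obj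
      (injectiveResolution F).cocomplex).homology p) := fun p hp =>
    (h p hp).of_iso ((injectiveResolution F).isoRightDerivedObj (EtDual.secSupp j) p).symm
  have hiso : IsIso (RDer.homologyComparison
      (sheafToPresheaf X.smallEtaleTopology AddCommGrpCat.{u+1} ⋙
        (evaluation X.Etaleᵒᵖ AddCommGrpCat.{u+1}).obj (op (EtCoh.top X)))
      (((EtDual.secSupp j).mapHomologicalComplex (ComplexShape.up ℕ)).obj
        (injectiveResolution F).cocomplex) n) :=
    Groth.Agent.Lib.Helper33.HomologyCompAcyc.isIso_homologyComparison _ _ hK n hH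
  unfold RDer.edgeOut
  exact IsIso.comp_isIso' inferInstance (IsIso.comp_isIso' hiso inferInstance)

end Groth.Agent.S5189
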