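import Groth.Statements.S5210
import Groth.Agent.H26.UnivEffEpi

set_option autoImplicit false
open CategoryTheory CategoryTheory.Limits
universe w v₁ u₁
open DescCat

namespace Groth.Agent.S5210

/-- In a category with pullbacks, let `f : S' ⟶ S` be a universal effective epimorphism (all of its base
changes are effective epimorphisms) and `Y ⟶ S` a monomorphism. Then an object `X` over `S` admits a
morphism to `Y` over `S` if and only if it does so after base change along `f`. -/
theorem result {C : Type u₁} [Category.{v₁} C] [HasPullbacks C]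
    {S' S : C} (f : S' ⟶ S) (hf : (MorphismProperty.universally (fun (A B : C) (p : A ⟶ B) => EffectiveEpi p)) f) (X Y : Over S) [Mono Y.hom] :
    Nonempty (X ⟶ Y) ↔ Nonempty ((Over.pullback f).obj X ⟶ (Over.pullback f).obj Y) := by
  constructor
  · rintro ⟨φ⟩
    exact ⟨(Over.pullback f).map φ⟩
  · rintro ⟨φ⟩
    let pX := pullback.fst X.hom f
    let pY := pullback.fst Y.hom f
    have hpX : Groth.Agent.H26.UEE C pX := Groth.Agent.H26.UEE.fst hf X.hom
    have := hpX.effectiveEpi
    have hφ : φ.left ≫ pullback.snd Y.hom f = pullback.snd X.hom f := by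
      simpa using Over.w φ
    have hc : (φ.left ≫ pY) ≫ Y.hom = pX ≫ X.hom := by
      simp only [pX, pY, Category.assoc, pullback.condition]
      rw [← Category.assoc, hφ]
    have hcoeq : ∀ {Z : C} (g₁ g₂ : Z ⟶ pullback X.hom f), g₁ ≫ pX = g₂ ≫ pX →
        g₁ ≫ φ.left ≫ pY = g₂ ≫ φ.left ≫ pY := by
      intro Z g₁ g₂ h
      rw [← cancel_mono Y.hom]
      simp only [Category.assoc] at hc ⊢
      rw [hc, ← Category.assoc, h, Category.assoc]
    let h : X.left ⟶ Y.left := EffectiveEpi.desc pX (φ.left ≫ pY) hcoeq
    have hfac : pX ≫ h = φ.left ≫ pY := EffectiveEpi.fac pX _ hcoeq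
    refine ⟨Over.homMk h ?_⟩
    rw [← cancel_epi pX, ← Category.assoc, hfac, hc]

end Groth.Agent.S5210
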