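import Groth.Statements.S5211
import Groth.Agent.H26.UnivEffEpi

set_option autoImplicit false
open CategoryTheory CategoryTheory.Limits
universe w v₁ u₁
open DescCat

namespace Groth.Agent.S5211

/-- In a category with pullbacks: if `f : S' ⟶ S` is a universal effective epimorphism and the canonical
map `S' ×_S S' ⟶ S' ×_T S'` induced by `g : S ⟶ T` is an isomorphism, then `g` is a monomorphism. -/
theorem result {C : Type u₁} [Category.{v₁} C] [HasPullbacks C]
    {S' S T : C} (f : S' ⟶ S) (hf : (MorphismProperty.universally (fun (A B : C) (p : A ⟶ B) => EffectiveEpi p)) f) (g : S ⟶ T)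
    [IsIso (pullback.mapDesc f f g)] : Mono g := by
  constructor
  intro Z a b hab
  let p : pullback a f ⟶ Z := pullback.fst a f
  let a' : pullback a f ⟶ S' := pullback.snd a f
  have hp : Epi p := (Groth.Agent.H26.UEE.fst hf a).epi
  let p' : pullback (p ≫ b) f ⟶ pullback a f := pullback.fst (p ≫ b) f
  let b' : pullback (p ≫ b) f ⟶ S' := pullback.snd (p ≫ b) f
  have hp' : Epi p' := (Groth.Agent.H26.UEE.fst hf (p ≫ b)).epi
  have c1 : a' ≫ f = p ≫ a := (pullback.condition (f := a) (g := f)).symm
  have c2 : b' ≫ f = p' ≫ p ≫ b := by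
    have := (pullback.condition (f := p ≫ b) (g := f)).symm
    simpa using this
  have hw : (p' ≫ a') ≫ f ≫ g = b' ≫ f ≫ g := by
    rw [Category.assoc, ← Category.assoc a', c1, ← Category.assoc b', c2]
    simp only [Category.assoc, hab]
  obtain ⟨s, hs⟩ : ∃ s : pullback (p ≫ b) f ⟶ pullback f f,
      s ≫ pullback.mapDesc f f g = pullback.lift (p' ≫ a') b' hw :=
    ⟨pullback.lift (p' ≫ a') b' hw ≫ inv (pullback.mapDesc f f g), by simp⟩
  have h1 : s ≫ pullback.fst f f = p' ≫ a' := by
    have := congrArg (· ≫ pullback.fst (f ≫ g) (f ≫ g)) hs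
    simp only [Category.assoc, pullback.lift_fst] at this
    rw [← this]
    simp [pullback.mapDesc, pullback.map]
  have h2 : s ≫ pullback.snd f f = b' := by
    have := congrArg (· ≫ pullback.snd (f ≫ g) (f ≫ g)) hs
    simp only [Category.assoc, pullback.lift_snd] at this
    rw [← this]
    simp [pullback.mapDesc, pullback.map]
  have h3 : (p' ≫ a') ≫ f = b' ≫ f := by
    rw [← h1, ← h2, Category.assoc, Category.assoc, pullback.condition]
  rw [Category.assoc, c1, c2] at h3
  have := (cancel_epi p').mp h3
  exact (cancel_epi p).mp this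

end Groth.Agent.S5211
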