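import Groth.Statements.S5215
import Groth.Agent.H26.UnivEffEpi

set_option autoImplicit false
open CategoryTheory CategoryTheory.Limits
universe w v₁ u₁
open DescCat

namespace Groth.Agent.S5215

/-- In a category with pullbacks: for a universally effective equivalence relation `p₁, p₂ : R ⇉ X` with
quotient map `π : X ⟶ X/R` and a morphism `g` out of the quotient, `g` is a monomorphism if and only
if `R` is the kernel pair of `π ≫ g`. -/
theorem result {C : Type u₁} [Category.{v₁} C] [HasPullbacks C]
    {R X Z : C} {p₁ p₂ : R ⟶ X} (e : UniversallyEffectiveEquivalenceRelation p₁ p₂)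
    (f : X ⟶ Z) (g : e.B ⟶ Z) (hg : e.π ≫ g = f) :
    Mono g ↔ IsKernelPair f p₁ p₂ := by
  subst hg
  constructor
  · intro h
    exact e.isKernelPair.comp_of_mono
  · intro h
    apply Groth.Agent.H26.mono_of_UEE_of_kernel_le e.π e.universally_effectiveEpi_π g
    intro Z a b hab
    obtain ⟨l, h1, h2⟩ : ∃ l : Z ⟶ R, l ≫ p₁ = a ∧ l ≫ p₂ = b :=
      ⟨h.lift a b hab, h.lift_fst a b hab, h.lift_snd a b hab⟩
    rw [← h1, ← h2, Category.assoc, Category.assoc, e.isKernelPair.w]

end Groth.Agent.S5215
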