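import Groth.Statements.S5220


set_option autoImplicit false
open CategoryTheory CategoryTheory.Limits
universe w v₁ u₁
open GrpQ

namespace Groth.Agent.S5220

/-- In a category with pullbacks: let `d₀ d₁ : X₁ ⇉ X₀` admit a common section and let `f₀ : Y₀ ⟶ X₀` be
an effective epimorphism which is also a universal epimorphism. For the inverse-image pair `Y₁ :=
(Y₀ ×_{X₀,d₁} X₁) ×_{d₀,X₀} Y₀ ⇉ Y₀`, every morphism out of `Y₀` equalized by the two projections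
descends uniquely to a morphism out of `X₀` equalized by `d₀, d₁`. (Only the common section of the
groupoid structure is used.) -/
theorem result {C : Type u₁} [Category.{v₁} C] [HasPullbacks C]
    {X₁ X₀ Y₀ : C} (d₀ d₁ : X₁ ⟶ X₀) (s : X₀ ⟶ X₁) (hs₀ : s ≫ d₀ = 𝟙 X₀) (hs₁ : s ≫ d₁ = 𝟙 X₀)
    (f₀ : Y₀ ⟶ X₀) [EffectiveEpi f₀]
    (hf : MorphismProperty.universally (MorphismProperty.epimorphisms C) f₀)
    {T : C} (g : Y₀ ⟶ T)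
    (hg : (pullback.fst (pullback.snd f₀ d₁ ≫ d₀) f₀ ≫ pullback.fst f₀ d₁) ≫ g =
      pullback.snd (pullback.snd f₀ d₁ ≫ d₀) f₀ ≫ g) :
    ∃! h : X₀ ⟶ T, d₁ ≫ h = d₀ ≫ h ∧ f₀ ≫ h = g := by
  have hepi : ∀ {A' B' : C} (f' : A' ⟶ B') (i₁ : A' ⟶ Y₀) (i₂ : B' ⟶ X₀),
      IsPullback f' i₁ i₂ f₀ → Epi f' := fun f' i₁ i₂ h =>
    (MorphismProperty.epimorphisms.iff _).mp (hf _ _ _ h)
  -- notation
  let A := pullback f₀ d₁
  let a1 : A ⟶ Y₀ := pullback.fst f₀ d₁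
  let a2 : A ⟶ X₁ := pullback.snd f₀ d₁
  have ha : a1 ≫ f₀ = a2 ≫ d₁ := pullback.condition
  let y1 : pullback (a2 ≫ d₀) f₀ ⟶ A := pullback.fst (a2 ≫ d₀) f₀
  let y2 : pullback (a2 ≫ d₀) f₀ ⟶ Y₀ := pullback.snd (a2 ≫ d₀) f₀
  have hy : y1 ≫ a2 ≫ d₀ = y2 ≫ f₀ := pullback.condition
  have hg' : (y1 ≫ a1) ≫ g = y2 ≫ g := hg
  have ha2 : Epi a2 := hepi a2 a1 d₁ (IsPullback.of_hasPullback f₀ d₁).flip
  have hy1 : Epi y1 := hepi y1 y2 (a2 ≫ d₀) (IsPullback.of_hasPullback (a2 ≫ d₀) f₀)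
  -- step 1
  have hcoeq : ∀ {Z : C} (a b : Z ⟶ Y₀), a ≫ f₀ = b ≫ f₀ → a ≫ g = b ≫ g := by
    intro Z a b hab
    let za : Z ⟶ A := pullback.lift a (a ≫ f₀ ≫ s) (by simp [hs₁])
    have hza1 : za ≫ a1 = a := pullback.lift_fst _ _ _
    have hza2 : za ≫ a2 = a ≫ f₀ ≫ s := pullback.lift_snd _ _ _
    let z : Z ⟶ pullback (a2 ≫ d₀) f₀ := pullback.lift za b (by
      rw [← Category.assoc, hza2]; simp [hs₀, hab])
    have hz1 : z ≫ y1 = za := pullback.lift_fst _ _ _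
    have hz2 : z ≫ y2 = b := pullback.lift_snd _ _ _
    have := congrArg (z ≫ ·) hg'
    simp only [← Category.assoc] at this
    rw [hz1, hza1, hz2] at this
    exact this
  let h : X₀ ⟶ T := EffectiveEpi.desc f₀ g hcoeq
  have hfac : f₀ ≫ h = g := EffectiveEpi.fac f₀ g hcoeq
  refine ⟨h, ⟨?_, hfac⟩, ?_⟩
  · have hx : Epi (y1 ≫ a2) := epi_comp _ _
    rw [← cancel_epi (y1 ≫ a2)]
    calc (y1 ≫ a2) ≫ d₁ ≫ h = y1 ≫ (a2 ≫ d₁) ≫ h := by simp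
      _ = y1 ≫ (a1 ≫ f₀) ≫ h := by rw [ha]
      _ = (y1 ≫ a1) ≫ g := by simp [hfac]
      _ = y2 ≫ g := hg'
      _ = y2 ≫ f₀ ≫ h := by rw [hfac]
      _ = (y1 ≫ a2 ≫ d₀) ≫ h := by rw [hy, Category.assoc]
      _ = (y1 ≫ a2) ≫ d₀ ≫ h := by simp
  · rintro h' ⟨-, hh'⟩
    rw [← cancel_epi f₀, hh', hfac]

end Groth.Agent.S5220
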