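import Groth.Statements.S5221
import Groth.Agent.S5220

set_option autoImplicit false
open CategoryTheory CategoryTheory.Limits
universe w v₁ u₁
open GrpQ

namespace Groth.Agent.S5221

/-- Existence part: in a category with pullbacks: with `d₀ d₁ : X₁ ⇉ X₀` admitting a common section and
`f₀ : Y₀ ⟶ X₀` an effective and universal epimorphism, the pair `(d₀, d₁)` has a coequalizer if and
only if its inverse-image pair on `Y₀` has one. -/
theorem result {C : Type u₁} [Category.{v₁} C] [HasPullbacks C]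
    {X₁ X₀ Y₀ : C} (d₀ d₁ : X₁ ⟶ X₀) (s : X₀ ⟶ X₁) (hs₀ : s ≫ d₀ = 𝟙 X₀) (hs₁ : s ≫ d₁ = 𝟙 X₀)
    (f₀ : Y₀ ⟶ X₀) [EffectiveEpi f₀]
    (hf : MorphismProperty.universally (MorphismProperty.epimorphisms C) f₀) :
    HasCoequalizer d₁ d₀ ↔
      HasCoequalizer (pullback.fst (pullback.snd f₀ d₁ ≫ d₀) f₀ ≫ pullback.fst f₀ d₁)
        (pullback.snd (pullback.snd f₀ d₁ ≫ d₀) f₀) := by
  have hepi : ∀ {A' B' : C} (f' : A' ⟶ B') (i₁ : A' ⟶ Y₀) (i₂ : B' ⟶ X₀),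
      IsPullback f' i₁ i₂ f₀ → Epi f' := fun f' i₁ i₂ h =>
    (MorphismProperty.epimorphisms.iff _).mp (hf _ _ _ h)
  let a1 : pullback f₀ d₁ ⟶ Y₀ := pullback.fst f₀ d₁
  let a2 : pullback f₀ d₁ ⟶ X₁ := pullback.snd f₀ d₁
  have ha : a1 ≫ f₀ = a2 ≫ d₁ := pullback.condition
  let y1 : pullback (a2 ≫ d₀) f₀ ⟶ pullback f₀ d₁ := pullback.fst (a2 ≫ d₀) f₀
  let y2 : pullback (a2 ≫ d₀) f₀ ⟶ Y₀ := pullback.snd (a2 ≫ d₀) f₀
  have hy : y1 ≫ a2 ≫ d₀ = y2 ≫ f₀ := pullback.condition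
  have he1 : (y1 ≫ a1) ≫ f₀ = (y1 ≫ a2) ≫ d₁ := by rw [Category.assoc, ha, Category.assoc]
  have he0 : y2 ≫ f₀ = (y1 ≫ a2) ≫ d₀ := by rw [Category.assoc, hy]
  have key := fun {T : C} (g : Y₀ ⟶ T) (hg : (y1 ≫ a1) ≫ g = y2 ≫ g) =>
    Groth.Agent.S5220.result d₀ d₁ s hs₀ hs₁ f₀ hf g hg
  have hf₀ : Epi f₀ := inferInstance
  -- a morphism out of X₀ coequalizing d₁, d₀ gives one out of Y₀ coequalizing e₁, e₀
  have hdown : ∀ {T : C} (t : X₀ ⟶ T), d₁ ≫ t = d₀ ≫ t → (y1 ≫ a1) ≫ f₀ ≫ t = y2 ≫ f₀ ≫ t := by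
    intro T t ht
    rw [← Category.assoc, he1, ← Category.assoc y2, he0, Category.assoc, ht]
    simp only [Category.assoc]
  change HasCoequalizer d₁ d₀ ↔ HasCoequalizer (y1 ≫ a1) y2
  constructor
  · intro hco
    let q : X₀ ⟶ coequalizer d₁ d₀ := coequalizer.π d₁ d₀
    have hq : d₁ ≫ q = d₀ ≫ q := coequalizer.condition d₁ d₀
    refine ⟨⟨⟨Cofork.ofπ (f₀ ≫ q) (hdown q hq), Cofork.IsColimit.ofExistsUnique ?_⟩⟩⟩
    intro c
    obtain ⟨h, ⟨hh1, hh2⟩, huniq⟩ := key c.π c.condition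
    refine ⟨coequalizer.desc h hh1, ?_, ?_⟩
    · simp [q, hh2]
    · intro k hk
      have hk' : f₀ ≫ q ≫ k = c.π := by simpa using hk
      have : q ≫ k = h := huniq (q ≫ k) ⟨by rw [← Category.assoc, hq, Category.assoc], hk'⟩
      refine coequalizer.hom_ext (f := d₁) (g := d₀) ?_
      simpa [q] using this
  · intro hco
    let r : Y₀ ⟶ coequalizer (y1 ≫ a1) y2 := coequalizer.π (y1 ≫ a1) y2
    have hr : (y1 ≫ a1) ≫ r = y2 ≫ r := coequalizer.condition _ _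
    obtain ⟨h, ⟨hh1, hh2⟩, huniq⟩ := key r hr
    refine ⟨⟨⟨Cofork.ofπ h hh1, Cofork.IsColimit.ofExistsUnique ?_⟩⟩⟩
    intro c
    have hc : d₁ ≫ c.π = d₀ ≫ c.π := c.condition
    refine ⟨coequalizer.desc (f₀ ≫ c.π) (hdown c.π hc), ?_, ?_⟩
    · change h ≫ _ = c.π
      rw [← cancel_epi f₀, ← Category.assoc, hh2]
      simp [r]
    · intro k hk
      have hk' : h ≫ k = c.π := hk
      refine coequalizer.hom_ext (f := y1 ≫ a1) (g := y2) ?_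
      rw [coequalizer.π_desc]
      change r ≫ k = _
      rw [← hh2, Category.assoc, hk']

end Groth.Agent.S5221
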