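import Groth.Statements.S5222
import Mathlib.CategoryTheory.Monoidal.Cartesian.Grp

set_option autoImplicit false
open CategoryTheory CategoryTheory.Limits MonoidalCategory
universe v₁ u₁
open DescCat

namespace Groth.Agent.S5222

open MonObj CartesianMonoidalCategory SemiCartesianMonoidalCategory in
/-- In a cartesian monoidal category with pullbacks: for a homomorphism `f : G ⟶ G'` of group objects
with kernel `K = G ×_{G'} e`, the pair `G × K ⇉ G` given by the projection and by multiplication is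
the kernel pair of `f`. -/
theorem result {C : Type u₁} [Category.{v₁} C]
    [CartesianMonoidalCategory C] [HasPullbacks C]
    {G G' : C} [GrpObj G] [GrpObj G'] (f : G ⟶ G') [IsMonHom f] :
    IsKernelPair f (fst G (pullback f η[G']))
      ((G ◁ pullback.fst f η[G']) ≫ μ[G]) := by
  open scoped MonObj in
  set_option backward.isDefEq.respectTransparency false in
  let K := pullback f η[G']
  let k : K ⟶ G := pullback.fst f η[G']
  have hη : ∀ {T : C} (x : T ⟶ 𝟙_ C), x ≫ η[G'] = 1 := by
    intro T x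
    have : η[G'] = (1 : 𝟙_ C ⟶ G') := MonObj.one_eq_one G'
    rw [this, MonObj.comp_one]
  have hk : k ≫ f = 1 := by
    have h1 : k ≫ f = pullback.snd f η[G'] ≫ η[G'] := pullback.condition
    rw [h1, hη]
  have hkmono : Mono k := pullback.fst_of_mono
  have hb : (G ◁ k) ≫ μ[G] = fst G K * (snd G K ≫ k) := by
    rw [MonObj.mul_eq_mul, MonObj.comp_mul]
    simp
  have hφ : ∀ {T : C} (φ : T ⟶ G ⊗ K), φ ≫ (G ◁ k) ≫ μ[G] = (φ ≫ fst G K) * (φ ≫ snd G K ≫ k) := by
    intro T φ
    rw [hb, MonObj.comp_mul]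
  refine IsPullback.mk' ?_ ?_ ?_
  · rw [hb, MonObj.mul_comp, Category.assoc, hk, MonObj.comp_one, _root_.mul_one]
  · intro T φ φ' h1 h2
    rw [hφ, hφ, h1] at h2
    have h3 := mul_left_cancel h2
    rw [← Category.assoc, ← Category.assoc, cancel_mono] at h3
    exact CartesianMonoidalCategory.hom_ext _ _ h1 h3
  · intro T p q hpq
    have hκ : (p⁻¹ * q) ≫ f = toUnit T ≫ η[G'] := by
      rw [MonObj.mul_comp, GrpObj.inv_comp, hpq, inv_mul_cancel]
      rfl
    let κ : T ⟶ K := pullback.lift (p⁻¹ * q) (toUnit T) hκ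
    have hκ1 : κ ≫ k = p⁻¹ * q := pullback.lift_fst _ _ _
    refine ⟨lift p κ, by simp, ?_⟩
    rw [hφ]
    rw [lift_fst, lift_snd_assoc, hκ1, mul_inv_cancel_left]

end Groth.Agent.S5222
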