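import Groth.Statements.S5223
import Groth.Agent.Lib.Helper14.FlatBaseChangeStalk

set_option autoImplicit false
open CategoryTheory CategoryTheory.Limits AlgebraicGeometry
universe u
open GrpQ

namespace Groth.Agent.S5223

/-- In a cartesian square of schemes `F₂ = F₁ ×_{X₀} X₁` whose bottom map `u : X₁ ⟶ X₀` is flat, the
base-changed map `d' : F₂ ⟶ X₁` is flat at a point `x` if and only if `d : F₁ ⟶ X₀` is flat at the
image of `x` in `F₁`. -/
theorem result {F₂ F₁ X₁ X₀ : Scheme.{u}}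
    {v : F₂ ⟶ F₁} {d' : F₂ ⟶ X₁} {d : F₁ ⟶ X₀} {u : X₁ ⟶ X₀}
    (h : IsPullback v d' d u) [Flat u] (x : F₂) :
    (d'.stalkMap x).hom.Flat ↔ (d.stalkMap (v.base x)).hom.Flat := by
  have hu : ∀ y : X₁, (u.stalkMap y).hom.Flat := fun y => Flat.stalkMap u y
  have hv : (v.stalkMap x).hom.Flat :=
    Groth.Agent.Lib.Helper14.flat_stalkMap_fst_of_isPullback h x (hu _)
  constructor
  · intro hd'
    exact Groth.Agent.Lib.Helper14.flat_stalkMap_of_commSq h.w x hv hd' (hu _)
  · intro hd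
    exact Groth.Agent.Lib.Helper14.flat_stalkMap_fst_of_isPullback h.flip x hd

end Groth.Agent.S5223
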