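import Groth.Statements.S5224
import Groth.Agent.Lib.Helper26.QuotRep
import Groth.Agent.Lib.Helper26.FlatLocal

set_option autoImplicit false
open CategoryTheory CategoryTheory.Limits AlgebraicGeometry
universe u
open GrpQ

namespace Groth.Agent.S5224

/-- For the fppf topology: let `s, t : R ⇉ U` be an equivalence relation of schemes over `S` with `s`
faithfully flat and locally of finite presentation. A morphism `q : U ⟶ Y` over `S` is a faithfully
flat, locally finitely presented quotient with kernel pair `R` if and only if `q` identifies `h_Y`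
with the fppf quotient sheaf `U/R`. -/
theorem result {S : Scheme.{u}} {R U Y : Over S} (s t : R ⟶ U)
    [IsEquivalenceRelation s t]
    [Flat s.left] [Surjective s.left] [LocallyOfFinitePresentation s.left]
    (q : U ⟶ Y) :
    (IsKernelPair q s t ∧ Flat q.left ∧ Surjective q.left ∧ LocallyOfFinitePresentation q.left) ↔
      QuotSh.IsQuotient Scheme.fppfPrecoverage s t q := by
  obtain ⟨e⟩ := (inferInstance : IsEquivalenceRelation s t).nonempty_equivalenceRelation
  constructor
  · rintro ⟨hk, hf, hsurj, hlfp⟩
    exact Groth.Agent.Lib.Helper26.QuotRep.isQuotient_of_isKernelPair _ s t q hk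
      q.left.singleton_mem_fppfPrecoverage
  · intro h
    have hk := Groth.Agent.Lib.Helper26.QuotRep.isKernelPair_of_isQuotient _ e q h
    obtain ⟨w, hiso⟩ := h
    haveI : Epi (QuotSh.repMap Scheme.fppfPrecoverage q) := by
      have hπ : QuotSh.quotπ Scheme.fppfPrecoverage s t ≫
          QuotSh.quotDesc Scheme.fppfPrecoverage q w = QuotSh.repMap Scheme.fppfPrecoverage q :=
        coequalizer.π_desc _ _
      rw [← hπ]
      infer_instance
    obtain ⟨R₀, hR₀, hlift⟩ :=
      Groth.Agent.Lib.Helper26.QuotRep.exists_cover_of_epi Scheme.fppfPrecoverage q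
    refine ⟨hk, ?_, ?_, ?_⟩
    · exact Groth.Agent.Lib.Helper26.QuotRep.prop_of_cover Scheme.fppfPrecoverage @Flat e q hk
        inferInstance R₀ hR₀ hlift
    · exact Groth.Agent.Lib.Helper26.QuotRep.surjective_of_cover q R₀ hR₀.1 hlift
    · exact Groth.Agent.Lib.Helper26.QuotRep.prop_of_cover Scheme.fppfPrecoverage
        @LocallyOfFinitePresentation e q hk inferInstance R₀ hR₀ hlift

end Groth.Agent.S5224
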