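import Groth.Statements.S5225
import Groth.Agent.Lib.Helper26.QuotRep
import Groth.Agent.Lib.Helper26.FlatLocal

set_option autoImplicit false
open CategoryTheory CategoryTheory.Limits AlgebraicGeometry
universe u
open GrpQ

namespace Groth.Agent.S5225

/-- For the étale topology: let `s, t : R ⇉ U` be an equivalence relation of schemes over `S` with `s`
étale and surjective. A morphism `q : U ⟶ Y` over `S` is an étale surjective quotient with kernel
pair `R` if and only if `q` identifies `h_Y` with the étale quotient sheaf `U/R`. -/
theorem result {S : Scheme.{u}} {R U Y : Over S} (s t : R ⟶ U)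
    [IsEquivalenceRelation s t] [Etale s.left] [Surjective s.left]
    (q : U ⟶ Y) :
    (IsKernelPair q s t ∧ Etale q.left ∧ Surjective q.left) ↔
      QuotSh.IsQuotient Scheme.etalePrecoverage s t q := by
  obtain ⟨e⟩ := (inferInstance : IsEquivalenceRelation s t).nonempty_equivalenceRelation
  constructor
  · rintro ⟨hk, het, hsurj⟩
    refine Groth.Agent.Lib.Helper26.QuotRep.isQuotient_of_isKernelPair _ s t q hk ?_
    change Presieve.singleton q.left ∈ Scheme.precoverage @Etale Y.left
    rw [Scheme.singleton_mem_precoverage_iff]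
    exact ⟨hsurj.surj, het⟩
  · intro h
    have hk := Groth.Agent.Lib.Helper26.QuotRep.isKernelPair_of_isQuotient _ e q h
    obtain ⟨w, hiso⟩ := h
    haveI : Epi (QuotSh.repMap Scheme.etalePrecoverage q) := by
      have hπ : QuotSh.quotπ Scheme.etalePrecoverage s t ≫
          QuotSh.quotDesc Scheme.etalePrecoverage q w = QuotSh.repMap Scheme.etalePrecoverage q :=
        coequalizer.π_desc _ _
      rw [← hπ]
      infer_instance
    obtain ⟨R₀, hR₀, hlift⟩ :=
      Groth.Agent.Lib.Helper26.QuotRep.exists_cover_of_epi Scheme.etalePrecoverage q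
    refine ⟨hk, ?_, ?_⟩
    · exact Groth.Agent.Lib.Helper26.QuotRep.prop_of_cover Scheme.etalePrecoverage @Etale e q hk
        inferInstance R₀ hR₀ hlift
    · exact Groth.Agent.Lib.Helper26.QuotRep.surjective_of_cover q R₀ hR₀.1 hlift

end Groth.Agent.S5225
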