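import Groth.Statements.S5226
import Groth.Agent.Lib.Helper26.ShfQuot
import Groth.Agent.H26.UnivEffEpi

set_option autoImplicit false
open CategoryTheory CategoryTheory.Limits
universe w v₁ u₁
open ShfCat

namespace Groth.Agent.S5226

/-- For sheaves of sets on a site with sheafification: if `R ⇉ X` is an equivalence relation with
(universally effective) quotient `X/R` and `Y ⊆ X` is a subsheaf with induced relation `R_Y`, then
the canonical map `Y/R_Y ⟶ X/R` is a monomorphism. Here `R_Y` is built as the iterated pullback of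
`R` along `Y ⟶ X` on both sides. -/
theorem result {C : Type u₁} [Category.{v₁} C]
    (J : GrothendieckTopology C) [HasSheafify J (Type w)]
    {R X Y : Sheaf J (Type w)} {p₁ p₂ : R ⟶ X} (e : UniversallyEffectiveEquivalenceRelation p₁ p₂)
    (ι : Y ⟶ X) [Mono ι]
    [HasCoequalizer (pullback.fst (pullback.fst p₁ ι ≫ p₂) ι ≫ pullback.snd p₁ ι)
      (pullback.snd (pullback.fst p₁ ι ≫ p₂) ι)]
    (g : coequalizer (pullback.fst (pullback.fst p₁ ι ≫ p₂) ι ≫ pullback.snd p₁ ι)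
      (pullback.snd (pullback.fst p₁ ι ≫ p₂) ι) ⟶ e.B)
    (hg : coequalizer.π _ _ ≫ g = ι ≫ e.π) :
    Mono g := by
  let q₁ := pullback.fst (pullback.fst p₁ ι ≫ p₂) ι ≫ pullback.snd p₁ ι
  let q₂ := pullback.snd (pullback.fst p₁ ι ≫ p₂) ι
  let c : Y ⟶ coequalizer q₁ q₂ := coequalizer.π q₁ q₂
  have hc : Groth.Agent.H26.UEE (Sheaf J (Type w)) c :=
    Groth.Agent.Lib.Helper26.ShfQuot.uEE_of_epi J c
  have hg' : c ≫ g = ι ≫ e.π := hg
  apply Groth.Agent.H26.mono_of_UEE_of_kernel_le c hc g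
  intro Z a b hab
  rw [hg', ← Category.assoc, ← Category.assoc] at hab
  obtain ⟨r, hr1, hr2⟩ : ∃ r : Z ⟶ R, r ≫ p₁ = a ≫ ι ∧ r ≫ p₂ = b ≫ ι :=
    ⟨e.isKernelPair.lift (a ≫ ι) (b ≫ ι) hab, e.isKernelPair.lift_fst _ _ _,
      e.isKernelPair.lift_snd _ _ _⟩
  let z₁ : Z ⟶ pullback p₁ ι := pullback.lift r a hr1
  have hz₁1 : z₁ ≫ pullback.fst p₁ ι = r := pullback.lift_fst _ _ _
  have hz₁2 : z₁ ≫ pullback.snd p₁ ι = a := pullback.lift_snd _ _ _
  let z : Z ⟶ pullback (pullback.fst p₁ ι ≫ p₂) ι := pullback.lift z₁ b (by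
    rw [← Category.assoc, hz₁1, hr2])
  have hz1 : z ≫ pullback.fst (pullback.fst p₁ ι ≫ p₂) ι = z₁ := pullback.lift_fst _ _ _
  have hz2 : z ≫ q₂ = b := pullback.lift_snd _ _ _
  have hzq1 : z ≫ q₁ = a := by
    change z ≫ pullback.fst (pullback.fst p₁ ι ≫ p₂) ι ≫ pullback.snd p₁ ι = a
    rw [← Category.assoc, hz1, hz₁2]
  have hcond : q₁ ≫ c = q₂ ≫ c := coequalizer.condition q₁ q₂
  calc a ≫ c = (z ≫ q₁) ≫ c := by rw [hzq1]
    _ = z ≫ q₁ ≫ c := Category.assoc _ _ _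
    _ = z ≫ q₂ ≫ c := by rw [hcond]
    _ = (z ≫ q₂) ≫ c := (Category.assoc _ _ _).symm
    _ = b ≫ c := by rw [hz2]

end Groth.Agent.S5226
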