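import Groth.Statements.S5227
import Groth.Agent.Lib.Helper26.ShfQuot
import Groth.Agent.H26.UnivEffEpi
import Groth.Agent.S5226
import Mathlib.CategoryTheory.Subobject.Limits

set_option autoImplicit false
open CategoryTheory CategoryTheory.Limits
universe w v₁ u₁
open ShfCat

namespace Groth.Agent.S5227

/-- For sheaves of sets on a site with sheafification: for an equivalence relation `R ⇉ X` with
(universally effective) quotient `π : X ⟶ X/R`, inverse image along `π` is a bijection from the
subsheaves of `X/R` onto the subsheaves of `X` stable under `R` (those whose two inverse images in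
`R` agree). -/
theorem result {C : Type u₁} [Category.{v₁} C]
    (J : GrothendieckTopology C) [HasSheafify J (Type w)]
    {R X : Sheaf J (Type w)} {p₁ p₂ : R ⟶ X} (e : UniversallyEffectiveEquivalenceRelation p₁ p₂) :
    Function.Injective (Subobject.pullback e.π).obj ∧
      Set.range (Subobject.pullback e.π).obj =
        {Y : Subobject X | (Subobject.pullback p₁).obj Y = (Subobject.pullback p₂).obj Y} := by
  -- descent of factorisation along a universal effective epimorphism
  have lemA : ∀ {T' T A : Sheaf J (Type w)} (q : T' ⟶ T)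
      (_ : Groth.Agent.H26.UEE (Sheaf J (Type w)) q) (P : Subobject A) (h : T ⟶ A),
      P.Factors (q ≫ h) → P.Factors h := by
    intro T' T A q hq P h hF
    have := hq.effectiveEpi
    have sq : CommSq (P.factorThru (q ≫ h) hF) q P.arrow h :=
      ⟨by simp⟩
    exact (Subobject.factors_iff _ _).mpr ⟨sq.lift, sq.fac_right⟩
  have hπ : Groth.Agent.H26.UEE (Sheaf J (Type w)) e.π := e.universally_effectiveEpi_π
  have hle : ∀ Z Z' : Subobject e.B,
      (Subobject.pullback e.π).obj Z ≤ (Subobject.pullback e.π).obj Z' → Z ≤ Z' := by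
    intro Z Z' h
    apply Subobject.le_of_factors
    have hq : Groth.Agent.H26.UEE (Sheaf J (Type w)) (Subobject.pullbackπ e.π Z) :=
      hπ.of_isPullback (Subobject.isPullback e.π Z)
    apply lemA _ hq
    rw [(Subobject.isPullback e.π Z).w, ← pullback_factors_iff]
    exact Subobject.factors_of_le _ h (Subobject.factors_self _)
  refine ⟨?_, ?_⟩
  · intro Z Z' h
    exact le_antisymm (hle Z Z' h.le) (hle Z' Z h.ge)
  · ext Y
    simp only [Set.mem_range, Set.mem_setOf_eq]
    constructor
    · rintro ⟨Z, rfl⟩
      rw [← Subobject.pullback_comp, ← Subobject.pullback_comp, e.isKernelPair.w]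
    · intro hY
      let ι := Y.arrow
      let q₁ := pullback.fst (pullback.fst p₁ ι ≫ p₂) ι ≫ pullback.snd p₁ ι
      let q₂ := pullback.snd (pullback.fst p₁ ι ≫ p₂) ι
      let c : (Y : Sheaf J (Type w)) ⟶ coequalizer q₁ q₂ := coequalizer.π q₁ q₂
      have hcπ : q₁ ≫ ι ≫ e.π = q₂ ≫ ι ≫ e.π := by
        have h1 : q₁ ≫ ι = pullback.fst (pullback.fst p₁ ι ≫ p₂) ι ≫ pullback.fst p₁ ι ≫ p₁ := by
          simp only [q₁, Category.assoc, pullback.condition]
        have h2 : q₂ ≫ ι = pullback.fst (pullback.fst p₁ ι ≫ p₂) ι ≫ pullback.fst p₁ ι ≫ p₂ := by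
          simp only [q₂, ← pullback.condition, Category.assoc]
        rw [← Category.assoc, h1, ← Category.assoc q₂, h2]
        simp only [Category.assoc, e.isKernelPair.w]
      let g : coequalizer q₁ q₂ ⟶ e.B := coequalizer.desc (ι ≫ e.π) hcπ
      have hg : c ≫ g = ι ≫ e.π := coequalizer.π_desc _ _
      have hmono : Mono g := Groth.Agent.S5226.result J e ι g hg
      have hc : Groth.Agent.H26.UEE (Sheaf J (Type w)) c :=
        Groth.Agent.Lib.Helper26.ShfQuot.uEE_of_epi J c
      refine ⟨Subobject.mk g, le_antisymm ?_ ?_⟩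
      · -- π⁻¹ Z ≤ Y
        apply Subobject.le_of_factors
        set Z := Subobject.mk g with hZ
        set h := ((Subobject.pullback e.π).obj Z).arrow with hh
        have hfac : Z.Factors (h ≫ e.π) := (pullback_factors_iff e.π Z h).mp (Subobject.factors_self _)
        obtain ⟨k, hk⟩ : ∃ k : ((Subobject.pullback e.π).obj Z : Sheaf J (Type w)) ⟶ coequalizer q₁ q₂,
            k ≫ g = h ≫ e.π := (Subobject.mk_factors_iff g (h ≫ e.π)).mp hfac
        have hq : Groth.Agent.H26.UEE (Sheaf J (Type w)) (pullback.fst k c) := hc.fst k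
        apply lemA _ hq
        let q := pullback.fst k c
        let y := pullback.snd k c
        have hqy : q ≫ k = y ≫ c := pullback.condition
        have heq : (y ≫ ι) ≫ e.π = (q ≫ h) ≫ e.π := by
          rw [Category.assoc, ← hg, ← Category.assoc, ← hqy, Category.assoc, hk, Category.assoc]
        obtain ⟨r, hr1, hr2⟩ : ∃ r : pullback k c ⟶ R, r ≫ p₁ = y ≫ ι ∧ r ≫ p₂ = q ≫ h :=
          ⟨e.isKernelPair.lift _ _ heq, e.isKernelPair.lift_fst _ _ _,
            e.isKernelPair.lift_snd _ _ _⟩
        have f1 : Y.Factors (r ≫ p₁) := by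
          rw [hr1]; exact Subobject.factors_comp_arrow y
        have f2 : ((Subobject.pullback p₁).obj Y).Factors r := (pullback_factors_iff p₁ Y r).mpr f1
        rw [hY] at f2
        have f3 := (pullback_factors_iff p₂ Y r).mp f2
        rw [hr2] at f3
        exact f3
      · -- Y ≤ π⁻¹ Z
        apply Subobject.le_of_factors
        rw [pullback_factors_iff, Subobject.mk_factors_iff]
        exact ⟨c, hg⟩

end Groth.Agent.S5227
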