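import Groth.Statements.S5229


set_option autoImplicit false
open CategoryTheory CategoryTheory.Limits
universe v₁ u₁
open DescCat

namespace Groth.Agent.S5229

/-- For universal effective epimorphisms, in a category with pullbacks and binary products: for two
universally effective equivalence relations `R ⇉ X` and `R' ⇉ X'` with quotient maps `π` and `π'`,
the product relation `R × R' ⇉ X × X'` is the kernel pair of `π × π'`. (Together with the fact that
a product of two universal effective epimorphisms is again one, this says that `(X × X')/(R × R')`
is `(X/R) × (X'/R')`; only the kernel-pair assertion is stated here.) -/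
theorem result {C : Type u₁} [Category.{v₁} C]
    [HasPullbacks C] [HasBinaryProducts C]
    {R X R' X' : C} {p₁ p₂ : R ⟶ X} {p₁' p₂' : R' ⟶ X'}
    (e : UniversallyEffectiveEquivalenceRelation p₁ p₂)
    (e' : UniversallyEffectiveEquivalenceRelation p₁' p₂') :
    IsKernelPair (prod.map e.π e'.π) (prod.map p₁ p₁') (prod.map p₂ p₂') := by
  set_option backward.isDefEq.respectTransparency false in
  have h1 := e.isKernelPair
  have h2 := e'.isKernelPair
  refine IsPullback.mk' ?_ ?_ ?_
  · simp only [prod.map_map, h1.w, h2.w]
  · intro T φ φ' ha hb
    have a1 := congrArg (· ≫ prod.fst) ha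
    have a2 := congrArg (· ≫ prod.snd) ha
    have b1 := congrArg (· ≫ prod.fst) hb
    have b2 := congrArg (· ≫ prod.snd) hb
    simp only [Category.assoc, prod.map_fst, prod.map_snd] at a1 a2 b1 b2
    ext
    · apply h1.hom_ext
      · simpa using a1
      · simpa using b1
    · apply h2.hom_ext
      · simpa using a2
      · simpa using b2
  · intro T a b hab
    have c1 := congrArg (· ≫ prod.fst) hab
    have c2 := congrArg (· ≫ prod.snd) hab
    simp only [Category.assoc, prod.map_fst, prod.map_snd] at c1 c2
    simp only [← Category.assoc] at c1 c2
    refine ⟨prod.lift (h1.lift (a ≫ prod.fst) (b ≫ prod.fst) c1)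
      (h2.lift (a ≫ prod.snd) (b ≫ prod.snd) c2), ?_, ?_⟩
    · ext
      · simp
      · simp
    · ext
      · simp
      · simp

end Groth.Agent.S5229
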