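import Groth.Statements.S5231
import Mathlib.CategoryTheory.Sites.Limits

set_option autoImplicit false
open CategoryTheory
universe w v₁ u₁
open ShfCat

namespace Groth.Agent.S5231

/-- (iii) ⇒ (i): a morphism `f` of sheaves of sets on a site is a monomorphism (resp. an epimorphism) as
soon as, for every object `S`, the morphisms `T ⟶ S` over which the restriction of `f` to the
induced site `C/T` is a monomorphism (resp. an epimorphism) form a covering sieve. No sheafification
is assumed. (The published statement also treats isomorphisms in the same way; that case is left out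
here.) -/
theorem result {C : Type u₁} [Category.{v₁} C]
    (J : GrothendieckTopology C) {F G : Sheaf J (Type w)} (f : F ⟶ G) :
    ((∀ S : C, ∃ R : Sieve S, R ∈ J S ∧ ∀ ⦃T : C⦄ (g : T ⟶ S), R g →
        Mono ((J.overPullback (Type w) T).map f)) → Mono f) ∧
    ((∀ S : C, ∃ R : Sieve S, R ∈ J S ∧ ∀ ⦃T : C⦄ (g : T ⟶ S), R g →
        Epi ((J.overPullback (Type w) T).map f)) → Epi f) := by
  have hinj : ∀ {D : Type (max u₁ v₁)} [Category.{v₁} D] (K : GrothendieckTopology D)
      {F G : Sheaf K (Type w)} (f : F ⟶ G) [Mono f] (U : Dᵒᵖ),
      Function.Injective (f.hom.app U) := by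
    intro D _ K F G f _ U
    have h1 : Mono ((sheafToPresheaf K (Type w)).map f) := inferInstance
    have h2 : Mono f.hom := h1
    have := (NatTrans.mono_iff_mono_app f.hom).mp h2 U
    exact (mono_iff_injective _).mp this
  constructor
  · intro h
    have hinjS : ∀ S : C, Function.Injective (f.hom.app (Opposite.op S)) := by
      intro S s s' hss
      obtain ⟨R, hR, hRm⟩ := h S
      apply (((isSheaf_iff_isSheaf_of_type _ _).1 F.2).isSeparated _ hR).ext
      intro T g hg
      have := hRm g hg
      have hT : Function.Injective (f.hom.app (Opposite.op T)) :=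
        hinj (J.over T) ((J.overPullback (Type w) T).map f) (Opposite.op (Over.mk (𝟙 T)))
      apply hT
      have n1 := NatTrans.naturality_apply f.hom g.op s
      have n2 := NatTrans.naturality_apply f.hom g.op s'
      rw [n1, n2, hss]
    have : ∀ U : Cᵒᵖ, Mono (f.hom.app U) := fun U =>
      (mono_iff_injective _).mpr (hinjS U.unop)
    have : Mono f.hom := NatTrans.mono_of_mono_app f.hom
    exact Sheaf.Hom.mono_of_presheaf_mono J (Type w) f
  · intro h
    constructor
    intro H a b hab
    apply Sheaf.hom_ext
    ext U s
    obtain ⟨R, hR, hRm⟩ := h U.unop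
    apply (((isSheaf_iff_isSheaf_of_type _ _).1 H.2).isSeparated _ hR).ext
    intro T g hg
    have hepi := hRm g hg
    have key : (J.overPullback (Type w) T).map a = (J.overPullback (Type w) T).map b := by
      rw [← cancel_epi ((J.overPullback (Type w) T).map f), ← Functor.map_comp,
        ← Functor.map_comp, hab]
    have k2 := congrArg (fun (φ : (J.overPullback (Type w) T).obj G ⟶ (J.overPullback (Type w) T).obj H) =>
      φ.hom.app (Opposite.op (Over.mk (𝟙 T))) (G.obj.map g.op s)) key
    have k3 : a.hom.app (Opposite.op T) (G.obj.map g.op s) =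
        b.hom.app (Opposite.op T) (G.obj.map g.op s) := k2
    have n1 := NatTrans.naturality_apply a.hom g.op s
    have n2 := NatTrans.naturality_apply b.hom g.op s
    exact n1.symm.trans (k3.trans n2)

end Groth.Agent.S5231
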