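import Groth.Statements.S5234
import Groth.Agent.Lib.Helper26.GrpQuotGen
import Mathlib.AlgebraicGeometry.Morphisms.LocalFlatDescent
import Mathlib.AlgebraicGeometry.Morphisms.FlatDescent
import Mathlib.CategoryTheory.Limits.Constructions.Over.Connected

set_option autoImplicit false
open CategoryTheory CategoryTheory.Limits AlgebraicGeometry MonoidalCategory
universe u
open RedSub

namespace Groth.Agent.S5234

open CartesianMonoidalCategory SemiCartesianMonoidalCategory in
/-- (ii) ⇔ (iii), for schemes with the fppf topology: let `G` be an `S`-group scheme which is faithfully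
flat and locally of finite presentation over `S`, acting on `X` so that `X` is formally principal
homogeneous. Then `X` is a torsor (its structure map is faithfully flat and locally of finite
presentation) if and only if `X` has a point over some faithfully flat, locally finitely presented
`S' ⟶ S`. -/
theorem result {S : Scheme.{u}} {G X : Over S} [GrpObj G]
    (a : AlgGrp.Action G X)
    [Flat G.hom] [Surjective G.hom] [LocallyOfFinitePresentation G.hom]
    (hX : IsIso (lift a.act (snd G X))) :
    RedSub.IsTorsor a ↔
      ∃ S' : Over S, Surjective S'.hom ∧ Flat S'.hom ∧ LocallyOfFinitePresentation S'.hom ∧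
        Nonempty (S' ⟶ X) := by
  constructor
  · rintro ⟨h1, h2, h3, -⟩
    exact ⟨X, h1, h2, h3, ⟨𝟙 X⟩⟩
  · rintro ⟨S', hs1, hs2, hs3, ⟨x⟩⟩
    have hflatco : RingHom.CodescendsAlong RingHom.Flat RingHom.FaithfullyFlat := by
      refine .mk _ RingHom.Flat.respectsIso fun R S T _ _ _ _ _ h h' ↦ ?_
      rw [RingHom.faithfullyFlat_algebraMap_iff] at h
      rw [RingHom.flat_algebraMap_iff] at h' ⊢
      exact Module.Flat.of_flat_tensorProduct R T S
    haveI hflat : MorphismProperty.DescendsAlong @Flat
        (@Surjective ⊓ @Flat ⊓ @QuasiCompact : MorphismProperty Scheme.{u}) :=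
      HasRingHomProperty.descendsAlong_flat hflatco
    have sqGX : IsPullback (fst G X).left (snd G X).left G.hom X.hom :=
      IsPullback.of_hasPullback G.hom X.hom
    have sqXS : IsPullback (fst X S').left (snd X S').left X.hom S'.hom :=
      IsPullback.of_hasPullback X.hom S'.hom
    have hiso : IsIso (lift a.act (snd G X)).left :=
      (inferInstance : IsIso ((Over.forget S).map (lift a.act (snd G X))))
    have e1 : (lift a.act (snd G X)).left ≫ (snd X X).left = (snd G X).left := by
      rw [← Over.comp_left, lift_snd]
    have sqx : IsPullback (X ◁ x) (snd X S') (snd X X) x :=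
      Groth.Agent.Lib.Helper26.GrpQuotGen.isPullback_whiskerLeft X x
    have sqx' : IsPullback (X ◁ x).left (snd X S').left (snd X X).left x.left :=
      sqx.map (Over.forget S)
    have key : ∀ (P : MorphismProperty Scheme.{u}) [P.IsStableUnderBaseChange] [P.RespectsIso],
        P G.hom → P (snd X S').left := by
      intro P _ _ hG
      have h1 : P (snd G X).left := P.of_isPullback sqGX hG
      have h2 : P (snd X X).left := by
        have : (snd X X).left = inv (lift a.act (snd G X)).left ≫ (snd G X).left := by
          rw [IsIso.eq_inv_comp, e1]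
        rw [this]
        exact (P.cancel_left_of_respectsIso _ _).mpr h1
      exact P.of_isPullback sqx' h2
    have hQ : (@Surjective ⊓ @Flat ⊓ @LocallyOfFinitePresentation :
        MorphismProperty Scheme.{u}) S'.hom := ⟨⟨hs1, hs2⟩, hs3⟩
    refine ⟨?_, ?_, ?_, hX⟩
    · exact MorphismProperty.of_isPullback_of_descendsAlong (P := @Surjective)
        (Q := @Surjective ⊓ @Flat ⊓ @LocallyOfFinitePresentation) sqXS.flip hQ
        (key @Surjective inferInstance)
    · exact MorphismProperty.of_isPullback_of_descendsAlong (P := @Flat)
        (Q := @Surjective ⊓ @Flat ⊓ @LocallyOfFinitePresentation) sqXS.flip hQ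
        (key @Flat inferInstance)
    · exact MorphismProperty.of_isPullback_of_descendsAlong (P := @LocallyOfFinitePresentation)
        (Q := @Surjective ⊓ @Flat ⊓ @LocallyOfFinitePresentation) sqXS.flip hQ
        (key @LocallyOfFinitePresentation inferInstance)

end Groth.Agent.S5234
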