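import Groth.Statements.S5236
import Groth.Agent.Lib.Helper26.OverUEE
import Groth.Agent.Lib.Helper26.GrpQuotGen

set_option autoImplicit false
open CategoryTheory CategoryTheory.Limits AlgebraicGeometry MonoidalCategory
universe u
open RedSub

namespace Groth.Agent.S5236

/-- For group schemes and the fppf topology: if `i : H ⟶ G` is a normal monomorphism of `S`-group
schemes and `q : G ⟶ Q` exhibits `Q` as the fppf quotient `G/H`, then there is exactly one
group-scheme structure on `Q` over `S` making `q` a homomorphism. -/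
theorem result {S : Scheme.{u}} {H G Q : Over S} [GrpObj H] [hG : GrpObj G]
    (i : H ⟶ G) [IsMonHom i] [Mono i] (hn : AlgGrp.IsNormalHom i)
    (q : G ⟶ Q) (hq : RedSub.IsQuotient i q) :
    ∃! s : GrpObj Q, @IsMonHom (Over S) _ _ G Q hG.toMonObj s.toMonObj q := by
  obtain ⟨h1, h2, h3, h4⟩ := hq
  have hQ : Groth.Agent.Lib.Helper26.GrpQuotGen.IsQuot i q :=
    ⟨Groth.Agent.Lib.Helper26.OverUEE.over_uEE_of_fppf q, h4⟩
  exact Groth.Agent.Lib.Helper26.GrpQuotGen.existsUnique_grpObj hQ hn

end Groth.Agent.S5236
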