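import Groth.Statements.S5252
import Mathlib
import Groth.Agent.S2969
import Groth.Agent.Lib.Helper3.FiniteEtalePairLift
import Groth.Agent.Lib.Helper3.Henselian
import Groth.Agent.Lib.Helper77.IsoTriv6
import Groth.Agent.Lib.Helper77.DefRigid4
import Groth.Agent.Lib.Helper77.KerMT1

set_option autoImplicit false
universe u
open TensorProduct SGA3b
open SGA3b

namespace Groth.Agent.S5252

open TensorProduct Groth.Agent.Lib.Helper77 Groth.Agent.Lib.Helper77.MultBC in
/-- isotriviality of a flat affine group lifts along a nilpotent ideal. -/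
theorem isotrivial_lift_of_flat (R : Type u) [CommRing R] (A : Type u) [CommRing A] [HopfAlgebra R A]
    [Module.Flat R A] (I : Ideal R) (hI : IsNilpotent I)
    (h0 : IsIsotrivial (R ⧸ I) ((R ⧸ I) ⊗[R] A)) : IsIsotrivial R A := by
  obtain ⟨R₀', _, _, het, hfin, hff, hd⟩ := h0
  have hI' : ∀ x ∈ I, IsNilpotent x := by
    intro x hx
    obtain ⟨n, hn⟩ := hI
    exact ⟨n, by have := Ideal.pow_mem_pow hx n; rwa [hn] at this⟩
  haveI : HenselianRing R I := Groth.Agent.Lib.Helper3.henselianRing_of_nil I hI'
  obtain ⟨R', _, _, hfin', het', ⟨e⟩⟩ :=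
    Groth.Agent.Lib.Helper3.exists_finite_etale_lift_of_pair R I R₀'
  letI : Algebra R R₀' := ((algebraMap (R ⧸ I) R₀').comp (Ideal.Quotient.mk I)).toAlgebra
  haveI : IsScalarTower R (R ⧸ I) R₀' := IsScalarTower.of_algebraMap_eq (fun _ => rfl)
  let ψ : R' →ₐ[R] R₀' :=
    (e.toAlgHom.restrictScalars R).comp (Algebra.TensorProduct.includeRight)
  have hψ : ∀ x, ψ x = e ((1 : R ⧸ I) ⊗ₜ[R] x) := fun _ => rfl
  have hsurj : Function.Surjective ψ := by
    intro y
    obtain ⟨x, hx⟩ := DiagNil.exists_one_tmul_eq I (e.symm y)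
    exact ⟨x, by rw [hψ, hx, e.apply_symm_apply]⟩
  have hker : RingHom.ker ψ = Ideal.map (algebraMap R R') I := by
    ext x
    rw [RingHom.mem_ker, hψ, EmbeddingLike.map_eq_zero_iff, GLLift.one_tmul_eq_zero_iff]
  have hnil : IsNilpotent (RingHom.ker ψ) := by
    rw [hker]
    obtain ⟨n, hn⟩ := hI
    exact ⟨n, by rw [← Ideal.map_pow, hn, Ideal.zero_eq_bot, Ideal.map_bot]; rfl⟩
  have hd' : IsDiag R₀' (R₀' ⊗[R] A) := isDiag_of_equiv (cancelBC R (R ⧸ I) R₀' A) hd
  have hdiag := DefRigid.isDiag_lift_of_flat A R' R₀' ψ hsurj hnil hd'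
  haveI : Module.FaithfullyFlat (R ⧸ I) R₀' := hff
  haveI : Algebra.Etale R R' := het'
  have hff' : Module.FaithfullyFlat R R' :=
    IsoTriv6.faithfullyFlat_of_lift (Ideal.Quotient.mk I) R' R₀' Ideal.Quotient.mk_surjective
      (by rw [Ideal.mk_ker]; exact hI') ψ.toRingHom (fun x => ψ.commutes x)
  exact ⟨R', inferInstance, inferInstance, het', hfin', hff', hdiag⟩

open TensorProduct Groth.Agent.Lib.Helper77 Groth.Agent.Lib.Helper77.MultBC in
/-- over a field, a group of multiplicative type and of finite type is isotrivial (in the sense of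
`IsIsotrivial`). -/
theorem isIsotrivial_of_field (k : Type u) [Field k] (B : Type u) [CommRing B] [HopfAlgebra k B]
    (hft : Algebra.FiniteType k B) (h : IsMultType k B) : IsIsotrivial k B := by
  obtain ⟨k', _, _, hfin, hsep, hd⟩ := Groth.Agent.S2969.result k B hft h
  obtain ⟨M, _, _, hM⟩ := hd
  have h1 : Algebra.FormallyEtale k k' := Algebra.FormallyEtale.of_isSeparable k k'
  have h2 : Algebra.FinitePresentation k k' :=
    Algebra.FinitePresentation.of_finiteType.mp inferInstance
  exact ⟨k', inferInstance, inferInstance, ⟨h1, h2⟩, hfin, inferInstance, ⟨M, inferInstance, hM⟩⟩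

/-- Let A be an Artinian local ring with residue field k and H = Spec C an affine A-group with C flat
and of finite type over A, whose closed fibre Spec (k ⊗ C) is a k-group of multiplicative type. Then
H is of multiplicative type and isotrivial. (Affine group schemes over an affine base are taken in
Hopf-algebra form; base change is the tensor product; a homomorphism of groups Spec A ⟶ Spec C is a
bialgebra map C → A.) -/
theorem result (A : Type u) [CommRing A] [IsArtinianRing A] [IsLocalRing A]
    (C : Type u) [CommRing C] [HopfAlgebra A C] [Module.Flat A C] (hft : Algebra.FiniteType A C)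
    (h0 : IsMultType (IsLocalRing.ResidueField A) (IsLocalRing.ResidueField A ⊗[A] C)) :
    IsMultType A C ∧ IsIsotrivial A C := by
  have hnil : IsNilpotent (IsLocalRing.maximalIdeal A) := by
    have h1 := IsArtinianRing.isNilpotent_jacobson_bot (R := A)
    rwa [IsLocalRing.jacobson_eq_maximalIdeal ⊥ bot_ne_top] at h1
  have hft0 : Algebra.FiniteType (IsLocalRing.ResidueField A) (IsLocalRing.ResidueField A ⊗[A] C) :=
    inferInstance
  have hk := isIsotrivial_of_field (IsLocalRing.ResidueField A) (IsLocalRing.ResidueField A ⊗[A] C)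
    hft0 h0
  have hiso : IsIsotrivial A C :=
    isotrivial_lift_of_flat A C (IsLocalRing.maximalIdeal A) hnil hk
  refine ⟨?_, hiso⟩
  obtain ⟨R', _, _, _, _, hff, hd⟩ := hiso
  exact Groth.Agent.Lib.Helper77.KerMT.isMultType_of_isMultTypeConst ⟨R', inferInstance, inferInstance, hff, hd⟩

end Groth.Agent.S5252
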