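import Groth.Statements.S5267
import Groth.Agent.Lib.Helper7.TwConst.Fibres
import Groth.Agent.Lib.Helper26.FpqcLocal

set_option autoImplicit false
open CategoryTheory MonoidalCategory CartesianMonoidalCategory MonObj GrpObj AlgebraicGeometry
universe u
open SGA3x

namespace Groth.Agent.S5267

open CategoryTheory.Limits MorphismProperty Groth.Agent.S19144 Groth.Agent.S5266 Groth.Agent.S5308
  Groth.Agent.Lib.Helper7.TwConst TopologicalSpace

/-- Local structure of a clopen piece `Z` of a quasi-isotrivial twisted constant scheme over a locally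
Noetherian base, near a point `s`: an étale neighbourhood `g`, a preconnected open `N` upstairs, and a
proposition `fin` ("the piece has finitely many sheets") controlling the fibres and the compactness. -/
theorem key {S : Scheme.{u}} [IsLocallyNoetherian S] (P : Over S)
    (hP : TwC.IsTwConst TwC.Topology.etale P) {Z : Scheme.{u}} (z : Z ⟶ P.left)
    [IsOpenImmersion z] [IsClosedImmersion z] (s : S) :
    ∃ (S' : Scheme.{u}) (g : S' ⟶ S) (_ : Etale g) (s' : S') (N : S'.Opens) (fin : Prop),
      g s' = s ∧ s' ∈ N ∧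
      (∀ u ∈ N, ((pullback.snd (z ≫ P.hom) g) ⁻¹' {u}).Finite ↔ fin) ∧
      (fin → ∀ K : Set S', K ⊆ (N : Set S') → IsCompact K →
        IsCompact ((pullback.snd (z ≫ P.hom) g) ⁻¹' K)) := by
  obtain ⟨S', g, hg, ⟨s', rfl⟩, I, ⟨e⟩⟩ := hP s
  have : IsLocallyNoetherian S' := LocallyOfFiniteType.isLocallyNoetherian g
  let e' : pullback P.hom g ≅ ∐ fun _ : I => S' := (Over.forget S').mapIso e
  have he' : e'.hom ≫ c S' I = pullback.snd P.hom g := Over.w e.hom
  let z' : pullback (z ≫ P.hom) g ⟶ pullback P.hom g :=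
    pullback.map (z ≫ P.hom) g P.hom g z (𝟙 S') (𝟙 S) (by simp) (by simp)
  have hz'1 : z' ≫ pullback.fst P.hom g = pullback.fst (z ≫ P.hom) g ≫ z := pullback.lift_fst _ _ _
  have hz'2 : z' ≫ pullback.snd P.hom g = pullback.snd (z ≫ P.hom) g :=
    (pullback.lift_snd _ _ _).trans (Category.comp_id _)
  have big : IsPullback (z' ≫ pullback.snd P.hom g) (pullback.fst (z ≫ P.hom) g) g (z ≫ P.hom) := by
    rw [hz'2]; exact (IsPullback.of_hasPullback _ _).flip
  have sq : IsPullback z' (pullback.fst (z ≫ P.hom) g) (pullback.fst P.hom g) z :=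
    IsPullback.of_right big hz'1 (IsPullback.of_hasPullback P.hom g).flip
  have hz'o : IsOpenImmersion z' :=
    MorphismProperty.of_isPullback (P := @IsOpenImmersion) sq.flip inferInstance
  have hz'c : IsClosedImmersion z' :=
    MorphismProperty.of_isPullback (P := @IsClosedImmersion) sq.flip inferInstance
  let w : pullback (z ≫ P.hom) g ⟶ ∐ fun _ : I => S' := z' ≫ e'.hom
  have hwc : w ≫ c S' I = pullback.snd (z ≫ P.hom) g := by
    simp only [w, Category.assoc, he', hz'2]
  have hw : IsClosed (Set.range w) := w.isClosedEmbedding.isClosed_range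
  let N : S'.Opens := ⟨connectedComponent s', isOpen_connectedComponent_of_isLocallyNoetherian S' s'⟩
  have hN : _root_.IsPreconnected (N : Set S') := isPreconnected_connectedComponent
  have hs'N : s' ∈ N := mem_connectedComponent
  refine ⟨S', g, hg, s', N, {i : I | Sigma.ι (fun _ : I => S') i s' ∈ Set.range w}.Finite, rfl,
    hs'N, fun u hu => ?_, fun hJ K hKN hK => ?_⟩
  · rw [← hwc]
    exact finite_fibre_iff_of_preconnected w hw hN hs'N hu
  · rw [← hwc]
    exact isCompact_preimage_of_preconnected w hw hN hs'N hJ hKN hK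


/-- Let S be a locally Noetherian connected scheme, P a quasi-isotrivial twisted constant S-scheme
(etale-locally on S isomorphic to a constant scheme) and Z an open and closed subscheme of P such
that for some s ∈ S the fibre Z_s is finite. Then Z is finite over S. -/
theorem result {S : Scheme.{u}} [IsLocallyNoetherian S] [ConnectedSpace S]
    (P : Over S) (hP : TwC.IsTwConst TwC.Topology.etale P)
    {Z : Scheme.{u}} (z : Z ⟶ P.left) [IsOpenImmersion z] [IsClosedImmersion z]
    (hs : ∃ s : S, Set.Finite ((z ≫ P.hom).base ⁻¹' {s})) :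
    IsFinite (z ≫ P.hom) := by
  obtain ⟨h1, h2, h3⟩ := Groth.Agent.S19144.result P hP
  have h3' := (ValuativeCriterion.iff.mp h3).1
  -- the locus of finite fibres is open and closed
  let E : Set S := {s | ((z ≫ P.hom) ⁻¹' {s}).Finite}
  have hloc : ∀ s : S, ∃ O : Set S, IsOpen O ∧ s ∈ O ∧ ((∀ t ∈ O, t ∈ E) ∨ (∀ t ∈ O, t ∉ E)) := by
    intro s
    obtain ⟨S', g, hg, s', N, fin, rfl, hs'N, ha, -⟩ := key P hP z s
    refine ⟨g '' (N : Set S'), g.isOpenMap _ N.2, ⟨s', hs'N, rfl⟩, ?_⟩
    by_cases hfin : fin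
    · left
      rintro _ ⟨u, hu, rfl⟩
      exact (finite_fibre_iff (z ≫ P.hom) g u).mp ((ha u hu).mpr hfin)
    · right
      rintro _ ⟨u, hu, rfl⟩ ht
      exact hfin ((ha u hu).mp ((finite_fibre_iff (z ≫ P.hom) g u).mpr ht))
  have hEo : IsOpen E := by
    rw [isOpen_iff_forall_mem_open]
    intro s hsE
    obtain ⟨O, hO, hsO, h | h⟩ := hloc s
    · exact ⟨O, h, hO, hsO⟩
    · exact absurd hsE (h s hsO)
  have hEc : IsOpen Eᶜ := by
    rw [isOpen_iff_forall_mem_open]
    intro s hsE
    obtain ⟨O, hO, hsO, h | h⟩ := hloc s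
    · exact absurd (h s hsO) hsE
    · exact ⟨O, h, hO, hsO⟩
  have hEu : E = Set.univ := IsClopen.eq_univ ⟨isOpen_compl_iff.mp hEc, hEo⟩ hs
  -- quasi-compactness, étale locally
  have hqc : QuasiCompact (z ≫ P.hom) := by
    refine of_etale_local (z ≫ P.hom) @QuasiCompact (fun s => ?_)
    obtain ⟨S', g, hg, s', N, fin, rfl, hs'N, ha, hb⟩ := key P hP z s
    have hfin : fin := (ha s' hs'N).mp
      ((finite_fibre_iff (z ≫ P.hom) g s').mpr (by
        have : g s' ∈ E := hEu ▸ Set.mem_univ _
        exact this))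
    refine ⟨N, N.ι ≫ g, inferInstance, ⟨⟨s', hs'N⟩, rfl⟩, ?_⟩
    have sqAB := (isPullback_morphismRestrict (pullback.snd (z ≫ P.hom) g) N).flip.paste_horiz
      (IsPullback.of_hasPullback (z ≫ P.hom) g)
    have hres : QuasiCompact (pullback.snd (z ≫ P.hom) g ∣_ N) := by
      refine ⟨fun V hV hVc => ?_⟩
      have himg : ((pullback.snd (z ≫ P.hom) g) ⁻¹ᵁ N).ι ''
          ((pullback.snd (z ≫ P.hom) g ∣_ N) ⁻¹' V) =
          (pullback.snd (z ≫ P.hom) g) ⁻¹' (N.ι '' V) := by
        ext y
        constructor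
        · rintro ⟨a, ha', rfl⟩
          refine ⟨(pullback.snd (z ≫ P.hom) g ∣_ N) a, ha', ?_⟩
          rw [← Scheme.Hom.comp_apply, morphismRestrict_ι, Scheme.Hom.comp_apply]
        · rintro ⟨v, hv, hvy⟩
          have hy : y ∈ (pullback.snd (z ≫ P.hom) g) ⁻¹ᵁ N := by
            show pullback.snd (z ≫ P.hom) g y ∈ N
            rw [← hvy]
            exact v.2
          refine ⟨⟨y, hy⟩, ?_, rfl⟩
          have : (pullback.snd (z ≫ P.hom) g ∣_ N) ⟨y, hy⟩ = v := by
            apply N.ι.injective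
            rw [← Scheme.Hom.comp_apply, morphismRestrict_ι, Scheme.Hom.comp_apply]
            exact hvy.symm
          show (pullback.snd (z ≫ P.hom) g ∣_ N) ⟨y, hy⟩ ∈ V
          rw [this]
          exact hv
      have hK : IsCompact ((pullback.snd (z ≫ P.hom) g) ⁻¹' (N.ι '' V)) := by
        refine hb hfin _ ?_ (hVc.image N.ι.continuous)
        rintro _ ⟨v, -, rfl⟩
        exact v.2
      rw [← himg] at hK
      exact ((pullback.snd (z ≫ P.hom) g) ⁻¹ᵁ N).ι.isOpenEmbedding.isEmbedding.isCompact_iff.mpr hK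
    rw [← sqAB.isoPullback_inv_snd]
    infer_instance
  exact isFinite_of_isClosedImmersion_of_quasiCompact P.hom h3' z

end Groth.Agent.S5267
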