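import Groth.Statements.S5268
import Groth.Agent.Lib.Helper7.TwConst.Finite
import Groth.Agent.Lib.Helper7.TwConst.LocIrred
import Groth.Agent.Lib.Helper61.GU10

set_option autoImplicit false
open CategoryTheory MonoidalCategory CartesianMonoidalCategory MonObj GrpObj AlgebraicGeometry
universe u
open SGA3x

namespace Groth.Agent.S5268

/-- Let S be a locally Noetherian scheme all of whose local rings are geometrically unibranch, and P a
quasi-isotrivial twisted constant S-scheme (etale-locally on S isomorphic to a constant scheme).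
Then every connected component of P is open, and as an open subscheme of P it is finite over S. -/
theorem result {S : Scheme.{u}} [IsLocallyNoetherian S]
    (hS : ∀ s : S, CAlg2.IsGeomUnibranch (S.presheaf.stalk s))
    (P : Over S) (hP : TwC.IsTwConst TwC.Topology.etale P) (x : P.left) :
    ∃ U : P.left.Opens, (U : Set P.left) = connectedComponent x ∧ IsFinite (U.ι ≫ P.hom) := by
  obtain ⟨h1, h2, h3⟩ := Groth.Agent.S19144.result P hP
  have hlN : IsLocallyNoetherian P.left := LocallyOfFiniteType.isLocallyNoetherian P.hom
  have hst : ∀ y : P.left, (nilradical (P.left.presheaf.stalk y)).IsPrime := fun y =>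
    Groth.Agent.Lib.Helper61.GU.nilradical_isPrime_stalk_of_flat_of_formallyUnramified P.hom y
      (Flat.stalkMap P.hom y) (FormallyUnramified.stalkMap P.hom y) (hS _)
  have hloc := Groth.Agent.Lib.Helper7.TwConst.exists_isOpen_isIrreducible_nhd P.left hst
  obtain ⟨hC, hopen⟩ :=
    Groth.Agent.Lib.Helper7.TwConst.connectedComponent_eq_irreducibleComponent hloc x
  let U : P.left.Opens := ⟨connectedComponent x, by rw [hC]; exact hopen⟩
  have hUc : IsClosed (U : Set P.left) := isClosed_connectedComponent
  have hUcl : IsClosedImmersion U.ι := IsClosedImmersion.of_isPreimmersion _ (by simpa using hUc)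
  refine ⟨U, rfl, ?_⟩
  have hlc := Groth.Agent.Lib.Helper7.TwConst.locPreconn_of_isLocallyNoetherian S
  have hclopen := Groth.Agent.Lib.Helper7.TwConst.isClopen_finiteFibreLocus hlc P hP U.ι
  -- the generic point of the component
  have hirr : IsIrreducible (connectedComponent x) := by
    rw [hC]; exact isIrreducible_irreducibleComponent
  obtain ⟨ξ, hξ⟩ := QuasiSober.sober hirr isClosed_connectedComponent
  have hlqf : LocallyQuasiFinite P.hom :=
    Groth.Agent.S5266.locallyQuasiFinite_of_formallyUnramified P.hom
  have hd := P.hom.isDiscrete_preimage_singleton (P.hom ξ)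
  have hξfib : ((U.ι ≫ P.hom) ⁻¹' {P.hom ξ}).Finite := by
    apply Set.Subsingleton.finite
    intro a ha b hb
    have ha' : P.hom (U.ι a) = P.hom ξ := by
      rw [← Scheme.Hom.comp_apply]; exact ha
    have hb' : P.hom (U.ι b) = P.hom ξ := by
      rw [← Scheme.Hom.comp_apply]; exact hb
    have hamem : U.ι a ∈ connectedComponent x := a.2
    have hbmem : U.ι b ∈ connectedComponent x := b.2
    have hsa : ξ ⤳ U.ι a := by
      rw [specializes_iff_mem_closure, hξ.def]; exact hamem
    have hsb : ξ ⤳ U.ι b := by
      rw [specializes_iff_mem_closure, hξ.def]; exact hbmem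
    have e1 : ξ = U.ι a := hd.eq_of_specializes hsa rfl ha'
    have e2 : ξ = U.ι b := hd.eq_of_specializes hsb rfl hb'
    exact U.ι.injective (e1.symm.trans e2)
  have hξC : ξ ∈ connectedComponent x := by
    rw [← hξ.def]; exact subset_closure rfl
  have himg : _root_.IsPreconnected (P.hom '' connectedComponent x) :=
    isPreconnected_connectedComponent.image _ P.hom.continuous.continuousOn
  have hsub := himg.subset_isClopen hclopen ⟨P.hom ξ, ⟨ξ, hξC, rfl⟩, hξfib⟩
  refine Groth.Agent.Lib.Helper7.TwConst.isFinite_of_forall_finite_fibre hlc P hP U.ι (fun s => ?_)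
  by_cases hs : ((U.ι ≫ P.hom) ⁻¹' {s}).Nonempty
  · obtain ⟨a, ha⟩ := hs
    have ha' : P.hom (U.ι a) = s := by
      rw [← Scheme.Hom.comp_apply]; exact ha
    exact hsub ⟨U.ι a, a.2, ha'⟩
  · rw [Set.not_nonempty_iff_eq_empty] at hs
    rw [hs]
    exact Set.finite_empty

end Groth.Agent.S5268
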