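import Groth.Statements.S5278
import Groth.Agent.Lib.Helper69.ConnComp
import Mathlib.AlgebraicGeometry.Morphisms.UniversallyOpen
import Mathlib.AlgebraicGeometry.Morphisms.QuasiFinite

set_option autoImplicit false
open CategoryTheory AlgebraicGeometry
universe u
open SGA3x
open Groth.Agent.Lib.Helper69

namespace Groth.Agent.S5278

/-- Let X be a connected scheme, f : X' ⟶ X a finite etale morphism and x a point of X. Then every
connected component of X' meets the fibre of f over x; equivalently the map from the connected
components of the fibre (or of the geometric fibre) to those of X' is surjective. -/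
theorem result {X X' : Scheme.{u}} [ConnectedSpace X] (f : X' ⟶ X)
    [IsFinite f] [Etale f] (x : X) (c : X') :
    ∃ x' : X', f.base x' = x ∧ x' ∈ connectedComponent c := by
  have ho : IsOpenMap f := f.isOpenMap
  have hc : IsClosedMap f := f.isClosedMap
  obtain ⟨a, ha, hab⟩ := exists_mem_connectedComponent_of_isOpenMap_of_isClosedMap f ho hc x
    (f.finite_preimage_singleton x) c
  exact ⟨a, hab, ha⟩

end Groth.Agent.S5278
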