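import Groth.Statements.S5308
import Groth.Agent.S5266

set_option autoImplicit false
open CategoryTheory MonoidalCategory CartesianMonoidalCategory MonObj GrpObj AlgebraicGeometry
universe u
open SGA3x

namespace Groth.Agent.S5308

open CategoryTheory.Limits MorphismProperty Groth.Agent.S19144 Groth.Agent.S5266

/-- A closed subscheme, quasi-compact over the base, of a separated étale scheme satisfying the
existence part of the valuative criterion, is finite over the base. -/
theorem isFinite_of_isClosedImmersion_of_quasiCompact {X S Z : Scheme.{u}} (p : X ⟶ S)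
    [IsSeparated p] [Etale p] (h3 : ValuativeCriterion.Existence p) (z : Z ⟶ X)
    [IsClosedImmersion z] [QuasiCompact (z ≫ p)] : IsFinite (z ≫ p) := by
  have h4 : ValuativeCriterion.Existence (z ≫ p) := by
    refine existence_comp z p ?_ h3
    have : UniversallyClosed z := inferInstance
    rw [UniversallyClosed.eq_valuativeCriterion] at this
    exact this.1
  have h5 : UniversallyClosed (z ≫ p) := UniversallyClosed.of_valuativeCriterion _ h4
  have h6 : IsProper (z ≫ p) := {}
  have h7 : LocallyQuasiFinite p := locallyQuasiFinite_of_formallyUnramified p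
  have h8 : LocallyQuasiFinite (z ≫ p) := inferInstance
  exact IsFinite.of_isProper_of_locallyQuasiFinite _


/-- (i) ⇒ (ii). Let R be a commutative twisted constant S-group which is isotrivial (it becomes a
constant group over the open and closed pieces of one finite etale surjective S' ⟶ S). Then R is a
union of open and closed subschemes which are quasi-compact, indeed finite, over S: every point of R
has an open and closed neighbourhood U in R with U ⟶ S finite. -/
theorem result {S : Scheme.{u}} (R : Over S) [GrpObj R]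
    (hcomm : ∀ (X : Over S) (a b : X ⟶ R), a * b = b * a) (hR : TwC.IsTwConstGrp TwC.Topology.finiteEtale R) (x : R.left) :
    ∃ U : R.left.Opens, x ∈ U ∧ IsClosed (U : Set R.left) ∧ IsFinite (U.ι ≫ R.hom) := by
  obtain ⟨S', f, hf1, hf2, hf3, H⟩ := hR
  -- `R` is quasi-isotrivial, hence separated, etale, with the valuative criterion
  have hX : TwC.IsTwConst TwC.Topology.etale R := by
    intro s
    obtain ⟨s', rfl⟩ := f.surjective s
    obtain ⟨U, hU, hUc, M, _, e, -⟩ := H s'
    have : IsClosedImmersion U.ι := IsClosedImmersion.of_isPreimmersion _ (by simpa using hUc)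
    exact ⟨U, U.ι ≫ f, inferInstance, ⟨⟨s', hU⟩, rfl⟩, M, ⟨e⟩⟩
  obtain ⟨h1, h2, h3⟩ := Groth.Agent.S19144.result R hX
  have h3' := (ValuativeCriterion.iff.mp h3).1
  -- a point over `x`
  obtain ⟨s', hs'⟩ := f.surjective (R.hom x)
  obtain ⟨U, hU, hUc, M, _, e, -⟩ := H s'
  have hUcl : IsClosedImmersion U.ι := IsClosedImmersion.of_isPreimmersion _ (by simpa using hUc)
  obtain ⟨x'', hx''1, hx''2⟩ := Scheme.Pullback.exists_preimage_pullback (f := R.hom)
    (g := U.ι ≫ f) x ⟨s', hU⟩ hs'.symm
  let e' : pullback R.hom (U.ι ≫ f) ≅ ∐ fun _ : M => (U : Scheme.{u}) :=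
    (Over.forget (U : Scheme.{u})).mapIso e
  have he' : e'.hom ≫ c (U : Scheme.{u}) M = pullback.snd R.hom (U.ι ≫ f) := Over.w e.hom
  obtain ⟨m, u, hu⟩ := (sigmaOpenCover (fun _ : M => (U : Scheme.{u}))).exists_eq (e'.hom x'')
  change Sigma.ι (fun _ : M => (U : Scheme.{u})) m u = e'.hom x'' at hu
  -- the morphism `κ : U ⟶ R`
  let κ : (U : Scheme.{u}) ⟶ R.left :=
    Sigma.ι (fun _ : M => (U : Scheme.{u})) m ≫ e'.inv ≫ pullback.fst R.hom (U.ι ≫ f)
  have hκ : κ ≫ R.hom = U.ι ≫ f := by
    simp only [κ, Category.assoc, pullback.condition]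
    rw [← Category.assoc e'.inv, ← he', Iso.inv_hom_id_assoc, ← Category.assoc, Sigma.ι_desc,
      Category.id_comp]
  have hκx : κ u = x := by
    simp only [κ, Scheme.Hom.comp_apply]
    rw [hu, ← Scheme.Hom.comp_apply e'.hom e'.inv, Iso.hom_inv_id]
    exact hx''1
  have hfin : IsFinite (κ ≫ R.hom) := by rw [hκ]; infer_instance
  have hκet : Etale κ := by
    have : Etale (κ ≫ R.hom) := by rw [hκ]; infer_instance
    exact MorphismProperty.of_postcomp (W := @Etale) (W' := @Etale) κ R.hom inferInstance this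
  have hκuc : UniversallyClosed κ := UniversallyClosed.of_comp_of_isSeparated κ R.hom
  let C : R.left.Opens := ⟨Set.range κ, κ.isOpenMap.isOpen_range⟩
  have hCc : IsClosed (C : Set R.left) := κ.isClosedMap.isClosed_range
  have hCcl : IsClosedImmersion C.ι := IsClosedImmersion.of_isPreimmersion _ (by simpa using hCc)
  refine ⟨C, ⟨u, hκx⟩, hCc, ?_⟩
  have hqc : QuasiCompact (C.ι ≫ R.hom) := by
    refine ⟨fun V hV hVc => ?_⟩
    have hcomp : IsCompact ((κ ≫ R.hom) ⁻¹' V) :=
      (inferInstance : QuasiCompact (κ ≫ R.hom)).isCompact_preimage V hV hVc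
    have himg : C.ι '' ((C.ι ≫ R.hom) ⁻¹' V) = κ '' ((κ ≫ R.hom) ⁻¹' V) := by
      ext r
      constructor
      · rintro ⟨⟨_, ⟨w, rfl⟩⟩, hc, rfl⟩
        exact ⟨w, hc, rfl⟩
      · rintro ⟨w, hw, rfl⟩
        exact ⟨⟨κ w, ⟨w, rfl⟩⟩, hw, rfl⟩
    have h1 : IsCompact (C.ι '' ((C.ι ≫ R.hom) ⁻¹' V)) := by
      rw [himg]
      exact hcomp.image κ.continuous
    exact C.ι.isOpenEmbedding.isEmbedding.isCompact_iff.mpr h1
  exact isFinite_of_isClosedImmersion_of_quasiCompact R.hom h3' C.ι

end Groth.Agent.S5308
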