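import Groth.Statements.S5312
import Groth.Agent.Lib.Helper14.FibreCritSchemeFT
import Groth.Agent.Lib.Helper14.FibreCritGroup
import Groth.Agent.Lib.Helper21.OfComp
import Groth.Agent.S0386

set_option autoImplicit false
universe u
open CategoryTheory CategoryTheory.Limits MonoidalCategory CartesianMonoidalCategory MonObj GrpObj AlgebraicGeometry
open SGA3

namespace Groth.Agent.S5312

/-- Let u : G → H be a homomorphism of S-group schemes, with G flat and locally of finite presentation
over S and H locally of finite type over S. Then the set U of points s of S such that the fibre u_s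
: G_s → H_s over κ(s) is flat is open in S, and the set of points of G at which u is flat (the local
ring of G is flat over that of H) is the inverse image of U in G. (The published statement assumes
the finiteness and flatness conditions only at the points of the unit sections for the openness of
U; this row assumes them on all of G and H, the case in which the second assertion is stated.) -/
theorem result (S : Scheme.{u}) (G H : Over S) [GrpObj G] [GrpObj H] (u : G ⟶ H) [IsMonHom u]
    [Flat G.hom] [LocallyOfFinitePresentation G.hom] [LocallyOfFiniteType H.hom] :
    IsOpen {s : S | Flat ((Over.pullback (S.fromSpecResidueField s)).map u).left} ∧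
    {x : G.left | (u.left.stalkMap x).hom.Flat} = G.hom.base ⁻¹' {s : S | Flat ((Over.pullback (S.fromSpecResidueField s)).map u).left} := by
  have hw : u.left ≫ H.hom = G.hom := Over.w u
  haveI : LocallyOfFinitePresentation (u.left ≫ H.hom) := by rw [hw]; infer_instance
  haveI : LocallyOfFinitePresentation u.left :=
    Groth.Agent.Lib.Helper21.locallyOfFinitePresentation_of_comp_of_locallyOfFiniteType
      u.left H.hom
  have hopenFl : IsOpen {x : G.left | (u.left.stalkMap x).hom.Flat} :=
    Groth.Agent.S0386.result u.left
  have key : ∀ x : G.left, (u.left.stalkMap x).hom.Flat ↔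
      Flat ((Over.pullback (S.fromSpecResidueField (G.hom x))).map u).left := by
    intro x
    let s := G.hom x
    let φ := S.fromSpecResidueField s
    let pt : ↥(Spec (S.residueField s)) := IsLocalRing.closedPoint (S.residueField s)
    have hpt : G.hom x = φ pt := (Scheme.fromSpecResidueField_apply s pt).symm
    obtain ⟨x', hx', -⟩ := Scheme.Pullback.exists_preimage_pullback x pt hpt
    have sq := Groth.Agent.Lib.Helper14.isPullback_overPullback_map_left u φ
    constructor
    · intro hx
      haveI : Subsingleton ↥(Spec (S.residueField s)) :=
        inferInstanceAs (Subsingleton (PrimeSpectrum (S.residueField s)))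
      haveI : Flat ((Over.pullback φ).obj G).hom := by
        show Flat (pullback.snd _ _); infer_instance
      apply Groth.Agent.Lib.Helper14.flat_of_flat_stalkMap_of_subsingleton ((Over.pullback φ).map u)
      refine ⟨x', ?_⟩
      apply Groth.Agent.Lib.Helper14.flat_stalkMap_fst_of_isPullback sq.flip x'
      rw [hx']
      exact hx
    · intro hfl
      have hK : IsField (S.residueField s) := Field.toIsField _
      refine Groth.Agent.Lib.Helper14.FibreCrit.flat_stalkMap_of_isPullback_field_ft
        (K := S.residueField s) hK (IsPullback.of_hasPullback H.hom φ) sq x' x hx' ?_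
        (Flat.stalkMap _ x')
      have k2 : ∀ (α β : G.left ⟶ S), α = β → (β.stalkMap x).hom.Flat →
          (α.stalkMap x).hom.Flat := by
        intro α β h; subst h; exact id
      exact k2 _ _ hw (Flat.stalkMap G.hom x)
  have hset : {x : G.left | (u.left.stalkMap x).hom.Flat} = G.hom.base ⁻¹'
      {s : S | Flat ((Over.pullback (S.fromSpecResidueField s)).map u).left} := by
    ext x
    exact key x
  refine ⟨?_, hset⟩
  have he : {s : S | Flat ((Over.pullback (S.fromSpecResidueField s)).map u).left} =
      (η[G].left : S ⟶ G.left) ⁻¹' {x : G.left | (u.left.stalkMap x).hom.Flat} := by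
    ext s
    have hs : G.hom ((η[G].left : S ⟶ G.left) s) = s := by
      rw [← Scheme.Hom.comp_apply]
      have : (η[G].left : S ⟶ G.left) ≫ G.hom = 𝟙 S := Over.w η[G]
      rw [this]; rfl
    show _ ↔ (u.left.stalkMap ((η[G].left : S ⟶ G.left) s)).hom.Flat
    rw [key, hs]
    rfl
  rw [he]
  exact hopenFl.preimage (η[G].left : S ⟶ G.left).continuous

end Groth.Agent.S5312
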