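import Groth.Statements.S5318
import Groth.Agent.Lib.Helper41.LftGroupField
import Groth.Agent.Lib.Helper14.GroupFibreLoci4
import Groth.Agent.Lib.Helper14.UnramBaseChange

set_option autoImplicit false
universe u
open CategoryTheory CategoryTheory.Limits MonoidalCategory CartesianMonoidalCategory MonObj GrpObj AlgebraicGeometry
open SGA3

namespace Groth.Agent.S5318

/-- A morphism whose restriction to an open is an isomorphism onto the base ... : if `η ≫ g = 𝟙` and
`η` is an open immersion, then `η.opensRange.ι ≫ g` is an isomorphism. -/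
theorem isIso_opensRange_comp {S X : Scheme.{u}} (e : S ⟶ X) (g : X ⟶ S) [IsOpenImmersion e]
    (h : e ≫ g = 𝟙 S) : IsIso (e.opensRange.ι ≫ g) := by
  have h1 : e.opensRange.ι ≫ g = e.isoOpensRange.inv := by
    rw [← Scheme.Hom.isoOpensRange_inv_comp, Category.assoc, h, Category.comp_id]
  rw [h1]
  infer_instance

/-- the fibre part of the direct implication -/
theorem fibre_unramified (S : Scheme.{u}) (G : Over S) [GrpObj G] (hη : IsOpenImmersion η[G].left)
    (s : S) : FormallyUnramified (G.hom.fiberToSpecResidueField s) ∧
      LocallyOfFinitePresentation (G.hom.fiberToSpecResidueField s) := by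
  let φ : Spec (S.residueField s) ⟶ S := S.fromSpecResidueField s
  let Gs : Over (Spec (S.residueField s)) := Red.bc φ G
  change FormallyUnramified Gs.hom ∧ LocallyOfFinitePresentation Gs.hom
  -- the unit section of `Gs` is an open immersion
  have h1 : η[Gs] = Functor.LaxMonoidal.ε (Over.pullback φ) ≫ (Over.pullback φ).map η[G] := rfl
  have h2 : IsOpenImmersion ((Over.pullback φ).map η[G]).left :=
    MorphismProperty.of_isPullback (P := @IsOpenImmersion)
      (Groth.Agent.Lib.Helper14.isPullback_overPullback_map_left η[G] φ) hη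
  have h3 : IsIso (Functor.LaxMonoidal.ε (Over.pullback φ)).left :=
    inferInstanceAs (IsIso ((Over.forget _).map (Functor.LaxMonoidal.ε (Over.pullback φ))))
  have hηs : IsOpenImmersion η[Gs].left := by
    rw [h1, Over.comp_left]
    infer_instance
  have hw : η[Gs].left ≫ Gs.hom = 𝟙 _ := Over.w η[Gs]
  let Ws : Gs.left.Opens := η[Gs].left.opensRange
  have hiso : IsIso (Ws.ι ≫ Gs.hom) := isIso_opensRange_comp η[Gs].left Gs.hom hw
  have hWs : (Ws : Set Gs.left).Nonempty := by
    obtain ⟨pt⟩ : Nonempty (Spec (S.residueField s)) := inferInstance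
    exact ⟨η[Gs].left pt, ⟨pt, rfl⟩⟩
  have hlft : LocallyOfFiniteType Gs.hom :=
    Groth.Agent.Lib.Helper41.LftGroupField.lft_of_nonempty_open_field (S.residueField s) Gs Ws hWs
  have hnoeth : IsLocallyNoetherian (Spec (S.residueField s)) := by
    have : IsNoetherianRing (S.residueField s) :=
      inferInstanceAs (IsNoetherianRing (IsLocalRing.ResidueField (S.presheaf.stalk s)))
    infer_instance
  have hlfp : LocallyOfFinitePresentation Gs.hom := inferInstance
  exact ⟨(Groth.Agent.Lib.Helper14.isOpenImmersion_unit_iff_formallyUnramified Gs).mp hηs, hlfp⟩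

/-- the converse implication -/
theorem isOpenImmersion_of_fibres (S : Scheme.{u}) (G : Over S) [GrpObj G] (W : G.left.Opens)
    (hW : ∀ p : ↥(𝟙_ (Over S)).left, η[G].left.base p ∈ W)
    [hWlfp : LocallyOfFinitePresentation (W.ι ≫ G.hom)]
    (hfib : ∀ s : S, FormallyUnramified (G.hom.fiberToSpecResidueField s) ∧
      LocallyOfFinitePresentation (G.hom.fiberToSpecResidueField s)) :
    IsOpenImmersion η[G].left := by
  let fW : W.toScheme ⟶ S := W.ι ≫ G.hom
  have hfWlft : LocallyOfFiniteType fW := inferInstance
  -- the stalk maps of `fW` are formally unramified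
  have hst : ∀ w : W.toScheme, (fW.stalkMap w).hom.FormallyUnramified := by
    intro w
    let s : S := fW w
    let φ : Spec (S.residueField s) ⟶ S := S.fromSpecResidueField s
    have H : IsPullback (pullback.fst fW φ) (pullback.snd fW φ) fW φ := IsPullback.of_hasPullback _ _
    -- the fibre of `W` is open in the fibre of `G`
    have hpaste : IsPullback (pullback.fst fW φ) (pullback.snd fW φ) (W.ι ≫ G.hom) φ := H
    let j : pullback fW φ ⟶ pullback G.hom φ :=
      pullback.map fW φ G.hom φ W.ι (𝟙 _) (𝟙 _) (by simp [fW]) (by simp)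
    have hj1 : j ≫ pullback.fst G.hom φ = pullback.fst fW φ ≫ W.ι := pullback.lift_fst _ _ _
    have hj2 : j ≫ pullback.snd G.hom φ = pullback.snd fW φ :=
      (pullback.lift_snd _ _ _).trans (Category.comp_id _)
    have hsq : IsPullback j (pullback.fst fW φ) (pullback.fst G.hom φ) W.ι := by
      refine IsPullback.of_right ?_ hj1 (IsPullback.of_hasPullback G.hom φ).flip
      rw [hj2]
      exact hpaste.flip
    have hjo : IsOpenImmersion j :=
      MorphismProperty.of_isPullback (P := @IsOpenImmersion) hsq.flip inferInstance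
    have hFU : FormallyUnramified (pullback.snd fW φ) := by
      rw [← hj2]
      have h3 : FormallyUnramified (pullback.snd G.hom φ) := (hfib s).1
      have h4 : FormallyUnramified j := inferInstance
      exact MorphismProperty.comp_mem _ _ _ h4 h3
    have h1 := FormallyUnramified.stalkMap (pullback.snd fW φ) (fW.asFiber w)
    have h1' := (Groth.Agent.Lib.Helper14.formallyUnramified_stalkMap_iff_of_isPullback H
      (fW.asFiber w)).mp h1
    have h2 : (pullback.fst fW φ) (fW.asFiber w) = w := fW.fiberι_asFiber w
    rw [h2] at h1'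
    exact h1'
  have hFU : FormallyUnramified fW :=
    Groth.Agent.Lib.Helper14.formallyUnramified_of_stalkMap fW hst
  -- the unit section factors through `W`
  have hr : Set.range η[G].left ⊆ Set.range W.ι := by
    rintro _ ⟨p, rfl⟩
    rw [Scheme.Opens.range_ι]
    exact hW p
  let η₁ : (𝟙_ (Over S)).left ⟶ W.toScheme := IsOpenImmersion.lift W.ι η[G].left hr
  have hη₁ : η₁ ≫ W.ι = η[G].left := IsOpenImmersion.lift_fac _ _ _
  have hw : η₁ ≫ fW = 𝟙 _ := by
    change η₁ ≫ W.ι ≫ G.hom = _
    rw [← Category.assoc, hη₁]
    exact Over.w η[G]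
  have het : Etale (η₁ ≫ fW) := by
    rw [hw]; exact inferInstanceAs (Etale (𝟙 S))
  have : Etale η₁ := Etale.of_comp η₁ fW
  have hmono : Mono (η₁ ≫ fW) := by
    rw [hw]; exact inferInstanceAs (Mono (𝟙 S))
  have : Mono η₁ := mono_of_mono η₁ fW
  have : Flat η₁ := inferInstance
  have ho : IsOpenImmersion η₁ := IsOpenImmersion.of_flat_of_mono _
  rw [← hη₁]
  infer_instance

/-- (ii) ⟺ (iii) and, for G locally of finite presentation over S, (ii) ⟺ (iv): let G be an S-group
scheme. The unit section of G is an open immersion if and only if G is locally of finite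
presentation over S on some open containing the unit section and every fibre G_s is unramified
(formally unramified and locally of finite presentation) over κ(s). If G is locally of finite
presentation over S, the unit section is an open immersion if and only if G is unramified over S. -/
theorem result (S : Scheme.{u}) (G : Over S) [GrpObj G] :
    (IsOpenImmersion η[G].left ↔
      ((∃ W : G.left.Opens, (∀ p : ↥(𝟙_ (Over S)).left, η[G].left.base p ∈ W) ∧ LocallyOfFinitePresentation (W.ι ≫ G.hom)) ∧
        ∀ s : S, FormallyUnramified (G.hom.fiberToSpecResidueField s) ∧ LocallyOfFinitePresentation (G.hom.fiberToSpecResidueField s))) ∧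
    (LocallyOfFinitePresentation G.hom → (IsOpenImmersion η[G].left ↔ FormallyUnramified G.hom)) := by
  refine ⟨⟨fun hη => ⟨⟨η[G].left.opensRange, fun p => ⟨p, rfl⟩, ?_⟩, fibre_unramified S G hη⟩, ?_⟩,
    fun h => Groth.Agent.Lib.Helper14.isOpenImmersion_unit_iff_formallyUnramified G⟩
  · have hw : η[G].left ≫ G.hom = 𝟙 _ := Over.w η[G]
    have := isIso_opensRange_comp η[G].left G.hom hw
    infer_instance
  · rintro ⟨⟨W, hW, hWlfp⟩, hfib⟩
    exact isOpenImmersion_of_fibres S G W hW hfib

end Groth.Agent.S5318
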