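import Groth.Statements.S5321
import Groth.Agent.Lib.Helper14.UnramBaseChange

set_option autoImplicit false
universe u
open CategoryTheory CategoryTheory.Limits MonoidalCategory CartesianMonoidalCategory MonObj GrpObj AlgebraicGeometry
open SGA3

namespace Groth.Agent.S5321

/-- Consider a morphism π : X → S admitting a section ε, and assume the map of underlying spaces of π is
closed. Fix a point s of S, and suppose that on some open neighbourhood of ε(s) the morphism π is
locally of finite presentation, and that the fibre X_s → Spec κ(s) is an isomorphism. Under these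
assumptions one can find an open subset U of S containing s such that π restricts to an isomorphism
π⁻¹(U) → U (consequently ε restricted to U is an isomorphism onto π⁻¹(U)). -/
theorem result (X S : Scheme.{u}) (π : X ⟶ S) (ε : S ⟶ X) (hε : ε ≫ π = 𝟙 S)
    (hcl : IsClosedMap π.base) (s : S)
    (hfp : ∃ W : X.Opens, ε.base s ∈ W ∧ LocallyOfFinitePresentation (W.ι ≫ π))
    (hs : IsIso (π.fiberToSpecResidueField s)) :
    ∃ U : S.Opens, s ∈ U ∧ IsIso (π ∣_ U) := by
  classical
  obtain ⟨W, hεW, hfp⟩ := hfp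
  have hπε : ∀ t : S, π (ε t) = t := fun t => by
    rw [← Scheme.Hom.comp_apply, hε]; rfl
  -- the fibre over `s` is the single point `ε s`
  have hfib : ∀ x : X, π x = s → x = ε s := by
    intro x hx
    have hsub : Subsingleton (π.fiber s) := by
      have e : (π.fiber s) ≃ₜ Spec (S.residueField s) :=
        Scheme.homeoOfIso (asIso (π.fiberToSpecResidueField s))
      have : Subsingleton (Spec (S.residueField s)) :=
        inferInstanceAs (Subsingleton (PrimeSpectrum (S.residueField s)))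
      exact e.injective.subsingleton
    have h1 : x ∈ Set.range (π.fiberι s) := by rw [Scheme.Hom.range_fiberι]; exact hx
    have h2 : ε s ∈ Set.range (π.fiberι s) := by rw [Scheme.Hom.range_fiberι]; exact hπε s
    obtain ⟨p1, rfl⟩ := h1
    obtain ⟨p2, hp2⟩ := h2
    rw [← hp2, Subsingleton.elim p1 p2]
  let h : (W : Scheme.{u}) ⟶ S := W.ι ≫ π
  have hlfp : LocallyOfFinitePresentation h := hfp
  let y₀ : (W : Scheme.{u}) := ⟨ε s, hεW⟩
  -- Step A: the stalk map of `h` at `y₀` is formally unramified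
  have hA : (h.stalkMap y₀).hom.FormallyUnramified := by
    let P' : (π.fiber s).Opens := (π.fiberι s) ⁻¹ᵁ W
    have H1 : IsPullback ((π.fiberι s) ∣_ W) P'.ι W.ι (π.fiberι s) :=
      isPullback_morphismRestrict _ _
    have H2 : IsPullback (π.fiberι s) (π.fiberToSpecResidueField s) π
        (S.fromSpecResidueField s) := IsPullback.of_hasPullback _ _
    have H : IsPullback ((π.fiberι s) ∣_ W) (P'.ι ≫ π.fiberToSpecResidueField s) (W.ι ≫ π)
        (S.fromSpecResidueField s) := H1.paste_vert H2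
    have hfu : FormallyUnramified (P'.ι ≫ π.fiberToSpecResidueField s) := inferInstance
    obtain ⟨p, hp⟩ : ε s ∈ Set.range (π.fiberι s) := by
      rw [Scheme.Hom.range_fiberι]; exact hπε s
    let x' : (P' : Scheme.{u}) := ⟨p, show π.fiberι s p ∈ W from hp ▸ hεW⟩
    have hx' : ((π.fiberι s) ∣_ W) x' = y₀ := Subtype.ext (by
      rw [morphismRestrict_base_coe]; exact hp)
    have := (Groth.Agent.Lib.Helper14.formallyUnramified_stalkMap_iff_of_isPullback H x').mp
      (FormallyUnramified.stalkMap _ x')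
    rw [hx'] at this
    exact this
  obtain ⟨V', hyV', hV'⟩ :=
    (Groth.Agent.Lib.Helper14.exists_formallyUnramified_nhd_iff_stalkMap h y₀).mpr hA
  let q : (V' : Scheme.{u}) ⟶ X := V'.ι ≫ W.ι
  have hqfu : FormallyUnramified (q ≫ π) := by
    have : q ≫ π = V'.ι ≫ h := Category.assoc _ _ _
    rw [this]; exact hV'
  have hqft : LocallyOfFiniteType (q ≫ π) := by
    have : q ≫ π = V'.ι ≫ h := Category.assoc _ _ _
    rw [this]; infer_instance
  let U₀ : S.Opens := ε ⁻¹ᵁ q.opensRange
  have hsU₀ : s ∈ U₀ := ⟨⟨y₀, hyV'⟩, rfl⟩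
  have hrange : Set.range (U₀.ι ≫ ε).base ⊆ Set.range q.base := by
    rintro _ ⟨t, rfl⟩
    exact t.2
  let ε' : (U₀ : Scheme.{u}) ⟶ V' := IsOpenImmersion.lift q (U₀.ι ≫ ε) hrange
  have hε' : ε' ≫ q = U₀.ι ≫ ε := IsOpenImmersion.lift_fac _ _ _
  have hcomp : ε' ≫ (q ≫ π) = U₀.ι := by
    rw [← Category.assoc, hε', Category.assoc, hε, Category.comp_id]
  have hε'oi : IsOpenImmersion ε' := by
    have hle : (@FormallyUnramified ⊓ @LocallyOfFiniteType : MorphismProperty Scheme.{u}) ≤
        (@IsOpenImmersion : MorphismProperty Scheme.{u}).diagonal := by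
      rintro A B f ⟨h1, h2⟩
      exact FormallyUnramified.isOpenImmersion_diagonal f
    have : (@FormallyUnramified ⊓ @LocallyOfFiniteType :
        MorphismProperty Scheme.{u}).IsStableUnderBaseChange :=
      MorphismProperty.IsStableUnderBaseChange.inf
    have inst := (MorphismProperty.hasOfPostcompProperty_iff_le_diagonal
      (P := @IsOpenImmersion) (Q := @FormallyUnramified ⊓ @LocallyOfFiniteType)).mpr hle
    exact MorphismProperty.of_postcomp (W := @IsOpenImmersion)
      (W' := @FormallyUnramified ⊓ @LocallyOfFiniteType) ε' (q ≫ π) ⟨hqfu, hqft⟩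
      (by rw [hcomp]; infer_instance)
  have hj : IsOpenImmersion (U₀.ι ≫ ε) := by rw [← hε']; infer_instance
  let W'' : X.Opens := (U₀.ι ≫ ε).opensRange
  let Z : Set S := π '' ((W'' : Set X)ᶜ)
  have hZ : IsClosed Z := hcl _ W''.2.isClosed_compl
  have hsZ : s ∉ Z := by
    rintro ⟨x, hx, hxs⟩
    exact hx (by rw [hfib x hxs]; exact ⟨⟨s, hsU₀⟩, rfl⟩)
  let U : S.Opens := U₀ ⊓ ⟨Zᶜ, hZ.isOpen_compl⟩
  refine ⟨U, ⟨hsU₀, hsZ⟩, ?_⟩
  have hle : π ⁻¹ᵁ U ≤ W'' := by
    intro x hx
    by_contra hx'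
    exact hx.2 ⟨x, hx', rfl⟩
  rw [isIso_iff_isOpenImmersion_and_surjective]
  constructor
  · have hrange2 : Set.range (π ⁻¹ᵁ U).ι.base ⊆ Set.range (U₀.ι ≫ ε).base := by
      rintro _ ⟨x, rfl⟩
      exact hle x.2
    let k : ((π ⁻¹ᵁ U : X.Opens) : Scheme.{u}) ⟶ U₀ :=
      IsOpenImmersion.lift (U₀.ι ≫ ε) (π ⁻¹ᵁ U).ι hrange2
    have hk : k ≫ (U₀.ι ≫ ε) = (π ⁻¹ᵁ U).ι := IsOpenImmersion.lift_fac _ _ _
    have hkoi : IsOpenImmersion k :=
      IsOpenImmersion.of_comp k (U₀.ι ≫ ε)
    have e1 : (π ∣_ U) ≫ U.ι = k ≫ U₀.ι := by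
      rw [morphismRestrict_ι, ← hk, Category.assoc, Category.assoc, hε, Category.comp_id]
    have : IsOpenImmersion ((π ∣_ U) ≫ U.ι) := by rw [e1]; infer_instance
    exact IsOpenImmersion.of_comp (π ∣_ U) U.ι
  · constructor
    rintro ⟨t, ht⟩
    have hmem : ε t ∈ π ⁻¹ᵁ U := by
      change π (ε t) ∈ U
      rw [hπε]; exact ht
    exact ⟨⟨ε t, hmem⟩, Subtype.ext ((morphismRestrict_base_coe π U ⟨ε t, hmem⟩).trans (hπε t))⟩

end Groth.Agent.S5321
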