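import Groth.Statements.S5322
import Groth.Agent.Lib.Helper14.FibreGrpTop

set_option autoImplicit false
universe u
open CategoryTheory CategoryTheory.Limits MonoidalCategory CartesianMonoidalCategory MonObj GrpObj AlgebraicGeometry
open SGA3

namespace Groth.Agent.S5322

/-- Let G be an S-group scheme and f : S' → S a morphism. Then the subset of G ×_S S' formed by the
neutral components of its fibres over S' is the inverse image, under the first projection G ×_S S' →
G, of the subset of G formed by the neutral components of the fibres G_s: the formation of the
neutral component commutes with base change. -/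
theorem result (S S' : Scheme.{u}) (f : S' ⟶ S) (G : Over S) [GrpObj G] :
    SGA3x.neutralSet (Red.bc f G) = (pullback.fst G.hom f).base ⁻¹' SGA3x.neutralSet G := by
  rw [Groth.Agent.Lib.Helper14.FibreGrpTop.neutralSet_eq_sectionComponents,
    Groth.Agent.Lib.Helper14.FibreGrpTop.neutralSet_eq_sectionComponents]
  exact Groth.Agent.Lib.Helper78.SectionComp.sectionComponents_baseChange G.hom
    (η[G].left : S ⟶ G.left) (Groth.Agent.Lib.Helper14.FibreGrpTop.unit_hom G)
    (Red.bc f G).hom (pullback.fst G.hom f) f (IsPullback.of_hasPullback G.hom f)
    (η[Red.bc f G].left : S' ⟶ (Red.bc f G).left)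
    (Groth.Agent.Lib.Helper14.FibreGrpTop.unit_hom (Red.bc f G))
    (Groth.Agent.Lib.Helper14.FibreGrpTop.unit_pr f G)

end Groth.Agent.S5322
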