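import Groth.Statements.S5328
import Groth.Agent.Lib.Helper14.FlatHomNeutral

set_option autoImplicit false
universe u
open CategoryTheory CategoryTheory.Limits MonoidalCategory CartesianMonoidalCategory MonObj GrpObj AlgebraicGeometry
open SGA3

namespace Groth.Agent.S5328

open Groth.Agent.Lib.Helper14.FibreGrpTop

/-- Let u : G → H be a homomorphism between S-group schemes locally of finite presentation over S, and
let G⁰, H⁰ be the unions of the neutral components of the fibres. If u is flat then u(G⁰) = H⁰.
Conversely, if G is flat over S, the fibres H_s are reduced and u(G⁰) = H⁰, then u is flat. -/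
theorem result (S : Scheme.{u}) (G H : Over S) [GrpObj G] [GrpObj H]
    [LocallyOfFinitePresentation G.hom] [LocallyOfFinitePresentation H.hom] (u : G ⟶ H) [IsMonHom u] :
    (Flat u.left → u.left.base '' SGA3x.neutralSet G = SGA3x.neutralSet H) ∧
    (Flat G.hom → (∀ s : S, IsReduced (H.hom.fiber s)) → u.left.base '' SGA3x.neutralSet G = SGA3x.neutralSet H →
      Flat u.left) := by
  have hsub : u.left '' SGA3x.neutralSet G ⊆ SGA3x.neutralSet H := by
    rintro _ ⟨x, hx, rfl⟩
    obtain ⟨s, z, hz, rfl⟩ := exists_of_mem_neutralSet hx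
    rw [← mapF_fiberι_apply]
    apply mem_neutralSet_of_mem
    have h1 := (mapF u s).continuous.image_connectedComponent_subset (eptF G s)
    rw [mapF_eptF] at h1
    exact h1 ⟨z, hz, rfl⟩
  constructor
  · intro hfl
    apply Set.Subset.antisymm hsub
    intro y hy
    obtain ⟨s, w, hw, rfl⟩ := exists_of_mem_neutralSet hy
    haveI : Flat (mapGs u s).left :=
      MorphismProperty.of_isPullback (P := @Flat)
        (Groth.Agent.Lib.Helper14.isPullback_overPullback_map_left u _) hfl
    haveI : LocallyOfFinitePresentation (Gs G s).hom := by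
      show LocallyOfFinitePresentation (pullback.snd _ _); infer_instance
    haveI : LocallyOfFiniteType (Gs H s).hom := by
      show LocallyOfFiniteType (pullback.snd _ _); infer_instance
    have h := Groth.Agent.Lib.Helper14.FlatHomNeutral.C0_subset_image_of_flat (mapGs u s)
    rw [← Groth.Agent.Lib.Helper70.GrpConnC.connectedComponent_ept,
      ← Groth.Agent.Lib.Helper70.GrpConnC.connectedComponent_ept] at h
    obtain ⟨z, hz, hzw⟩ := h hw
    refine ⟨G.hom.fiberι s z, mem_neutralSet_of_mem s hz, ?_⟩
    have h2 := mapF_fiberι_apply u s z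
    rw [← h2]
    congr 1
  · intro hG hred himg
    apply Groth.Agent.Lib.Helper14.FibreCrit.flat_of_flat_fibres u
    intro s
    haveI : IsReduced (Gs H s).left := hred s
    haveI : LocallyOfFiniteType (Gs H s).hom := by
      show LocallyOfFiniteType (pullback.snd _ _); infer_instance
    apply Groth.Agent.Lib.Helper14.FlatHomNeutral.flat_of_open_subset_range (mapGs u s)
      (Groth.Agent.Lib.Helper70.GrpConnA.C0 (Gs H s))
      Groth.Agent.Lib.Helper14.FlatHomNeutral.isOpen_C0
      ⟨_, Groth.Agent.Lib.Helper70.GrpConnA.ept_mem_C0 _⟩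
    intro w hw
    rw [← Groth.Agent.Lib.Helper70.GrpConnC.connectedComponent_ept] at hw
    have hy : H.hom.fiberι s w ∈ SGA3x.neutralSet H := mem_neutralSet_of_mem s hw
    have hy' : H.hom.fiberι s w ∈ u.left '' SGA3x.neutralSet G := by
      rw [show (u.left : G.left → H.left) '' SGA3x.neutralSet G = SGA3x.neutralSet H from himg]
      exact hy
    obtain ⟨x, hx, hxy⟩ := hy'
    have hws : H.hom.fiberι s w ∈ H.hom ⁻¹' {s} := by
      rw [← Scheme.Hom.range_fiberι]; exact ⟨w, rfl⟩
    have hxs : G.hom x = s := by
      have e : G.hom x = H.hom (u.left x) := by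
        rw [← Scheme.Hom.comp_apply, Over.w u]
      rw [e, hxy]
      exact hws
    have hx' : x ∈ SGA3x.neutralSet G ∩ G.hom ⁻¹' {s} := ⟨hx, hxs⟩
    rw [neutralSet_inter_fibre] at hx'
    obtain ⟨z, hz, rfl⟩ := hx'
    refine ⟨z, ?_⟩
    apply (H.hom.fiberι s).isEmbedding.injective
    have h2 := mapF_fiberι_apply u s z
    exact h2.trans hxy

end Groth.Agent.S5328
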