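import Groth.Statements.S5333
import Mathlib.AlgebraicGeometry.Morphisms.Separated
import Mathlib.AlgebraicGeometry.Morphisms.Immersion

set_option autoImplicit false
universe u
open CategoryTheory CategoryTheory.Limits MonoidalCategory CartesianMonoidalCategory MonObj GrpObj AlgebraicGeometry
open SGA3

namespace Groth.Agent.S5333

/-- A morphism whose diagonal has closed range is separated. -/
theorem isSeparated_of_isClosed_range_diagonal {X S : Scheme.{u}} (f : X ⟶ S)
    (h : IsClosed (Set.range (pullback.diagonal f))) : IsSeparated f :=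
  ⟨IsClosedImmersion.of_isPreimmersion _ h⟩

set_option backward.isDefEq.respectTransparency false in
/-- Part 2, nontrivial direction. -/
theorem isSeparated_of_pairs {X S : Scheme.{u}} (f : X ⟶ S)
    (H : ∀ x₁ x₂ : X, f.base x₁ = f.base x₂ →
      ∃ V : X.Opens, x₁ ∈ V ∧ x₂ ∈ V ∧ IsSeparated (V.ι ≫ f)) : IsSeparated f := by
  apply isSeparated_of_isClosed_range_diagonal
  rw [← closure_subset_iff_isClosed]
  intro z hz
  have hcond : f.base ((pullback.fst f f).base z) = f.base ((pullback.snd f f).base z) := by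
    have := congrArg (fun g : pullback f f ⟶ S => g.base z) (pullback.condition (f := f) (g := f))
    simpa using this
  obtain ⟨V, h1, h2, hV⟩ := H _ _ hcond
  -- the open `W = V ×_S V` of the fibre product
  let W : (pullback f f).Opens := (pullback.fst f f) ⁻¹ᵁ V ⊓ (pullback.snd f f) ⁻¹ᵁ V
  have hzW : z ∈ W := ⟨h1, h2⟩
  let j : pullback (V.ι ≫ f) (V.ι ≫ f) ⟶ pullback f f :=
    pullback.map (V.ι ≫ f) (V.ι ≫ f) f f V.ι V.ι (𝟙 S) (by simp) (by simp)
  have hj : IsOpenImmersion j := inferInstance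
  -- `W` is contained in the range of `j`
  let k₁ : (W : Scheme.{u}) ⟶ V := IsOpenImmersion.lift V.ι (W.ι ≫ pullback.fst f f) (by
    rintro _ ⟨w, rfl⟩
    simp only [Scheme.Opens.range_ι]
    exact w.2.1)
  let k₂ : (W : Scheme.{u}) ⟶ V := IsOpenImmersion.lift V.ι (W.ι ≫ pullback.snd f f) (by
    rintro _ ⟨w, rfl⟩
    simp only [Scheme.Opens.range_ι]
    exact w.2.2)
  have hk₁ : k₁ ≫ V.ι = W.ι ≫ pullback.fst f f := IsOpenImmersion.lift_fac _ _ _
  have hk₂ : k₂ ≫ V.ι = W.ι ≫ pullback.snd f f := IsOpenImmersion.lift_fac _ _ _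
  let k : (W : Scheme.{u}) ⟶ pullback (V.ι ≫ f) (V.ι ≫ f) :=
    pullback.lift k₁ k₂ (by
      rw [← Category.assoc, ← Category.assoc, hk₁, hk₂, Category.assoc, Category.assoc,
        pullback.condition])
  have hkj : k ≫ j = W.ι := by
    apply pullback.hom_ext
    · simp [j, k, hk₁]
    · simp [j, k, hk₂]
  have hzj : z ∈ Set.range j := by
    have hz' : z ∈ Set.range W.ι := by
      rw [Scheme.Opens.range_ι]; exact hzW
    obtain ⟨w, rfl⟩ := hz'
    exact ⟨k w, by rw [← Scheme.Hom.comp_apply, hkj]⟩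
  -- the diagonal of `V` has closed range
  let A : Set ↥(pullback (V.ι ≫ f) (V.ι ≫ f)) := Set.range (pullback.diagonal (V.ι ≫ f))
  have hA : IsClosed A := (pullback.diagonal (V.ι ≫ f)).isClosedEmbedding.isClosed_range
  have hΔ : pullback.diagonal (V.ι ≫ f) ≫ j = V.ι ≫ pullback.diagonal f := by
    apply pullback.hom_ext <;> simp [j]
  -- `range Δ ∩ range j ⊆ j '' A`
  have hsub : Set.range (pullback.diagonal f) ∩ Set.range j ⊆ j '' A := by
    rintro _ ⟨⟨x, rfl⟩, ⟨p, hp⟩⟩
    have hxV : x ∈ V := by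
      have h3 : (pullback.fst f f).base ((pullback.diagonal f).base x) = x := by
        rw [← Scheme.Hom.comp_apply, pullback.diagonal_fst]; rfl
      have h4 : (pullback.fst f f).base (j.base p) ∈ V := by
        have : (pullback.fst f f).base (j.base p) =
            V.ι.base ((pullback.fst (V.ι ≫ f) (V.ι ≫ f)).base p) := by
          rw [← Scheme.Hom.comp_apply, ← Scheme.Hom.comp_apply]
          congr 2
          simp [j]
        rw [this]
        exact ((pullback.fst (V.ι ≫ f) (V.ι ≫ f)).base p).2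
      rw [hp, h3] at h4
      exact h4
    refine ⟨(pullback.diagonal (V.ι ≫ f)).base ⟨x, hxV⟩, ⟨_, rfl⟩, ?_⟩
    rw [← Scheme.Hom.comp_apply, hΔ]
    rfl
  have hz2 : z ∈ closure (Set.range (pullback.diagonal f) ∩ Set.range j) := by
    have := j.isOpenEmbedding.isOpen_range.inter_closure (t := Set.range (pullback.diagonal f))
    exact closure_mono (by rw [Set.inter_comm]) (this ⟨hzj, hz⟩)
  have hz3 : z ∈ closure (j '' A) := closure_mono hsub hz2
  obtain ⟨p, rfl⟩ := hzj
  have hp : p ∈ closure A := by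
    rw [j.isOpenEmbedding.isEmbedding.closure_eq_preimage_closure_image]
    exact hz3
  rw [hA.closure_eq] at hp
  obtain ⟨v, rfl⟩ := hp
  exact ⟨V.ι.base v, by rw [← Scheme.Hom.comp_apply, ← hΔ]; rfl⟩

/-- A morphism from a reduced scheme whose image lies in the image of a quasi-compact morphism `c`
kills the kernel ideal sheaf of `c`. -/
theorem ker_le_ker_of_range_subset {X Y W : Scheme.{u}} (c : X ⟶ W) [QuasiCompact c]
    (g : Y ⟶ W) [IsReduced Y] (h : Set.range g ⊆ Set.range c) : c.ker ≤ g.ker := by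
  refine Scheme.IdealSheafData.le_ofIdeals_iff.mpr fun U => ?_
  intro s hs
  rw [Scheme.Hom.ker_apply, RingHom.mem_ker] at hs
  rw [RingHom.mem_ker, ← basicOpen_eq_bot_iff, ← Scheme.preimage_basicOpen]
  ext y
  simp only [Scheme.Hom.coe_preimage, Set.mem_preimage, SetLike.mem_coe, TopologicalSpace.Opens.coe_bot,
    Set.mem_empty_iff_false, iff_false]
  intro hy
  obtain ⟨x, hx⟩ := h ⟨y, rfl⟩
  have hx' : x ∈ c ⁻¹ᵁ W.basicOpen s := by
    change c.base x ∈ W.basicOpen s
    rw [hx]; exact hy
  rw [Scheme.preimage_basicOpen, hs, Scheme.basicOpen_zero] at hx'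
  exact hx'

set_option backward.isDefEq.respectTransparency false in
/-- The reduced induced closed subscheme is reduced. -/
theorem isReduced_subscheme_vanishingIdeal {P : Scheme.{u}} (Z : TopologicalSpace.Closeds P) :
    IsReduced (Scheme.IdealSheafData.vanishingIdeal Z).subscheme := by
  have : ∀ U, IsReduced ((Scheme.IdealSheafData.vanishingIdeal Z).subschemeCover.openCover.X U) := by
    intro U
    change IsReduced (Spec (.of (Γ(P, U.1) ⧸ (Scheme.IdealSheafData.vanishingIdeal Z).ideal U)))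
    have : _root_.IsReduced (Γ(P, U.1) ⧸ (Scheme.IdealSheafData.vanishingIdeal Z).ideal U) := by
      rw [← Ideal.isRadical_iff_quotient_reduced, Scheme.IdealSheafData.vanishingIdeal_ideal]
      exact PrimeSpectrum.isRadical_vanishingIdeal _
    infer_instance
  exact IsReduced.of_openCover _ (Scheme.IdealSheafData.vanishingIdeal Z).subschemeCover.openCover

set_option backward.isDefEq.respectTransparency false in
/-- Part 1, nontrivial direction. -/
theorem isSeparated_of_reduced_test {X S : Scheme.{u}} (f : X ⟶ S)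
    (Hr : ∀ (T : Scheme.{u}) [IsReduced T] (g₁ g₂ : T ⟶ X) (U : T.Opens), g₁ ≫ f = g₂ ≫ f →
      Dense (U : Set T) → U.ι ≫ g₁ = U.ι ≫ g₂ → g₁ = g₂) : IsSeparated f := by
  apply isSeparated_of_isClosed_range_diagonal
  let Δ := pullback.diagonal f
  let Z : TopologicalSpace.Closeds ↥(pullback f f) := ⟨closure (Set.range Δ), isClosed_closure⟩
  let I := Scheme.IdealSheafData.vanishingIdeal Z
  let t : I.subscheme ⟶ pullback f f := I.subschemeι
  have hrange : Set.range t = closure (Set.range Δ) := by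
    rw [I.range_subschemeι]
    simp [I, Z]
  have hred : IsReduced I.subscheme := isReduced_subscheme_vanishingIdeal Z
  let U : I.subscheme.Opens := t ⁻¹ᵁ Δ.coborderRange
  have htU : t '' (U : Set I.subscheme) = Set.range Δ := by
    change t '' (t ⁻¹' (coborder (Set.range Δ))) = _
    rw [Set.image_preimage_eq_inter_range, hrange, coborder_inter_closure]
  have hUdense : Dense (U : Set I.subscheme) := by
    intro x
    rw [t.isEmbedding.closure_eq_preimage_closure_image, htU, ← hrange]
    exact ⟨x, rfl⟩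
  -- the restriction to `U` factors through the diagonal
  have hfac : ∃ l : (U : Scheme.{u}) ⟶ X, l ≫ Δ = U.ι ≫ t := by
    let u₀ : (U : Scheme.{u}) ⟶ Δ.coborderRange := IsOpenImmersion.lift Δ.coborderRange.ι (U.ι ≫ t) (by
      rintro _ ⟨w, rfl⟩
      simp only [Scheme.Opens.range_ι]
      exact w.2)
    have hu₀ : u₀ ≫ Δ.coborderRange.ι = U.ι ≫ t := IsOpenImmersion.lift_fac _ _ _
    have hsub : Set.range u₀ ⊆ Set.range Δ.liftCoborder := by
      rintro _ ⟨w, rfl⟩
      have h1 : t (U.ι w) ∈ Set.range Δ := by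
        rw [← htU]; exact ⟨U.ι w, w.2, rfl⟩
      obtain ⟨x, hx⟩ := h1
      refine ⟨x, ?_⟩
      apply Δ.coborderRange.ι.isEmbedding.injective
      rw [← Scheme.Hom.comp_apply, ← Scheme.Hom.comp_apply, Δ.liftCoborder_ι, hu₀, hx]
      rfl
    have hker := ker_le_ker_of_range_subset Δ.liftCoborder u₀ hsub
    have h3 : IsClosedImmersion.lift Δ.liftCoborder u₀ hker ≫ Δ.liftCoborder = u₀ :=
      IsClosedImmersion.lift_fac _ _ _
    refine ⟨IsClosedImmersion.lift Δ.liftCoborder u₀ hker, ?_⟩
    calc IsClosedImmersion.lift Δ.liftCoborder u₀ hker ≫ Δ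
        = IsClosedImmersion.lift Δ.liftCoborder u₀ hker ≫
            (Δ.liftCoborder ≫ Δ.coborderRange.ι) := by rw [Δ.liftCoborder_ι]
      _ = u₀ ≫ Δ.coborderRange.ι := by rw [← Category.assoc, h3]
      _ = U.ι ≫ t := hu₀
  obtain ⟨l, hl⟩ := hfac
  have hU : U.ι ≫ (t ≫ pullback.fst f f) = U.ι ≫ (t ≫ pullback.snd f f) := by
    rw [← Category.assoc, ← Category.assoc, ← hl, Category.assoc, Category.assoc]
    simp [Δ]
  have heq := Hr I.subscheme (t ≫ pullback.fst f f) (t ≫ pullback.snd f f) U
    (by simp [pullback.condition]) hUdense hU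
  have ht : t = (t ≫ pullback.fst f f) ≫ Δ := by
    apply pullback.hom_ext
    · simp [Δ]
    · simp [Δ, heq]
  rw [← closure_subset_iff_isClosed, ← hrange]
  rintro _ ⟨x, rfl⟩
  rw [ht]
  exact ⟨_, rfl⟩

/-- (i) ⟺ (iii) ⟺ (iv'): let f : X → S be a morphism of schemes. Then X is separated over S if and only
if for every reduced scheme T and every two morphisms T → X with the same composite to S which agree
on a dense open subscheme of T are equal; and X is separated over S if and only if every two points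
of X in the same fibre over S lie in a common open subscheme of X which is separated over S. -/
theorem result (X S : Scheme.{u}) (f : X ⟶ S) :
    (IsSeparated f ↔ ∀ (T : Scheme.{u}) [IsReduced T] (g₁ g₂ : T ⟶ X) (U : T.Opens), g₁ ≫ f = g₂ ≫ f →
      Dense (U : Set T) → U.ι ≫ g₁ = U.ι ≫ g₂ → g₁ = g₂) ∧
    (IsSeparated f ↔ ∀ x₁ x₂ : X, f.base x₁ = f.base x₂ →
      ∃ V : X.Opens, x₁ ∈ V ∧ x₂ ∈ V ∧ IsSeparated (V.ι ≫ f)) := by
  refine ⟨⟨?_, isSeparated_of_reduced_test f⟩, ⟨?_, isSeparated_of_pairs f⟩⟩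
  · intro hsep T _ g₁ g₂ U hg hU hUg
    have : IsDominant U.ι := ⟨by
      rw [DenseRange, Scheme.Opens.range_ι]; exact hU⟩
    exact ext_of_isDominant_of_isSeparated f hg U.ι hUg
  · intro hsep x₁ x₂ _
    refine ⟨⊤, trivial, trivial, inferInstance⟩

end Groth.Agent.S5333
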