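import Groth.Statements.S5335
import Groth.Agent.S2505

set_option autoImplicit false
universe u
open CategoryTheory CategoryTheory.Limits MonoidalCategory CartesianMonoidalCategory MonObj GrpObj AlgebraicGeometry
open SGA3

namespace Groth.Agent.S5335

/-- In a pullback square, the base change of a dominant morphism along an open map is
dominant. -/
theorem denseRange_of_isPullback_of_isOpenMap {P X Y Z : Scheme.{u}} {fst : P ⟶ X} {snd : P ⟶ Y}
    {f : X ⟶ Z} {g : Y ⟶ Z} (h : IsPullback fst snd f g) (hf : DenseRange f.base)
    (hg : IsOpenMap g.base) : DenseRange snd.base := by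
  have h1 := Scheme.image_preimage_eq_of_isPullback h Set.univ
  rw [Set.preimage_univ, Set.image_univ, Set.image_univ] at h1
  change Dense (Set.range snd.base)
  rw [h1]
  exact Dense.preimage hf hg

set_option backward.isDefEq.respectTransparency false in
/-- The product of two dominant morphisms over a base over which the relevant schemes are
universally open is dominant. -/
theorem denseRange_pullback_map {S X X' Y Y' : Scheme.{u}} (fX : X ⟶ S) (fX' : X' ⟶ S)
    (fY : Y ⟶ S) (fY' : Y' ⟶ S) (a : X' ⟶ X) (b : Y' ⟶ Y) (ha : a ≫ fX = fX') (hb : b ≫ fY = fY')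
    [UniversallyOpen fX] [UniversallyOpen fY']
    (hda : DenseRange a.base) (hdb : DenseRange b.base) :
    DenseRange (pullback.map fX' fY' fX fY a b (𝟙 S) (by simp [ha]) (by simp [hb])).base := by
  let m₁ : pullback fX' fY' ⟶ pullback fX fY' :=
    pullback.map fX' fY' fX fY' a (𝟙 _) (𝟙 S) (by simp [ha]) (by simp)
  let m₂ : pullback fX fY' ⟶ pullback fX fY :=
    pullback.map fX fY' fX fY (𝟙 _) b (𝟙 S) (by simp) (by simp [hb])
  have hm : pullback.map fX' fY' fX fY a b (𝟙 S) (by simp [ha]) (by simp [hb]) = m₁ ≫ m₂ := by
    apply pullback.hom_ext <;> simp [m₁, m₂]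
  -- first square
  have sq1 : IsPullback (pullback.fst fX' fY') m₁ a (pullback.fst fX fY') := by
    refine (IsPullback.of_right (h₁₂ := pullback.snd fX fY') (h₂₂ := fX) (v₁₃ := fY') ?_ ?_
      (IsPullback.of_hasPullback fX fY').flip).flip
    · have e1 : m₁ ≫ pullback.snd fX fY' = pullback.snd fX' fY' := by simp [m₁]
      rw [e1, ha]
      exact (IsPullback.of_hasPullback fX' fY').flip
    · simp [m₁]
  have sq2 : IsPullback (pullback.snd fX fY') m₂ b (pullback.snd fX fY) := by
    refine (IsPullback.of_right (h₁₂ := pullback.fst fX fY) (h₂₂ := fY) (v₁₃ := fX) ?_ ?_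
      (IsPullback.of_hasPullback fX fY)).flip
    · have e1 : m₂ ≫ pullback.fst fX fY = pullback.fst fX fY' := by simp [m₂]
      rw [e1, hb]
      exact IsPullback.of_hasPullback fX fY'
    · simp [m₂]
  have h1 : DenseRange m₁.base :=
    denseRange_of_isPullback_of_isOpenMap sq1 hda (pullback.fst fX fY').isOpenMap
  have h2 : DenseRange m₂.base :=
    denseRange_of_isPullback_of_isOpenMap sq2 hdb (pullback.snd fX fY).isOpenMap
  rw [hm]
  exact h2.comp h1 m₂.continuous

/-- Let A be a local artinian ring and f : X' → X, g : Y' → Y two quasi-compact dominant morphisms of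
schemes over A. Then the product morphism f ×_A g : X' ×_A Y' → X ×_A Y is dominant (and
quasi-compact). -/
theorem result (A : Type u) [CommRing A] [IsArtinianRing A] [IsLocalRing A] (X X' Y Y' : Over (Spec (CommRingCat.of A)))
    (f : X' ⟶ X) (g : Y' ⟶ Y) [QuasiCompact f.left] [QuasiCompact g.left]
    (hf : DenseRange f.left.base) (hg : DenseRange g.left.base) :
    DenseRange (f ⊗ₘ g).left.base ∧ QuasiCompact (f ⊗ₘ g).left := by
  have : DiscreteTopology (Spec (CommRingCat.of A)) :=
    inferInstanceAs (DiscreteTopology (PrimeSpectrum A))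
  have hX : UniversallyOpen X.hom := Groth.Agent.S2505.result _
  have hY' : UniversallyOpen Y'.hom := Groth.Agent.S2505.result _
  refine ⟨?_, ?_⟩
  · rw [Over.tensorHom_left]
    exact denseRange_pullback_map X.hom X'.hom Y.hom Y'.hom f.left g.left (Over.w f) (Over.w g)
      hf hg
  · rw [Over.tensorHom_left]
    exact MorphismProperty.pullbackMap (P := @QuasiCompact) inferInstance inferInstance
      (Over.w f).symm (Over.w g).symm

end Groth.Agent.S5335
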