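import Groth.Statements.S5337
import Groth.Agent.Lib.Helper41.LfpLocus

set_option autoImplicit false
universe u
open CategoryTheory CategoryTheory.Limits MonoidalCategory CartesianMonoidalCategory MonObj GrpObj AlgebraicGeometry
open SGA3

namespace Groth.Agent.S5337

/-- Quasi-finite, unramified, smooth and etale cases: let A be a local artinian ring, G an A-group
scheme which is flat and locally of finite type over A, and u : G → H a homomorphism of A-group
schemes. If u is locally quasi-finite (resp. unramified, that is formally unramified and locally of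
finite presentation, resp. smooth, resp. etale) on some nonempty open subscheme of G, then u is
locally quasi-finite (resp. unramified, resp. smooth, resp. etale). (Here u is automatically locally
of finite type.) -/
theorem result (A : Type u) [CommRing A] [IsArtinianRing A] [IsLocalRing A] (G H : Over (Spec (CommRingCat.of A))) [GrpObj G] [GrpObj H]
    [Flat G.hom] [LocallyOfFiniteType G.hom] (u : G ⟶ H) [IsMonHom u] (W : G.left.Opens) (hW : (W : Set G.left).Nonempty) :
    (LocallyQuasiFinite (W.ι ≫ u.left) → LocallyQuasiFinite u.left) ∧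
    (FormallyUnramified (W.ι ≫ u.left) → LocallyOfFinitePresentation (W.ι ≫ u.left) →
      FormallyUnramified u.left ∧ LocallyOfFinitePresentation u.left) ∧
    (Smooth (W.ι ≫ u.left) → Smooth u.left) ∧ (Etale (W.ι ≫ u.left) → Etale u.left) := by
  have : Subsingleton (PrimeSpectrum A) := Ring.KrullDimLE.subsingleton_primeSpectrum A
  have : Subsingleton ↥(Spec (CommRingCat.of A)) :=
    inferInstanceAs (Subsingleton (PrimeSpectrum A))
  have : LocallyOfFinitePresentation G.hom := inferInstance
  have hlft : LocallyOfFiniteType u.left := by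
    have : LocallyOfFiniteType (u.left ≫ H.hom) := by
      rw [Over.w u]; infer_instance
    exact locallyOfFiniteType_of_comp u.left H.hom
  obtain ⟨x₀, hx₀⟩ := hW
  have hpt : ∀ x : G.left, G.hom x = G.hom x₀ := fun x => Subsingleton.elim _ _
  -- lfp
  have hLFP : LocallyOfFinitePresentation (W.ι ≫ u.left) → LocallyOfFinitePresentation u.left :=
    fun h => Groth.Agent.Lib.Helper41.LfpLocus.lfp_of_subsingleton u W ⟨x₀, hx₀⟩ h
  -- unramified
  have hFU : FormallyUnramified (W.ι ≫ u.left) → FormallyUnramified u.left := by
    intro h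
    have h0 : (u.left.stalkMap x₀).hom.FormallyUnramified :=
      (Groth.Agent.Lib.Helper14.exists_formallyUnramified_nhd_iff_stalkMap u.left x₀).mp
        ⟨W, hx₀, h⟩
    refine Groth.Agent.Lib.Helper14.formallyUnramified_of_stalkMap _ fun x => ?_
    rw [Groth.Agent.Lib.Helper14.formallyUnramified_stalkMap_iff_unit] at h0 ⊢
    rw [hpt x]
    exact h0
  -- smooth
  have hSm : Smooth (W.ι ≫ u.left) → Smooth u.left := by
    intro h
    have : LocallyOfFinitePresentation u.left := hLFP inferInstance
    have h0 : x₀ ∈ u.left.smoothLocus :=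
      (Groth.Agent.Lib.Helper14.exists_smooth_nhd_iff_mem_smoothLocus u.left x₀).mp ⟨W, hx₀, h⟩
    rw [← Scheme.Hom.smoothLocus_eq_top_iff, eq_top_iff]
    rintro x -
    rw [Groth.Agent.Lib.Helper14.mem_smoothLocus_iff_unit_mem] at h0 ⊢
    rw [hpt x]
    exact h0
  refine ⟨?_, fun h1 h2 => ⟨hFU h1, hLFP h2⟩, hSm, ?_⟩
  · intro h
    have h0 : u.left.QuasiFiniteAt x₀ :=
      (Groth.Agent.Lib.Helper14.exists_locallyQuasiFinite_nhd_iff u.left x₀).mp ⟨W, hx₀, h⟩
    rw [Groth.Agent.Lib.Helper14.locallyQuasiFinite_iff_forall_unit]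
    intro s
    rw [Groth.Agent.Lib.Helper14.quasiFiniteAt_iff_unit] at h0
    rw [Subsingleton.elim s (G.hom x₀)]
    exact h0
  · intro h
    rw [Groth.Agent.Lib.Helper14.etale_iff_smooth_and_formallyUnramified]
    exact ⟨hSm inferInstance, hFU inferInstance⟩

end Groth.Agent.S5337
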