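import Groth.Statements.S5346
import Groth.Agent.S1316
import Groth.Agent.Lib.Helper18.AdicLevels
import Groth.Agent.Lib.Helper18.SubschemeIncl

set_option autoImplicit false
universe u
open CategoryTheory CategoryTheory.Limits MonoidalCategory CartesianMonoidalCategory MonObj GrpObj AlgebraicGeometry
open SGA3

namespace Groth.Agent.S5346

/-- Let A be a local artinian ring with residue field k and i : Spec k → Spec A the closed point. (i) If
X is an A-scheme whose base change X ⊗_A k is locally of finite type (resp. of finite type) over k,
then X is locally of finite type (resp. of finite type) over A. (ii) If u : X → Y is a morphism of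
A-schemes whose base change u ⊗_A k is an immersion (resp. a closed immersion), then u is an
immersion (resp. a closed immersion). -/
theorem result (A : Type u) [CommRing A] [IsArtinianRing A] [IsLocalRing A] (X Y : Over (Spec (CommRingCat.of A))) (u : X ⟶ Y) :
    letI i : Spec (CommRingCat.of (IsLocalRing.ResidueField A)) ⟶ (Spec (CommRingCat.of A)) := Spec.map (CommRingCat.ofHom (IsLocalRing.residue A))
    (LocallyOfFiniteType (pullback.snd X.hom i) → LocallyOfFiniteType X.hom) ∧
    (LocallyOfFiniteType (pullback.snd X.hom i) → QuasiCompact (pullback.snd X.hom i) → QuasiCompact X.hom) ∧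
    (IsImmersion ((Over.pullback i).map u).left → IsImmersion u.left) ∧
    (IsClosedImmersion ((Over.pullback i).map u).left → IsClosedImmersion u.left) := by
  set i : Spec (CommRingCat.of (IsLocalRing.ResidueField A)) ⟶ (Spec (CommRingCat.of A)) :=
    Spec.map (CommRingCat.ofHom (IsLocalRing.residue A)) with hi
  have hicl : IsClosedImmersion i :=
    IsClosedImmersion.spec_of_surjective _ IsLocalRing.residue_surjective
  have hisurj : Surjective i := by
    constructor
    intro x
    have hxp : x.asIdeal.IsPrime := x.isPrime
    have hx : x.asIdeal.IsMaximal := IsArtinianRing.isMaximal_of_isPrime x.asIdeal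
    have hx' : x.asIdeal = IsLocalRing.maximalIdeal A := IsLocalRing.eq_maximalIdeal hx
    refine ⟨⟨⊥, Ideal.isPrime_bot⟩, ?_⟩
    apply PrimeSpectrum.ext
    rw [hx']
    change Ideal.comap (IsLocalRing.residue A) ⊥ = _
    rw [← RingHom.ker_eq_comap_bot, IsLocalRing.ker_residue]
  have : IsNoetherianRing (CommRingCat.of A) := inferInstanceAs (IsNoetherianRing A)
  -- global nilpotency of the kernel of `i`
  obtain ⟨m, hm⟩ := Groth.Agent.Lib.Helper18.ker_nilpotent_of_surjective i
    ⟨⊤, isAffineOpen_top _⟩
  have hker : i.ker ^ m = ⊥ := by
    apply Scheme.IdealSheafData.ext_of_isAffine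
    rw [Scheme.IdealSheafData.ideal_pow, Pi.pow_apply, hm]
    rfl
  have hnil : ∀ (Z : Over (Spec (CommRingCat.of A))) (U : Z.left.affineOpens),
      ∃ m : ℕ, ((pullback.fst Z.hom i).ker.ideal U) ^ m = ⊥ := by
    intro Z U
    refine ⟨m, ?_⟩
    have h1 : (pullback.fst Z.hom i).ker ^ m = ⊥ := by
      rw [Scheme.IdealSheafData.ker_fst_of_isClosedImmersion,
        ← Groth.Agent.Lib.Helper18.comap_pow, hker]
      exact Scheme.IdealSheafData.comap_bot _
    have h2 := congrArg (fun I : Z.left.IdealSheafData => I.ideal U) h1
    simpa using h2
  have hthick : ∀ (Z : Over (Spec (CommRingCat.of A))),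
      MoreMor.IsThickening (pullback.fst Z.hom i) := fun Z =>
    ⟨inferInstance,
      MorphismProperty.of_isPullback (P := @Surjective) (IsPullback.of_hasPullback Z.hom i).flip
        hisurj⟩
  -- the cartesian square for `u`
  have hsq : IsPullback (pullback.fst X.hom i) ((Over.pullback i).map u).left u.left
      (pullback.fst Y.hom i) := by
    have hX := (IsPullback.of_hasPullback X.hom i).flip
    have hY := (IsPullback.of_hasPullback Y.hom i).flip
    have e1 : ((Over.pullback i).map u).left ≫ pullback.snd Y.hom i = pullback.snd X.hom i := by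
      simp only [Over.pullback_map_left]
      exact pullback.lift_snd _ _ _
    have e2 : u.left ≫ Y.hom = X.hom := Over.w u
    have hbig : IsPullback (((Over.pullback i).map u).left ≫ pullback.snd Y.hom i)
        (pullback.fst X.hom i) i (u.left ≫ Y.hom) := by
      rw [e1, e2]; exact hX
    have comm : ((Over.pullback i).map u).left ≫ pullback.fst Y.hom i =
        pullback.fst X.hom i ≫ u.left := by
      simp only [Over.pullback_map_left]
      exact pullback.lift_fst _ _ _
    exact (IsPullback.of_right hbig comm hY).flip
  have hlft_u : LocallyOfFiniteType ((Over.pullback i).map u).left → LocallyOfFiniteType u.left := by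
    intro h
    have : IsClosedImmersion (pullback.fst Y.hom i) := inferInstance
    exact Groth.Agent.Lib.Helper18.locallyOfFiniteType_of_thickening hsq (hnil Y)
  refine ⟨?_, ?_, ?_, ?_⟩
  · intro h
    exact Groth.Agent.Lib.Helper18.locallyOfFiniteType_of_thickening
      (IsPullback.of_hasPullback X.hom i)
      (fun U => Groth.Agent.Lib.Helper18.ker_nilpotent_of_surjective i U)
  · intro _ h
    exact (Groth.Agent.S1303.result (pullback.fst X.hom i) i (pullback.snd X.hom i) X.hom
      (hthick X) ⟨hicl, hisurj⟩ pullback.condition).mp h
  · intro h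
    have h1 : LocallyOfFiniteType ((Over.pullback i).map u).left := inferInstance
    have h2 : LocallyOfFiniteType u.left := hlft_u h1
    exact (Groth.Agent.S1316.result _ _ _ _ (hthick Y) hsq).mp h
  · intro h
    have h1 : LocallyOfFiniteType ((Over.pullback i).map u).left := inferInstance
    have h2 : LocallyOfFiniteType u.left := hlft_u h1
    exact (Groth.Agent.S1313.result _ _ _ _ (hthick Y) hsq).mp h

end Groth.Agent.S5346
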