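import Groth.Statements.S5340
import Groth.Agent.S5346
import Groth.Agent.Lib.Helper41.LftGroupField

set_option autoImplicit false
universe u
open CategoryTheory CategoryTheory.Limits MonoidalCategory CartesianMonoidalCategory MonObj GrpObj AlgebraicGeometry
open SGA3

namespace Groth.Agent.S5340

/-- Version without the quasi-compactness hypothesis (not needed). -/
theorem aux (A : Type u) [CommRing A] [IsArtinianRing A] [IsLocalRing A]
    (G : Over (Spec (CommRingCat.of A))) [GrpObj G]
    (W : G.left.Opens) (hW : (W : Set G.left).Nonempty) [hWlft : LocallyOfFiniteType (W.ι ≫ G.hom)] :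
    LocallyOfFiniteType G.hom := by
  let i : Spec (CommRingCat.of (IsLocalRing.ResidueField A)) ⟶ (Spec (CommRingCat.of A)) :=
    Spec.map (CommRingCat.ofHom (IsLocalRing.residue A))
  refine (Groth.Agent.S5346.result A G G (𝟙 G)).1 ?_
  change LocallyOfFiniteType (pullback.snd G.hom i)
  have hisurj : Surjective i := by
    constructor
    intro x
    have hxp : x.asIdeal.IsPrime := x.isPrime
    have hx : x.asIdeal.IsMaximal := IsArtinianRing.isMaximal_of_isPrime x.asIdeal
    have hx' : x.asIdeal = IsLocalRing.maximalIdeal A := IsLocalRing.eq_maximalIdeal hx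
    refine ⟨⟨⊥, Ideal.isPrime_bot⟩, ?_⟩
    apply PrimeSpectrum.ext
    rw [hx']
    change Ideal.comap (IsLocalRing.residue A) ⊥ = _
    rw [← RingHom.ker_eq_comap_bot, IsLocalRing.ker_residue]
  let G₀ : Over (Spec (CommRingCat.of (IsLocalRing.ResidueField A))) := Red.bc i G
  have hfs : Surjective (pullback.fst G.hom i) :=
    MorphismProperty.of_isPullback (P := @Surjective) (IsPullback.of_hasPullback G.hom i).flip
      hisurj
  let W₀ : G₀.left.Opens := (pullback.fst G.hom i) ⁻¹ᵁ W
  have hW₀ : (W₀ : Set G₀.left).Nonempty := by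
    obtain ⟨w, hw⟩ := hW
    obtain ⟨w', hw'⟩ := hfs.surj w
    exact ⟨w', by change (pullback.fst G.hom i) w' ∈ W; rw [hw']; exact hw⟩
  have hW₀lft : LocallyOfFiniteType (W₀.ι ≫ G₀.hom) := by
    have h1 := (isPullback_morphismRestrict (pullback.fst G.hom i) W).paste_vert
      (IsPullback.of_hasPullback G.hom i)
    exact MorphismProperty.of_isPullback (P := @LocallyOfFiniteType) h1 hWlft
  exact Groth.Agent.Lib.Helper41.LftGroupField.lft_of_nonempty_open_field
    (IsLocalRing.ResidueField A) G₀ W₀ hW₀

/-- Let A be a local artinian ring and G an A-group scheme. If some nonempty open subscheme of G is of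
finite type over A, then G is locally of finite type over A. -/
theorem result (A : Type u) [CommRing A] [IsArtinianRing A] [IsLocalRing A] (G : Over (Spec (CommRingCat.of A))) [GrpObj G]
    (W : G.left.Opens) (hW : (W : Set G.left).Nonempty) [LocallyOfFiniteType (W.ι ≫ G.hom)] [QuasiCompact (W.ι ≫ G.hom)] :
    LocallyOfFiniteType G.hom := by
  exact Groth.Agent.S5340.aux A G W hW

end Groth.Agent.S5340
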