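import Groth.Statements.S5341
-- import your own Groth.Agent.* helpers here
import Groth.Agent.Lib.Helper55.GroupLocalDim
import Groth.Agent.Lib.Helper55.DimPoint
import Groth.Agent.S4442

set_option autoImplicit false
universe u
open CategoryTheory CategoryTheory.Limits MonoidalCategory CartesianMonoidalCategory MonObj GrpObj AlgebraicGeometry
open SGA3

namespace Groth.Agent.S5341

open Groth.Agent.Lib.Helper55

/-- For the generic point `ξ` of an irreducible component of a scheme locally of finite type over
a field, the local dimension at `ξ` is the dimension of the component. -/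
theorem localDim_generic_eq {k : Type u} [Field k] {X : Scheme.{u}}
    (f : X ⟶ Spec (CommRingCat.of k)) [LocallyOfFiniteType f] (ξ : X)
    (hξ : closure ({ξ} : Set X) ∈ irreducibleComponents (X : Type u)) :
    FlatMor.localDim ↥X ξ = topologicalKrullDim ↥(closure ({ξ} : Set X)) := by
  obtain ⟨U, hU, hxU, -⟩ := exists_isAffineOpen_mem_and_subset (x := ξ) (U := ⊤) trivial
  let φA : CommRingCat.of k ⟶ Γ(X, U) := Spec.preimage (hU.fromSpec ≫ f)
  let _ : Algebra k Γ(X, U) := φA.hom.toAlgebra
  have ha : hU.fromSpec ≫ f = Spec.map (CommRingCat.ofHom (algebraMap k Γ(X, U))) :=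
    (Spec.map_preimage _).symm
  have hftA : Algebra.FiniteType k Γ(X, U) := by
    have h1 : LocallyOfFiniteType (hU.fromSpec ≫ f) := inferInstance
    rw [ha, HasRingHomProperty.Spec_iff (P := @LocallyOfFiniteType)] at h1
    exact h1
  have h1 := localDim_eq_of_isOpenEmbedding hU.fromSpec hU.fromSpec.isOpenEmbedding
    (hU.primeIdealOf ⟨ξ, hxU⟩)
  rw [hU.fromSpec_primeIdealOf ⟨ξ, hxU⟩] at h1
  rw [← h1]
  have h3 := localDim_primeSpectrum_eq k Γ(X, U) (hU.primeIdealOf ⟨ξ, hxU⟩)
  refine h3.trans ?_
  have hmin := Groth.Agent.S4442.mem_minimalPrimes_of_closure_mem_irreducibleComponents X hU ξ hxU hξ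
  have hp : (hU.primeIdealOf ⟨ξ, hxU⟩).asIdeal.IsPrime := (hU.primeIdealOf ⟨ξ, hxU⟩).2
  rw [Ideal.height_eq_zero_iff.mpr hmin]
  have h2 := topologicalKrullDim_closure_chart f hU.fromSpec (hU.primeIdealOf ⟨ξ, hxU⟩)
  rw [hU.fromSpec_primeIdealOf ⟨ξ, hxU⟩] at h2
  rw [h2]
  simp

/-- Let G be a group scheme locally of finite type over a field k. Then (i) every irreducible component
of G has the same dimension as G; (ii) for every point g of G the local dimension of G at g (the
infimum of the dimensions of the open neighbourhoods of g) equals dim G. -/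
theorem result (k : Type u) [Field k] (G : Over (Spec (CommRingCat.of k))) [GrpObj G]
    [LocallyOfFiniteType G.hom] :
    (∀ Z ∈ irreducibleComponents ↥G.left, topologicalKrullDim ↥Z = topologicalKrullDim ↥G.left) ∧
    (∀ g : G.left, FlatMor.localDim ↥G.left g = topologicalKrullDim ↥G.left) := by
  refine ⟨fun Z hZ => ?_, fun g => localDim_eq_topologicalKrullDim_of_grpObj G g⟩
  obtain ⟨ξ, hξ⟩ := QuasiSober.sober hZ.1 (isClosed_of_mem_irreducibleComponents Z hZ)
  have hcl : closure ({ξ} : Set G.left) = Z := hξ.def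
  have hcomp : closure ({ξ} : Set G.left) ∈ irreducibleComponents (G.left : Type u) := by
    rw [hcl]; exact hZ
  have h1 := localDim_generic_eq G.hom ξ hcomp
  rw [localDim_eq_topologicalKrullDim_of_grpObj G ξ, hcl] at h1
  exact h1.symm

end Groth.Agent.S5341
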