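import Groth.Statements.S5361
import Groth.Agent.Lib.Helper41.BaseChangeSubgroup
import Groth.Agent.Lib.Helper41.ProductSubgroup

set_option autoImplicit false
universe u
open CategoryTheory CategoryTheory.Limits MonoidalCategory CartesianMonoidalCategory MonObj GrpObj AlgebraicGeometry
open SGA3

namespace Groth.Agent.S5361

/-- Let G be a group scheme over a field k, X a geometrically reduced k-scheme, f : X → G a k-morphism,
and i : Γ → G the smallest closed subgroup scheme of G through which f factors (the subgroup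
generated by f). Then for every k-scheme S, the base change Γ_S → G_S is the smallest subgroup
scheme of G_S through which f_S factors: for every homomorphism i' : Γ' → G_S of S-group schemes
which is an immersion (not necessarily closed) such that f_S factors through i', Γ_S → G_S factors
through i'. -/
theorem result (k : Type u) [Field k] (G X : Over (Spec (CommRingCat.of k))) [GrpObj G]
    [GeometricallyReduced X.hom] (f : X ⟶ G) (Γ : Over (Spec (CommRingCat.of k))) [GrpObj Γ] (i : Γ ⟶ G) [IsMonHom i] [IsClosedImmersion i.left]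
    (hf : ∃ f' : X ⟶ Γ, f' ≫ i = f)
    (hmin : ∀ (Γ' : Over (Spec (CommRingCat.of k))) (_ : GrpObj Γ') (i' : Γ' ⟶ G), IsMonHom i' → IsClosedImmersion i'.left →
        (∃ f'' : X ⟶ Γ', f'' ≫ i' = f) → ∃ j : Γ ⟶ Γ', j ≫ i' = i)
    (S : Scheme.{u}) (σ : S ⟶ (Spec (CommRingCat.of k))) :
    ∀ (Γ' : Over S) (_ : GrpObj Γ') (i' : Γ' ⟶ Red.bc σ G), IsMonHom i' → IsImmersion i'.left →
      (∃ f'' : Red.bc σ X ⟶ Γ', f'' ≫ i' = (Over.pullback σ).map f) →
      ∃ j : Red.bc σ Γ ⟶ Γ', j ≫ i' = (Over.pullback σ).map i := by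
  classical
  intro Γ' hΓ' i' hi' himm ⟨f'', hf''⟩
  have hsub : Subsingleton (Spec (CommRingCat.of k)) :=
    inferInstanceAs (Subsingleton (PrimeSpectrum k))
  obtain ⟨hred, hgr, hr⟩ :=
    Groth.Agent.Lib.Helper41.SmallestProps.smallest_props f Γ i hf hmin
  obtain ⟨f', hf'⟩ := hf
  let F := Over.pullback σ
  let iS : Red.bc σ Γ ⟶ Red.bc σ G := F.map i
  have hiS : IsMonHom iS := Functor.map.instIsMonHom (F := Over.pullback σ) Γ G i
  let Zo := Groth.Agent.Lib.Helper41.BaseChangeSubgroup.interObj iS i'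
  let ζo : Zo ⟶ Red.bc σ Γ := Groth.Agent.Lib.Helper41.BaseChangeSubgroup.interFst iS i'
  let πo : Zo ⟶ Γ' := Groth.Agent.Lib.Helper41.BaseChangeSubgroup.interSnd iS i'
  let ζ : pullback iS.left i'.left ⟶ (Red.bc σ Γ).left := pullback.fst iS.left i'.left
  have hζimm : IsImmersion ζ := by
    change IsImmersion (pullback.fst iS.left i'.left)
    infer_instance
  -- words factor through the intersection
  have hword : ∀ (T : Over (Spec (CommRingCat.of k))) (l : List ((T ⟶ X) × Bool)),
      ∃ c : F.obj T ⟶ Zo, c ≫ ζo = F.map (Groth.Agent.Lib.Helper41.WordPoints.word f' l) := by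
    intro T l
    let L : List ((F.obj T ⟶ F.obj X) × Bool) := l.map (fun xb => (F.map xb.1, xb.2))
    have h : F.map (Groth.Agent.Lib.Helper41.WordPoints.word f' l) ≫ iS =
        Groth.Agent.Lib.Helper41.WordPoints.word f'' L ≫ i' := by
      change F.map _ ≫ F.map i = _
      rw [← Functor.map_comp, Groth.Agent.Lib.Helper41.WordPoints.word_comp_hom, hf',
        Groth.Agent.Lib.Helper41.BaseChangeSubgroup.map_word,
        Groth.Agent.Lib.Helper41.WordPoints.word_comp_hom, hf'']
    exact ⟨Groth.Agent.Lib.Helper41.BaseChangeSubgroup.interLift iS i' _ _ h,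
      Groth.Agent.Lib.Helper41.BaseChangeSubgroup.interLift_fst iS i' _ _ h⟩
  have hce : Topology.IsClosedEmbedding i.left.base := i.left.isClosedEmbedding
  let D : Set Γ.left := i.left.base ⁻¹' (Groth.Agent.Lib.Helper41.SmallestSubgroup.wordSet f)
  have hD : Dense D :=
    Groth.Agent.Lib.Helper41.ProductSubgroup.dense_preimage_of_range_eq_closure hce hr
  have hDword : ∀ p ∈ D, ∃ (T : Over (Spec (CommRingCat.of k)))
      (l : List ((T ⟶ X) × Bool)) (t : T.left),
      (Groth.Agent.Lib.Helper41.WordPoints.word f' l).left.base t = p := by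
    intro p hp
    obtain ⟨T, hT, l, t, htp⟩ := hp
    refine ⟨T, l, t, ?_⟩
    apply hce.injective
    rw [← htp, ← hf', ← Groth.Agent.Lib.Helper41.WordPoints.word_comp_hom]
    rfl
  -- surjectivity
  let W : Set (Red.bc σ Γ).left := Set.range ζ.base
  let pr : (Red.bc σ Γ).left ⟶ Γ.left := pullback.fst Γ.hom σ
  have hWuniv : W = Set.univ := by
    apply Groth.Agent.Lib.Helper41.BaseChangeSubgroup.eq_univ_of_locallyClosed_mul_stable σ Γ.hom
      (Red.bc σ Γ) pr (IsPullback.of_hasPullback Γ.hom σ) D hD W ζ.isLocallyClosed_range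
    · intro p hp
      obtain ⟨T, l, t, ht⟩ := hDword _ hp
      obtain ⟨c, hc⟩ := hword T l
      -- lift `p` to a point of `F.obj T`
      have hpb : IsPullback ((Groth.Agent.Lib.Helper41.WordPoints.word f' l) ▷ Over.mk σ).left
          (fst T (Over.mk σ)).left (fst Γ (Over.mk σ)).left
          (Groth.Agent.Lib.Helper41.WordPoints.word f' l).left :=
        Groth.Agent.Lib.Helper41.ClosureSubgroup2.isPullback_whiskerRight_fst (Over.mk σ) _
      obtain ⟨q, hq1, hq2⟩ := Scheme.exists_preimage_of_isPullback hpb p t (by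
        rw [ht]
        change (pullback.fst Γ.hom σ).base p = _
        rfl)
      refine ⟨c.left.base q, ?_⟩
      change (c ≫ ζo).left.base q = p
      rw [hc, Groth.Agent.Lib.Helper41.BaseChangeSubgroup.map_left_eq]
      exact hq1
    · intro w h1 h2
      exact Groth.Agent.Lib.Helper41.BaseChangeSubgroup.range_interFst_mul_stable iS i' w h1 h2
  have hζcl : IsClosedImmersion ζ := by
    apply IsClosedImmersion.of_isPreimmersion
    change IsClosed W
    rw [hWuniv]
    exact isClosed_univ
  have hζiso : IsIso ζ := by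
    have hred' : IsReduced Γ.left := hred
    apply Groth.Agent.Lib.Helper41.SchematicDensity.isIso_of_dense_tests (Γ := Γ)
      (S' := Over.mk σ) ζ D hD
    intro p hp
    obtain ⟨T, l, t, ht⟩ := hDword _ hp
    refine ⟨T, Groth.Agent.Lib.Helper41.WordPoints.word f' l, t, ht, ?_⟩
    intro T' s
    obtain ⟨c, hc⟩ := hword T' (l.map (fun xb => (s ≫ xb.1, xb.2)))
    refine ⟨c.left, ?_⟩
    change (c ≫ ζo).left = _
    rw [hc, Groth.Agent.Lib.Helper41.BaseChangeSubgroup.map_left_eq,
      ← Groth.Agent.Lib.Helper41.WordPoints.comp_word]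
  let jl : (Red.bc σ Γ).left ⟶ Γ'.left := inv ζ ≫ pullback.snd iS.left i'.left
  have hjl : jl ≫ i'.left = iS.left := by
    change (inv ζ ≫ pullback.snd iS.left i'.left) ≫ i'.left = iS.left
    rw [Category.assoc, ← pullback.condition]
    change inv ζ ≫ ζ ≫ iS.left = iS.left
    rw [IsIso.inv_hom_id_assoc]
  let j : Red.bc σ Γ ⟶ Γ' := Over.homMk jl (by
    have h1 : Γ'.hom = i'.left ≫ (Red.bc σ G).hom := (Over.w i').symm
    rw [h1, ← Category.assoc, hjl]
    exact Over.w iS)
  refine ⟨j, ?_⟩
  ext
  exact hjl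

end Groth.Agent.S5361
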