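import Groth.Statements.S5362
import Groth.Agent.Lib.Helper41.ProductSubgroup

set_option autoImplicit false
universe u
open CategoryTheory CategoryTheory.Limits MonoidalCategory CartesianMonoidalCategory MonObj GrpObj AlgebraicGeometry
open SGA3

namespace Groth.Agent.S5362

/-- Let G be a group scheme locally of finite type over a field k, and a : A → G, b : B → G two closed
subgroup schemes which are smooth and of finite type over k, such that B normalizes A (conjugating a
point of A by a point of B gives a point of A). Let i : Γ → G be the smallest closed subgroup scheme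
of G through which both a and b factor. Then Γ is reduced and its underlying set is A·B, the image
of A ×_k B under (x, y) ↦ a(x) b(y). -/
theorem result (k : Type u) [Field k] (G A B : Over (Spec (CommRingCat.of k))) [GrpObj G] [GrpObj A] [GrpObj B]
    [LocallyOfFiniteType G.hom] (a : A ⟶ G) [IsMonHom a] [IsClosedImmersion a.left] (b : B ⟶ G) [IsMonHom b]
    [IsClosedImmersion b.left] [Smooth A.hom] [QuasiCompact A.hom] [Smooth B.hom] [QuasiCompact B.hom]
    (hN : ∀ (T : Over (Spec (CommRingCat.of k))) (y : T ⟶ B) (x : T ⟶ A), ∃ x' : T ⟶ A, (y ≫ b) * (x ≫ a) * (y ≫ b)⁻¹ = x' ≫ a)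
    (Γ : Over (Spec (CommRingCat.of k))) [GrpObj Γ] (i : Γ ⟶ G) [IsMonHom i] [IsClosedImmersion i.left]
    (ha : ∃ a' : A ⟶ Γ, a' ≫ i = a) (hb : ∃ b' : B ⟶ Γ, b' ≫ i = b)
    (hmin : ∀ (Γ' : Over (Spec (CommRingCat.of k))) (_ : GrpObj Γ') (i' : Γ' ⟶ G), IsMonHom i' → IsClosedImmersion i'.left →
        (∃ a'' : A ⟶ Γ', a'' ≫ i' = a) → (∃ b'' : B ⟶ Γ', b'' ≫ i' = b) → ∃ j : Γ ⟶ Γ', j ≫ i' = i) :
    IsReduced Γ.left ∧ Set.range i.left.base = Set.range ((a ⊗ₘ b) ≫ μ[G]).left.base := by
  classical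
  have hsub : Subsingleton (Spec (CommRingCat.of k)) :=
    inferInstanceAs (Subsingleton (PrimeSpectrum k))
  let f : A ⊗ B ⟶ G := (a ⊗ₘ b) ≫ μ[G]
  have hf_def : f = (fst A B ≫ a) * (snd A B ≫ b) := by
    change (a ⊗ₘ b) ≫ μ[G] = _
    rw [Hom.mul_def, lift_fst_comp_snd_comp]
  have hAgr : GeometricallyReduced A.hom :=
    Groth.Agent.Lib.Helper41.SmoothGeomRed.geometricallyReduced_of_smooth A.hom
  have hBgr : GeometricallyReduced B.hom :=
    Groth.Agent.Lib.Helper41.SmoothGeomRed.geometricallyReduced_of_smooth B.hom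
  have hABgr : GeometricallyReduced (A ⊗ B).hom :=
    Groth.Agent.Lib.Helper41.ProductReduced.geometricallyReduced_pullback_fst_comp A.hom B.hom
  obtain ⟨a', ha'⟩ := ha
  obtain ⟨b', hb'⟩ := hb
  let f₁ : A ⊗ B ⟶ Γ := (fst A B ≫ a') * (snd A B ≫ b')
  have hf₁ : f₁ ≫ i = f := by
    change ((fst A B ≫ a') * (snd A B ≫ b')) ≫ i = f
    rw [MonObj.mul_comp, Category.assoc, Category.assoc, ha', hb', hf_def]
  have hminf : ∀ (Γ' : Over (Spec (CommRingCat.of k))) (_ : GrpObj Γ') (i' : Γ' ⟶ G), IsMonHom i' →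
      IsClosedImmersion i'.left → (∃ f'' : A ⊗ B ⟶ Γ', f'' ≫ i' = f) →
      ∃ j : Γ ⟶ Γ', j ≫ i' = i := by
    intro Γ' hΓ' i' hi' hci' ⟨f'', hf''⟩
    apply hmin Γ' hΓ' i' hi' hci'
    · refine ⟨lift (𝟙 A) (1 : A ⟶ B) ≫ f'', ?_⟩
      rw [Category.assoc, hf'', hf_def, MonObj.comp_mul, lift_fst_assoc, lift_snd_assoc,
        Category.id_comp, MonObj.one_comp, _root_.mul_one]
    · refine ⟨lift (1 : B ⟶ A) (𝟙 B) ≫ f'', ?_⟩
      rw [Category.assoc, hf'', hf_def, MonObj.comp_mul, lift_fst_assoc, lift_snd_assoc,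
        Category.id_comp, MonObj.one_comp, _root_.one_mul]
  obtain ⟨hred, hgr, hr⟩ :=
    Groth.Agent.Lib.Helper41.SmallestProps.smallest_props f Γ i ⟨f₁, hf₁⟩ hminf
  refine ⟨hred, ?_⟩
  -- the word set is the image of `f`
  have hWf : Groth.Agent.Lib.Helper41.SmallestSubgroup.wordSet f = Set.range f.left.base := by
    apply subset_antisymm
    · rintro p ⟨T, hT, l, t, rfl⟩
      rw [hf_def]
      obtain ⟨x, y, hxy⟩ := Groth.Agent.Lib.Helper41.ProductSubgroup.exists_word_eq_mul a b hN l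
      rw [hxy]
      refine ⟨(lift x y).left.base t, ?_⟩
      change (lift x y ≫ ((fst A B ≫ a) * (snd A B ≫ b))).left.base t = _
      rw [MonObj.comp_mul, lift_fst_assoc, lift_snd_assoc]
    · rintro _ ⟨z, rfl⟩
      refine ⟨A ⊗ B, hABgr, [(𝟙 _, true)], z, ?_⟩
      simp [Groth.Agent.Lib.Helper41.WordPoints.word, Groth.Agent.Lib.Helper41.WordPoints.sgn]
  rw [hWf] at hr
  have hce : Topology.IsClosedEmbedding i.left.base := i.left.isClosedEmbedding
  -- the preimage of the image of `f`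
  let W : Set Γ.left := i.left.base ⁻¹' (Set.range f.left.base)
  have hWd : Dense W :=
    Groth.Agent.Lib.Helper41.ProductSubgroup.dense_preimage_of_range_eq_closure hce hr
  have hWrange : W = Set.range f₁.left.base := by
    apply subset_antisymm
    · rintro y ⟨z, hz⟩
      refine ⟨z, ?_⟩
      apply hce.injective
      rw [← hz, ← hf₁]
      rfl
    · rintro _ ⟨z, rfl⟩
      refine ⟨z, ?_⟩
      rw [← hf₁]
      rfl
  -- finiteness
  have hΓlft : LocallyOfFiniteType Γ.hom := by
    rw [← Over.w i]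
    infer_instance
  have hΓln : IsLocallyNoetherian Γ.left := LocallyOfFiniteType.isLocallyNoetherian Γ.hom
  have hΓsep : IsSeparated Γ.hom := Groth.Agent.Lib.Helper41.SepPoints3.isSeparated_of_field Γ
  have hABlft : LocallyOfFiniteType (A ⊗ B).hom := by
    change LocallyOfFiniteType (pullback.fst A.hom B.hom ≫ A.hom)
    infer_instance
  have hABqc : QuasiCompact (A ⊗ B).hom := by
    change QuasiCompact (pullback.fst A.hom B.hom ≫ A.hom)
    infer_instance
  have hf₁lft : LocallyOfFiniteType f₁.left := by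
    have : LocallyOfFiniteType (f₁.left ≫ Γ.hom) := by
      rw [Over.w f₁]
      exact hABlft
    exact locallyOfFiniteType_of_comp f₁.left Γ.hom
  have hf₁lfp : LocallyOfFinitePresentation f₁.left :=
    Groth.Agent.Lib.Helper93.ActionOpen.locallyOfFinitePresentation_of_isLocallyNoetherian f₁.left
  have hf₁qc : QuasiCompact f₁.left := by
    have : QuasiCompact (f₁.left ≫ Γ.hom) := by
      rw [Over.w f₁]
      exact hABqc
    exact QuasiCompact.of_comp f₁.left Γ.hom
  have hΓne : Nonempty Γ.left :=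
    ⟨η[Γ].left.base (IsLocalRing.closedPoint k : PrimeSpectrum k)⟩
  have hdr : DenseRange f₁.left.base := by
    change Dense (Set.range f₁.left.base)
    rw [← hWrange]
    exact hWd
  obtain ⟨U, hU, hUne, hUsub⟩ :=
    Groth.Agent.Lib.Helper41.OpenInRange.exists_open_subset_range f₁.left hdr
  have hWuniv : W = Set.univ := by
    refine Groth.Agent.Lib.Helper41.DenseStable.eq_univ_of_dense_mul_stable Γ W hWd U hU hUne
      (by rw [hWrange]; exact hUsub) ?_
    intro w hw1 hw2
    change i.left.base (μ[Γ].left.base w) ∈ Set.range f.left.base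
    rw [← hWf]
    have h1 : i.left.base (μ[Γ].left.base w) = μ[G].left.base ((i ⊗ₘ i).left.base w) := by
      change (μ[Γ] ≫ i).left.base w = ((i ⊗ₘ i) ≫ μ[G]).left.base w
      rw [IsMonHom.mul_hom]
    rw [h1]
    apply Groth.Agent.Lib.Helper41.ProductSubgroup.wordSet_mul
    · change ((i ⊗ₘ i) ≫ fst G G).left.base w ∈ _
      rw [tensorHom_fst, hWf]
      exact hw1
    · change ((i ⊗ₘ i) ≫ snd G G).left.base w ∈ _
      rw [tensorHom_snd, hWf]
      exact hw2
  apply subset_antisymm
  · rintro _ ⟨y, rfl⟩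
    have : y ∈ W := by
      rw [hWuniv]
      trivial
    exact this
  · rintro _ ⟨z, rfl⟩
    refine ⟨f₁.left.base z, ?_⟩
    change (f₁ ≫ i).left.base z = _
    rw [hf₁]

end Groth.Agent.S5362
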