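import Groth.Statements.S5363
import Groth.Agent.Lib.Helper41.SmallestProps

set_option autoImplicit false
universe u
open CategoryTheory CategoryTheory.Limits MonoidalCategory CartesianMonoidalCategory MonObj GrpObj AlgebraicGeometry
open SGA3

namespace Groth.Agent.S5363

/-- Let G be a group scheme over a field k and g a k-rational point of G. Then the smallest closed
subgroup scheme Γ of G through which g factors (the closed subgroup generated by g) is commutative. -/
theorem result (k : Type u) [Field k] (G : Over (Spec (CommRingCat.of k))) [GrpObj G]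
    (g : 𝟙_ (Over (Spec (CommRingCat.of k))) ⟶ G) (Γ : Over (Spec (CommRingCat.of k))) [GrpObj Γ] (i : Γ ⟶ G) [IsMonHom i] [IsClosedImmersion i.left]
    (hf : ∃ f' : 𝟙_ (Over (Spec (CommRingCat.of k))) ⟶ Γ, f' ≫ i = g)
    (hmin : ∀ (Γ' : Over (Spec (CommRingCat.of k))) (_ : GrpObj Γ') (i' : Γ' ⟶ G), IsMonHom i' → IsClosedImmersion i'.left →
        (∃ f'' : 𝟙_ (Over (Spec (CommRingCat.of k))) ⟶ Γ', f'' ≫ i' = g) → ∃ j : Γ ⟶ Γ', j ≫ i' = i) :
    IsCommMonObj Γ := by
  classical
  have hsub : Subsingleton (Spec (CommRingCat.of k)) :=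
    inferInstanceAs (Subsingleton (PrimeSpectrum k))
  have hU1gr : GeometricallyReduced (𝟙_ (Over (Spec (CommRingCat.of k)))).hom :=
    Groth.Agent.Lib.Helper41.ProductReduced.geometricallyReduced_id
  obtain ⟨hred, hgr, hr⟩ := Groth.Agent.Lib.Helper41.SmallestProps.smallest_props g Γ i hf hmin
  obtain ⟨gm, hgm⟩ := hf
  have hΓΓred : IsReduced (Γ ⊗ Γ).left := by
    change AlgebraicGeometry.IsReduced (Limits.pullback Γ.hom Γ.hom)
    exact Groth.Agent.Lib.Helper41.ProductReduced.isReduced_pullback_of_geometricallyReduced _ _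
  have hsep : IsSeparated Γ.hom := Groth.Agent.Lib.Helper41.SepPoints3.isSeparated_of_field Γ
  -- words are powers
  have hpow : ∀ (T : Over (Spec (CommRingCat.of k)))
      (l : List ((T ⟶ 𝟙_ (Over (Spec (CommRingCat.of k)))) × Bool)),
      ∃ m : ℤ, Groth.Agent.Lib.Helper41.WordPoints.word gm l = (toUnit T ≫ gm) ^ m := by
    intro T l
    induction l with
    | nil => exact ⟨0, by rw [zpow_zero]; rfl⟩
    | cons xb l ih =>
      obtain ⟨m, hm⟩ := ih
      rw [Groth.Agent.Lib.Helper41.WordPoints.word_cons, hm]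
      have hx : xb.1 = toUnit T := toUnit_unique _ _
      unfold Groth.Agent.Lib.Helper41.WordPoints.sgn
      by_cases hb : xb.2
      · refine ⟨1 + m, ?_⟩
        simp only [hb, if_true, hx]
        rw [zpow_add, zpow_one]
      · refine ⟨-1 + m, ?_⟩
        simp only [hb, Bool.false_eq_true, if_false, hx]
        rw [zpow_add, zpow_neg, zpow_one]
  -- the dense set
  let S₁ : Set Γ.left := i.left.base ⁻¹' (Groth.Agent.Lib.Helper41.SmallestSubgroup.wordSet g)
  have hce : Topology.IsClosedEmbedding i.left.base := i.left.isClosedEmbedding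
  have hS₁ : Dense S₁ := by
    rw [dense_iff_closure_eq]
    apply Set.eq_univ_of_forall
    intro x
    have hx : i.left.base x ∈ closure (Groth.Agent.Lib.Helper41.SmallestSubgroup.wordSet g) := by
      rw [← hr]
      exact ⟨x, rfl⟩
    have himg : i.left.base '' S₁ = Groth.Agent.Lib.Helper41.SmallestSubgroup.wordSet g := by
      rw [Set.image_preimage_eq_inter_range, hr]
      exact Set.inter_eq_left.mpr subset_closure
    rw [← himg, hce.closure_image_eq] at hx
    obtain ⟨x', hx', hxx'⟩ := hx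
    rw [← hce.injective hxx']
    exact hx'
  have hD := Groth.Agent.Lib.Helper41.SmallestProps.dense_prod Γ Γ hS₁ hS₁
  constructor
  refine Groth.Agent.Lib.Helper41.SmallestProps.ext_of_dense_points _ _ _ hD ?_
  rintro w ⟨⟨T, hT, l, t, h1⟩, ⟨T', hT', l', t', h2⟩⟩
  let a₀ : T ⟶ Γ := Groth.Agent.Lib.Helper41.WordPoints.word gm l
  let b₀ : T' ⟶ Γ := Groth.Agent.Lib.Helper41.WordPoints.word gm l'
  have ha₀ : a₀.left.base t = (fst Γ Γ).left.base w := by
    apply hce.injective
    rw [← h1, ← hgm, ← Groth.Agent.Lib.Helper41.WordPoints.word_comp_hom]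
    rfl
  have hb₀ : b₀.left.base t' = (snd Γ Γ).left.base w := by
    apply hce.injective
    rw [← h2, ← hgm, ← Groth.Agent.Lib.Helper41.WordPoints.word_comp_hom]
    rfl
  obtain ⟨w', hw'⟩ := Groth.Agent.Lib.Helper41.ClosureSubgroup2.exists_preimage_tensorHom a₀ b₀ w t t'
    ha₀ hb₀
  refine ⟨T ⊗ T', a₀ ⊗ₘ b₀, w', hw', ?_⟩
  rw [← lift_fst_comp_snd_comp, lift_braiding_hom_assoc, ← Hom.mul_def, ← Hom.mul_def]
  obtain ⟨m, hm⟩ := hpow T l
  obtain ⟨n, hn⟩ := hpow T' l'
  change snd T T' ≫ Groth.Agent.Lib.Helper41.WordPoints.word gm l' *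
      fst T T' ≫ Groth.Agent.Lib.Helper41.WordPoints.word gm l =
    fst T T' ≫ Groth.Agent.Lib.Helper41.WordPoints.word gm l *
      snd T T' ≫ Groth.Agent.Lib.Helper41.WordPoints.word gm l'
  rw [hm, hn, GrpObj.comp_zpow, GrpObj.comp_zpow, ← Category.assoc, ← Category.assoc,
    toUnit_unique (fst T T' ≫ toUnit T) (toUnit _), toUnit_unique (snd T T' ≫ toUnit T') (toUnit _)]
  exact (zpow_mul_comm _ _ _)

end Groth.Agent.S5363
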