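import Groth.Statements.S5364
import Groth.Agent.Lib.Helper41.SchematicDensity
import Groth.Agent.Lib.Helper41.ConjWord
import Groth.Agent.Lib.Helper41.SmallestProps

set_option autoImplicit false
universe u
open CategoryTheory CategoryTheory.Limits MonoidalCategory CartesianMonoidalCategory MonObj GrpObj AlgebraicGeometry
open SGA3

namespace Groth.Agent.S5364

/-- Let G be a group scheme over a field k and a : A → G, b : B → G two closed subgroup schemes which
are geometrically reduced over k and normal in G. Let i : Γ → G be the commutator subgroup scheme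
(A, B): the smallest closed subgroup scheme of G through which the morphism A ×_k B → G, (x, y) ↦
a(x) b(y) a(x)⁻¹ b(y)⁻¹, factors. Then Γ is normal in G. (The published statement also covers
characteristic subgroups; this row states the case of normal subgroups only.) -/
theorem result (k : Type u) [Field k] (G A B : Over (Spec (CommRingCat.of k))) [GrpObj G] [GrpObj A] [GrpObj B]
    (a : A ⟶ G) [IsMonHom a] [IsClosedImmersion a.left] (b : B ⟶ G) [IsMonHom b] [IsClosedImmersion b.left]
    [GeometricallyReduced A.hom] [GeometricallyReduced B.hom] (hA : AlgGrp.IsNormalHom a) (hB : AlgGrp.IsNormalHom b)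
    (Γ : Over (Spec (CommRingCat.of k))) [GrpObj Γ] (i : Γ ⟶ G) [IsMonHom i] [IsClosedImmersion i.left]
    (hf : ∃ f' : A ⊗ B ⟶ Γ, f' ≫ i = (((fst A B) ≫ a) * ((snd A B) ≫ b) * ((fst A B) ≫ a)⁻¹ * ((snd A B) ≫ b)⁻¹))
    (hmin : ∀ (Γ' : Over (Spec (CommRingCat.of k))) (_ : GrpObj Γ') (i' : Γ' ⟶ G), IsMonHom i' → IsClosedImmersion i'.left →
        (∃ f'' : A ⊗ B ⟶ Γ', f'' ≫ i' = (((fst A B) ≫ a) * ((snd A B) ≫ b) * ((fst A B) ≫ a)⁻¹ * ((snd A B) ≫ b)⁻¹)) → ∃ j : Γ ⟶ Γ', j ≫ i' = i) :
    AlgGrp.IsNormalHom i := by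
  classical
  have hsub : Subsingleton (Spec (CommRingCat.of k)) :=
    inferInstanceAs (Subsingleton (PrimeSpectrum k))
  let f : A ⊗ B ⟶ G :=
    ((fst A B) ≫ a) * ((snd A B) ≫ b) * ((fst A B) ≫ a)⁻¹ * ((snd A B) ≫ b)⁻¹
  have hABgr : GeometricallyReduced (A ⊗ B).hom :=
    Groth.Agent.Lib.Helper41.ProductReduced.geometricallyReduced_pullback_fst_comp A.hom B.hom
  obtain ⟨hred, hgr, hr⟩ :=
    Groth.Agent.Lib.Helper41.SmallestProps.smallest_props f Γ i hf hmin
  obtain ⟨f', hf'⟩ := hf
  have hf'' : f' ≫ i = f := hf'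
  let c : Γ ⊗ G ⟶ G := (snd Γ G) * (fst Γ G ≫ i) * (snd Γ G)⁻¹
  let ζ : pullback c.left i.left ⟶ (Γ ⊗ G).left := pullback.fst c.left i.left
  have hζ : IsClosedImmersion ζ := by
    change IsClosedImmersion (pullback.fst c.left i.left)
    infer_instance
  have hce : Topology.IsClosedEmbedding i.left.base := i.left.isClosedEmbedding
  let D : Set Γ.left := i.left.base ⁻¹' (Groth.Agent.Lib.Helper41.SmallestSubgroup.wordSet f)
  have hD : Dense D :=
    Groth.Agent.Lib.Helper41.ProductSubgroup.dense_preimage_of_range_eq_closure hce hr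
  have hiso : IsIso ζ := by
    apply Groth.Agent.Lib.Helper41.SchematicDensity.isIso_of_dense_tests ζ D hD
    intro p hp
    obtain ⟨T, hT, l, t, htp⟩ := hp
    refine ⟨T, Groth.Agent.Lib.Helper41.WordPoints.word f' l, t, ?_, ?_⟩
    · apply hce.injective
      rw [← htp, ← hf'', ← Groth.Agent.Lib.Helper41.WordPoints.word_comp_hom]
      rfl
    · intro T' s
      obtain ⟨l', hl'⟩ := Groth.Agent.Lib.Helper41.ConjWord.exists_conj_word a b hA hB f rfl
        (snd T' G) (l.map (fun xb => ((fst T' G ≫ s) ≫ xb.1, xb.2)))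
      have hfac : ((s ≫ Groth.Agent.Lib.Helper41.WordPoints.word f' l) ▷ G) ≫ c =
          Groth.Agent.Lib.Helper41.WordPoints.word f' l' ≫ i := by
        rw [Groth.Agent.Lib.Helper41.WordPoints.word_comp_hom, hf'', ← hl',
          ← Groth.Agent.Lib.Helper41.WordPoints.comp_word, ← hf'',
          ← Groth.Agent.Lib.Helper41.WordPoints.word_comp_hom]
        change ((s ≫ Groth.Agent.Lib.Helper41.WordPoints.word f' l) ▷ G) ≫
          ((snd Γ G) * (fst Γ G ≫ i) * (snd Γ G)⁻¹) = _
        rw [MonObj.comp_mul, MonObj.comp_mul, GrpObj.comp_inv, whiskerRight_snd,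
          whiskerRight_fst_assoc, Category.assoc, Category.assoc]
      refine ⟨pullback.lift ((s ≫ Groth.Agent.Lib.Helper41.WordPoints.word f' l) ▷ G).left
        (Groth.Agent.Lib.Helper41.WordPoints.word f' l').left
        (by rw [← Over.comp_left, ← Over.comp_left, hfac]), ?_⟩
      exact pullback.lift_fst _ _ _
  let c'l : (Γ ⊗ G).left ⟶ Γ.left := inv ζ ≫ pullback.snd c.left i.left
  have hc'l : c'l ≫ i.left = c.left := by
    change (inv ζ ≫ pullback.snd c.left i.left) ≫ i.left = c.left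
    rw [Category.assoc, ← pullback.condition]
    change inv ζ ≫ ζ ≫ c.left = c.left
    rw [IsIso.inv_hom_id_assoc]
  let c' : Γ ⊗ G ⟶ Γ := Over.homMk c'l (by
    have h1 : Γ.hom = i.left ≫ G.hom := (Over.w i).symm
    rw [h1, ← Category.assoc, hc'l]
    exact Over.w c)
  have hc' : c' ≫ i = c := by
    ext
    exact hc'l
  intro T g n
  refine ⟨lift n g ≫ c', ?_⟩
  rw [Category.assoc, hc']
  change _ = lift n g ≫ ((snd Γ G) * (fst Γ G ≫ i) * (snd Γ G)⁻¹)
  rw [MonObj.comp_mul, MonObj.comp_mul, GrpObj.comp_inv, lift_snd, lift_fst_assoc]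

end Groth.Agent.S5364
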