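import Groth.Statements.S5365
import Groth.Agent.S5361
import Groth.Agent.Lib.Helper41.BoundedAlgClosed2
import Groth.Agent.Lib.Helper41.WordDescent
import Groth.Agent.Lib.Helper41.GeomConnGroup

set_option autoImplicit false
universe u
open CategoryTheory CategoryTheory.Limits MonoidalCategory CartesianMonoidalCategory MonObj GrpObj AlgebraicGeometry
open SGA3

namespace Groth.Agent.S5365

/-- Let G be a group scheme locally of finite type over a field k, a : A → G and b : B → G two closed
subgroup schemes which are geometrically reduced over k, and i : Γ → G the commutator subgroup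
scheme (A, B), the smallest closed subgroup scheme through which (x, y) ↦ a(x) b(y) a(x)⁻¹ b(y)⁻¹
factors. Suppose either (a) A and B are normal in G and of finite type over k, or (b) A is connected
and B is of finite type over k. Then Γ is of finite type over k, and in case (b) Γ is connected.
(The published statement also asserts that this subgroup represents the fppf sheaf generated by
commutators and describes its neutral component; this row states only the finiteness and
connectedness assertions.) -/
theorem result (k : Type u) [Field k] (G A B : Over (Spec (CommRingCat.of k))) [GrpObj G] [GrpObj A] [GrpObj B]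
    [LocallyOfFiniteType G.hom]
    (a : A ⟶ G) [IsMonHom a] [IsClosedImmersion a.left] (b : B ⟶ G) [IsMonHom b] [IsClosedImmersion b.left]
    [GeometricallyReduced A.hom] [GeometricallyReduced B.hom] [QuasiCompact B.hom]
    (hcase : (AlgGrp.IsNormalHom a ∧ AlgGrp.IsNormalHom b ∧ QuasiCompact A.hom) ∨ ConnectedSpace A.left)
    (Γ : Over (Spec (CommRingCat.of k))) [GrpObj Γ] (i : Γ ⟶ G) [IsMonHom i] [IsClosedImmersion i.left]
    (hf : ∃ f' : A ⊗ B ⟶ Γ, f' ≫ i = (((fst A B) ≫ a) * ((snd A B) ≫ b) * ((fst A B) ≫ a)⁻¹ * ((snd A B) ≫ b)⁻¹))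
    (hmin : ∀ (Γ' : Over (Spec (CommRingCat.of k))) (_ : GrpObj Γ') (i' : Γ' ⟶ G), IsMonHom i' → IsClosedImmersion i'.left →
        (∃ f'' : A ⊗ B ⟶ Γ', f'' ≫ i' = (((fst A B) ≫ a) * ((snd A B) ≫ b) * ((fst A B) ≫ a)⁻¹ * ((snd A B) ≫ b)⁻¹)) → ∃ j : Γ ⟶ Γ', j ≫ i' = i) :
    QuasiCompact Γ.hom ∧ (ConnectedSpace A.left → ConnectedSpace Γ.left) := by
  classical
  have hsubk : Subsingleton (Spec (CommRingCat.of k)) :=
    inferInstanceAs (Subsingleton (PrimeSpectrum k))
  let ptk : (𝟙_ (Over (Spec (CommRingCat.of k)))).left :=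
    (IsLocalRing.closedPoint k : PrimeSpectrum k)
  let c : A ⊗ B ⟶ G :=
    ((fst A B) ≫ a) * ((snd A B) ≫ b) * ((fst A B) ≫ a)⁻¹ * ((snd A B) ≫ b)⁻¹
  have hAlft : LocallyOfFiniteType A.hom := by
    rw [← Over.w a]
    infer_instance
  have hBlft : LocallyOfFiniteType B.hom := by
    rw [← Over.w b]
    infer_instance
  -- case (b)
  have caseB : ConnectedSpace A.left → QuasiCompact Γ.hom ∧ ConnectedSpace Γ.left := by
    intro hA
    have hAcomp : CompactSpace A.left := by
      have h1 := (Groth.Agent.S0355.result k A).2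
      rw [PreconnectedSpace.connectedComponent_eq_univ] at h1
      exact isCompact_univ_iff.mp h1
    have hAqc : QuasiCompact A.hom :=
      Groth.Agent.Lib.Helper41.GenStep.quasiCompact_of_compactSpace A.hom
    have hAgc : GeometricallyConnected A.hom :=
      Groth.Agent.Lib.Helper41.GeomConnGroup.geometricallyConnected_of_section A.hom η[A].left
        (Over.w η[A])
    have hX1 := Groth.Agent.Lib.Helper41.GenStep.tensor_lft A B
    have hX2 := Groth.Agent.Lib.Helper41.GenStep.tensor_qc A B
    have hX3 := Groth.Agent.Lib.Helper41.GenStep.tensor_geomRed A B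
    let K := AlgebraicClosure k
    have hsubK : Subsingleton (Spec (CommRingCat.of K)) :=
      inferInstanceAs (Subsingleton (PrimeSpectrum K))
    let ptK : Spec (CommRingCat.of K) := (IsLocalRing.closedPoint K : PrimeSpectrum K)
    let σ : Spec (CommRingCat.of K) ⟶ Spec (CommRingCat.of k) :=
      Spec.map (CommRingCat.ofHom (algebraMap k K))
    let F := Over.pullback σ
    have hG1 : LocallyOfFiniteType (F.obj G).hom := by
      change LocallyOfFiniteType (pullback.snd G.hom σ)
      infer_instance
    have hXK1 : LocallyOfFiniteType (F.obj (A ⊗ B)).hom := by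
      change LocallyOfFiniteType (pullback.snd (A ⊗ B).hom σ)
      infer_instance
    have hXK2 : QuasiCompact (F.obj (A ⊗ B)).hom := by
      change QuasiCompact (pullback.snd (A ⊗ B).hom σ)
      infer_instance
    have hXK3 : GeometricallyReduced (F.obj (A ⊗ B)).hom := by
      change GeometricallyReduced (pullback.snd (A ⊗ B).hom σ)
      infer_instance
    have hi1 : IsMonHom (F.map i) := Functor.map.instIsMonHom (F := Over.pullback σ) Γ G i
    have hi2 : IsClosedImmersion (F.map i).left :=
      Groth.Agent.Lib.Helper41.WordDescent.isClosedImmersion_map_left σ i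
    have hlift : ∀ (Y : Over (Spec (CommRingCat.of k))) (y : Y.left),
        ∃ y' : (F.obj Y).left, (pullback.fst Y.hom σ).base y' = y := by
      intro Y y
      obtain ⟨z, hz, -⟩ := Scheme.Pullback.exists_preimage_pullback (f := Y.hom) (g := σ) y ptK
        (hsubk.elim _ _)
      exact ⟨z, hz⟩
    have hXKne : Nonempty (F.obj (A ⊗ B)).left := by
      obtain ⟨y', -⟩ := hlift (A ⊗ B) ((lift η[A] η[B]).left.base ptk)
      exact ⟨y'⟩
    -- every connected component of `(A × B)_K` contains a point mapped to the unit
    have hcc : ∀ x : (F.obj (A ⊗ B)).left, ∃ x' ∈ connectedComponent x,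
        (F.map c).left.base x' ∈ Set.range η[F.obj G].left.base := by
      intro x
      let pB : (F.obj (A ⊗ B)).left ⟶ (F.obj B).left := (F.map (snd A B)).left
      have hsndgc : GeometricallyConnected (snd A B).left := by
        rw [Over.snd_left]
        infer_instance
      have hpBgc : GeometricallyConnected pB :=
        MorphismProperty.of_isPullback (P := @GeometricallyConnected)
          (Groth.Agent.Lib.Helper41.WordDescent.isPullback_map_left σ (snd A B)).flip hsndgc
      let r : F.obj (A ⊗ B) ⟶ F.obj (A ⊗ B) :=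
        F.map (snd A B ≫ lift (toUnit B ≫ η[A]) (𝟙 B))
      have hr : r ≫ F.map (snd A B) = F.map (snd A B) := by
        change F.map _ ≫ F.map _ = _
        rw [← Functor.map_comp, Category.assoc, lift_snd, Category.comp_id]
      have hrc : r ≫ F.map c = 1 := by
        change F.map _ ≫ F.map _ = _
        have h1 : lift (toUnit B ≫ η[A]) (𝟙 B) ≫ c = 1 := by
          change lift (toUnit B ≫ η[A]) (𝟙 B) ≫ (((fst A B) ≫ a) * ((snd A B) ≫ b) *
            ((fst A B) ≫ a)⁻¹ * ((snd A B) ≫ b)⁻¹) = 1
          rw [MonObj.comp_mul, MonObj.comp_mul, MonObj.comp_mul, GrpObj.comp_inv, GrpObj.comp_inv,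
            lift_fst_assoc, lift_snd_assoc, Category.id_comp, Category.assoc, IsMonHom.one_hom,
            ← Hom.one_def]
          group
        rw [← Functor.map_comp, Category.assoc, h1, MonObj.comp_one]
        exact Functor.map_one F
      refine ⟨r.left.base x, ?_, ?_⟩
      · have hconn := Scheme.Hom.isConnected_preimage_singleton pB (pB.base x)
        apply hconn.isPreconnected.subset_connectedComponent (Set.mem_preimage.mpr rfl)
        change pB.base (r.left.base x) = pB.base x
        change (r ≫ F.map (snd A B)).left.base x = _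
        rw [hr]
      · change (r ≫ F.map c).left.base x ∈ _
        rw [hrc, Hom.one_def]
        exact ⟨(toUnit (F.obj (A ⊗ B))).left.base x, rfl⟩
    have hfK : ∃ f' : F.obj (A ⊗ B) ⟶ F.obj Γ, f' ≫ F.map i = F.map c := by
      obtain ⟨f', hf'⟩ := hf
      exact ⟨F.map f', by rw [← Functor.map_comp, hf']⟩
    have hminK : ∀ (Γ' : Over (Spec (CommRingCat.of K))) (_ : GrpObj Γ') (i' : Γ' ⟶ F.obj G),
        IsMonHom i' → IsClosedImmersion i'.left →
        (∃ f'' : F.obj (A ⊗ B) ⟶ Γ', f'' ≫ i' = F.map c) →
        ∃ j : F.obj Γ ⟶ Γ', j ≫ i' = F.map i := by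
      intro Γ' hΓ' i' h1 h2 h3
      exact Groth.Agent.S5361.result k G (A ⊗ B) c Γ i hf hmin (Spec (CommRingCat.of K)) σ Γ' hΓ'
        i' h1 inferInstance h3
    obtain ⟨-, hirr, hcomp⟩ :=
      Groth.Agent.Lib.Helper41.BoundedAlgClosed2.bounded_of_algClosed' (F.map c) hcc (F.obj Γ)
        (F.map i) hfK hminK
    -- descend compactness and connectedness
    let p : (F.obj Γ).left ⟶ Γ.left := pullback.fst Γ.hom σ
    have hpsurj : Function.Surjective p.base := fun z => hlift Γ z
    have hΓcomp : CompactSpace Γ.left := by
      rw [← isCompact_univ_iff, ← hpsurj.range_eq]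
      exact isCompact_range p.continuous
    have hΓconn : ConnectedSpace Γ.left := by
      have hpre : PreconnectedSpace Γ.left := by
        constructor
        rw [← hpsurj.range_eq]
        exact isPreconnected_range p.continuous
      have hne : Nonempty Γ.left := ⟨η[Γ].left.base ptk⟩
      exact { toPreconnectedSpace := hpre, toNonempty := hne }
    exact ⟨Groth.Agent.Lib.Helper41.GenStep.quasiCompact_of_compactSpace Γ.hom, hΓconn⟩
  refine ⟨?_, fun hA => (caseB hA).2⟩
  rcases hcase with ⟨ha, -, hAqc⟩ | hA
  · -- case (a): the commutator map factors through `A`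
    obtain ⟨n', hn'⟩ := ha (A ⊗ B) ((snd A B) ≫ b) ((fst A B)⁻¹)
    have hfac : (fst A B * n') ≫ a = c := by
      change _ = ((fst A B) ≫ a) * ((snd A B) ≫ b) * ((fst A B) ≫ a)⁻¹ * ((snd A B) ≫ b)⁻¹
      rw [MonObj.mul_comp, ← hn', GrpObj.inv_comp]
      group
    obtain ⟨j, hj⟩ := hmin A inferInstance a inferInstance inferInstance ⟨fst A B * n', hfac⟩
    have hjl : j.left ≫ a.left = i.left := by rw [← Over.comp_left, hj]
    have hci : IsClosedImmersion (j.left ≫ a.left) := by rw [hjl]; infer_instance
    have hcj : IsClosedImmersion j.left :=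
      IsClosedImmersion.of_comp_isClosedImmersion j.left a.left
    rw [← Over.w j]
    infer_instance
  · exact (caseB hA).1

end Groth.Agent.S5365
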