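import Groth.Statements.S5366
import Groth.Agent.Lib.Helper14.WordSeries
import Groth.Agent.Lib.Helper41.SepPoints3

set_option autoImplicit false
universe u
open CategoryTheory CategoryTheory.Limits MonoidalCategory CartesianMonoidalCategory MonObj GrpObj AlgebraicGeometry
open SGA3

namespace Groth.Agent.S5366

open scoped commutatorElement
open Groth.Agent.Lib.Helper14.WordSeries Groth.Agent.Lib.Helper41.SepPoints3

variable {k : Type u} [Field k]

/-- The `2^n`-fold product of `G`. -/
noncomputable def dObj (G : Over (Spec (CommRingCat.of k))) : ℕ → Over (Spec (CommRingCat.of k))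
  | 0 => G
  | n + 1 => dObj G n ⊗ dObj G n

/-- The iterated commutator word map of depth `n`. -/
noncomputable def dWord (G : Over (Spec (CommRingCat.of k))) [GrpObj G] : (n : ℕ) → (dObj G n ⟶ G)
  | 0 => 𝟙 G
  | n + 1 => (⁅fst (dObj G n) (dObj G n) ≫ dWord G n, snd (dObj G n) (dObj G n) ≫ dWord G n⁆ :
      dObj G n ⊗ dObj G n ⟶ G)

/-- The `(n+1)`-fold product of `G`. -/
noncomputable def lObj (G : Over (Spec (CommRingCat.of k))) : ℕ → Over (Spec (CommRingCat.of k))
  | 0 => G
  | n + 1 => lObj G n ⊗ G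

/-- The left-normed commutator word map of length `n + 1`. -/
noncomputable def lWord (G : Over (Spec (CommRingCat.of k))) [GrpObj G] : (n : ℕ) → (lObj G n ⟶ G)
  | 0 => 𝟙 G
  | n + 1 => (⁅fst (lObj G n) G ≫ lWord G n, snd (lObj G n) G⁆ : lObj G n ⊗ G ⟶ G)

theorem smooth_dObj (G : Over (Spec (CommRingCat.of k))) [Smooth G.hom] (n : ℕ) :
    Smooth (dObj G n).hom := by
  induction n with
  | zero => exact inferInstanceAs (Smooth G.hom)
  | succ n ih => exact smooth_tensor _ _

theorem smooth_lObj (G : Over (Spec (CommRingCat.of k))) [Smooth G.hom] (n : ℕ) :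
    Smooth (lObj G n).hom := by
  induction n with
  | zero => exact inferInstanceAs (Smooth G.hom)
  | succ n ih => exact smooth_tensor _ _

theorem comp_commutator {T T' G : Over (Spec (CommRingCat.of k))} [GrpObj G] (t : T' ⟶ T)
    (a b : T ⟶ G) : t ≫ ⁅a, b⁆ = ⁅t ≫ a, t ≫ b⁆ := by
  simp only [commutatorElement_def, MonObj.comp_mul, GrpObj.comp_inv]

theorem exists_of_mem_dv (G : Over (Spec (CommRingCat.of k))) [GrpObj G] (n : ℕ)
    (T : Over (Spec (CommRingCat.of k))) {a : T ⟶ G} (ha : a ∈ dv (T ⟶ G) n) :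
    ∃ x : T ⟶ dObj G n, x ≫ dWord G n = a := by
  induction n generalizing a with
  | zero => exact ⟨a, Category.comp_id a⟩
  | succ n ih =>
    obtain ⟨b, hb, c, hc, rfl⟩ := ha
    obtain ⟨x, rfl⟩ := ih hb
    obtain ⟨y, rfl⟩ := ih hc
    refine ⟨lift x y, ?_⟩
    change lift x y ≫ (⁅fst (dObj G n) (dObj G n) ≫ dWord G n,
      snd (dObj G n) (dObj G n) ≫ dWord G n⁆ : dObj G n ⊗ dObj G n ⟶ G) = _
    rw [comp_commutator, lift_fst_assoc, lift_snd_assoc]

theorem exists_of_mem_lv (G : Over (Spec (CommRingCat.of k))) [GrpObj G] (n : ℕ)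
    (T : Over (Spec (CommRingCat.of k))) {a : T ⟶ G} (ha : a ∈ lv (T ⟶ G) n) :
    ∃ x : T ⟶ lObj G n, x ≫ lWord G n = a := by
  induction n generalizing a with
  | zero => exact ⟨a, Category.comp_id a⟩
  | succ n ih =>
    obtain ⟨b, hb, c, rfl⟩ := ha
    obtain ⟨x, rfl⟩ := ih hb
    refine ⟨lift x c, ?_⟩
    change lift x c ≫ (⁅fst (lObj G n) G ≫ lWord G n, snd (lObj G n) G⁆ : lObj G n ⊗ G ⟶ G) = _
    rw [comp_commutator, lift_fst_assoc, lift_snd]

theorem comp_dWord_mem (G : Over (Spec (CommRingCat.of k))) [GrpObj G] (n : ℕ)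
    (T : Over (Spec (CommRingCat.of k))) (x : T ⟶ dObj G n) :
    x ≫ dWord G n ∈ derivedSeries (T ⟶ G) n := by
  induction n with
  | zero => rw [derivedSeries_zero]; exact Subgroup.mem_top _
  | succ n ih =>
    have key : ∀ y : T ⟶ dObj G n ⊗ dObj G n, y ≫ (⁅fst (dObj G n) (dObj G n) ≫ dWord G n,
        snd (dObj G n) (dObj G n) ≫ dWord G n⁆ : dObj G n ⊗ dObj G n ⟶ G) ∈
        derivedSeries (T ⟶ G) (n + 1) := by
      intro y
      rw [comp_commutator, derivedSeries_succ, ← Category.assoc, ← Category.assoc]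
      exact Subgroup.commutator_mem_commutator (ih _) (ih _)
    exact key x

theorem comp_lWord_mem (G : Over (Spec (CommRingCat.of k))) [GrpObj G] (n : ℕ)
    (T : Over (Spec (CommRingCat.of k))) (x : T ⟶ lObj G n) :
    x ≫ lWord G n ∈ Subgroup.lowerCentralSeries (⊤ : Subgroup (T ⟶ G)) n := by
  induction n with
  | zero => rw [Subgroup.lowerCentralSeries_zero]; exact Subgroup.mem_top _
  | succ n ih =>
    have key : ∀ y : T ⟶ lObj G n ⊗ G, y ≫ (⁅fst (lObj G n) G ≫ lWord G n,
        snd (lObj G n) G⁆ : lObj G n ⊗ G ⟶ G) ∈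
        Subgroup.lowerCentralSeries (⊤ : Subgroup (T ⟶ G)) (n + 1) := by
      intro y
      rw [comp_commutator, Subgroup.lowerCentralSeries_succ, ← Category.assoc]
      exact Subgroup.commutator_mem_commutator (ih _) (Subgroup.mem_top _)
    exact key x

/-- (i) ⟺ (iii): let G be a smooth group scheme of finite type over a field k, Ω an algebraically closed
extension field of k and n a natural number. Then G is solvable of class n (the n-th term of the
derived series of the group G(T) is trivial for every k-scheme T) if and only if the n-th term of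
the derived series of the group of Ω-points G(Ω) is trivial; and G is nilpotent of class n (the n-th
term of the lower central series of G(T) is trivial for every T) if and only if the n-th term of the
lower central series of G(Ω) is trivial. -/
theorem result (k : Type u) [Field k] (G : Over (Spec (CommRingCat.of k))) [GrpObj G]
    [Smooth G.hom] [QuasiCompact G.hom] (Ω : Type u) [Field Ω] [Algebra k Ω] [IsAlgClosed Ω] (n : ℕ) :
    ((∀ T : Over (Spec (CommRingCat.of k)), derivedSeries (T ⟶ G) n = ⊥) ↔ derivedSeries ((Over.mk (Spec.map (CommRingCat.ofHom (algebraMap k Ω))) : Over (Spec (CommRingCat.of k))) ⟶ G) n = ⊥) ∧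
    ((∀ T : Over (Spec (CommRingCat.of k)), Subgroup.lowerCentralSeries (⊤ : Subgroup (T ⟶ G)) n = ⊥) ↔ Subgroup.lowerCentralSeries (⊤ : Subgroup (((Over.mk (Spec.map (CommRingCat.ofHom (algebraMap k Ω))) : Over (Spec (CommRingCat.of k))) ⟶ G))) n = ⊥) := by
  have hsepc : IsSepClosed Ω := inferInstance
  have hsep : IsSeparated G.hom := isSeparated_of_field G
  refine ⟨⟨fun h => h _, fun h T => ?_⟩, ⟨fun h => h _, fun h T => ?_⟩⟩
  · have hsm := smooth_dObj G n
    have hred := isReduced_of_smooth (dObj G n)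
    have hd := dense_smoothLocus_of_smooth (dObj G n)
    have hw : dWord G n = 1 := by
      apply eq_of_pts_eq k Ω (dObj G n) G hd
      intro x
      have h1 := comp_dWord_mem G n _ x
      rw [h] at h1
      rw [Subgroup.mem_bot.mp h1, MonObj.comp_one]
    apply derivedSeries_eq_bot_of_dv
    intro a ha
    obtain ⟨x, rfl⟩ := exists_of_mem_dv G n T ha
    rw [hw, MonObj.comp_one]
  · have hsm := smooth_lObj G n
    have hred := isReduced_of_smooth (lObj G n)
    have hd := dense_smoothLocus_of_smooth (lObj G n)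
    have hw : lWord G n = 1 := by
      apply eq_of_pts_eq k Ω (lObj G n) G hd
      intro x
      have h1 := comp_lWord_mem G n _ x
      rw [h] at h1
      rw [Subgroup.mem_bot.mp h1, MonObj.comp_one]
    apply lowerCentralSeries_eq_bot_of_lv
    intro a ha
    obtain ⟨x, rfl⟩ := exists_of_mem_lv G n T ha
    rw [hw, MonObj.comp_one]

end Groth.Agent.S5366
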