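import Groth.Statements.S5371
import Groth.Agent.Lib.Helper26.QuotTransfer

set_option autoImplicit false
universe u
open CategoryTheory CategoryTheory.Limits MonoidalCategory CartesianMonoidalCategory MonObj GrpObj AlgebraicGeometry
open SGA3

namespace Groth.Agent.S5371

/-- Let u : G' → G be a monomorphism of S-group schemes and p : G → G'' a morphism of S-schemes which is
covering for the fpqc topology (some Z → G'' which is flat, surjective, with every affine open of
G'' the image of a quasi-compact open of Z, factors through p) and such that the square (g, h) ↦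
g·u(h), first projection G ×_S G' → G, p, p is cartesian, so that G'' represents the fpqc quotient
sheaf G/G'. (xii) G' is flat and locally of finite presentation over S if and only if p is
surjective, flat and locally of finite presentation; in that case, if G is locally of finite
presentation (resp. locally of finite type, of finite type, smooth, etale, unramified, locally
quasi-finite) over S, so is G''. (xiii) If G' is flat and of finite presentation over S then p is of
finite presentation, and G is of finite presentation over S if and only if G'' is. -/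
theorem result (S : Scheme.{u}) (G G' G'' : Over S) [GrpObj G] [GrpObj G']
    (u : G' ⟶ G) [IsMonHom u] [Mono u] (p : G ⟶ G'')
    (hcov : (∃ (Z : Scheme.{u}) (q : Z ⟶ G''.left) (r : Z ⟶ G.left), r ≫ p.left = q ∧ Surjective q ∧ Flat q ∧
        ∀ V : G''.left.Opens, IsAffineOpen V → ∃ W : Z.Opens, IsCompact (W : Set Z) ∧ q.base '' (W : Set Z) = (V : Set G''.left)))
    (hsq : IsPullback ((G ◁ u) ≫ μ[G]) (fst G G') p p) :
    ((Flat G'.hom ∧ LocallyOfFinitePresentation G'.hom) ↔
      (Surjective p.left ∧ Flat p.left ∧ LocallyOfFinitePresentation p.left)) ∧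
    (Flat p.left → LocallyOfFinitePresentation p.left →
      (LocallyOfFinitePresentation G.hom → LocallyOfFinitePresentation G''.hom) ∧
      (LocallyOfFiniteType G.hom → LocallyOfFiniteType G''.hom) ∧
      (LocallyOfFiniteType G.hom → QuasiCompact G.hom → QuasiCompact G''.hom) ∧
      (Smooth G.hom → Smooth G''.hom) ∧ (Etale G.hom → Etale G''.hom) ∧
      (FormallyUnramified G.hom → LocallyOfFinitePresentation G.hom → FormallyUnramified G''.hom) ∧
      (LocallyQuasiFinite G.hom → LocallyOfFiniteType G.hom → LocallyQuasiFinite G''.hom)) ∧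
    (Flat G'.hom → LocallyOfFinitePresentation G'.hom → QuasiCompact G'.hom → QuasiSeparated G'.hom →
      QuasiCompact p.left ∧ QuasiSeparated p.left ∧ LocallyOfFinitePresentation p.left ∧
      ((LocallyOfFinitePresentation G.hom ∧ QuasiCompact G.hom ∧ QuasiSeparated G.hom) ↔
        (LocallyOfFinitePresentation G''.hom ∧ QuasiCompact G''.hom ∧ QuasiSeparated G''.hom))) := by
  have hcov' : Groth.Agent.Lib.Helper26.FpqcQuot.IsCov p.left := hcov
  haveI hsurj : Surjective p.left := hcov'.surjective
  have hF := Groth.Agent.Lib.Helper26.QuotTransfer.prop_iff hcov' hsq @Flat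
  have hLfp := Groth.Agent.Lib.Helper26.QuotTransfer.prop_iff hcov' hsq
    @LocallyOfFinitePresentation
  have hQc := Groth.Agent.Lib.Helper26.QuotTransfer.prop_iff hcov' hsq @QuasiCompact
  have hQs := Groth.Agent.Lib.Helper26.QuotTransfer.prop_iff hcov' hsq @QuasiSeparated
  refine ⟨⟨fun h => ⟨hsurj, hF.mp h.1, hLfp.mp h.2⟩, fun h => ⟨hF.mpr h.2.1, hLfp.mpr h.2.2⟩⟩,
    ?_, ?_⟩
  · intro hpf hplfp
    haveI := hpf
    haveI := hplfp
    refine ⟨fun h => Groth.Agent.Lib.Helper26.QuotTransfer.lfp_quot p h,
      fun h => Groth.Agent.Lib.Helper26.QuotTransfer.lft_quot p h,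
      fun _ h => Groth.Agent.Lib.Helper26.QuotTransfer.qc_quot p h,
      fun h => Groth.Agent.Lib.Helper26.QuotTransfer.smooth_quot p h,
      fun h => Groth.Agent.Lib.Helper26.QuotTransfer.etale_quot p hcov' hsq h,
      fun h h' => Groth.Agent.Lib.Helper26.QuotTransfer.unramified_quot p hcov' hsq h h',
      fun h h' => Groth.Agent.Lib.Helper26.QuotTransfer.lqf_quot p h h'⟩
  · intro h1 h2 h3 h4
    haveI : Flat p.left := hF.mp h1
    haveI : LocallyOfFinitePresentation p.left := hLfp.mp h2
    haveI : QuasiCompact p.left := hQc.mp h3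
    haveI : QuasiSeparated p.left := hQs.mp h4
    refine ⟨inferInstance, inferInstance, inferInstance, ?_, ?_⟩
    · rintro ⟨a, b, c⟩
      haveI : LocallyOfFinitePresentation (p.left ≫ G''.hom) := by rwa [Over.w p]
      haveI : QuasiCompact (p.left ≫ G''.hom) := by rwa [Over.w p]
      haveI : QuasiSeparated (p.left ≫ G''.hom) := by rwa [Over.w p]
      obtain ⟨d, e⟩ := Groth.Agent.S5939.result p.left G''.hom
      exact ⟨Groth.Agent.Lib.Helper26.QuotTransfer.lfp_quot p a, d, e⟩
    · rintro ⟨a, b, c⟩
      haveI := a
      haveI := b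
      haveI := c
      rw [← Over.w p]
      exact ⟨inferInstance, inferInstance, inferInstance⟩

end Groth.Agent.S5371
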