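import Groth.Statements.S5372
import Groth.Agent.Lib.Helper26.FpqcCovUEE

set_option autoImplicit false
universe u
open CategoryTheory CategoryTheory.Limits MonoidalCategory CartesianMonoidalCategory MonObj GrpObj AlgebraicGeometry
open SGA3

namespace Groth.Agent.S5372

/-- Let u : G' → G be a monomorphism of S-group schemes which is normal, and p : G → G'' a morphism of
S-schemes which is covering for the fpqc topology (some Z → G'' which is flat, surjective, with
every affine open of G'' the image of a quasi-compact open of Z, factors through p) and such that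
the square (g, h) ↦ g·u(h), first projection G ×_S G' → G, p, p is cartesian, so that G'' represents
the fpqc quotient sheaf G/G'. Then there is a structure of S-group scheme on G'' for which p is a
homomorphism, and it is unique: any morphism m : G'' ×_S G'' → G'' with (p × p) followed by m equal
to the multiplication of G followed by p is its multiplication. -/
theorem result (S : Scheme.{u}) (G G' G'' : Over S) [GrpObj G] [GrpObj G']
    (u : G' ⟶ G) [IsMonHom u] [Mono u] (p : G ⟶ G'')
    (hcov : (∃ (Z : Scheme.{u}) (q : Z ⟶ G''.left) (r : Z ⟶ G.left), r ≫ p.left = q ∧ Surjective q ∧ Flat q ∧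
        ∀ V : G''.left.Opens, IsAffineOpen V → ∃ W : Z.Opens, IsCompact (W : Set Z) ∧ q.base '' (W : Set Z) = (V : Set G''.left)))
    (hsq : IsPullback ((G ◁ u) ≫ μ[G]) (fst G G') p p) (hN : AlgGrp.IsNormalHom u) :
    ∃ _ : GrpObj G'', IsMonHom p ∧ ∀ m : G'' ⊗ G'' ⟶ G'', (p ⊗ₘ p) ≫ m = μ[G] ≫ p → m = μ[G''] := by
  have hq : Groth.Agent.Lib.Helper26.GrpQuotGen.IsQuot u p :=
    ⟨Groth.Agent.Lib.Helper26.OverUEE.over_uEE p
      (Groth.Agent.Lib.Helper26.FpqcCovUEE.uEE_of_fpqc_cov p.left hcov), hsq.flip⟩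
  have hn : Groth.Agent.Lib.Helper26.GrpQuotGen.Normal u := hN
  refine ⟨Groth.Agent.Lib.Helper26.GrpQuotGen.grpObj hq hn,
    Groth.Agent.Lib.Helper26.GrpQuotGen.isMonHom_π hq hn, ?_⟩
  intro m hm
  letI := Groth.Agent.Lib.Helper26.GrpQuotGen.grpObj hq hn
  have hepi : Epi (p ⊗ₘ p) :=
    (Groth.Agent.Lib.Helper26.GrpQuotGen.uEE_tensorHom hq.uEE hq.uEE).epi
  rw [← cancel_epi (p ⊗ₘ p), hm]
  exact (Groth.Agent.Lib.Helper26.GrpQuotGen.tensor_π_mulQ hq hn).symm

end Groth.Agent.S5372
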