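import Groth.Statements.S5376
import Groth.Agent.Lib.Helper59.OrbitClosure
-- import your own Groth.Agent.* helpers here

set_option autoImplicit false
universe u
open CategoryTheory CategoryTheory.Limits MonoidalCategory CartesianMonoidalCategory MonObj GrpObj AlgebraicGeometry
open SGA3

namespace Groth.Agent.S5376

open TensorProduct in
theorem lid_rTensor_apply {k : Type u} [Field k] {A : Type u} [AddCommGroup A] [Module k A]
    {V : Type u} [AddCommGroup V] [Module k V] (lam : V →ₗ[k] k) (φ : A →ₗ[k] k) (t : V ⊗[k] A) :
    φ (TensorProduct.lid k A (lam.rTensor A t)) = lam (TensorProduct.rid k V (φ.lTensor V t)) := by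
  induction t using TensorProduct.induction_on with
  | zero => simp
  | tmul x c => simp [mul_comm]
  | add y z hy hz => simp only [map_add, hy, hz]

open Groth.Agent.Lib.Helper93.Comod in
theorem key (k : Type u) [Field k] [IsAlgClosed k] (A : Type u) [CommRing A] [HopfAlgebra k A]
    [Algebra.FiniteType k A] [_root_.IsReduced A] (V : Type u) [AddCommGroup V] [Module k V]
    [HopfRep.Comod k A V] (v : V) (ψ : A →ₗ[k] k) :
    dualAct A V ψ v ∈
      Submodule.span k (Set.range fun g : A →ₐ[k] k => HopfRep.Comod.act k A V g v) := by
  by_contra hmem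
  obtain ⟨lam, hlam, hE⟩ := Submodule.exists_dual_map_eq_bot_of_notMem hmem inferInstance
  set a : A := TensorProduct.lid k A (lam.rTensor A (HopfRep.Comod.coact (k := k) (A := A) v))
    with ha
  have hφ : ∀ φ : A →ₗ[k] k, φ a = lam (dualAct A V φ v) := by
    intro φ
    rw [ha, lid_rTensor_apply, dualAct_apply]
  have hg : ∀ g : A →ₐ[k] k, g a = 0 := by
    intro g
    have h1 := hφ g.toLinearMap
    have h2 : dualAct A V g.toLinearMap v ∈
        Submodule.span k (Set.range fun g : A →ₐ[k] k => HopfRep.Comod.act k A V g v) :=
      Submodule.subset_span ⟨g, rfl⟩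
    have h3 : lam (dualAct A V g.toLinearMap v) ∈ Submodule.map lam
        (Submodule.span k (Set.range fun g : A →ₐ[k] k => HopfRep.Comod.act k A V g v)) :=
      Submodule.mem_map_of_mem h2
    rw [hE, Submodule.mem_bot] at h3
    rw [h3] at h1
    exact h1
  have hnil := Groth.Agent.Lib.Helper59.LinRed.isNilpotent_of_forall_algHom_eq_zero k A a hg
  have ha0 : a = 0 := hnil.eq_zero
  apply hlam
  rw [← hφ ψ, ha0, map_zero]

/-- Let k be an algebraically closed field, A a finitely generated commutative Hopf algebra over k which
is reduced (a reduced affine algebraic k-group G), V a finite-dimensional A-comodule and v a vector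
of V. Let E be the k-subspace of V spanned by the vectors g·v for g running over the k-points of G
(algebra maps A → k). Then E is a subcomodule of V containing v, and it is the smallest one. -/
theorem result (k : Type u) [Field k] [IsAlgClosed k] (A : Type u) [CommRing A] [HopfAlgebra k A]
    [Algebra.FiniteType k A] [IsReduced A] (V : Type u) [AddCommGroup V] [Module k V] [HopfRep.Comod k A V]
    [Module.Finite k V] (v : V) :
    letI E : Submodule k V := Submodule.span k (Set.range fun g : A →ₐ[k] k => HopfRep.Comod.act k A V g v)
    HopfRep.IsSubcomod (k := k) (A := A) E ∧ v ∈ E ∧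
      ∀ W : Submodule k V, HopfRep.IsSubcomod (k := k) (A := A) W → v ∈ W → E ≤ W := by
  classical
  have hkey := key k A V v
  refine ⟨?_, ?_, ?_⟩
  · apply Groth.Agent.Lib.Helper93.Comod.isSubcomod_of_dualAct_mem
    intro φ w hw
    induction hw using Submodule.span_induction with
    | mem x hx =>
      obtain ⟨g, rfl⟩ := hx
      have h1 : Groth.Agent.Lib.Helper93.Comod.dualAct A V φ (HopfRep.Comod.act k A V g v) =
          Groth.Agent.Lib.Helper93.Comod.dualAct A V (Groth.Agent.H40.convFun φ g.toLinearMap) v :=
        Groth.Agent.H40.slice_coact_coactSlice (C := A) φ g.toLinearMap v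
      rw [h1]
      exact hkey _
    | zero => rw [map_zero]; exact Submodule.zero_mem _
    | add x y _ _ hx hy => rw [map_add]; exact Submodule.add_mem _ hx hy
    | smul c x _ hx => rw [map_smul]; exact Submodule.smul_mem _ c hx
  · have h1 : Groth.Agent.Lib.Helper93.Comod.dualAct A V (Coalgebra.counit (R := k) (A := A)) v = v :=
      Groth.Agent.H40.coactSlice_counit (C := A) v
    have h2 := hkey (Coalgebra.counit (R := k) (A := A))
    rw [h1] at h2
    exact h2
  · intro W hW hv
    apply Submodule.span_le.2
    rintro _ ⟨g, rfl⟩
    exact Groth.Agent.Lib.Helper93.Comod.dualAct_mem_of_isSubcomod W hW g.toLinearMap v hv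

end Groth.Agent.S5376
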