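import Groth.Statements.S5377
import Groth.Agent.Lib.Helper84.ColimFF
import Mathlib.CategoryTheory.Limits.ConcreteCategory.Basic
-- import your own Groth.Agent.* helpers here

set_option autoImplicit false
universe u
open CategoryTheory CategoryTheory.Limits MonoidalCategory CartesianMonoidalCategory MonObj GrpObj AlgebraicGeometry
open SGA3

namespace Groth.Agent.S5377

section
variable {J : Type u} [SmallCategory J] [IsFiltered J]

/-- Finitely many elements of a filtered colimit of commutative rings come from a common stage. -/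
theorem exists_stage (F : J ⥤ CommRingCat.{u}) (s : Finset ↑(colimit F)) :
    ∃ j : J, ∀ x ∈ s, ∃ y : ↑(F.obj j), (colimit.ι F j).hom y = x := by
  classical
  induction s using Finset.induction_on with
  | empty => exact ⟨IsFiltered.nonempty.some, by simp⟩
  | insert a s _ ih =>
    obtain ⟨j₀, h₀⟩ := ih
    obtain ⟨j₁, y₁, hy₁⟩ := Concrete.colimit_exists_rep F a
    refine ⟨IsFiltered.max j₀ j₁, ?_⟩
    intro x hx
    rw [Finset.mem_insert] at hx
    rcases hx with rfl | hx
    · refine ⟨(F.map (IsFiltered.rightToMax j₀ j₁)).hom y₁, ?_⟩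
      rw [← hy₁]
      exact ConcreteCategory.congr_hom (colimit.w F (IsFiltered.rightToMax j₀ j₁)) y₁
    · obtain ⟨y, hy⟩ := h₀ x hx
      refine ⟨(F.map (IsFiltered.leftToMax j₀ j₁)).hom y, ?_⟩
      rw [← hy]
      exact ConcreteCategory.congr_hom (colimit.w F (IsFiltered.leftToMax j₀ j₁)) y

theorem exists_stage₂ (C A : J ⥤ CommRingCat.{u}) (s : Finset ↑(colimit C))
    (t : Finset ↑(colimit A)) :
    ∃ j : J, (∀ x ∈ s, ∃ y : ↑(C.obj j), (colimit.ι C j).hom y = x) ∧
      (∀ x ∈ t, ∃ y : ↑(A.obj j), (colimit.ι A j).hom y = x) := by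
  obtain ⟨j₀, h₀⟩ := exists_stage C s
  obtain ⟨j₁, h₁⟩ := exists_stage A t
  refine ⟨IsFiltered.max j₀ j₁, ?_, ?_⟩
  · intro x hx
    obtain ⟨y, hy⟩ := h₀ x hx
    refine ⟨(C.map (IsFiltered.leftToMax j₀ j₁)).hom y, ?_⟩
    rw [← hy]
    exact ConcreteCategory.congr_hom (colimit.w C (IsFiltered.leftToMax j₀ j₁)) y
  · intro x hx
    obtain ⟨y, hy⟩ := h₁ x hx
    refine ⟨(A.map (IsFiltered.rightToMax j₀ j₁)).hom y, ?_⟩
    rw [← hy]
    exact ConcreteCategory.congr_hom (colimit.w A (IsFiltered.rightToMax j₀ j₁)) y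

end

/-- Let (C_i → A_i)_i be a filtered direct system of homomorphisms of commutative rings, each of which
is faithfully flat. Then the induced homomorphism colim C_i → colim A_i is faithfully flat. -/
theorem result (J : Type u) [SmallCategory J] [IsFiltered J]
    (C A : J ⥤ CommRingCat.{u}) (φ : C ⟶ A) (h : ∀ j : J, (φ.app j).hom.FaithfullyFlat) :
    (colimMap φ).hom.FaithfullyFlat := by
  apply Groth.Agent.Lib.Helper84.ColimFF.faithfullyFlat_of_directed (J := J)
    (Cj := fun j => ↑(C.obj j)) (Aj := fun j => ↑(A.obj j))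
    (colimMap φ).hom (fun j => (φ.app j).hom)
    (fun j => (colimit.ι C j).hom) (fun j => (colimit.ι A j).hom)
  · intro j c
    exact ConcreteCategory.congr_hom (ι_colimMap φ j) c
  · intro s t
    exact exists_stage₂ C A s t
  · intro j a ha
    have ha' : (colimit.ι A j).hom a = (colimit.ι A j).hom (0 : ↑(A.obj j)) := by
      rw [ha, map_zero]
    obtain ⟨k, f, g, hfg⟩ := Concrete.colimit_exists_of_rep_eq A a (0 : ↑(A.obj j)) ha'
    refine ⟨k, (C.map f).hom, (A.map f).hom, ?_, ?_, ?_, ?_⟩
    · intro c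
      exact ConcreteCategory.congr_hom (colimit.w C f) c
    · intro a
      exact ConcreteCategory.congr_hom (colimit.w A f) a
    · intro c
      exact ConcreteCategory.congr_hom (φ.naturality f) c
    · have : (A.map f).hom a = (A.map g).hom 0 := hfg
      rw [this, map_zero]
  · exact h

end Groth.Agent.S5377
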