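import Groth.Statements.S9152
import Groth.Agent.Lib.Helper29.CodepthOpen
import Groth.Agent.Lib.Helper29.DepthSelf

set_option autoImplicit false
universe u
open CAlg

namespace Groth.Agent.S9152

/-- The Cohen–Macaulay locus of a finite type algebra over a field is open. -/
theorem result (k S : Type u) [Field k] [CommRing S] [Algebra k S]
    [Algebra.FiniteType k S] :
    IsOpen {q : PrimeSpectrum S | LocCoh.IsCohenMacaulayLocalRing (Localization.AtPrime q.asIdeal)} := by
  obtain ⟨n, f, hf⟩ := Algebra.FiniteType.iff_quotient_mvPolynomial''.mp
    (inferInstance : Algebra.FiniteType k S)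
  have hNS : IsNoetherianRing S := Algebra.FiniteType.isNoetherianRing k S
  have hreg : IsRegularRing (MvPolynomial (Fin n) k) :=
    MvPolynomial.isRegularRing_of_isRegularRing k
  let _ : Algebra (MvPolynomial (Fin n) k) S := f.toRingHom.toAlgebra
  have hs : Function.Surjective (algebraMap (MvPolynomial (Fin n) k) S) := hf
  have hopen := Groth.Agent.Lib.Helper29.isOpen_setOf_supportDim_le_depth_add_of_surjective
    (MvPolynomial (Fin n) k) S hs S 0
  convert hopen using 1
  ext q
  simp only [Set.mem_ofPred_eq]
  rw [Groth.Agent.Lib.Helper29.supportDim_localizedModule_self,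
    Groth.Agent.Lib.Helper29.depth_localizedModule_self]
  have hle := Groth.Agent.Lib.Helper29.depth_le_supportDim (Localization.AtPrime q.asIdeal)
    (Localization.AtPrime q.asIdeal)
  rw [Module.supportDim_self_eq_ringKrullDim,
    IsLocalization.AtPrime.ringKrullDim_eq_height q.asIdeal] at hle
  constructor
  · intro hCM
    have h1 := hCM.supportDim_eq_depth
    rw [Module.supportDim_self_eq_ringKrullDim,
      IsLocalization.AtPrime.ringKrullDim_eq_height q.asIdeal] at h1
    rw [h1]
    simp
  · intro h
    refine ⟨?_⟩
    rw [Module.supportDim_self_eq_ringKrullDim,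
      IsLocalization.AtPrime.ringKrullDim_eq_height q.asIdeal]
    refine le_antisymm ?_ hle
    simpa using h

end Groth.Agent.S9152
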