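import Groth.Statements.S5385
import Groth.Agent.S2698
import Groth.Agent.S9152
import Groth.Agent.Lib.Helper29.FlatAscent2
import Groth.Agent.Lib.Helper73.CMFibre1

set_option autoImplicit false
universe u
open CategoryTheory CategoryTheory.Limits MonoidalCategory CartesianMonoidalCategory MonObj GrpObj AlgebraicGeometry
open SGA3

namespace Groth.Agent.S5385

/-- The localization of a Noetherian ring at a prime of height zero is Cohen–Macaulay. -/
theorem cm_of_height_zero (R : Type u) [CommRing R] [IsNoetherianRing R] (p : Ideal R) [p.IsPrime]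
    (h : p.height = 0) : LocCoh.IsCohenMacaulayLocalRing (Localization.AtPrime p) := by
  have h1 : ringKrullDim (Localization.AtPrime p) = 0 := by
    rw [IsLocalization.AtPrime.ringKrullDim_eq_height p, h]; rfl
  have h2 : Ring.KrullDimLE 0 (Localization.AtPrime p) :=
    (ringKrullDimZero_iff_ringKrullDim_eq_zero).mpr h1
  have h3 : IsArtinianRing (Localization.AtPrime p) := isArtinianRing_iff_krullDimLE_zero.mpr h2
  exact Groth.Agent.Lib.Helper73.CMFibre.isCohenMacaulayLocalRing_of_isArtinianRing _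

/-- CM at a prime is the codepth-zero condition of `S2698`. -/
theorem cm_iff (B : Type u) [CommRing B] [IsNoetherianRing B] (q : PrimeSpectrum B) :
    LocCoh.IsCohenMacaulayLocalRing (Localization.AtPrime q.asIdeal) ↔
      Module.supportDim (Localization.AtPrime q.asIdeal)
          (LocalizedModule q.asIdeal.primeCompl B) ≤
        ((LocCoh.depth (Localization.AtPrime q.asIdeal)
          (LocalizedModule q.asIdeal.primeCompl B) : ℕ∞) : WithBot ℕ∞) + (0 : ℕ) := by
  rw [Groth.Agent.Lib.Helper29.supportDim_localizedModule_self,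
    Groth.Agent.Lib.Helper29.depth_localizedModule_self]
  have hle := Groth.Agent.Lib.Helper29.depth_le_supportDim (Localization.AtPrime q.asIdeal)
    (Localization.AtPrime q.asIdeal)
  rw [Module.supportDim_self_eq_ringKrullDim,
    IsLocalization.AtPrime.ringKrullDim_eq_height q.asIdeal] at hle
  constructor
  · intro hCM
    have h1 := hCM.supportDim_eq_depth
    rw [Module.supportDim_self_eq_ringKrullDim,
      IsLocalization.AtPrime.ringKrullDim_eq_height q.asIdeal] at h1
    rw [h1]
    simp
  · intro h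
    refine ⟨?_⟩
    rw [Module.supportDim_self_eq_ringKrullDim,
      IsLocalization.AtPrime.ringKrullDim_eq_height q.asIdeal]
    refine le_antisymm ?_ hle
    simpa using h

/-- For a finite type algebra over an artinian ring the CM locus is open and nonempty. -/
theorem cm_locus (A B : Type u) [CommRing A] [IsArtinianRing A] [CommRing B] [Algebra A B]
    [Algebra.FiniteType A B] [Nontrivial B] :
    IsOpen {q : PrimeSpectrum B |
        LocCoh.IsCohenMacaulayLocalRing (Localization.AtPrime q.asIdeal)} ∧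
      {q : PrimeSpectrum B |
        LocCoh.IsCohenMacaulayLocalRing (Localization.AtPrime q.asIdeal)}.Nonempty := by
  haveI hNB : IsNoetherianRing B := Algebra.FiniteType.isNoetherianRing A B
  have hCMU : ∀ (p : Ideal B) [p.IsPrime], ∃ U : Set (PrimeSpectrum (B ⧸ p)), IsOpen U ∧ U.Nonempty ∧
      ∀ q ∈ U, LocCoh.IsCohenMacaulayLocalRing (Localization.AtPrime q.asIdeal) := by
    intro p hp
    haveI : (p.comap (algebraMap A B)).IsPrime := Ideal.comap_isPrime _ _
    have hfield : IsField (A ⧸ p.comap (algebraMap A B)) := IsArtinianRing.isField_of_isDomain _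
    letI : Field (A ⧸ p.comap (algebraMap A B)) := hfield.toField
    haveI : Algebra.FiniteType A (B ⧸ p) :=
      Algebra.FiniteType.of_surjective (Ideal.Quotient.mkₐ A p) Ideal.Quotient.mk_surjective
    haveI : Algebra.FiniteType (A ⧸ p.comap (algebraMap A B)) (B ⧸ p) :=
      Algebra.FiniteType.of_restrictScalars_finiteType A _ _
    refine ⟨_, Groth.Agent.S9152.result (A ⧸ p.comap (algebraMap A B)) (B ⧸ p), ?_, fun q hq => hq⟩
    haveI : IsNoetherianRing (B ⧸ p) := inferInstance
    refine ⟨⟨⊥, Ideal.isPrime_bot⟩, ?_⟩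
    exact cm_of_height_zero (B ⧸ p) ⊥ Ideal.height_bot
  have hopen := (Groth.Agent.S2698.result B hCMU B 0).1
  have hset : {q : PrimeSpectrum B |
        LocCoh.IsCohenMacaulayLocalRing (Localization.AtPrime q.asIdeal)} =
      {p : PrimeSpectrum B |
      Module.supportDim (Localization.AtPrime p.asIdeal) (LocalizedModule p.asIdeal.primeCompl B) ≤
        ((LocCoh.depth (Localization.AtPrime p.asIdeal) (LocalizedModule p.asIdeal.primeCompl B) : ℕ∞) : WithBot ℕ∞) + (0 : ℕ)} := by
    ext q
    exact cm_iff B q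
  refine ⟨hset ▸ hopen, ?_⟩
  obtain ⟨p, hp⟩ := Ideal.nonempty_minimalPrimes (I := (⊥ : Ideal B)) bot_ne_top
  haveI : p.IsPrime := hp.1.1
  exact ⟨⟨p, hp.1.1⟩, cm_of_height_zero B p (Ideal.height_eq_zero_iff.mpr hp)⟩


/-- Let A be an artinian ring and X a nonempty scheme locally of finite type over A. Then X has a closed
point whose local ring is Cohen–Macaulay. -/
theorem result (A : Type u) [CommRing A] [IsArtinianRing A] (X : Scheme.{u})
    (f : X ⟶ Spec (CommRingCat.of A)) [LocallyOfFiniteType f] [Nonempty X] :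
    ∃ x : X, IsClosed ({x} : Set X) ∧ LocCoh.IsCohenMacaulayLocalRing (X.presheaf.stalk x) := by
  haveI : JacobsonSpace X := LocallyOfFiniteType.jacobsonSpace f
  obtain ⟨x0⟩ := ‹Nonempty X›
  obtain ⟨_, ⟨U, hU, rfl⟩, hx0U, -⟩ :=
    X.isBasis_affineOpens.exists_subset_of_mem_open (Set.mem_univ x0) isOpen_univ
  have hft : (f.appLE ⊤ U le_top).hom.FiniteType :=
    LocallyOfFiniteType.finiteType_appLE (f := f) (isAffineOpen_top _) hU le_top
  let φ : A →+* Γ(X, U) := (f.appLE ⊤ U le_top).hom.comp (Scheme.ΓSpecIso (.of A)).inv.hom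
  have hφ : φ.FiniteType := hft.comp (RingHom.FiniteType.of_surjective _
    (ConcreteCategory.bijective_of_isIso (Scheme.ΓSpecIso (.of A)).inv).2)
  letI : Algebra A Γ(X, U) := φ.toAlgebra
  haveI : Algebra.FiniteType A Γ(X, U) := hφ
  let p0 := hU.primeIdealOf ⟨x0, hx0U⟩
  haveI : Nontrivial Γ(X, U) := nontrivial_of_ne (0 : Γ(X, U)) 1 (fun h =>
    p0.isPrime.ne_top (p0.asIdeal.eq_top_iff_one.mpr (h ▸ p0.asIdeal.zero_mem)))
  obtain ⟨hopen, hne⟩ := cm_locus A Γ(X, U)
  set W : Set (PrimeSpectrum Γ(X, U)) := {q : PrimeSpectrum Γ(X, U) |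
        LocCoh.IsCohenMacaulayLocalRing (Localization.AtPrime q.asIdeal)} with hW
  haveI := hU.isOpenImmersion_fromSpec
  have hWopen : IsOpen (hU.fromSpec '' W) := hU.fromSpec.isOpenEmbedding.isOpenMap _ hopen
  obtain ⟨x, ⟨q, hq, rfl⟩, hxcl⟩ := nonempty_inter_closedPoints (hne.image hU.fromSpec)
    hWopen.isLocallyClosed
  refine ⟨_, hxcl, ?_⟩
  have hqU : hU.fromSpec q ∈ U := by
    show _ ∈ (U : Set X)
    rw [← hU.range_fromSpec]
    exact Set.mem_range_self q
  haveI : q.asIdeal.IsPrime := q.isPrime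
  letI alg : Algebra Γ(X, U) (X.presheaf.stalk (hU.fromSpec q)) :=
    TopCat.Presheaf.algebra_section_stalk X.presheaf ⟨hU.fromSpec q, hqU⟩
  haveI hloc : IsLocalization q.asIdeal.primeCompl (X.presheaf.stalk (hU.fromSpec q)) :=
    hU.isLocalization_stalk' q hqU
  exact Groth.Agent.Lib.Helper29.isCohenMacaulayLocalRing_of_ringEquiv
    (IsLocalization.algEquiv q.asIdeal.primeCompl (Localization.AtPrime q.asIdeal)
      (X.presheaf.stalk (hU.fromSpec q))).toRingEquiv hq

end Groth.Agent.S5385
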