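import Groth.Statements.S5386
import Mathlib
import Groth.Agent.S1349
import Groth.Agent.Lib.Helper14.GroupCM
import Groth.Agent.Lib.Helper41.SplitPrimes

set_option autoImplicit false
universe u
open CategoryTheory CategoryTheory.Limits MonoidalCategory CartesianMonoidalCategory MonObj GrpObj AlgebraicGeometry
open SGA3

namespace Groth.Agent.S5386

open TensorProduct Groth.Agent.Lib.Helper41.SplitPrimes

/-- Part I: a finite free `A`-algebra `C` with a point `Spec C ⟶ G` through `x`. -/
theorem exists_finite_free_point (A : Type u) [CommRing A] [IsArtinianRing A] [IsLocalRing A]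
    (G : Over (Spec (CommRingCat.of A))) [GrpObj G] [Flat G.hom]
    [LocallyOfFiniteType G.hom] (x : G.left) (hx : IsClosed ({x} : Set G.left)) :
    ∃ (C : Type u) (_ : CommRing C) (_ : Algebra A C) (_ : Module.Finite A C)
      (_ : Module.Free A C) (z : Spec (CommRingCat.of C) ⟶ G.left),
      z ≫ G.hom = Spec.map (CommRingCat.ofHom (algebraMap A C)) ∧ x ∈ Set.range z.base := by
  have hnoeth : IsLocallyNoetherian (Spec (CommRingCat.of A)) := inferInstance
  have hlfp : LocallyOfFinitePresentation G.hom :=
    LocallyOfFinitePresentation.iff_locallyOfFiniteType.mpr inferInstance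
  have hcm : MoreMor.IsCMAt G.hom x := by
    refine ⟨Flat.stalkMap G.hom x, ?_⟩
    let s := G.hom x
    let φ := (Spec (CommRingCat.of A)).fromSpecResidueField s
    let _ : GrpObj ((Over.pullback φ).obj G) :=
      Functor.grpObjObj (F := Over.pullback φ) (G := G)
    have hlft : LocallyOfFiniteType ((Over.pullback φ).obj G).hom := by
      show LocallyOfFiniteType (pullback.snd G.hom φ)
      infer_instance
    exact Groth.Agent.Lib.Helper14.isCohenMacaulay_stalk_grp
      ((Spec (CommRingCat.of A)).residueField s) ((Over.pullback φ).obj G) (G.hom.asFiber x)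
  have hcl : IsClosed ({G.hom.asFiber x} : Set ↑(G.hom.fiber (G.hom x))) := by
    have h1 : (G.hom.fiberι (G.hom x)) ⁻¹' {x} = {G.hom.asFiber x} := by
      ext y
      simp only [Set.mem_preimage, Set.mem_singleton_iff]
      constructor
      · intro hy
        apply (G.hom.fiberι (G.hom x)).isEmbedding.injective
        rw [hy, Scheme.Hom.fiberι_asFiber]
      · rintro rfl
        exact Scheme.Hom.fiberι_asFiber _ _
    rw [← h1]
    exact hx.preimage (G.hom.fiberι (G.hom x)).continuous
  obtain ⟨V, Z, i, hreg, hxZ, hflat, hlfpZ, hlqf, huniq⟩ :=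
    Groth.Agent.S1349.result G.hom x hcm hcl
  have hci : IsClosedImmersion i := hreg.1
  let g : Z ⟶ Spec (CommRingCat.of A) := i ≫ V.ι ≫ G.hom
  have hgflat : Flat g := hflat
  have hglqf : LocallyQuasiFinite g := hlqf
  -- the base has a single point
  have hsub : Subsingleton (Spec (CommRingCat.of A)) := by
    have : Subsingleton (PrimeSpectrum A) := by
      constructor
      intro p q
      have hp : p.asIdeal = IsLocalRing.maximalIdeal A :=
        IsLocalRing.eq_maximalIdeal (IsArtinianRing.isMaximal_of_isPrime p.asIdeal)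
      have hq : q.asIdeal = IsLocalRing.maximalIdeal A :=
        IsLocalRing.eq_maximalIdeal (IsArtinianRing.isMaximal_of_isPrime q.asIdeal)
      exact PrimeSpectrum.ext (hp.trans hq.symm)
    exact this
  -- `Z` has a single point
  have hZsub : Subsingleton Z := by
    constructor
    intro a b
    have ha := huniq a (Subsingleton.elim _ _)
    have hb := huniq b (Subsingleton.elim _ _)
    have h1 : V.ι (i a) = V.ι (i b) := ha.trans hb.symm
    exact i.isEmbedding.injective (V.ι.isEmbedding.injective h1)
  have hZcpt : CompactSpace Z := Finite.compactSpace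
  have hqc : QuasiCompact g := (quasiCompact_iff_compactSpace g).mpr hZcpt
  have hart : IsLocallyArtinian (Spec (CommRingCat.of A)) :=
    Scheme.isLocallyArtinianScheme_Spec.mpr ‹IsArtinianRing A›
  have hfin : IsFinite g := IsFinite.of_locallyQuasiFinite g
  have hZaff : IsAffine Z := isAffine_of_isAffineHom g
  let φ : CommRingCat.of A ⟶ Γ(Z, ⊤) := (Scheme.ΓSpecIso (CommRingCat.of A)).inv ≫ g.appTop
  have hbij : Function.Bijective (Scheme.ΓSpecIso (CommRingCat.of A)).inv.hom :=
    ConcreteCategory.bijective_of_isIso (Scheme.ΓSpecIso (CommRingCat.of A)).inv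
  have hφfin : φ.hom.Finite := by
    have h1 : g.appTop.hom.Finite := g.finite_appTop
    have h2 : (Scheme.ΓSpecIso (CommRingCat.of A)).inv.hom.Finite :=
      RingHom.Finite.of_surjective _ hbij.2
    exact h1.comp h2
  have hφflat : φ.hom.Flat := by
    have h1 : g.appTop.hom.Flat := (HasRingHomProperty.iff_of_isAffine (P := @Flat)).mp hgflat
    have h2 : (Scheme.ΓSpecIso (CommRingCat.of A)).inv.hom.Flat :=
      RingHom.Flat.of_bijective hbij
    exact h2.comp h1
  let algC : Algebra A Γ(Z, ⊤) := φ.hom.toAlgebra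
  have hfinC : Module.Finite A Γ(Z, ⊤) := hφfin
  have hflatC : Module.Flat A Γ(Z, ⊤) := hφflat
  have hfreeC : Module.Free A Γ(Z, ⊤) := Module.free_of_flat_of_isLocalRing
  refine ⟨Γ(Z, ⊤), inferInstance, algC, hfinC, hfreeC, Z.isoSpec.inv ≫ i ≫ V.ι, ?_, ?_⟩
  · have h1 := Scheme.isoSpec_inv_naturality g
    rw [Scheme.isoSpec_Spec_inv, ← Spec.map_comp] at h1
    simp only [Category.assoc]
    exact h1.symm
  · obtain ⟨z0, hz0⟩ := hxZ
    refine ⟨Z.isoSpec.hom z0, ?_⟩
    rw [← hz0, ← Scheme.Hom.comp_apply, Iso.hom_inv_id_assoc]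


/-- Let A be a local artinian ring, G an A-group scheme which is flat and locally of finite type over A,
and x a closed point of G. Then there is a local A-algebra A', finite and free as an A-module, such
that every point of G ⊗_A A' lying over x is strictly rational over A': it is the image of the
closed point under some section Spec A' → G ⊗_A A' of the projection. -/
theorem result (A : Type u) [CommRing A] [IsArtinianRing A] [IsLocalRing A] (G : Over (Spec (CommRingCat.of A))) [GrpObj G] [Flat G.hom]
    [LocallyOfFiniteType G.hom] (x : G.left) (hx : IsClosed ({x} : Set G.left)) :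
    ∃ (A' : Type u) (_ : CommRing A') (_ : IsLocalRing A') (_ : Algebra A A') (_ : Module.Finite A A') (_ : Module.Free A A'),
      ∀ x' : ↥(pullback G.hom (Spec.map (CommRingCat.ofHom (algebraMap A A')))),
        (pullback.fst G.hom (Spec.map (CommRingCat.ofHom (algebraMap A A')))).base x' = x →
        ∃ s : Spec (CommRingCat.of A') ⟶ pullback G.hom (Spec.map (CommRingCat.ofHom (algebraMap A A'))),
          s ≫ pullback.snd G.hom (Spec.map (CommRingCat.ofHom (algebraMap A A'))) = 𝟙 _ ∧ x' ∈ Set.range s.base := by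
  obtain ⟨C, _, _, _, _, z, hz, hxz⟩ := exists_finite_free_point A G x hx
  obtain ⟨B, _, _, _, _, _, hB⟩ := exists_split A C
  refine ⟨B, inferInstance, inferInstance, inferInstance, inferInstance, inferInstance, ?_⟩
  generalize hbB' : Spec.map (CommRingCat.ofHom (algebraMap A B)) = bB
  have hbB := hbB'.symm
  intro x' hx'
  obtain ⟨gC, hgC⟩ : ∃ b, b = Spec.map (CommRingCat.ofHom (algebraMap A C)) := ⟨_, rfl⟩
  rw [← hgC] at hz
  let tB : Spec (CommRingCat.of (B ⊗[A] C)) ⟶ Spec (CommRingCat.of B) :=
    Spec.map (CommRingCat.ofHom Algebra.TensorProduct.includeLeftRingHom)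
  let tC : Spec (CommRingCat.of (B ⊗[A] C)) ⟶ Spec (CommRingCat.of C) :=
    Spec.map (CommRingCat.ofHom Algebra.TensorProduct.includeRight.toRingHom)
  have hT : IsPullback tB tC bB gC := by
    rw [hbB, hgC]
    exact isPullback_SpecMap_of_isPushout _ _ _ _ (CommRingCat.isPushout_tensorProduct A B C)
  have hw : (tC ≫ z) ≫ G.hom = tB ≫ bB := by
    rw [Category.assoc, hz]
    exact hT.w.symm
  let t : Spec (CommRingCat.of (B ⊗[A] C)) ⟶ pullback G.hom bB := pullback.lift (tC ≫ z) tB hw
  have hsq : IsPullback t tC (pullback.fst G.hom bB) z := by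
    refine IsPullback.of_right (h₁₂ := pullback.snd G.hom bB) (v₁₃ := bB) (h₂₂ := G.hom) ?_ ?_
      (IsPullback.of_hasPullback G.hom bB).flip
    · rw [pullback.lift_snd, hz]
      exact hT
    · exact pullback.lift_fst _ _ _
  obtain ⟨c0, hc0⟩ := hxz
  obtain ⟨p, hp1, hp2⟩ := Scheme.exists_preimage_of_isPullback hsq x' c0
    (hx'.trans hc0.symm)
  obtain ⟨h, hh⟩ := hB p
  have hcomp : CommRingCat.ofHom (algebraMap A C) ≫ CommRingCat.ofHom h.toRingHom =
      CommRingCat.ofHom (algebraMap A B) := by
    ext a
    exact h.commutes a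
  have hw2 : (Spec.map (CommRingCat.ofHom h.toRingHom) ≫ z) ≫ G.hom =
      𝟙 (Spec (CommRingCat.of B)) ≫ bB := by
    rw [Category.assoc, hz, Category.id_comp, hgC, hbB, ← Spec.map_comp, hcomp]
  refine ⟨pullback.lift (Spec.map (CommRingCat.ofHom h.toRingHom) ≫ z) (𝟙 _) hw2,
    pullback.lift_snd _ _ _, ?_⟩
  have hs : pullback.lift (Spec.map (CommRingCat.ofHom h.toRingHom) ≫ z) (𝟙 _) hw2 =
      Spec.map (CommRingCat.ofHom (ev A C B h).toRingHom) ≫ t := by
    apply pullback.hom_ext
    · rw [pullback.lift_fst, Category.assoc, pullback.lift_fst, ← Category.assoc]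
      congr 1
      rw [← Spec.map_comp]
      congr 1
      ext c
      simp
    · rw [pullback.lift_snd, Category.assoc, pullback.lift_snd, ← Spec.map_comp, ← Spec.map_id]
      congr 1
      ext b
      simp
  refine ⟨IsLocalRing.closedPoint B, ?_⟩
  rw [hs]
  change t.base ((Spec.map (CommRingCat.ofHom (ev A C B h).toRingHom)).base
    (IsLocalRing.closedPoint B)) = x'
  rw [← hp1]
  congr 1
  apply PrimeSpectrum.ext
  rw [hh]
  rfl

end Groth.Agent.S5386
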