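import Groth.Statements.S5387

set_option autoImplicit false
universe u
open CategoryTheory CategoryTheory.Limits MonoidalCategory CartesianMonoidalCategory MonObj GrpObj AlgebraicGeometry
open SGA3

namespace Groth.Agent.S5387

/-- Let k be an algebraically closed field, G a group scheme locally of finite type over k and x a
closed point of G. Then the local ring of G at x is isomorphic to the local ring of G at the unit
point (an isomorphism is induced by a translation; this row asserts the existence of an isomorphism
of rings). -/
theorem result (k : Type u) [Field k] [IsAlgClosed k] (G : Over (Spec (CommRingCat.of k))) [GrpObj G]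
    [LocallyOfFiniteType G.hom] (pt : ↥(𝟙_ (Over (Spec (CommRingCat.of k)))).left) (x : G.left) (hx : IsClosed ({x} : Set G.left)) :
    Nonempty (G.left.presheaf.stalk (η[G].left.base pt) ≅ G.left.presheaf.stalk x) := by
  let e : G.left := η[G].left.base pt
  let x' : 𝟙_ (Over (Spec (CommRingCat.of k))) ⟶ G :=
    Over.homMk (pointOfClosedPoint G.hom x hx) (pointOfClosedPoint_comp G.hom x hx)
  let α : G ≅ G := GrpObj.mulRight x'
  have hα : η[G] ≫ α.hom = x' := by
    have h0 : lift η[G] x' ≫ μ[G] = x' := by
      have := MonObj.lift_comp_one_left (B := G) (𝟙 (𝟙_ (Over (Spec (CommRingCat.of k))))) x'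
      rwa [Category.id_comp] at this
    simpa [α, GrpObj.mulRight, comp_lift_assoc] using h0
  let β : G.left ⟶ G.left := α.hom.left
  have hβ : IsIso β := inferInstanceAs (IsIso ((Over.forget _).map α.hom))
  have hβe : β e = x := by
    have h1 : η[G].left ≫ β = x'.left := by
      show (η[G] ≫ α.hom).left = x'.left
      rw [hα]
    show β (η[G].left pt) = x
    rw [← Scheme.Hom.comp_apply, h1]
    exact pointOfClosedPoint_apply G.hom x hx pt
  have key : ∀ y : G.left, β e = y →
      Nonempty (G.left.presheaf.stalk e ≅ G.left.presheaf.stalk y) := by
    rintro y rfl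
    exact ⟨(asIso (β.stalkMap e)).symm⟩
  exact key x hβe

end Groth.Agent.S5387
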