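import Groth.Statements.S5388
import Groth.Agent.Lib.Helper14.ReducedNhd
import Groth.Agent.Lib.Helper14.GroupFibreLoci
import Groth.Agent.Lib.Helper50.StalkBC

set_option autoImplicit false
universe u
open CategoryTheory CategoryTheory.Limits MonoidalCategory CartesianMonoidalCategory MonObj GrpObj AlgebraicGeometry
open SGA3

namespace Groth.Agent.S5388

/-- Let G be a group scheme locally of finite type over a field k, e its unit point and K a perfect
extension field of k. If K ⊗_k O_{G,e} is a reduced ring, then G is smooth over k. (The published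
statement is for a group flat and locally of finite type over a local artinian ring, with K the
perfect closure of the residue field; this row is the case of a base field, with K any perfect
extension.) -/
theorem result (k : Type u) [Field k] (G : Over (Spec (CommRingCat.of k))) [GrpObj G]
    [LocallyOfFiniteType G.hom] (pt : ↥(𝟙_ (Over (Spec (CommRingCat.of k)))).left) (K : Type u) [Field K] [Algebra k K] [PerfectField K] :
    letI := ((Scheme.ΓSpecIso (CommRingCat.of k)).inv ≫ G.hom.appTop ≫ G.left.presheaf.germ ⊤ (η[G].left.base pt) trivial).hom.toAlgebra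
    IsReduced (TensorProduct k K (G.left.presheaf.stalk (η[G].left.base pt))) → Smooth G.hom := by
  classical
  intro hred
  set e : G.left := η[G].left.base pt with he
  let g : Spec (CommRingCat.of K) ⟶ Spec (CommRingCat.of k) :=
    Spec.map (CommRingCat.ofHom (algebraMap k K))
  let φ : k →+* G.left.presheaf.stalk e := ((Scheme.ΓSpecIso (CommRingCat.of k)).inv ≫
    G.hom.appTop ≫ G.left.presheaf.germ ⊤ e trivial).hom
  have hφ : Spec.map (CommRingCat.ofHom φ) = G.left.fromSpecStalk e ≫ G.hom := by
    have h1 : G.hom = G.left.toSpecΓ ≫ Spec.map G.hom.appTop ≫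
        Spec.map (Scheme.ΓSpecIso (CommRingCat.of k)).inv := by
      rw [← Category.assoc, ← Scheme.toSpecΓ_naturality, Category.assoc, ← SpecMap_ΓSpecIso_hom,
        ← Spec.map_comp, Iso.inv_hom_id, Spec.map_id, Category.comp_id]
    conv_rhs => rw [h1]
    rw [Scheme.fromSpecStalk_toSpecΓ_assoc, ← Spec.map_comp, ← Spec.map_comp, Category.assoc]
    rfl
  have hsubk : Subsingleton (Spec (CommRingCat.of k)) :=
    inferInstanceAs (Subsingleton (PrimeSpectrum k))
  have hgsurj : Surjective g :=
    ⟨fun y => ⟨IsLocalRing.closedPoint K, Subsingleton.elim _ _⟩⟩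
  let Y := pullback G.hom g
  let p : Y ⟶ G.left := pullback.fst G.hom g
  let q : Y ⟶ Spec (CommRingCat.of K) := pullback.snd G.hom g
  obtain ⟨x', hx'⟩ := p.surjective e
  -- the local ring at `x'` is reduced
  have hstalk : _root_.IsReduced (Y.presheaf.stalk x') := by
    let _ := φ.toAlgebra
    obtain ⟨q₀, ⟨eq₀⟩⟩ := (Groth.Agent.Lib.Helper50.exists_stalk_bc G.hom e φ hφ).1 x' hx'
    have hred' : _root_.IsReduced (TensorProduct k (G.left.presheaf.stalk e) K) :=
      isReduced_of_injective (Algebra.TensorProduct.comm k (G.left.presheaf.stalk e) K).toRingHom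
        (Algebra.TensorProduct.comm k (G.left.presheaf.stalk e) K).injective
    have : _root_.IsReduced (Localization.AtPrime q₀.asIdeal) := inferInstance
    exact isReduced_of_injective eq₀.toRingHom eq₀.injective
  have hqlft : LocallyOfFiniteType q := inferInstance
  have hYN : IsLocallyNoetherian Y := LocallyOfFiniteType.isLocallyNoetherian q
  obtain ⟨V, hx'V, hVred⟩ := Groth.Agent.Lib.Helper14.exists_isReduced_nhd x' hstalk
  have hqlfp : LocallyOfFinitePresentation q :=
    LocallyOfFinitePresentation.iff_locallyOfFiniteType.mpr hqlft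
  have hGlfp : LocallyOfFinitePresentation G.hom :=
    LocallyOfFinitePresentation.iff_locallyOfFiniteType.mpr inferInstance
  have hne : Nonempty (V : Scheme.{u}) := ⟨⟨x', hx'V⟩⟩
  obtain ⟨v, hv⟩ := ((V.ι ≫ q).dense_smoothLocus_of_perfectField).nonempty
  have hv' : V.ι v ∈ q.smoothLocus := by
    rw [← Scheme.Hom.preimage_smoothLocus_eq] at hv
    exact hv
  have hflatg : Flat g := inferInstance
  have hx₀ : p (V.ι v) ∈ G.hom.smoothLocus :=
    Groth.Agent.Lib.Helper14.mem_smoothLocus_fst_of_isPullback
      (IsPullback.of_hasPullback G.hom g) (V.ι v) (Flat.stalkMap g _) hv'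
  have hGflat : Flat G.hom := inferInstance
  rw [← Scheme.Hom.smoothLocus_eq_top_iff, eq_top_iff]
  intro x _
  have hlfp' : LocallyOfFinitePresentation (toUnit G).left := hGlfp
  have h1 := Groth.Agent.Lib.Helper14.mem_smoothLocus_iff_unit_mem (toUnit G) x
  have h2 := Groth.Agent.Lib.Helper14.mem_smoothLocus_iff_unit_mem (toUnit G) (p (V.ι v))
  have h3 : G.hom x = G.hom (p (V.ι v)) := Subsingleton.elim _ _
  rw [h3] at h1
  exact h1.mpr (h2.mp hx₀)

end Groth.Agent.S5388
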