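import Groth.Statements.S5389
import Groth.Agent.Lib.Helper14.GroupTargetLocus

set_option autoImplicit false
universe u
open CategoryTheory CategoryTheory.Limits MonoidalCategory CartesianMonoidalCategory MonObj GrpObj AlgebraicGeometry
open SGA3

namespace Groth.Agent.S5389

open Groth.Agent.Lib.Helper14

/-- Let P be a property of morphisms of schemes which is local on the target for the fpqc topology
(stable under base change, Zariski-local on the target, and descending along flat surjective
quasi-compact morphisms). Let u : G → H be a homomorphism of S-group schemes with G flat and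
universally open over S, W the largest open subscheme of H over which the restriction of u has P,
and V = u⁻¹(W). Then the image U of V in S is open and V is an open subgroup scheme of G over U: V
contains the unit point of every fibre of G that it meets, V is stable under the inversion of G, and
the product of a point of G ×_S G whose two projections lie in V lies in V. -/
theorem result (P : MorphismProperty Scheme.{u}) [P.IsStableUnderBaseChange] [IsZariskiLocalAtTarget P]
    [P.DescendsAlong (@Flat ⊓ @Surjective ⊓ @QuasiCompact)]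
    (S : Scheme.{u}) (G H : Over S) [GrpObj G] [GrpObj H] (u : G ⟶ H) [IsMonHom u] [Flat G.hom] [UniversallyOpen G.hom]
    (W : H.left.Opens) (hW : P (u.left ∣_ W)) (hmax : ∀ W' : H.left.Opens, P (u.left ∣_ W') → W' ≤ W) :
    letI V : G.left.Opens := u.left ⁻¹ᵁ W
    IsOpen (G.hom.base '' (V : Set G.left)) ∧
    (∀ g ∈ V, ∀ p : ↥(𝟙_ (Over S)).left, (𝟙_ (Over S)).hom.base p = G.hom.base g → η[G].left.base p ∈ V) ∧
    (∀ g ∈ V, ι[G].left.base g ∈ V) ∧
    (∀ z : ↥(G ⊗ G).left, (fst G G).left.base z ∈ V → (snd G G).left.base z ∈ V → μ[G].left.base z ∈ V) := by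
  let V : G.left.Opens := u.left ⁻¹ᵁ W
  have hmem : ∀ y, y ∈ W ↔ y ∈ targetLocus P u.left :=
    fun y => (mem_targetLocus_iff_of_largest P W hW hmax y).symm
  have key : ∀ (a : G ⟶ G) (g : G.left), u.left g ∈ W → u.left ((a * 𝟙 G).left g) ∈ W := by
    intro a g hg
    have e0 : (snd G G).left ((lift a (𝟙 G)).left g) = g := by
      have e0 : (lift a (𝟙 G)).left ≫ (snd G G).left = 𝟙 G.left := by
        show (lift a (𝟙 G) ≫ snd G G).left = (𝟙 G : G ⟶ G).left
        rw [lift_snd]
      rw [← Scheme.Hom.comp_apply, e0]
      rfl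
    have e1 : μ[G].left ((lift a (𝟙 G)).left g) = (a * 𝟙 G).left g := by
      have e1 : (lift a (𝟙 G)).left ≫ μ[G].left = (a * 𝟙 G).left := by
        show (lift a (𝟙 G) ≫ μ[G]).left = (a * 𝟙 G).left
        rw [Hom.mul_def]
      rw [← Scheme.Hom.comp_apply, e1]
    have h := mul_mem_preimage_targetLocus P u ((lift a (𝟙 G)).left g) (by
      rw [e0]
      exact (hmem _).mp hg)
    rw [e1] at h
    exact (hmem _).mpr h
  refine ⟨G.hom.isOpenMap _ V.2, ?_, ?_, ?_⟩
  · intro g hg p hp
    have h := key ((𝟙 G)⁻¹) g hg
    rw [inv_mul_cancel] at h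
    have e1 : (1 : G ⟶ G).left = (toUnit G).left ≫ η[G].left := by
      show (1 : G ⟶ G).left = (toUnit G ≫ η[G]).left
      rw [Hom.one_def]
    have e2 : (toUnit G).left g = p := by
      have hw : (toUnit G).left ≫ (𝟙_ (Over S)).hom = G.hom := Over.w (toUnit G)
      have hinj : Function.Injective (𝟙_ (Over S)).hom.base := by
        have : IsIso (𝟙_ (Over S)).hom := by
          rw [Over.tensorUnit_hom]; exact IsIso.id S
        exact (𝟙_ (Over S)).hom.isOpenEmbedding.injective
      apply hinj
      rw [hp, ← hw]
      rfl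
    rw [e1, Scheme.Hom.comp_apply, e2] at h
    exact h
  · intro g hg
    have h := key ((𝟙 G)⁻¹ * (𝟙 G)⁻¹) g hg
    rw [inv_mul_cancel_right, Hom.inv_def, Category.id_comp] at h
    exact h
  · intro z _ hz2
    have h := mul_mem_preimage_targetLocus P u z ((hmem _).mp hz2)
    exact (hmem _).mpr h

end Groth.Agent.S5389
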