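import Groth.Statements.S5394
import Groth.Agent.Lib.Helper41.FibreDenseMul
import Groth.Agent.Lib.Helper41.ClosureSubgroup2
import Groth.Agent.Lib.Helper14.GroupFibreLoci
import Groth.Agent.Lib.Helper16.FibreSurj

set_option autoImplicit false
universe u
open CategoryTheory CategoryTheory.Limits MonoidalCategory CartesianMonoidalCategory MonObj GrpObj AlgebraicGeometry
open SGA3

namespace Groth.Agent.S5394

/-- Let G be an S-group scheme which is flat and locally of finite presentation over S and f : X → G a
morphism of S-schemes with X locally of finite presentation over S. Suppose that for every point s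
of S and every maximal point g of the fibre G_s (generic point of an irreducible component) there is
a point x of X with f(x) = g at which f is flat. Let V be the open subscheme of X where f is flat.
Then the morphism V ×_S V → G, (x, y) ↦ f(x)·f(y), is flat, locally of finite presentation and
surjective; in particular X ×_S X → G, (x, y) ↦ f(x)·f(y), is covering for the fppf topology. (The
published statement does not assume G flat over S and asserts only the covering property; this row
assumes G flat over S, as the flatness step of the printed proof does, and concludes the flat,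
locally finitely presented, surjective form that proof establishes. Without flatness of G the
flatness conclusion fails, e.g. for the identity of the closed subgroup tx = 0 of the additive group
over k[t].) -/
theorem result (S : Scheme.{u}) (G X : Over S) [GrpObj G] [LocallyOfFinitePresentation G.hom] [Flat G.hom]
    [LocallyOfFinitePresentation X.hom] (f : X ⟶ G)
    (hf : ∀ (s : S) (g : ↥(G.hom.base ⁻¹' {s})), closure {g} ∈ irreducibleComponents ↥(G.hom.base ⁻¹' {s}) →
      ∃ x : X.left, f.left.base x = g.1 ∧ (f.left.stalkMap x).hom.Flat)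
    (V : X.left.Opens) (hV : (V : Set X.left) = {x : X.left | (f.left.stalkMap x).hom.Flat}) :
    letI fV : Over.mk (V.ι ≫ X.hom) ⟶ G := Over.homMk (V.ι ≫ f.left) ((Category.assoc _ _ _).trans (congrArg (V.ι ≫ ·) (Over.w f)))
    Flat ((fV ⊗ₘ fV) ≫ μ[G]).left ∧ LocallyOfFinitePresentation ((fV ⊗ₘ fV) ≫ μ[G]).left ∧
      Surjective ((fV ⊗ₘ fV) ≫ μ[G]).left := by
  have hw : (V.ι ≫ f.left) ≫ G.hom = V.ι ≫ X.hom :=
    (Category.assoc _ _ _).trans (congrArg (V.ι ≫ ·) (Over.w f))
  set fV : Over.mk (V.ι ≫ X.hom) ⟶ G := Over.homMk (V.ι ≫ f.left) hw with hfV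
  have hfVl : fV.left = V.ι ≫ f.left := rfl
  -- `fV` is flat
  have hflat : Flat fV.left := by
    rw [hfVl, Flat.iff_flat_stalkMap]
    intro x
    rw [Groth.Agent.Lib.Helper14.stalkMap_iso_comp_iff RingHom.Flat.respectsIso]
    have hx : (V.ι x) ∈ (V : Set X.left) := x.2
    rw [hV] at hx
    exact hx
  -- `fV` is locally of finite presentation
  have hlfpf : LocallyOfFinitePresentation f.left := by
    have h1 : LocallyOfFinitePresentation (f.left ≫ G.hom) := by
      rw [Over.w f]; infer_instance
    exact Groth.Agent.Lib.Helper16.locallyOfFinitePresentation_of_comp f.left G.hom h1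
      inferInstance
  have hlfp : LocallyOfFinitePresentation fV.left := by
    rw [hfVl]; infer_instance
  refine ⟨?_, ?_, ?_⟩
  · exact Groth.Agent.Lib.Helper41.FibreDenseMul.mulHom_left_P @Flat fV fV inferInstance hflat hflat
  · exact Groth.Agent.Lib.Helper41.FibreDenseMul.mulHom_left_P @LocallyOfFinitePresentation fV fV
      inferInstance hlfp hlfp
  · -- surjectivity
    have hopen : IsOpenMap fV.left := fV.left.isOpenMap
    let W : G.left.Opens := ⟨Set.range fV.left, hopen.isOpen_range⟩
    have hWmax : ∀ (s : S) (g : ↥(G.hom.base ⁻¹' {s})),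
        closure {g} ∈ irreducibleComponents ↥(G.hom.base ⁻¹' {s}) → g.1 ∈ W := by
      intro s g hg
      obtain ⟨x, hx, hxfl⟩ := hf s g hg
      have hxV : x ∈ (V : Set X.left) := by rw [hV]; exact hxfl
      refine ⟨⟨x, hxV⟩, ?_⟩
      change f.left (V.ι ⟨x, hxV⟩) = g.1
      exact hx
    constructor
    intro g
    obtain ⟨z, hz1, hz2, hz3⟩ :=
      Groth.Agent.Lib.Helper41.FibreDenseMul.exists_mul_eq_of_fibrewise_dense G W hWmax g
    obtain ⟨t, ht⟩ := hz1
    obtain ⟨t', ht'⟩ := hz2
    obtain ⟨w', hw'⟩ := Groth.Agent.Lib.Helper41.ClosureSubgroup2.exists_preimage_tensorHom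
      fV fV z t t' ht ht'
    refine ⟨w', ?_⟩
    rw [Over.comp_left, Scheme.Hom.comp_apply]
    have : (fV ⊗ₘ fV).left w' = z := hw'
    rw [this]
    exact hz3

end Groth.Agent.S5394
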