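import Groth.Statements.S5395

set_option autoImplicit false
universe u
open CategoryTheory CategoryTheory.Limits MonoidalCategory CartesianMonoidalCategory MonObj GrpObj AlgebraicGeometry
open SGA3

namespace Groth.Agent.S5395

theorem exists_isLocallyClosed_of_isConstructible {X : Type*} [TopologicalSpace X] {s : Set X}
    (hs : Topology.IsConstructible s) :
    (∀ x ∈ s, ∃ L, IsLocallyClosed L ∧ x ∈ L ∧ L ⊆ s) ∧
      (∀ x ∈ sᶜ, ∃ L, IsLocallyClosed L ∧ x ∈ L ∧ L ⊆ sᶜ) := by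
  induction hs using Topology.IsConstructible.empty_union_induction with
  | open_retrocompact U hUo hUc =>
    exact ⟨fun x hx => ⟨U, hUo.isLocallyClosed, hx, subset_rfl⟩,
      fun x hx => ⟨Uᶜ, hUo.isClosed_compl.isLocallyClosed, hx, subset_rfl⟩⟩
  | union s hs t ht ihs iht =>
    refine ⟨?_, ?_⟩
    · rintro x (hx | hx)
      · obtain ⟨L, hL, hxL, hLs⟩ := ihs.1 x hx
        exact ⟨L, hL, hxL, hLs.trans Set.subset_union_left⟩
      · obtain ⟨L, hL, hxL, hLs⟩ := iht.1 x hx
        exact ⟨L, hL, hxL, hLs.trans Set.subset_union_right⟩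
    · intro x hx
      rw [Set.compl_union] at hx ⊢
      obtain ⟨L, hL, hxL, hLs⟩ := ihs.2 x hx.1
      obtain ⟨M, hM, hxM, hMs⟩ := iht.2 x hx.2
      exact ⟨L ∩ M, hL.inter hM, ⟨hxL, hxM⟩, Set.inter_subset_inter hLs hMs⟩
  | compl s hs ih =>
    exact ⟨ih.2, by rw [compl_compl]; exact ih.1⟩

theorem exists_isLocallyClosed_of_isIndConstructible {X : Type*} [TopologicalSpace X] {A : Set X}
    (hA : ProCons.IsIndConstructible A) {a : X} (ha : a ∈ A) :
    ∃ L, IsLocallyClosed L ∧ a ∈ L ∧ L ⊆ A := by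
  obtain ⟨U, hUo, haU, S, hS, hE⟩ := hA a
  have h1 : (⟨a, haU⟩ : U) ∈ (Subtype.val ⁻¹' A : Set U) := ha
  rw [hE] at h1
  obtain ⟨T, hTS, haT⟩ := h1
  obtain ⟨V, hVn, hVo, hVc⟩ := hS T hTS ⟨a, haU⟩
  have haV : (⟨a, haU⟩ : U) ∈ V := mem_of_mem_nhds hVn
  obtain ⟨L, hL, haL, hLs⟩ :=
    (exists_isLocallyClosed_of_isConstructible hVc).1 ⟨⟨a, haU⟩, haV⟩ haT
  refine ⟨Subtype.val '' (Subtype.val '' L), ?_, ?_, ?_⟩
  · refine IsLocallyClosed.image ?_ Topology.IsInducing.subtypeVal ?_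
    · refine IsLocallyClosed.image hL Topology.IsInducing.subtypeVal ?_
      rw [Subtype.range_coe]
      exact hVo.isLocallyClosed
    · rw [Subtype.range_coe]
      exact hUo.isLocallyClosed
  · exact ⟨⟨a, haU⟩, ⟨⟨⟨a, haU⟩, haV⟩, haL, rfl⟩, rfl⟩
  · rintro _ ⟨_, ⟨y, hy, rfl⟩, rfl⟩
    have h2 : (y : U) ∈ ⋃₀ S := ⟨T, hTS, hLs hy⟩
    rw [← hE] at h2
    exact h2

/-- Let k be an algebraically closed field, G a group scheme locally of finite type over k, and A, B two
ind-constructible subsets of G. Let A·B be the image under the multiplication of the set of points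
of G ×_k G whose two projections lie in A and B. Then every closed point z of G lying in A·B is the
product of a closed point of G ×_k G whose two projections lie in A and B (and are then closed
points): the rational points of A·B are the products of rational points of A and of B. -/
theorem result (k : Type u) [Field k] [IsAlgClosed k] (G : Over (Spec (CommRingCat.of k))) [GrpObj G]
    [LocallyOfFiniteType G.hom] (A B : Set G.left) (hA : ProCons.IsIndConstructible A) (hB : ProCons.IsIndConstructible B)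
    (z : G.left) (hz : IsClosed ({z} : Set G.left))
    (hzAB : z ∈ μ[G].left.base '' {w : ↥(G ⊗ G).left | (fst G G).left.base w ∈ A ∧ (snd G G).left.base w ∈ B}) :
    ∃ w : ↥(G ⊗ G).left, IsClosed ({w} : Set ↥(G ⊗ G).left) ∧ (fst G G).left.base w ∈ A ∧ (snd G G).left.base w ∈ B ∧
      μ[G].left.base w = z := by
  have hlft : LocallyOfFiniteType (G ⊗ G).hom := by dsimp; infer_instance
  have : JacobsonSpace (G ⊗ G).left :=
    LocallyOfFiniteType.jacobsonSpace (Y := Spec _) (G ⊗ G).hom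
  obtain ⟨w₀, ⟨hw₀A, hw₀B⟩, hw₀z⟩ := hzAB
  obtain ⟨LA, hLA, haLA, hLAA⟩ := exists_isLocallyClosed_of_isIndConstructible hA hw₀A
  obtain ⟨LB, hLB, haLB, hLBB⟩ := exists_isLocallyClosed_of_isIndConstructible hB hw₀B
  have hZ : IsLocallyClosed ((fst G G).left.base ⁻¹' LA ∩ (snd G G).left.base ⁻¹' LB ∩
      μ[G].left.base ⁻¹' {z}) :=
    ((hLA.preimage (fst G G).left.base.hom.continuous).inter
      (hLB.preimage (snd G G).left.base.hom.continuous)).inter
      (hz.preimage μ[G].left.base.hom.continuous).isLocallyClosed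
  obtain ⟨w, ⟨⟨hwA, hwB⟩, hwz⟩, hwc⟩ :=
    nonempty_inter_closedPoints (Z := (fst G G).left.base ⁻¹' LA ∩ (snd G G).left.base ⁻¹' LB ∩
      μ[G].left.base ⁻¹' {z}) ⟨w₀, ⟨haLA, haLB⟩, hw₀z⟩ hZ
  exact ⟨w, hwc, hLAA hwA, hLBB hwB, hwz⟩

end Groth.Agent.S5395
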