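import Groth.Statements.S5403
import Mathlib
import Groth.Agent.Lib.Helper70.HomogE

set_option autoImplicit false
universe u
open CategoryTheory CategoryTheory.Limits MonoidalCategory CartesianMonoidalCategory MonObj GrpObj AlgebraicGeometry
open SGA3

namespace Groth.Agent.S5403

/-- Let G be a group scheme over a field k (not assumed of finite type) acting on a quasi-separated
k-scheme X so that G ×_k X → X ×_k X, (g, x) ↦ (gx, x), is surjective, and let x be a k-rational
point of X and C the connected component of X containing x. Then the orbit morphism g ↦ g·x maps the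
irreducible component of G containing the unit point (the underlying set of the neutral component
G⁰) onto C, and for every field extension K of k the inverse image of C in X ⊗_k K is irreducible. -/
theorem result (k : Type u) [Field k] (G X : Over (Spec (CommRingCat.of k)))
    [GrpObj G] [QuasiSeparatedSpace X.left] (a : AlgGrp.Action G X) (hΦ : Surjective (lift a.act (snd G X)).left)
    (x : 𝟙_ (Over (Spec (CommRingCat.of k))) ⟶ X) (pt : ↥(𝟙_ (Over (Spec (CommRingCat.of k)))).left)
    (C0 : Set G.left) (hC0 : C0 ∈ irreducibleComponents ↥G.left) (he : η[G].left.base pt ∈ C0) :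
    (a.orbitMap x).left.base '' C0 = connectedComponent (x.left.base pt) ∧
    ∀ (K : Type u) [Field K] [Algebra k K],
      IsIrreducible ((pullback.fst X.hom (Spec.map (CommRingCat.ofHom (algebraMap k K)))).base ⁻¹' connectedComponent (x.left.base pt)) := by
  have hpt : pt = Groth.Agent.Lib.Helper70.HomogE.kpt k :=
    @Subsingleton.elim (Spec (CommRingCat.of k)) inferInstance _ _
  have hC : C0 = Groth.Agent.Lib.Helper70.GrpConnA.C0 G :=
    Groth.Agent.Lib.Helper70.GrpConnA.eq_C0_of_mem G hC0 (by rw [hpt] at he; exact he)
  subst hC
  have hcc : connectedComponent (x.left.base pt) =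
      irreducibleComponent (x.left (Groth.Agent.Lib.Helper70.HomogE.kpt k)) := by
    rw [hpt]
    exact Groth.Agent.Lib.Helper70.GrpConnB.connectedComponent_eq_irreducibleComponent
      (X := X.left) (Groth.Agent.Lib.Helper70.HomogC.uniqueComp a hΦ)
      (fun U hU => by
        have : IsAffine U := hU
        have : QuasiCompact U.ι := inferInstance
        exact Groth.Agent.Lib.Helper70.GrpConnB.isClopen_W a.act a.one_act
          (Groth.Agent.Lib.Helper70.HomogC.hasGenLift a hΦ) U) _
  rw [hcc]
  exact ⟨Groth.Agent.Lib.Helper70.HomogE.orbitMap_image_C0 a hΦ x,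
    fun K _ _ => Groth.Agent.Lib.Helper70.HomogE.isIrreducible_preimage_fst a hΦ x K⟩

end Groth.Agent.S5403
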