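import Groth.Statements.S5427
import Groth.Agent.Lib.Helper43.DSMap

set_option autoImplicit false
universe u
open CategoryTheory MonoidalCategory CartesianMonoidalCategory MonObj GrpObj AlgebraicGeometry CategoryTheory.Limits
open Red

namespace Groth.Agent.S5427

lemma exists_surj_zmod (M : Type) [AddCommGroup M] [AddGroup.FG M] [Nontrivial M] :
    ∃ (r : ℕ) (_ : r.Prime) (φ : M →+ ZMod r), Function.Surjective φ := by
  have hfin : Module.Finite ℤ M := Module.Finite.iff_addGroup_fg.mpr inferInstance
  obtain h | ⟨N, hN, -⟩ := IsCoatomic.eq_top_or_exists_le_coatom (⊥ : Submodule ℤ M)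
  · exact absurd h bot_ne_top
  have hs : IsSimpleModule ℤ (M ⧸ N) := isSimpleModule_iff_isCoatom.mpr hN
  obtain ⟨I, hI, ⟨e⟩⟩ := isSimpleModule_iff_quot_maximal.mp hs
  obtain ⟨g, rfl⟩ : ∃ g : ℤ, I = Ideal.span {g} := ⟨_, (Submodule.IsPrincipal.span_singleton_generator I).symm⟩
  have hg0 : g ≠ 0 := by
    rintro rfl
    have h2 : Ideal.span {(2 : ℤ)} ≠ ⊤ := by
      rw [Ne, Ideal.span_singleton_eq_top]
      exact Int.isUnit_iff.not.mpr (by norm_num)
    have h3 := hI.eq_of_le h2 (by simp)
    have h4 : (2 : ℤ) ∈ Ideal.span {(0 : ℤ)} := by rw [h3]; exact Ideal.mem_span_singleton_self 2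
    simp at h4
  have hp : Prime g := (Ideal.span_singleton_prime hg0).mp hI.isPrime
  refine ⟨g.natAbs, Int.prime_iff_natAbs_prime.mp hp, ?_, ?_⟩
  · exact ((Int.quotientSpanEquivZMod g).toAddMonoidHom.comp e.toLinearMap.toAddMonoidHom).comp
      (N.mkQ).toAddMonoidHom
  · intro z
    obtain ⟨y, hy⟩ := (Int.quotientSpanEquivZMod g).surjective z
    obtain ⟨x, hx⟩ := e.surjective y
    obtain ⟨m, hm⟩ := N.mkQ_surjective x
    exact ⟨m, by simp [hm, hx, hy]⟩

lemma isClosedImmersion_pullback_map {S B : Scheme.{u}} (f : S ⟶ B) {X Y : Over B} (g : X ⟶ Y)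
    [IsClosedImmersion g.left] : IsClosedImmersion ((Over.pullback f).map g).left := by
  have hbig : IsPullback (((Over.pullback f).map g).left ≫ pullback.snd Y.hom f) (pullback.fst X.hom f) f
      (g.left ≫ Y.hom) := by
    have h1 : ((Over.pullback f).map g).left ≫ pullback.snd Y.hom f = pullback.snd X.hom f := by
      exact pullback.lift_snd _ _ _
    rw [h1, Over.w]
    exact (IsPullback.of_hasPullback X.hom f).flip
  have hsq := IsPullback.of_right hbig (pullback.lift_fst _ _ _)
    (IsPullback.of_hasPullback Y.hom f).flip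
  exact MorphismProperty.of_isPullback (P := @IsClosedImmersion) hsq.flip inferInstance


/-- Let S be a scheme and G = D_S(M) a diagonalizable S-group of finite type, M a non-trivial finitely
generated commutative group. Then there are a prime number r and a closed subgroup of G isomorphic
to (μ_r)_S: a homomorphism of S-groups D_S(ℤ/r) → D_S(M) which is a closed immersion. -/
theorem result (S : Scheme.{u}) (M : Type) [AddCommGroup M] [AddGroup.FG M] [Nontrivial M] :
    ∃ (r : ℕ) (_ : r.Prime) (j : Red.DS S (ZMod r) ⟶ Red.DS S M), IsMonHom j ∧ IsClosedImmersion j.left := by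
  obtain ⟨r, hr, φ, hφ⟩ := exists_surj_zmod M
  refine ⟨r, hr, Red.DSmap S φ, Groth.Agent.Lib.Helper43.isMonHom_DSmap φ, ?_⟩
  unfold Red.DSmap
  have : IsClosedImmersion (Red.diagMap (ULift.{u} ℤ) φ).left := by
    unfold Red.diagMap
    apply IsClosedImmersion.spec_of_surjective
    intro x
    have hsurj : Function.Surjective (AddMonoidHom.toMultiplicative φ) := hφ
    obtain ⟨y, hy⟩ := Finsupp.mapDomain_surjective (M := ULift.{u} ℤ) hsurj x.coeff
    refine ⟨MonoidAlgebra.ofCoeff y, ?_⟩
    change MonoidAlgebra.mapDomain (AddMonoidHom.toMultiplicative φ) (MonoidAlgebra.ofCoeff y) = x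
    apply MonoidAlgebra.coeff_injective
    rw [MonoidAlgebra.coeff_mapDomain]
    exact hy
  exact isClosedImmersion_pullback_map _ _

end Groth.Agent.S5427
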