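import Groth.Statements.S5432
import Groth.Agent.Lib.Helper84.UnipUnits
import Groth.Agent.H40.MultSub
-- import your own Groth.Agent.* helpers here

set_option autoImplicit false
universe u
open TensorProduct
open SGA3t2b

namespace Groth.Agent.S5432

/-- Let k be a field, C a finitely generated commutative Hopf algebra which is formally smooth with no
idempotents other than 0 and 1 and unipotent in the fixed-vector sense (a smooth connected unipotent
algebraic group U), and B a commutative Hopf algebra of multiplicative type (isomorphic to a group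
algebra after a faithfully flat extension of k; the group H, not assumed of finite type). Then every
morphism of k-schemes U → H is constant: every k-algebra map f : B → C satisfies f(b) = ε_C(f(b)) ·
1. -/
theorem result (k : Type u) [Field k] (C B : Type u) [CommRing C] [HopfAlgebra k C] [Algebra.FiniteType k C]
    [Algebra.FormallySmooth k C] (hconn : ∀ e : C, IsIdempotentElem e → e = 0 ∨ e = 1)
    (hU : HopfRep.IsUnipotent k C) [CommRing B] [HopfAlgebra k B]
    (hB : SGA3b.IsMultTypeConst k B) (f : B →ₐ[k] C) :
    ∀ b : B, f b = algebraMap k C (Bialgebra.counitAlgHom k C (f b)) := by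
  intro b
  obtain ⟨R', _, _, hff, M, _, ⟨e⟩⟩ := hB
  have hnt : Nontrivial R' := (FaithfulSMul.algebraMap_injective k R').nontrivial
  obtain ⟨m, hm⟩ := Ideal.exists_maximal R'
  let fK : Field (R' ⧸ m) := Ideal.Quotient.field m
  have hX : Submodule.span R' {a : R' ⊗[k] B | IsGroupLikeElem R' a} = ⊤ :=
    Groth.Agent.H40.span_groupLike_of_surjective (e.symm : MonoidAlgebra R' M →ₐc[R'] _)
      (fun y => ⟨e y, e.symm_apply_apply y⟩) MonoidAlgebra.span_isGroupLikeElem
  let K := AlgebraicClosure (R' ⧸ m)
  let φ : R' →ₐ[k] K := (IsScalarTower.toAlgHom k (R' ⧸ m) K).comp (Ideal.Quotient.mkₐ k m)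
  have hM : Submodule.span K {a : K ⊗[k] B | IsGroupLikeElem K a} = ⊤ :=
    Groth.Agent.H40.SepSplit.span_groupLike_bcMap' B φ hX
  exact Groth.Agent.Lib.Helper84.UnipUnits.algHom_const K hM hconn hU f b

end Groth.Agent.S5432
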