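import Groth.Statements.S5435
import Mathlib
import Groth.Agent.S5331
import Groth.Agent.Lib.Helper14.RelSchDense

set_option autoImplicit false
universe u
open CategoryTheory MonoidalCategory CartesianMonoidalCategory MonObj GrpObj AlgebraicGeometry CategoryTheory.Limits
open SGA3x

namespace Groth.Agent.S5435

/-- Let G be an S-group scheme, flat and locally of finite presentation over S, U an open subscheme of G
schematically dense in G relative to S (after every base change), and H an S-group scheme. Then a
homomorphism G → H is determined by its restriction to U: two homomorphisms f, g : G → H with the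
same restriction to U are equal. (No separatedness of H is needed. The published statement allows H
to be any sheaf of groups for the fppf topology; this row takes H a group scheme.) -/
theorem result (S : Scheme.{u}) (G H : Over S) [GrpObj G] [GrpObj H] [Flat G.hom] [LocallyOfFinitePresentation G.hom]
    (U : G.left.Opens) (hU : (∀ (S' : Scheme.{u}) (g : S' ⟶ S), CInt.IsSchematicallyDense ((pullback.fst G.hom g) ⁻¹ᵁ U)))
    (f g : G ⟶ H) [IsMonHom f] [IsMonHom g] (h : U.ι ≫ f.left = U.ι ≫ g.left) : f = g := by
  refine Groth.Agent.Lib.Helper14.eq_of_eq_on_relSchDense_of_fibres_separated S G H U hU ?_ f g h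
  intro s
  have : DiscreteTopology ↥(Spec (S.residueField s)) := inferInstance
  let _ : GrpObj ((Over.pullback (S.fromSpecResidueField s)).obj H) :=
    Functor.grpObjObj (F := Over.pullback (S.fromSpecResidueField s)) (G := H)
  exact Groth.Agent.S5331.result (Spec (S.residueField s))
    ((Over.pullback (S.fromSpecResidueField s)).obj H)

end Groth.Agent.S5435
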