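import Groth.Statements.S5441
import Mathlib
import Groth.Agent.Lib.Helper68.HopfRetract

set_option autoImplicit false
universe u
open TensorProduct
open SGA3

namespace Groth.Agent.S5441

/-- Let k be a perfect field, A a finitely generated commutative Hopf algebra (an algebraic group H), ψ
: C → A an injective bialgebra map with C an étale k-algebra (the étale quotient H″), J the Hopf
ideal of A generated by the image of the augmentation ideal of C (the kernel H′ = Spec (A/J)), with
A/J a local ring (H′ radiciel). Then H″ lifts uniquely into H and the lifting is the reduced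
subgroup: there is exactly one bialgebra map r : A → C with r ∘ ψ = id, and every such r has kernel
the nilradical of A. -/
theorem result (k : Type u) [Field k] [PerfectField k] (A C : Type u) [CommRing A] [HopfAlgebra k A] [Algebra.FiniteType k A]
    [CommRing C] [HopfAlgebra k C] [Algebra.Etale k C] (ψ : C →ₐc[k] A) (hψ : Function.Injective ψ)
    (J : Ideal A) [J.IsHopfIdeal k] (hJ : J = Ideal.map (ψ : C →+* A) (RingHom.ker (Bialgebra.counitAlgHom k C)))
    [IsLocalRing (A ⧸ J)] :
    (∃! r : A →ₐc[k] C, r.comp ψ = BialgHom.id k C) ∧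
    ∀ r : A →ₐc[k] C, r.comp ψ = BialgHom.id k C → RingHom.ker (r : A →+* C) = nilradical A := by
  classical
  have hCred : IsReduced C := Algebra.FormallyUnramified.isReduced_of_field k C
  -- Step 0: a power of the augmentation ideal lies in `J`.
  have hJε : J ≤ RingHom.ker (Bialgebra.counitAlgHom k A) := by
    rw [hJ, Ideal.map_le_iff_le_comap]
    intro c hc
    rw [Ideal.mem_comap, RingHom.mem_ker]
    rw [RingHom.mem_ker] at hc
    change Coalgebra.counit (R := k) (ψ c) = 0
    rw [CoalgHomClass.counit_comp_apply]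
    exact hc
  have hnoethA : IsNoetherianRing A := Algebra.FiniteType.isNoetherianRing k A
  have hjacA : IsJacobsonRing A := isJacobsonRing_of_finiteType (A := k) (B := A)
  have hmax : IsLocalRing.maximalIdeal (A ⧸ J) = nilradical (A ⧸ J) := by
    have h1 : (nilradical (A ⧸ J)).jacobson = IsLocalRing.maximalIdeal (A ⧸ J) := by
      apply IsLocalRing.jacobson_eq_maximalIdeal
      intro htop
      have : (1 : A ⧸ J) ∈ nilradical (A ⧸ J) := htop ▸ Submodule.mem_top
      obtain ⟨m, hm⟩ := mem_nilradical.1 this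
      rw [one_pow] at hm
      exact (one_ne_zero (α := A ⧸ J)) hm
    rw [← h1]
    exact IsJacobsonRing.out inferInstance (Ideal.radical_isRadical ⊥)
  obtain ⟨n, hn⟩ : ∃ n : ℕ, (IsLocalRing.maximalIdeal (A ⧸ J)) ^ n = ⊥ := by
    rw [hmax]
    exact IsNoetherianRing.isNilpotent_nilradical (A ⧸ J)
  have hpow : (RingHom.ker (Bialgebra.counitAlgHom k A)) ^ n ≤
      Ideal.map (ψ : C →+* A) (RingHom.ker (Bialgebra.counitAlgHom k C)) := by
    rw [← hJ]
    have h1 : Ideal.map (Ideal.Quotient.mk J) (RingHom.ker (Bialgebra.counitAlgHom k A)) ≤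
        IsLocalRing.maximalIdeal (A ⧸ J) := by
      rw [Ideal.map_le_iff_le_comap]
      intro a ha
      rw [Ideal.mem_comap, IsLocalRing.mem_maximalIdeal, mem_nonunits_iff]
      intro hu
      let εbar : A ⧸ J →+* k := Ideal.Quotient.lift J (Bialgebra.counitAlgHom k A : A →+* k)
        (fun x hx => hJε hx)
      have h2 : IsUnit (εbar (Ideal.Quotient.mk J a)) := hu.map εbar
      have h3 : εbar (Ideal.Quotient.mk J a) = 0 := by
        rw [Ideal.Quotient.lift_mk]
        exact ha
      rw [h3] at h2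
      exact not_isUnit_zero h2
    have h2 : Ideal.map (Ideal.Quotient.mk J) ((RingHom.ker (Bialgebra.counitAlgHom k A)) ^ n) = ⊥ := by
      rw [Ideal.map_pow, ← le_bot_iff, ← hn]
      exact Ideal.pow_right_mono h1 n
    rw [Ideal.map_eq_bot_iff_le_ker, Ideal.mk_ker] at h2
    exact h2
  have key : ∀ a : A, ∃ c : C, a - ψ c ∈ nilradical A :=
    Groth.Agent.Lib.Helper68.HopfRetract.exists_sub_mem_nilradical ψ hψ n hpow
  -- algebra maps into a reduced ring agreeing on `ψ(C)` agree.
  have agree : ∀ (R : Type u) [CommRing R] [Algebra k R] [IsReduced R] (f g : A →ₐ[k] R),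
      (∀ c : C, f (ψ c) = g (ψ c)) → f = g := by
    intro R _ _ _ f g hfg
    ext a
    obtain ⟨c, hc⟩ := key a
    have hf : f (a - ψ c) = 0 := IsReduced.eq_zero _ ((mem_nilradical.1 hc).map f)
    have hg : g (a - ψ c) = 0 := IsReduced.eq_zero _ ((mem_nilradical.1 hc).map g)
    rw [map_sub, sub_eq_zero] at hf hg
    rw [hf, hg, hfg]
  -- the retraction as an algebra map
  let π : A →ₐ[k] A ⧸ nilradical A := Ideal.Quotient.mkₐ k (nilradical A)
  let φ : C →ₐ[k] A ⧸ nilradical A := π.comp (ψ : C →ₐ[k] A)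
  have hφinj : Function.Injective φ := by
    rw [injective_iff_map_eq_zero]
    intro c hc
    have h1 : ψ c ∈ nilradical A := by
      rw [← Ideal.Quotient.eq_zero_iff_mem]
      exact hc
    obtain ⟨m, hm⟩ := mem_nilradical.1 h1
    have h2 : ψ (c ^ m) = ψ 0 := by rw [map_pow, hm, map_zero]
    have h3 : c ^ m = 0 := hψ h2
    exact IsReduced.eq_zero c ⟨m, h3⟩
  have hφsurj : Function.Surjective φ := by
    intro b
    obtain ⟨a, rfl⟩ := Ideal.Quotient.mk_surjective b
    obtain ⟨c, hc⟩ := key a
    refine ⟨c, ?_⟩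
    have h1 : π (a - ψ c) = 0 := Ideal.Quotient.eq_zero_iff_mem.2 hc
    rw [map_sub, sub_eq_zero] at h1
    exact h1.symm
  let e : C ≃ₐ[k] A ⧸ nilradical A := AlgEquiv.ofBijective φ ⟨hφinj, hφsurj⟩
  let r₀ : A →ₐ[k] C := (e.symm : (A ⧸ nilradical A) →ₐ[k] C).comp π
  have hr₀ψ : ∀ c : C, r₀ (ψ c) = c := by
    intro c
    change e.symm (π (ψ c)) = c
    have : π (ψ c) = e c := rfl
    rw [this, AlgEquiv.symm_apply_apply]
  have hCC : IsReduced (C ⊗[k] C) :=
    Groth.Agent.Lib.Helper62.isReduced_tensor_of_isReduced_of_perfectField k C C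
  have hr₀counit : (Bialgebra.counitAlgHom k C).comp r₀ = Bialgebra.counitAlgHom k A := by
    apply agree k
    intro c
    rw [AlgHom.comp_apply, hr₀ψ]
    change Coalgebra.counit (R := k) c = Coalgebra.counit (R := k) (ψ c)
    rw [CoalgHomClass.counit_comp_apply]
  have hr₀comul : (Algebra.TensorProduct.map r₀ r₀).comp (Bialgebra.comulAlgHom k A) =
      (Bialgebra.comulAlgHom k C).comp r₀ := by
    apply agree (C ⊗[k] C)
    intro c
    rw [AlgHom.comp_apply, AlgHom.comp_apply, hr₀ψ]
    have h1 : (Bialgebra.comulAlgHom k A) (ψ c) =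
        (Algebra.TensorProduct.map (ψ : C →ₐ[k] A) (ψ : C →ₐ[k] A))
          ((Bialgebra.comulAlgHom k C) c) := by
      have := AlgHom.congr_fun (BialgHom.map_comp_comulAlgHom ψ) c
      exact this.symm
    rw [h1, ← AlgHom.comp_apply, ← Algebra.TensorProduct.map_comp]
    have h2 : r₀.comp (ψ : C →ₐ[k] A) = AlgHom.id k C := by
      ext c
      exact hr₀ψ c
    rw [h2, Algebra.TensorProduct.map_id, AlgHom.id_apply]
  let r : A →ₐc[k] C := BialgHom.ofAlgHom r₀ hr₀counit hr₀comul
  have hr : ∀ a : A, r a = r₀ a := fun _ => rfl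
  have huniq : ∀ r' : A →ₐc[k] C, r'.comp ψ = BialgHom.id k C → ∀ a : A, r' a = r₀ a := by
    intro r' hr' a
    have h1 : (r' : A →ₐ[k] C) = r₀ := by
      apply agree C
      intro c
      rw [hr₀ψ]
      have := congrArg (fun F : C →ₐc[k] C => F c) hr'
      exact this
    exact AlgHom.congr_fun h1 a
  refine ⟨⟨r, ?_, ?_⟩, ?_⟩
  · ext c
    change r₀ (ψ c) = c
    exact hr₀ψ c
  · intro r' hr'
    ext a
    rw [huniq r' hr' a]
    rfl
  · intro r' hr'
    ext a
    rw [RingHom.mem_ker]
    change r' a = 0 ↔ _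
    rw [huniq r' hr' a]
    change e.symm (π a) = 0 ↔ _
    rw [map_eq_zero_iff _ e.symm.injective]
    exact Ideal.Quotient.eq_zero_iff_mem

end Groth.Agent.S5441
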