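import Groth.Statements.S5443
import Groth.Agent.Lib.Helper41.CoactOfAction
import Groth.Agent.Lib.Helper41.AffinizeAction
import Groth.Agent.Lib.Helper59.UnipOrbit

set_option autoImplicit false
universe u
open TensorProduct CategoryTheory MonoidalCategory CartesianMonoidalCategory MonObj GrpObj AlgebraicGeometry
open SGA3x

namespace Groth.Agent.S5443

/-- Let k be a field, A a finitely generated commutative Hopf algebra over k which is unipotent in the
fixed-vector sense (a unipotent algebraic group U = Spec A), X a k-scheme of finite type which is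
quasi-affine, with an action of U, and x a k-rational point of X. Then the orbit of x — the
set-theoretic image of U under the orbit map g ↦ g · x — is closed in X. (The published statement
does not ask X to be of finite type over k; this row does.) -/
theorem result (k : Type u) [Field k] (A : Type u) [CommRing A] [HopfAlgebra k A] [Algebra.FiniteType k A]
    (hU : HopfRep.IsUnipotent k A) (X : Over (Spec (CommRingCat.of k))) [LocallyOfFiniteType X.hom]
    (hX : Mor2.IsQuasiAffine X.hom)
    (a : AlgGrp.Action ((Spec (CommRingCat.of A)).asOver (Spec (CommRingCat.of k))) X)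
    (x : 𝟙_ (Over (Spec (CommRingCat.of k))) ⟶ X) :
    IsClosed (Set.range (a.orbitMap x).left.base) := by
  classical
  -- `X` is a quasi-affine scheme
  have hqa : X.left.IsQuasiAffine := by
    have h := hX.2 ⊤ (isAffineOpen_top _)
    have e : X.hom ⁻¹ᵁ (⊤ : (Spec (CommRingCat.of k)).Opens) = ⊤ := rfl
    rw [e] at h
    have := h
    have hqc : QuasiCompact X.hom := hX.1
    have : CompactSpace X.left := QuasiCompact.compactSpace_of_compactSpace X.hom
    exact Scheme.IsQuasiAffine.of_isImmersion (Scheme.topIso X.left).inv
  have hc1 : CompactSpace X.left := inferInstance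
  have hs1 : X.left.IsSeparated := inferInstance
  have hq1 : QuasiSeparatedSpace X.left := inferInstance
  obtain ⟨b, hb⟩ := Groth.Agent.Lib.Helper41.AffinizeAction.exists_action a
  set j := Groth.Agent.Lib.Helper41.AffinizeAction.affMap X with hj
  have hjo : IsOpenImmersion j.left := by
    change IsOpenImmersion X.left.toSpecΓ
    infer_instance
  -- the orbit maps correspond
  have horb : a.orbitMap x ≫ j = b.orbitMap (x ≫ j) := by
    unfold AlgGrp.Action.orbitMap
    rw [Category.assoc, ← hb, ← Category.assoc, lift_whiskerLeft, Category.assoc]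
  -- closedness on the affinization
  obtain ⟨c, hc', hact⟩ := Groth.Agent.Lib.Helper41.CoactOfAction.exists_comod_of_action b
  obtain ⟨χ, hχ⟩ := Groth.Agent.Lib.Helper41.CoactOfAction.exists_algHom_of_point (x ≫ j)
  let _ := c
  have := hc'
  have hb_orb : b.orbitMap (x ≫ j) =
      (CoactBr.action k A (Groth.Agent.Lib.Helper41.AffinizeAction.GammaAlg X)).orbitMap (x ≫ j) := by
    unfold AlgGrp.Action.orbitMap
    rw [hact]
  have hclosed : IsClosed (Set.range (b.orbitMap (x ≫ j)).left.base) := by
    rw [hb_orb, Groth.Agent.Lib.Helper41.CoactOfAction.range_orbitMap_action _ χ (hχ A)]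
    exact Groth.Agent.Lib.Helper59.UnipOrbit.isClosedOrbit_of_isUnipotent hU χ
  have hinj : Function.Injective j.left.base := j.left.isOpenEmbedding.injective
  have hset : Set.range (a.orbitMap x).left.base =
      j.left.base ⁻¹' Set.range (b.orbitMap (x ≫ j)).left.base := by
    have hcomp : ∀ g, (b.orbitMap (x ≫ j)).left.base g = j.left.base ((a.orbitMap x).left.base g) := by
      intro g
      rw [← horb]
      rfl
    ext p
    constructor
    · rintro ⟨g, rfl⟩
      exact ⟨g, hcomp g⟩
    · rintro ⟨g, hg⟩
      exact ⟨g, hinj ((hcomp g).symm.trans hg)⟩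
  rw [hset]
  exact hclosed.preimage j.left.base.hom.continuous

end Groth.Agent.S5443
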