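import Groth.Statements.S5444
-- import your own Groth.Agent.* helpers here
import Groth.Agent.S14887
import Groth.Agent.S14788
import Groth.Agent.Lib.Helper23.ProConsClosure
import Groth.Agent.Lib.Helper55.ProConsRetro
import Groth.Agent.Lib.Helper55.ValuationSpecialize
import Groth.Agent.Lib.Helper55.DimPoint
import Groth.Agent.Lib.Helper55.FiberTrdeg

set_option autoImplicit false
universe u
open CategoryTheory AlgebraicGeometry Topology
open SGA3x

namespace Groth.Agent.S5444

open Groth.Agent.Lib.Helper55 Groth.Agent.Lib.Helper16 Groth.Agent.Lib.Helper23 CategoryTheory.Limits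

/-- Intersections of pro-constructible subsets of a scheme are pro-constructible. -/
theorem isProConstructible_inter {X : Scheme.{u}} {E F : Set X}
    (hE : ProCons.IsProConstructible E) (hF : ProCons.IsProConstructible F) :
    ProCons.IsProConstructible (E ∩ F) := by
  intro x
  obtain ⟨U, hU, hxU⟩ := exists_affine_nhd x
  obtain ⟨_, _, _, _, _⟩ := spectral_of_isAffineOpen hU
  obtain ⟨S₁, hS₁, hES₁⟩ := exists_sInter_of_isProConstructible hE (W := (U : Set X)) U.2
  obtain ⟨S₂, hS₂, hES₂⟩ := exists_sInter_of_isProConstructible hF (W := (U : Set X)) U.2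
  refine ⟨U, U.2, hxU, S₁ ∪ S₂, ?_, ?_⟩
  · rintro T (hT | hT)
    · exact (hS₁ T hT).isLocallyConstructible
    · exact (hS₂ T hT).isLocallyConstructible
  · rw [Set.sInter_union, ← hES₁, ← hES₂, Set.preimage_inter]

/-- Every closed subset of a scheme is the range of a closed immersion. -/
theorem exists_isClosedImmersion_range_eq {X : Scheme.{u}} (Z : Set X) (hZ : IsClosed Z) :
    ∃ (Z' : Scheme.{u}) (ι : Z' ⟶ X), IsClosedImmersion ι ∧ Set.range ι = Z := by
  refine ⟨_, (Scheme.IdealSheafData.vanishingIdeal ⟨Z, hZ⟩).subschemeι, inferInstance, ?_⟩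
  rw [Scheme.IdealSheafData.range_subschemeι, Scheme.IdealSheafData.coe_support_vanishingIdeal]
  rfl

section VR

variable {V : Type u} [CommRing V] [IsDomain V] [ValuationRing V] {Y : Scheme.{u}}
  (f : Y ⟶ Spec (CommRingCat.of V)) [LocallyOfFiniteType f]

/-- Key bound: a point `y` of the closure of a pro-constructible subset `P` of the generic fibre
has `trdeg κ(y)/κ(f y) ≤ dim P` (valuation ring base). -/
theorem trdeg_le_dim_of_mem_closure (P : Set Y)
    (hPη : P ⊆ f ⁻¹' {genericPoint (Spec (CommRingCat.of V))})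
    (hP : ProCons.IsProConstructible P)
    (hPcl : ∀ ξ ∈ P, closure {ξ} ∩ f ⁻¹' {genericPoint (Spec (CommRingCat.of V))} ⊆ P)
    (y : Y) (hy : y ∈ closure P) (n : ℕ)
    (hn : @Algebra.trdeg ((Spec (CommRingCat.of V)).residueField (f y)) (Y.residueField y) _ _
        (f.residueFieldMap y).hom.toAlgebra = n) :
    (n : WithBot ℕ∞) ≤ topologicalKrullDim ↥P := by
  obtain ⟨ξ, hξP, hξy⟩ := exists_specializes_of_mem_closure_of_isProConstructible hP hy
  obtain ⟨T, ι, hci, hint, hrange, hgp⟩ := Groth.Agent.S14887.exists_integral_closure_subscheme ξ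
  have hyr : y ∈ Set.range ι := by
    rw [hrange]; exact hξy.mem_closure
  obtain ⟨t₀, rfl⟩ := hyr
  have h1 : (n : WithBot ℕ∞) ≤ FlatMor.fibreDimAt (ι ≫ f) t₀ := by
    refine trdeg_le_fibreDimAt (ι ≫ f) t₀ n ?_
    rw [trdeg_residueField_preimmersion_comp ι f t₀]
    exact hn
  have h2 := Groth.Agent.S14887.fibreDimAt_const_of_valuationRing (ι ≫ f) t₀ (genericPoint T)
  obtain ⟨z₁, -, hz₁s, -, n', hn', hFξ, -, -⟩ :=
    exists_maximal_point_fiber (ι ≫ f) (genericPoint T)
  obtain rfl : z₁ = genericPoint T :=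
    (hz₁s.antisymm ((genericPoint_spec T).specializes (Set.mem_univ _))).eq
  rw [trdeg_residueField_preimmersion_comp ι f, Groth.Agent.S14887.trdeg_congr f hgp] at hn'
  -- `n' = dim (closure ξ ∩ fibre) ≤ dim P`
  have hfξ : f ξ = genericPoint (Spec (CommRingCat.of V)) := hPη hξP
  obtain ⟨m, hm1, hm2⟩ := exists_dim_closure_fiber_eq_trdeg f (f ξ) (f.asFiber ξ) ξ
    (f.fiberι_asFiber ξ)
  have hmn : m = n' := by
    have := hm2.symm.trans hn'
    exact_mod_cast this
  have h3 := topologicalKrullDim_closure_inter_range_eq (f.fiberι (f ξ))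
    (f.fiberι (f ξ)).isEmbedding (f.asFiber ξ)
  rw [f.fiberι_asFiber, f.range_fiberι, hm1, hmn] at h3
  have hsub : closure ({ξ} : Set Y) ∩ f ⁻¹' {f ξ} ⊆ P := by
    rw [hfξ]; exact hPcl ξ hξP
  have h4 : topologicalKrullDim ↥(closure ({ξ} : Set Y) ∩ f ⁻¹' {f ξ}) ≤ topologicalKrullDim ↥P :=
    (Topology.IsInducing.topologicalKrullDim_le
      (f := Set.inclusion hsub) (Topology.IsEmbedding.inclusion hsub).isInducing)
  calc (n : WithBot ℕ∞) ≤ _ := h1
    _ = _ := h2
    _ = (n' : WithBot ℕ∞) := hFξ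
    _ = _ := h3.symm
    _ ≤ _ := h4

/-- The valuation ring case. -/
theorem dim_closure_sections_le (ι : Type u) (a : ι → (Spec (CommRingCat.of V) ⟶ Y))
    (ha : ∀ i, a i ≫ f = 𝟙 _) (o : Spec (CommRingCat.of V)) :
    topologicalKrullDim ↥(f ⁻¹' {o} ∩ closure (Set.range fun i => a i o)) ≤
      topologicalKrullDim ↥(f ⁻¹' {genericPoint (Spec (CommRingCat.of V))} ∩
        closure (Set.range fun i => a i (genericPoint (Spec (CommRingCat.of V))))) := by
  obtain ⟨η, hη⟩ : ∃ η : Spec (CommRingCat.of V), η = genericPoint (Spec (CommRingCat.of V)) :=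
    ⟨_, rfl⟩
  rw [← hη]
  obtain ⟨P, hPdef⟩ : ∃ P : Set Y, P = f ⁻¹' {η} ∩ closure (Set.range fun i => a i η) := ⟨_, rfl⟩
  rw [← hPdef]
  have hfa : ∀ i (t : Spec (CommRingCat.of V)), f (a i t) = t := by
    intro i t
    have := congr(($(ha i)) t)
    exact this
  have hPη : P ⊆ f ⁻¹' {genericPoint (Spec (CommRingCat.of V))} := by
    rw [hPdef, ← hη]; exact Set.inter_subset_left
  have hP : ProCons.IsProConstructible P := by
    rw [hPdef]
    exact isProConstructible_inter
      (isProConstructible_preimage f (Groth.Agent.S14788.isProConstructible_singleton η))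
      (isProConstructible_of_isClosed isClosed_closure)
  have hPcl : ∀ ξ ∈ P, closure {ξ} ∩ f ⁻¹' {genericPoint (Spec (CommRingCat.of V))} ⊆ P := by
    intro ξ hξ z hz
    rw [hPdef] at hξ ⊢
    rw [← hη] at hz
    exact ⟨hz.2, closure_minimal (Set.singleton_subset_iff.mpr hξ.2) isClosed_closure hz.1⟩
  have hAo : closure (Set.range fun i => a i o) ⊆ closure P := by
    refine closure_minimal ?_ isClosed_closure
    rintro _ ⟨i, rfl⟩
    have hsp : η ⤳ o := by
      rw [hη]; exact (genericPoint_spec _).specializes (Set.mem_univ _)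
    have h1 : a i η ⤳ a i o := hsp.map (a i).continuous
    have h2 : a i η ∈ P := by
      rw [hPdef]
      exact ⟨hfa i η, subset_closure ⟨i, rfl⟩⟩
    exact closure_mono (Set.singleton_subset_iff.mpr h2) h1.mem_closure
  obtain ⟨Z, j, hj, hjr⟩ := exists_isClosedImmersion_range_eq
    (closure (Set.range fun i => a i o)) isClosed_closure
  rw [Set.inter_comm, ← hjr, topologicalKrullDim_range_inter_preimage f j o,
    ← ((j ≫ f).fiberHomeo o).isHomeomorph.topologicalKrullDim_eq,
    topologicalKrullDim_fiber_eq_iSup (j ≫ f) o]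
  refine iSup_le fun w => ?_
  obtain ⟨z₀, -, -, -, n, hn, hFw, -, -⟩ := exists_maximal_point_fiber (j ≫ f) w.1
  rw [hFw]
  refine trdeg_le_dim_of_mem_closure f P hPη hP hPcl (j z₀) (hAo ?_) n ?_
  · rw [← hjr]; exact ⟨z₀, rfl⟩
  · rw [← trdeg_residueField_preimmersion_comp j f z₀]
    exact hn

end VR

section openness

/-- In a pullback square, the map between the fibres over `y` and `g y` is open: the image of the
trace of an open set on the fibre over `y` is open in the fibre over `g y`. -/
theorem exists_opens_inter_fiber_eq_image {P X Y Z : Scheme.{u}} {fst : P ⟶ X} {snd : P ⟶ Y}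
    {f : X ⟶ Z} {g : Y ⟶ Z} (h : IsPullback fst snd f g) (y : Y) (U : P.Opens) :
    ∃ W : X.Opens, (W : Set X) ∩ f ⁻¹' {g y} = fst '' ((U : Set P) ∩ snd ⁻¹' {y}) := by
  have hpb := isPullback_fiberToSpecResidueField_of_isPullback h y
  obtain ⟨φ, hφ⟩ : ∃ φ : snd.fiber y ⟶ f.fiber (g y),
      φ = pullback.map _ _ _ _ fst (Spec.map (g.residueFieldMap y)) g h.w.symm (by simp) :=
    ⟨_, rfl⟩
  rw [← hφ] at hpb
  have hφι : φ ≫ f.fiberι (g y) = snd.fiberι y ≫ fst := by
    rw [hφ]; exact pullback.lift_fst _ _ _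
  have hUO : UniversallyOpen φ :=
    MorphismProperty.of_isPullback (P := @UniversallyOpen) hpb.flip inferInstance
  have hopen : IsOpen (φ '' ((snd.fiberι y) ⁻¹ᵁ U : Set (snd.fiber y))) :=
    φ.isOpenMap _ ((snd.fiberι y) ⁻¹ᵁ U).isOpen
  obtain ⟨W, hW, hWeq⟩ := (f.fiberι (g y)).isEmbedding.isInducing.isOpen_iff.mp hopen
  refine ⟨⟨W, hW⟩, ?_⟩
  ext x
  constructor
  · rintro ⟨hxW, hxf⟩
    have hxr : x ∈ Set.range (f.fiberι (g y)) := by
      rw [f.range_fiberι]; exact hxf
    obtain ⟨z, rfl⟩ := hxr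
    have hz : z ∈ (f.fiberι (g y)) ⁻¹' W := hxW
    rw [hWeq] at hz
    obtain ⟨v, hv, rfl⟩ := hz
    refine ⟨snd.fiberι y v, ⟨hv, ?_⟩, ?_⟩
    · have : snd.fiberι y v ∈ Set.range (snd.fiberι y) := ⟨v, rfl⟩
      rw [snd.range_fiberι] at this
      exact this
    · have := congr(($hφι) v)
      exact this.symm
  · rintro ⟨p, ⟨hpU, hpy⟩, rfl⟩
    have hpr : p ∈ Set.range (snd.fiberι y) := by
      rw [snd.range_fiberι]; exact hpy
    obtain ⟨v, rfl⟩ := hpr
    have hv : fst (snd.fiberι y v) = f.fiberι (g y) (φ v) := by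
      have := congr(($hφι) v)
      exact this.symm
    rw [hv]
    refine ⟨?_, ?_⟩
    · change φ v ∈ (f.fiberι (g y)) ⁻¹' W
      rw [hWeq]
      exact ⟨v, hpU, rfl⟩
    · have : f.fiberι (g y) (φ v) ∈ Set.range (f.fiberι (g y)) := ⟨_, rfl⟩
      rw [f.range_fiberι] at this
      exact this

end openness

theorem range_fst_of_isPullback' {P X Y Z : Scheme.{u}} {a : P ⟶ X} {b : P ⟶ Y} {f : X ⟶ Z}
    {g : Y ⟶ Z} (h : IsPullback a b f g) : Set.range a = f ⁻¹' Set.range g := by
  rw [← Scheme.Pullback.range_fst, ← h.isoPullback_hom_fst, Scheme.Hom.comp_base,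
    TopCat.coe_comp, Set.range_comp, Set.range_eq_univ.mpr h.isoPullback.hom.surjective,
    Set.image_univ]

section compare

variable {S Y T : Scheme.{u}} (f : Y ⟶ S) (g : T ⟶ S)
  {ι : Type u} (a : ι → (S ⟶ Y)) (ha : ∀ i, a i ≫ f = 𝟙 S)

/-- The base-changed sections. -/
noncomputable def sec (i : ι) : T ⟶ pullback f g :=
  pullback.lift (g ≫ a i) (𝟙 T)
    (by rw [Category.assoc, ha i, Category.comp_id, Category.id_comp])

theorem sec_fst (i : ι) : sec f g a ha i ≫ pullback.fst f g = g ≫ a i :=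
  pullback.lift_fst _ _ _

theorem sec_snd (i : ι) : sec f g a ha i ≫ pullback.snd f g = 𝟙 T :=
  pullback.lift_snd _ _ _

/-- The square of sections is cartesian. -/
theorem isPullback_sec (i : ι) : IsPullback (sec f g a ha i) g (pullback.fst f g) (a i) := by
  refine ⟨⟨sec_fst f g a ha i⟩, ⟨PullbackCone.IsLimit.mk _ (fun s => s.fst ≫ pullback.snd f g)
    (fun s => ?_) (fun s => ?_) (fun s m h1 _ => ?_)⟩⟩
  · have h3 : s.fst ≫ pullback.snd f g ≫ g = s.snd := by
      rw [← pullback.condition, ← Category.assoc, s.condition, Category.assoc, ha i,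
        Category.comp_id]
    apply pullback.hom_ext
    · rw [Category.assoc, Category.assoc, sec_fst, ← Category.assoc, ← Category.assoc,
        Category.assoc s.fst, h3, s.condition]
    · rw [Category.assoc, Category.assoc, sec_snd, Category.comp_id]
  · rw [Category.assoc, ← pullback.condition, ← Category.assoc, s.condition, Category.assoc, ha i,
      Category.comp_id]
  · rw [← h1, Category.assoc, sec_snd, Category.comp_id]

include ha in
theorem eq_sec_of_fst_eq (i : ι) (z : ↥(pullback f g)) (s : S)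
    (hz : pullback.fst f g z = a i s) : z = sec f g a ha i (pullback.snd f g z) := by
  have hr : z ∈ Set.range (sec f g a ha i) := by
    rw [range_fst_of_isPullback' (isPullback_sec f g a ha i)]
    exact ⟨s, hz.symm⟩
  obtain ⟨t', rfl⟩ := hr
  have : pullback.snd f g (sec f g a ha i t') = t' := by
    have := congr(($(sec_snd f g a ha i)) t')
    exact this
  rw [this]

variable [LocallyOfFiniteType f]

theorem dim_compare (t : T) :
    topologicalKrullDim ↥((pullback.snd f g) ⁻¹' {t} ∩
        closure (Set.range fun i => sec f g a ha i t)) =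
      topologicalKrullDim ↥(f ⁻¹' {g t} ∩ closure (Set.range fun i => a i (g t))) := by
  have hfa : ∀ i (s : S), f (a i s) = s := by
    intro i s
    have := congr(($(ha i)) s)
    exact this
  obtain ⟨Z, j, hj, hjr⟩ := exists_isClosedImmersion_range_eq
    (closure (Set.range fun i => a i (g t))) isClosed_closure
  have hsq : IsPullback (pullback.fst j (pullback.fst f g))
      (pullback.snd j (pullback.fst f g) ≫ pullback.snd f g) (j ≫ f) g :=
    (IsPullback.of_hasPullback j (pullback.fst f g)).paste_vert (IsPullback.of_hasPullback f g)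
  have h1 := topologicalKrullDim_fiber_eq_of_isPullback (j ≫ f) g _ _ hsq t
  rw [((j ≫ f).fiberHomeo (g t)).isHomeomorph.topologicalKrullDim_eq,
    ← topologicalKrullDim_range_inter_preimage f j (g t), hjr,
    ((pullback.snd j (pullback.fst f g) ≫ pullback.snd f g).fiberHomeo
      t).isHomeomorph.topologicalKrullDim_eq,
    ← topologicalKrullDim_range_inter_preimage (pullback.snd f g)
      (pullback.snd j (pullback.fst f g)) t,
    Scheme.Pullback.range_snd, hjr] at h1
  rw [Set.inter_comm ((pullback.snd f g) ⁻¹' {t}), Set.inter_comm (f ⁻¹' {g t}), ← h1]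
  -- the set-theoretic identification
  have hset : closure (Set.range fun i => sec f g a ha i t) ∩ (pullback.snd f g) ⁻¹' {t} =
      (pullback.fst f g) ⁻¹' closure (Set.range fun i => a i (g t)) ∩
        (pullback.snd f g) ⁻¹' {t} := by
    apply subset_antisymm
    · rintro z ⟨hz1, hz2⟩
      refine ⟨?_, hz2⟩
      have hcl : IsClosed ((pullback.fst f g) ⁻¹' closure (Set.range fun i => a i (g t))) :=
        isClosed_closure.preimage (pullback.fst f g).continuous
      refine closure_minimal ?_ hcl hz1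
      rintro _ ⟨i, rfl⟩
      apply subset_closure
      refine ⟨i, ?_⟩
      have := congr(($(sec_fst f g a ha i)) t)
      exact this.symm
    · rintro z ⟨hz1, hz2⟩
      refine ⟨?_, hz2⟩
      by_contra hzc
      obtain ⟨W, hW⟩ := exists_opens_inter_fiber_eq_image (IsPullback.of_hasPullback f g) t
        ⟨(closure (Set.range fun i => sec f g a ha i t))ᶜ, isClosed_closure.isOpen_compl⟩
      have hzW : pullback.fst f g z ∈ (W : Set Y) ∩ f ⁻¹' {g t} := by
        rw [hW]
        exact ⟨z, ⟨hzc, hz2⟩, rfl⟩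
      obtain ⟨y, hyW, i, rfl⟩ := mem_closure_iff.mp hz1 W W.isOpen hzW.1
      have hy : a i (g t) ∈ (W : Set Y) ∩ f ⁻¹' {g t} := ⟨hyW, hfa i (g t)⟩
      rw [hW] at hy
      obtain ⟨z', ⟨hz'c, hz't⟩, hz'⟩ := hy
      have := eq_sec_of_fst_eq f g a ha i z' (g t) hz'
      rw [hz't] at this
      apply hz'c
      rw [this]
      exact subset_closure ⟨i, rfl⟩
  rw [hset]

end compare

end Groth.Agent.S5444

namespace Groth.Agent.S5444

/-- Let f : Y → S be a morphism of finite presentation, (a_i)_{i ∈ I} a family of sections of f, and s₀,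
s₁ two points of S with s₀ a specialization of s₁. For j = 0, 1 let C_j be the closure in the fibre
Y_{s_j} (with its subspace topology) of the set of points a_i(s_j). Then dim C₁ ≥ dim C₀
(topological Krull dimensions). -/
theorem result (S Y : Scheme.{u}) (f : Y ⟶ S) [QuasiCompact f] [QuasiSeparated f] [LocallyOfFinitePresentation f]
    (ι : Type u) (a : ι → (S ⟶ Y)) (ha : ∀ i, a i ≫ f = 𝟙 S) (s₀ s₁ : S) (h : s₁ ⤳ s₀) :
    topologicalKrullDim ↥(f.base ⁻¹' {s₀} ∩ closure (Set.range fun i => (a i).base s₀)) ≤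
      topologicalKrullDim ↥(f.base ⁻¹' {s₁} ∩ closure (Set.range fun i => (a i).base s₁)) := by
  obtain ⟨V, _, _, _, g, hg0, hg1⟩ := Groth.Agent.Lib.Helper55.exists_valuationRing_of_specializes h
  have hlft : LocallyOfFiniteType f := inferInstance
  have hlft' : LocallyOfFiniteType (CategoryTheory.Limits.pullback.snd f g) :=
    MorphismProperty.pullback_snd (P := @LocallyOfFiniteType) _ _ hlft
  have hVR := dim_closure_sections_le (CategoryTheory.Limits.pullback.snd f g) ι (sec f g a ha) (sec_snd f g a ha)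
    (IsLocalRing.closedPoint V)
  rw [dim_compare f g a ha (IsLocalRing.closedPoint V), dim_compare f g a ha (genericPoint _),
    hg0, hg1] at hVR
  exact hVR

end Groth.Agent.S5444
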