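import Groth.Statements.S5451
import Groth.Agent.Lib.Helper27.RootD2

set_option autoImplicit false
open RootD

namespace Groth.Agent.S5451

/-- If a root is a positive integer combination of roots α_i, then it can be reached from 0 by
successively adding roots taken among the α_i in such a way that every partial sum is a root. -/
theorem result {ι M N : Type*} [AddCommGroup M] [AddCommGroup N]
    (P : RootPairing ι ℤ M N) [Finite ι] {n : ℕ} (a : Fin n → ι) (m : Fin n → ℕ)
    (hm : ∀ i, 0 < m i) (k : ι) (hk : P.root k = ∑ i, m i • P.root (a i)) :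
    ∃ (l : ℕ) (b : Fin l → Fin n), 0 < l ∧
      (∀ p : Fin l, ∃ j : ι, P.root j = ∑ q ∈ Finset.univ.filter (fun q : Fin l => q.val ≤ p.val), P.root (a (b q))) ∧
      P.root k = ∑ q, P.root (a (b q)) := by
  classical
  let c : Fin n →₀ ℕ := Finsupp.equivFunOnFinite.symm m
  have hc : P.root k = c.sum (fun i n => n • P.root (a i)) := by
    rw [hk, Finsupp.sum_fintype _ _ (by simp)]
    rfl
  obtain ⟨L, hL0, -, hL1, hL2⟩ := Groth.Agent.Lib.Helper27.exists_chain_list P a _ c k rfl hc
  refine ⟨L.length, L.get, List.length_pos_of_ne_nil hL0, ?_, ?_⟩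
  · intro p
    obtain ⟨j, hj⟩ := hL1 (p.val + 1) (Nat.succ_pos _) p.2
    refine ⟨j, ?_⟩
    rw [hj]
    exact (Groth.Agent.Lib.Helper27.sum_filter_le_eq_take L (fun s => P.root (a s)) p.val).symm
  · rw [hL2]
    exact (Groth.Agent.Lib.Helper27.sum_univ_get_eq L (fun s => P.root (a s))).symm

end Groth.Agent.S5451
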