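import Groth.Statements.S5580
import Groth.Agent.Lib.Helper28.ToposFin3

set_option autoImplicit false
open CategoryTheory CategoryTheory.Limits Opposite
universe u
open ToposFin

namespace Groth.Agent.S5580

/-- Quasi-compact and coherent cases: for the topos of sheaves of sets on a small site: let (X_i) be a
finite family of objects with coproduct X (given as a colimit cofan) and f : X -> Y a morphism with
components f_i : X_i -> Y. Then f is quasi-compact (resp. coherent) if and only if every f_i is. -/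
theorem result {C : Type u} [SmallCategory C] {J : GrothendieckTopology C}
    {Y : ToposFin.Sh J} {n : ℕ} (X : Fin n → ToposFin.Sh J) (c : Cofan X) (hc : IsColimit c)
    (f : c.pt ⟶ Y) :
    (ToposFin.IsQCHom f ↔ ∀ i, ToposFin.IsQCHom (c.inj i ≫ f)) ∧
    (ToposFin.IsCohHom f ↔ ∀ i, ToposFin.IsCohHom (c.inj i ≫ f)) := by
  -- reindex along `ULift (Fin n)`
  let X' : ULift.{u} (Fin n) → ToposFin.Sh J := fun i => X i.down
  let c' : Cofan X' := Cofan.mk c.pt (fun i => c.inj i.down)
  have hc' : IsColimit c' :=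
    mkCofanColimit c' (fun s => Cofan.IsColimit.desc hc (fun i => s.inj ⟨i⟩))
      (fun s i => by
        change c.inj i.down ≫ _ = _
        rw [Cofan.IsColimit.fac])
      (fun s m hm => by
        apply Cofan.IsColimit.hom_ext hc
        intro i
        rw [Cofan.IsColimit.fac]
        exact hm ⟨i⟩)
  have hqc : ToposFin.IsQCHom f ↔ ∀ i, ToposFin.IsQCHom (c.inj i ≫ f) := by
    rw [Groth.Agent.Lib.Helper28.isQCHom_cofan_iff c' hc' f]
    exact ⟨fun h i => h ⟨i⟩, fun h i => h i.down⟩
  have hqs : ToposFin.IsQSHom f ↔ ∀ i, ToposFin.IsQSHom (c.inj i ≫ f) := by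
    rw [Groth.Agent.Lib.Helper28.isQSHom_cofan_iff c' hc' f]
    exact ⟨fun h i => h ⟨i⟩, fun h i => h i.down⟩
  refine ⟨hqc, ?_⟩
  unfold ToposFin.IsCohHom
  rw [hqc, hqs]
  exact ⟨fun h i => ⟨h.1 i, h.2 i⟩, fun h => ⟨fun i => (h i).1, fun i => (h i).2⟩⟩

end Groth.Agent.S5580
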