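import Groth.Statements.S5587
import Groth.Agent.Lib.Helper28.ToposFin4

set_option autoImplicit false
open CategoryTheory CategoryTheory.Limits Opposite
universe u
open ToposFin
open Groth.Agent.Lib.Helper28

namespace Groth.Agent.S5587

/-- For a locally coherent topos of sheaves of sets on a small site (given by a generating set of
quasi-compact objects stable under fibre products): a morphism f : X -> Y is quasi-separated if and
only if for every quasi-separated object Y' over Y the fibre product X x_Y Y' is quasi-separated. -/
theorem result {C : Type u} [SmallCategory C]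
    {J : GrothendieckTopology C} (S : Set (ToposFin.Sh J)) (hqc : ∀ K ∈ S, ToposFin.IsQC K)
    (hgen : ToposFin.IsGenerating S) (hpb : ToposFin.ClosedUnderPullbacks S) {X Y : ToposFin.Sh J} (f : X ⟶ Y) :
    ToposFin.IsQSHom f ↔
      ∀ (Y' : ToposFin.Sh J) (g : Y' ⟶ Y), ToposFin.IsQS Y' → ToposFin.IsQS (pullback f g) := by
  constructor
  · intro hf Y' g hY'
    exact isQS_of_isQSHom (isQSHom_of_isPullback (IsPullback.of_hasPullback f g) hf) hY'
  · intro h
    apply isQSHom_of_generating hgen
    intro K hK a b hab
    have hKqc : ToposFin.IsQC K := hqc K hK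
    have hX' : ToposFin.IsQS (pullback f (a ≫ f)) := h K (a ≫ f) (isQS_of_mem hqc hgen hpb hK)
    let a' : K ⟶ pullback f (a ≫ f) := pullback.lift a (𝟙 K) (by rw [Category.id_comp])
    let b' : K ⟶ pullback f (a ≫ f) := pullback.lift b (𝟙 K) (by rw [Category.id_comp, hab])
    have ha1 : a' ≫ pullback.fst f (a ≫ f) = a := pullback.lift_fst _ _ _
    have ha2 : a' ≫ pullback.snd f (a ≫ f) = 𝟙 K := pullback.lift_snd _ _ _
    have hb1 : b' ≫ pullback.fst f (a ≫ f) = b := pullback.lift_fst _ _ _
    have hb2 : b' ≫ pullback.snd f (a ≫ f) = 𝟙 K := pullback.lift_snd _ _ _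
    have hP : ToposFin.IsQC (pullback a' b') := hX' K K a' b' hKqc hKqc
    have h12 : pullback.fst a' b' = pullback.snd a' b' := by
      have := pullback.condition (f := a') (g := b') =≫ pullback.snd f (a ≫ f)
      rwa [Category.assoc, Category.assoc, ha2, hb2, Category.comp_id, Category.comp_id] at this
    have hw : pullback.fst a' b' ≫ a = pullback.fst a' b' ≫ b := by
      have := pullback.condition (f := a') (g := b') =≫ pullback.fst f (a ≫ f)
      rw [Category.assoc, Category.assoc, ha1, hb1, ← h12] at this
      exact this
    -- the comparison map to the equalizer is a split epimorphism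
    let r : pullback a' b' ⟶ equalizer a b := equalizer.lift (pullback.fst a' b') hw
    have hι : equalizer.ι a b ≫ a' = equalizer.ι a b ≫ b' := by
      apply pullback.hom_ext
      · rw [Category.assoc, Category.assoc, ha1, hb1, equalizer.condition]
      · rw [Category.assoc, Category.assoc, ha2, hb2]
    let s : equalizer a b ⟶ pullback a' b' :=
      pullback.lift (equalizer.ι a b) (equalizer.ι a b) hι
    have hsr : s ≫ r = 𝟙 _ := by
      apply equalizer.hom_ext
      rw [Category.assoc, equalizer.lift_ι, pullback.lift_fst, Category.id_comp]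
    haveI : IsSplitEpi r := IsSplitEpi.mk' ⟨s, hsr⟩
    exact isQC_of_epi r hP

end Groth.Agent.S5587
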