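import Groth.Statements.S5588
import Groth.Agent.Lib.Helper74.ToposFP

set_option autoImplicit false
open CategoryTheory CategoryTheory.Limits Opposite
universe u
open ToposFin


namespace Groth.Agent.S5588.Aux

open Groth.Agent.Lib.Helper28 Groth.Agent.Lib.Helper74.ToposFilt Groth.Agent.Lib.Helper74.ToposFP

variable {C : Type u} [SmallCategory C] {J : GrothendieckTopology C} (S : Set (ToposFin.Sh J))
  (hiso : ∀ ⦃K L : ToposFin.Sh J⦄, K ∈ S → Nonempty (K ≅ L) → L ∈ S)
  (hcolim : ∀ (K : Type) [SmallCategory K] [FinCategory K] (D : K ⥤ ToposFin.Sh J),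
    (∀ k, D.obj k ∈ S) → colimit D ∈ S)

include hiso hcolim in
/-- finite coproducts of members of `S` are in `S` -/
lemma sigma_mem {κ : Type u} [Finite κ] (M : κ → ToposFin.Sh J) (hM : ∀ k, M k ∈ S) :
    (∐ M) ∈ S := by
  obtain ⟨n, ⟨e⟩⟩ := Finite.exists_equiv_fin κ
  have h1 : colimit (Discrete.functor (M ∘ e.symm)) ∈ S :=
    hcolim (Discrete (Fin n)) _ (fun k => hM _)
  exact hiso h1 ⟨Sigma.reindex e.symm M⟩

include hcolim in
/-- coequalizers of members of `S` are in `S` -/
lemma coequalizer_mem {L P : ToposFin.Sh J} (a b : L ⟶ P) (hL : L ∈ S) (hP : P ∈ S) :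
    coequalizer a b ∈ S :=
  hcolim WalkingParallelPair (parallelPair a b) (by rintro (_ | _) <;> assumption)

include hiso hcolim in
/-- coherent objects are in `S` -/
lemma mem_of_isCoherent (hgen : ToposFin.IsGenerating S) {X : ToposFin.Sh J}
    (hqc : ∀ K ∈ S, ToposFin.IsQC K) (hX : ToposFin.IsCoherent X) : X ∈ S := by
  obtain ⟨κ, _, M, μ, hM, hμ⟩ := exists_finite_cover hgen hX.1
  have hP : (∐ M) ∈ S := sigma_mem S hiso hcolim M hM
  have hμepi : Epi (Sigma.desc μ) := (epi_sigmaDesc_iff μ).mpr hμ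
  have hR : ToposFin.IsQC (pullback (Sigma.desc μ) (Sigma.desc μ)) :=
    hX.2 _ _ _ _ (hqc _ hP) (hqc _ hP)
  obtain ⟨κ', _, N, ν, hN, hν⟩ := exists_finite_cover hgen hR
  have hL : (∐ N) ∈ S := sigma_mem S hiso hcolim N hN
  have hνepi : Epi (Sigma.desc ν) := (epi_sigmaDesc_iff ν).mpr hν
  have hcol := isColimitCoforkOfEpiCover (Sigma.desc μ) (Sigma.desc ν)
  have hmem := coequalizer_mem S hcolim (Sigma.desc ν ≫ pullback.fst _ _)
    (Sigma.desc ν ≫ pullback.snd _ _) hL hP
  exact hiso hmem ⟨IsColimit.coconePointUniqueUpToIso (coequalizerIsCoequalizer _ _) hcol⟩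

end Groth.Agent.S5588.Aux

namespace Groth.Agent.S5588

/-- (ii) implies (i), for the topos of sheaves of sets on a small site: let S be an isomorphism-closed
generating set of quasi-compact objects, stable under finite colimits and under fibre products. Then
S is the set of all coherent objects (so the topos is locally coherent), and every object X for
which Hom(X, -) commutes with small filtered colimits is coherent. -/
theorem result {C : Type u} [SmallCategory C]
    {J : GrothendieckTopology C} (S : Set (ToposFin.Sh J)) (hqc : ∀ K ∈ S, ToposFin.IsQC K)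
    (hiso : ∀ ⦃K L : ToposFin.Sh J⦄, K ∈ S → Nonempty (K ≅ L) → L ∈ S)
    (hgen : ToposFin.IsGenerating S) (hpb : ToposFin.ClosedUnderPullbacks S)
    (hcolim : ∀ (K : Type) [SmallCategory K] [FinCategory K] (D : K ⥤ ToposFin.Sh J),
      (∀ k, D.obj k ∈ S) → colimit D ∈ S) :
    (∀ X : ToposFin.Sh J, X ∈ S ↔ ToposFin.IsCoherent X) ∧
    (∀ X : ToposFin.Sh J, ToposFin.IsFP X → ToposFin.IsCoherent X) := by
  open Groth.Agent.Lib.Helper28 Groth.Agent.Lib.Helper74.ToposFP in
  have hcoh : ∀ K ∈ S, ToposFin.IsCoherent K := fun K hK => isCoherent_of_mem hqc hgen hpb hK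
  have hE : ToposFin.HasCoherentGenerators J := by
    intro X
    obtain ⟨ι, F, π, hF, hπ⟩ := hgen X
    exact ⟨ι, F, π, fun i => hcoh _ (hF i), (epi_sigmaDesc_iff π).mpr hπ⟩
  refine ⟨fun X => ⟨hcoh X, Aux.mem_of_isCoherent S hiso hcolim hgen hqc⟩, fun X hX => ?_⟩
  obtain ⟨X₀, X₁, a, b, i, p, h₀, h₁, hip⟩ := exists_retract_of_isFP hE hX
  have hmem : coequalizer a b ∈ S :=
    Aux.coequalizer_mem S hcolim a b (Aux.mem_of_isCoherent S hiso hcolim hgen hqc h₁)
      (Aux.mem_of_isCoherent S hiso hcolim hgen hqc h₀)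
  exact isCoherent_of_retract i p hip (hcoh _ hmem)

end Groth.Agent.S5588
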