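import Groth.Statements.S5590
import Groth.Agent.Lib.Helper28.ToposFin4

set_option autoImplicit false
open CategoryTheory CategoryTheory.Limits Opposite
universe u
open ToposFin
open Groth.Agent.Lib.Helper28

namespace Groth.Agent.S5590

/-- Let f be a morphism of topoi of sheaves of sets on small sites, with inverse image functor F (left
adjoint, preserving finite limits); let S be a generating set of coherent objects of the target
topos and assume the source topos admits a generating family of quasi-compact objects. Then f is
coherent, i.e. F carries quasi-compact objects to quasi-compact objects and quasi-separated objects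
to quasi-separated objects, if and only if F(X) is coherent for every X in S. -/
theorem result {C D : Type u} [SmallCategory C] [SmallCategory D]
    {J : GrothendieckTopology C} {K : GrothendieckTopology D}
    (F : ToposFin.Sh K ⥤ ToposFin.Sh J) (R : ToposFin.Sh J ⥤ ToposFin.Sh K) (adj : F ⊣ R)
    [PreservesFiniteLimits F]
    (hE' : ToposFin.HasQCGenerators J)
    (S : Set (ToposFin.Sh K)) (hS : ∀ X ∈ S, ToposFin.IsCoherent X) (hgen : ToposFin.IsGenerating S) :
    ((∀ X : ToposFin.Sh K, ToposFin.IsQC X → ToposFin.IsQC (F.obj X)) ∧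
      (∀ X : ToposFin.Sh K, ToposFin.IsQS X → ToposFin.IsQS (F.obj X))) ↔
      ∀ X ∈ S, ToposFin.IsCoherent (F.obj X) := by
  constructor
  · rintro ⟨h1, h2⟩ X hX
    exact ⟨h1 X (hS X hX).1, h2 X (hS X hX).2⟩
  · intro h
    have hqcF : ∀ X : ToposFin.Sh K, ToposFin.IsQC X → ToposFin.IsQC (F.obj X) := by
      intro X hX
      obtain ⟨κ, _, G, π, hG, hπ⟩ := exists_finite_cover hgen hX
      exact isQC_of_finite_cover (fun k => F.map (π k)) (hπ.map_of_adjunction adj)
        (fun k => (h _ (hG k)).1)
    refine ⟨hqcF, ?_⟩
    intro X hX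
    obtain ⟨ι, G, π, hG, hπ⟩ := hgen X
    have hπ' : JointlyEpi π := hπ
    refine isQS_of_cover (S := {K : ToposFin.Sh J | ToposFin.IsQC K}) (fun K hK => hK)
      (isGenerating_of_hasQCGenerators hE') (fun i => F.map (π i))
      (hπ'.map_of_adjunction adj) (fun i => (h _ (hG i)).2) (fun i j => ?_)
    exact isQC_of_iso (PreservesPullback.iso F (π i) (π j))
      (hqcF _ (hX _ _ (π i) (π j) (hS _ (hG i)).1 (hS _ (hG j)).1))

end Groth.Agent.S5590
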