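import Groth.Statements.S5608
import Groth.Agent.Lib.Helper28.PCohJ
import Groth.Agent.Lib.Helper28.PCohF

set_option autoImplicit false
universe w v u
open CategoryTheory CategoryTheory.Limits
open PCoh

open Groth.Agent.Lib.Helper28

namespace Groth.Agent.S5608

/-- Punctual site: let C be an abelian category and C₀ a strictly full additive subcategory,
quasi-liftable in C, whose objects are C₀-coherent (of C₀-finite type, and every morphism from an
object of C₀ into them has kernel of C₀-finite type). For F ∈ D(C) with bounded above cohomology and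
n an integer: F is n-pseudo-coherent (isomorphic to a strictly n-pseudo-coherent complex) if and
only if H^n(F) is of C₀-finite type and H^i(F) is C₀-coherent for every i > n. -/
theorem result {C : Type u} [Category.{v} C] [Abelian C] [HasDerivedCategory.{w} C]
    (P : ObjectProperty C) [P.IsClosedUnderIsomorphisms] [P.ContainsZero] (hsum : ∀ X Y : C, P X → P Y → P (X ⨯ Y))
    (hql : PCoh.IsQuasiLiftable P)
    (hcoh : ∀ (X E : C) (u : E ⟶ X), P X → P E → PCoh.IsOfFiniteType P (kernel u))
    (n : ℤ) (F : DerivedCategory C) (b : ℤ) (hb : ∀ i : ℤ, b < i → IsZero ((DerivedCategory.homologyFunctor C i).obj F)) :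
    (∃ E : CochainComplex C ℤ, PCoh.IsStrictPC P n E ∧ Nonempty (DerivedCategory.Q.obj E ≅ F)) ↔
      (PCoh.IsOfFiniteType P ((DerivedCategory.homologyFunctor C n).obj F) ∧
        ∀ i : ℤ, n < i → (PCoh.IsOfFiniteType P ((DerivedCategory.homologyFunctor C i).obj F) ∧
          ∀ (E : C) (u : E ⟶ (DerivedCategory.homologyFunctor C i).obj F), P E → PCoh.IsOfFiniteType P (kernel u))) := by
  have hqs := PC.quasiStable_of_coherent P hcoh
  constructor
  · rintro ⟨E, ⟨hbd, hP⟩, ⟨e⟩⟩
    have hiso : ∀ i, (DerivedCategory.homologyFunctor C i).obj F ≅ E.homology i := fun i =>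
      (DerivedCategory.homologyFunctor C i).mapIso e.symm ≪≫ PC.homologyQIso E i
    have hcyc_ft : ∀ i, n ≤ i → PCoh.IsOfFiniteType P (E.cycles i) := fun i hi =>
      PC.IsOfFiniteType.of_iso (PC.cyclesIsoKernel E i).symm
        (hcoh _ _ (E.d i (i + 1)) (hP (i + 1) (by omega)) (hP i hi))
    have hH_ft : ∀ i, n ≤ i → PCoh.IsOfFiniteType P (E.homology i) := fun i hi =>
      PC.IsOfFiniteType.of_epi (E.homologyπ i) (hcyc_ft i hi)
    refine ⟨PC.IsOfFiniteType.of_iso (hiso n).symm (hH_ft n le_rfl), fun i hi =>
      ⟨PC.IsOfFiniteType.of_iso (hiso i).symm (hH_ft i hi.le), ?_⟩⟩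
    have hpre_cyc : PC.Precoh P (E.cycles i) :=
      PC.Precoh.of_mono (E.iCycles i) (PC.precoh_of_prop hcoh (hP i hi.le))
    let S : ShortComplex C := ShortComplex.mk (E.toCycles (i - 1) i) (E.homologyπ i) (by simp)
    have hS : S.Exact :=
      ShortComplex.exact_of_g_is_cokernel _ (E.homologyIsCokernel (i - 1) i (by simp))
    have : Epi S.g := inferInstanceAs (Epi (E.homologyπ i))
    have hpre : PC.Precoh P (E.homology i) :=
      PC.precoh_of_exact_epi P hsum hql S hS
        (PC.IsOfFiniteType.of_prop (hP (i - 1) (by omega))) hpre_cyc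
    exact PC.Precoh.of_iso (hiso i).symm hpre
  · rintro ⟨hn, hi⟩
    refine PC.npc_of_homology_aux P hsum hqs hql n (b - n + 1).toNat b (by omega) F hb ?_
    intro i hni
    rcases hni.eq_or_lt with rfl | hlt
    · rw [sub_self]
      refine PC.npc_of_finiteType_top P hsum hql _ _ ?_ ?_
      · simpa using PC.acycGT_Q_cell _ 0
      · simpa using PC.IsOfFiniteType.of_iso (PC.homologySingleIso _ 0).symm hn
    · obtain ⟨h1, h2⟩ := hi i hlt
      have h := PC.npc_single₀_of_coherent P hsum hql hcoh (i - n).toNat _ h1 h2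
      have hh : -(((i - n).toNat : ℕ) : ℤ) = n - i := by
        rw [Int.toNat_of_nonneg (by omega)]; ring
      rw [hh] at h
      exact h

end Groth.Agent.S5608
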