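import Groth.Statements.S5612
import Groth.Agent.Lib.Helper35.TorDim
import Groth.Agent.Lib.Helper35.PerfDescent

set_option autoImplicit false
universe u
open CategoryTheory CategoryTheory.Limits
attribute [local instance] HasDerivedCategory.standard
open DRing

namespace Groth.Agent.S5612

/-- Let A be a commutative ring all of whose modules have finite tor dimension (for instance A of finite
global dimension) and K ∈ D(A). (i) K has finite tor dimension if and only if K has bounded
cohomology. (ii) K is perfect if and only if K has bounded cohomology and is pseudo-coherent. -/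
theorem result {A : Type u} [CommRing A]
    (hA : ∀ (M : Type u) [AddCommGroup M] [Module A M], DRing.HasFiniteTorDim A M) (K : Dual.D A) :
    (DRing.HasFiniteTorDimCx A K ↔ ∃ a b : ℤ, ∀ i : ℤ, i < a ∨ b < i → Subsingleton (Dual.HD A K i)) ∧
      (DRing.IsPerfect A K ↔
        (∃ a b : ℤ, ∀ i : ℤ, i < a ∨ b < i → Subsingleton (Dual.HD A K i)) ∧ DRing.IsPseudoCoherent' A K) := by
  have key : (∃ a b : ℤ, ∀ i : ℤ, i < a ∨ b < i → Subsingleton (Dual.HD A K i)) →
      DRing.HasFiniteTorDimCx A K := by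
    rintro ⟨a, b, hab⟩
    choose d hd using fun i : ℤ => hA (Dual.HD A K i)
    have hd' : ∀ i : ℤ, Groth.Agent.Lib.Helper35.TA.TAmp (-(d i : ℤ)) 0
        ((DerivedCategory.singleFunctor (ModuleCat.{u} A) 0).obj
          ((DerivedCategory.homologyFunctor (ModuleCat.{u} A) i).obj K)) := fun i =>
      (Groth.Agent.Lib.Helper35.TA.TD_iff_TAmp (d i) _).1
        ((Groth.Agent.Lib.Helper35.TA.hasTorDimLE_iff_TD (d i) (Dual.HD A K i)).1 (hd i))
    obtain ⟨D, hD⟩ := (Set.finite_range (fun i : Set.Icc a b => d i.1)).bddAbove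
    refine ⟨a - D, b, Groth.Agent.Lib.Helper35.TA.TAmp.of_bounded_homology (a - D) b K
      ⟨a, b, hab⟩ (fun i => ?_)⟩
    by_cases hi : a ≤ i ∧ i ≤ b
    · have hle : d i ≤ D := hD ⟨⟨i, hi⟩, rfl⟩
      exact (hd' i).mono (by omega) (by omega)
    · have : Subsingleton (Dual.HD A K i) := hab i (by omega)
      exact Groth.Agent.Lib.Helper35.TA.TAmp.of_isZero
        (CategoryTheory.Functor.map_isZero _ (ModuleCat.isZero_of_subsingleton _))
  have bdd : ∀ a b : ℤ, DRing.HasTorAmplitudeIn A a b K →
      ∀ i : ℤ, i < a ∨ b < i → Subsingleton (Dual.HD A K i) := by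
    intro a b h i hi
    have h1 : K.IsGE a := Groth.Agent.Lib.Helper35.TA.TAmp.isGE h
    have h2 : K.IsLE b := Groth.Agent.Lib.Helper35.TA.TAmp.isLE h
    apply ModuleCat.subsingleton_of_isZero
    rcases hi with hi | hi
    · exact K.isZero_of_isGE a i hi
    · exact K.isZero_of_isLE b i hi
  constructor
  · constructor
    · rintro ⟨a, b, h⟩
      exact ⟨a, b, bdd a b h⟩
    · exact key
  · constructor
    · intro h
      obtain ⟨a, b, hab⟩ := Groth.Agent.Lib.Helper35.TA.TAmp_of_isPerfect h
      exact ⟨⟨a, b, bdd a b hab⟩, Groth.Agent.Lib.Helper35.KL.isPseudoCoherent'_of_isPerfect h⟩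
    · rintro ⟨hb, hpc⟩
      obtain ⟨a, b, hab⟩ := key hb
      exact Groth.Agent.Lib.Helper35.TA.isPerfect_of_isPseudoCoherent'_of_TAmp K hpc a b hab

end Groth.Agent.S5612
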