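import Groth.Statements.S5613
import Groth.Agent.Lib.Helper28.KZeroTri

set_option autoImplicit false
universe v u
open CategoryTheory CategoryTheory.Limits CategoryTheory.Pretriangulated
open KZero

namespace Groth.Agent.S5613

open Groth.Agent.Lib.Helper28

section swindle

variable {C : Type u} [Category.{v} C] [Preadditive C] [HasZeroObject C]
    [HasShift C ℤ] [∀ n : ℤ, (shiftFunctor C n).Additive] [Pretriangulated C]
    (L : C) (n : ℤ)

/-- the family `i ↦ L⟦2ni⟧` -/
abbrev fam (i : ℕ) : C := (shiftFunctor C (2 * n * (i : ℤ))).obj L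

/-- `L⟦2n(i+1)⟧ ≅ L⟦2ni⟧⟦2n⟧` -/
noncomputable def famIso (i : ℕ) :
    fam L n (i + 1) ≅ (shiftFunctor C (2 * n)).obj (fam L n i) :=
  (shiftFunctorAdd' C (2 * n * (i : ℤ)) (2 * n) (2 * n * ((i + 1 : ℕ) : ℤ))
    (by push_cast; rw [mul_add, mul_one])).app L

variable [HasCoproduct (fam L n)]

/-- the shifted coproduct is a coproduct of the shifted family -/
noncomputable def shiftedIsColimit :
    IsColimit (Cofan.mk ((shiftFunctor C (2 * n)).obj (∐ (fam L n)))
      (fun i => (shiftFunctor C (2 * n)).map (Sigma.ι (fam L n) i)) :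
        Cofan fun i => (shiftFunctor C (2 * n)).obj (fam L n i)) :=
  isColimitOfHasCoproductOfPreservesColimit (shiftFunctor C (2 * n)) (fam L n)

/-- the injections of the swindle cofan -/
noncomputable def swInj : ∀ i : ℕ,
    fam L n i ⟶ (fam L n 0) ⊞ (shiftFunctor C (2 * n)).obj (∐ (fam L n))
  | 0 => biprod.inl
  | (i + 1) => (famIso L n i).hom ≫ (shiftFunctor C (2 * n)).map (Sigma.ι (fam L n) i) ≫ biprod.inr

noncomputable def swCofan : Cofan (fam L n) :=
  Cofan.mk ((fam L n 0) ⊞ (shiftFunctor C (2 * n)).obj (∐ (fam L n))) (swInj L n)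

noncomputable def swIsColimit : IsColimit (swCofan L n) :=
  Cofan.IsColimit.mk (swCofan L n)
    (fun t => biprod.desc (t.inj 0)
      (Cofan.IsColimit.desc (shiftedIsColimit L n) (fun i => (famIso L n i).inv ≫ t.inj (i + 1))))
    (fun t j => by
      match j with
      | 0 =>
        change biprod.inl ≫ biprod.desc _ _ = _
        simp
      | (i + 1) =>
        change ((famIso L n i).hom ≫ (shiftFunctor C (2 * n)).map (Sigma.ι (fam L n) i) ≫ biprod.inr)
          ≫ biprod.desc _ _ = _
        simp only [Category.assoc, biprod.inr_desc]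
        have := Cofan.IsColimit.fac (shiftedIsColimit L n)
          (fun i => (famIso L n i).inv ≫ t.inj (i + 1)) i
        change (shiftFunctor C (2 * n)).map (Sigma.ι (fam L n) i) ≫ _ = _ at this
        rw [this, Iso.hom_inv_id_assoc])
    (fun t m hm => by
      apply biprod.hom_ext'
      · rw [biprod.inl_desc]
        exact hm 0
      · rw [biprod.inr_desc]
        apply Cofan.IsColimit.hom_ext (shiftedIsColimit L n)
        intro i
        rw [Cofan.IsColimit.fac]
        have h := hm (i + 1)
        change ((famIso L n i).hom ≫ (shiftFunctor C (2 * n)).map (Sigma.ι (fam L n) i) ≫ biprod.inr)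
          ≫ m = _ at h
        change (shiftFunctor C (2 * n)).map (Sigma.ι (fam L n) i) ≫ _ = _
        rw [← h]
        simp)

/-- the swindle isomorphism `M ≅ L⟦0⟧ ⊞ M⟦2n⟧`. -/
noncomputable def swIso :
    (∐ (fam L n)) ≅ (fam L n 0) ⊞ (shiftFunctor C (2 * n)).obj (∐ (fam L n)) :=
  IsColimit.coconePointUniqueUpToIso (coproductIsCoproduct (fam L n)) (swIsColimit L n)

end swindle

/-- Let C be a pretriangulated category, L an object of C and n an integer such that the coproduct ∐_{i
≥ 0} L⟦2ni⟧ exists in C. Then cl(L) = 0 in K₀(C). -/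
theorem result {C : Type u} [Category.{v} C] [Preadditive C] [HasZeroObject C]
    [HasShift C ℤ] [∀ n : ℤ, (shiftFunctor C n).Additive] [Pretriangulated C]
    (L : C) (n : ℤ) [HasCoproduct (fun i : ℕ => (shiftFunctor C (2 * n * (i : ℤ))).obj L)] :
    KZero.clTri L = 0 := by
  have h1 := clTri_of_iso (swIso L n)
  rw [clTri_biprod, clTri_shift_two_mul, clTri_shift_zero L _ (by simp)] at h1
  exact right_eq_add.mp h1

end Groth.Agent.S5613
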