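import Groth.Statements.S5616
import Groth.Agent.S1033
import Mathlib
-- import your own Groth.Agent.* helpers here

set_option autoImplicit false
universe w w' v v' u u'
open CategoryTheory CategoryTheory.Limits
open CohDer

namespace Groth.Agent.S5616

open CategoryTheory.Abelian in
lemma map_extClass_comp {A : Type u} [Category.{v} A] [Abelian A] [HasExt.{w} A]
    {B : Type u'} [Category.{v'} B] [Abelian B] [HasExt.{w'} B]
    (φ : A ⥤ B) [φ.Additive] [PreservesFiniteLimits φ] [PreservesFiniteColimits φ] {M : A}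
    {S : ShortComplex A} (hS : S.ShortExact) {n n' : ℕ} (y₁ : Ext.{w} S.X₁ M n) (h : 1 + n = n') :
    (hS.extClass.comp y₁ h).mapExactFunctor φ =
      (hS.map_of_exact φ).extClass.comp (y₁.mapExactFunctor φ) h := by
  rw [Ext.mapExactFunctor_comp, Ext.mapExactFunctor_extClass]
  rfl

open CategoryTheory.Abelian in
lemma map_mk₀_comp {A : Type u} [Category.{v} A] [Abelian A] [HasExt.{w} A]
    {B : Type u'} [Category.{v'} B] [Abelian B] [HasExt.{w'} B]
    (φ : A ⥤ B) [φ.Additive] [PreservesFiniteLimits φ] [PreservesFiniteColimits φ] {M : A}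
    {X Y : A} (f : X ⟶ Y) {n : ℕ} (y : Ext.{w} Y M n) :
    ((Ext.mk₀ f).comp y (zero_add n)).mapExactFunctor φ =
      (Ext.mk₀ (φ.map f)).comp (y.mapExactFunctor φ) (zero_add n) := by
  rw [Ext.mapExactFunctor_comp, Ext.mapExactFunctor_mk₀]

open CategoryTheory.Abelian in
lemma bijective_map_iff {A : Type u} [Category.{v} A] [Abelian A] [HasExt.{w} A]
    {B : Type u'} [Category.{v'} B] [Abelian B] [HasExt.{w'} B]
    (φ : A ⥤ B) [φ.Additive] [PreservesFiniteLimits φ] [PreservesFiniteColimits φ] (L M : A) :
    Function.Bijective (fun f : L ⟶ M => φ.map f) ↔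
      Function.Bijective (fun f : Ext.{w} L M 0 => Ext.mapExactFunctor φ f) := by
  have hcomm : (Ext.mk₀ : (φ.obj L ⟶ φ.obj M) → Ext.{w'} (φ.obj L) (φ.obj M) 0) ∘
      (fun f : L ⟶ M => φ.map f) =
      (fun f : Ext.{w} L M 0 => Ext.mapExactFunctor φ f) ∘ (Ext.mk₀ : (L ⟶ M) → Ext.{w} L M 0) := by
    funext f
    simp only [Function.comp_apply]
    rw [Ext.mapExactFunctor_mk₀]
  rw [← Function.Bijective.of_comp_iff' (Ext.mk₀_bijective (φ.obj L) (φ.obj M)), hcomm,
    Function.Bijective.of_comp_iff _ (Ext.mk₀_bijective L M)]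


/-- Let φ : A ⥤ B be an exact functor of abelian categories and M an object of A. The following are
equivalent: (i) for every L in A and every n, the map Ext^n_A(L, M) → Ext^n_B(φ L, φ M) induced by φ
is bijective; (ii) for every L the map Hom_A(L, M) → Hom_B(φ L, φ M) is bijective, and for every L,
every n ≥ 1 and every x ∈ Ext^n_B(φ L, φ M) there is an epimorphism L' ⟶ L of A such that x
precomposed with its image under φ vanishes. -/
theorem result
    {A : Type u} [Category.{v} A] [Abelian A] [HasExt.{w} A]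
    {B : Type u'} [Category.{v'} B] [Abelian B] [HasExt.{w'} B]
    (φ : A ⥤ B) [φ.Additive] [PreservesFiniteLimits φ] [PreservesFiniteColimits φ] (M : A) :
    (∀ (L : A) (n : ℕ), Function.Bijective (fun f : Abelian.Ext.{w} L M n => Abelian.Ext.mapExactFunctor φ f)) ↔
      ((∀ L : A, Function.Bijective (fun f : L ⟶ M => φ.map f)) ∧
        ∀ (L : A) (n : ℕ), 1 ≤ n → ∀ x : Abelian.Ext.{w'} (φ.obj L) (φ.obj M) n,
          ∃ (L' : A) (p : L' ⟶ L), Epi p ∧ (Abelian.Ext.mk₀ (φ.map p)).comp x (zero_add n) = 0) := by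
  have hadd : ∀ (L : A) (n : ℕ) (f g : Abelian.Ext.{w} L M n),
      Abelian.Ext.mapExactFunctor φ (f - g) =
        Abelian.Ext.mapExactFunctor φ f - Abelian.Ext.mapExactFunctor φ g := by
    intro L n f g
    exact map_sub (φ.mapExtAddHom L M n) f g
  constructor
  · intro hi
    refine ⟨fun L => ?_, fun L n hn x => ?_⟩
    · exact (bijective_map_iff φ L M).mpr (hi L 0)
    · obtain ⟨k, rfl⟩ : ∃ k, n = k + 1 := ⟨n - 1, by omega⟩
      obtain ⟨y, rfl⟩ := (hi L (k + 1)).2 x
      obtain ⟨L', p, hp, hpy⟩ := Groth.Agent.S1033.ext_effaceable y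
      refine ⟨L', p, hp, ?_⟩
      have := congrArg (Abelian.Ext.mapExactFunctor φ) hpy
      rw [map_mk₀_comp, Abelian.Ext.mapExactFunctor_zero] at this
      exact this
  · rintro ⟨h0, heff⟩
    intro L n
    induction n generalizing L with
    | zero => exact (bijective_map_iff φ L M).mp (h0 L)
    | succ n ih =>
      constructor
      · -- injective
        intro y y' hyy'
        have hz : Abelian.Ext.mapExactFunctor φ (y - y') = 0 := by
          rw [hadd]; exact sub_eq_zero.mpr hyy'
        suffices h : y - y' = 0 from sub_eq_zero.mp h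
        generalize y - y' = z at hz
        obtain ⟨L', p, hp, hpz⟩ := Groth.Agent.S1033.ext_effaceable z
        let S : ShortComplex A := ShortComplex.mk (Limits.kernel.ι p) p (Limits.kernel.condition p)
        have hS : S.ShortExact :=
          { exact := ShortComplex.exact_kernel p
            mono_f := inferInstanceAs (Mono (Limits.kernel.ι p))
            epi_g := hp }
        have hS' := hS.map_of_exact φ
        obtain ⟨y₁, hy₁⟩ := Abelian.Ext.contravariant_sequence_exact₃ hS M z hpz (n₀ := n) (by omega)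
        have hφy₁ : hS'.extClass.comp (Abelian.Ext.mapExactFunctor φ y₁) (by omega : 1 + n = n + 1) = 0 := by
          rw [← map_extClass_comp φ hS y₁, hy₁, hz]
          rfl
        obtain ⟨x₂, hx₂⟩ := Abelian.Ext.contravariant_sequence_exact₁ hS' (φ.obj M) _ _ hφy₁
        obtain ⟨w₂, rfl⟩ := (ih L').2 x₂
        have h3 : Abelian.Ext.mapExactFunctor φ ((Abelian.Ext.mk₀ S.f).comp w₂ (zero_add n)) =
            Abelian.Ext.mapExactFunctor φ y₁ := by
          rw [map_mk₀_comp]
          exact hx₂
        have h4 := (ih _).1 h3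
        rw [← hy₁, ← h4]
        exact hS.extClass_comp_assoc w₂
      · -- surjective
        intro x
        obtain ⟨L', p, hp, hpx⟩ := heff L (n + 1) (by omega) x
        let S : ShortComplex A := ShortComplex.mk (Limits.kernel.ι p) p (Limits.kernel.condition p)
        have hS : S.ShortExact :=
          { exact := ShortComplex.exact_kernel p
            mono_f := inferInstanceAs (Mono (Limits.kernel.ι p))
            epi_g := hp }
        have hS' := hS.map_of_exact φ
        obtain ⟨x₁, hx₁⟩ := Abelian.Ext.contravariant_sequence_exact₃ hS' (φ.obj M) x hpx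
          (n₀ := n) (by omega)
        obtain ⟨y₁, rfl⟩ := (ih _).2 x₁
        refine ⟨hS.extClass.comp y₁ (by omega), ?_⟩
        change Abelian.Ext.mapExactFunctor φ (hS.extClass.comp y₁ _) = x
        rw [map_extClass_comp]
        exact hx₁

end Groth.Agent.S5616
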