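import Groth.Statements.S5624
import Mathlib.CategoryTheory.Abelian.Refinements

set_option autoImplicit false
universe v u
open CategoryTheory CategoryTheory.Limits
open PCoh

namespace Groth.Agent.S5624

/-- Punctual site: let C be an abelian category and C₀ a strictly full additive subcategory,
quasi-liftable in C, and let 0 → F → G → H → 0 be a short exact sequence. If F and H are precoherent
relative to C₀ then G is precoherent; if F and H are of C₀-finite type then G is of C₀-finite type. -/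
theorem result {C : Type u} [Category.{v} C] [Abelian C]
    (P : ObjectProperty C) [P.IsClosedUnderIsomorphisms] [P.ContainsZero] (hsum : ∀ X Y : C, P X → P Y → P (X ⨯ Y))
    (hql : PCoh.IsQuasiLiftable P)
    (S : ShortComplex C) (hS : S.ShortExact) :
    ((∀ (E : C) (u : E ⟶ S.X₁), P E → PCoh.IsOfFiniteType P (kernel u)) → (∀ (E : C) (u : E ⟶ S.X₃), P E → PCoh.IsOfFiniteType P (kernel u)) →
        (∀ (E : C) (u : E ⟶ S.X₂), P E → PCoh.IsOfFiniteType P (kernel u))) ∧
      (PCoh.IsOfFiniteType P S.X₁ → PCoh.IsOfFiniteType P S.X₃ → PCoh.IsOfFiniteType P S.X₂) := by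
  have hmono : Mono S.f := hS.mono_f
  have hepi : Epi S.g := hS.epi_g
  have hex : S.Exact := hS.exact
  constructor
  · intro h₁ h₃ E u hE
    -- K' = ker (u ≫ g)
    obtain ⟨E', e', hE', he'⟩ := h₃ E (u ≫ S.g) hE
    have h0 : (kernel.ι (u ≫ S.g) ≫ u) ≫ S.g = 0 := by
      rw [Category.assoc, kernel.condition]
    let φ : kernel (u ≫ S.g) ⟶ S.X₁ := hex.lift (kernel.ι (u ≫ S.g) ≫ u) h0
    have hφ : φ ≫ S.f = kernel.ι (u ≫ S.g) ≫ u := hex.lift_f _ _
    obtain ⟨E'', e'', hE'', he''⟩ := h₁ E' (e' ≫ φ) hE'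
    have h1 : (kernel.ι (e' ≫ φ) ≫ e' ≫ kernel.ι (u ≫ S.g)) ≫ u = 0 := by
      rw [Category.assoc, Category.assoc, ← hφ, ← Category.assoc e', ← Category.assoc,
        kernel.condition, zero_comp]
    let ψ : kernel (e' ≫ φ) ⟶ kernel u := kernel.lift u (kernel.ι (e' ≫ φ) ≫ e' ≫ kernel.ι (u ≫ S.g)) h1
    have hψ : ψ ≫ kernel.ι u = kernel.ι (e' ≫ φ) ≫ e' ≫ kernel.ι (u ≫ S.g) := kernel.lift_ι _ _ _
    have hψepi : Epi ψ := by
      rw [epi_iff_surjective_up_to_refinements]
      intro A x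
      have hx0 : (x ≫ kernel.ι u) ≫ (u ≫ S.g) = 0 := by
        rw [Category.assoc, kernel.condition_assoc, zero_comp, comp_zero]
      let x' : A ⟶ kernel (u ≫ S.g) := kernel.lift _ (x ≫ kernel.ι u) hx0
      have hx' : x' ≫ kernel.ι (u ≫ S.g) = x ≫ kernel.ι u := kernel.lift_ι _ _ _
      obtain ⟨A', p, hp, y, hy⟩ := surjective_up_to_refinements_of_epi e' x'
      have hx'φ : x' ≫ φ = 0 := by
        rw [← cancel_mono S.f, Category.assoc, hφ, ← Category.assoc, hx', Category.assoc,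
          kernel.condition, comp_zero, zero_comp]
      have hy0 : y ≫ (e' ≫ φ) = 0 := by
        rw [← Category.assoc, ← hy, Category.assoc, hx'φ, comp_zero]
      refine ⟨A', p, hp, kernel.lift _ y hy0, ?_⟩
      rw [← cancel_mono (kernel.ι u), Category.assoc, Category.assoc, hψ, kernel.lift_ι_assoc,
        ← Category.assoc y, ← hy, Category.assoc, hx']
    exact ⟨E'', e'' ≫ ψ, hE'', epi_comp _ _⟩
  · rintro ⟨E₁, e₁, hE₁, he₁⟩ ⟨E₃, e₃, hE₃, he₃⟩
    -- lift E₃ → H to G after refinement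
    have hsnd : Epi (pullback.snd S.g e₃) := inferInstance
    obtain ⟨E₃', v, hE₃', hv⟩ := hql _ _ (pullback.snd S.g e₃) hsnd hE₃
    let b : E₃' ⟶ S.X₂ := v ≫ pullback.fst S.g e₃
    have hb : b ≫ S.g = (v ≫ pullback.snd S.g e₃) ≫ e₃ := by
      simp only [b, Category.assoc, pullback.condition]
    have hbepi : Epi (b ≫ S.g) := by
      rw [hb]
      exact epi_comp _ _
    refine ⟨E₁ ⨯ E₃', prod.fst ≫ e₁ ≫ S.f + prod.snd ≫ b, hsum _ _ hE₁ hE₃', ?_⟩
    rw [epi_iff_surjective_up_to_refinements]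
    intro A x
    obtain ⟨A', p, hp, y, hy⟩ := surjective_up_to_refinements_of_epi (b ≫ S.g) (x ≫ S.g)
    have h0 : (p ≫ x - y ≫ b) ≫ S.g = 0 := by
      rw [Preadditive.sub_comp, Category.assoc, Category.assoc, hy, sub_self]
    let w : A' ⟶ S.X₁ := hex.lift _ h0
    have hw : w ≫ S.f = p ≫ x - y ≫ b := hex.lift_f _ _
    obtain ⟨A'', q, hq, z, hz⟩ := surjective_up_to_refinements_of_epi e₁ w
    refine ⟨A'', q ≫ p, epi_comp _ _, prod.lift z (q ≫ y), ?_⟩
    rw [Preadditive.comp_add, prod.lift_fst_assoc, prod.lift_snd_assoc, ← Category.assoc z, ← hz,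
      Category.assoc q w, hw, Preadditive.comp_sub, Category.assoc q y b, Category.assoc q p x]
    abel

end Groth.Agent.S5624
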