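import Groth.Statements.S5625
import Mathlib
import Groth.Agent.Lib.Helper49.QcqsModules
import Groth.Agent.Lib.Helper16.FlatPull.Chart

set_option autoImplicit false
universe u
open CategoryTheory AlgebraicGeometry
open QCohCat

namespace Groth.Agent.S5625

/-- Let f : X ⟶ Y be a morphism of quasi-compact quasi-separated schemes and Q_X, Q_Y coherators (right
adjoints of the inclusions QCoh ⥤ Mod) on X and Y. Then Q_Y ∘ f_* and f_* ∘ Q_X agree: the two
composite functors Mod(O_X) ⥤ Mod(O_Y) are naturally isomorphic (existence of a natural isomorphism;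
the source's isomorphism is the canonical one between two right adjoints of the same functor). -/
theorem result {X Y : Scheme.{u}} [CompactSpace X] [QuasiSeparatedSpace X]
    [CompactSpace Y] [QuasiSeparatedSpace Y] (f : X ⟶ Y)
    (QX : X.Modules ⥤ QCohCat.QCoh X) (adjX : (QCohCat.isQCoh X).ι ⊣ QX)
    (QY : Y.Modules ⥤ QCohCat.QCoh Y) (adjY : (QCohCat.isQCoh Y).ι ⊣ QY) :
    Nonempty ((QX ⋙ (QCohCat.isQCoh X).ι ⋙ Scheme.Modules.pushforward f) ≅
      (Scheme.Modules.pushforward f ⋙ QY ⋙ (QCohCat.isQCoh Y).ι)) := by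
  let ιX := (QCohCat.isQCoh X).ι
  let ιY := (QCohCat.isQCoh Y).ι
  -- restricted pullback and pushforward
  let pQ : QCohCat.QCoh Y ⥤ QCohCat.QCoh X :=
    ObjectProperty.lift _ (ιY ⋙ Scheme.Modules.pullback f) (fun M => by
      have : (M.obj).IsQuasicoherent := M.property
      exact Groth.Agent.Lib.Helper16.FlatPull.isQuasicoherent_pullback f M.obj)
  let qQ : QCohCat.QCoh X ⥤ QCohCat.QCoh Y :=
    ObjectProperty.lift _ (ιX ⋙ Scheme.Modules.pushforward f) (fun M => by
      have : (M.obj).IsQuasicoherent := M.property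
      exact Groth.Agent.Lib.Helper49.isQuasicoherent_pushforward M.obj f)
  let c1 : ιY ⋙ Scheme.Modules.pullback f ≅ pQ ⋙ ιX := (ObjectProperty.liftCompιIso _ _ _).symm
  let c2 : ιX ⋙ Scheme.Modules.pushforward f ≅ qQ ⋙ ιY := (ObjectProperty.liftCompιIso _ _ _).symm
  let adjQ : pQ ⊣ qQ :=
    (Scheme.Modules.pullbackPushforwardAdjunction f).restrictFullyFaithful
      (ObjectProperty.fullyFaithfulι _) (ObjectProperty.fullyFaithfulι _) c1 c2
  -- two right adjoints of the same functor
  let adj1 : pQ ⋙ ιX ⊣ QX ⋙ qQ := adjQ.comp adjX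
  let adj2 : ιY ⋙ Scheme.Modules.pullback f ⊣ Scheme.Modules.pushforward f ⋙ QY :=
    adjY.comp (Scheme.Modules.pullbackPushforwardAdjunction f)
  let e : QX ⋙ qQ ≅ Scheme.Modules.pushforward f ⋙ QY :=
    (adj1.ofNatIsoLeft c1.symm).rightAdjointUniq adj2
  exact ⟨Functor.isoWhiskerLeft QX c2 ≪≫ (Functor.associator _ _ _).symm ≪≫
    Functor.isoWhiskerRight e ιY ≪≫ Functor.associator _ _ _⟩

end Groth.Agent.S5625
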