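import Mathlib
import Groth.Statements.S5643
import Groth.Agent.Lib.Helper49.K0Coh

set_option autoImplicit false
universe u
open CategoryTheory CategoryTheory.Limits AlgebraicGeometry
open Classical
open SGA6

namespace Groth.Agent.S5643

/-- Let X be a Noetherian scheme and K the Grothendieck group of coherent O_X-modules. For every n, the
subgroup of K generated by the classes of coherent modules whose support has dimension ≤ n coincides
with the subgroup generated by the classes [O_Z] of the structure sheaves (as O_X-modules) of the
integral closed subschemes Z ⊆ X of dimension ≤ n, Z running over the reduced closures of points of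
X. -/
theorem result (X : Scheme.{u}) [IsNoetherian X] (n : ℕ) :
    AddSubgroup.closure {c : KZero.K0sub (fun M : X.Modules => Coh.IsCoh M) |
        ∃ G : X.Modules, Coh.IsCoh G ∧ topologicalKrullDim ↥(CohB1.support G) ≤ n ∧ c = KZero.clSub (fun M : X.Modules => Coh.IsCoh M) G} =
      AddSubgroup.closure {c : KZero.K0sub (fun M : X.Modules => Coh.IsCoh M) |
        ∃ x : ↥X, topologicalKrullDim ↥(closure ({x} : Set ↥X)) ≤ n ∧ c = KZero.clSub (fun M : X.Modules => Coh.IsCoh M) (Cyc.closureStructureSheaf x)} := by
  open Groth.Agent.Lib.Helper49.K0Coh in
  apply le_antisymm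
  · rw [AddSubgroup.closure_le]
    rintro c ⟨G, hG, hdim, rfl⟩
    refine clSub_mem_of_forall_closureStructureSheaf _ G hG ?_
    intro x hx
    refine AddSubgroup.subset_closure ⟨x, ?_, rfl⟩
    have hclosed : IsClosed (CohB1.support G) :=
      Groth.Agent.Lib.Helper1.isClosed_support_of_isFiniteType G hG.2
    have hsub : closure ({x} : Set ↥X) ⊆ CohB1.support G :=
      hclosed.closure_subset_iff.mpr (Set.singleton_subset_iff.mpr hx)
    exact (Topology.IsInducing.topologicalKrullDim_le
      (Topology.IsEmbedding.inclusion hsub).isInducing).trans hdim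
  · apply AddSubgroup.closure_mono
    rintro c ⟨x, hdim, rfl⟩
    refine ⟨Cyc.closureStructureSheaf x, isCoh_closureStructureSheaf x, ?_, rfl⟩
    rw [support_closureStructureSheaf]
    exact hdim

end Groth.Agent.S5643
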