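import Groth.Statements.S5656
import Mathlib

set_option autoImplicit false
universe u
open W4sga6xxiii

namespace Groth.Agent.S5656


/-- binomial form -/
def Bin (c : ℕ → ℚ) (N : ℕ) (t : ℤ) : ℚ :=
  ∑ k ∈ Finset.range N, ((Ring.choose t k : ℤ) : ℚ) * c k

def D (g : ℤ → ℚ) : ℤ → ℚ := fun t => g (t + 1) - g t
def Dq (q : ℕ) (g : ℤ → ℚ) : ℤ → ℚ := fun t => g (t + q) - g t
def Sq (q : ℕ) (g : ℤ → ℚ) : ℤ → ℚ := fun t => ∑ i ∈ Finset.range q, g (t + i)

theorem D_Bin (c : ℕ → ℚ) (N : ℕ) : D (Bin c (N + 1)) = Bin (fun k => c (k + 1)) N := by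
  funext t
  unfold D Bin
  rw [Finset.sum_range_succ', Finset.sum_range_succ' _ N]
  simp only [Ring.choose_succ_succ, Ring.choose_zero_right, Int.cast_add, add_mul,
    Finset.sum_add_distrib]
  ring

theorem D_zero : D (fun _ => (0 : ℚ)) = fun _ => 0 := by
  funext t; simp [D]

theorem iter_D_zero (j : ℕ) : D^[j] (fun _ => (0 : ℚ)) = fun _ => 0 := by
  induction j with
  | zero => rfl
  | succ j ih => rw [Function.iterate_succ_apply, D_zero, ih]

theorem Bin_zero (c : ℕ → ℚ) : Bin c 0 = fun _ => 0 := by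
  funext t; simp [Bin]

theorem Bin_one (c : ℕ → ℚ) : Bin c 1 = fun _ => c 0 := by
  funext t; simp [Bin]

theorem Bin_at_zero (c : ℕ → ℚ) (N : ℕ) : Bin c (N + 1) 0 = c 0 := by
  simp [Bin, Finset.sum_range_succ']

theorem iter_D_Bin (j : ℕ) : ∀ (c : ℕ → ℚ) (N : ℕ),
    D^[j] (Bin c (N + j)) = Bin (fun k => c (k + j)) N := by
  induction j with
  | zero => intro c N; rfl
  | succ j ih =>
    intro c N
    rw [Function.iterate_succ_apply, ← add_assoc, D_Bin, ih]
    rfl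

theorem Dq_eq (q : ℕ) (g : ℤ → ℚ) : Dq q g = Sq q (D g) := by
  funext t
  unfold Dq Sq D
  have := Finset.sum_range_sub (fun i : ℕ => g (t + (i : ℤ))) q
  simp only [Nat.cast_add, Nat.cast_one, Nat.cast_zero, add_zero] at this
  rw [← this]
  apply Finset.sum_congr rfl
  intro i _
  rw [add_assoc]

theorem Sq_D_comm (q : ℕ) (g : ℤ → ℚ) : Sq q (D g) = D (Sq q g) := by
  funext t
  unfold Sq D
  rw [← Finset.sum_sub_distrib]
  apply Finset.sum_congr rfl
  intro i _
  rw [add_right_comm]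

theorem Sq_const (q : ℕ) (a : ℚ) : Sq q (fun _ => a) = fun _ => (q : ℚ) * a := by
  funext t
  simp [Sq]

theorem iter_Sq_const (q : ℕ) (M : ℕ) (a : ℚ) :
    (Sq q)^[M] (fun _ => a) = fun _ => (q : ℚ) ^ M * a := by
  induction M generalizing a with
  | zero => simp
  | succ M ih =>
    rw [Function.iterate_succ_apply, Sq_const, ih]
    funext t
    ring

theorem iter_Dq (q : ℕ) (M : ℕ) (g : ℤ → ℚ) : (Dq q)^[M] g = (Sq q)^[M] (D^[M] g) := by
  have h1 : Dq q = Sq q ∘ D := by funext g; exact Dq_eq q g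
  have h2 : Function.Commute (Sq q) D := fun g => Sq_D_comm q g
  rw [h1, h2.comp_iterate]
  rfl

theorem Dq_comp_mul (q : ℕ) (g : ℤ → ℚ) :
    (Dq q g) ∘ (fun t : ℤ => (q : ℤ) * t) = D (g ∘ (fun t : ℤ => (q : ℤ) * t)) := by
  funext t
  simp only [Function.comp, Dq, D]
  rw [mul_add, mul_one]

theorem iter_Dq_comp_mul (q : ℕ) (M : ℕ) : ∀ g : ℤ → ℚ,
    ((Dq q)^[M] g) ∘ (fun t : ℤ => (q : ℤ) * t) = D^[M] (g ∘ (fun t : ℤ => (q : ℤ) * t)) := by
  induction M with
  | zero => intro g; rfl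
  | succ M ih =>
    intro g
    rw [Function.iterate_succ_apply, Function.iterate_succ_apply, ih, Dq_comp_mul]

theorem iter_D_Bin_of_le (b : ℕ → ℚ) (m M : ℕ) (h : m ≤ M) : D^[M] (Bin b m) = fun _ => 0 := by
  obtain ⟨j, rfl⟩ := Nat.exists_eq_add_of_le h
  rw [add_comm, Function.iterate_add_apply]
  have := iter_D_Bin m b 0
  rw [zero_add] at this
  rw [this, Bin_zero, iter_D_zero]

theorem lemma3 (q : ℕ) (hq : q ≠ 0) (b : ℕ → ℚ) (m : ℕ) : ∀ (M : ℕ) (c : ℕ → ℚ),
    (∀ t : ℤ, Bin c M ((q : ℤ) * t) = Bin b m t) → ∀ k, m ≤ k → k < M → c k = 0 := by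
  intro M
  induction M with
  | zero => intro c _ k _ hk; omega
  | succ M ih =>
    intro c hc k hmk hkM
    by_cases hmM : m ≤ M
    · have hcM : c M = 0 := by
        have h1 : (Bin c (M + 1)) ∘ (fun t : ℤ => (q : ℤ) * t) = Bin b m := by
          funext t; exact hc t
        have h2 := iter_Dq_comp_mul q M (Bin c (M + 1))
        rw [h1, iter_D_Bin_of_le b m M hmM, iter_Dq] at h2
        have h3 : D^[M] (Bin c (M + 1)) = fun _ => c M := by
          have := iter_D_Bin M c 1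
          rw [add_comm 1 M] at this
          rw [this, Bin_one]
          simp
        rw [h3, iter_Sq_const] at h2
        have h4 := congrFun h2 0
        simp only [Function.comp] at h4
        have hq' : (q : ℚ) ^ M ≠ 0 := pow_ne_zero _ (Nat.cast_ne_zero.2 hq)
        exact (mul_eq_zero.1 h4).resolve_left hq'
      rcases Nat.lt_succ_iff_lt_or_eq.1 hkM with hlt | heq
      · refine ih c ?_ k hmk hlt
        intro t
        rw [← hc t]
        unfold Bin
        rw [Finset.sum_range_succ, hcM, mul_zero, add_zero]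
      · rw [heq]; exact hcM
    · omega

theorem Bin_truncate (c : ℕ → ℚ) (N M : ℕ) (hNM : N ≤ M) (h : ∀ k, N ≤ k → k < M → c k = 0) :
    Bin c M = Bin c N := by
  funext t
  unfold Bin
  symm
  apply Finset.sum_subset
  · intro k hk
    rw [Finset.mem_range] at hk ⊢
    omega
  · intro k hk1 hk2
    rw [Finset.mem_range] at hk1 hk2
    rw [h k (by omega) hk1, mul_zero]

theorem Bin_extend (c : ℕ → ℚ) (M N : ℕ) :
    Bin c M = Bin (fun k => if k < M then c k else 0) (M + N) := by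
  funext t
  unfold Bin
  rw [Finset.sum_range_add]
  have h2 : ∑ x ∈ Finset.range N, ((Ring.choose t (M + x) : ℤ) : ℚ) *
      (if M + x < M then c (M + x) else 0) = 0 := by
    apply Finset.sum_eq_zero
    intro i _
    rw [if_neg (by omega), mul_zero]
  rw [h2, add_zero]
  apply Finset.sum_congr rfl
  intro k hk
  rw [Finset.mem_range] at hk
  simp only [if_pos hk]

def IsIntVal (g : ℤ → ℚ) : Prop := ∀ t, ∃ z : ℤ, g t = z

theorem isIntVal_D {g : ℤ → ℚ} (hg : IsIntVal g) : IsIntVal (D g) := by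
  intro t
  obtain ⟨a, ha⟩ := hg (t + 1)
  obtain ⟨b, hb⟩ := hg t
  exact ⟨a - b, by simp [Groth.Agent.S5656.D, ha, hb]⟩

theorem isIntVal_iter {g : ℤ → ℚ} (hg : IsIntVal g) (j : ℕ) : IsIntVal (D^[j] g) := by
  induction j generalizing g with
  | zero => exact hg
  | succ j ih => rw [Function.iterate_succ_apply]; exact ih (isIntVal_D hg)

theorem coeff_int (c : ℕ → ℚ) (N : ℕ) (h : IsIntVal (Bin c N)) (k : ℕ) (hk : k < N) :
    ∃ z : ℤ, c k = z := by
  obtain ⟨j, rfl⟩ : ∃ j, N = (j + 1) + k := ⟨N - k - 1, by omega⟩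
  have h1 := isIntVal_iter h k 0
  rw [iter_D_Bin, Bin_at_zero] at h1
  simpa using h1


theorem exists_bin {G : Type u} [AddCommGroup G] (f : G → ℚ) (hf : IsPolyMap f) (z : G) :
    ∃ (N : ℕ) (c : ℕ → ℚ), ∀ t : ℤ, f (t • z) = Bin c N t := by
  obtain ⟨m, y, -, hy⟩ := hf 1 (fun _ => z)
  refine ⟨m + 1, fun k => if h : k < m + 1 then y (fun _ => ⟨k, h⟩) else 0, fun t => ?_⟩
  have := hy (fun _ => t)
  simp only [Finset.univ_unique, Finset.sum_singleton, Finset.prod_singleton] at this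
  rw [this]
  unfold Bin
  rw [← Fin.sum_univ_eq_sum_range (fun k => ((Ring.choose t k : ℤ) : ℚ) *
    (if h : k < m + 1 then y (fun _ => ⟨k, h⟩) else 0)) (m + 1)]
  rw [← (Equiv.funUnique (Fin 1) (Fin (m + 1))).symm.sum_comp]
  apply Finset.sum_congr rfl
  intro k _
  have hk : (k : ℕ) < m + 1 := k.2
  have hu : (uniqueElim k : Fin 1 → Fin (m + 1)) = fun _ => k := by
    funext i; simp [uniqueElim]
  simp only [zsmul_eq_mul, Equiv.funUnique_symm_apply, hu, dif_pos hk]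


theorem exists_pow_div {G : Type u} [AddCommGroup G] (G' : AddSubgroup G) (p : ℕ)
    (hdiv : ∀ x ∈ G', ∃ y ∈ G', p • y = x) (z : G) (hz : z ∈ G') (e : ℕ) :
    ∃ y ∈ G', (p ^ e) • y = z := by
  induction e with
  | zero => exact ⟨z, hz, by simp⟩
  | succ e ih =>
    obtain ⟨y, hy, hyz⟩ := ih
    obtain ⟨w, hw, hwy⟩ := hdiv y hy
    exact ⟨w, hw, by rw [pow_succ, mul_smul, hwy, hyz]⟩

theorem dvd_fact_mul_choose (n N k : ℕ) (hn : 0 < n) (hk : 0 < k) (hkN : k ≤ N) :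
    n ∣ N.factorial * n.choose k := by
  obtain ⟨n', rfl⟩ := Nat.exists_eq_succ_of_ne_zero hn.ne'
  obtain ⟨k', rfl⟩ := Nat.exists_eq_succ_of_ne_zero hk.ne'
  have h1 := Nat.add_one_mul_choose_eq n' k'
  obtain ⟨u, hu⟩ := Nat.dvd_factorial hk hkN
  refine ⟨u * n'.choose k', ?_⟩
  rw [hu]
  calc (k' + 1) * u * (n' + 1).choose (k' + 1) = u * ((n' + 1).choose (k' + 1) * (k' + 1)) := by ring
    _ = u * ((n' + 1) * n'.choose k') := by rw [← h1]
    _ = (n' + 1) * (u * n'.choose k') := by ring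

theorem step1 {G : Type u} [AddCommGroup G] (G' : AddSubgroup G)
    (p : ℕ) (hp : p.Prime) (hdiv : ∀ x ∈ G', ∃ y ∈ G', p • y = x)
    (f : G → ℚ) (hf : W4sga6xxiii.IsPolyMap f) (hint : ∀ x, ∃ z : ℤ, f x = z) (z : G)
    (hz : z ∈ G') : f z = f 0 := by
  obtain ⟨N, b, hb⟩ := exists_bin f hf z
  have key : ∀ e : ℕ, ∃ W : ℤ, (N.factorial : ℚ) * (f z - f 0) = (((p ^ e : ℕ) : ℤ) * W : ℤ) := by
    intro e
    obtain ⟨ze, hze, hpz⟩ := exists_pow_div G' p hdiv z hz e
    obtain ⟨M, c, hc⟩ := exists_bin f hf ze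
    have hrel : ∀ t : ℤ, Bin c M (((p ^ e : ℕ) : ℤ) * t) = Bin b N t := by
      intro t
      rw [← hc, ← hb, mul_comm, mul_smul, natCast_zsmul, hpz]
    obtain ⟨c', hc'⟩ : ∃ c' : ℕ → ℚ, c' = fun k => if k < M then c k else 0 := ⟨_, rfl⟩
    have hrel' : ∀ t : ℤ, Bin c' (M + N) (((p ^ e : ℕ) : ℤ) * t) = Bin b N t := by
      intro t; rw [hc', ← Bin_extend]; exact hrel t
    have hvan := lemma3 (p ^ e) (pow_ne_zero _ hp.ne_zero) b N (M + N) c' hrel'
    have htr : Bin c' (M + N) = Bin c' N := Bin_truncate c' N (M + N) (by omega) hvan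
    have hg : ∀ t : ℤ, f (t • ze) = Bin c' N t := by
      intro t; rw [hc, Bin_extend c M N, ← hc', htr]
    have hint' : IsIntVal (Bin c' N) := by
      intro t; obtain ⟨a, ha⟩ := hint (t • ze); exact ⟨a, by rw [← hg, ha]⟩
    have hcoef := coeff_int c' N hint'
    choose! a ha using hcoef
    have h1 : f z = Bin c' N ((p ^ e : ℕ) : ℤ) := by rw [← hg, natCast_zsmul, hpz]
    have h0 : f 0 = Bin c' N 0 := by rw [← hg, zero_smul]
    obtain ⟨T, hT⟩ : ∃ T : ℤ, T = ∑ k ∈ Finset.range N, ((N.factorial : ℤ) *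
        (Ring.choose (((p ^ e : ℕ) : ℤ)) k - Ring.choose (0 : ℤ) k)) * a k := ⟨_, rfl⟩
    have hTq : (N.factorial : ℚ) * (f z - f 0) = (T : ℚ) := by
      rw [h1, h0, hT]
      unfold Bin
      push_cast
      rw [← Finset.sum_sub_distrib, Finset.mul_sum]
      apply Finset.sum_congr rfl
      intro k hk
      rw [ha k (Finset.mem_range.1 hk)]
      ring
    have hdvd : ((p ^ e : ℕ) : ℤ) ∣ T := by
      rw [hT]
      apply Finset.dvd_sum
      intro k hk
      rw [Finset.mem_range] at hk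
      apply Dvd.dvd.mul_right
      rcases Nat.eq_zero_or_pos k with rfl | hkpos
      · simp
      · rw [Ring.choose_natCast, Ring.choose_zero_pos ℤ hkpos, sub_zero]
        have := dvd_fact_mul_choose (p ^ e) N k (pow_pos hp.pos e) hkpos hk.le
        exact_mod_cast this
    obtain ⟨W, hW⟩ := hdvd
    exact ⟨W, by rw [hTq, hW]⟩
  obtain ⟨W0, hW0⟩ := key 0
  simp only [pow_zero, Nat.cast_one, one_mul] at hW0
  obtain ⟨We, hWe⟩ := key W0.natAbs
  have h2 : W0 = ((p ^ W0.natAbs : ℕ) : ℤ) * We := by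
    have : (W0 : ℚ) = ((((p ^ W0.natAbs : ℕ) : ℤ) * We : ℤ) : ℚ) := by rw [← hW0, hWe]
    exact_mod_cast this
  have h3 : W0 = 0 := by
    apply Int.eq_zero_of_abs_lt_dvd ⟨We, h2⟩
    rw [Int.abs_eq_natAbs]
    exact_mod_cast Nat.lt_pow_self hp.one_lt
  rw [h3, Int.cast_zero] at hW0
  have hN : (N.factorial : ℚ) ≠ 0 := Nat.cast_ne_zero.2 (Nat.factorial_ne_zero N)
  exact sub_eq_zero.1 ((mul_eq_zero.1 hW0).resolve_left hN)



/-- Let G be an abelian group and G' ⊆ G a subgroup which is divisible by some prime number p (every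
element of G' is p times an element of G') and such that G/G' is a torsion group. Then every
polynomial map f : G → ℚ (admitting binomial expansions f(Σ n_i x_i) = Σ_k Π_i C(n_i, k_i) y_k along
every finite sequence x) which takes only integer values is constant. -/
theorem result {G : Type u} [AddCommGroup G] (G' : AddSubgroup G)
    (p : ℕ) (hp : p.Prime) (hdiv : ∀ x ∈ G', ∃ y ∈ G', p • y = x) (htor : ∀ x : G, ∃ n : ℤ, n ≠ 0 ∧ n • x ∈ G')
    (f : G → ℚ) (hf : W4sga6xxiii.IsPolyMap f) (hint : ∀ x, ∃ z : ℤ, f x = z) (x : G) : f x = f 0 := by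
  obtain ⟨n, hn0, hn⟩ := htor x
  obtain ⟨q, hq⟩ : ∃ q : ℕ, q = n.natAbs := ⟨_, rfl⟩
  have hq0 : q ≠ 0 := by rw [hq]; exact Int.natAbs_ne_zero.2 hn0
  have hqx : (q : ℤ) • x ∈ G' := by
    rw [hq]
    rcases Int.natAbs_eq n with h | h
    · rw [← h]; exact hn
    · have : ((n.natAbs : ℕ) : ℤ) = -n := by omega
      rw [this, neg_smul]; exact G'.neg_mem hn
  obtain ⟨M, c, hc⟩ := exists_bin f hf x
  have hrel : ∀ t : ℤ, Bin c M ((q : ℤ) * t) = Bin (fun _ => f 0) 1 t := by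
    intro t
    rw [← hc, Bin_one, mul_comm, mul_smul]
    exact step1 G' p hp hdiv f hf hint _ (G'.zsmul_mem hqx t)
  have hvan := lemma3 q hq0 (fun _ => f 0) 1 M c hrel
  have h1 : f x = Bin c M 1 := by rw [← hc, one_smul]
  have h0 : f 0 = Bin c M 0 := by rw [← hc, zero_smul]
  rw [h1, h0]
  rcases Nat.eq_zero_or_pos M with rfl | hM
  · rw [Bin_zero]
  · rw [Bin_truncate c 1 M hM hvan, Bin_one]

end Groth.Agent.S5656
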