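import Groth.Statements.S5657
import Mathlib.Algebra.BigOperators.Pi
import Mathlib.Algebra.BigOperators.Ring.Finset
import Mathlib.Tactic.Ring
import Mathlib.Tactic.Abel

set_option autoImplicit false
universe u
open TensorProduct
open W4sga6xxiii

namespace Groth.Agent.S5657

/-- truncated binomial series -/
noncomputable def g {A : Type u} [CommRing A] (z : A) (m : ℕ) (n : ℤ) : A :=
  ∑ j ∈ Finset.range (m + 1), (Ring.choose n j : ℤ) • z ^ j

lemma g_zero {A : Type u} [CommRing A] (z : A) (m : ℕ) : g z m 0 = 1 := by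
  unfold g
  rw [Finset.sum_range_succ', Finset.sum_eq_zero]
  · simp [Ring.choose_zero_right]
  · intro j _
    rw [Ring.choose_zero_succ, zero_smul]

lemma g_succ {A : Type u} [CommRing A] (z : A) (m : ℕ) (hz : z ^ (m + 1) = 0) (n : ℤ) :
    g z m (n + 1) = (1 + z) * g z m n := by
  unfold g
  rw [add_mul, one_mul, Finset.mul_sum]
  rw [Finset.sum_range_succ' (fun j => (Ring.choose (n + 1) j : ℤ) • z ^ j)]
  rw [Finset.sum_range_succ' (fun j => (Ring.choose n j : ℤ) • z ^ j)]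
  rw [Finset.sum_range_succ (fun j => z * ((Ring.choose n j : ℤ) • z ^ j))]
  simp only [Ring.choose_zero_right, pow_zero, Ring.choose_succ_succ, add_smul]
  rw [Finset.sum_add_distrib]
  have h1 : z * ((Ring.choose n m : ℤ) • z ^ m) = 0 := by
    rw [mul_smul_comm, ← pow_succ', hz, smul_zero]
  have h2 : ∀ j, z * ((Ring.choose n j : ℤ) • z ^ j) = (Ring.choose n j : ℤ) • z ^ (j + 1) := by
    intro j
    rw [mul_smul_comm, ← pow_succ']
  rw [h1, add_zero]
  simp only [h2]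
  abel

lemma key {A : Type u} [CommRing A] (u : Aˣ) (m : ℕ) (hz : ((u : A) - 1) ^ (m + 1) = 0) (n : ℤ) :
    ((u ^ n : Aˣ) : A) = g ((u : A) - 1) m n := by
  have hu : (1 : A) + ((u : A) - 1) = u := by ring
  induction n using Int.induction_on with
  | zero => simp [g_zero]
  | succ i ih =>
    rw [g_succ _ _ hz, ← ih, hu, zpow_add_one, Units.val_mul, mul_comm]
  | pred i ih =>
    have h := g_succ ((u : A) - 1) m hz (-(i : ℤ) - 1)
    rw [sub_add_cancel, ← ih, hu] at h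
    have h3 : ((u ^ (-(i : ℤ) - 1) : Aˣ) : A) = ((u⁻¹ : Aˣ) : A) * ((u ^ (-(i : ℤ)) : Aˣ) : A) := by
      rw [← Units.val_mul, zpow_sub_one, mul_comm]
    rw [h3, h, ← mul_assoc, ← Units.val_mul, inv_mul_cancel, Units.val_one, one_mul]

/-- Let A be a commutative ring, I an ideal of A with I^{m+1} = 0, and P ⊆ Aˣ the subgroup of units of
the form 1 + y with y ∈ I. Then the map P → A ⊗_ℤ ℚ, x ↦ x ⊗ 1, is a polynomial map of degree ≤ m on
the abelian group P (written additively): along every finite sequence x_1, …, x_r in P one has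
x_1^{n_1}⋯x_r^{n_r} ⊗ 1 = Σ_k Π_i C(n_i, k_i) y_k with y_k = 0 whenever k_1 + ⋯ + k_r > m. -/
theorem result (A : Type u) [CommRing A] (I : Ideal A) (m : ℕ) (hI : I ^ (m + 1) = ⊥)
    (P : Subgroup Aˣ) (hP : ∀ u : Aˣ, u ∈ P ↔ (u : A) - 1 ∈ I) :
    W4sga6xxiii.IsPolyMapLE (fun u : Additive P => (((Additive.toMul u : P) : Aˣ) : A) ⊗ₜ[ℤ] (1 : ℚ)) m := by
  intro r x
  -- the units and their nilpotent parts
  let U : Fin r → Aˣ := fun i => ((Additive.toMul (x i) : P) : Aˣ)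
  let z : Fin r → A := fun i => (U i : A) - 1
  have hzI : ∀ i, z i ∈ I := fun i => (hP _).mp (Additive.toMul (x i) : P).2
  have hz : ∀ i, z i ^ (m + 1) = 0 := by
    intro i
    have : z i ^ (m + 1) ∈ I ^ (m + 1) := Ideal.pow_mem_pow (hzI i) _
    rw [hI] at this
    exact this
  refine ⟨fun k => (∏ i, z i ^ (k i : ℕ)) ⊗ₜ[ℤ] (1 : ℚ), ?_, ?_⟩
  · intro k hk
    have h1 : ∏ i, z i ^ (k i : ℕ) ∈ I ^ (∑ i, (k i : ℕ)) := by
      rw [← Finset.prod_pow_eq_pow_sum]
      exact Ideal.prod_mem_prod (fun i _ => Ideal.pow_mem_pow (hzI i) _)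
    have h2 : I ^ (∑ i, (k i : ℕ)) ≤ I ^ (m + 1) := Ideal.pow_le_pow_right hk
    have h3 := h2 h1
    rw [hI] at h3
    have h4 : ∏ i, z i ^ (k i : ℕ) = 0 := h3
    change (∏ i, z i ^ (k i : ℕ)) ⊗ₜ[ℤ] (1 : ℚ) = 0
    rw [h4, TensorProduct.zero_tmul]
  · intro n
    have hval : (((Additive.toMul (∑ i, n i • x i) : P) : Aˣ) : A) = ∏ i, ((U i ^ n i : Aˣ) : A) := by
      rw [toMul_sum]
      simp only [toMul_zsmul]
      rw [Subgroup.val_finset_prod, Units.coe_prod]
      rfl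
    change (((Additive.toMul (∑ i, n i • x i) : P) : Aˣ) : A) ⊗ₜ[ℤ] (1 : ℚ) = _
    rw [hval]
    simp only [fun i => key (U i) m (hz i) (n i)]
    unfold g
    simp only [Finset.sum_range (fun j => (Ring.choose (n _) j : ℤ) • _ ^ j)]
    rw [Finset.prod_univ_sum, Fintype.piFinset_univ, TensorProduct.sum_tmul]
    refine Finset.sum_congr rfl (fun k _ => ?_)
    have h5 : ∏ i, (Ring.choose (n i) ((k i : ℕ)) : ℤ) • (↑(U i) - 1 : A) ^ (k i : ℕ) =
        (∏ i, (Ring.choose (n i) ((k i : ℕ)) : ℤ)) • ∏ i, z i ^ (k i : ℕ) := by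
      simp only [zsmul_eq_mul]
      rw [Finset.prod_mul_distrib, Int.cast_prod]
    rw [h5, TensorProduct.smul_tmul']

end Groth.Agent.S5657
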