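import Groth.Statements.S5665
import Groth.Agent.Lib.Helper28.ExtReg

set_option autoImplicit false
universe u
open CategoryTheory
open Dual

open Groth.Agent.Lib.Helper28

namespace Groth.Agent.S5665

/-- Let `A` be a commutative ring, `xs = (x_1, …, x_p)` a sequence in `A` such that each `x_i` is a
non-zero-divisor on `A/(x_1, …, x_{i-1})`, `J` the ideal generated by the `x_i` and `M` any
`A`-module. Then `Ext^p_A(A/J, M)` is isomorphic, as an `A`-module, to `M/JM`. (Existence of an
`A`-linear isomorphism only; the published isomorphism is the one induced by the Koszul complex of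
`xs`.) -/
theorem result (A : Type u) [CommRing A] (xs : List A) (hreg : RingTheory.Sequence.IsWeaklyRegular A xs) (M : Type u) [AddCommGroup M] [Module A M] : Nonempty (Abelian.Ext (ModuleCat.of A (A ⧸ Ideal.ofList xs)) (ModuleCat.of A M) xs.length ≃ₗ[A] (M ⧸ (Ideal.ofList xs • (⊤ : Submodule A M)))) := by
  have hvan : ∀ i, 0 < i → Subsingleton (Abelian.Ext (ModuleCat.of A A) (ModuleCat.of A M) i) := by
    intro i hi
    obtain ⟨j, rfl⟩ : ∃ j, i = j + 1 := ⟨i - 1, by omega⟩
    haveI : CategoryTheory.Projective (ModuleCat.of A A) :=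
      ModuleCat.projective_of_categoryTheory_projective _
    exact Abelian.Ext.subsingleton_of_projective _ _ j
  obtain ⟨-, h2⟩ := ext_quot_regular (ModuleCat.of A M) xs A 0 hreg hvan
  obtain ⟨ψ⟩ := h2 xs.length (by simp)
  have hI : (Ideal.ofList xs • ⊤ : Submodule A A) = Ideal.ofList xs := by
    rw [smul_eq_mul, Ideal.mul_top]
  let e₁ : (A ⧸ (Ideal.ofList xs • ⊤ : Submodule A A)) ≃ₗ[A] (A ⧸ Ideal.ofList xs) :=
    Submodule.quotEquivOfEq _ _ hI
  let e₂ : Abelian.Ext (ModuleCat.of A A) (ModuleCat.of A M) 0 ≃ₗ[A] M :=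
    (Abelian.Ext.linearEquiv₀ (R := A)).trans
      ((ModuleCat.homLinearEquiv (S := A)).trans (LinearMap.ringLmapEquivSelf A A M))
  exact ⟨(extCongrLeft e₁.toModuleIso (ModuleCat.of A M) xs.length).trans
    (ψ.trans (quotSMulTopCongr (Ideal.ofList xs) e₂))⟩

end Groth.Agent.S5665
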