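import Mathlib
import Groth.Statements.S5670
import Groth.Agent.S17746

set_option autoImplicit false
universe u
open Pi1

namespace Groth.Agent.S5670


section
open CategoryTheory CategoryTheory.Limits AlgebraicGeometry

lemma surj_of_inj {X Y : Scheme.{u}} (f : X ⟶ Y) [IsProper f]
    (hf : ∀ U : Y.Opens, Function.Injective (f.app U)) : Function.Surjective f := by
  intro y
  by_contra hy
  have hcl : IsClosed (Set.range f) := f.isClosedMap.isClosed_range
  let U : Y.Opens := ⟨(Set.range f)ᶜ, hcl.isOpen_compl⟩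
  have hU : f ⁻¹ᵁ U = ⊥ := by
    ext x
    simp only [TopologicalSpace.Opens.coe_bot, Set.mem_empty_iff_false, iff_false]
    intro hx
    exact hx ⟨x, rfl⟩
  haveI : Subsingleton Γ(X, f ⁻¹ᵁ U) := by rw [hU]; infer_instance
  haveI : Subsingleton Γ(Y, U) := (hf U).subsingleton
  haveI hne : Nonempty U := ⟨⟨y, hy⟩⟩
  have := Scheme.component_nontrivial Y U
  exact not_subsingleton Γ(Y, U) inferInstance

lemma local_bij {X Y Y' : Scheme.{u}} (f : X ⟶ Y) [QuasiCompact f] [QuasiSeparatedSpace X]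
    (hf : ∀ U : Y.Opens, Function.Bijective (f.app U)) (g : Y' ⟶ Y) [IsAffineHom g] [Flat g]
    (U : Y.Opens) (hU : IsAffineOpen U) :
    Function.Bijective ((pullback.snd f g).app (g ⁻¹ᵁ U)) := by
  have H : IsPullback (pullback.fst f g) (pullback.snd f g) f g := IsPullback.of_hasPullback f g
  have hUST : g ⁻¹ᵁ U ≤ g ⁻¹ᵁ U := le_rfl
  have hUSX : f ⁻¹ᵁ U ≤ f ⁻¹ᵁ U := le_rfl
  have hUY : (pullback.snd f g) ⁻¹ᵁ (g ⁻¹ᵁ U) =
      (pullback.fst f g) ⁻¹ᵁ (f ⁻¹ᵁ U) ⊓ (pullback.snd f g) ⁻¹ᵁ (g ⁻¹ᵁ U) := by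
    have : (pullback.fst f g) ⁻¹ᵁ (f ⁻¹ᵁ U) = (pullback.snd f g) ⁻¹ᵁ (g ⁻¹ᵁ U) := by
      rw [← Scheme.Hom.comp_preimage, ← Scheme.Hom.comp_preimage, pullback.condition]
    rw [this, inf_idem]
  have hiso := isIso_pushoutSection_of_isQuasiSeparated_of_flat_right H hUST hUSX hUY hU
    (hU.preimage g) (QuasiCompact.isCompact_preimage (f := f) _ U.2 hU.isCompact)
    (IsQuasiSeparated.of_quasiSeparatedSpace _)
  have P := (isIso_pushoutSection_iff H hUST hUSX hUY).mp hiso
  haveI : IsIso (f.appLE U (f ⁻¹ᵁ U) hUSX) := by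
    rw [← Scheme.Hom.app_eq_appLE]
    exact (ConcreteCategory.isIso_iff_bijective _).mpr (hf U)
  have h2 := P.isIso_inr_of_isIso
  rw [← Scheme.Hom.app_eq_appLE] at h2
  exact (ConcreteCategory.isIso_iff_bijective _).mp h2

theorem main {X Y Y' : Scheme.{u}} (f : X ⟶ Y) [IsProper f] [IsNoetherian X] [IsNoetherian Y]
    (hf : ∀ U : Y.Opens, Function.Bijective (f.app U)) (g : Y' ⟶ Y) [IsFinite g] [Etale g]
    [ConnectedSpace Y'] : ConnectedSpace ↥(pullback f g) := by
  haveI hfs : Surjective f := ⟨surj_of_inj f (fun U => (hf U).1)⟩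
  obtain ⟨f', hf'⟩ : ∃ f' : pullback f g ⟶ Y', f' = pullback.snd f g := ⟨_, rfl⟩
  have hf's : Function.Surjective f' := by
    rw [hf']; exact (inferInstance : Surjective (pullback.snd f g)).surj
  have hcl : IsClosedMap f' := by
    rw [hf']; exact (pullback.snd f g).isClosedMap
  haveI : Nonempty ↥(pullback f g) := by
    obtain ⟨y⟩ := (inferInstance : Nonempty Y')
    obtain ⟨x, -⟩ := hf's y
    exact ⟨x⟩
  by_contra hcon
  obtain ⟨e, he, he0, he1⟩ := Groth.Agent.S17746.exists_idem (pullback f g) hcon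
  obtain ⟨A, hA⟩ : ∃ A : (pullback f g).Opens, A = (pullback f g).basicOpen e := ⟨_, rfl⟩
  obtain ⟨B, hB⟩ : ∃ B : (pullback f g).Opens, B = (pullback f g).basicOpen (1 - e) := ⟨_, rfl⟩
  have hdisj : A ⊓ B = ⊥ := by
    rw [hA, hB, ← Scheme.basicOpen_mul]
    have : e * (1 - e) = 0 := by rw [mul_sub, mul_one, he, sub_self]
    rw [this, Scheme.basicOpen_zero]
  have hcov : ∀ x : ↥(pullback f g), x ∈ A ∨ x ∈ B := by
    intro x
    rw [hA, hB, Scheme.mem_basicOpen_top, Scheme.mem_basicOpen_top]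
    apply IsLocalRing.isUnit_or_isUnit_of_add_one
    rw [← map_add]
    simp
  have hnil : ∀ a : Γ(pullback f g, ⊤), a * a = a → (pullback f g).basicOpen a = ⊥ → a = 0 := by
    intro a ha hb
    obtain ⟨n, hn⟩ := (Scheme.isNilpotent_iff_basicOpen_eq_bot a).mpr hb
    cases n with
    | zero => rw [pow_zero] at hn; rw [← mul_one a, hn, mul_zero]
    | succ n => rwa [IsIdempotentElem.pow_succ_eq n ha] at hn
  have hAne : (A : Set ↥(pullback f g)).Nonempty := by
    rw [← TopologicalSpace.Opens.ne_bot_iff_nonempty]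
    intro h
    rw [hA] at h
    exact he0 (hnil e he h)
  have hBne : (B : Set ↥(pullback f g)).Nonempty := by
    rw [← TopologicalSpace.Opens.ne_bot_iff_nonempty]
    intro h
    rw [hB] at h
    have h3 : (1 - e) * (1 - e) = 1 - e := by
      have : (1 - e) * (1 - e) = 1 - e - e + e * e := by ring
      rw [this, he]; ring
    exact he1 (sub_eq_zero.mp (hnil (1 - e) h3 h)).symm
  have hAB : (A : Set ↥(pullback f g)) = (B : Set ↥(pullback f g))ᶜ := by
    ext x
    simp only [SetLike.mem_coe, Set.mem_compl_iff]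
    constructor
    · intro hxA hxB
      have : x ∈ A ⊓ B := ⟨hxA, hxB⟩
      rw [hdisj] at this
      exact this
    · intro hxB
      exact (hcov x).resolve_right hxB
  have hAc : IsClosed (A : Set ↥(pullback f g)) := by rw [hAB]; exact B.2.isClosed_compl
  have hBc : IsClosed (B : Set ↥(pullback f g)) := by
    have : (B : Set ↥(pullback f g)) = (A : Set ↥(pullback f g))ᶜ := by rw [hAB, compl_compl]
    rw [this]; exact A.2.isClosed_compl
  have hA' : IsClosed (f' '' (A : Set ↥(pullback f g))) := hcl _ hAc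
  have hB' : IsClosed (f' '' (B : Set ↥(pullback f g))) := hcl _ hBc
  have hunion : (Set.univ : Set Y') ⊆ f' '' (A : Set ↥(pullback f g)) ∪ f' '' (B : Set ↥(pullback f g)) := by
    intro y _
    obtain ⟨x, rfl⟩ := hf's y
    rcases hcov x with h | h
    · exact Or.inl ⟨x, h, rfl⟩
    · exact Or.inr ⟨x, h, rfl⟩
  have hinter : ∀ y : Y', y ∈ f' '' (A : Set ↥(pullback f g)) → y ∈ f' '' (B : Set ↥(pullback f g)) → False := by
    rintro y ⟨a, haA, hay⟩ ⟨b, hbB, hby⟩
    obtain ⟨U, hUaff, hyU⟩ : ∃ U : Y.Opens, IsAffineOpen U ∧ g y ∈ U := by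
      obtain ⟨U, hU, hyU, -⟩ :=
        exists_isAffineOpen_mem_and_subset (X := Y) (x := g y) (U := ⊤) trivial
      exact ⟨U, hU, hyU⟩
    have hbij := local_bij f hf g U hUaff
    rw [← hf'] at hbij
    have hyV : y ∈ g ⁻¹ᵁ U := hyU
    obtain ⟨s, hs⟩ := hbij.2 ((pullback f g).presheaf.map (homOfLE le_top).op e)
    have hs1 : f'.app (g ⁻¹ᵁ U) (1 - s) =
        (pullback f g).presheaf.map (homOfLE le_top).op (1 - e) := by
      rw [map_sub, map_one, hs, map_sub, map_one]
    have hor : y ∈ Y'.basicOpen s ∨ y ∈ Y'.basicOpen (1 - s) := by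
      rw [Scheme.mem_basicOpen _ _ _ hyV, Scheme.mem_basicOpen _ _ _ hyV]
      apply IsLocalRing.isUnit_or_isUnit_of_add_one
      rw [← map_add]
      simp
    rcases hor with h | h
    · have hb : b ∈ f' ⁻¹ᵁ Y'.basicOpen s := by
        show f' b ∈ Y'.basicOpen s
        rw [hby]; exact h
      rw [Scheme.preimage_basicOpen, hs, Scheme.basicOpen_res] at hb
      have : b ∈ A ⊓ B := ⟨by rw [hA]; exact hb.2, hbB⟩
      rw [hdisj] at this
      exact this
    · have ha : a ∈ f' ⁻¹ᵁ Y'.basicOpen (1 - s) := by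
        show f' a ∈ Y'.basicOpen (1 - s)
        rw [hay]; exact h
      rw [Scheme.preimage_basicOpen, hs1, Scheme.basicOpen_res] at ha
      have : a ∈ A ⊓ B := ⟨haA, by rw [hB]; exact ha.2⟩
      rw [hdisj] at this
      exact this
  have hpc := (isPreconnected_closed_iff.mp (isPreconnected_univ (α := Y'))) _ _ hA' hB' hunion
    (by
      obtain ⟨a, ha⟩ := hAne
      exact ⟨f' a, Set.mem_univ _, a, ha, rfl⟩)
    (by
      obtain ⟨b, hb⟩ := hBne
      exact ⟨f' b, Set.mem_univ _, b, hb, rfl⟩)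
  obtain ⟨y, -, hy1, hy2⟩ := hpc
  exact hinter y hy1 hy2


end

open CategoryTheory CategoryTheory.Limits AlgebraicGeometry in
/-- Let `f : X → Y` be a proper morphism of Noetherian schemes such that `O_Y → f_* O_X` is an
isomorphism (bijective on sections over every open of `Y`). Then for every connected finite étale
`Y'` over `Y`, the base change `X ×_Y Y'` is connected; equivalently, `f` induces a surjection on
étale fundamental groups. -/
theorem result {X Y Y' : Scheme.{u}} (f : X ⟶ Y) [IsProper f] [IsNoetherian X] [IsNoetherian Y] (hf : ∀ U : Y.Opens, Function.Bijective (f.app U)) (g : Y' ⟶ Y) [IsFinite g] [Etale g] [ConnectedSpace Y'] : ConnectedSpace ↥(pullback f g) := by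
  exact main f hf g

end Groth.Agent.S5670
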