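import Groth.Statements.S5680
import Groth.Agent.Lib.Helper44.ThickRoot

set_option autoImplicit false
universe u
open CategoryTheory CategoryTheory.Limits AlgebraicGeometry
open FGA

namespace Groth.Agent.S5680

/-- Let A be an artinian local ring with maximal ideal m and ν ≥ 1 an integer with m^(ν+1) = 0; let X be
a scheme proper and flat over Spec A, n a natural number whose image in the residue field of A is
nonzero, L an invertible module on X and L' an invertible module on the closed subscheme X ×_A
Spec(A/m^ν) whose n-th tensor power is isomorphic to the pullback of L. Then there is an invertible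
module M on X whose n-th tensor power is isomorphic to L (existence of an isomorphism). -/
theorem result (A : Type u) [CommRing A] [IsArtinianRing A] [IsLocalRing A]
    (ν : ℕ) (hν : 1 ≤ ν) (hm : IsLocalRing.maximalIdeal A ^ (ν + 1) = ⊥)
    (X : Scheme.{u}) (f : X ⟶ Spec (CommRingCat.of A)) [IsProper f] [Flat f]
    (n : ℕ) (hn : (n : IsLocalRing.ResidueField A) ≠ 0)
    (L : X.Modules) (hL : PicF.IsInvertible L)
    (L' : (pullback f (Spec.map (CommRingCat.ofHom (Ideal.Quotient.mk (IsLocalRing.maximalIdeal A ^ ν))))).Modules)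
    (hL' : PicF.IsInvertible L')
    (hroot : Nonempty (CohB1.tensorPow L' n ≅
      (Scheme.Modules.pullback (pullback.fst f (Spec.map (CommRingCat.ofHom (Ideal.Quotient.mk (IsLocalRing.maximalIdeal A ^ ν)))))).obj L)) :
    ∃ M : X.Modules, PicF.IsInvertible M ∧ Nonempty (CohB1.tensorPow M n ≅ L) := by
  have hJ : IsLocalRing.maximalIdeal A ^ ν ≤ nilradical A := by
    intro x hx
    rw [mem_nilradical]
    exact Groth.Agent.Lib.Helper44.ArtinStep.isNilpotent_of_mem_maximalIdeal
      (Ideal.pow_le_self (by omega) hx)
  haveI : Surjective (Spec.map (CommRingCat.ofHom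
      (Ideal.Quotient.mk (IsLocalRing.maximalIdeal A ^ ν)))) :=
    ⟨(PrimeSpectrum.comap_quotientMk_bijective_of_le_nilradical hJ).2⟩
  have hs : Function.Surjective (pullback.fst f (Spec.map (CommRingCat.ofHom
      (Ideal.Quotient.mk (IsLocalRing.maximalIdeal A ^ ν))))).base :=
    Surjective.surj (f := pullback.fst f (Spec.map (CommRingCat.ofHom
      (Ideal.Quotient.mk (IsLocalRing.maximalIdeal A ^ ν)))))
  haveI : IsClosedImmersion (pullback.fst f (Spec.map (CommRingCat.ofHom
      (Ideal.Quotient.mk (IsLocalRing.maximalIdeal A ^ ν))))) :=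
    Groth.Agent.Lib.Helper44.FlatFibre.isClosedImmersion_ι f Ideal.Quotient.mk_surjective
  have hnA : IsUnit (n : A) := by
    rw [← IsLocalRing.residue_ne_zero_iff_isUnit, map_natCast]
    exact hn
  have hnX : IsUnit (n : Γ(X, ⊤)) := by
    have h := hnA.map (Groth.Agent.Lib.Helper44.FlatFibre.rho f ⊤)
    rwa [map_natCast] at h
  obtain ⟨M, hM, h1, -⟩ := Groth.Agent.Lib.Helper44.ThickRoot.exists_root _ hs n hnX L hL L' hL' hroot
  exact ⟨M, hM, h1⟩

end Groth.Agent.S5680
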