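import Groth.Statements.S5690
import Groth.Agent.Lib.Helper37.GrpdGlueNM

set_option autoImplicit false
set_option linter.style.haveILetI false
universe u
open CategoryTheory CategoryTheory.Limits AlgebraicGeometry
open FGA

namespace Groth.Agent.S5690

/-- Let (U, R, s, t, c) be a groupoid scheme over a scheme S whose source morphism s : R ⟶ U is finite
locally free (finite, flat and locally of finite presentation), and suppose every equivalence class
t(s⁻¹(x)), x a point of U, is contained in some affine open of U. Then there are a scheme Y and a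
morphism q : U ⟶ Y with s ≫ q = t ≫ q which is a coequalizer of s and t in the category of schemes,
affine, integral and surjective, whose fibres are the equivalence classes; and if (t, s) : R ⟶ U ×_S
U is a monomorphism then q is moreover finite, flat and locally of finite presentation and (t, s) :
R ⟶ U ×_Y U is an isomorphism. Only the sufficiency of the affine-class condition is stated (the
published statement is an equivalence: the quotient with these properties exists if and only if
every class lies in an affine open). -/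
theorem result {S : Scheme.{u}} (G : Grpd.GroupoidScheme S)
    [IsFinite G.s] [Flat G.s] [LocallyOfFinitePresentation G.s]
    (haff : ∀ x : ↥G.U, ∃ V : G.U.Opens, IsAffineOpen V ∧ G.t.base '' (G.s.base ⁻¹' {x}) ⊆ (V : Set ↥G.U)) :
    ∃ (Y : Scheme.{u}) (q : G.U ⟶ Y) (w : G.s ≫ q = G.t ≫ q),
      Nonempty (IsColimit (Cofork.ofπ q w)) ∧ IsAffineHom q ∧ IsIntegralHom q ∧ Surjective q ∧
      (∀ x x' : ↥G.U, q.base x = q.base x' ↔ ∃ r : ↥G.R, G.s.base r = x ∧ G.t.base r = x') ∧
      (Mono G.j → IsFinite q ∧ Flat q ∧ LocallyOfFinitePresentation q ∧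
        IsIso (pullback.lift G.t G.s w.symm : G.R ⟶ pullback q q)) := by
  have horb : ∀ u : G.U, ∃ V : G.U.Opens, IsAffineOpen V ∧ ∀ r : G.R, G.s r = u → G.t r ∈ V := by
    intro u
    obtain ⟨V, hV, hsub⟩ := haff u
    exact ⟨V, hV, fun r hr => hsub ⟨r, hr, rfl⟩⟩
  have hcov := Groth.Agent.Lib.Helper37.NM.hcov_of_horb horb
  have hw := Groth.Agent.Lib.Helper37.NM.quotMap_cond hcov
  refine ⟨Groth.Agent.Lib.Helper37.NM.quotY G, Groth.Agent.Lib.Helper37.NM.quotMap G hcov,
    hw.symm, ⟨?_⟩, inferInstance, inferInstance, inferInstance, ?_, ?_⟩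
  · exact Cofork.IsColimit.mk _
      (fun s => (Groth.Agent.Lib.Helper37.NM.exists_desc horb s.π s.condition.symm).choose)
      (fun s => (Groth.Agent.Lib.Helper37.NM.exists_desc horb s.π s.condition.symm).choose_spec)
      (fun s m hm => Groth.Agent.Lib.Helper37.NM.quotMap_epi horb _ _
        (hm.trans (Groth.Agent.Lib.Helper37.NM.exists_desc horb s.π
          s.condition.symm).choose_spec.symm))
  · intro x x'
    refine (eq_comm.trans (Groth.Agent.Lib.Helper37.NM.quotMap_eq_iff hcov x' x)).trans ?_
    constructor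
    · rintro ⟨r, h1, h2⟩
      exact ⟨r, h2, h1⟩
    · rintro ⟨r, h1, h2⟩
      exact ⟨r, h2, h1⟩
  · intro hmono
    haveI := hmono
    obtain ⟨Y', q', hfin, hflat, hlfp, hsurj, hpb⟩ :=
      Groth.Agent.Lib.Helper37.exists_global_quotient G (fun u => by
        obtain ⟨W, hW⟩ := hcov u
        exact ⟨W.1, W.2.1, hW, W.2.2⟩)
    haveI := hfin
    haveI := hflat
    haveI := hlfp
    haveI := hsurj
    -- the two quotients are isomorphic
    obtain ⟨g, hg⟩ := Groth.Agent.Lib.Helper37.NM.exists_desc horb q' hpb.w
    let g' := Groth.Agent.Lib.Helper37.fppfDesc q' hpb (Groth.Agent.Lib.Helper37.NM.quotMap G hcov) hw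
    have hg' : q' ≫ g' = Groth.Agent.Lib.Helper37.NM.quotMap G hcov :=
      Groth.Agent.Lib.Helper37.fppfDesc_fac _ _ _ _
    haveI : Epi q' := Flat.epi_of_flat_of_surjective q'
    have h1 : g ≫ g' = 𝟙 _ := by
      apply Groth.Agent.Lib.Helper37.NM.quotMap_epi horb
      rw [← Category.assoc, hg, hg', Category.comp_id]
    have h2 : g' ≫ g = 𝟙 _ := by
      rw [← cancel_epi q', ← Category.assoc, hg', hg, Category.comp_id]
    haveI : IsIso g := ⟨⟨g', h1, h2⟩⟩
    haveI : IsIso g' := ⟨⟨g, h2, h1⟩⟩
    have hq : Groth.Agent.Lib.Helper37.NM.quotMap G hcov = q' ≫ g' := hg'.symm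
    have hpb' : IsPullback G.t G.s (Groth.Agent.Lib.Helper37.NM.quotMap G hcov)
        (Groth.Agent.Lib.Helper37.NM.quotMap G hcov) := by
      apply Groth.Agent.Lib.Helper37.isPullback_of_comp_mono _ g
      rw [hg]
      exact hpb
    refine ⟨?_, ?_, ?_, ?_⟩
    · rw [hq]; infer_instance
    · rw [hq]; infer_instance
    · rw [hq]; infer_instance
    · have : pullback.lift G.t G.s hw = hpb'.isoPullback.hom := by
        apply pullback.hom_ext
        · rw [pullback.lift_fst, IsPullback.isoPullback_hom_fst]
        · rw [pullback.lift_snd, IsPullback.isoPullback_hom_snd]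
      rw [this]
      infer_instance

end Groth.Agent.S5690
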