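import Groth.Statements.S5691
import Mathlib

set_option autoImplicit false
universe u
open CategoryTheory CategoryTheory.Limits
open FGA

namespace Groth.Agent.S5691

section coYoneda
variable {C : Type u} [SmallCategory C] (F : C ⥤ Type u)

theorem map_comp_app {X Y Z : C} (f : X ⟶ Y) (g : Y ⟶ Z) (a : F.obj X) :
    F.map g (F.map f a) = F.map (f ≫ g) a := by simp

/-- the tautological cocone expressing `F` as a colimit of corepresentables -/
def coc : Cocone ((CategoryOfElements.π F).op ⋙ coyoneda) where
  pt := F
  ι :=
    { app := fun x =>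
        { app := fun Y => TypeCat.ofHom (fun f => F.map f x.unop.2)
          naturality := by
            intro Y Z g
            ext f
            simp }
      naturality := by
        intro x y a
        ext Y f
        have := a.unop.property
        change F.map (a.unop.val ≫ f) y.unop.2 = F.map f x.unop.2
        exact (map_comp_app F _ _ _).symm.trans (congrArg _ this) }

def isColimitCoc : IsColimit (coc F) where
  desc s :=
    { app := fun Y => TypeCat.ofHom
        (fun η => (s.ι.app (Opposite.op (F.elementsMk Y η))).app Y (𝟙 Y))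
      naturality := by
        intro Y Z g
        ext η
        have h1 : (s.ι.app (Opposite.op (F.elementsMk Y η))).app Z g =
            (s.ι.app (Opposite.op (F.elementsMk Z (F.map g η)))).app Z (𝟙 Z) := by
          have := ConcreteCategory.congr_hom (NatTrans.congr_app
            (s.w (Quiver.Hom.op (CategoryOfElements.homMk (F.elementsMk Y η)
              (F.elementsMk Z (F.map g η)) g rfl))) Z) (𝟙 Z)
          exact (congrArg _ (Category.comp_id g).symm).trans this
        have h2 : (s.ι.app (Opposite.op (F.elementsMk Y η))).app Z g =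
            s.pt.map g ((s.ι.app (Opposite.op (F.elementsMk Y η))).app Y (𝟙 Y)) := by
          have := ConcreteCategory.congr_hom
            ((s.ι.app (Opposite.op (F.elementsMk Y η))).naturality g) (𝟙 Y)
          exact (congrArg _ (Category.id_comp g).symm).trans this
        change (s.ι.app (Opposite.op (F.elementsMk Z (F.map g η)))).app Z (𝟙 Z) =
          s.pt.map g ((s.ι.app (Opposite.op (F.elementsMk Y η))).app Y (𝟙 Y))
        rw [← h1, h2] }
  fac s x := by
    ext Y f
    have h1 : (s.ι.app (Opposite.op x.unop)).app Y f =
        (s.ι.app (Opposite.op (F.elementsMk Y (F.map f x.unop.2)))).app Y (𝟙 Y) := by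
      have := ConcreteCategory.congr_hom (NatTrans.congr_app
        (s.w (Quiver.Hom.op (CategoryOfElements.homMk x.unop
          (F.elementsMk Y (F.map f x.unop.2)) f rfl))) Y) (𝟙 Y)
      exact (congrArg _ (Category.comp_id f).symm).trans this
    change (s.ι.app (Opposite.op (F.elementsMk Y (F.map f x.unop.2)))).app Y (𝟙 Y) =
      (s.ι.app x).app Y f
    rw [← h1]
  uniq s m hm := by
    ext Y η
    have := ConcreteCategory.congr_hom (NatTrans.congr_app (hm (Opposite.op (F.elementsMk Y η))) Y) (𝟙 Y)
    change m.app Y (F.map (𝟙 Y) η) = _ at this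
    simpa using this

theorem epi_of_minimal [HasFiniteLimits C] {X Y : C} (f : X ⟶ Y) (ξ : F.obj X) (η : F.obj Y)
    (hf : F.map f ξ = η)
    (hmin : ∀ (Y' : C) (m : Y' ⟶ Y) (_ : Mono m) (η' : F.obj Y'), F.map m η' = η → IsIso m) :
    Epi f := by
  constructor
  intro Z g h hgh
  have hl : F.map (equalizer.ι g h) (F.map (equalizer.lift f hgh) ξ) = η := by
    rw [map_comp_app, equalizer.lift_ι, hf]
  haveI := hmin _ (equalizer.ι g h) inferInstance _ hl
  exact (cancel_epi (equalizer.ι g h)).1 (equalizer.condition g h)

end coYoneda


/-- Let C be a small category with finite limits all of whose objects are artinian (the subobjects of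
each object satisfy the descending chain condition), and let F be a set-valued functor on C
preserving finite limits. Then F is strictly pro-representable: there are a small cofiltered
category J and a diagram D : J ⥤ C all of whose transition morphisms are epimorphisms such that F is
isomorphic to the colimit of the corepresentable functors Hom(D j, -). -/
theorem result {C : Type u} [SmallCategory C]
    [HasFiniteLimits C] (hart : ∀ X : C, IsArtinianObject X) (F : C ⥤ Type u) [PreservesFiniteLimits F] :
    ∃ (J : Type u) (_ : SmallCategory J) (_ : IsCofiltered J) (D : J ⥤ C),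
      (∀ ⦃j j' : J⦄ (a : j ⟶ j'), Epi (D.map a)) ∧ Nonempty (F ≅ colimit (D.op ⋙ coyoneda)) := by
  classical
  -- the category of elements and its full subcategory of minimal elements
  haveI : IsCofiltered F.Elements := Functor.isCofiltered_elements F
  let P : ObjectProperty F.Elements := fun x =>
    ∀ (Y : C) (m : Y ⟶ x.1) (_ : Mono m) (η : F.obj Y), F.map m η = x.2 → IsIso m
  -- every element is dominated by a minimal one
  have hdom : ∀ x : F.Elements, ∃ x' : P.FullSubcategory, Nonempty (P.ι.obj x' ⟶ x) := by
    rintro ⟨X, ξ⟩
    haveI := hart X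
    have wf : WellFounded ((· < ·) : Subobject X → Subobject X → Prop) := wellFounded_lt
    let S : Set (Subobject X) := {X' | ∃ η : F.obj (X' : C), F.map X'.arrow η = ξ}
    have hS : S.Nonempty := by
      refine ⟨⊤, F.map (inv (⊤ : Subobject X).arrow) ξ, ?_⟩
      rw [map_comp_app, IsIso.inv_hom_id]
      simp
    obtain ⟨X₀, ⟨η₀, hη₀⟩, hmin⟩ := wf.has_min S hS
    refine ⟨⟨F.elementsMk (X₀ : C) η₀, ?_⟩, ⟨CategoryOfElements.homMk _ _ X₀.arrow hη₀⟩⟩
    intro Y m _ η hη
    change Y ⟶ (X₀ : C) at m
    change F.map m η = η₀ at hη
    have hle : Subobject.mk (m ≫ X₀.arrow) ≤ X₀ := Subobject.mk_le_of_comm m rfl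
    have hmem : Subobject.mk (m ≫ X₀.arrow) ∈ S := by
      refine ⟨F.map (Subobject.underlyingIso (m ≫ X₀.arrow)).inv η, ?_⟩
      rw [map_comp_app, Subobject.underlyingIso_arrow, ← map_comp_app, hη, hη₀]
    have heq : Subobject.mk (m ≫ X₀.arrow) = X₀ := eq_of_le_of_not_lt hle (hmin _ hmem)
    have hfac : (Subobject.mk (m ≫ X₀.arrow)).Factors X₀.arrow := by
      rw [heq]; exact Subobject.factors_self _
    obtain ⟨t, ht⟩ := (Subobject.mk_factors_iff _ _).1 hfac
    dsimp at t ht
    rw [← Category.assoc, cancel_mono_id] at ht
    haveI : IsSplitEpi m := ⟨⟨⟨t, ht⟩⟩⟩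
    exact isIso_of_mono_of_isSplitEpi m
  haveI : IsCofiltered P.FullSubcategory :=
    IsCofiltered.of_exists_of_isCofiltered_of_fullyFaithful P.ι hdom
  haveI : P.ι.Initial := Functor.initial_of_exists_of_isCofiltered_of_fullyFaithful P.ι hdom
  refine ⟨P.FullSubcategory, inferInstance, inferInstance, P.ι ⋙ CategoryOfElements.π F, ?_, ?_⟩
  · -- transition maps are epimorphisms
    intro j j' a
    exact epi_of_minimal F a.hom.val j.obj.2 j'.obj.2 a.hom.property j'.property
  · -- co-Yoneda: `F` is the colimit of corepresentables over its elements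
    have hc' : IsColimit ((coc F).whisker P.ι.op) :=
      (Functor.Final.isColimitWhiskerEquiv P.ι.op (coc F)).symm (isColimitCoc F)
    exact ⟨IsColimit.coconePointUniqueUpToIso hc' (colimit.isColimit _)⟩

end Groth.Agent.S5691
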