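import Groth.Statements.S5705
-- import your own Groth.Agent.* helpers here
import Groth.Agent.Lib.Helper85.AzumayaInner

set_option autoImplicit false
universe u v
open TensorProduct
open Dix

namespace Groth.Agent.S5705

/-- Over a local base, where the Zariski-local conclusion becomes global. Let R be a local ring and A an
Azumaya algebra over R. Then every R-algebra automorphism u of A is inner, u(x) = a x a⁻¹ for some
unit a of A, and the unit a is determined up to multiplication by a unit of R. -/
theorem result (R : Type u) [CommRing R] [IsLocalRing R] (A : Type v) [Ring A] [Algebra R A] [IsAzumaya R A] (u : A ≃ₐ[R] A) : (∃ a : Aˣ, ∀ x : A, u x = (a : A) * x * (a⁻¹ : Aˣ)) ∧ (∀ a a' : Aˣ, (∀ x : A, u x = (a : A) * x * (a⁻¹ : Aˣ)) → (∀ x : A, u x = (a' : A) * x * (a'⁻¹ : Aˣ)) → ∃ c : Rˣ, (a' : A) = algebraMap R A (c : R) * (a : A)) := by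
  refine ⟨Groth.Agent.Lib.Helper85.exists_unit_conj_of_algHom R A (u : A →ₐ[R] A), ?_⟩
  intro a a' ha ha'
  exact Groth.Agent.Lib.Helper85.exists_unit_smul_of_conj_eq R A a a'
    (fun x => (ha x).symm.trans (ha' x))

end Groth.Agent.S5705
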