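import Groth.Statements.S5719
-- import your own Groth.Agent.* helpers here
import Groth.Agent.Lib.Helper85.FibreDescent
import Groth.Agent.Lib.Helper85.CSAField
import Mathlib.RingTheory.LocalRing.Module
import Mathlib.RingTheory.Support
import Mathlib.RingTheory.LocalRing.ResidueField.Ideal

set_option autoImplicit false
universe u v
open TensorProduct
open Dix

namespace Groth.Agent.S5719

/-- (i) ⇔ (ii), over an affine base. Let R be a commutative ring and A an R-algebra whose underlying
module is finite and projective (locally free of finite type). Then A ⊗_R A° → End_R(A) is bijective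
with A faithful, i.e. A is an Azumaya algebra over R, if and only if every fibre κ(p) ⊗_R A, p a
prime ideal of R, is a central simple algebra over the residue field κ(p). -/
theorem result (R : Type u) [CommRing R] (A : Type u) [Ring A] [Algebra R A] [Module.Finite R A] [Module.Projective R A] : IsAzumaya R A ↔ ∀ (p : Ideal R) [p.IsPrime], Algebra.IsCentral p.ResidueField (p.ResidueField ⊗[R] A) ∧ IsSimpleRing (p.ResidueField ⊗[R] A) := by
  constructor
  · intro h p hp
    have hA : IsAzumaya p.ResidueField (p.ResidueField ⊗[R] A) :=
      Groth.Agent.Lib.Helper85.isAzumaya_baseChange R p.ResidueField A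
    exact ⟨inferInstance,
      Groth.Agent.Lib.Helper85.isSimpleRing_of_isAzumaya p.ResidueField _⟩
  · intro h
    have hA : ∀ p : PrimeSpectrum R,
        IsAzumaya p.asIdeal.ResidueField (p.asIdeal.ResidueField ⊗[R] A) := by
      intro p
      obtain ⟨hc, hs⟩ := h p.asIdeal
      exact Groth.Agent.Lib.Helper85.isAzumaya_of_isCentral_of_isSimpleRing
        p.asIdeal.ResidueField _
    refine Groth.Agent.Lib.Helper85.isAzumaya_of_forall_baseChange R
      (fun p : PrimeSpectrum R => p.asIdeal.ResidueField) A ?_ ?_
    · intro M _ _ _ hM
      rw [← Module.support_eq_empty_iff (R := R)]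
      rw [Set.eq_empty_iff_forall_notMem]
      intro p hp
      rw [Module.mem_support_iff_nontrivial_residueField_tensorProduct] at hp
      exact not_subsingleton _ (hM p)
    · intro a ha
      rw [← mem_nilradical, nilradical_eq_sInf, Ideal.mem_sInf]
      intro p hp
      have hp' : p.IsPrime := hp
      have := ha ⟨p, hp'⟩
      exact Ideal.algebraMap_residueField_eq_zero.mp this

end Groth.Agent.S5719
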