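import Groth.Statements.S5724
import Mathlib
import Groth.Agent.Lib.Helper63.GrFTCover
import Groth.Agent.Lib.Helper63.RelTwistAmpleD
import Groth.Agent.S4380
import Groth.Agent.S4381
-- import your own Groth.Agent.* helpers here

set_option autoImplicit false
universe u
open CategoryTheory CategoryTheory.Limits AlgebraicGeometry TopologicalSpace Opposite
open scoped HomogeneousIdeal
open EGA2

namespace Groth.Agent.S5724

/-- Let Y be a quasi-compact scheme and 𝒮 a quasi-coherent graded O_Y-algebra of finite type (over every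
affine open U of Y the ring 𝒮(U) is an algebra of finite type over the functions on U, through the
structure map), and let f : X → Y be its relative homogeneous spectrum Proj(𝒮), given with its
charts over affine opens. Then there is an integer d > 0 such that the twisting sheaf O_X(d) — any
O_X-module given with chart identifications exhibiting it as O_X(d) — is invertible and ample
relative to f. (The published statement also records that f is of finite type; that assertion holds
for the relative homogeneous spectrum of any finite-type quasi-coherent graded algebra and is not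
repeated in this row.) -/
theorem result {Y X : Scheme.{u}} [CompactSpace Y] (𝒮 : RelProj.QCGrAlg Y)
    (hft : ∀ (U : Y.Opens) (hU : IsAffineOpen U), (𝒮.str.app (op U)).hom.FiniteType)
    (f : X ⟶ Y)
    (chart : ∀ (U : Y.Opens) (hU : IsAffineOpen U), ((f ⁻¹ᵁ U : X.Opens) : Scheme.{u}) ≅ Proj (𝒮.deg U hU))
    (hX : RelProj.IsRelProj 𝒮 f chart) :
    ∃ d : ℕ, 0 < d ∧ ∀ (L : X.Modules)
      (lam : ∀ (U : Y.Opens) (hU : IsAffineOpen U),
        L ⟶ (Scheme.Modules.pushforward (RelProj.emb f chart U hU)).obj (GrTwist.twist (𝒮.deg U hU) (d : ℤ))),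
      RelProj.IsRelTwist 𝒮 f chart (d : ℤ) L lam → PicF.IsInvertible L ∧ RelAmple.IsRelAmple f L := by
  classical
  -- a finite affine cover of `Y`
  have hcovY : (Set.univ : Set Y) ⊆ ⋃ i : Y.affineOpens, ((i : Y.Opens) : Set Y) := by
    intro x _
    have hx : x ∈ (⨆ i : Y.affineOpens, (i : Y.Opens)) := by
      rw [iSup_affineOpens_eq_top]; trivial
    obtain ⟨i, hi⟩ := TopologicalSpace.Opens.mem_iSup.mp hx
    exact Set.mem_iUnion.mpr ⟨i, hi⟩
  obtain ⟨T, hT⟩ := isCompact_univ.elim_finite_subcover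
    (fun i : Y.affineOpens => ((i : Y.Opens) : Set Y)) (fun i => i.1.2) hcovY
  -- the degrees
  choose dd hdd0 hdd using fun i : Y.affineOpens =>
    Groth.Agent.Lib.Helper63.GrFTCover.exists_degree_cover (𝒮.deg i.1 i.2)
      (𝒮.str.app (op i.1)).hom (𝒮.str_mem i.1 i.2) (hft i.1 i.2)
  have hd : 0 < ∏ i ∈ T, dd i := Finset.prod_pos (fun i _ => hdd0 i)
  refine ⟨∏ i ∈ T, dd i, hd, ?_⟩
  have hc : ∀ i ∈ T, Groth.Agent.Lib.Helper63.RelTwistAmpleD.CoverD 𝒮 (∏ i ∈ T, dd i) i.1 i.2 := by
    intro i hi y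
    have e : ∏ i ∈ T, dd i = (∏ j ∈ T.erase i, dd j) * dd i := (Finset.prod_erase_mul T dd hi).symm
    rw [e]
    exact hdd i _ (Finset.prod_pos (fun j _ => hdd0 j)) y
  -- the cover as a family
  let U : {x // x ∈ T} → Y.Opens := fun i => i.1.1
  have hU : ⨆ i, U i = ⊤ := by
    apply top_unique
    intro x _
    have := hT (Set.mem_univ x)
    simp only [Set.mem_iUnion] at this
    obtain ⟨i, hi, hx⟩ := this
    exact TopologicalSpace.Opens.mem_iSup.mpr ⟨⟨i, hi⟩, hx⟩
  have hUaff : ∀ i, IsAffine (U i) := fun i => i.1.2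
  have hcpt : ∀ i : {x // x ∈ T}, CompactSpace ↥(f ⁻¹ᵁ U i) := by
    intro i
    have : CompactSpace (Proj (𝒮.deg i.1.1 i.1.2)) :=
      Groth.Agent.Lib.Helper63.GrFTCover.compactSpace_proj (𝒮.deg i.1.1 i.1.2)
        (𝒮.str.app (op i.1.1)).hom (𝒮.str_mem i.1.1 i.1.2) (hft i.1.1 i.1.2)
    exact (Scheme.homeoOfIso (chart i.1.1 i.1.2).symm).compactSpace
  have hqc : QuasiCompact f :=
    (HasAffineProperty.iff_of_iSup_eq_top (P := @QuasiCompact)
      (fun i : {x // x ∈ T} => i.1) hU).mpr (fun i => hcpt i)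
  intro L lam hL
  have hinv : PicF.IsInvertible L := by
    intro x
    have hx : f x ∈ (⨆ i, U i) := by rw [hU]; trivial
    obtain ⟨i, hi⟩ := TopologicalSpace.Opens.mem_iSup.mp hx
    exact Groth.Agent.Lib.Helper63.RelTwistAmpleD.exists_triv_of_coverD hL i.1.1 i.1.2
      (hc i.1 i.2) x hi
  refine ⟨hinv, ?_⟩
  refine (Groth.Agent.S4380.result f L U hU).mpr (fun i => ?_)
  have := hUaff i
  refine (Groth.Agent.S4381.result (f ∣_ U i) _).mpr ?_
  exact Groth.Agent.Lib.Helper63.RelTwistAmpleD.isAmple_restrict_twist hL hd hinv i.1.1 i.1.2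
    (hc i.1 i.2) (hcpt i)


end Groth.Agent.S5724
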