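import Groth.Statements.S5729
import Groth.Agent.Lib.Helper18.DegOneMod
import Groth.Agent.Lib.Helper18.SymFTDeg
import Groth.Agent.Lib.Helper18.CSubChart
import Groth.Agent.Lib.Helper42.ProjBundleImm
import Groth.Agent.S8292

set_option autoImplicit false
universe u
open CategoryTheory CategoryTheory.Limits AlgebraicGeometry TopologicalSpace Opposite
open scoped HomogeneousIdeal
open EGA2

namespace Groth.Agent.S5729
open Groth.Agent.Lib.Helper18 Groth.Agent.Lib.Helper18.SymQC Groth.Agent.Lib.Helper18.SymLoc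
  Groth.Agent.Lib.Helper42 Groth.Agent.Lib.Helper42.SymGrading Groth.Agent.Lib.Helper42.SymGrAlg
  Groth.Agent.Lib.Helper42.SymProjHom

/-- For a morphism f : X → Y the following are equivalent: (a) there are a quasi-coherent O_Y-module E
of finite type, its graded symmetric algebra 𝒯 with projective bundle p : P(E) = Proj(𝒯) → Y (given
with its charts over affine opens), and a closed immersion i : X → P(E) with i ≫ p = f; (b) f is
projective in the sense that X is isomorphic over Y to the relative homogeneous spectrum of some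
quasi-coherent graded O_Y-algebra generated by its degree-one part, that part being of finite type. -/
theorem result {X Y : Scheme.{u}} (f : X ⟶ Y) :
    RelProj.IsProjective f ↔
      ∃ (E : Y.Modules) (𝒯 : RelProj.QCGrAlg Y) (j : E ⟶ 𝒯.toModule) (P : Scheme.{u}) (p : P ⟶ Y)
        (chart : ∀ (U : Y.Opens) (hU : IsAffineOpen U), ((p ⁻¹ᵁ U : P.Opens) : Scheme.{u}) ≅ Proj (𝒯.deg U hU))
        (i : X ⟶ P),
        Coh.IsQCoh E ∧ CohB1.IsFT E ∧ RelProj.IsGrSymAlg E 𝒯 j ∧ RelProj.IsRelProj 𝒯 p chart ∧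
          IsClosedImmersion i ∧ i ≫ p = f := by
  constructor
  · rintro ⟨𝒮, P, p, chart, e, hgen, hft, hP, he⟩
    have hE : Coh.IsQCoh (DegOneMod.E1 𝒮) := DegOneMod.isQuasicoherent_E1 𝒮
    have : (DegOneMod.E1 𝒮).IsQuasicoherent := hE
    have hFT : CohB1.IsFT (DegOneMod.E1 𝒮) := DegOneMod.isFiniteType_E1 𝒮 hft
    have hT : RelProj.IsGrSymAlg (DegOneMod.E1 𝒮) (symGrAlg (DegOneMod.E1 𝒮))
        (jHom (DegOneMod.E1 𝒮)) := isGrSymAlg (DegOneMod.E1 𝒮)
    have hPT := RelProjGlue.isRelProj (symGrAlg (DegOneMod.E1 𝒮))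
    have hu1 : ∀ (U : Y.Opens) (hU : IsAffineOpen U) (x : Γ(DegOneMod.E1 𝒮, U)),
        toSec 𝒮.toQCAlg U ((DegOneMod.u1 𝒮).app U x) ∈ 𝒮.deg U hU 1 := DegOneMod.u1_mem 𝒮
    let ub : (symGrAlg (DegOneMod.E1 𝒮)).toQCAlg ⟶ 𝒮.toQCAlg :=
      psiHom (DegOneMod.E1 𝒮) 𝒮.toQCAlg (DegOneMod.u1 𝒮)
    have hub : RelProj.IsGradedHom (𝒜 := symGrAlg (DegOneMod.E1 𝒮)) (ℬ := 𝒮) ub :=
      isGradedHom_psiHom 𝒮 (DegOneMod.E1 𝒮) (DegOneMod.u1 𝒮) hu1
    have hju : jHom (DegOneMod.E1 𝒮) ≫ RelSpec.QCAlg.Hom.toModuleMap ub = DegOneMod.u1 𝒮 :=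
      jHom_psiHom (DegOneMod.E1 𝒮) 𝒮.toQCAlg (DegOneMod.u1 𝒮)
    have hirr : ∀ (U : Y.Opens) (hU : IsAffineOpen U),
        (𝒮.deg U hU)₊ ≤ (((symGrAlg (DegOneMod.E1 𝒮)).deg U hU)₊).map
          (RelProj.gradedHomAt (𝒜 := symGrAlg (DegOneMod.E1 𝒮)) (ℬ := 𝒮) ub hub U hU) := by
      intro U hU
      rw [HomogeneousIdeal.irrelevant_le]
      intro k hk b hb
      change b ∈ Ideal.map (RelProj.gradedHomAt (𝒜 := symGrAlg (DegOneMod.E1 𝒮)) (ℬ := 𝒮) ub hub U hU)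
        (((symGrAlg (DegOneMod.E1 𝒮)).deg U hU)₊.toIdeal)
      have h1 : b ∈ Ideal.span (𝒮.deg U hU 1 : Set (𝒮.presheaf.obj (op U))) :=
        irrelevant_le_span_degOne (hgen U hU) (HomogeneousIdeal.mem_irrelevant_of_mem _ hk hb)
      refine (Ideal.span_le.mpr ?_) h1
      intro g hg
      obtain ⟨x, hx⟩ := DegOneMod.u1_surj 𝒮 U hU g hg
      have h2 : (ub.hom.app (op U)).hom (toSec (symAlg (DegOneMod.E1 𝒮)) U
          ((jHom (DegOneMod.E1 𝒮)).app U x)) = g := by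
        have h3 := congrArg (fun k => toSec 𝒮.toQCAlg U (k.app U x)) hju
        exact h3.trans (congrArg (toSec 𝒮.toQCAlg U) hx)
      rw [SetLike.mem_coe, ← h2]
      refine Ideal.mem_map_of_mem _ (HomogeneousIdeal.mem_irrelevant_of_mem _ (by norm_num : 0 < 1) ?_)
      exact hT.2 U hU _
    obtain ⟨h, hh, -⟩ := existsUnique_isRelProjMap ub hub hirr hPT hP
    have hcl : IsClosedImmersion h :=
      Groth.Agent.S8292.result 𝒮 (symGrAlg (DegOneMod.E1 𝒮)) hgen (DegOneMod.E1 𝒮) hE (DegOneMod.u1 𝒮)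
        hu1 (fun U hU s hs => DegOneMod.u1_surj 𝒮 U hU s hs)
        (jHom (DegOneMod.E1 𝒮)) hT ub hub hju hirr _ p _ chart hPT hP h hh
    refine ⟨DegOneMod.E1 𝒮, symGrAlg (DegOneMod.E1 𝒮), jHom (DegOneMod.E1 𝒮), _, _, _, e.hom ≫ h,
      hE, hFT, hT, hPT, inferInstance, ?_⟩
    rw [Category.assoc, isRelProjMap_comp_base _ _ _ hPT hP h hh, he]
  · rintro ⟨E, 𝒯, j, P, p, chart, i, hE, hFT, hsym, hP, hi, hip⟩
    have : E.IsQuasicoherent := hE
    have hgenT : 𝒯.IsGenDegOne := VeryAmpleOfProj.isGenDegOne_of_isGrSymAlg E hE 𝒯 j hsym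
    have hftT : 𝒯.IsFTDeg 1 := SymFTDeg.isFTDeg_one E 𝒯 j hsym hFT
    have hp : RelProj.IsProjective p :=
      ⟨𝒯, P, p, chart, Iso.refl P, hgenT, hftT, hP, by simp⟩
    rw [← hip]
    exact Groth.Agent.Lib.Helper18.isProjective_closedImmersion_comp i p hp

end Groth.Agent.S5729
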