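import Groth.Statements.S5737
import Groth.Agent.Lib.Helper18.AdicThickNoeth
import Groth.Agent.Lib.Helper18.SurjStalksNilp

set_option autoImplicit false
universe u
open FCompl

namespace Groth.Agent.S5737

section helpers
open AlgebraicGeometry CategoryTheory CategoryTheory.Limits Groth.Agent.Lib.Helper18

theorem toX_surjective (𝔛 : FSch.Sys.{u}) (hF : 𝔛.IsFormal) (n : ℕ) :
    Function.Surjective (𝔛.toX n) := by
  induction n with
  | zero =>
    intro x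
    exact ⟨x, rfl⟩
  | succ n ih =>
    intro x
    obtain ⟨y, hy⟩ := (hF n).2 x
    obtain ⟨z, hz⟩ := ih y
    refine ⟨z, ?_⟩
    show (𝔛.toX n ≫ 𝔛.ι n) z = x
    rw [Scheme.Hom.comp_apply, hz]
    exact hy

theorem appLE_congr_hom {X Y : Scheme.{u}} {g g' : X ⟶ Y} (h : g = g') (U : Y.Opens) (V : X.Opens)
    (e : V ≤ g ⁻¹ᵁ U) : g.appLE U V e = g'.appLE U V (h ▸ e) := by
  subst h; rfl

/-- topological part -/
theorem isClosedEmbedding_of_comp {T₀ T₁ T₂ : Type*} [TopologicalSpace T₀] [TopologicalSpace T₁]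
    [TopologicalSpace T₂] (i : T₀ → T₁) (g : T₁ → T₂) (hi : Continuous i)
    (hs : Function.Surjective i) (hg : Continuous g)
    (h : Topology.IsClosedEmbedding (g ∘ i)) : Topology.IsClosedEmbedding g := by
  refine Topology.IsClosedEmbedding.of_continuous_injective_isClosedMap hg ?_ ?_
  · intro x x' hxx'
    obtain ⟨a, rfl⟩ := hs x
    obtain ⟨a', rfl⟩ := hs x'
    rw [h.injective hxx']
  · intro C hC
    have : g '' C = (g ∘ i) '' (i ⁻¹' C) := by
      rw [Set.image_comp, Set.image_preimage_eq _ hs]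
    rw [this]
    exact h.isClosedMap _ (hC.preimage hi)

theorem surjectiveOnStalks_level {𝔛 𝔜 : FSch.Sys.{u}} (f : 𝔛 ⟶ 𝔜)
    (h𝔜F : 𝔜.IsFormal) (h𝔜A : 𝔜.IsAdic) (hf : FSch.IsAdicHom f)
    [IsClosedImmersion ((f : FSch.Hom 𝔛 𝔜).app 0)] (n : ℕ) :
    SurjectiveOnStalks ((f : FSch.Hom 𝔛 𝔜).app n) := by
  have h𝔛F := isFormal_of_isAdicHom f h𝔜F hf
  have hi := toX_isClosedImmersion 𝔛 h𝔛F n
  have hj := toX_isClosedImmersion 𝔜 h𝔜F n
  have hsq := isPullback_toX f hf n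
  rw [HasRingHomProperty.iff_appLE (P := @SurjectiveOnStalks)]
  intro U V e
  -- the opens at level 0
  have hV₀ : IsAffineOpen ((𝔛.toX n) ⁻¹ᵁ V.1) := V.2.preimage (𝔛.toX n)
  have hU₀ : IsAffineOpen ((𝔜.toX n) ⁻¹ᵁ U.1) := U.2.preimage (𝔜.toX n)
  have e₀ : (𝔛.toX n) ⁻¹ᵁ V.1 ≤ ((f : FSch.Hom 𝔛 𝔜).app 0) ⁻¹ᵁ ((𝔜.toX n) ⁻¹ᵁ U.1) := by
    intro x hx
    have h1 : ((f : FSch.Hom 𝔛 𝔜).app n) ((𝔛.toX n) x) ∈ U.1 := e hx
    have h2 : ((f : FSch.Hom 𝔛 𝔜).app n) ((𝔛.toX n) x) =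
        (𝔜.toX n) (((f : FSch.Hom 𝔛 𝔜).app 0) x) := by
      rw [← Scheme.Hom.comp_apply, ← Scheme.Hom.comp_apply, hsq.w]
    rw [h2] at h1
    exact h1
  -- the ring lemma
  refine surjectiveOnStalks_of_nilpotent _ ((𝔜.toX n).ker.ideal U) (n + 1) ?_
    ((𝔛.toX n).app V.1).hom ((𝔛.toX n).app_surjective V.1 V.2) ?_ ?_
  · have := congrArg (fun I => I.ideal U) (Groth.Agent.S3853.ker_toX_pow 𝔜 h𝔜F h𝔜A n)
    exact this
  · rw [← Scheme.Hom.ker_apply, ker_of_isPullback hsq, ideal_comap_of_le _ _ V U e]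
  · have hcomp : ((𝔛.toX n).app V.1).hom.comp (((f : FSch.Hom 𝔛 𝔜).app n).appLE U.1 V.1 e).hom =
        (((f : FSch.Hom 𝔛 𝔜).app 0).appLE _ _ e₀).hom.comp ((𝔜.toX n).app U.1).hom := by
      rw [← CommRingCat.hom_comp, ← CommRingCat.hom_comp]
      congr 1
      rw [← Scheme.Hom.appLE_eq_app, ← Scheme.Hom.appLE_eq_app, Scheme.Hom.appLE_comp_appLE,
        Scheme.Hom.appLE_comp_appLE]
      exact appLE_congr_hom hsq.w _ _ _
    rw [hcomp]
    refine RingHom.SurjectiveOnStalks.comp ?_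
      (RingHom.surjectiveOnStalks_of_surjective ((𝔜.toX n).app_surjective U.1 U.2))
    exact HasRingHomProperty.appLE (P := @SurjectiveOnStalks) _ inferInstance ⟨_, hU₀⟩ ⟨_, hV₀⟩ e₀

end helpers

open AlgebraicGeometry CategoryTheory in
/-- For formal schemes presented as adic systems of thickenings: a closed immersion of locally
Noetherian formal schemes is then an adic morphism all of whose levels are closed immersions, and
the content is that this is detected at the smallest level. Let (X_n) and (Y_n) be locally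
Noetherian adic formal systems and f : (X_n) → (Y_n) a morphism of systems all of whose squares X_n
→ X_(n+1), Y_n → Y_(n+1) are cartesian. If X_0 → Y_0 is a closed immersion, then X_n → Y_n is a
closed immersion for every n. -/
theorem result {𝔛 𝔜 : FSch.Sys.{u}} (f : 𝔛 ⟶ 𝔜)
    (h𝔛 : 𝔛.IsLocNoethFormal) (h𝔜 : 𝔜.IsLocNoethFormal) (hf : FSch.IsAdicHom f)
    [IsClosedImmersion ((f : FSch.Hom 𝔛 𝔜).app 0)] (n : ℕ) :
    IsClosedImmersion ((f : FSch.Hom 𝔛 𝔜).app n) := by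
  have h𝔛F := Groth.Agent.Lib.Helper18.isFormal_of_isAdicHom f h𝔜.1 hf
  have hi := Groth.Agent.Lib.Helper18.toX_isClosedImmersion 𝔛 h𝔛F n
  have hj := Groth.Agent.Lib.Helper18.toX_isClosedImmersion 𝔜 h𝔜.1 n
  have hsq := Groth.Agent.Lib.Helper18.isPullback_toX f hf n
  rw [isClosedImmersion_iff]
  refine ⟨surjectiveOnStalks_level f h𝔜.1 h𝔜.2.1 hf n, ?_⟩
  refine isClosedEmbedding_of_comp (𝔛.toX n) _ (𝔛.toX n).continuous (toX_surjective 𝔛 h𝔛F n)
    ((f : FSch.Hom 𝔛 𝔜).app n).continuous ?_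
  have h1 : IsClosedImmersion (𝔛.toX n ≫ (f : FSch.Hom 𝔛 𝔜).app n) := by
    rw [hsq.w]; infer_instance
  have h2 := (𝔛.toX n ≫ (f : FSch.Hom 𝔛 𝔜).app n).isClosedEmbedding
  convert h2 using 1
  funext x
  exact (Scheme.Hom.comp_apply _ _ x).symm

end Groth.Agent.S5737
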