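import Mathlib
import Groth.Statements.S5744
import Groth.Agent.Lib.Helper49.QCohProducts

set_option autoImplicit false
universe u
open Coherent

namespace Groth.Agent.S5744

open AlgebraicGeometry CategoryTheory in
/-- For the Čech complex of sheaves indexed by all ordered tuples with products as terms; over a finite
index type these terms are finite direct sums. Let X be a separated scheme, (U_i)_{i ∈ ι} a finite
family of affine opens covering X, and F a quasi-coherent O_X-module. Then for every p the degree-p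
term of the Čech complex of sheaves 𝔠(𝒰, F), the product over ordered (p+1)-tuples of the direct
images (j_{i_0…i_p})_*(F|_{U_{i_0…i_p}}), is a quasi-coherent O_X-module. -/
theorem result {X : Scheme.{u}} [X.IsSeparated] {ι : Type u}
    [Finite ι] (𝒰 : ι → X.Opens) (h𝒰 : ∀ i, IsAffineOpen (𝒰 i)) (hcov : ⨆ i, 𝒰 i = ⊤)
    (F : X.Modules) [Coh.IsQCoh F] (p : ℕ) :
    Coh.IsQCoh (((CechOX.cechSh 𝒰).obj F).X p) := by
  change SheafOfModules.IsQuasicoherent
    (∏ᶜ fun i : (Fin (p + 1) → ι) => (CechOX.pushRestr (∏ᶜ (𝒰 ∘ i))).obj F)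
  refine Groth.Agent.Lib.Helper49.isQuasicoherent_piObj _ fun i => ?_
  have hcpt : IsCompact ((∏ᶜ (𝒰 ∘ i) : X.Opens) : Set X) := by
    have hle : ∀ a, (∏ᶜ (𝒰 ∘ i) : X.Opens) ≤ 𝒰 (i a) := fun a => (Limits.Pi.π (𝒰 ∘ i) a).le
    have hge : (⨅ a, 𝒰 (i a)) ≤ (∏ᶜ (𝒰 ∘ i) : X.Opens) :=
      (Limits.Pi.lift (fun a => homOfLE (iInf_le (fun a => 𝒰 (i a)) a)) :
        (⨅ a, 𝒰 (i a)) ⟶ ∏ᶜ (𝒰 ∘ i)).le
    have heq : (∏ᶜ (𝒰 ∘ i) : X.Opens) = ⨅ a, 𝒰 (i a) := le_antisymm (le_iInf hle) hge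
    rw [heq]
    have h2 : ((⨅ a, 𝒰 (i a) : X.Opens) : Set X) = ⋂₀ (Set.range fun a => ((𝒰 (i a) : X.Opens) : Set X)) := by
      rw [TopologicalSpace.Opens.coe_iInf, Set.sInter_range]
    rw [h2]
    refine QuasiSeparatedSpace.isCompact_sInter_of_nonempty (Set.finite_range _) ⟨_, ⟨0, rfl⟩⟩ ?_ ?_
    · rintro _ ⟨a, rfl⟩
      exact Or.inl (𝒰 (i a)).2
    · rintro _ ⟨a, rfl⟩
      exact (h𝒰 (i a)).isCompact
  exact Groth.Agent.Lib.Helper49.isQuasicoherent_pushforward_restrict _ hcpt F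

end Groth.Agent.S5744
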