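import Groth.Statements.S5749
import Groth.Agent.Lib.Helper45.Dev.SerreVanish
import Groth.Agent.Lib.Helper38.SerreVanishPn
import Groth.Agent.Lib.Helper17.FinCoh
import Groth.Agent.S0019
import Groth.Agent.S0012

set_option linter.style.haveILetI false

set_option autoImplicit false
universe u
open Coherent

namespace Groth.Agent.S5749

open AlgebraicGeometry CategoryTheory in
/-- Let A be an Artinian local ring, i : X → P^r_A a closed immersion compatible with the structure
morphisms to Spec A (X projective over A with the very ample module i^* O(1)), F a coherent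
O_X-module and F(n) = F ⊗ i^* O(n). Then for all sufficiently large n the Euler characteristic
χ_A(F(n)) = Σ_{j ≤ r} (-1)^j length_A H^j(X, F(n)) equals the length of H^0(X, F(n)), the A-module
of global sections of F(n). -/
theorem result (A : Type u) [CommRing A]
    [IsArtinianRing A] [IsLocalRing A] (r : ℕ) (X : Scheme.{u}) [X.Over (Spec (CommRingCat.of A))]
    (i : X ⟶ CohB1.ProjSpace r A) [IsClosedImmersion i]
    (hi : i ≫ CohB1.ProjSpace.toSpec r A = X ↘ Spec (CommRingCat.of A)) (F : X.Modules) (hF : Coh.IsCoh F) :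
    ∃ N : ℤ, ∀ n : ℤ, N ≤ n →
      ((Finset.range (r + 1)).sum fun j => (-1 : ℤ) ^ j *
        ((Module.length A (Coh.HH X (CohB1.tensorMod F
          ((Scheme.Modules.pullback i).obj (Twist.twistProjSpace r A n))) j)).toNat : ℤ)) =
      ((Module.length A (Coh.HH X (CohB1.tensorMod F
          ((Scheme.Modules.pullback i).obj (Twist.twistProjSpace r A n))) 0)).toNat : ℤ) := by
  haveI : IsNoetherianRing A := inferInstance
  haveI : IsNoetherian (CohB1.ProjSpace r A) :=
    Groth.Agent.Lib.Helper17.FinCoh.isNoetherian_projSpace r A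
  haveI : F.IsQuasicoherent := hF.1
  have hpush : Coh.IsCoh ((Coh.push i).obj F) := Groth.Agent.S0019.result i F hF
  obtain ⟨N, hN⟩ := Groth.Agent.Lib.Helper38.SerreVanishPn.serre_vanishing r A _ hpush
  refine ⟨N, fun n hn => ?_⟩
  have hinv : PicF.IsInvertible (Twist.twistProjSpace r A n) :=
    Groth.Agent.Lib.Helper17.TwistTensor.isInvertible_twist (CohB1.polyGrading r A)
      (Groth.Agent.Lib.Helper17.FinCoh.iSup_basicOpen_deg_one r A) n
  have hflf : FlatMod.IsFinLocFree (Twist.twistProjSpace r A n) :=
    Groth.Agent.Lib.Helper45.SerreVanish.isFinLocFree_of_isInvertible hinv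
  have hvan : ∀ j : ℕ, 1 ≤ j → Subsingleton (Coh.HH X (CohB1.tensorMod F
      ((Scheme.Modules.pullback i).obj (Twist.twistProjSpace r A n))) j) := by
    intro j hj
    haveI := Groth.Agent.Lib.Helper11.ProjFormulaDerived.isIso_theta i
      (Twist.twistProjSpace r A n) F hflf
    let e₁ := asIso (Groth.Agent.Lib.Helper11.ProjFormulaDerived.theta i
      (Twist.twistProjSpace r A n) F)
    haveI hq : (CohB1.tensorMod F
        ((Scheme.Modules.pullback i).obj (Twist.twistProjSpace r A n))).IsQuasicoherent :=
      Groth.Agent.Lib.Helper11.GenLocus.isQuasicoherent_tensorMod_of_isInvertible F _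
        (Groth.Agent.Lib.Helper11.PullbackTensor.isInvertible_pullback i hinv)
    obtain ⟨ε⟩ := Groth.Agent.S0012.result i
      (CohB1.tensorMod F ((Scheme.Modules.pullback i).obj (Twist.twistProjSpace r A n))) j
    haveI h1 : Subsingleton (Coh.HH (CohB1.ProjSpace r A)
        (CohB1.tensorMod ((Coh.push i).obj F) (Twist.twistProjSpace r A n)) j) := hN n hn j hj
    haveI h2 : Subsingleton (Coh.HH (CohB1.ProjSpace r A) ((Coh.push i).obj
        (CohB1.tensorMod F ((Scheme.Modules.pullback i).obj (Twist.twistProjSpace r A n)))) j) :=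
      Groth.Agent.Lib.Helper17.HHIso.subsingleton_of_iso e₁ j
    exact ε.toEquiv.subsingleton
  rw [Finset.sum_eq_single 0]
  · simp
  · intro j _ hj0
    haveI := hvan j (Nat.one_le_iff_ne_zero.mpr hj0)
    rw [Module.length_eq_zero]
    simp
  · intro h
    exact absurd (Finset.mem_range.mpr (Nat.succ_pos r)) h

end Groth.Agent.S5749
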