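import Groth.Statements.S5750
import Groth.Agent.S5749
import Mathlib.Analysis.Polynomial.Basic

set_option autoImplicit false
universe u
open Coherent

namespace Groth.Agent.S5750

open AlgebraicGeometry CategoryTheory in
/-- Let A be an Artinian local ring, i : X → P^r_A a closed immersion compatible with the structure
morphisms to Spec A, F a coherent O_X-module and F(n) = F ⊗ i^* O(n). If a polynomial P over ℚ
satisfies P(n) = χ_A(F(n)) = Σ_{j ≤ r} (-1)^j length_A H^j(X, F(n)) for every integer n (the Hilbert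
polynomial of F), then the leading coefficient of P is non-negative. -/
theorem result (A : Type u) [CommRing A]
    [IsArtinianRing A] [IsLocalRing A] (r : ℕ) (X : Scheme.{u}) [X.Over (Spec (CommRingCat.of A))]
    (i : X ⟶ CohB1.ProjSpace r A) [IsClosedImmersion i]
    (hi : i ≫ CohB1.ProjSpace.toSpec r A = X ↘ Spec (CommRingCat.of A)) (F : X.Modules) (hF : Coh.IsCoh F)
    (P : Polynomial ℚ)
    (hP : ∀ n : ℤ, ((Finset.range (r + 1)).sum fun j => (-1 : ℚ) ^ j *
        ((Module.length A (Coh.HH X (CohB1.tensorMod F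
          ((Scheme.Modules.pullback i).obj (Twist.twistProjSpace r A n))) j)).toNat : ℚ)) = P.eval (n : ℚ)) :
    0 ≤ P.leadingCoeff := by
  obtain ⟨N, hN⟩ := Groth.Agent.S5749.result A r X i hi F hF
  by_contra hneg
  push Not at hneg
  -- P(n) ≥ 0 for all integers n ≥ N
  have hnonneg : ∀ n : ℤ, N ≤ n → 0 ≤ P.eval (n : ℚ) := by
    intro n hn
    rw [← hP n]
    have h := hN n hn
    have h' := congrArg (fun z : ℤ => (z : ℚ)) h
    simp only [Int.cast_sum, Int.cast_mul, Int.cast_pow, Int.cast_neg, Int.cast_one,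
      Int.cast_natCast] at h'
    rw [h']
    exact Nat.cast_nonneg _
  -- degree must be positive (else P is a negative constant)
  by_cases hdeg : 0 < P.degree
  · have htend := Polynomial.tendsto_atBot_of_leadingCoeff_nonpos P hdeg hneg.le
    have hev : ∀ᶠ x : ℚ in Filter.atTop, P.eval x < 0 :=
      htend.eventually (Filter.eventually_lt_atBot 0)
    obtain ⟨x₀, hx₀⟩ := Filter.eventually_atTop.mp hev
    obtain ⟨m, hm⟩ := exists_nat_ge (max x₀ (N : ℚ))
    have h1 : x₀ ≤ ((m : ℤ) : ℚ) := by
      simpa using le_trans (le_max_left _ _) hm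
    have h2 : N ≤ (m : ℤ) := by
      have : (N : ℚ) ≤ ((m : ℤ) : ℚ) := by simpa using le_trans (le_max_right _ _) hm
      exact_mod_cast this
    exact absurd (hnonneg (m : ℤ) h2) (not_le.mpr (hx₀ _ h1))
  · have hle : P.degree ≤ 0 := not_lt.mp hdeg
    have hC := Polynomial.eq_C_of_degree_le_zero hle
    have hlc : P.leadingCoeff = P.coeff 0 := by
      rw [hC]; simp
    have h0 := hnonneg N le_rfl
    rw [hC, Polynomial.eval_C] at h0
    rw [hlc] at hneg
    exact absurd h0 (not_le.mpr hneg)

end Groth.Agent.S5750
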