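import Groth.Statements.S5755
import Groth.Agent.Lib.Helper29.Depth

set_option autoImplicit false
universe u
open EGA41

namespace Groth.Agent.S5755

/-- A reduced Noetherian local ring A has depth 0 if and only if A is a field. -/
theorem result (A : Type u) [CommRing A] [IsLocalRing A]
    [IsNoetherianRing A] [IsReduced A] : LocCoh.depth A A = 0 ↔ IsField A := by
  rw [Groth.Agent.Lib.Helper29.depth_eq_zero_iff, IsLocalRing.isField_iff_maximalIdeal_eq]
  constructor
  · intro hm
    rw [AssociatedPrimes.mem_iff, isAssociatedPrime_iff] at hm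
    obtain ⟨_, a, ha⟩ := hm
    have hann : ∀ r : A, r ∈ IsLocalRing.maximalIdeal A ↔ r * a = 0 := by
      intro r
      rw [ha, Submodule.mem_colon_singleton]
      simp
    have hane : a ≠ 0 := by
      rintro rfl
      have : (1 : A) ∈ IsLocalRing.maximalIdeal A := (hann 1).mpr (by simp)
      exact (IsLocalRing.maximalIdeal.isMaximal A).ne_top ((Ideal.eq_top_iff_one _).mpr this)
    have hunit : IsUnit a := by
      by_contra hnu
      have ham : a ∈ IsLocalRing.maximalIdeal A := (IsLocalRing.mem_maximalIdeal a).mpr hnu
      have : a * a = 0 := (hann a).mp ham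
      exact hane (IsReduced.eq_zero a ⟨2, by rw [pow_two]; exact this⟩)
    rw [eq_bot_iff]
    intro r hr
    have : r * a = 0 := (hann r).mp hr
    exact (hunit.mul_left_eq_zero).mp this
  · intro hbot
    rw [AssociatedPrimes.mem_iff, isAssociatedPrime_iff]
    refine ⟨inferInstance, 1, ?_⟩
    ext r
    rw [hbot, Submodule.mem_colon_singleton]
    simp

end Groth.Agent.S5755
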