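import Groth.Statements.S5759
import Groth.Agent.Lib.Helper29.DepthCM

set_option autoImplicit false
universe u
open EGA41

namespace Groth.Agent.S5759

open Groth.Agent.Lib.Helper29 IsLocalRing RingTheory.Sequence in
theorem aux (A : Type u) [CommRing A] [IsLocalRing A] [IsNoetherianRing A] (n : ℕ) :
    ∀ (M : Type u) [AddCommGroup M] [Module A M] [Module.Finite A M] [Nontrivial M],
    Module.supportDim A M = (n : WithBot ℕ∞) →
    (∀ xs : List A, (∀ x ∈ xs, x ∈ IsLocalRing.maximalIdeal A) →
      Module.supportDim A (M ⧸ (Ideal.ofList xs • (⊤ : Submodule A M))) + xs.length =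
          Module.supportDim A M →
        ∀ p ∈ associatedPrimes A (M ⧸ (Ideal.ofList xs • (⊤ : Submodule A M))),
          ringKrullDim (A ⧸ p) =
            Module.supportDim A (M ⧸ (Ideal.ofList xs • (⊤ : Submodule A M)))) →
    LocCoh.IsCohenMacaulayModule A M := by
  induction n with
  | zero =>
    intro M _ _ _ _ hdim _
    unfold LocCoh.IsCohenMacaulayModule
    have h1 := depth_le_supportDim A M
    rw [hdim] at h1 ⊢
    have h2 : LocCoh.depth A M ≤ 0 := by exact_mod_cast h1
    have h3 : LocCoh.depth A M = 0 := le_antisymm h2 (zero_le)
    rw [h3]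
    rfl
  | succ n ih =>
    intro M _ _ _ _ hdim h
    -- associated primes of `M` have dimension `n + 1`
    have e0 : (M ⧸ (Ideal.ofList ([] : List A) • (⊤ : Submodule A M))) ≃ₗ[A] M := by
      rw [Ideal.ofList_nil, Submodule.bot_smul]
      exact Submodule.quotEquivOfEqBot (⊥ : Submodule A M) rfl
    have h0 : ∀ p ∈ associatedPrimes A M, ringKrullDim (A ⧸ p) = Module.supportDim A M := by
      intro p hp
      have h1 := h [] (by simp) (by
        rw [Module.supportDim_eq_of_equiv e0]; simp) p (by
        rw [LinearEquiv.AssociatedPrimes.eq e0]; exact hp)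
      rw [h1, Module.supportDim_eq_of_equiv e0]
    -- the maximal ideal is not associated
    have hm : maximalIdeal A ∉ associatedPrimes A M := by
      intro hmem
      have h1 := h0 _ hmem
      rw [hdim] at h1
      have h2 : ringKrullDim (A ⧸ maximalIdeal A) = 0 := ringKrullDim_eq_zero_of_isField
        ((Ideal.Quotient.maximal_ideal_iff_isField_quotient _).mp (maximalIdeal.isMaximal A))
      rw [h2] at h1
      have : (0 : ℕ) = n + 1 := by exact_mod_cast h1
      omega
    rw [← forall_not_isSMulRegular_iff_mem_associatedPrimes] at hm
    push Not at hm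
    obtain ⟨x, hx, hxreg⟩ := hm
    have hdimN := Module.supportDim_quotSMulTop_succ_eq_supportDim hxreg hx
    have hdimN' : Module.supportDim A (QuotSMulTop x M) = (n : WithBot ℕ∞) := by
      apply withBot_enat_add_one_cancel (supportDim_ne_top A _)
      rw [hdimN, hdim]
      push_cast
      rfl
    have hNnt : Nontrivial (QuotSMulTop x M) := by
      rw [← Module.supportDim_ne_bot_iff_nontrivial A, hdimN']
      exact WithBot.coe_ne_bot
    have hN : LocCoh.IsCohenMacaulayModule A (QuotSMulTop x M) := by
      apply ih (QuotSMulTop x M) hdimN'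
      intro ys hys hys2 p hp
      let e := Submodule.quotOfListConsSMulTopEquivQuotSMulTopInner M x ys
      have h1 := h (x :: ys) (by
        intro r hr
        rcases List.mem_cons.mp hr with rfl | hr
        · exact hx
        · exact hys r hr) (by
        rw [Module.supportDim_eq_of_equiv e, List.length_cons, ← hdimN, ← hys2, add_assoc]
        push_cast
        rfl) p (by
        rw [LinearEquiv.AssociatedPrimes.eq e]; exact hp)
      rw [h1, Module.supportDim_eq_of_equiv e]
    unfold LocCoh.IsCohenMacaulayModule at hN ⊢
    rw [← hdimN, hN, ← depth_quotSMulTop_add_one A M hx hxreg]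
    push_cast
    rfl

/-- Let A be a Noetherian local ring and M a nonzero finitely generated A-module. Suppose that for every
sequence x_1, ..., x_r of elements of the maximal ideal which is part of a system of parameters for
M (i.e. dim(M/(x_1 M + ... + x_r M)) = dim(M) - r), every associated prime p of N = M/(x_1 M + ... +
x_r M) satisfies dim(A/p) = dim(N). Then M is a Cohen-Macaulay module. (The published convention
also counts the zero module as Cohen-Macaulay; this row assumes M nonzero.) -/
theorem result (A : Type u) [CommRing A]
    [IsLocalRing A] [IsNoetherianRing A] (M : Type u) [AddCommGroup M] [Module A M] [Module.Finite A M]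
    [Nontrivial M]
    (h : ∀ xs : List A, (∀ x ∈ xs, x ∈ IsLocalRing.maximalIdeal A) →
      Module.supportDim A (M ⧸ (Ideal.ofList xs • (⊤ : Submodule A M))) + xs.length = Module.supportDim A M →
        ∀ p ∈ associatedPrimes A (M ⧸ (Ideal.ofList xs • (⊤ : Submodule A M))),
          ringKrullDim (A ⧸ p) = Module.supportDim A (M ⧸ (Ideal.ofList xs • (⊤ : Submodule A M)))) :
    LocCoh.IsCohenMacaulayModule A M := by
  have hne : Module.supportDim A M ≠ ⊥ := Module.supportDim_ne_bot_of_nontrivial A M
  have hnt : Module.supportDim A M ≠ ⊤ := Groth.Agent.Lib.Helper29.supportDim_ne_top A M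
  generalize hd : Module.supportDim A M = d at hne hnt
  induction d with
  | bot => exact absurd rfl hne
  | coe d =>
    induction d with
    | top => exact absurd rfl hnt
    | coe n => exact aux A n M hd h

end Groth.Agent.S5759
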