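import Groth.Statements.S5760
import Groth.Agent.Lib.Helper29.DepthCM2

set_option autoImplicit false
universe u
open EGA41

namespace Groth.Agent.S5760

/-- Let A be a Noetherian local ring, M a nonzero finitely generated Cohen-Macaulay A-module, p a prime
ideal in the support of M and r the integer dim(M) - dim(M/pM). Then there exists an M-regular
sequence x_1, ..., x_r of elements of p; for every such sequence, dim(M/(x_1 M + ... + x_r M)) =
dim(M/pM) = dim(A/p), and p is a minimal element of the set of associated primes of M/(x_1 M + ... +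
x_r M). -/
theorem result (A : Type u) [CommRing A]
    [IsLocalRing A] [IsNoetherianRing A] (M : Type u) [AddCommGroup M] [Module A M] [Module.Finite A M]
    (hM : LocCoh.IsCohenMacaulayModule A M) (p : PrimeSpectrum A) (hp : p ∈ Module.support A M) (r : ℕ)
    (hr : Module.supportDim A (M ⧸ (p.asIdeal • (⊤ : Submodule A M))) + r = Module.supportDim A M) :
    (∃ xs : List A, xs.length = r ∧ (∀ x ∈ xs, x ∈ p.asIdeal) ∧ RingTheory.Sequence.IsWeaklyRegular M xs) ∧
      ∀ xs : List A, xs.length = r → (∀ x ∈ xs, x ∈ p.asIdeal) → RingTheory.Sequence.IsWeaklyRegular M xs →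
        Module.supportDim A (M ⧸ (Ideal.ofList xs • (⊤ : Submodule A M))) =
            Module.supportDim A (M ⧸ (p.asIdeal • (⊤ : Submodule A M))) ∧
          Module.supportDim A (M ⧸ (p.asIdeal • (⊤ : Submodule A M))) = ringKrullDim (A ⧸ p.asIdeal) ∧
          p.asIdeal ∈ associatedPrimes A (M ⧸ (Ideal.ofList xs • (⊤ : Submodule A M))) ∧
          ∀ q ∈ associatedPrimes A (M ⧸ (Ideal.ofList xs • (⊤ : Submodule A M))), q ≤ p.asIdeal → q = p.asIdeal := by
  open Groth.Agent.Lib.Helper29 in
  have h0 := supportDim_quotient_smul_top_eq_ringKrullDim_quotient M p hp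
  rw [h0] at hr ⊢
  refine ⟨exists_isWeaklyRegular_mem_of_ringKrullDim_quotient_add_eq A r M hM p hp hr, ?_⟩
  intro xs hlen hmem hreg
  have hxs : ∀ x ∈ xs, x ∈ IsLocalRing.maximalIdeal A :=
    fun x hx => IsLocalRing.le_maximalIdeal p.isPrime.ne_top (hmem x hx)
  have hfin := supportDim_ne_top A (M ⧸ (Ideal.ofList xs • (⊤ : Submodule A M)))
  have hdim := (isWeaklyRegular_iff_supportDim_of_isCohenMacaulayModule A M hM xs hxs).mp hreg
  rw [hlen, ← hr] at hdim
  have hdim' : Module.supportDim A (M ⧸ (Ideal.ofList xs • (⊤ : Submodule A M))) =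
      ringKrullDim (A ⧸ p.asIdeal) := withBot_enat_add_nat_cancel r hfin hdim
  have hpN := mem_support_quotient_ofList M p hp xs hmem
  refine ⟨hdim', rfl, ?_, ?_⟩
  · exact mem_associatedPrimes_of_ringKrullDim_quotient_eq_supportDim _ hfin p hpN hdim'.symm
  · intro q hq hqp
    have := eq_of_le_of_ringKrullDim_quotient_eq_supportDim _ hfin p hdim'.symm
      ⟨q, IsAssociatedPrime.isPrime hq⟩ (mem_support_of_mem_associatedPrimes A hq) hqp
    exact congrArg PrimeSpectrum.asIdeal this

end Groth.Agent.S5760
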