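import Groth.Statements.S5764
import Groth.Agent.Lib.Helper55.KrullDimIntegral
import Mathlib.RingTheory.IntegralClosure.GoingDown
import Mathlib.RingTheory.Ideal.GoingDown
import Mathlib.RingTheory.Ideal.KrullsHeightTheorem

set_option autoImplicit false
universe u
open EGA41

namespace Groth.Agent.S5764

/-- Let B be an integral domain, A a local subring of B which is integrally closed (in its field of
fractions), and suppose B is integral over A. Then dim(B_n) = dim(A) for every maximal ideal n of B. -/
theorem result (A B : Type u) [CommRing A]
    [CommRing B] [IsDomain B] [Algebra A B] (hinj : Function.Injective (algebraMap A B)) [IsDomain A]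
    [IsLocalRing A] [IsIntegrallyClosed A] [Algebra.IsIntegral A B] (n : Ideal B) [n.IsMaximal] :
    ringKrullDim (Localization.AtPrime n) = ringKrullDim A := by
  have hfaith : FaithfulSMul A B := (faithfulSMul_iff_algebraMap_injective A B).mpr hinj
  have hgd : Algebra.HasGoingDown A B := inferInstance
  have hnp : n.IsPrime := Ideal.IsMaximal.isPrime inferInstance
  rw [IsLocalization.AtPrime.ringKrullDim_eq_height n]
  apply le_antisymm
  · calc (n.height : WithBot ℕ∞) ≤ ringKrullDim B :=
          Ideal.height_le_ringKrullDim_of_ne_top hnp.ne_top
      _ ≤ ringKrullDim A := Groth.Agent.Lib.Helper55.ringKrullDim_le_of_isIntegral A B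
  · rw [← IsLocalRing.maximalIdeal_height_eq_ringKrullDim]
    have hmax : (n.comap (algebraMap A B)).IsMaximal :=
      Ideal.isMaximal_comap_of_isIntegral_of_isMaximal n
    have hnm : n.comap (algebraMap A B) = IsLocalRing.maximalIdeal A :=
      IsLocalRing.eq_maximalIdeal hmax
    have hlo : n.LiesOver (IsLocalRing.maximalIdeal A) := ⟨hnm.symm⟩
    have hle : (IsLocalRing.maximalIdeal A).height ≤ n.height := by
      have h1 := PrimeSpectrum.height_eq_orderHeight
        (⟨IsLocalRing.maximalIdeal A, inferInstance⟩ : PrimeSpectrum A)
      have h2 := PrimeSpectrum.height_eq_orderHeight (⟨n, hnp⟩ : PrimeSpectrum B)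
      change (IsLocalRing.maximalIdeal A).height = _ at h1
      change n.height = _ at h2
      rw [h1, h2]
      apply Order.height_le
      intro l hl
      have hlo' : n.LiesOver l.last.asIdeal := by rw [hl]; exact hlo
      obtain ⟨L, hLlen, hLlast, -⟩ := Ideal.exists_ltSeries_of_hasGoingDown l n
      rw [← hLlen]
      exact Order.length_le_height hLlast.le
    exact_mod_cast hle

end Groth.Agent.S5764
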