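import Groth.Statements.S5768
import Groth.Agent.Lib.Helper29.QuotSup
import Groth.Agent.Lib.Helper29.SuppDim
import Groth.Agent.Lib.Helper85.HS.DimDelta

set_option autoImplicit false
universe u
open EGA41

namespace Groth.Agent.S5768

/-- Let A be a semi-local Noetherian ring with Jacobson radical r, M a nonzero finitely generated
A-module and x_1, ..., x_k elements of r. One always has dim(M/(x_1 M + ... + x_k M)) ≥ dim(M) - k,
and equality holds if and only if there exist further elements of r which together with the x_i form
a system of parameters for M (dim(M) elements of r modulo which M has finite length). -/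
theorem result (A : Type u) [CommRing A]
    [IsNoetherianRing A] [Finite (MaximalSpectrum A)] (M : Type u) [AddCommGroup M] [Module A M]
    [Module.Finite A M] [Nontrivial M] (xs : List A) (hxs : ∀ x ∈ xs, x ∈ Ring.jacobson A) :
    Module.supportDim A (M ⧸ (Ideal.ofList xs • (⊤ : Submodule A M))) + xs.length = Module.supportDim A M ↔
      ∃ ys : List A, (∀ y ∈ ys, y ∈ Ring.jacobson A) ∧
        ((xs ++ ys).length : WithBot ℕ∞) = Module.supportDim A M ∧
        IsFiniteLength A (M ⧸ (Ideal.ofList (xs ++ ys) • (⊤ : Submodule A M))) := by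
  classical
  set N := M ⧸ (Ideal.ofList xs • (⊤ : Submodule A M)) with hN
  have hfin : ∀ (P : Type u) [AddCommGroup P] [Module A P], Module.supportDim A P ≠ ⊤ :=
    fun P _ _ => ((Module.supportDim_le_ringKrullDim A P).trans_lt
      (Groth.Agent.Lib.Helper29.ringKrullDim_lt_top_of_finite_maximalSpectrum A)).ne
  -- general inequality for lists in the Jacobson radical
  have hgen : ∀ (P : Type u) [AddCommGroup P] [Module A P] [Module.Finite A P] (l : List A),
      (∀ x ∈ l, x ∈ Ring.jacobson A) →
      Module.supportDim A P ≤
        Module.supportDim A (P ⧸ (Ideal.ofList l • (⊤ : Submodule A P))) + l.length := by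
    intro P _ _ _ l hl
    have := Groth.Agent.Lib.Helper85.HS.supportDim_le_supportDim_quotient_add l.length P l.get
      (fun i => hl _ (List.get_mem l i))
    rwa [← Groth.Agent.Lib.Helper29.ofList_eq_span_range_get] at this
  have hge : Module.supportDim A M ≤ Module.supportDim A N + xs.length := hgen M xs hxs
  have hMbot : Module.supportDim A M ≠ ⊥ := Module.supportDim_ne_bot_of_nontrivial A M
  constructor
  · intro heq
    have hNbot : Module.supportDim A N ≠ ⊥ := by
      intro h
      rw [h, WithBot.bot_add] at heq
      exact hMbot heq.symm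
    obtain ⟨n, hn⟩ := WithBot.ne_bot_iff_exists.mp hNbot
    have hn' : n ≠ ⊤ := fun hh => hfin N (by rw [← hn, hh]; rfl)
    obtain ⟨e, rfl⟩ := ENat.ne_top_iff_exists.mp hn'
    have hdN : Module.supportDim A N = (e : WithBot ℕ∞) := hn.symm
    obtain ⟨y, hy, hfl⟩ := Groth.Agent.Lib.Helper85.HS.exists_fin_isFiniteLength_quotient e N
      (le_of_eq hdN)
    refine ⟨List.ofFn y, ?_, ?_, ?_⟩
    · intro z hz
      rw [List.mem_ofFn] at hz
      obtain ⟨i, rfl⟩ := hz
      exact hy i
    · rw [← heq, hdN, List.length_append, List.length_ofFn]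
      push_cast
      rw [add_comm]
    · rw [← Groth.Agent.Lib.Helper29.ofList_ofFn] at hfl
      exact (Groth.Agent.Lib.Helper29.quotOfListAppendEquiv xs (List.ofFn y) M).isFiniteLength hfl
  · rintro ⟨ys, hys, hlen, hfl⟩
    refine le_antisymm ?_ hge
    have hfl' : IsFiniteLength A (N ⧸ (Ideal.ofList ys • (⊤ : Submodule A N))) :=
      (Groth.Agent.Lib.Helper29.quotOfListAppendEquiv xs ys M).symm.isFiniteLength hfl
    have h0 := Groth.Agent.Lib.Helper85.HS.supportDim_le_zero_of_isFiniteLength hfl'
    have h1 := hgen N ys hys
    have h2 : Module.supportDim A N ≤ (ys.length : WithBot ℕ∞) := by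
      calc Module.supportDim A N ≤ _ := h1
        _ ≤ 0 + (ys.length : WithBot ℕ∞) := by gcongr
        _ = _ := zero_add _
    rw [← hlen, List.length_append]
    push_cast
    rw [add_comm (xs.length : WithBot ℕ∞)]
    gcongr

end Groth.Agent.S5768
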