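import Groth.Statements.S5772
import Mathlib.RingTheory.Filtration

set_option autoImplicit false
universe u
open scoped Pointwise
open EGA41

namespace Groth.Agent.S5772

/-- Let A be a Noetherian ring, M a finitely generated A-module and f an element of A. Then f is
M-regular (multiplication by f on M is injective) if and only if f is M-quasi-regular, i.e. the
canonical surjection (M/fM)[T] → gr(M) for the (f)-adic filtration is bijective, which amounts to:
for every k ≥ 0 and x ∈ M, f^k x ∈ f^(k+1) M implies x ∈ fM. -/
theorem result (A : Type u) [CommRing A] [IsNoetherianRing A] (M : Type u)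
    [AddCommGroup M] [Module A M] [Module.Finite A M] (f : A) :
    IsSMulRegular M f ↔
      ∀ (k : ℕ) (x : M), f ^ k • x ∈ f ^ (k + 1) • (⊤ : Submodule A M) → x ∈ f • (⊤ : Submodule A M) := by
  have key : ∀ (a : A) (y : M), y ∈ a • (⊤ : Submodule A M) ↔ ∃ z : M, a • z = y := by
    intro a y
    rw [Submodule.mem_smul_pointwise_iff_exists]
    simp
  constructor
  · intro hreg k x hx
    rw [key] at hx ⊢
    obtain ⟨y, hy⟩ := hx
    refine ⟨y, ?_⟩
    have h2 : f ^ k • (f • y) = f ^ k • x := by
      rw [← hy, pow_succ, mul_smul]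
    exact (hreg.pow k) h2
  · intro hcrit
    rw [isSMulRegular_iff_right_eq_zero_of_smul]
    intro x hx
    have hmem : ∀ k : ℕ, ∃ y : M, f ^ k • y = x := by
      intro k
      induction k with
      | zero => exact ⟨x, by simp⟩
      | succ k ih =>
        obtain ⟨y, hy⟩ := ih
        have h3 : f ^ (k + 1) • y ∈ f ^ (k + 1 + 1) • (⊤ : Submodule A M) := by
          have : f ^ (k + 1) • y = 0 := by
            rw [pow_succ', mul_smul, hy, hx]
          rw [this]
          exact Submodule.zero_mem _
        obtain ⟨z, hz⟩ := (key _ _).mp (hcrit (k + 1) y h3)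
        exact ⟨z, by rw [pow_succ, mul_smul, hz, hy]⟩
    have hx' : x ∈ (⨅ k : ℕ, (Ideal.span {f}) ^ k • ⊤ : Submodule A M) := by
      rw [Submodule.mem_iInf]
      intro k
      rw [Ideal.span_singleton_pow, Submodule.ideal_span_singleton_smul]
      exact (key _ _).mpr (hmem k)
    obtain ⟨⟨r, hr⟩, hrx⟩ := (Ideal.mem_iInf_smul_pow_eq_bot_iff (Ideal.span {f}) x).mp hx'
    obtain ⟨b, rfl⟩ := Ideal.mem_span_singleton'.mp hr
    simp only at hrx
    rw [← hrx, mul_smul, hx, smul_zero]

end Groth.Agent.S5772
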