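import Groth.Statements.S5773
import Groth.Agent.H76.RegQuotFlat
import Mathlib.RingTheory.Regular.RegularSequence

set_option autoImplicit false
universe u
open EGA41

namespace Groth.Agent.S5773

/-- Let A → B be a local homomorphism of Noetherian local rings, M a finitely generated B-module and
f_1, ..., f_n elements of the maximal ideal of B forming an M-regular sequence. If the quotient
M/(f_1 M + ... + f_n M) is flat over A, then all the quotients M/(f_1 M + ... + f_i M) for 0 ≤ i ≤ n
(in particular M) are flat over A. -/
theorem result (A B : Type u) [CommRing A] [CommRing B]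
    [IsLocalRing A] [IsLocalRing B] [IsNoetherianRing A] [IsNoetherianRing B] [Algebra A B]
    [IsLocalHom (algebraMap A B)] (M : Type u) [AddCommGroup M] [Module B M] [Module A M]
    [IsScalarTower A B M] [Module.Finite B M] (fs : List B) (hfs : ∀ f ∈ fs, f ∈ IsLocalRing.maximalIdeal B)
    (hreg : RingTheory.Sequence.IsWeaklyRegular M fs)
    (hflat : Module.Flat A (M ⧸ (Ideal.ofList fs • (⊤ : Submodule B M)))) (i : ℕ) (hi : i ≤ fs.length) :
    Module.Flat A (M ⧸ (Ideal.ofList (fs.take i) • (⊤ : Submodule B M))) := by
  have key : ∀ k i : ℕ, i + k = fs.length →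
      Module.Flat A (M ⧸ (Ideal.ofList (fs.take i) • (⊤ : Submodule B M))) := by
    intro k
    induction k with
    | zero =>
      intro i hik
      have : i = fs.length := by omega
      subst this
      rw [List.take_length]
      exact hflat
    | succ k ih =>
      intro i hik
      have hi' : i < fs.length := by omega
      haveI : Module.Flat A (M ⧸ (Ideal.ofList (fs.take (i + 1)) • (⊤ : Submodule B M))) :=
        ih (i + 1) (by omega)
      have hI' : Ideal.ofList (fs.take (i + 1)) =
          Ideal.ofList (fs.take i) ⊔ Ideal.span {fs[i]} := by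
        rw [List.take_succ_eq_append_getElem hi', Ideal.ofList_append, Ideal.ofList_singleton]
      have hle : Ideal.ofList (fs.take i) • (⊤ : Submodule B M) ≤
          Ideal.ofList (fs.take (i + 1)) • (⊤ : Submodule B M) := by
        rw [hI']
        exact Submodule.smul_mono_left le_sup_left
      let fB : (M ⧸ (Ideal.ofList (fs.take i) • (⊤ : Submodule B M))) →ₗ[B]
          (M ⧸ (Ideal.ofList (fs.take (i + 1)) • (⊤ : Submodule B M))) :=
        Submodule.mapQ _ _ LinearMap.id (by simpa using hle)
      refine Groth.Agent.H76.RegQuotFlat.flat_of_regular_quotient_flat (A := A) (B := B)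
        (fs[i]) (hfs _ (List.getElem_mem hi')) (hreg.regular_mod_prev i hi') fB ?_ ?_
      · intro y
        obtain ⟨x, rfl⟩ := Submodule.Quotient.mk_surjective _ y
        exact ⟨Submodule.Quotient.mk x, rfl⟩
      · intro y
        constructor
        · intro h0
          obtain ⟨x, rfl⟩ := Submodule.Quotient.mk_surjective _ y
          have h1 : x ∈ Ideal.ofList (fs.take (i + 1)) • (⊤ : Submodule B M) :=
            (Submodule.Quotient.mk_eq_zero _).mp h0
          rw [hI', Submodule.sup_smul, Submodule.ideal_span_singleton_smul] at h1
          obtain ⟨u, hu, v, hv, rfl⟩ := Submodule.mem_sup.mp h1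
          obtain ⟨w, -, rfl⟩ := (Submodule.mem_smul_pointwise_iff_exists _ _ _).mp hv
          refine ⟨(Ideal.ofList (fs.take i) • (⊤ : Submodule B M)).mkQ w, ?_⟩
          show (Ideal.ofList (fs.take i) • (⊤ : Submodule B M)).mkQ (u + fs[i] • w) =
            fs[i] • (Ideal.ofList (fs.take i) • (⊤ : Submodule B M)).mkQ w
          rw [← map_smul, map_add, Submodule.mkQ_apply, Submodule.mkQ_apply,
            (Submodule.Quotient.mk_eq_zero _).mpr hu, zero_add]
        · rintro ⟨z, rfl⟩
          obtain ⟨w, rfl⟩ := Submodule.Quotient.mk_surjective _ z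
          show (Ideal.ofList (fs.take (i + 1)) • (⊤ : Submodule B M)).mkQ (fs[i] • w) = 0
          rw [Submodule.mkQ_apply, Submodule.Quotient.mk_eq_zero, hI']
          exact Submodule.smul_mem_smul (Ideal.mem_sup_right (Ideal.subset_span rfl))
            Submodule.mem_top
  exact key (fs.length - i) i (by omega)

end Groth.Agent.S5773
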