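import Groth.Statements.S5775
import Groth.Agent.Lib.Helper29.RegSeqFibre
import Groth.Agent.H76.InjFlat

set_option autoImplicit false
universe u
open EGA41

namespace Groth.Agent.S5775

/-- Let A → B be a local homomorphism of Noetherian local rings, m the maximal ideal of A, M a finitely
generated B-module flat over A and R a B-submodule of M such that M/R is flat over A. Let f_1, ...,
f_n be elements of the maximal ideal of B such that (i) f_i M ⊆ R for all i, (ii) the images of the
f_i form an (M/mM)-regular sequence, and (iii) the submodule f_1 (M/mM) + ... + f_n (M/mM) is the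
image of R in M/mM. Then (f_i) is an M-regular sequence and R = f_1 M + ... + f_n M. -/
theorem result (A B : Type u) [CommRing A] [CommRing B] [IsLocalRing A]
    [IsLocalRing B] [IsNoetherianRing A] [IsNoetherianRing B] [Algebra A B] [IsLocalHom (algebraMap A B)]
    (M : Type u) [AddCommGroup M] [Module B M] [Module A M] [IsScalarTower A B M] [Module.Finite B M]
    [Module.Flat A M] (R : Submodule B M) (hR : Module.Flat A (M ⧸ R)) (fs : List B)
    (hfs : ∀ f ∈ fs, f ∈ IsLocalRing.maximalIdeal B) (h1 : Ideal.ofList fs • (⊤ : Submodule B M) ≤ R)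
    (h2 : RingTheory.Sequence.IsWeaklyRegular
      (M ⧸ ((IsLocalRing.maximalIdeal A).map (algebraMap A B) • (⊤ : Submodule B M))) fs)
    (h3 : Ideal.ofList fs • (⊤ : Submodule B
        (M ⧸ ((IsLocalRing.maximalIdeal A).map (algebraMap A B) • (⊤ : Submodule B M)))) =
      R.map ((IsLocalRing.maximalIdeal A).map (algebraMap A B) • (⊤ : Submodule B M)).mkQ) :
    RingTheory.Sequence.IsWeaklyRegular M fs ∧ R = Ideal.ofList fs • (⊤ : Submodule B M) := by
  classical
  obtain ⟨hreg, hflat⟩ :=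
    Groth.Agent.Lib.Helper29.isWeaklyRegular_and_flat_of_fibre A B fs M h2
  refine ⟨hreg, le_antisymm ?_ h1⟩
  -- notation
  set I : Ideal B := Ideal.ofList fs with hI
  set 𝔫 : Ideal B := (IsLocalRing.maximalIdeal A).map (algebraMap A B) with h𝔫
  let K : Submodule B M := I • ⊤
  -- the surjection `M/IM → M/R`
  let π : (M ⧸ K) →ₗ[B] (M ⧸ R) := Submodule.factor h1
  have hπ : ∀ m : M, π (K.mkQ m) = R.mkQ m := fun m => rfl
  let πA : (M ⧸ K) →ₗ[A] (M ⧸ R) := π.restrictScalars A
  have hinj : Function.Injective (LinearMap.lTensor (IsLocalRing.ResidueField A) πA) := by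
    rw [injective_iff_map_eq_zero]
    intro t ht
    let e := TensorProduct.quotTensorEquivQuotSMul (M ⧸ K) (IsLocalRing.maximalIdeal A)
    let e' := TensorProduct.quotTensorEquivQuotSMul (M ⧸ R) (IsLocalRing.maximalIdeal A)
    obtain ⟨n, hn⟩ := Submodule.mkQ_surjective _ (e t)
    have ht' : t = (1 : A ⧸ IsLocalRing.maximalIdeal A) ⊗ₜ[A] n := by
      rw [← TensorProduct.quotTensorEquivQuotSMul_symm_mk, ← Submodule.mkQ_apply, hn]
      exact (e.symm_apply_apply t).symm
    rw [ht'] at ht ⊢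
    have h4 : e' ((1 : A ⧸ IsLocalRing.maximalIdeal A) ⊗ₜ[A] (πA n)) = 0 := by
      have : (LinearMap.lTensor (IsLocalRing.ResidueField A) πA)
          ((1 : A ⧸ IsLocalRing.maximalIdeal A) ⊗ₜ[A] n) =
          (1 : A ⧸ IsLocalRing.maximalIdeal A) ⊗ₜ[A] (πA n) := rfl
      exact (congrArg e' this).symm.trans ((congrArg e' ht).trans (map_zero e'))
    have h5 : πA n ∈ IsLocalRing.maximalIdeal A • (⊤ : Submodule A (M ⧸ R)) := by
      have h6 := TensorProduct.quotTensorEquivQuotSMul_mk_tmul (IsLocalRing.maximalIdeal A)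
        (1 : A) (πA n)
      rw [one_smul] at h6
      have h7 : Submodule.Quotient.mk
          (p := IsLocalRing.maximalIdeal A • (⊤ : Submodule A (M ⧸ R))) (πA n) = 0 :=
        h6.symm.trans h4
      exact (Submodule.Quotient.mk_eq_zero _).mp h7
    obtain ⟨m, rfl⟩ := Submodule.mkQ_surjective K n
    have h8 : R.mkQ m ∈ 𝔫 • (⊤ : Submodule B (M ⧸ R)) :=
      (Groth.Agent.Lib.Helper93.DepthFlat.mem_map_smul_top_iff _ _).mpr h5
    -- `m ∈ R + 𝔫 M`
    have h9 : (𝔫 • (⊤ : Submodule B (M ⧸ R))) = (𝔫 • (⊤ : Submodule B M)).map R.mkQ := by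
      rw [Submodule.map_smul'', Submodule.map_top, Submodule.range_mkQ]
    rw [h9] at h8
    obtain ⟨m', hm', hm'eq⟩ := h8
    have h10 : m - m' ∈ R := by
      have : R.mkQ (m - m') = 0 := by rw [map_sub, hm'eq, sub_self]
      exact (Submodule.Quotient.mk_eq_zero R).mp this
    -- use (iii)
    have h11 : (𝔫 • (⊤ : Submodule B M)).mkQ (m - m') ∈
        I • (⊤ : Submodule B (M ⧸ 𝔫 • (⊤ : Submodule B M))) := by
      rw [h3]
      exact ⟨m - m', h10, rfl⟩
    have h12 : (I • (⊤ : Submodule B (M ⧸ 𝔫 • (⊤ : Submodule B M)))) =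
        K.map (𝔫 • (⊤ : Submodule B M)).mkQ := by
      rw [Submodule.map_smul'', Submodule.map_top, Submodule.range_mkQ]
    rw [h12] at h11
    obtain ⟨m'', hm'', hm''eq⟩ := h11
    have h13 : m - m' - m'' ∈ 𝔫 • (⊤ : Submodule B M) := by
      have : (𝔫 • (⊤ : Submodule B M)).mkQ (m - m' - m'') = 0 := by
        rw [map_sub (𝔫 • (⊤ : Submodule B M)).mkQ (m - m') m'', hm''eq, sub_self]
      exact (Submodule.Quotient.mk_eq_zero _).mp this
    -- hence `[m] ∈ 𝔫 (M/K)`
    have h14 : K.mkQ m ∈ 𝔫 • (⊤ : Submodule B (M ⧸ K)) := by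
      have h15 : (𝔫 • (⊤ : Submodule B (M ⧸ K))) = (𝔫 • (⊤ : Submodule B M)).map K.mkQ := by
        rw [Submodule.map_smul'', Submodule.map_top, Submodule.range_mkQ]
      rw [h15]
      refine ⟨m' + (m - m' - m''), Submodule.add_mem _ hm' h13, ?_⟩
      have h16 : K.mkQ m'' = 0 := (Submodule.Quotient.mk_eq_zero K).mpr hm''
      have h17 : m' + (m - m' - m'') = m - m'' := by abel
      rw [h17, map_sub, h16, sub_zero]
    have h18 : K.mkQ m ∈ IsLocalRing.maximalIdeal A • (⊤ : Submodule A (M ⧸ K)) :=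
      (Groth.Agent.Lib.Helper93.DepthFlat.mem_map_smul_top_iff _ _).mp h14
    have h19 : e ((1 : A ⧸ IsLocalRing.maximalIdeal A) ⊗ₜ[A] (K.mkQ m)) = 0 := by
      have h6 := TensorProduct.quotTensorEquivQuotSMul_mk_tmul (IsLocalRing.maximalIdeal A)
        (1 : A) (K.mkQ m)
      rw [one_smul] at h6
      exact h6.trans ((Submodule.Quotient.mk_eq_zero _).mpr h18)
    exact e.map_eq_zero_iff.mp h19
  obtain ⟨hπinj, -⟩ := Groth.Agent.H76.InjFlat.injective_and_flat (S := B) πA hinj
  intro r hr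
  have h20 : πA (K.mkQ r) = 0 := by
    show R.mkQ r = 0
    exact (Submodule.Quotient.mk_eq_zero R).mpr hr
  have h21 : K.mkQ r = 0 := hπinj (h20.trans (map_zero πA).symm)
  exact (Submodule.Quotient.mk_eq_zero K).mp h21

end Groth.Agent.S5775
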