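import Groth.Statements.S5780
import Mathlib.RingTheory.Ideal.AssociatedPrime.Finiteness
import Mathlib.RingTheory.Nakayama

set_option autoImplicit false
universe u
open EGA41

namespace Groth.Agent.S5780

/-- Let A be a Noetherian local ring with maximal ideal m. If every element of m which is not in m² is a
zero divisor in A, then there is a nonzero c in A with c m = 0, i.e. m is an associated prime of A. -/
theorem result (A : Type u) [CommRing A]
    [IsLocalRing A] [IsNoetherianRing A]
    (h : ∀ a ∈ IsLocalRing.maximalIdeal A, a ∉ IsLocalRing.maximalIdeal A ^ 2 → ¬ IsSMulRegular A a) :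
    IsLocalRing.maximalIdeal A ∈ associatedPrimes A A := by
  classical
  set m := IsLocalRing.maximalIdeal A with hm
  have hfin : (associatedPrimes A A).Finite := associatedPrimes.finite A A
  -- index set: `none ↦ m ^ 2`, `some p ↦ p`
  let f : Option (Ideal A) → Ideal A := fun o => o.elim (m ^ 2) id
  let s : Finset (Option (Ideal A)) := insert none (hfin.toFinset.image some)
  have hcover : (m : Set A) ⊆ ⋃ i ∈ (↑s : Set (Option (Ideal A))), f i := by
    intro a ha
    by_cases ha2 : a ∈ m ^ 2
    · refine Set.mem_biUnion (x := none) (by simp [s]) ?_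
      exact ha2
    · have hnr : ¬ IsSMulRegular A a := h a ha ha2
      have hmem : a ∈ ⋃ p ∈ associatedPrimes A A, (p : Set A) := by
        rw [biUnion_associatedPrimes_eq_compl_regular A A]
        exact hnr
      obtain ⟨p, hp, hap⟩ := Set.mem_iUnion₂.mp hmem
      refine Set.mem_biUnion (x := some p) ?_ hap
      simp [s, hp]
  have hprime : ∀ i ∈ s, i ≠ none → i ≠ none → (f i).IsPrime := by
    intro i hi hne _
    cases i with
    | none => exact absurd rfl hne
    | some p =>
      have : p ∈ associatedPrimes A A := by
        simpa [s] using hi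
      exact this.isPrime
  obtain ⟨i, hi, hle⟩ := (Ideal.subset_union_prime none none hprime).mp hcover
  cases i with
  | none =>
    -- m ≤ m ^ 2, so m = ⊥ by Nakayama
    have hle' : m ≤ m • m := by
      rw [smul_eq_mul, ← pow_two]; exact hle
    have hbot : m = ⊥ := Submodule.eq_bot_of_le_smul_of_le_jacobson_bot m m
      (IsNoetherian.noetherian m) hle' (IsLocalRing.maximalIdeal_le_jacobson ⊥)
    obtain ⟨p, hp⟩ := associatedPrimes.nonempty A A
    have hp' : p.IsPrime := hp.isPrime
    have : p ≤ m := IsLocalRing.le_maximalIdeal hp'.ne_top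
    have hpm : p = m := by
      rw [hbot] at this ⊢
      exact le_bot_iff.mp this
    rw [← hpm]; exact hp
  | some p =>
    have hp : p ∈ associatedPrimes A A := by
      simpa [s] using hi
    have hp' : p.IsPrime := hp.isPrime
    have h1 : p ≤ m := IsLocalRing.le_maximalIdeal hp'.ne_top
    have hpm : p = m := le_antisymm h1 hle
    rw [← hpm]; exact hp

end Groth.Agent.S5780
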