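import Groth.Statements.S5781
import Mathlib

set_option autoImplicit false
universe u
open EGA41

namespace Groth.Agent.S5781

section Helpers
open Pointwise

variable {A : Type u} [CommRing A] (m : Ideal A) (a : A) (ha : a ∈ m)

theorem mem_smul_top_iff (x : ↥m) :
    x ∈ a • (⊤ : Submodule A ↥m) ↔ ∃ y : ↥m, (x : A) = a * y := by
  rw [Submodule.mem_smul_pointwise_iff_exists]
  constructor
  · rintro ⟨y, -, rfl⟩
    exact ⟨y, by simp⟩
  · rintro ⟨y, hy⟩
    refine ⟨y, Submodule.mem_top, ?_⟩
    ext
    simp [hy]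

end Helpers

/-- Suppose A is a Noetherian local ring whose maximal ideal is m, and take a ∈ m with a ∉ m². Then the
quotient m/am contains a direct summand isomorphic to m/Aa: concretely, one can find A-linear maps f
: m/Aa → m/am and g : m/am → m/Aa such that g ∘ f is the identity. -/
theorem result (A : Type u) [CommRing A] [IsLocalRing A]
    [IsNoetherianRing A] (a : A) (ha : a ∈ IsLocalRing.maximalIdeal A) (ha2 : a ∉ IsLocalRing.maximalIdeal A ^ 2) :
    ∃ (f : (↥(IsLocalRing.maximalIdeal A) ⧸ Submodule.span A {(⟨a, ha⟩ : ↥(IsLocalRing.maximalIdeal A))}) →ₗ[A]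
          QuotSMulTop a ↥(IsLocalRing.maximalIdeal A))
      (g : QuotSMulTop a ↥(IsLocalRing.maximalIdeal A) →ₗ[A]
          (↥(IsLocalRing.maximalIdeal A) ⧸ Submodule.span A {(⟨a, ha⟩ : ↥(IsLocalRing.maximalIdeal A))})),
      g.comp f = LinearMap.id := by
  classical
  let m := IsLocalRing.maximalIdeal A
  let a' : ↥m := ⟨a, ha⟩
  -- a functional on the cotangent space with value `1` at the class of `a`
  have hne : m.toCotangent a' ≠ 0 := by
    rw [Ne, Ideal.toCotangent_eq_zero]
    exact ha2
  obtain ⟨φ, hφ⟩ := Module.Projective.exists_dual_eq_one (IsLocalRing.ResidueField A)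
    (V := IsLocalRing.CotangentSpace A) hne
  let lam : ↥m →ₗ[A] IsLocalRing.ResidueField A := (φ.restrictScalars A).comp m.toCotangent
  have hlam : lam a' = 1 := hφ
  -- the class of `a` in `m / a m`
  let ca : QuotSMulTop a ↥m := Submodule.Quotient.mk a'
  have hca : ∀ x : A, x ∈ m → x • ca = 0 := by
    intro x hx
    change x • Submodule.Quotient.mk a' = 0
    rw [← Submodule.Quotient.mk_smul, Submodule.Quotient.mk_eq_zero]
    rw [mem_smul_top_iff]
    exact ⟨⟨x, hx⟩, by simp [a', mul_comm]⟩
  let mu : IsLocalRing.ResidueField A →ₗ[A] QuotSMulTop a ↥m :=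
    Submodule.liftQ m (LinearMap.toSpanSingleton A _ ca) (by
      intro x hx
      rw [LinearMap.mem_ker, LinearMap.toSpanSingleton_apply]
      exact hca x hx)
  have hmu1 : mu 1 = ca := by
    change Submodule.liftQ m _ _ (Submodule.Quotient.mk (1 : A)) = ca
    rw [Submodule.liftQ_apply, LinearMap.toSpanSingleton_apply, one_smul]
  let f' : ↥m →ₗ[A] QuotSMulTop a ↥m := Submodule.mkQ _ - mu.comp lam
  have hf'a : f' a' = 0 := by
    change Submodule.Quotient.mk a' - mu (lam a') = 0
    rw [hlam, hmu1, sub_self]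
  let f := Submodule.liftQ (Submodule.span A {a'}) f' (by
    rw [Submodule.span_le, Set.singleton_subset_iff]
    exact hf'a)
  have hle : ∀ x : ↥m, (Submodule.Quotient.mk x : QuotSMulTop a ↥m) = 0 →
      x ∈ Submodule.span A {a'} := by
    intro x hx
    rw [Submodule.Quotient.mk_eq_zero, mem_smul_top_iff] at hx
    obtain ⟨y, hy⟩ := hx
    rw [Submodule.mem_span_singleton]
    refine ⟨y.1, ?_⟩
    ext
    simp [a', hy, mul_comm]
  let g : QuotSMulTop a ↥m →ₗ[A] (↥m ⧸ Submodule.span A {a'}) :=
    Submodule.liftQ _ (Submodule.mkQ _) (by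
      intro x hx
      rw [Submodule.ker_mkQ]
      exact hle x ((Submodule.Quotient.mk_eq_zero _).mpr hx))
  have hgca : g ca = 0 := by
    change Submodule.liftQ _ _ _ (Submodule.Quotient.mk a') = 0
    rw [Submodule.liftQ_apply, Submodule.mkQ_apply, Submodule.Quotient.mk_eq_zero]
    exact Submodule.mem_span_singleton_self a'
  have hgmu : ∀ c, g (mu c) = 0 := by
    intro c
    obtain ⟨x, rfl⟩ := Submodule.Quotient.mk_surjective _ c
    change g (Submodule.liftQ m _ _ (Submodule.Quotient.mk x)) = 0
    rw [Submodule.liftQ_apply, LinearMap.toSpanSingleton_apply, map_smul, hgca, smul_zero]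
  refine ⟨f, g, ?_⟩
  apply LinearMap.ext
  intro q
  obtain ⟨x, rfl⟩ := Submodule.Quotient.mk_surjective _ q
  change g (Submodule.liftQ _ f' _ (Submodule.Quotient.mk x)) = Submodule.Quotient.mk x
  rw [Submodule.liftQ_apply]
  change g (Submodule.Quotient.mk x - mu (lam x)) = _
  rw [map_sub, hgmu, sub_zero]
  change Submodule.liftQ _ _ _ (Submodule.Quotient.mk x) = _
  rw [Submodule.liftQ_apply, Submodule.mkQ_apply]

end Groth.Agent.S5781
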