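import Groth.Statements.S5783
import Groth.Agent.S0605
import Groth.Agent.Lib.Helper29.DepthFinite
import Groth.Agent.Lib.Helper55.KrullDimIntegral

set_option maxSynthPendingDepth 3

set_option autoImplicit false
universe u
open EGA41

namespace Groth.Agent.S5783

/-- Let A be a regular local ring, B a local ring and ρ : A → B a local homomorphism making B a finitely
generated A-module. Then B is a free A-module if and only if B is a Cohen-Macaulay ring and ρ is
injective (the latter being equivalent to dim(B) = dim(A)). -/
theorem result (A B : Type u) [CommRing A] [CommRing B]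
    [IsRegularLocalRing A] [IsLocalRing B] [Algebra A B] [IsLocalHom (algebraMap A B)] [Module.Finite A B] :
    Module.Free A B ↔ LocCoh.IsCohenMacaulayLocalRing B ∧ Function.Injective (algebraMap A B) := by
  haveI : IsNoetherianRing B := IsNoetherianRing.of_finite A B
  haveI : Algebra.IsIntegral A B := Algebra.IsIntegral.of_finite A B
  have hdepth : LocCoh.depth A B = LocCoh.depth B B :=
    Groth.Agent.Lib.Helper29.depth_eq_of_finite A B B
  have hd : ringKrullDim A = ((IsLocalRing.maximalIdeal A).spanFinrank : ℕ) :=
    (IsRegularLocalRing.spanFinrank_maximalIdeal (R := A)).symm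
  constructor
  · intro hfree
    have hinj : Function.Injective (algebraMap A B) := FaithfulSMul.algebraMap_injective A B
    refine ⟨⟨?_⟩, hinj⟩
    rw [Module.supportDim_self_eq_ringKrullDim,
      Groth.Agent.Lib.Helper55.ringKrullDim_eq_of_isIntegral_of_injective A B hinj, ← hdepth, hd]
    obtain ⟨e, he, hsum⟩ := Groth.Agent.S0605.pd_add_depth A B
    have he0 : e = 0 := by
      have h1 : CategoryTheory.HasProjectiveDimensionLE (ModuleCat.of A B) 0 := by
        change CategoryTheory.HasProjectiveDimensionLT (ModuleCat.of A B) 1
        rw [← CategoryTheory.projective_iff_hasProjectiveDimensionLT_one,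
          ← IsProjective.iff_projective]
        infer_instance
      have h2 := (CategoryTheory.projectiveDimension_le_iff _ 0).mpr h1
      rw [he] at h2
      have : (e : WithBot ℕ∞) ≤ ((0 : ℕ) : WithBot ℕ∞) := h2
      exact Nat.le_zero.mp (by exact_mod_cast this)
    subst he0
    simp only [Nat.cast_zero, zero_add] at hsum
    rw [← hsum]
    rfl
  · rintro ⟨hCM, hinj⟩
    apply Groth.Agent.S0605.result A B
    rw [hdepth, ← hCM.supportDim_eq_depth, Module.supportDim_self_eq_ringKrullDim]
    exact Groth.Agent.Lib.Helper55.ringKrullDim_eq_of_isIntegral_of_injective A B hinj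

end Groth.Agent.S5783
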