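import Groth.Statements.S5789
import Mathlib.RingTheory.Regular.ProjectiveDimension
import Mathlib.Algebra.Homology.DerivedCategory.Ext.ExactSequences
import Mathlib.Algebra.Homology.ShortComplex.ModuleCat

set_option autoImplicit false
universe u
open CategoryTheory
open EGA41

namespace Groth.Agent.S5789

open CategoryTheory Abelian in
/-- `Ext X - m` vanishes on a module isomorphic to one where it vanishes. -/
theorem ext_subsingleton_of_iso {A : Type u} [CommRing A] (X : ModuleCat.{u} A) (m : ℕ)
    {L L' : ModuleCat.{u} A} (e : L ≅ L') (h : Subsingleton (Ext X L m)) :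
    Subsingleton (Ext X L' m) := by
  refine ⟨fun a b => ?_⟩
  have ha : a = (a.comp (Ext.mk₀ e.inv) (add_zero m)).comp (Ext.mk₀ e.hom) (add_zero m) := by
    rw [Ext.comp_assoc_of_third_deg_zero, Ext.mk₀_comp_mk₀, e.inv_hom_id, Ext.comp_mk₀_id]
  have hb : b = (b.comp (Ext.mk₀ e.inv) (add_zero m)).comp (Ext.mk₀ e.hom) (add_zero m) := by
    rw [Ext.comp_assoc_of_third_deg_zero, Ext.mk₀_comp_mk₀, e.inv_hom_id, Ext.comp_mk₀_id]
  rw [ha, hb, Subsingleton.elim (a.comp (Ext.mk₀ e.inv) (add_zero m))
    (b.comp (Ext.mk₀ e.inv) (add_zero m))]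

open CategoryTheory Abelian in
/-- If `Ext X - m` vanishes on all cyclic modules, it vanishes on all finitely generated ones. -/
theorem ext_subsingleton_of_cyclic {A : Type u} [CommRing A] (X : ModuleCat.{u} A) (m : ℕ)
    (hcyc : ∀ I : Ideal A, Subsingleton (Ext X (ModuleCat.of A (A ⧸ I)) m)) :
    ∀ (k : ℕ) (L : Type u) [AddCommGroup L] [Module A L] (s : Fin k → L),
      Submodule.span A (Set.range s) = ⊤ → Subsingleton (Ext X (ModuleCat.of A L) m) := by
  intro k
  induction k with
  | zero =>
    intro L _ _ s hs
    have hsub : Subsingleton L := by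
      have : (⊤ : Submodule A L) = ⊥ := by
        rw [← hs]
        simp
      exact (Submodule.subsingleton_iff A).mp ⟨fun a b => by
        have ha : a = ⊥ := by rw [eq_bot_iff]; exact le_top.trans this.le
        have hb : b = ⊥ := by rw [eq_bot_iff]; exact le_top.trans this.le
        rw [ha, hb]⟩
    have hz : Limits.IsZero (ModuleCat.of A L) := ModuleCat.isZero_of_subsingleton _
    refine ⟨fun a b => ?_⟩
    have h0 : ∀ c : Ext X (ModuleCat.of A L) m, c = 0 := fun c => by
      rw [← c.comp_mk₀_id, hz.eq_of_tgt (𝟙 _) 0, Ext.mk₀_zero, Ext.comp_zero]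
    rw [h0 a, h0 b]
  | succ k ih =>
    intro L _ _ s hs
    let x : L := s 0
    let L' : Submodule A L := Submodule.span A {x}
    let g : L →ₗ[A] (L ⧸ L') := L'.mkQ
    have hg : Function.Surjective g := L'.mkQ_surjective
    let S := g.shortComplexKer
    have hS : S.ShortExact := LinearMap.shortExact_shortComplexKer hg
    -- the quotient is generated by `k` elements
    have h3 : Subsingleton (Ext X S.X₃ m) := by
      refine ih (L ⧸ L') (fun i => g (s i.succ)) ?_
      have h1 : Submodule.map g (Submodule.span A (Set.range s)) = ⊤ := by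
        rw [hs, Submodule.map_top, LinearMap.range_eq_top.mpr hg]
      rw [Submodule.map_span] at h1
      rw [← h1]
      apply le_antisymm
      · apply Submodule.span_mono
        rintro _ ⟨i, rfl⟩
        exact ⟨s i.succ, ⟨i.succ, rfl⟩, rfl⟩
      · rw [Submodule.span_le]
        rintro _ ⟨_, ⟨i, rfl⟩, rfl⟩
        refine Fin.cases ?_ (fun j => ?_) i
        · have : g (s 0) = 0 := by
            change L'.mkQ x = 0
            rw [Submodule.mkQ_apply, Submodule.Quotient.mk_eq_zero]
            exact Submodule.mem_span_singleton_self x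
          rw [this]
          exact Submodule.zero_mem _
        · exact Submodule.subset_span ⟨j, rfl⟩
    -- the kernel is cyclic
    have h1 : Subsingleton (Ext X S.X₁ m) := by
      have hker : LinearMap.ker g = L' := Submodule.ker_mkQ L'
      let e1 : (A ⧸ LinearMap.ker (LinearMap.toSpanSingleton A L x)) ≃ₗ[A]
          (LinearMap.range (LinearMap.toSpanSingleton A L x)) :=
        (LinearMap.toSpanSingleton A L x).quotKerEquivRange
      have hrange : LinearMap.range (LinearMap.toSpanSingleton A L x) = LinearMap.ker g := by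
        rw [hker, LinearMap.range_toSpanSingleton]
      let e2 : (A ⧸ LinearMap.ker (LinearMap.toSpanSingleton A L x)) ≃ₗ[A] (LinearMap.ker g) :=
        e1.trans (LinearEquiv.ofEq _ _ hrange)
      exact ext_subsingleton_of_iso X m e2.toModuleIso (hcyc _)
    refine ⟨fun a b => ?_⟩
    have h0 : ∀ c : Ext X S.X₂ m, c = 0 := fun c => by
      obtain ⟨c₁, hc₁⟩ := Ext.covariant_sequence_exact₂ X hS c (Subsingleton.elim _ _)
      rw [← hc₁, Subsingleton.elim c₁ 0, Ext.zero_comp]
    exact (h0 a).trans (h0 b).symm


/-- Let A be a Noetherian ring, M a finitely generated A-module and n ≥ 0. Then M has projective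
dimension at most n if and only if Ext^(n+1)_A(M, N) = 0 for every monogenous A-module N, i.e. every
N = A/I with I an ideal. -/
theorem result (A : Type u) [CommRing A] [IsNoetherianRing A]
    (M : Type u) [AddCommGroup M] [Module A M] [Module.Finite A M] (n : ℕ) :
    HasProjectiveDimensionLT (ModuleCat.of A M) (n + 1) ↔
      ∀ I : Ideal A, Subsingleton (Abelian.Ext (ModuleCat.of A M) (ModuleCat.of A (A ⧸ I)) (n + 1)) := by
  constructor
  · intro h I
    exact HasProjectiveDimensionLT.subsingleton _ (n + 1) (n + 1) le_rfl _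
  · intro h
    apply ModuleCat.hasProjectiveDimensionLT_of_forall_finite
    intro L hL
    obtain ⟨k, s, hs⟩ := Module.Finite.exists_fin (R := A) (M := L)
    exact ext_subsingleton_of_cyclic _ (n + 1) h k L s hs

end Groth.Agent.S5789
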