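import Mathlib
import Groth.Statements.S5791

set_option autoImplicit false
universe u
open CategoryTheory
open EGA41

namespace Groth.Agent.S5791

/-- the Mathlib localized module object is isomorphic to the naive one -/
noncomputable def locIso (A : Type u) [CommRing A] (M : Type u) [AddCommGroup M] [Module A M]
    (S : Submonoid A) :
    (ModuleCat.of A M).localizedModule S ≅
      ModuleCat.of (Localization S) (LocalizedModule S M) :=
  (Shrink.linearEquiv (Localization S) (LocalizedModule S M)).toModuleIso

theorem result (A : Type u) [CommRing A] [IsNoetherianRing A]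
    (M : Type u) [AddCommGroup M] [Module A M] [Module.Finite A M] (n : ℕ) :
    HasProjectiveDimensionLT (ModuleCat.of A M) (n + 1) ↔
      ∀ p : PrimeSpectrum A, HasProjectiveDimensionLT
        (ModuleCat.of (Localization.AtPrime p.asIdeal) (LocalizedModule p.asIdeal.primeCompl M)) (n + 1) := by
  have h := (ModuleCat.of A M).hasProjectiveDimensionLE_iff_forall_primeSpectrum n
  refine h.trans (forall_congr' fun p => ?_)
  constructor
  · intro hp
    exact hasProjectiveDimensionLT_of_iso (locIso A M p.asIdeal.primeCompl) (n + 1)
  · intro hp
    exact hasProjectiveDimensionLT_of_iso (locIso A M p.asIdeal.primeCompl).symm (n + 1)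

end Groth.Agent.S5791
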