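import Groth.Statements.S5792
import Groth.Agent.Lib.Helper29.TopDim

set_option autoImplicit false
universe u
open TopDim

namespace Groth.Agent.S5792

/-- For every topological space X one has dim(X) = sup_{x ∈ X} dim_x(X), the supremum of the local
combinatorial dimensions. -/
theorem result (X : Type u) [TopologicalSpace X] :
    topologicalKrullDim X = ⨆ x : X, FlatMor.localDim X x := by
  apply le_antisymm
  · rw [Groth.Agent.Lib.Helper29.topologicalKrullDim_le_iff]
    intro p
    obtain ⟨x, hx⟩ := p.head.isIrreducible.nonempty
    exact (Groth.Agent.Lib.Helper29.length_le_localDim p x hx).trans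
      (le_iSup (fun x => FlatMor.localDim X x) x)
  · exact iSup_le fun x => Groth.Agent.Lib.Helper29.localDim_le_topologicalKrullDim x

end Groth.Agent.S5792
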