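import Groth.Statements.S5806
import Mathlib.RingTheory.Flat.Equalizer
import Mathlib.RingTheory.Flat.Stability
import Mathlib.RingTheory.Regular.RegularSequence

set_option autoImplicit false
universe u
open EGA41

namespace Groth.Agent.S5806

open TensorProduct in
/-- Let A be a ring, B a commutative A-algebra, (f_i)_{1 ≤ i ≤ n} elements of B and M a B-module.
Suppose (f_i) is M-regular and each of the A-modules M/(f_1 M + ... + f_i M), 0 ≤ i ≤ n, is flat.
Then for every ring homomorphism A → A', writing M' = M ⊗_A A' and f'_i = f_i ⊗ 1, the sequence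
(f'_i) is M'-regular and the A'-modules M'/(f'_1 M' + ... + f'_{i-1} M') are flat: concretely,
identifying M'/(f'_1 M' + ... + f'_{i-1} M') with A' ⊗_A (M/(f_1 M + ... + f_{i-1} M)),
multiplication by f_i on the latter is injective and the latter is A'-flat, for 1 ≤ i ≤ n. (The
published hypothesis lists only the flatness of M/(f_1 M + ... + f_{i-1} M) for 1 ≤ i ≤ n, omitting
M/(f_1 M + ... + f_n M); with that omission the case n = 1, A = B = k[t], M = k[t], f_1 = t, A' =
k[t]/(t) fails, since t acts as zero on k ⊗_A M = k, and the published proof uses the flatness of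
M/(f_1 M + ... + f_i M) for every i ≤ n; so flatness of all these quotients is assumed here.) -/
theorem result (A B : Type u) [CommRing A]
    [CommRing B] [Algebra A B] (M : Type u) [AddCommGroup M] [Module B M] [Module A M] [IsScalarTower A B M]
    (fs : List B) (hreg : RingTheory.Sequence.IsWeaklyRegular M fs)
    (hflat : ∀ i : ℕ, i ≤ fs.length → Module.Flat A (M ⧸ (Ideal.ofList (fs.take i) • (⊤ : Submodule B M))))
    (A' : Type u) [CommRing A'] [Algebra A A'] (i : Fin fs.length) :
    Function.Injective (LinearMap.lTensor A'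
        (((LinearMap.lsmul B (M ⧸ (Ideal.ofList (fs.take i) • (⊤ : Submodule B M)))) (fs.get i)).restrictScalars A)) ∧
      Module.Flat A' (A' ⊗[A] (M ⧸ (Ideal.ofList (fs.take i) • (⊤ : Submodule B M)))) := by
  have hi : (i : ℕ) < fs.length := i.2
  have hI' : Ideal.ofList (fs.take ((i : ℕ) + 1)) =
      Ideal.ofList (fs.take i) ⊔ Ideal.span {fs.get i} := by
    rw [List.take_succ_eq_append_getElem hi, Ideal.ofList_append, Ideal.ofList_singleton]
    rfl
  have hle : Ideal.ofList (fs.take i) • (⊤ : Submodule B M) ≤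
      Ideal.ofList (fs.take ((i : ℕ) + 1)) • (⊤ : Submodule B M) := by
    rw [hI']
    exact Submodule.smul_mono_left le_sup_left
  haveI : Module.Flat A (M ⧸ (Ideal.ofList (fs.take ((i : ℕ) + 1)) • (⊤ : Submodule B M))) :=
    hflat ((i : ℕ) + 1) hi
  haveI : Module.Flat A (M ⧸ (Ideal.ofList (fs.take i) • (⊤ : Submodule B M))) :=
    hflat (i : ℕ) hi.le
  refine ⟨?_, inferInstance⟩
  have hregi : IsSMulRegular (M ⧸ (Ideal.ofList (fs.take i) • (⊤ : Submodule B M))) (fs.get i) := by
    have := hreg.regular_mod_prev (i : ℕ) hi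
    exact this
  let fB : (M ⧸ (Ideal.ofList (fs.take i) • (⊤ : Submodule B M))) →ₗ[B]
      (M ⧸ (Ideal.ofList (fs.take ((i : ℕ) + 1)) • (⊤ : Submodule B M))) :=
    Submodule.mapQ _ _ LinearMap.id (by simpa using hle)
  refine LinearMap.lTensor_injective_of_exact_of_flat (fB.restrictScalars A) ?_ _ ?_ ?_ A'
  · intro y
    obtain ⟨x, rfl⟩ := Submodule.Quotient.mk_surjective _ y
    exact ⟨Submodule.Quotient.mk x, rfl⟩
  · exact hregi
  · intro y
    constructor
    · intro h0
      obtain ⟨x, rfl⟩ := Submodule.Quotient.mk_surjective _ y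
      have h1 : x ∈ Ideal.ofList (fs.take ((i : ℕ) + 1)) • (⊤ : Submodule B M) :=
        (Submodule.Quotient.mk_eq_zero _).mp h0
      rw [hI', Submodule.sup_smul, Submodule.ideal_span_singleton_smul] at h1
      obtain ⟨u, hu, v, hv, rfl⟩ := Submodule.mem_sup.mp h1
      obtain ⟨w, -, rfl⟩ := (Submodule.mem_smul_pointwise_iff_exists _ _ _).mp hv
      refine ⟨(Ideal.ofList (fs.take i) • (⊤ : Submodule B M)).mkQ w, ?_⟩
      show fs.get i • (Ideal.ofList (fs.take i) • (⊤ : Submodule B M)).mkQ w =
        (Ideal.ofList (fs.take i) • (⊤ : Submodule B M)).mkQ (u + fs.get i • w)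
      rw [← map_smul, map_add, Submodule.mkQ_apply, Submodule.mkQ_apply,
        (Submodule.Quotient.mk_eq_zero _).mpr hu, zero_add]
    · rintro ⟨z, rfl⟩
      obtain ⟨w, rfl⟩ := Submodule.Quotient.mk_surjective _ z
      show (Ideal.ofList (fs.take ((i : ℕ) + 1)) • (⊤ : Submodule B M)).mkQ (fs.get i • w) = 0
      rw [Submodule.mkQ_apply, Submodule.Quotient.mk_eq_zero, hI']
      exact Submodule.smul_mem_smul (Ideal.mem_sup_right (Ideal.subset_span rfl)) Submodule.mem_top

end Groth.Agent.S5806
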