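import Groth.Statements.S5808
import Mathlib
import Groth.Agent.Lib.Helper79.SemilocalSop
-- import your own Groth.Agent.* helpers here

set_option autoImplicit false
universe u
open EGA41

namespace Groth.Agent.S5808

open Groth.Agent.Lib.Helper79.SemilocalSop

/-- Let A be a semi-local Noetherian ring with spectrum X and Jacobson radical r, and a an ideal of A
distinct from A with codim(V(a), X) = h > 0 (h is the height of a). Then there exist h elements x_1,
..., x_h of a which are part of a system of parameters of A (so lie in r and can be completed by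
elements of r to dim(A) elements generating an ideal modulo which A has finite length) and such that
codim(V(a), V(x_1 A + ... + x_h A)) = 0, i.e. the image of a in A/(x_1 A + ... + x_h A) has height
0. -/
theorem result (A : Type u) [CommRing A] [IsNoetherianRing A]
    [Finite (MaximalSpectrum A)] (a : Ideal A) (ha : a ≠ ⊤) (h : ℕ) (hh : a.height = h) (hpos : 0 < h) :
    ∃ x : Fin h → A, (∀ i, x i ∈ a) ∧ (∀ i, x i ∈ Ring.jacobson A) ∧
      (∃ ys : List A, (∀ y ∈ ys, y ∈ Ring.jacobson A) ∧
        (((h + ys.length : ℕ) : ℕ∞) : WithBot ℕ∞) = ringKrullDim A ∧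
        IsFiniteLength A (A ⧸ (Ideal.span (Set.range x) ⊔ Ideal.ofList ys))) ∧
      (a.map (Ideal.Quotient.mk (Ideal.span (Set.range x)))).height = 0 := by
  classical
  have hnt : Nontrivial A := by
    by_contra hcon
    rw [not_nontrivial_iff_subsingleton] at hcon
    exact ha (Subsingleton.elim _ _)
  obtain ⟨d, hd⟩ := exists_ringKrullDim_eq (A := A)
  have hhd : h ≤ d := by
    have := Ideal.height_le_ringKrullDim_of_ne_top ha
    rw [hd, hh] at this
    exact_mod_cast this
  obtain ⟨l, hlen, hl, hinv⟩ := exists_list_inf a h (by rw [hh])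
  obtain ⟨ys, hyslen, hys, hinv2⟩ := exists_list_jacobson (d - h) (Ideal.ofList l) h hinv
  subst hlen
  have hspan : Ideal.span (Set.range fun i : Fin l.length => l.get i) = Ideal.ofList l := by
    show Ideal.span (Set.range l.get) = _
    rw [Set.range_list_get]
  refine ⟨fun i => l.get i, fun i => (hl _ (List.get_mem _ _)).1,
    fun i => (hl _ (List.get_mem _ _)).2, ⟨ys, hys, ?_, ?_⟩, ?_⟩
  · rw [hd, hyslen]
    congr 2
    omega
  · rw [hspan]
    have hdd : l.length + (d - l.length) = d := by omega
    rw [hdd] at hinv2
    exact isFiniteLength_quotient _ (forall_isMaximal_of_inv _ d hd hinv2)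
  · rw [hspan]
    obtain ⟨p, hp, hap, hph⟩ := Ideal.exists_isPrime_height_eq hh
    have hla : Ideal.ofList l ≤ a := by
      refine Ideal.span_le.2 ?_
      intro y hy
      exact (hl y hy).1
    obtain ⟨q, hq, hqp⟩ := Ideal.exists_minimalPrimes_le (hla.trans hap)
    have hqprime : q.IsPrime := hq.1.1
    have hqeq : q = p := by
      rcases hinv q hq with hmax | hht
      · exact hmax.eq_of_le hp.ne_top hqp
      · exact Ideal.eq_of_le_of_height_le (I := q) (J := p) hqp (by rw [hph]; exact hht)
    rw [hqeq, Ideal.minimalPrimes_eq_comap] at hq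
    obtain ⟨P, hP, hPp⟩ := hq
    have hPprime : P.IsPrime := hP.1.1
    have hle : a.map (Ideal.Quotient.mk (Ideal.ofList l)) ≤ P := by
      rw [Ideal.map_le_iff_le_comap, hPp]; exact hap
    have h0 : P.height = 0 := Ideal.height_eq_zero_iff.2 hP
    exact le_antisymm (h0 ▸ Ideal.height_mono hle) zero_le

end Groth.Agent.S5808
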