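import Groth.Statements.S5813
import Groth.Agent.Lib.Helper21.Exal

set_option autoImplicit false
universe u
open EGA41 Groth.Agent.Lib.Helper21

namespace Groth.Agent.S5813

/-- Injectivity, commutative form. Let J be an ideal of the commutative ring B, C = B ⧸ J, M a C-module.
Two B-extensions of C by M whose induced linear maps J/J² → M (obtained from the restriction to J of
the structure map B → E) coincide are equivalent. -/
theorem result {B : Type u} [CommRing B] (J : Ideal B)
    {M : Type u} [AddCommGroup M] [Module (B ⧸ J) M] [Module B M] [IsScalarTower B (B ⧸ J) M]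
    (X Y : Exal.Ext B (B ⧸ J) M) (h : X.conormalMap J = Y.conormalMap J) :
    Nonempty (X.Equiv Y) := by
  have hs : Function.Surjective (algebraMap B (B ⧸ J)) := Ideal.Quotient.mk_surjective
  have hI : X.idealToKer J = Y.idealToKer J := by
    rw [ExalLemmas.idealToKer_eq_comp, ExalLemmas.idealToKer_eq_comp, h]
  have key : ∀ (Z : Exal.Ext B (B ⧸ J) M) (p : B × M),
      p ∈ LinearMap.ker (ExalLemmas.psi Z) ↔ ∃ hb : p.1 ∈ J, Z.idealToKer J ⟨p.1, hb⟩ + p.2 = 0 := by
    intro Z p
    rw [LinearMap.mem_ker]
    constructor
    · intro h0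
      have hb : p.1 ∈ J := by
        have := congrArg Z.proj h0
        rw [ExalLemmas.proj_psi, map_zero, Ideal.Quotient.algebraMap_eq,
          Ideal.Quotient.eq_zero_iff_mem] at this
        exact this
      refine ⟨hb, Z.isExtension.incl_injective ?_⟩
      rw [map_add, map_zero, ExalLemmas.incl_idealToKer]
      exact h0
    · rintro ⟨hb, h0⟩
      have := congrArg Z.incl h0
      rw [map_add, map_zero, ExalLemmas.incl_idealToKer] at this
      exact this
  refine ⟨ExalLemmas.equivOfKerPsiEq X Y hs ?_⟩
  ext p
  rw [key X, key Y, hI]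

end Groth.Agent.S5813
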