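import Groth.Statements.S5814
import Groth.Agent.Lib.Helper21.Exal
import Mathlib.RingTheory.Ideal.Quotient.Operations

set_option autoImplicit false
universe u
open EGA41 Groth.Agent.Lib.Helper21

namespace Groth.Agent.S5814

section Construction

attribute [local instance] Exal.opModule Exal.isCentralScalar_opModule

variable {B : Type u} [CommRing B] (J : Ideal B)
    {M : Type u} [AddCommGroup M] [Module (B ⧸ J) M] [Module B M] [IsScalarTower B (B ⧸ J) M]

omit [Module B M] [IsScalarTower B (B ⧸ J) M] in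
lemma smul_eq_zero_of_mem' [Module B M] [IsScalarTower B (B ⧸ J) M] {b : B} (hb : b ∈ J) (m : M) :
    b • m = 0 := by
  rw [← IsScalarTower.algebraMap_smul (B ⧸ J) b m, Ideal.Quotient.algebraMap_eq,
    Ideal.Quotient.eq_zero_iff_mem.2 hb, zero_smul]

/-- The ideal `{(j, -w j)}` of `B ⊕ M`. -/
def pushIdeal (w : J →ₗ[B] M) : Ideal (TrivSqZeroExt B M) where
  carrier := {t | ∃ hb : t.fst ∈ J, w ⟨t.fst, hb⟩ + t.snd = 0}
  zero_mem' := ⟨J.zero_mem, by
    have : (⟨(0 : TrivSqZeroExt B M).fst, J.zero_mem⟩ : J) = 0 := rfl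
    rw [this, map_zero, TrivSqZeroExt.snd_zero, add_zero]⟩
  add_mem' := by
    rintro a b ⟨ha, ha'⟩ ⟨hb, hb'⟩
    refine ⟨by rw [TrivSqZeroExt.fst_add]; exact J.add_mem ha hb, ?_⟩
    have : (⟨(a + b).fst, by rw [TrivSqZeroExt.fst_add]; exact J.add_mem ha hb⟩ : J) =
        ⟨a.fst, ha⟩ + ⟨b.fst, hb⟩ := rfl
    rw [this, map_add, TrivSqZeroExt.snd_add]
    have e : w ⟨a.fst, ha⟩ + w ⟨b.fst, hb⟩ + (a.snd + b.snd) =
      (w ⟨a.fst, ha⟩ + a.snd) + (w ⟨b.fst, hb⟩ + b.snd) := by abel
    rw [e, ha', hb', add_zero]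
  smul_mem' := by
    rintro c t ⟨ht, ht'⟩
    have hmem : (c • t).fst ∈ J := by
      rw [smul_eq_mul, TrivSqZeroExt.fst_mul]
      exact J.mul_mem_left _ ht
    refine ⟨hmem, ?_⟩
    have : (⟨(c • t).fst, hmem⟩ : J) = c.fst • ⟨t.fst, ht⟩ := rfl
    rw [this, map_smul, smul_eq_mul, TrivSqZeroExt.snd_mul, op_smul_eq_smul,
      smul_eq_zero_of_mem' J ht, add_zero, ← smul_add, ht', smul_zero]

lemma mem_pushIdeal (w : J →ₗ[B] M) (t : TrivSqZeroExt B M) :
    t ∈ pushIdeal J w ↔ ∃ hb : t.fst ∈ J, w ⟨t.fst, hb⟩ + t.snd = 0 := Iff.rfl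

lemma mem_pushIdeal_of (w : J →ₗ[B] M) (t : TrivSqZeroExt B M) (b : B) (hb : b ∈ J)
    (h1 : t.fst = b) (h2 : w ⟨b, hb⟩ + t.snd = 0) : t ∈ pushIdeal J w := by
  subst h1; exact ⟨hb, h2⟩

lemma of_mem_pushIdeal (w : J →ₗ[B] M) (t : TrivSqZeroExt B M) (ht : t ∈ pushIdeal J w) (b : B)
    (h1 : t.fst = b) : ∃ hb : b ∈ J, w ⟨b, hb⟩ + t.snd = 0 := by
  subst h1; exact ht

/-- The pushout of the infinitesimal extension along `w`. -/
noncomputable def pushExt (w : J →ₗ[B] M) : Exal.Ext B (B ⧸ J) M where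
  E := TrivSqZeroExt B M ⧸ pushIdeal J w
  commRing := Ideal.Quotient.commRing _
  algebra := inferInstance
  proj :=
    { Ideal.Quotient.lift (pushIdeal J w)
        ((Ideal.Quotient.mk J).comp (TrivSqZeroExt.fstHom B B M).toRingHom) (by
          rintro t ⟨ht, -⟩
          exact Ideal.Quotient.eq_zero_iff_mem.2 ht) with
      commutes' := fun b => rfl }
  incl := (Ideal.Quotient.mk (pushIdeal J w)).toAddMonoidHom.comp
    (TrivSqZeroExt.inrHom B M).toAddMonoidHom
  isExtension :=
    { proj_surjective := by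
        intro c
        obtain ⟨b, rfl⟩ := Ideal.Quotient.mk_surjective c
        exact ⟨Ideal.Quotient.mk _ (TrivSqZeroExt.inl b), rfl⟩
      incl_injective := by
        rw [injective_iff_map_eq_zero]
        intro m hm
        change Ideal.Quotient.mk _ (TrivSqZeroExt.inr m) = 0 at hm
        rw [Ideal.Quotient.eq_zero_iff_mem] at hm
        obtain ⟨h1, h2⟩ := of_mem_pushIdeal J w _ hm 0 (TrivSqZeroExt.fst_inr B m)
        have : (⟨0, h1⟩ : J) = 0 := rfl
        rw [this, map_zero, zero_add, TrivSqZeroExt.snd_inr] at h2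
        exact h2
      exact := by
        intro x
        obtain ⟨t, rfl⟩ := Ideal.Quotient.mk_surjective x
        change Ideal.Quotient.mk J t.fst = 0 ↔ _
        rw [Ideal.Quotient.eq_zero_iff_mem]
        constructor
        · intro ht
          refine ⟨w ⟨t.fst, ht⟩ + t.snd, ?_⟩
          change Ideal.Quotient.mk _ (TrivSqZeroExt.inr _) = Ideal.Quotient.mk _ t
          rw [eq_comm, Ideal.Quotient.mk_eq_mk_iff_sub_mem]
          refine mem_pushIdeal_of J w _ t.fst ht (by simp) ?_
          simp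
        · rintro ⟨m, hm⟩
          change Ideal.Quotient.mk _ (TrivSqZeroExt.inr m) = Ideal.Quotient.mk _ t at hm
          rw [eq_comm, Ideal.Quotient.mk_eq_mk_iff_sub_mem] at hm
          obtain ⟨h1, -⟩ := of_mem_pushIdeal J w _ hm t.fst (by simp)
          exact h1
      mul_incl := by
        intro x z
        obtain ⟨t, rfl⟩ := Ideal.Quotient.mk_surjective x
        change Ideal.Quotient.mk _ t * Ideal.Quotient.mk _ (TrivSqZeroExt.inr z) =
          Ideal.Quotient.mk _ (TrivSqZeroExt.inr (Ideal.Quotient.mk J t.fst • z))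
        rw [← map_mul]
        congr 1
        refine TrivSqZeroExt.ext ?_ ?_
        · simp
        · simp only [TrivSqZeroExt.snd_mul, TrivSqZeroExt.snd_inr, TrivSqZeroExt.fst_inr,
            MulOpposite.op_zero, zero_smul, add_zero]
          rw [← Ideal.Quotient.algebraMap_eq, algebraMap_smul] }

end Construction

attribute [local instance] Exal.opModule Exal.isCentralScalar_opModule

/-- Surjectivity, commutative form. Let J be an ideal of the commutative ring B, C = B ⧸ J, M a
C-module. Every linear map w : J/J² → M arises from a B-extension of C by M: there is an extension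
whose induced map J/J² → M is w. Together with the injectivity statement this is the canonical
bijection between Hom_C(J/J², M) and the classes of B-extensions of C by M. -/
theorem result {B : Type u} [CommRing B] (J : Ideal B)
    {M : Type u} [AddCommGroup M] [Module (B ⧸ J) M] [Module B M] [IsScalarTower B (B ⧸ J) M]
    (w : J.Cotangent →ₗ[B] M) :
    ∃ X : Exal.Ext B (B ⧸ J) M, X.conormalMap J = w := by
  refine ⟨pushExt J (w.comp J.toCotangent), ?_⟩
  apply LinearMap.ext
  intro c
  obtain ⟨z, rfl⟩ := J.toCotangent_surjective c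
  rw [ExalLemmas.conormalMap_toCotangent]
  apply (pushExt J (w.comp J.toCotangent)).isExtension.incl_injective
  rw [ExalLemmas.incl_idealToKer]
  change Ideal.Quotient.mk _ (TrivSqZeroExt.inl (z : B)) = Ideal.Quotient.mk _ (TrivSqZeroExt.inr _)
  rw [Ideal.Quotient.mk_eq_mk_iff_sub_mem]
  refine mem_pushIdeal_of J _ _ z z.2 (by simp) ?_
  simp

end Groth.Agent.S5814
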