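import Groth.Statements.S5815
import Groth.Agent.Lib.Helper21.Exal
import Groth.Agent.Lib.Helper21.ExalSurj
import Mathlib.RingTheory.Smooth.Basic

set_option autoImplicit false
universe u
open EGA41 Groth.Agent.Lib.Helper21

namespace Groth.Agent.S5815

/-- Discrete case. A commutative A-algebra B is formally smooth if and only if every A-extension of B by
a B-module L is trivial (has an A-algebra section). A and B are taken in one universe and L ranges
over that universe. (The published statement is for topological rings, with direct-limit classes of
extensions; this row is its discrete case.) -/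
theorem result (A B : Type u) [CommRing A] [CommRing B] [Algebra A B] :
    Algebra.FormallySmooth A B ↔
      ∀ (L : Type u) [AddCommGroup L] [Module B L] (X : Exal.Ext A B L), X.IsTrivial := by
  constructor
  · intro hfs L _ _ X
    have hnil : IsNilpotent (RingHom.ker (X.proj : X.E →+* B)) := by
      refine ⟨2, ?_⟩
      rw [Ideal.zero_eq_bot, eq_bot_iff, pow_two, Ideal.mul_le]
      intro x hx y hy
      rw [RingHom.mem_ker] at hx hy
      obtain ⟨z, rfl⟩ := (X.isExtension.exact x).1 hx
      obtain ⟨z', rfl⟩ := (X.isExtension.exact y).1 hy
      rw [ExalLemmas.incl_mul_incl]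
      exact Ideal.zero_mem _
    exact ⟨Algebra.FormallySmooth.liftOfSurjective (AlgHom.id A B) X.proj
      X.isExtension.proj_surjective hnil, fun b =>
      Algebra.FormallySmooth.liftOfSurjective_apply (AlgHom.id A B) X.proj
      X.isExtension.proj_surjective hnil b⟩
  · intro h
    let f : MvPolynomial B A →ₐ[A] B := MvPolynomial.aeval id
    have hf : Function.Surjective f := fun b => ⟨MvPolynomial.X b, by simp [f]⟩
    letI := ExalLemmas.cotangentModule f hf
    obtain ⟨s, hs⟩ := h _ (ExalLemmas.extOfSurjective f hf)
    exact Algebra.FormallySmooth.of_split f s (AlgHom.ext hs)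

end Groth.Agent.S5815
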