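import Groth.Statements.S5816
import Groth.Agent.Lib.Helper21.Exal
import Groth.Agent.Lib.Helper21.ExalSurj

set_option autoImplicit false
universe u
open EGA41 Groth.Agent.Lib.Helper21

namespace Groth.Agent.S5816


section Fwd

variable (Λ A B : Type u) [CommRing Λ]
    [CommRing A] [CommRing B] [Algebra Λ A] [Algebra Λ B] [Algebra A B] [IsScalarTower Λ A B]

noncomputable local instance inst1 {L : Type u} [AddCommGroup L] [Module B L] (X : Exal.Ext A B L) :
    Algebra A (X.RestrictCarrier Λ) := inferInstanceAs (Algebra A X.E)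

local instance inst2 {L : Type u} [AddCommGroup L] [Module B L] (X : Exal.Ext A B L) :
    IsScalarTower Λ A (X.RestrictCarrier Λ) := IsScalarTower.of_algebraMap_eq (fun _ => rfl)

lemma fwd (hfs : EGA41.IsFormallySmoothRel Λ A B) (L : Type u) [AddCommGroup L] [Module B L]
    (X : Exal.Ext A B L) (hX : X.IsTrivialOver Λ) : X.IsTrivial := by
  obtain ⟨s₀, hs₀⟩ := hX
  let p : X.RestrictCarrier Λ →ₐ[A] B := X.proj
  have hp : Function.Surjective p := X.isExtension.proj_surjective
  let J : Ideal (X.RestrictCarrier Λ) := RingHom.ker p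
  have hJ : J ^ 2 = ⊥ := ExalLemmas.ker_proj_sq X
  let e : (X.RestrictCarrier Λ ⧸ J) ≃ₐ[A] B := Ideal.quotientKerAlgEquivOfSurjective hp
  have h1 := hfs (X.RestrictCarrier Λ) J hJ
  have h2 : (∃ u : B →ₐ[Λ] (X.RestrictCarrier Λ),
      (Ideal.Quotient.mkₐ Λ J).comp u = e.symm.toAlgHom.restrictScalars Λ) := by
    refine ⟨s₀, ?_⟩
    ext b
    apply e.injective
    change e (Ideal.Quotient.mk J (s₀ b)) = e (e.symm b)
    rw [e.apply_symm_apply]
    exact hs₀ b
  obtain ⟨v, hv⟩ := h1 e.symm.toAlgHom h2
  refine ⟨v, fun b => ?_⟩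
  have := congrArg e (AlgHom.congr_fun hv b)
  change e (Ideal.Quotient.mk J (v b)) = e (e.symm b) at this
  rw [e.apply_symm_apply] at this
  exact this

end Fwd

section Bwd

variable (Λ A B : Type u) [CommRing Λ]
    [CommRing A] [CommRing B] [Algebra Λ A] [Algebra Λ B] [Algebra A B] [IsScalarTower Λ A B]

lemma bwd (H : ∀ (L : Type u) [AddCommGroup L] [Module B L] (X : Exal.Ext A B L),
        X.IsTrivialOver Λ → X.IsTrivial) : EGA41.IsFormallySmoothRel Λ A B := by
  intro C _ _ _ _ J hJ u₀ ⟨u, hu⟩
  let f : C →ₐ[A] C ⧸ J := Ideal.Quotient.mkₐ A J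
  have hf : Function.Surjective f := Ideal.Quotient.mk_surjective
  have hK : RingHom.ker f.toRingHom = J := Ideal.mk_ker
  have hK2 : RingHom.ker f.toRingHom ^ 2 = ⊥ := by rw [hK]; exact hJ
  letI := ExalLemmas.cotangentModule f hf
  let Y := ExalLemmas.extOfSurjective f hf
  letI algBC : Algebra B (C ⧸ J) := u₀.toRingHom.toAlgebra
  haveI : IsScalarTower A B (C ⧸ J) := .of_algebraMap_eq fun a => (u₀.commutes a).symm
  letI modB : Module B (RingHom.ker f.toRingHom).Cotangent := Module.compHom _ u₀.toRingHom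
  haveI : IsScalarTower B (C ⧸ J) (RingHom.ker f.toRingHom).Cotangent :=
    ⟨fun b c m => mul_smul (u₀ b) c m⟩
  let X := Y.pullback B
  have hXΛ : X.IsTrivialOver Λ := by
    let g : B →+* Y.E × B :=
      RingHom.prod ((Ideal.Quotient.mk (RingHom.ker f.toRingHom ^ 2)).comp u.toRingHom)
        (RingHom.id B)
    have hg : ∀ b, g b ∈ Y.fiberProd B := by
      intro b
      change f (u b) = u₀ b
      exact AlgHom.congr_fun hu b
    let s₀ : B →ₐ[Λ] X.RestrictCarrier Λ :=
      { toRingHom := RingHom.codRestrict g (Y.fiberProd B) hg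
        commutes' := by
          intro r
          apply Subtype.ext
          apply Prod.ext
          · change Ideal.Quotient.mk _ (u (algebraMap Λ B r)) =
              Ideal.Quotient.mk _ (algebraMap A C (algebraMap Λ A r))
            rw [u.commutes, IsScalarTower.algebraMap_apply Λ A C]
          · change algebraMap Λ B r = algebraMap A B (algebraMap Λ A r)
            rw [IsScalarTower.algebraMap_apply Λ A B] }
    exact ⟨s₀, fun b => rfl⟩
  obtain ⟨s, hs⟩ := H _ X hXΛ
  let e : (C ⧸ RingHom.ker f.toRingHom ^ 2) ≃ₐ[A] C :=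
    (Ideal.quotientEquivAlgOfEq A hK2).trans (AlgEquiv.quotientBot A C)
  refine ⟨e.toAlgHom.comp ((AlgHom.fst A Y.E B).comp ((Y.fiberProd B).val.comp s)), ?_⟩
  ext b
  have hb : (s b).1.2 = b := hs b
  have hmem : Y.proj (s b).1.1 = u₀ (s b).1.2 := (s b).2
  rw [hb] at hmem
  change Ideal.Quotient.mk J (e (s b).1.1) = u₀ b
  rw [← hmem]
  obtain ⟨c, hc⟩ := Ideal.Quotient.mk_surjective (s b).1.1
  rw [← hc]
  rfl

end Bwd

/-- Discrete case. For ring maps Λ → A → B, B is formally smooth over A relative to Λ (square-zero test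
ideals) if and only if every A-extension of B by a B-module L which is Λ-trivial is A-trivial. Λ, A,
B are taken in one universe and L ranges over it. (The published statement is for topological rings;
this row is its discrete case.) -/
theorem result (Λ A B : Type u) [CommRing Λ]
    [CommRing A] [CommRing B] [Algebra Λ A] [Algebra Λ B] [Algebra A B] [IsScalarTower Λ A B] :
    EGA41.IsFormallySmoothRel Λ A B ↔
      ∀ (L : Type u) [AddCommGroup L] [Module B L] (X : Exal.Ext A B L),
        X.IsTrivialOver Λ → X.IsTrivial := by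
  constructor
  · intro hfs L _ _ X hX
    exact fwd Λ A B hfs L X hX
  · exact bwd Λ A B

end Groth.Agent.S5816
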