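import Groth.Statements.S5819
import Groth.Agent.Lib.Helper21.Exal

set_option autoImplicit false
universe u v
open EGA41 Groth.Agent.Lib.Helper21

namespace Groth.Agent.S5819

/-- Commutative rings, exactness at Exalcom_A(C, L) on underlying pointed sets. For ring maps A → B → C
and a C-module L, an A-extension Y of C by L pulls back to a trivial A-extension of B if and only if
Y is equivalent to some B-extension of C by L viewed as an A-extension. -/
theorem result {A : Type u} {B C L : Type v} [CommRing A]
    [CommRing B] [CommRing C] [Algebra A B] [Algebra B C] [Algebra A C] [IsScalarTower A B C]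
    [AddCommGroup L] [Module C L] [Module B L] [IsScalarTower B C L]
    (Y : Exal.Ext A C L) :
    (Y.pullback B).IsTrivial ↔
      ∃ X : Exal.Ext B C L, Nonempty ((X.restrictBase A).Equiv Y) := by
  constructor
  · rintro ⟨s, hs⟩
    let t : B →ₐ[A] Y.E := (AlgHom.fst A Y.E B).comp ((Y.fiberProd B).val.comp s)
    have ht : ∀ b, Y.proj (t b) = algebraMap B C b := by
      intro b
      have h1 : Y.proj (s b).1.1 = algebraMap B C (s b).1.2 := (s b).2
      have h2 : (s b).1.2 = b := hs b
      rw [h2] at h1
      exact h1
    letI algBY : Algebra B Y.E := t.toRingHom.toAlgebra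
    let X : Exal.Ext B C L :=
      { E := Y.E
        commRing := inferInstance
        algebra := algBY
        proj := { Y.proj.toRingHom with commutes' := ht }
        incl := Y.incl
        isExtension := ⟨Y.isExtension.proj_surjective, Y.isExtension.incl_injective,
          Y.isExtension.exact, Y.isExtension.mul_incl⟩ }
    refine ⟨X, ⟨{ toAlgEquiv := AlgEquiv.ofRingEquiv (f := RingEquiv.refl Y.E) (fun a => ?_)
                  proj_apply := fun x => rfl
                  apply_incl := fun z => rfl }⟩⟩
    exact t.commutes a
  · rintro ⟨X, ⟨e⟩⟩
    let β : B →ₐ[A] (X.restrictBase A).E :=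
      { toRingHom := algebraMap B X.E
        commutes' := fun a => rfl }
    let t : B →ₐ[A] Y.E := (e.toAlgEquiv : (X.restrictBase A).E →ₐ[A] Y.E).comp β
    have ht : ∀ b, Y.proj (t b) = algebraMap B C b := by
      intro b
      change Y.proj (e.toAlgEquiv (algebraMap B X.E b)) = _
      rw [e.proj_apply]
      exact X.proj.commutes b
    refine ⟨AlgHom.codRestrict (AlgHom.prod t (AlgHom.id A B)) _ (fun b => ?_), fun b => rfl⟩
    exact ht b

end Groth.Agent.S5819
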