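import Groth.Statements.S5824
-- import your own Groth.Agent.* helpers here
import Groth.Agent.Lib.Helper89.CharHomBij

set_option autoImplicit false
universe u v
open EGA41

namespace Groth.Agent.S5824

/-- For ring maps A → B → C with C formally smooth over A (discrete topologies) and Ω_{C/B} a projective
C-module, and a C-module L, the characteristic homomorphism is a bijection from the classes of all
B-extensions of C by L (each of which is A-trivial) onto Hom_C(Υ_{C/B/A}, L): injectivity on classes
and surjectivity. -/
theorem result {A : Type u} {B C L : Type v} [CommRing A] [CommRing B] [CommRing C]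
    [Algebra A B] [Algebra B C] [Algebra A C] [IsScalarTower A B C] [AddCommGroup L] [Module C L]
    [Algebra.FormallySmooth A C] [Module.Projective C Ω[C⁄B]] :
    (∀ (X Y : Exal.Ext B C L) (χ : ↥(EGA41.imperfection A B C) →ₗ[C] L),
        X.IsCharHom A χ → Y.IsCharHom A χ → Nonempty (X.Equiv Y)) ∧
      ∀ χ : ↥(EGA41.imperfection A B C) →ₗ[C] L, ∃ X : Exal.Ext B C L, X.IsCharHom A χ := by
  letI : Module B L := Module.compHom L (algebraMap B C)
  letI : Module A L := Module.compHom L (algebraMap A C)
  haveI : IsScalarTower B C L := IsScalarTower.of_algebraMap_smul fun _ _ => rfl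
  haveI : IsScalarTower A C L := IsScalarTower.of_algebraMap_smul fun _ _ => rfl
  haveI : IsScalarTower A B L := IsScalarTower.of_algebraMap_smul fun a l => by
    change algebraMap B C (algebraMap A B a) • l = algebraMap A C a • l
    rw [← IsScalarTower.algebraMap_apply]
  obtain ⟨s, hs⟩ := Groth.Agent.Lib.Helper89.CharHom.exists_section_map (A := A) (B := B) (C := C)
  obtain ⟨r, hr⟩ :=
    Groth.Agent.Lib.Helper89.CharHom.exists_retraction_imperfection (A := A) (B := B) (C := C)
  refine ⟨fun X Y χ hXχ hYχ => ?_, fun χ => ?_⟩
  · exact Groth.Agent.Lib.Helper89.CharHom.nonempty_equiv_of_isCharHom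
      (Groth.Agent.Lib.Helper89.CharHom.extendsFromRange_of_section s hs) X Y
      (Groth.Agent.Lib.Helper89.CharHom.isTrivialOver_of_formallySmooth X)
      (Groth.Agent.Lib.Helper89.CharHom.isTrivialOver_of_formallySmooth Y) χ hXχ hYχ
  · obtain ⟨X, -, hX⟩ := Groth.Agent.Lib.Helper89.CharHom.exists_isCharHom_of_extension χ
      (χ ∘ₗ r) (fun z => by rw [LinearMap.comp_apply, hr z])
    exact ⟨X, hX⟩

end Groth.Agent.S5824
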