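import Groth.Statements.S5825
-- import your own Groth.Agent.* helpers here

set_option autoImplicit false
universe u v w
open EGA41

namespace Groth.Agent.S5825

/-- Let A be a topological ring, M, N topological A-modules with the topologies deduced from that of A,
and u : M → N a continuous linear map with dense image (a formal epimorphism). Then u is a formal
bimorphism (dense image and inducing) if and only if, for every open ideal J of A, the induced map
M/JM → N/JN is bijective (injectivity and surjectivity are written out elementwise). -/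
theorem result {A : Type u} {M : Type v} {N : Type w} [CommRing A]
    [TopologicalSpace A] [AddCommGroup M] [Module A M] [TopologicalSpace M] [AddCommGroup N] [Module A N]
    [TopologicalSpace N] (hM : TopMod.IsDeduced A M) (hN : TopMod.IsDeduced A N) (u : M →L[A] N)
    (hu : DenseRange u) :
    IsDenseInducing u ↔
      ∀ J : Ideal A, IsOpen (J : Set A) →
        (∀ x : M, u x ∈ (J • ⊤ : Submodule A N) → x ∈ (J • ⊤ : Submodule A M)) ∧
          ∀ y : N, ∃ x : M, y - u x ∈ (J • ⊤ : Submodule A N) := by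
  obtain ⟨hMg, hMb⟩ := hM
  obtain ⟨hNg, hNb⟩ := hN
  have hsub : ∀ J : Ideal A, ∀ x ∈ (J • ⊤ : Submodule A M), u x ∈ (J • ⊤ : Submodule A N) := by
    intro J x hx
    have : (J • ⊤ : Submodule A M).map u.toLinearMap ≤ J • ⊤ := by
      rw [Submodule.map_smul'']
      exact Submodule.smul_mono le_rfl le_top
    exact this ⟨x, hx, rfl⟩
  have hdense : ∀ J : Ideal A, IsOpen (J : Set A) →
      ∀ y : N, ∃ x : M, y - u x ∈ (J • ⊤ : Submodule A N) := by
    intro J hJ y
    have hnhd : {z : N | y - z ∈ (J • ⊤ : Submodule A N)} ∈ nhds y := by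
      have h0 : ((J • ⊤ : Submodule A N) : Set N) ∈ nhds (0 : N) := hNb.mem_of_mem hJ
      have hc : ContinuousAt (fun z : N => y - z) y :=
        (continuous_const.sub continuous_id).continuousAt
      exact hc.preimage_mem_nhds (by simpa using h0)
    obtain ⟨z, ⟨x, rfl⟩, hz⟩ := hu.inter_nhds_nonempty hnhd
    exact ⟨x, hz⟩
  constructor
  · intro h J hJ
    refine ⟨?_, hdense J hJ⟩
    intro x hx
    have hind := IsTopologicalAddGroup.isInducing_iff_nhds_zero.1 h.toIsInducing
    have h1 : ((J • ⊤ : Submodule A M) : Set M) ∈ nhds (0 : M) := hMb.mem_of_mem hJ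
    rw [hind, Filter.mem_comap] at h1
    obtain ⟨t, ht, htJ⟩ := h1
    obtain ⟨J', hJ', hJ't⟩ := hNb.mem_iff.1 ht
    have key : ∀ m : M, u m ∈ (J' • ⊤ : Submodule A N) → m ∈ (J • ⊤ : Submodule A M) :=
      fun m hm => htJ (hJ't hm)
    have claim : ∀ n ∈ (J • ⊤ : Submodule A N),
        ∃ m ∈ (J • ⊤ : Submodule A M), n - u m ∈ (J' • ⊤ : Submodule A N) := by
      intro n hn
      refine Submodule.smul_induction_on hn ?_ ?_
      · intro j hj n₀ _
        obtain ⟨m₀, hm₀⟩ := hdense J' hJ' n₀
        refine ⟨j • m₀, Submodule.smul_mem_smul hj Submodule.mem_top, ?_⟩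
        rw [map_smul, ← smul_sub]
        exact Submodule.smul_mem _ _ hm₀
      · rintro n₁ n₂ ⟨m₁, hm₁, h₁⟩ ⟨m₂, hm₂, h₂⟩
        refine ⟨m₁ + m₂, Submodule.add_mem _ hm₁ hm₂, ?_⟩
        have : n₁ + n₂ - u (m₁ + m₂) = (n₁ - u m₁) + (n₂ - u m₂) := by
          rw [map_add]; abel
        rw [this]
        exact Submodule.add_mem _ h₁ h₂
    obtain ⟨m, hm, hm'⟩ := claim (u x) hx
    rw [← map_sub] at hm'
    have := key _ hm'
    have h2 := Submodule.add_mem _ this hm
    rwa [sub_add_cancel] at h2
  · intro h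
    refine ⟨IsTopologicalAddGroup.isInducing_iff_nhds_zero.2 ?_, hu⟩
    refine hMb.ext (hNb.comap u) ?_ ?_
    · intro J hJ
      exact ⟨J, hJ, fun x hx => (h J hJ).1 x hx⟩
    · intro J hJ
      exact ⟨J, hJ, fun x hx => hsub J x hx⟩

end Groth.Agent.S5825
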