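import Groth.Statements.S5826
-- import your own Groth.Agent.* helpers here

set_option autoImplicit false
universe u v w
open EGA41

namespace Groth.Agent.S5826


/-- A linear map to a discrete module killing a neighbourhood `J • ⊤` of zero is continuous. -/
lemma continuous_to_discrete_of_mem_nhds {A : Type*} {N : Type*} {E : Type*} [CommRing A]
    [TopologicalSpace A] [AddCommGroup N] [Module A N] [TopologicalSpace N]
    [IsTopologicalAddGroup N] [AddCommGroup E] [Module A E] [TopologicalSpace E]
    [DiscreteTopology E]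
    (hNb : (nhds (0 : N)).HasBasis (fun J : Ideal A => IsOpen (J : Set A))
      (fun J : Ideal A => ((J • ⊤ : Submodule A N) : Set N)))
    (J : Ideal A) (hJ : IsOpen (J : Set A)) (w : N →ₗ[A] E)
    (hw : ∀ n ∈ (J • ⊤ : Submodule A N), w n = 0) : Continuous w := by
  rw [continuous_iff_continuousAt]
  intro y
  rw [ContinuousAt, nhds_discrete E, Filter.tendsto_pure]
  have hnhd : {z : N | z - y ∈ (J • ⊤ : Submodule A N)} ∈ nhds y := by
    have h0 : ((J • ⊤ : Submodule A N) : Set N) ∈ nhds (0 : N) := hNb.mem_of_mem hJ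
    have hc : ContinuousAt (fun z : N => z - y) y :=
      (continuous_id.sub continuous_const).continuousAt
    exact hc.preimage_mem_nhds (by simpa using h0)
  filter_upwards [hnhd] with z hz
  have := hw _ hz
  rwa [map_sub, sub_eq_zero] at this

/-- Let A be a topological ring, M, N topological A-modules with the topologies deduced from that of A,
u : M → N a continuous linear map. Then u is formally left invertible if and only if, for every open
ideal J of A, the induced map M/JM → N/JN is left invertible, i.e. some linear map N → M/JM composes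
with u to the projection M → M/JM. -/
theorem result {A : Type u} {M : Type v} {N : Type w}
    [CommRing A] [TopologicalSpace A] [AddCommGroup M] [Module A M] [TopologicalSpace M] [AddCommGroup N]
    [Module A N] [TopologicalSpace N] (hM : TopMod.IsDeduced A M) (hN : TopMod.IsDeduced A N)
    (u : M →L[A] N) :
    TopMod.IsFormallyLeftInvertible u ↔
      ∀ J : Ideal A, IsOpen (J : Set A) →
        ∃ w : N →ₗ[A] M ⧸ (J • ⊤ : Submodule A M), ∀ x : M, w (u x) = Submodule.Quotient.mk x := by
  obtain ⟨hMg, hMb⟩ := hM
  obtain ⟨hNg, hNb⟩ := hN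
  constructor
  · intro h J hJ
    letI : TopologicalSpace (M ⧸ (J • ⊤ : Submodule A M)) := ⊥
    haveI : DiscreteTopology (M ⧸ (J • ⊤ : Submodule A M)) := ⟨rfl⟩
    have hcont : Continuous (Submodule.mkQ (J • ⊤ : Submodule A M)) :=
      continuous_to_discrete_of_mem_nhds hMb J hJ _ (fun x hx => by
        rw [Submodule.mkQ_apply, Submodule.Quotient.mk_eq_zero]; exact hx)
    obtain ⟨w, hw⟩ := h (M ⧸ (J • ⊤ : Submodule A M)) ⟨Submodule.mkQ _, hcont⟩
    exact ⟨w.toLinearMap, fun x => hw x⟩
  · intro h E _ _ _ _ v
    have hker : (v ⁻¹' {0} : Set M) ∈ nhds (0 : M) :=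
      v.continuous.continuousAt.preimage_mem_nhds (by
        rw [map_zero]; exact (isOpen_discrete {(0 : E)}).mem_nhds rfl)
    obtain ⟨J, hJ, hJv⟩ := hMb.mem_iff.1 hker
    obtain ⟨w₀, hw₀⟩ := h J hJ
    have hle : (J • ⊤ : Submodule A M) ≤ LinearMap.ker v.toLinearMap := fun x hx => hJv hx
    let vbar : M ⧸ (J • ⊤ : Submodule A M) →ₗ[A] E := Submodule.liftQ _ v.toLinearMap hle
    let w : N →ₗ[A] E := vbar.comp w₀
    have hwJ : ∀ n ∈ (J • ⊤ : Submodule A N), w n = 0 := by
      intro n hn
      have : (J • ⊤ : Submodule A N) ≤ LinearMap.ker w₀ := by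
        rw [Submodule.smul_le]
        intro j hj n₀ _
        rw [LinearMap.mem_ker, map_smul]
        obtain ⟨m, hm⟩ := Submodule.Quotient.mk_surjective _ (w₀ n₀)
        rw [← hm, ← Submodule.Quotient.mk_smul, Submodule.Quotient.mk_eq_zero]
        exact Submodule.smul_mem_smul hj Submodule.mem_top
      change vbar (w₀ n) = 0
      rw [this hn, map_zero]
    have hcont : Continuous w := continuous_to_discrete_of_mem_nhds hNb J hJ w hwJ
    refine ⟨⟨w, hcont⟩, fun x => ?_⟩
    change vbar (w₀ (u x)) = v x
    rw [hw₀]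
    rfl

end Groth.Agent.S5826
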