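import Groth.Statements.S5827
import Groth.Agent.Lib.Helper21.NilpLeftInv
import Groth.Agent.S5826

set_option autoImplicit false
universe u v w
open EGA41 Groth.Agent.Lib.Helper21

namespace Groth.Agent.S5827

/-- Let A be a preadmissible topological ring with an ideal of definition 𝔏, M, N topological A-modules
with the topologies deduced from that of A such that N/JN is a projective (A/J)-module for every
open ideal J, and u : M → N a continuous linear map. Then u is formally left invertible if and only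
if the induced map M/𝔏M → N/𝔏N is left invertible. -/
theorem result {A : Type u} {M : Type v}
    {N : Type w} [CommRing A] [TopologicalSpace A] [AddCommGroup M] [Module A M] [TopologicalSpace M]
    [AddCommGroup N] [Module A N] [TopologicalSpace N] (hA : LinTop.IsPreadmissible A) (𝔏 : Ideal A)
    (h𝔏 : LinTop.IsIdealOfDefinition A 𝔏) (hM : TopMod.IsDeduced A M) (hN : TopMod.IsDeduced A N)
    (hproj : ∀ J : Ideal A, IsOpen (J : Set A) → Module.Projective (A ⧸ J) (N ⧸ (J • (⊤ : Submodule A N))))
    (u : M →L[A] N) :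
    TopMod.IsFormallyLeftInvertible u ↔
      ∃ w : N →ₗ[A] M ⧸ (𝔏 • ⊤ : Submodule A M), ∀ x : M, w (u x) = Submodule.Quotient.mk x := by
  rw [Groth.Agent.S5826.result hM hN u]
  constructor
  · intro h
    exact h 𝔏 h𝔏.1
  · rintro ⟨w, hw⟩ J hJ
    obtain ⟨n, hn0, hn⟩ := h𝔏.2 (J : Set A) (hJ.mem_nhds J.zero_mem)
    have hJ'open : IsOpen ((J ⊓ 𝔏 : Ideal A) : Set A) := by
      exact hJ.inter h𝔏.1
    have hn' : 𝔏 ^ n ≤ J ⊓ 𝔏 := le_inf hn (Ideal.pow_le_self hn0.ne')
    obtain ⟨w', hw'⟩ := exists_leftInverse_mod_of_nilpotent (J ⊓ 𝔏) 𝔏 inf_le_right n hn'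
      u.toLinearMap (hproj _ hJ'open) w hw
    have hle : ((J ⊓ 𝔏 : Ideal A) • ⊤ : Submodule A M) ≤ J • ⊤ :=
      Submodule.smul_mono inf_le_left le_rfl
    exact ⟨(Submodule.factor hle).comp w', fun x => by
      change Submodule.factor hle (w' (u.toLinearMap x)) = _
      rw [hw']
      rfl⟩

end Groth.Agent.S5827
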