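import Groth.Statements.S5828
import Groth.Agent.Lib.Helper21.Exal

set_option autoImplicit false
universe u v
open EGA41 Groth.Agent.Lib.Helper21

namespace Groth.Agent.S5828

/-- Commutative case. For an A-extension X of C by a C-module L, with middle ring E, projection p and
inclusion i, the A-derivations D : C → L and the self-equivalences of X correspond under D ↦ (x ↦ x
+ i (D (p x))): every derivation defines a self-equivalence with this formula, and every
self-equivalence is of this form for exactly one derivation. (Bijection of sets; the published
statement also records compatibility with the group laws.) -/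
theorem result {A : Type u} {C L : Type v} [CommRing A] [CommRing C] [Algebra A C]
    [AddCommGroup L] [Module C L] [Module A L] [IsScalarTower A C L] (X : Exal.Ext A C L) :
    (∀ D : Derivation A C L, ∃ e : X.Equiv X, ∀ x : X.E, e.toAlgEquiv x = x + X.incl (D (X.proj x))) ∧
      ∀ e : X.Equiv X, ∃! D : Derivation A C L, ∀ x : X.E, e.toAlgEquiv x = x + X.incl (D (X.proj x)) := by
  have hmi : ∀ (x : X.E) (z : L), x * X.incl z = X.incl (X.proj x • z) := X.isExtension.mul_incl
  have hii := ExalLemmas.incl_mul_incl X
  have hpi := ExalLemmas.proj_incl X
  constructor
  · intro D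
    let φ : X.E →ₐ[A] X.E :=
      { toFun := fun x => x + X.incl (D (X.proj x))
        map_one' := by simp
        map_zero' := by simp
        map_add' := fun x y => by
          simp only [map_add]
          ring
        map_mul' := fun x y => by
          have h := hii (D (X.proj x)) (D (X.proj y))
          simp only [map_mul, Derivation.leibniz, map_add, ← hmi]
          linear_combination -h
        commutes' := fun a => by
          simp }
    let ψ : X.E →ₐ[A] X.E :=
      { toFun := fun x => x - X.incl (D (X.proj x))
        map_one' := by simp
        map_zero' := by simp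
        map_add' := fun x y => by
          simp only [map_add]
          ring
        map_mul' := fun x y => by
          have h := hii (D (X.proj x)) (D (X.proj y))
          simp only [map_mul, Derivation.leibniz, map_add, ← hmi]
          linear_combination -h
        commutes' := fun a => by
          simp }
    have hφ : ∀ x, φ x = x + X.incl (D (X.proj x)) := fun x => rfl
    have hψ : ∀ x, ψ x = x - X.incl (D (X.proj x)) := fun x => rfl
    refine ⟨{ toAlgEquiv := AlgEquiv.ofAlgHom φ ψ ?_ ?_
              proj_apply := fun x => ?_
              apply_incl := fun z => ?_ }, fun x => rfl⟩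
    · ext x
      simp only [AlgHom.comp_apply, AlgHom.id_apply, hφ, hψ, map_sub, hpi, sub_zero]
      ring
    · ext x
      simp only [AlgHom.comp_apply, AlgHom.id_apply, hφ, hψ, map_add, hpi, add_zero]
      ring
    · change X.proj (φ x) = X.proj x
      rw [hφ, map_add, hpi, add_zero]
    · change φ (X.incl z) = X.incl z
      rw [hφ, hpi, map_zero, map_zero, add_zero]
  · intro e
    have hsurj := X.isExtension.proj_surjective
    let σ : C → X.E := Function.surjInv hsurj
    have hσ : ∀ c, X.proj (σ c) = c := Function.surjInv_eq hsurj
    have h0 : ∀ x : X.E, X.proj (e.toAlgEquiv x - x) = 0 := fun x => by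
      rw [map_sub, e.proj_apply, sub_self]
    let Dfun : C → L := fun c => X.kerLift _ (h0 (σ c))
    have hD : ∀ c, X.incl (Dfun c) = e.toAlgEquiv (σ c) - σ c := fun c => X.incl_kerLift _ _
    have key : ∀ x : X.E, e.toAlgEquiv x = x + X.incl (Dfun (X.proj x)) := by
      intro x
      have hx : X.proj (x - σ (X.proj x)) = 0 := by rw [map_sub, hσ, sub_self]
      obtain ⟨z, hz⟩ := (X.isExtension.exact _).1 hx
      have hx' : x = σ (X.proj x) + X.incl z := by rw [hz]; ring
      rw [hD]
      conv_lhs => rw [hx', map_add, e.apply_incl]
      conv_rhs => rw [hx']
      simp only [map_add, hpi, add_zero, hσ]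
      ring
    have hinj := X.isExtension.incl_injective
    let lin : C →ₗ[A] L :=
      { toFun := Dfun
        map_add' := fun c c' => by
          obtain ⟨x, rfl⟩ := hsurj c
          obtain ⟨y, rfl⟩ := hsurj c'
          apply hinj
          have h1 := key (x + y)
          rw [map_add e.toAlgEquiv, key x, key y, map_add X.proj] at h1
          rw [map_add X.incl]
          linear_combination -h1
        map_smul' := fun a c => by
          obtain ⟨x, rfl⟩ := hsurj c
          apply hinj
          have h1 := key (a • x)
          rw [map_smul, key x, map_smul] at h1
          have hsm : ∀ (a : A) (z : L), X.incl (a • z) = a • X.incl z :=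
            fun a z => (ExalLemmas.inclₗ X).map_smul a z
          rw [RingHom.id_apply, hsm]
          rw [smul_add, ← hsm] at h1
          rw [← hsm]
          exact (add_left_cancel h1).symm }
    have hleib : ∀ c c', lin (c * c') = c • lin c' + c' • lin c := by
      intro c c'
      obtain ⟨x, rfl⟩ := hsurj c
      obtain ⟨y, rfl⟩ := hsurj c'
      apply hinj
      change X.incl (Dfun (X.proj x * X.proj y)) =
        X.incl (X.proj x • Dfun (X.proj y) + X.proj y • Dfun (X.proj x))
      have h1 := key (x * y)
      rw [map_mul, key x, key y, map_mul] at h1
      rw [map_add, ← hmi, ← hmi]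
      have := hii (Dfun (X.proj x)) (Dfun (X.proj y))
      linear_combination -h1 + this
    refine ⟨Derivation.mk' lin hleib, key, ?_⟩
    intro D' hD'
    ext c
    obtain ⟨x, rfl⟩ := hsurj c
    apply hinj
    have h1 := hD' x
    rw [key x] at h1
    exact (add_left_cancel h1).symm

end Groth.Agent.S5828
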