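import Groth.Statements.S5831
import Groth.Agent.Lib.Helper21.Exal
import Groth.Agent.S5815

set_option autoImplicit false
universe u
open EGA41 Groth.Agent.Lib.Helper21

namespace Groth.Agent.S5831

/-- Discrete case. Let B be an A-algebra which is a projective A-module (A and B in one universe). If
for every B-module L in that universe every A-bilinear symmetric Hochschild 2-cocycle B × B → L is a
coboundary, then B is formally smooth over A. (The published statement assumes B formally projective
as a topological A-module; for discrete rings this is projectivity.) -/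
theorem result {A B : Type u} [CommRing A]
    [CommRing B] [Algebra A B] [Module.Projective A B]
    (h : ∀ (L : Type u) [AddCommGroup L] [Module B L] [Module A L] [IsScalarTower A B L]
      (f : B →ₗ[A] B →ₗ[A] L), (∀ x y : B, f x y = f y x) →
        (∀ x y z : B, f (x * y) z + z • f x y = x • f y z + f x (y * z)) →
          ∃ g : B →ₗ[A] L, ∀ x y : B, f x y = x • g y - g (x * y) + y • g x) :
    Algebra.FormallySmooth A B := by
  rw [Groth.Agent.S5815.result A B]
  intro L _ _ X
  letI : Module A L := Module.compHom L (algebraMap A B)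
  haveI : IsScalarTower A B L := ⟨fun a b l => by
    change (a • b) • l = algebraMap A B a • (b • l)
    rw [Algebra.smul_def, mul_smul]⟩
  have hpi := ExalLemmas.proj_incl X
  have hii := ExalLemmas.incl_mul_incl X
  have hinj := X.isExtension.incl_injective
  obtain ⟨σ, hσ'⟩ := Module.projective_lifting_property X.proj.toLinearMap LinearMap.id
    X.isExtension.proj_surjective
  have hσ : ∀ b, X.proj (σ b) = b := fun b => LinearMap.congr_fun hσ' b
  have hσincl : ∀ (b : B) (z : L), σ b * X.incl z = X.incl (b • z) := fun b z => by
    rw [X.isExtension.mul_incl, hσ]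
  have hsm : ∀ (a : A) (z : L), X.incl (a • z) = a • X.incl z :=
    fun a z => (ExalLemmas.inclₗ X).map_smul a z
  have h0 : ∀ x y : B, X.proj (σ x * σ y - σ (x * y)) = 0 := fun x y => by
    rw [map_sub, map_mul, hσ, hσ, hσ, sub_self]
  let F : B → B → L := fun x y => X.kerLift _ (h0 x y)
  have hF : ∀ x y, X.incl (F x y) = σ x * σ y - σ (x * y) := fun x y => X.incl_kerLift _ _
  let f : B →ₗ[A] B →ₗ[A] L := LinearMap.mk₂ A F
    (fun x x' y => by
      apply hinj
      rw [map_add, hF, hF, hF, add_mul, map_add, add_mul, map_add]
      ring)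
    (fun a x y => by
      apply hinj
      rw [hsm, hF, hF, smul_mul_assoc, map_smul, smul_mul_assoc, map_smul, smul_sub])
    (fun x y y' => by
      apply hinj
      rw [map_add, hF, hF, hF, mul_add, map_add, mul_add, map_add]
      ring)
    (fun a x y => by
      apply hinj
      rw [hsm, hF, hF, mul_smul_comm, map_smul, mul_smul_comm, map_smul, smul_sub])
  have hf : ∀ x y, f x y = F x y := fun x y => rfl
  obtain ⟨g, hg⟩ := h L f
    (fun x y => by
      apply hinj
      rw [hf, hf, hF, hF, mul_comm (σ x), mul_comm x])
    (fun x y z => by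
      apply hinj
      rw [hf, hf, hf, hf, map_add, map_add, ← hσincl, ← hσincl, hF, hF, hF, hF, mul_assoc x y z]
      ring)
  let sl : B →ₗ[A] X.E := σ - (ExalLemmas.inclₗ X).comp g
  have hsl : ∀ b, sl b = σ b - X.incl (g b) := fun b => rfl
  have hmul : ∀ x y, sl (x * y) = sl x * sl y := by
    intro x y
    have h1 := congrArg X.incl (hg x y)
    rw [hf, hF, map_add, map_sub, ← hσincl, ← hσincl] at h1
    have h2 := hii (g x) (g y)
    rw [hsl, hsl, hsl]
    linear_combination -h1 - h2
  have hone : sl 1 = 1 := by
    have h1 : X.proj (1 - sl 1) = 0 := by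
      rw [map_sub, hsl, map_sub, hσ, hpi, map_one, sub_zero, sub_self]
    obtain ⟨z, hz⟩ := (X.isExtension.exact _).1 h1
    have h2 := hii z z
    rw [hz] at h2
    have h3 := hmul 1 1
    rw [mul_one] at h3
    linear_combination -h2 - h3
  refine ⟨AlgHom.ofLinearMap sl hone hmul, fun b => ?_⟩
  change X.proj (sl b) = b
  rw [hsl, map_sub, hσ, hpi, sub_zero]

end Groth.Agent.S5831
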