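import Groth.Statements.S5832
import Groth.Agent.Lib.Helper21.Exal

set_option autoImplicit false
universe u u' v
open EGA41 Groth.Agent.Lib.Helper21

namespace Groth.Agent.S5832

attribute [local instance] Exal.opModule Exal.isCentralScalar_opModule

/-- Surjectivity at the end of the sequence. For ring maps Λ → A → B → C and a C-module L, every
Λ-trivial A-extension of B by L is equivalent to the inverse image along B → C of a Λ-trivial
A-extension of C by L. (Exactness at the other places is that of the six-term derivation-extension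
sequence restricted to Λ-trivial classes.) -/
theorem result {Λ : Type u} {A : Type u'} {B C L : Type v}
    [CommRing Λ] [CommRing A] [CommRing B] [CommRing C] [Algebra Λ A] [Algebra Λ B] [Algebra Λ C]
    [Algebra A B] [Algebra B C] [Algebra A C] [IsScalarTower Λ A B] [IsScalarTower Λ A C] [IsScalarTower A B C]
    [AddCommGroup L] [Module C L] [Module B L] [IsScalarTower B C L]
    (Y : Exal.Ext A B L) (hY : Y.IsTrivialOver Λ) :
    ∃ X : Exal.Ext A C L, X.IsTrivialOver Λ ∧ Nonempty ((X.pullback B).Equiv Y) := by
  obtain ⟨s, hs⟩ := hY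
  let σ : B →+* Y.E := s.toRingHom
  have hσ : ∀ b, Y.proj (σ b) = b := hs
  have hσΛ : ∀ r : Λ, σ (algebraMap Λ B r) = algebraMap A Y.E (algebraMap Λ A r) :=
    fun r => s.commutes r
  have hpi := ExalLemmas.proj_incl Y
  have hii := ExalLemmas.incl_mul_incl Y
  have hinj := Y.isExtension.incl_injective
  have h0 : ∀ y : Y.E, Y.proj (y - σ (Y.proj y)) = 0 := fun y => by
    rw [map_sub, hσ, sub_self]
  let κ : Y.E → L := fun y => Y.kerLift _ (h0 y)
  have hκ : ∀ y, Y.incl (κ y) = y - σ (Y.proj y) := fun y => Y.incl_kerLift _ _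
  have hσincl : ∀ (b : B) (z : L), σ b * Y.incl z = Y.incl (b • z) := fun b z => by
    rw [Y.isExtension.mul_incl, hσ]
  have hκadd : ∀ y y', κ (y + y') = κ y + κ y' := by
    intro y y'
    apply hinj
    rw [map_add, hκ, hκ, hκ, map_add, map_add]
    ring
  have hκmul : ∀ y y', κ (y * y') = Y.proj y • κ y' + Y.proj y' • κ y := by
    intro y y'
    apply hinj
    rw [map_add, ← hσincl, ← hσincl, hκ, hκ, hκ, map_mul, map_mul]
    have h1 := hii (κ y) (κ y')
    rw [hκ, hκ] at h1
    linear_combination h1
  have hκσ : ∀ b, κ (σ b) = 0 := by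
    intro b
    apply hinj
    rw [hκ, hσ, sub_self, map_zero]
  have hκincl : ∀ z, κ (Y.incl z) = z := by
    intro z
    apply hinj
    rw [hκ, hpi, map_zero, sub_zero]
  let θ : Y.E →+* TrivSqZeroExt C L :=
    { toFun := fun y => TrivSqZeroExt.inl (algebraMap B C (Y.proj y)) + TrivSqZeroExt.inr (κ y)
      map_one' := by
        have : κ 1 = 0 := by
          have := hκσ 1
          rwa [map_one] at this
        rw [this, map_one, map_one, TrivSqZeroExt.inr_zero, add_zero, TrivSqZeroExt.inl_one]
      map_zero' := by
        have : κ 0 = 0 := by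
          have := hκσ 0
          rwa [map_zero] at this
        rw [this, map_zero, map_zero, TrivSqZeroExt.inr_zero, add_zero, TrivSqZeroExt.inl_zero]
      map_add' := fun y y' => by
        rw [hκadd, map_add, map_add, TrivSqZeroExt.inl_add, TrivSqZeroExt.inr_add]
        abel
      map_mul' := fun y y' => by
        refine TrivSqZeroExt.ext ?_ ?_
        · simp
        · simp only [TrivSqZeroExt.snd_add, TrivSqZeroExt.snd_inl, TrivSqZeroExt.snd_inr, zero_add,
            TrivSqZeroExt.snd_mul, TrivSqZeroExt.fst_add, TrivSqZeroExt.fst_inl,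
            TrivSqZeroExt.fst_inr, add_zero, op_smul_eq_smul, hκmul, algebraMap_smul] }
  have hθ : ∀ y, θ y = TrivSqZeroExt.inl (algebraMap B C (Y.proj y)) + TrivSqZeroExt.inr (κ y) :=
    fun y => rfl
  letI algX : Algebra A (TrivSqZeroExt C L) := (θ.comp (algebraMap A Y.E)).toAlgebra
  have halgX : ∀ a : A, algebraMap A (TrivSqZeroExt C L) a = θ (algebraMap A Y.E a) := fun a => rfl
  let X : Exal.Ext A C L :=
    { E := TrivSqZeroExt C L
      commRing := inferInstance
      algebra := algX
      proj :=
        { toFun := fun x => TrivSqZeroExt.fst x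
          map_one' := TrivSqZeroExt.fst_one
          map_mul' := TrivSqZeroExt.fst_mul
          map_zero' := TrivSqZeroExt.fst_zero
          map_add' := TrivSqZeroExt.fst_add
          commutes' := fun a => by
            rw [halgX, hθ]
            simp only [TrivSqZeroExt.fst_add, TrivSqZeroExt.fst_inl, TrivSqZeroExt.fst_inr, add_zero]
            rw [AlgHom.commutes, ← IsScalarTower.algebraMap_apply] }
      incl := (TrivSqZeroExt.inrHom C L).toAddMonoidHom
      isExtension :=
        { proj_surjective := fun c => ⟨TrivSqZeroExt.inl c, rfl⟩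
          incl_injective := TrivSqZeroExt.inr_injective
          exact := fun x => by
            constructor
            · intro hx
              exact ⟨TrivSqZeroExt.snd x, TrivSqZeroExt.ext hx.symm rfl⟩
            · rintro ⟨z, rfl⟩
              rfl
          mul_incl := fun x z => by
            refine TrivSqZeroExt.ext ?_ ?_
            · change TrivSqZeroExt.fst x * 0 = 0
              exact mul_zero _
            · change TrivSqZeroExt.fst x • z + MulOpposite.op (0 : C) • TrivSqZeroExt.snd x =
                TrivSqZeroExt.fst x • z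
              rw [MulOpposite.op_zero, zero_smul, add_zero] } }
  refine ⟨X, ?_, ?_⟩
  · -- Λ-trivial
    refine ⟨{ toRingHom := (TrivSqZeroExt.inlHom C L : C →+* TrivSqZeroExt C L)
              commutes' := fun r => ?_ }, fun c => rfl⟩
    change TrivSqZeroExt.inl (algebraMap Λ C r) = θ (algebraMap A Y.E (algebraMap Λ A r))
    rw [← hσΛ, hθ, hκσ, hσ, TrivSqZeroExt.inr_zero, add_zero,
      IsScalarTower.algebraMap_apply Λ A B, ← IsScalarTower.algebraMap_apply A B C,
      ← IsScalarTower.algebraMap_apply Λ A C]
  · let θa : Y.E →ₐ[A] X.E := { toRingHom := θ, commutes' := fun a => rfl }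
    have hmem : ∀ y, (AlgHom.prod θa Y.proj) y ∈ X.fiberProd B := by
      intro y
      change TrivSqZeroExt.fst (θ y) = algebraMap B C (Y.proj y)
      rw [hθ]
      simp
    let Φ : Y.E →ₐ[A] ↥(X.fiberProd B) := AlgHom.codRestrict (AlgHom.prod θa Y.proj) _ hmem
    have hΦ1 : ∀ y, ((Φ y : X.E × B).1 : TrivSqZeroExt C L) = θ y := fun y => rfl
    have hΦ2 : ∀ y, (Φ y : X.E × B).2 = Y.proj y := fun y => rfl
    have hΦinj : Function.Injective Φ := by
      rw [injective_iff_map_eq_zero]
      intro y hy
      have h1 : Y.proj y = 0 := by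
        rw [← hΦ2, hy]; rfl
      have h2 : θ y = 0 := by
        rw [← hΦ1, hy]; rfl
      have h3 : κ y = 0 := by
        have := congrArg TrivSqZeroExt.snd h2
        rw [hθ] at this
        simpa using this
      have h4 := hκ y
      rw [h3, h1, map_zero, map_zero, sub_zero] at h4
      exact h4.symm
    have hΦsurj : Function.Surjective Φ := by
      rintro ⟨⟨t, b⟩, ht⟩
      have ht' : TrivSqZeroExt.fst t = algebraMap B C b := ht
      refine ⟨σ b + Y.incl (TrivSqZeroExt.snd t), ?_⟩
      apply Subtype.ext
      apply Prod.ext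
      · change θ (σ b + Y.incl (TrivSqZeroExt.snd t)) = t
        rw [hθ, map_add, hσ, hpi, add_zero, hκadd, hκσ, hκincl, zero_add]
        refine TrivSqZeroExt.ext ?_ ?_
        · simp [ht']
        · simp
      · change Y.proj (σ b + Y.incl (TrivSqZeroExt.snd t)) = b
        rw [map_add, hσ, hpi, add_zero]
    let E' : Y.Equiv (X.pullback B) :=
      { toAlgEquiv := AlgEquiv.ofBijective Φ ⟨hΦinj, hΦsurj⟩
        proj_apply := fun y => rfl
        apply_incl := fun z => by
          apply Subtype.ext
          apply Prod.ext
          · change θ (Y.incl z) = TrivSqZeroExt.inr z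
            rw [hθ, hpi, map_zero, TrivSqZeroExt.inl_zero, zero_add, hκincl]
          · change Y.proj (Y.incl z) = 0
            exact hpi z }
    exact ⟨E'.symm⟩

end Groth.Agent.S5832
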