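import Groth.Statements.S5838
import Groth.Agent.Lib.Helper21.LiftStep
import Groth.Agent.Lib.Helper21.TopModComplete
import Groth.Agent.S5826

set_option autoImplicit false
universe u v w
open EGA41 Groth.Agent.Lib.Helper21

namespace Groth.Agent.S5838

/-- Let A be a topological ring with a countable decreasing fundamental system (𝔍_n) of open ideals, M
and N topological A-modules with the topologies deduced from that of A, M Hausdorff and complete,
and u : M → N a continuous linear map such that for every n the cokernel of M/𝔍_n M → N/𝔍_n N is a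
projective (A/𝔍_n)-module. Then u is formally left invertible if and only if it has a linear left
inverse. (The published statement adds that u is then a topological isomorphism onto a topological
direct factor.) -/
theorem result {A : Type u} {M : Type v} {N : Type w}
    [CommRing A] [TopologicalSpace A] [AddCommGroup M] [Module A M] [UniformSpace M] [IsUniformAddGroup M]
    [CompleteSpace M] [T2Space M] [AddCommGroup N] [Module A N] [TopologicalSpace N]
    (𝔍 : ℕ → Ideal A) (h𝔍open : ∀ n, IsOpen (𝔍 n : Set A)) (h𝔍anti : Antitone 𝔍)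
    (h𝔍basis : (nhds (0 : A)).HasBasis (fun _ : ℕ => True) (fun n => (𝔍 n : Set A)))
    (hM : TopMod.IsDeduced A M) (hN : TopMod.IsDeduced A N) (u : M →L[A] N)
    (hcoker : ∀ n, Module.Projective (A ⧸ 𝔍 n)
      ((N ⧸ LinearMap.range u.toLinearMap) ⧸ (𝔍 n • (⊤ : Submodule A (N ⧸ LinearMap.range u.toLinearMap))))) :
    TopMod.IsFormallyLeftInvertible u ↔ ∃ w : N →ₗ[A] M, ∀ x : M, w (u x) = x := by
  rw [Groth.Agent.S5826.result hM hN u]
  constructor
  · intro h
    have h0 := h (𝔍 0) (h𝔍open 0)
    have step : ∀ n (w : {w : N →ₗ[A] M ⧸ (𝔍 n • ⊤ : Submodule A M) //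
          ∀ x : M, w (u x) = Submodule.Quotient.mk x}),
        ∃ w' : {w' : N →ₗ[A] M ⧸ (𝔍 (n + 1) • ⊤ : Submodule A M) //
          ∀ x : M, w' (u x) = Submodule.Quotient.mk x},
          ∀ y : N, Submodule.factor (Submodule.smul_mono (h𝔍anti (Nat.le_succ n)) le_rfl) (w'.1 y) =
            w.1 y := by
      intro n w
      obtain ⟨w0, hw0⟩ := h (𝔍 (n + 1)) (h𝔍open (n + 1))
      obtain ⟨w'', h1, h2⟩ := exists_leftInverse_lift_step (𝔍 (n + 1)) (𝔍 n)
        (h𝔍anti (Nat.le_succ n)) u.toLinearMap (hcoker (n + 1)) w.1 w.2 w0 hw0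
      exact ⟨⟨w'', h1⟩, h2⟩
    let W : ∀ n, {w : N →ₗ[A] M ⧸ (𝔍 n • ⊤ : Submodule A M) //
        ∀ x : M, w (u x) = Submodule.Quotient.mk x} :=
      fun n => Nat.rec ⟨h0.choose, h0.choose_spec⟩ (fun n w => (step n w).choose) n
    have hW : ∀ n (y : N),
        Submodule.factor (Submodule.smul_mono (h𝔍anti (Nat.le_succ n)) le_rfl) ((W (n + 1)).1 y) =
          (W n).1 y := fun n => (step n (W n)).choose_spec
    have hex : ∀ y : N, ∃! m : M,
        ∀ n, (Submodule.Quotient.mk m : M ⧸ (𝔍 n • ⊤ : Submodule A M)) = (W n).1 y := fun y =>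
      TopModComplete.existsUnique_of_compatible 𝔍 h𝔍open h𝔍anti h𝔍basis hM
        (fun n => (W n).1 y) (fun n => hW n y)
    choose wf hwf using hex
    have hwf1 : ∀ y n, (Submodule.Quotient.mk (wf y) : M ⧸ (𝔍 n • ⊤ : Submodule A M)) = (W n).1 y :=
      fun y => (hwf y).1
    have hwf2 : ∀ y m, (∀ n, (Submodule.Quotient.mk m : M ⧸ (𝔍 n • ⊤ : Submodule A M)) = (W n).1 y) →
        m = wf y := fun y => (hwf y).2
    refine ⟨{ toFun := wf, map_add' := fun y y' => ?_, map_smul' := fun a y => ?_ }, fun x => ?_⟩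
    · symm
      apply hwf2
      intro n
      rw [Submodule.Quotient.mk_add, hwf1, hwf1, map_add]
    · symm
      apply hwf2
      intro n
      rw [RingHom.id_apply, Submodule.Quotient.mk_smul, hwf1, map_smul]
    · symm
      apply hwf2
      intro n
      exact ((W n).2 x).symm
  · rintro ⟨w, hw⟩ J _
    exact ⟨(Submodule.mkQ (J • ⊤ : Submodule A M)).comp w, fun x => by
      rw [LinearMap.comp_apply, hw]; rfl⟩

end Groth.Agent.S5838
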