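import Groth.Statements.S5839
import Groth.Agent.S5826
import Groth.Agent.S5827
import Groth.Agent.S5838

set_option autoImplicit false
universe u v w
open EGA41 Groth.Agent.Lib.Helper21

namespace Groth.Agent.S5839

section Aux

variable {A : Type u} {M : Type v} {N : Type w} [CommRing A] [AddCommGroup M] [Module A M]
  [AddCommGroup N] [Module A N]

/-- If `u` is left invertible modulo `J` and `N / J N` is projective over `A / J`, then the cokernel
of `u` modulo `J` is projective over `A / J`. -/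
lemma projective_coker (J : Ideal A) (u : M →ₗ[A] N)
    (hproj : Module.Projective (A ⧸ J) (N ⧸ (J • (⊤ : Submodule A N))))
    (wJ : N →ₗ[A] M ⧸ (J • ⊤ : Submodule A M)) (hwJ : ∀ x : M, wJ (u x) = Submodule.Quotient.mk x) :
    Module.Projective (A ⧸ J)
      ((N ⧸ LinearMap.range u) ⧸ (J • (⊤ : Submodule A (N ⧸ LinearMap.range u)))) := by
  have hsurjA : Function.Surjective (algebraMap A (A ⧸ J)) := Ideal.Quotient.mk_surjective
  let JM : Submodule A M := J • ⊤
  let JN : Submodule A N := J • ⊤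
  let C := N ⧸ LinearMap.range u
  let JC : Submodule A C := J • ⊤
  have huJ : JM ≤ JN.comap u := by
    rw [← Submodule.map_le_iff_le_comap]
    change (J • ⊤ : Submodule A M).map u ≤ J • ⊤
    rw [Submodule.map_smul'']
    exact Submodule.smul_mono le_rfl le_top
  let ubar : (M ⧸ JM) →ₗ[A] (N ⧸ JN) := Submodule.mapQ JM JN u huJ
  have hubar : ∀ x : M, ubar (Submodule.Quotient.mk x) = Submodule.Quotient.mk (u x) := fun x => rfl
  let wt : N →ₗ[A] (N ⧸ JN) := JN.mkQ - ubar.comp wJ
  have hwt : LinearMap.range u ≤ LinearMap.ker wt := by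
    rintro _ ⟨x, rfl⟩
    rw [LinearMap.mem_ker]
    change Submodule.Quotient.mk (u x) - ubar (wJ (u x)) = 0
    rw [hwJ, hubar, sub_self]
  let e : C →ₗ[A] (N ⧸ JN) := Submodule.liftQ _ wt hwt
  have heJ : JC ≤ LinearMap.ker e := by
    change J • ⊤ ≤ _
    rw [Submodule.smul_le]
    intro j hj c _
    rw [LinearMap.mem_ker, map_smul]
    obtain ⟨y, hy⟩ := Submodule.Quotient.mk_surjective _ (e c)
    rw [← hy, ← Submodule.Quotient.mk_smul, Submodule.Quotient.mk_eq_zero]
    exact Submodule.smul_mem_smul hj Submodule.mem_top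
  let i₀ : (C ⧸ JC) →ₗ[A] (N ⧸ JN) := Submodule.liftQ _ e heJ
  have hqJ : JN ≤ JC.comap (LinearMap.range u).mkQ := by
    rw [← Submodule.map_le_iff_le_comap]
    change (J • ⊤ : Submodule A N).map (LinearMap.range u).mkQ ≤ J • ⊤
    rw [Submodule.map_smul'']
    exact Submodule.smul_mono le_rfl le_top
  let s₀ : (N ⧸ JN) →ₗ[A] (C ⧸ JC) := Submodule.mapQ JN JC (LinearMap.range u).mkQ hqJ
  have hs₀ : ∀ y : N, s₀ (Submodule.Quotient.mk y) =
      Submodule.Quotient.mk (Submodule.Quotient.mk y) := fun y => rfl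
  have hcomp : s₀.comp i₀ = LinearMap.id := by
    ext y
    change s₀ (wt y) = _
    change s₀ (Submodule.Quotient.mk y - ubar (wJ y)) = _
    obtain ⟨m, hm⟩ := Submodule.Quotient.mk_surjective _ (wJ y)
    rw [← hm, hubar, map_sub, hs₀, hs₀,
      (Submodule.Quotient.mk_eq_zero (LinearMap.range u)).2 ⟨m, rfl⟩]
    simp
  refine Module.Projective.of_split (i₀.extendScalarsOfSurjective hsurjA)
    (s₀.extendScalarsOfSurjective hsurjA) ?_
  ext c
  exact LinearMap.congr_fun hcomp c

end Aux

/-- Let A be preadmissible with ideal of definition 𝔏, the topologies of M and N deduced from that of A,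
N/JN projective over A/J for every open ideal J; assuming moreover a countable decreasing
fundamental system of open ideals and M Hausdorff and complete, u : M → N has a linear left inverse
if and only if the induced map M/𝔏M → N/𝔏N has one (both being equivalent to formal left
invertibility). -/
theorem result {A : Type u} {M : Type v} {N : Type w}
    [CommRing A] [TopologicalSpace A] [AddCommGroup M] [Module A M] [UniformSpace M] [IsUniformAddGroup M]
    [CompleteSpace M] [T2Space M] [AddCommGroup N] [Module A N] [TopologicalSpace N]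
    (𝔍 : ℕ → Ideal A) (h𝔍open : ∀ n, IsOpen (𝔍 n : Set A)) (h𝔍anti : Antitone 𝔍)
    (h𝔍basis : (nhds (0 : A)).HasBasis (fun _ : ℕ => True) (fun n => (𝔍 n : Set A)))
    (hM : TopMod.IsDeduced A M) (hN : TopMod.IsDeduced A N) (u : M →L[A] N)
    (hA : LinTop.IsPreadmissible A) (𝔏 : Ideal A) (h𝔏 : LinTop.IsIdealOfDefinition A 𝔏)
    (hproj : ∀ J : Ideal A, IsOpen (J : Set A) → Module.Projective (A ⧸ J) (N ⧸ (J • (⊤ : Submodule A N)))) :
    (∃ w : N →ₗ[A] M, ∀ x : M, w (u x) = x) ↔
      ∃ w₀ : N →ₗ[A] M ⧸ (𝔏 • ⊤ : Submodule A M), ∀ x : M, w₀ (u x) = Submodule.Quotient.mk x := by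
  constructor
  · rintro ⟨w, hw⟩
    exact ⟨(Submodule.mkQ (𝔏 • ⊤ : Submodule A M)).comp w, fun x => by
      rw [LinearMap.comp_apply, hw]; rfl⟩
  · intro hw₀
    have hfl : TopMod.IsFormallyLeftInvertible u :=
      (Groth.Agent.S5827.result hA 𝔏 h𝔏 hM hN hproj u).2 hw₀
    have hall := (Groth.Agent.S5826.result hM hN u).1 hfl
    have hcoker : ∀ n, Module.Projective (A ⧸ 𝔍 n)
        ((N ⧸ LinearMap.range u.toLinearMap) ⧸
          (𝔍 n • (⊤ : Submodule A (N ⧸ LinearMap.range u.toLinearMap)))) := by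
      intro n
      obtain ⟨wJ, hwJ⟩ := hall (𝔍 n) (h𝔍open n)
      exact projective_coker (𝔍 n) u.toLinearMap (hproj _ (h𝔍open n)) wJ hwJ
    exact (Groth.Agent.S5838.result 𝔍 h𝔍open h𝔍anti h𝔍basis hM hN u hcoker).1 hfl

end Groth.Agent.S5839
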