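import Mathlib
import Groth.Statements.S5854
import Groth.Agent.Lib.Helper49.ZClosureFlat
import Groth.Agent.Lib.Helper49.FiniteDescent
import Groth.Agent.Lib.Helper49.SerreGen
import Groth.Agent.Lib.Helper11.SupportTensor

set_option autoImplicit false
universe u
open ZClos

namespace Groth.Agent.S5854

open CategoryTheory CategoryTheory.Limits AlgebraicGeometry in
/-- Let f : X' → X be a flat morphism of locally Noetherian schemes, Z a subset of X stable under
specialization, Z' = f⁻¹(Z) and F a quasi-coherent O_X-module. If H⁰_{X/Z}(F) is coherent then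
H⁰_{X'/Z'}(f^* F) is coherent; the converse holds when f is moreover surjective (faithfully flat)
and quasi-compact. -/
theorem result {X X' : Scheme.{u}} [IsLocallyNoetherian X] [IsLocallyNoetherian X'] (f : X' ⟶ X) [Flat f]
    (Z : Set X) (hZ : StableUnderSpecialization Z) (F : X.Modules) (hF : Coh.IsQCoh F) :
    (Coh.IsCoh ((ZClos.H0 Z).obj F) →
      Coh.IsCoh ((ZClos.H0 (f.base ⁻¹' Z)).obj ((Scheme.Modules.pullback f).obj F))) ∧
    (Surjective f → QuasiCompact f →
      Coh.IsCoh ((ZClos.H0 (f.base ⁻¹' Z)).obj ((Scheme.Modules.pullback f).obj F)) →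
        Coh.IsCoh ((ZClos.H0 Z).obj F)) := by
  have : F.IsQuasicoherent := hF
  obtain ⟨e⟩ := Groth.Agent.Lib.Helper49.ZClosureFlat.nonempty_pullback_H0_iso f Z hZ F
  have hq : ((ZClos.H0 Z).obj F).IsQuasicoherent :=
    Groth.Agent.Lib.Helper49.ZClosure.isQuasicoherent_H0 Z F
  constructor
  · rintro ⟨_, hft⟩
    have h1 := Groth.Agent.Lib.Helper11.SupportTensor.isFiniteType_pullback_of_isFiniteType f _ hft
    have h2 : ((Scheme.Modules.pullback f).obj ((ZClos.H0 Z).obj F)).IsQuasicoherent :=
      Groth.Agent.Lib.Helper16.FlatPull.isQuasicoherent_pullback f _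
    exact Groth.Agent.Lib.Helper49.SerreGen.isCoh_of_iso e ⟨h2, h1⟩
  · intro hs hqc hc
    have h1 := (Groth.Agent.Lib.Helper49.SerreGen.isCoh_of_iso e.symm hc).2
    exact ⟨hq, Groth.Agent.Lib.Helper49.FiniteDescent.isFiniteType_of_pullback f _ h1⟩

end Groth.Agent.S5854
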