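import Groth.Statements.S5860
import Groth.Agent.S5857
import Groth.Agent.Lib.Helper12.QuasiFlat
import Groth.Agent.Lib.Helper29.Depth

set_option autoImplicit false
universe u
open ZClos

namespace Groth.Agent.S5860

open AlgebraicGeometry in
theorem stableUnderSpecialization_dimGe (X : Scheme.{u}) (n : ℕ) :
    StableUnderSpecialization (ZClos.dimGe X n) := by
  intro x y hxy hx
  change (n : WithBot ℕ∞) ≤ ringKrullDim (X.presheaf.stalk y)
  have hx' : (n : WithBot ℕ∞) ≤ ringKrullDim (X.presheaf.stalk x) := hx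
  rw [ringKrullDim_stalk_eq_coheight] at hx' ⊢
  refine hx'.trans ?_
  exact WithBot.coe_le_coe.mpr (Order.coheight_anti hxy)

theorem withBot_enat_le_one_of_not_two_le {d : WithBot ℕ∞} (h : ¬ (2 : WithBot ℕ∞) ≤ d) :
    d ≤ 1 := by
  induction d with
  | bot => exact bot_le
  | coe c =>
    have h' : ¬ (2 : ℕ∞) ≤ c := fun h2 => h (WithBot.coe_le_coe.mpr h2)
    have : c ≤ 1 := by
      rw [not_le] at h'
      have h2 : c < 1 + 1 := by rw [one_add_one_eq_two]; exact h'
      exact (ENat.lt_add_one_iff (by simp)).mp h2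
    exact WithBot.coe_le_coe.mpr this

theorem withBot_enat_le_zero_of_le_one_of_ne {d : WithBot ℕ∞} (h : d ≤ 1) (h1 : d ≠ 1) :
    d ≤ 0 := by
  induction d with
  | bot => exact bot_le
  | coe c =>
    have h' : c ≤ 1 := WithBot.coe_le_coe.mp h
    have h1' : c ≠ 1 := fun hc => h1 (by rw [hc]; rfl)
    have : c < 1 := lt_of_le_of_ne h' h1'
    have h0 : c = 0 := ENat.lt_one_iff_eq_zero.mp this
    rw [h0]; rfl



open CategoryTheory CategoryTheory.Limits AlgebraicGeometry in
/-- Let X be a locally Noetherian scheme and F a coherent O_X-module with support all of X, having no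
associated point at which the local ring of X has dimension 1, and such that F' = H⁰_{X/Z}(F) is
coherent, Z = Z^(2)(X) being the set of points whose local ring has dimension at least 2. Then F'
satisfies (S_2): at every point x, depth(F'_x) ≥ min(2, dim F'_x). -/
theorem result (X : Scheme.{u}) [IsLocallyNoetherian X] (F : X.Modules) (hF : Coh.IsCoh F)
    (hsupp : ∀ x : X, Nontrivial (F.presheaf.stalk x))
    (hass : ∀ x ∈ AssSch.Ass F, ringKrullDim (X.presheaf.stalk x) ≠ 1)
    (hH : Coh.IsCoh ((ZClos.H0 (ZClos.dimGe X 2)).obj F)) (x : X) :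
    min (2 : WithBot ℕ∞) (Module.supportDim (X.presheaf.stalk x) (((ZClos.H0 (ZClos.dimGe X 2)).obj F).presheaf.stalk x)) ≤
      ((LocCoh.depth (X.presheaf.stalk x) (((ZClos.H0 (ZClos.dimGe X 2)).obj F).presheaf.stalk x) : ℕ∞) : WithBot ℕ∞) := by
  have hZ := stableUnderSpecialization_dimGe X 2
  by_cases hxZ : x ∈ ZClos.dimGe X 2
  · have hd := Groth.Agent.S5857.result X _ hZ F hF hH x hxZ
    exact (min_le_left _ _).trans (WithBot.coe_le_coe.mpr hd)
  · have hb : Function.Bijective
        (Groth.Agent.Lib.Helper49.stalkMapLinear (ZClos.rhoApp (ZClos.dimGe X 2) F) x) :=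
      Groth.Agent.Lib.Helper49.ZClosure.isZClosedAt_of_not_mem _ F x hxZ
    have hdepth : LocCoh.depth (X.presheaf.stalk x) (F.presheaf.stalk x) =
        LocCoh.depth (X.presheaf.stalk x)
          (((ZClos.H0 (ZClos.dimGe X 2)).obj F).presheaf.stalk x) :=
      Groth.Agent.Lib.Helper29.idealDepth_congr _ (LinearEquiv.ofBijective _ hb)
    have hdim : Module.supportDim (X.presheaf.stalk x) (F.presheaf.stalk x) =
        Module.supportDim (X.presheaf.stalk x)
          (((ZClos.H0 (ZClos.dimGe X 2)).obj F).presheaf.stalk x) :=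
      Module.supportDim_eq_of_equiv (LinearEquiv.ofBijective _ hb)
    rw [← hdepth, ← hdim]
    have hle1 : ringKrullDim (X.presheaf.stalk x) ≤ 1 := withBot_enat_le_one_of_not_two_le hxZ
    have hsd : Module.supportDim (X.presheaf.stalk x) (F.presheaf.stalk x) ≤
        ringKrullDim (X.presheaf.stalk x) := Module.supportDim_le_ringKrullDim _ _
    have hfin : Module.Finite (X.presheaf.stalk x) (F.presheaf.stalk x) :=
      Groth.Agent.Lib.Helper12.QuasiFlat.finite_stalk_of_isCoh _ hF x
    refine (min_le_right _ _).trans ?_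
    by_cases hass' : Curv2.IsAssPoint F x
    · have h0 := withBot_enat_le_zero_of_le_one_of_ne hle1 (hass x hass')
      refine (hsd.trans h0).trans ?_
      exact (WithBot.coe_le_coe.mpr zero_le : ((0 : ℕ∞) : WithBot ℕ∞) ≤ _)
    · have hne : LocCoh.depth (X.presheaf.stalk x) (F.presheaf.stalk x) ≠ 0 := fun h0 =>
        hass' ((Groth.Agent.Lib.Helper29.depth_eq_zero_iff _ _).mp h0)
      have h1 : (1 : ℕ∞) ≤ LocCoh.depth (X.presheaf.stalk x) (F.presheaf.stalk x) :=
        Order.one_le_iff_ne_zero.mpr hne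
      refine (hsd.trans hle1).trans ?_
      exact (WithBot.coe_le_coe.mpr h1 : ((1 : ℕ∞) : WithBot ℕ∞) ≤ _)

end Groth.Agent.S5860
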