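import Groth.Statements.S5861
import Groth.Agent.S5860
import Groth.Agent.Lib.Helper80.SuppDimStalk
import Groth.Agent.Lib.Helper80.ZClosOpen

set_option autoImplicit false
universe u
open ZClos

namespace Groth.Agent.S5861

open AlgebraicGeometry in
/-- away from `Z^(2)`, `(S_2)` holds automatically at a point which is not an associated point with
one-dimensional local ring -/
theorem s2_of_not_mem_dimGe (X : Scheme.{u}) [IsLocallyNoetherian X] (F : X.Modules)
    (hF : Coh.IsCoh F)
    (hass : ∀ x ∈ AssSch.Ass F, ringKrullDim (X.presheaf.stalk x) ≠ 1) (x : X)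
    (hxZ : x ∉ ZClos.dimGe X 2) :
    min (2 : WithBot ℕ∞) (Module.supportDim (X.presheaf.stalk x) (F.presheaf.stalk x)) ≤
      ((LocCoh.depth (X.presheaf.stalk x) (F.presheaf.stalk x) : ℕ∞) : WithBot ℕ∞) := by
  have hle1 : ringKrullDim (X.presheaf.stalk x) ≤ 1 :=
    Groth.Agent.S5860.withBot_enat_le_one_of_not_two_le hxZ
  have hsd : Module.supportDim (X.presheaf.stalk x) (F.presheaf.stalk x) ≤
      ringKrullDim (X.presheaf.stalk x) := Module.supportDim_le_ringKrullDim _ _
  have hfin : Module.Finite (X.presheaf.stalk x) (F.presheaf.stalk x) :=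
    Groth.Agent.Lib.Helper12.QuasiFlat.finite_stalk_of_isCoh _ hF x
  refine (min_le_right _ _).trans ?_
  by_cases hass' : Curv2.IsAssPoint F x
  · have h0 := Groth.Agent.S5860.withBot_enat_le_zero_of_le_one_of_ne hle1 (hass x hass')
    refine (hsd.trans h0).trans ?_
    exact (WithBot.coe_le_coe.mpr zero_le : ((0 : ℕ∞) : WithBot ℕ∞) ≤ _)
  · have hne : LocCoh.depth (X.presheaf.stalk x) (F.presheaf.stalk x) ≠ 0 := fun h0 =>
      hass' ((Groth.Agent.Lib.Helper29.depth_eq_zero_iff _ _).mp h0)
    have h1 : (1 : ℕ∞) ≤ LocCoh.depth (X.presheaf.stalk x) (F.presheaf.stalk x) :=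
      Order.one_le_iff_ne_zero.mpr hne
    refine (hsd.trans hle1).trans ?_
    exact (WithBot.coe_le_coe.mpr h1 : ((1 : ℕ∞) : WithBot ℕ∞) ≤ _)

open AlgebraicGeometry in
/-- on `Z^(2)`, for a module with full support, `(S_2)` means depth at least two -/
theorem s2_iff_of_mem_dimGe (X : Scheme.{u}) [IsLocallyNoetherian X] (F : X.Modules)
    (hF : Coh.IsCoh F) (hsupp : ∀ x : X, Nontrivial (F.presheaf.stalk x)) (x : X)
    (hxZ : x ∈ ZClos.dimGe X 2) :
    min (2 : WithBot ℕ∞) (Module.supportDim (X.presheaf.stalk x) (F.presheaf.stalk x)) ≤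
      ((LocCoh.depth (X.presheaf.stalk x) (F.presheaf.stalk x) : ℕ∞) : WithBot ℕ∞) ↔
      (2 : ℕ∞) ≤ LocCoh.depth (X.presheaf.stalk x) (F.presheaf.stalk x) := by
  rw [Groth.Agent.Lib.Helper80.supportDim_stalk_eq_ringKrullDim F hF hsupp x]
  have h2 : (2 : WithBot ℕ∞) ≤ ringKrullDim (X.presheaf.stalk x) := hxZ
  rw [min_eq_left h2]
  exact (WithBot.coe_le_coe : ((2 : ℕ∞) : WithBot ℕ∞) ≤ _ ↔ _)



open CategoryTheory CategoryTheory.Limits AlgebraicGeometry in
/-- Suppose X is a locally Noetherian scheme and F is a coherent O_X-module whose support is the whole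
of X. Assume no associated point of F has a local ring of X of dimension 1, and assume H⁰_{X/Z}(F)
is coherent, where Z = Z^(2)(X) denotes the set of points whose local ring has dimension at least 2.
Consider the set U of points x where F satisfies (S_2), meaning depth(F_{x'}) ≥ min(2, dim F_{x'})
holds at every generization x' of x. Then U is an open subset, and the points lying outside U form a
set of codimension ≥ 2: the local ring at any such point has dimension at least 2. -/
theorem result (X : Scheme.{u}) [IsLocallyNoetherian X] (F : X.Modules) (hF : Coh.IsCoh F)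
    (hsupp : ∀ x : X, Nontrivial (F.presheaf.stalk x))
    (hass : ∀ x ∈ AssSch.Ass F, ringKrullDim (X.presheaf.stalk x) ≠ 1)
    (hH : Coh.IsCoh ((ZClos.H0 (ZClos.dimGe X 2)).obj F)) :
    IsOpen {x : X | ∀ x' : X, x' ⤳ x →
        min (2 : WithBot ℕ∞) (Module.supportDim (X.presheaf.stalk x') (F.presheaf.stalk x')) ≤
          ((LocCoh.depth (X.presheaf.stalk x') (F.presheaf.stalk x') : ℕ∞) : WithBot ℕ∞)} ∧
      ∀ x : X, (¬ ∀ x' : X, x' ⤳ x →
        min (2 : WithBot ℕ∞) (Module.supportDim (X.presheaf.stalk x') (F.presheaf.stalk x')) ≤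
          ((LocCoh.depth (X.presheaf.stalk x') (F.presheaf.stalk x') : ℕ∞) : WithBot ℕ∞)) →
        (2 : WithBot ℕ∞) ≤ ringKrullDim (X.presheaf.stalk x) := by
  have hZ := Groth.Agent.S5860.stableUnderSpecialization_dimGe X 2
  have hiff : ∀ x : X, (∀ x' : X, x' ⤳ x →
        min (2 : WithBot ℕ∞) (Module.supportDim (X.presheaf.stalk x') (F.presheaf.stalk x')) ≤
          ((LocCoh.depth (X.presheaf.stalk x') (F.presheaf.stalk x') : ℕ∞) : WithBot ℕ∞)) ↔
      ZClos.IsZClosedAt (ZClos.dimGe X 2) F x := by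
    intro x
    constructor
    · intro h
      refine Groth.Agent.Lib.Helper80.ZClosPoint.isZClosedAt_of_depth _ F hF x ?_
      intro x' hx' hx'Z
      exact (s2_iff_of_mem_dimGe X F hF hsupp x' hx'Z).mp (h x' hx')
    · intro h x' hx'
      by_cases hx'Z : x' ∈ ZClos.dimGe X 2
      · exact (s2_iff_of_mem_dimGe X F hF hsupp x' hx'Z).mpr
          (Groth.Agent.Lib.Helper80.ZClosPoint.two_le_depth_of_isZClosedAt _ F hF hZ x h x' hx' hx'Z)
      · exact s2_of_not_mem_dimGe X F hF hass x' hx'Z
  constructor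
  · have hopen := Groth.Agent.Lib.Helper80.ZClosPoint.isOpen_setOf_isZClosedAt
      (ZClos.dimGe X 2) F hF hH
    have hset : {x : X | ∀ x' : X, x' ⤳ x →
        min (2 : WithBot ℕ∞) (Module.supportDim (X.presheaf.stalk x') (F.presheaf.stalk x')) ≤
          ((LocCoh.depth (X.presheaf.stalk x') (F.presheaf.stalk x') : ℕ∞) : WithBot ℕ∞)} =
        {x : X | ZClos.IsZClosedAt (ZClos.dimGe X 2) F x} := by
      ext x
      exact hiff x
    rw [hset]
    exact hopen
  · intro x hx
    by_contra hxZ
    apply hx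
    rw [hiff x]
    exact Groth.Agent.Lib.Helper49.ZClosure.isZClosedAt_of_not_mem _ F x hxZ

end Groth.Agent.S5861
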