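import Groth.Statements.S5862
import Mathlib

set_option autoImplicit false
universe u
open RadPt

namespace Groth.Agent.S5862

theorem ringHom_tower_top {F E K : Type*} [Field F] [Field E] [Field K] (f : F →+* E) (g : E →+* K)
    (h : (g.comp f).IsPurelyInseparable) : g.IsPurelyInseparable := by
  algebraize [f, g, g.comp f]
  exact IsPurelyInseparable.tower_top F E K

theorem ringHom_tower_bot {F E K : Type*} [Field F] [Field E] [Field K] (f : F →+* E) (g : E →+* K)
    (h : (g.comp f).IsPurelyInseparable) : f.IsPurelyInseparable := by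
  algebraize [f, g, g.comp f]
  exact IsPurelyInseparable.tower_bot F E K

open CategoryTheory AlgebraicGeometry in
theorem residueFieldMap_comp_hom {X Y Z : Scheme.{u}} (f : X ⟶ Y) (g : Y ⟶ Z) (x : X) :
    ((f ≫ g).residueFieldMap x).hom =
      (f.residueFieldMap x).hom.comp (g.residueFieldMap (f x)).hom := by
  rw [Scheme.residueFieldMap_comp]
  rfl

open CategoryTheory AlgebraicGeometry in
/-- Let f : X → Y and g : Y → Z be morphisms of schemes and y a point of Y. If f is radicial at y (fibre
with at most one point, purely inseparable residue field extension) and g is radicial at g(y), then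
g ∘ f is radicial at g(y). Conversely, if f is surjective and g ∘ f is radicial at g(y), then f is
radicial at y and g is radicial at g(y). -/
theorem result {X Y Z : Scheme.{u}} (f : X ⟶ Y) (g : Y ⟶ Z) (y : Y) :
    (RadPt.IsRadicialAt f y → RadPt.IsRadicialAt g (g y) → RadPt.IsRadicialAt (f ≫ g) (g y)) ∧
      (Surjective f → RadPt.IsRadicialAt (f ≫ g) (g y) →
        RadPt.IsRadicialAt f y ∧ RadPt.IsRadicialAt g (g y)) := by
  constructor
  · rintro ⟨hf1, hf2⟩ ⟨hg1, hg2⟩
    refine ⟨fun x x' hx hx' => ?_, fun x hx => ?_⟩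
    · have hx1 : g (f x) = g y := hx
      have hx2 : g (f x') = g y := hx'
      exact hf1 x x' (hg1 _ _ hx1 rfl) (hg1 _ _ hx2 rfl)
    · have hx1 : g (f x) = g y := hx
      have hfx : f x = y := hg1 _ _ hx1 rfl
      rw [residueFieldMap_comp_hom]
      exact RingHom.IsPurelyInseparable.comp (hg2 (f x) hx1) (hf2 x hfx)
  · rintro hs ⟨h1, h2⟩
    refine ⟨⟨fun x x' hx hx' => ?_, fun x hx => ?_⟩, ⟨fun y' y'' hy' hy'' => ?_, fun y' hy' => ?_⟩⟩
    · exact h1 x x' (show g (f x) = g y by rw [hx]) (show g (f x') = g y by rw [hx'])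
    · have := h2 x (show g (f x) = g y by rw [hx])
      rw [residueFieldMap_comp_hom] at this
      exact ringHom_tower_top _ _ this
    · obtain ⟨x', rfl⟩ := hs.surj y'
      obtain ⟨x'', rfl⟩ := hs.surj y''
      rw [h1 x' x'' hy' hy'']
    · obtain ⟨x', rfl⟩ := hs.surj y'
      have := h2 x' hy'
      rw [residueFieldMap_comp_hom] at this
      exact ringHom_tower_bot _ _ this

end Groth.Agent.S5862
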