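import Groth.Statements.S5866
import Mathlib
import Groth.Agent.Lib.Helper61.RadBir3

set_option autoImplicit false
universe u
open RadPt

namespace Groth.Agent.S5866

open CategoryTheory AlgebraicGeometry in
/-- Let f : X → Y be a morphism of schemes which is integral and whose induced morphism of reduced
schemes is birational. Then Y is geometrically unibranch (at every point) if and only if X is
geometrically unibranch and f is radicial (universally injective). -/
theorem result {X Y : Scheme.{u}} (f : X ⟶ Y) [IsIntegralHom f] (hf : RadPt.IsBirational f) :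
    (∀ y : Y, CAlg2.IsGeomUnibranch (Y.presheaf.stalk y)) ↔
      ((∀ x : X, CAlg2.IsGeomUnibranch (X.presheaf.stalk x)) ∧ UniversallyInjective f) := by
  have key := fun y : Y =>
    Groth.Agent.Lib.Helper61.RadBir.isGeomUnibranch_iff_of_isBirational f hf y
  have htfae := (tfae_universallyInjective f).out 0 2
  constructor
  · intro h
    refine ⟨fun x => ((key (f x)).mp (h (f x))).2 x rfl, ?_⟩
    rw [htfae]
    refine ⟨fun x x' hxx' => ?_, fun x => ?_⟩
    · exact ((key (f x')).mp (h (f x'))).1.1 x x' hxx' rfl
    · exact ((key (f x)).mp (h (f x))).1.2 x rfl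
  · rintro ⟨hX, hinj⟩ y
    rw [htfae] at hinj
    rw [key y]
    refine ⟨⟨fun x x' h h' => hinj.1 (h.trans h'.symm), fun x _ => hinj.2 x⟩, fun x _ => hX x⟩

end Groth.Agent.S5866
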