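import Groth.Statements.S5871
import Groth.Agent.H76.AssGenEmb
import Groth.Agent.H76.AssGenNoEmb
import Groth.Agent.H76.NoEmbField
import Groth.Agent.Lib.Helper23.ConsLocusMod

set_option autoImplicit false
universe u
open CategoryTheory AlgebraicGeometry
open Cons9

namespace Groth.Agent.S5871

/-- Let f : X ⟶ S be a morphism of finite presentation (locally of finite presentation, quasi-compact
and quasi-separated) and F a quasi-coherent O_X-module of finite presentation; for s in S let F_s be
the pullback of F to the scheme-theoretic fibre X_s. Then the set of s such that F_s has no embedded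
associated point (an associated point of F_s which is a specialization of another associated point
is equal to it) is locally constructible in S. -/
theorem result {X S : Scheme.{u}} (f : X ⟶ S)
    [LocallyOfFinitePresentation f] [QuasiCompact f] [QuasiSeparated f]
    (F : X.Modules) [Coh.IsQCoh F] (hF : CohB1.IsFP F) :
    Topology.IsLocallyConstructible
      {s : S | AssSch.NoEmbedded ((Scheme.Modules.pullback (f.fiberι s)).obj F)} := by
  classical
  haveI : F.IsQuasicoherent := ‹Coh.IsQCoh F›
  let P : ∀ ⦃Y T : Scheme.{u}⦄, (Y ⟶ T) → Y.Modules → Prop := fun _ _ _ G => AssSch.NoEmbedded G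
  have hP : ConsProp.IsConsMod P := by
    refine ⟨?_, ?_⟩
    · intro Y Y' T T' g g' e h _ _ _ _ _ _ hpb G G' hG eG
      haveI : G.IsQuasicoherent := hG.1
      haveI : IsLocallyNoetherian T' :=
        Groth.Agent.Lib.Helper23.isLocallyNoetherian_of_subsingleton T'
      haveI : LocallyOfFiniteType g' :=
        MorphismProperty.of_isPullback (P := @LocallyOfFiniteType) hpb inferInstance
      haveI : IsLocallyNoetherian Y' := LocallyOfFiniteType.isLocallyNoetherian g'
      haveI : ((Scheme.Modules.pullback e).obj G).IsQuasicoherent :=
        Groth.Agent.Lib.Helper23.ConsLocusMod.isQCoh_pullback e G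
      haveI : G'.IsQuasicoherent :=
        (SheafOfModules.isQuasicoherent Y'.ringCatSheaf).prop_of_iso eG.symm inferInstance
      exact (Groth.Agent.H76.AssGen.noEmbedded_iff_of_isPullback_field g g' e h hpb G).trans
        (Groth.Agent.H76.AssGen.noEmbedded_congr eG).symm
    · intro X S u _ _ _ _ G hG
      haveI : G.IsQuasicoherent := hG.1
      by_cases hgen : AssSch.NoEmbedded
          ((Scheme.Modules.pullback (u.fiberι (genericPoint S))).obj G)
      · left
        obtain ⟨U, hU, key⟩ := Groth.Agent.H76.AssGen.generic_relNoEmb u G hG
          ((Groth.Agent.H76.AssGen.noEmbedded_fiber_iff u G _).mp hgen)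
        exact ⟨genericPoint S, mem_interior.mpr ⟨U, fun s hs =>
          (Groth.Agent.H76.AssGen.noEmbedded_fiber_iff u G s).mpr (key s hs), U.2, hU⟩⟩
      · right
        obtain ⟨U, hU, key⟩ := Groth.Agent.H76.AssGen.generic_not_relNoEmb u G hG
          (fun h => hgen ((Groth.Agent.H76.AssGen.noEmbedded_fiber_iff u G _).mpr h))
        exact ⟨genericPoint S, mem_interior.mpr ⟨U, fun s hs h =>
          key s hs ((Groth.Agent.H76.AssGen.noEmbedded_fiber_iff u G s).mp h), U.2, hU⟩⟩
  exact Groth.Agent.Lib.Helper23.ConsLocusMod.isLocallyConstructible_locusMod f F hF hP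

end Groth.Agent.S5871
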