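import Groth.Statements.S5873
import Groth.Agent.H76.AssGenFib
import Groth.Agent.Lib.Helper23.ConsLocusMod

set_option autoImplicit false
universe u
open CategoryTheory AlgebraicGeometry
open Cons9

namespace Groth.Agent.S5873

/-- Let S be an integral Noetherian scheme with generic point η, f : X ⟶ S a morphism of finite type and
F a coherent O_X-module; for s in S write F_s for the pullback of F to the scheme-theoretic fibre
X_s. For an associated point x of F_η let Z_x denote the closure in X of the image of x, and (Z_x)_s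
its trace on X_s (the preimage under X_s ⟶ X). Then there is an open neighbourhood U of η such that
for every s in U: (a) the associated points of F_s are exactly the maximal points (those admitting
no proper generization inside the set) of the sets (Z_x)_s, for x running over the associated points
of F_η, so that the associated prime cycles of F_s are the irreducible components of the (Z_x)_s;
(b) for distinct associated points x, x' of F_η the maximal points of (Z_x)_s and of (Z_x')_s are
pairwise distinct; (c) for every associated point x of F_η and every maximal point z of (Z_x)_s, the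
point z is a maximal associated point of F_s (no other associated point of F_s generizes it) if and
only if x is a maximal associated point of F_η. -/
theorem result {X S : Scheme.{u}} [IsIntegral S] [IsNoetherian S]
    (f : X ⟶ S) [LocallyOfFiniteType f] [QuasiCompact f]
    (F : X.Modules) [Coh.IsQCoh F] (hF : CohB1.IsFP F) :
    ∃ U : S.Opens, genericPoint S ∈ U ∧ ∀ s ∈ U,
      (AssSch.Ass ((Scheme.Modules.pullback (f.fiberι s)).obj F) =
          ⋃ x ∈ AssSch.Ass ((Scheme.Modules.pullback (f.fiberι (genericPoint S))).obj F),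
            {z : ↥(f.fiber s) | z ∈ ((f.fiberι s).base ⁻¹' closure {(f.fiberι (genericPoint S)).base x}) ∧ ∀ z' ∈ ((f.fiberι s).base ⁻¹' closure {(f.fiberι (genericPoint S)).base x}), z' ⤳ z → z' = z}) ∧
      (∀ x ∈ AssSch.Ass ((Scheme.Modules.pullback (f.fiberι (genericPoint S))).obj F), ∀ x' ∈ AssSch.Ass ((Scheme.Modules.pullback (f.fiberι (genericPoint S))).obj F), x ≠ x' →
          Disjoint {z : ↥(f.fiber s) | z ∈ ((f.fiberι s).base ⁻¹' closure {(f.fiberι (genericPoint S)).base x}) ∧ ∀ z' ∈ ((f.fiberι s).base ⁻¹' closure {(f.fiberι (genericPoint S)).base x}), z' ⤳ z → z' = z}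
            {z : ↥(f.fiber s) | z ∈ ((f.fiberι s).base ⁻¹' closure {(f.fiberι (genericPoint S)).base x'}) ∧ ∀ z' ∈ ((f.fiberι s).base ⁻¹' closure {(f.fiberι (genericPoint S)).base x'}), z' ⤳ z → z' = z}) ∧
      (∀ x ∈ AssSch.Ass ((Scheme.Modules.pullback (f.fiberι (genericPoint S))).obj F),
        ∀ z ∈ {z : ↥(f.fiber s) | z ∈ ((f.fiberι s).base ⁻¹' closure {(f.fiberι (genericPoint S)).base x}) ∧ ∀ z' ∈ ((f.fiberι s).base ⁻¹' closure {(f.fiberι (genericPoint S)).base x}), z' ⤳ z → z' = z},
          ((∀ y ∈ AssSch.Ass ((Scheme.Modules.pullback (f.fiberι s)).obj F), y ⤳ z → y = z) ↔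
            (∀ y ∈ AssSch.Ass ((Scheme.Modules.pullback (f.fiberι (genericPoint S))).obj F), y ⤳ x → y = x))) := by
  classical
  haveI : F.IsQuasicoherent := ‹Coh.IsQCoh F›
  have hcoh : Coh.IsCoh F :=
    ⟨‹Coh.IsQCoh F›, Groth.Agent.Lib.Helper23.ConsLocusMod.isFiniteType_of_isFP F hF⟩
  obtain ⟨U, hU, key⟩ := Groth.Agent.H76.AssGen.generic_relPkg f F hcoh
  refine ⟨U, hU, fun s hs => ?_⟩
  have hass : ∀ (t : S) (z : ↥(f.fiber t)),
      z ∈ AssSch.Ass ((Scheme.Modules.pullback (f.fiberι t)).obj F) ↔
        f.fiberι t z ∈ MoreMor.relAss f F := fun t z =>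
    Groth.Agent.Lib.Helper97.AssFibre.isAssPoint_fiber_iff_mem_relAss f F t z
  have hM := fun (x : ↥(f.fiber (genericPoint S))) (z : ↥(f.fiber s)) =>
    Groth.Agent.H76.AssGen.mem_maxPts_iff f s ((f.fiberι (genericPoint S)).base x) z
  have hpk : ∀ z : ↥(f.fiber s), Groth.Agent.H76.AssGen.RelPkg f F (f.fiberι s z) := fun z =>
    key _ (by rw [Groth.Agent.Lib.Helper97.AssFibre.apply_fiberι' f s z]; exact hs)
  have hfη := fun x : ↥(f.fiber (genericPoint S)) =>
    Groth.Agent.Lib.Helper97.AssFibre.apply_fiberι' f (genericPoint S) x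
  have hembη := (f.fiberι (genericPoint S)).isEmbedding
  have hembs := (f.fiberι s).isEmbedding
  refine ⟨?_, ?_, ?_⟩
  · ext z
    rw [hass, Set.mem_iUnion₂]
    constructor
    · intro hz
      obtain ⟨x₀, hx₀, hfx₀, hmin⟩ := (hpk z).1 hz
      obtain ⟨x, rfl⟩ := Groth.Agent.Lib.Helper97.AssFibre.exists_fiberι_eq f _ x₀ hfx₀
      exact ⟨x, (hass _ x).mpr hx₀, (hM x z).mpr hmin⟩
    · rintro ⟨x, hx, hz⟩
      exact (hpk z).2.1 _ ((hass _ x).mp hx) (hfη x) ((hM x z).mp hz)
  · intro x hx x' hx' hne
    rw [Set.disjoint_left]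
    intro z hz hz'
    have h1 := (hM x z).mp hz
    have h2 := (hM x' z).mp hz'
    have hne' : f.fiberι (genericPoint S) x ≠ f.fiberι (genericPoint S) x' := fun h =>
      hne (hembη.injective h)
    by_cases hsp : f.fiberι (genericPoint S) x' ⤳ f.fiberι (genericPoint S) x
    · have hnsp : ¬ f.fiberι (genericPoint S) x ⤳ f.fiberι (genericPoint S) x' := fun h =>
        hne' (h.antisymm hsp).eq
      exact (hpk z).2.2 _ ((hass _ x').mp hx') _ ((hass _ x).mp hx) (hfη x') (hfη x) hnsp h2 h1.1
    · exact (hpk z).2.2 _ ((hass _ x).mp hx) _ ((hass _ x').mp hx') (hfη x) (hfη x') hsp h1 h2.1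
  · intro x hx z hz
    have h1 := (hM x z).mp hz
    constructor
    · intro hzmax y hy hyx
      by_contra hne
      have hsp : f.fiberι (genericPoint S) y ⤳ f.fiberι (genericPoint S) x :=
        hembη.isInducing.specializes_iff.mpr hyx
      have hne' : f.fiberι (genericPoint S) y ≠ f.fiberι (genericPoint S) x := fun h =>
        hne (hembη.injective h)
      have hnsp : ¬ f.fiberι (genericPoint S) x ⤳ f.fiberι (genericPoint S) y := fun h =>
        hne' (hsp.antisymm h).eq
      obtain ⟨z₁, hz₁min, hz₁z, hfz₁⟩ := Groth.Agent.H76.AssGen.exists_minPt f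
        (f.fiberι (genericPoint S) y) (f.fiberι s z) (hsp.trans h1.1)
      have hfz₁' : f z₁ = s := by
        rw [hfz₁, Groth.Agent.Lib.Helper97.AssFibre.apply_fiberι' f s z]
      obtain ⟨y₁, rfl⟩ := Groth.Agent.Lib.Helper97.AssFibre.exists_fiberι_eq f s z₁ hfz₁'
      have hy₁ass : y₁ ∈ AssSch.Ass ((Scheme.Modules.pullback (f.fiberι s)).obj F) :=
        (hass s y₁).mpr ((hpk y₁).2.1 _ ((hass _ y).mp hy) (hfη y) hz₁min)
      have hy₁z : y₁ ⤳ z := hembs.isInducing.specializes_iff.mp hz₁z
      have := hzmax y₁ hy₁ass hy₁z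
      subst this
      exact (hpk y₁).2.2 _ ((hass _ y).mp hy) _ ((hass _ x).mp hx) (hfη y) (hfη x) hnsp hz₁min h1.1
    · intro hxmax y hy hyz
      obtain ⟨x₁, hx₁, hfx₁, hmin₁⟩ := (hpk y).1 ((hass s y).mp hy)
      obtain ⟨x', rfl⟩ := Groth.Agent.Lib.Helper97.AssFibre.exists_fiberι_eq f _ x₁ hfx₁
      have hx'ass := (hass _ x').mpr hx₁
      have hyz' : f.fiberι s y ⤳ f.fiberι s z := hembs.isInducing.specializes_iff.mpr hyz
      have hx'x : x' = x := by
        by_contra hne
        have hnsp : ¬ f.fiberι (genericPoint S) x' ⤳ f.fiberι (genericPoint S) x := fun h =>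
          hne (hxmax x' hx'ass (hembη.isInducing.specializes_iff.mp h))
        exact (hpk z).2.2 _ ((hass _ x).mp hx) _ hx₁ (hfη x) (hfη x') hnsp h1
          (hmin₁.1.trans hyz')
      subst hx'x
      have := h1.2 _ hmin₁.1 hyz' (by
        rw [Groth.Agent.Lib.Helper97.AssFibre.apply_fiberι' f s y,
          Groth.Agent.Lib.Helper97.AssFibre.apply_fiberι' f s z])
      exact hembs.injective this

end Groth.Agent.S5873
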