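import Groth.Statements.S5874
import Groth.Agent.H76.AssDimFib
import Groth.Agent.H76.AssDimField
import Groth.Agent.Lib.Helper23.ConsLocusMod

set_option autoImplicit false
universe u
open CategoryTheory AlgebraicGeometry
open Cons9

namespace Groth.Agent.S5874

/-- Let f : X ⟶ S be a morphism of finite presentation (locally of finite presentation, quasi-compact
and quasi-separated) and F a quasi-coherent O_X-module of finite presentation; for s in S let F_s be
the pullback of F to the scheme-theoretic fibre X_s and E(s) the finite set of dimensions of the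
associated prime cycles of F_s (closures in X_s of the associated points of F_s). Then s ↦ E(s) is a
locally constructible function on S: for every finite set Φ of natural numbers, the set of s with
E(s) = Φ is locally constructible. -/
theorem result {X S : Scheme.{u}} (f : X ⟶ S)
    [LocallyOfFinitePresentation f] [QuasiCompact f] [QuasiSeparated f]
    (F : X.Modules) [Coh.IsQCoh F] (hF : CohB1.IsFP F) (Φ : Finset ℕ) :
    Topology.IsLocallyConstructible {s : S |
      (fun z : ↥(f.fiber s) => topologicalKrullDim ↥(closure ({z} : Set ↥(f.fiber s)))) ''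
          AssSch.Ass ((Scheme.Modules.pullback (f.fiberι s)).obj F) =
        (fun n : ℕ => (n : WithBot ℕ∞)) '' (Φ : Set ℕ)} := by
  classical
  haveI : F.IsQuasicoherent := ‹Coh.IsQCoh F›
  let P : ∀ ⦃Y T : Scheme.{u}⦄, (Y ⟶ T) → Y.Modules → Prop := fun Y _ _ G =>
    (fun z : ↥Y => topologicalKrullDim ↥(closure ({z} : Set ↥Y))) '' AssSch.Ass G =
      (fun n : ℕ => (n : WithBot ℕ∞)) '' (Φ : Set ℕ)
  have hP : ConsProp.IsConsMod P := by
    refine ⟨?_, ?_⟩
    · intro Y Y' T T' g g' e h _ _ _ _ _ _ hpb G G' hG eG
      haveI : G.IsQuasicoherent := hG.1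
      haveI : IsLocallyNoetherian T' :=
        Groth.Agent.Lib.Helper23.isLocallyNoetherian_of_subsingleton T'
      haveI : LocallyOfFiniteType g' :=
        MorphismProperty.of_isPullback (P := @LocallyOfFiniteType) hpb inferInstance
      haveI : IsLocallyNoetherian Y' := LocallyOfFiniteType.isLocallyNoetherian g'
      haveI : ((Scheme.Modules.pullback e).obj G).IsQuasicoherent :=
        Groth.Agent.Lib.Helper23.ConsLocusMod.isQCoh_pullback e G
      haveI : G'.IsQuasicoherent :=
        (SheafOfModules.isQuasicoherent Y'.ringCatSheaf).prop_of_iso eG.symm inferInstance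
      have h1 := Groth.Agent.H76.AssGen.dimAss_eq_of_isPullback_field g g' e h hpb G
      have h2 : AssSch.Ass G' = AssSch.Ass ((Scheme.Modules.pullback e).obj G) := by
        ext z
        exact Groth.Agent.Lib.Helper97.AssFibre.isAssPoint_congr eG z
      show _ = _ ↔ _ = _
      rw [h2, h1]
    · intro X S u _ _ _ _ G hG
      haveI : G.IsQuasicoherent := hG.1
      obtain ⟨U, hU, key⟩ := Groth.Agent.H76.AssGen.generic_dimAss_eq u G hG
      by_cases hgen : genericPoint S ∈ ConsProp.locusMod P u G
      · left
        refine ⟨genericPoint S, mem_interior.mpr ⟨U, fun s hs => ?_, U.2, hU⟩⟩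
        show _ = _
        rw [key s hs]
        exact hgen
      · right
        refine ⟨genericPoint S, mem_interior.mpr ⟨U, fun s hs hmem => hgen ?_, U.2, hU⟩⟩
        show _ = _
        rw [← key s hs]
        exact hmem
  exact Groth.Agent.Lib.Helper23.ConsLocusMod.isLocallyConstructible_locusMod f F hF hP

end Groth.Agent.S5874
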