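import Groth.Statements.S5875
import Groth.Agent.H76.AssDimFib2
import Groth.Agent.H76.AssDimField2
import Groth.Agent.Lib.Helper80.PullbackFiniteType
import Groth.Agent.Lib.Helper23.ConsLocusMod

set_option autoImplicit false
universe u
open CategoryTheory AlgebraicGeometry
open Cons9

namespace Groth.Agent.S5875

/-- Let f : X ⟶ S be a morphism of finite presentation (locally of finite presentation, quasi-compact
and quasi-separated) and F a quasi-coherent O_X-module of finite presentation; for s in S let F_s be
the pullback of F to the scheme-theoretic fibre X_s and E'(s) the finite set of dimensions of the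
irreducible components of the support of F_s (the points of X_s where the stalk of F_s is nonzero),
i.e. of the maximal associated prime cycles of F_s. Then s ↦ E'(s) is a locally constructible
function on S: for every finite set Φ of natural numbers, the set of s with E'(s) = Φ is locally
constructible. -/
theorem result {X S : Scheme.{u}} (f : X ⟶ S)
    [LocallyOfFinitePresentation f] [QuasiCompact f] [QuasiSeparated f]
    (F : X.Modules) [Coh.IsQCoh F] (hF : CohB1.IsFP F) (Φ : Finset ℕ) :
    Topology.IsLocallyConstructible {s : S |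
      (fun Z : Set ↥(CohB1.support ((Scheme.Modules.pullback (f.fiberι s)).obj F)) => topologicalKrullDim ↥Z) ''
          irreducibleComponents ↥(CohB1.support ((Scheme.Modules.pullback (f.fiberι s)).obj F)) =
        (fun n : ℕ => (n : WithBot ℕ∞)) '' (Φ : Set ℕ)} := by
  classical
  haveI : F.IsQuasicoherent := ‹Coh.IsQCoh F›
  let P : ∀ ⦃Y T : Scheme.{u}⦄, (Y ⟶ T) → Y.Modules → Prop := fun Y _ _ G =>
    (fun Z : Set ↥(CohB1.support G) => topologicalKrullDim ↥Z) ''
        irreducibleComponents ↥(CohB1.support G) =
      (fun n : ℕ => (n : WithBot ℕ∞)) '' (Φ : Set ℕ)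
  have hP : ConsProp.IsConsMod P := by
    refine ⟨?_, ?_⟩
    · intro Y Y' T T' g g' e h _ _ _ _ _ _ hpb G G' hG eG
      haveI : G.IsQuasicoherent := hG.1
      haveI : IsLocallyNoetherian T :=
        Groth.Agent.Lib.Helper23.isLocallyNoetherian_of_subsingleton T
      haveI : IsLocallyNoetherian Y := LocallyOfFiniteType.isLocallyNoetherian g
      haveI : IsLocallyNoetherian T' :=
        Groth.Agent.Lib.Helper23.isLocallyNoetherian_of_subsingleton T'
      haveI : LocallyOfFiniteType g' :=
        MorphismProperty.of_isPullback (P := @LocallyOfFiniteType) hpb inferInstance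
      haveI : IsLocallyNoetherian Y' := LocallyOfFiniteType.isLocallyNoetherian g'
      have hGe : Coh.IsCoh ((Scheme.Modules.pullback e).obj G) :=
        Groth.Agent.Lib.Helper80.isCoh_pullback e G hG
      haveI : ((Scheme.Modules.pullback e).obj G).IsQuasicoherent := hGe.1
      have hG' : Coh.IsCoh G' :=
        ⟨Groth.Agent.Lib.Helper49.isQuasicoherent_of_iso eG.symm hGe.1,
          Groth.Agent.Lib.Helper49.isFiniteType_of_iso eG.symm hGe.2⟩
      haveI : G'.IsQuasicoherent := hG'.1
      have h1 := Groth.Agent.H76.AssGen.dimMaxAss_eq_of_isPullback_field g g' e h hpb G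
      have h2 : Groth.Agent.H76.AssGen.MaxAss G' =
          Groth.Agent.H76.AssGen.MaxAss ((Scheme.Modules.pullback e).obj G) := by
        have h3 : AssSch.Ass G' = AssSch.Ass ((Scheme.Modules.pullback e).obj G) := by
          ext z
          exact Groth.Agent.Lib.Helper97.AssFibre.isAssPoint_congr eG z
        unfold Groth.Agent.H76.AssGen.MaxAss
        rw [h3]
      show _ = _ ↔ _ = _
      rw [Groth.Agent.H76.AssGen.dims_irreducibleComponents_support G hG,
        Groth.Agent.H76.AssGen.dims_irreducibleComponents_support G' hG', h2, h1]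
    · intro X S u _ _ _ _ G hG
      haveI : G.IsQuasicoherent := hG.1
      obtain ⟨U, hU, key⟩ := Groth.Agent.H76.AssGen.generic_dimMaxAss_eq u G hG
      have hfibN : ∀ s : S, IsLocallyNoetherian (u.fiber s) := fun s =>
        Groth.Agent.Lib.Helper97.AssFibre.isLocallyNoetherian_fiber_of_locallyOfFiniteType u s
      have hcohs : ∀ s : S, Coh.IsCoh ((Scheme.Modules.pullback (u.fiberι s)).obj G) := fun s =>
        Groth.Agent.Lib.Helper80.isCoh_pullback (u.fiberι s) G hG
      have hrw : ∀ s : S, s ∈ ConsProp.locusMod P u G ↔
          (fun z : ↥(u.fiber s) => topologicalKrullDim ↥(closure ({z} : Set ↥(u.fiber s)))) ''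
            Groth.Agent.H76.AssGen.MaxAss ((Scheme.Modules.pullback (u.fiberι s)).obj G) =
          (fun n : ℕ => (n : WithBot ℕ∞)) '' (Φ : Set ℕ) := by
        intro s
        haveI := hfibN s
        show _ = _ ↔ _
        rw [Groth.Agent.H76.AssGen.dims_irreducibleComponents_support _ (hcohs s)]
      by_cases hgen : genericPoint S ∈ ConsProp.locusMod P u G
      · left
        refine ⟨genericPoint S, mem_interior.mpr ⟨U, fun s hs => ?_, U.2, hU⟩⟩
        rw [hrw, key s hs]
        exact (hrw _).mp hgen
      · right
        refine ⟨genericPoint S, mem_interior.mpr ⟨U, fun s hs hmem => hgen ?_, U.2, hU⟩⟩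
        rw [hrw, ← key s hs]
        exact (hrw _).mp hmem
  exact Groth.Agent.Lib.Helper23.ConsLocusMod.isLocallyConstructible_locusMod f F hF hP

end Groth.Agent.S5875
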