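import Groth.Statements.S5876
import Groth.Agent.Lib.Helper13.RelSpecFun

set_option autoImplicit false
universe u
open CategoryTheory CategoryTheory.Limits AlgebraicGeometry
open Lim8

namespace Groth.Agent.S5876

open RelSpec RelSpec.QCAlg Opposite TopologicalSpace
open Groth.Agent.Lib.Helper13 Groth.Agent.Lib.Helper13.RelSpecFun

section

variable {S : Scheme.{u}} {J : Type u} [SmallCategory J] [IsFiltered J] (A : J ⥤ RelSpec.QCAlg S)

/-- the inverse system of relative spectra -/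
noncomputable def E : Jᵒᵖ ⥤ Scheme.{u} where
  obj j := (A.obj j.unop).spec
  map φ := specMap (A.map φ.unop)
  map_id j := by
    rw [unop_id, A.map_id, specMap_id]
  map_comp φ ψ := by
    rw [unop_comp, A.map_comp, specMap_comp]

/-- structure maps -/
noncomputable def fj (j : Jᵒᵖ) : (E A).obj j ⟶ S := (A.obj j.unop).π

omit [IsFiltered J] in
lemma hf {j k : Jᵒᵖ} (φ : j ⟶ k) : (E A).map φ ≫ fj A k = fj A j := specMap_π _

instance (j : Jᵒᵖ) : IsAffineHom (fj A j) := inferInstanceAs (IsAffineHom (A.obj j.unop).π)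

/-- the limit -/
noncomputable abbrev L : Scheme.{u} := AffLim.L (E A) S (fj A) (hf A)
noncomputable abbrev πL : L A ⟶ S := AffLim.π (E A) S (fj A) (hf A)
noncomputable abbrev pj (j : J) : L A ⟶ (A.obj j).spec := AffLim.pj (E A) S (fj A) (hf A) (op j)

lemma pj_comp (j : J) : pj A j ≫ (A.obj j).π = πL A := AffLim.pj_comp (E A) S (fj A) (hf A) (op j)

/-- the direct image algebra of the limit -/
noncomputable abbrev B : RelSpec.QCAlg S := directImage (πL A)

/-- the coprojections -/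
noncomputable def β (j : J) : A.obj j ⟶ B A where
  hom := gammaInv (A.obj j) ≫ AffAlg.algHom (A.obj j).π (πL A) (pj A j) (pj_comp A j)
  comm := by
    rw [← Category.assoc, str_gammaInv]
    exact AffAlg.algHom_comm _ _ _ _

lemma le_preimage_pj (j : J) (U : S.Opens) :
    πL A ⁻¹ᵁ U ≤ pj A j ⁻¹ᵁ ((A.obj j).π ⁻¹ᵁ U) :=
  AffLim.le_preimage_pj (E A) S (fj A) (hf A) (op j) U

/-- `β` on affine opens -/
lemma gammaAff_β (j : J) (U : S.Opens) (hU : IsAffineOpen U) :
    (A.obj j).gammaAff U hU ≫ (β A j).hom.app (op U) =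
      (pj A j).appLE ((A.obj j).π ⁻¹ᵁ U) (πL A ⁻¹ᵁ U) (le_preimage_pj A j U) := by
  change (A.obj j).gammaAff U hU ≫ (gammaInv (A.obj j)).app (op U) ≫
    (AffAlg.algHom _ _ _ _).app (op U) = _
  rw [reassoc_of% (gammaAff_gammaInv_app (A.obj j) U hU), algHom_app_eq_appLE]

lemma FιU_ηL_inv (j : Jᵒᵖ) (U : S.Opens) (hU : IsAffineOpen U) {Z : CommRingCat.{u}}
    (n : Γ(L A, πL A ⁻¹ᵁ U) ⟶ Z) :
    AffLim.FιU (E A) S (fj A) (hf A) j ⟨U, hU⟩ ≫
      (AffLim.ηL (E A) S (fj A) (hf A) ⟨U, hU⟩).inv ≫ n =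
      (pj A j.unop).appLE ((A.obj j.unop).π ⁻¹ᵁ U) (πL A ⁻¹ᵁ U) (le_preimage_pj A j.unop U) ≫ n := by
  rw [← Category.assoc]
  congr 1
  exact (AffLim.appLE_pj (E A) S (fj A) (hf A) j ⟨U, hU⟩).symm

/-- maps out of `Γ(L, π⁻¹U)` are determined by their composites with the projections. -/
lemma appLE_pj_hom_ext (U : S.Opens) (hU : IsAffineOpen U) {Z : CommRingCat.{u}}
    (n n' : Γ(L A, πL A ⁻¹ᵁ U) ⟶ Z)
    (h : ∀ j : J, (pj A j).appLE ((A.obj j).π ⁻¹ᵁ U) (πL A ⁻¹ᵁ U) (le_preimage_pj A j U) ≫ n =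
      (pj A j).appLE ((A.obj j).π ⁻¹ᵁ U) (πL A ⁻¹ᵁ U) (le_preimage_pj A j U) ≫ n') : n = n' := by
  rw [← cancel_epi (AffLim.ηL (E A) S (fj A) (hf A) ⟨U, hU⟩).inv]
  apply AffLim.FιU_hom_ext (E A) S (fj A) (hf A) ⟨U, hU⟩
  intro j
  rw [FιU_ηL_inv, FιU_ηL_inv, h j.unop]

lemma β_jointly_epi {C : RelSpec.QCAlg S} (m m' : B A ⟶ C) (h : ∀ j, β A j ≫ m = β A j ≫ m') :
    m = m' := by
  apply QCAlg.hom_ext
  apply hom_ext_sheaf C
  intro U hU
  apply appLE_pj_hom_ext A U hU
  intro j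
  have h1 := fun (n : B A ⟶ C) =>
    congrArg (fun t => t ≫ n.hom.app (op U)) (gammaAff_β A j U hU)
  refine (h1 m).symm.trans (Eq.trans ?_ (h1 m'))
  exact (Category.assoc _ _ _).trans ((congrArg
    (fun t => (A.obj j).gammaAff U hU ≫ t.hom.app (op U)) (h j)).trans (Category.assoc _ _ _).symm)

lemma pj_w {j j' : J} (φ : j ⟶ j') : pj A j' ≫ specMap (A.map φ) = pj A j :=
  AffLim.pj_w (E A) S (fj A) (hf A) φ.op

/-- `β` is a cocone -/
lemma β_w {j j' : J} (φ : j ⟶ j') : A.map φ ≫ β A j' = β A j := by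
  apply QCAlg.hom_ext
  apply hom_ext_sheaf (B A)
  intro U hU
  have := Groth.Agent.S9380.isIso_gammaAff (A.obj j) U hU
  rw [← cancel_epi ((A.obj j).gammaAff U hU)]
  refine Eq.trans ?_ (gammaAff_β A j U hU).symm
  have h1 := appLE_specMap_gammaAff (A.map φ) U hU
  have h2 := gammaAff_β A j' U hU
  refine (Category.assoc _ _ _).symm.trans ?_
  refine (congrArg (fun t => t ≫ (β A j').hom.app (op U)) h1.symm).trans ?_
  refine (Category.assoc _ _ _).trans ?_
  refine (congrArg (fun t => (specMap (A.map φ)).appLE ((A.obj j).π ⁻¹ᵁ U) ((A.obj j').π ⁻¹ᵁ U)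
    (le_preimage_specMap (A.map φ) U) ≫ t) h2).trans ?_
  exact (Scheme.Hom.appLE_comp_appLE _ _ _ _ _ _ _).trans (AffLim.appLE_of_eq (pj_w A φ) _ _ _)

/-- the cocone `B` -/
noncomputable def Bcocone : Cocone A where
  pt := B A
  ι :=
    { app := fun j => β A j
      naturality := fun j j' φ => by
        rw [β_w A φ]
        exact (Category.comp_id _).symm }

variable (c : Cocone A)

/-- the cone of relative spectra of a cocone of algebras -/
noncomputable def tcone : Cone (E A) where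
  pt := c.pt.spec
  π :=
    { app := fun j => specMap (c.ι.app j.unop)
      naturality := fun j k φ => by
        change 𝟙 _ ≫ specMap (c.ι.app k.unop) = specMap (c.ι.app j.unop) ≫ specMap (A.map φ.unop)
        rw [Category.id_comp, ← specMap_comp, c.w] }

/-- the comparison morphism -/
noncomputable def l : c.pt.spec ⟶ L A := AffLim.lift (E A) S (fj A) (hf A) (tcone A c)

lemma l_pj (j : J) : l A c ≫ pj A j = specMap (c.ι.app j) :=
  AffLim.lift_fac (E A) S (fj A) (hf A) (tcone A c) (op j)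

lemma l_π : l A c ≫ πL A = c.pt.π := by
  obtain ⟨j⟩ := IsFiltered.nonempty (C := J)
  rw [← pj_comp A j, ← Category.assoc, l_pj, specMap_π]
  rfl

lemma l_uniq {T : Scheme.{u}} (a b : T ⟶ L A) (h : ∀ j, a ≫ pj A j = b ≫ pj A j) : a = b :=
  (AffLim.limConeIsLimit (E A) S (fj A) (hf A)).hom_ext fun j => h j.unop

/-- the map from the concrete colimit to the given cocone point -/
noncomputable def κ : B A ⟶ c.pt where
  hom := AffAlg.algHom (πL A) c.pt.π (l A c) (l_π A c) ≫ c.pt.gammaMap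
  comm := by
    rw [← Category.assoc]
    have h1 : (πL A).c ≫ AffAlg.algHom (πL A) c.pt.π (l A c) (l_π A c) = c.pt.π.c :=
      AffAlg.algHom_comm _ _ _ _
    exact (congrArg (fun t => t ≫ c.pt.gammaMap) h1).trans c.pt.π_c_gammaMap

lemma le_preimage_l (U : S.Opens) : c.pt.π ⁻¹ᵁ U ≤ l A c ⁻¹ᵁ (πL A ⁻¹ᵁ U) := by
  rw [← Scheme.Hom.comp_preimage, l_π]

lemma κ_app (U : S.Opens) (hU : IsAffineOpen U) :
    (κ A c).hom.app (op U) =
      (l A c).appLE (πL A ⁻¹ᵁ U) (c.pt.π ⁻¹ᵁ U) (le_preimage_l A c U) ≫ c.pt.gammaAff U hU := by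
  change (AffAlg.algHom _ _ _ _).app (op U) ≫ c.pt.gammaMap.app (op U) = _
  rw [algHom_app_eq_appLE, c.pt.gammaMap_app U hU]

lemma β_κ (j : J) : β A j ≫ κ A c = c.ι.app j := by
  apply QCAlg.hom_ext
  apply hom_ext_sheaf c.pt
  intro U hU
  have := Groth.Agent.S9380.isIso_gammaAff (A.obj j) U hU
  rw [← cancel_epi ((A.obj j).gammaAff U hU)]
  refine Eq.trans ?_ (appLE_specMap_gammaAff (c.ι.app j) U hU)
  refine (Category.assoc _ _ _).symm.trans ?_
  refine (congrArg (fun t => t ≫ (κ A c).hom.app (op U)) (gammaAff_β A j U hU)).trans ?_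
  refine (congrArg (fun t => (pj A j).appLE ((A.obj j).π ⁻¹ᵁ U) (πL A ⁻¹ᵁ U)
    (le_preimage_pj A j U) ≫ t) (κ_app A c U hU)).trans ?_
  refine (Category.assoc _ _ _).symm.trans ?_
  exact congrArg (fun t => t ≫ c.pt.gammaAff U hU)
    ((Scheme.Hom.appLE_comp_appLE _ _ _ _ _ _ _).trans (AffLim.appLE_of_eq (l_pj A c j) _ _ _))

variable {c} (hc : IsColimit c)

/-- the inverse of `κ` -/
noncomputable def δ : c.pt ⟶ B A := hc.desc (Bcocone A)

lemma ι_δ (j : J) : c.ι.app j ≫ δ A hc = β A j := hc.fac (Bcocone A) j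

lemma δ_κ : δ A hc ≫ κ A c = 𝟙 c.pt := by
  apply hc.hom_ext
  intro j
  rw [← Category.assoc, ι_δ, β_κ, Category.comp_id]

lemma κ_δ : κ A c ≫ δ A hc = 𝟙 (B A) := by
  apply β_jointly_epi
  intro j
  rw [← Category.assoc, β_κ, ι_δ, Category.comp_id]

include hc in
lemma isIso_l : IsIso (l A c) := by
  have h1 : IsIso (κ A c).hom :=
    ⟨⟨(δ A hc).hom, congrArg (fun t => t.hom) (κ_δ A hc), congrArg (fun t => t.hom) (δ_κ A hc)⟩⟩
  have h2 : IsIso (AffAlg.algHom (πL A) c.pt.π (l A c) (l_π A c)) := by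
    have e : AffAlg.algHom (πL A) c.pt.π (l A c) (l_π A c) = (κ A c).hom ≫ gammaInv c.pt := by
      change _ = (_ ≫ c.pt.gammaMap) ≫ gammaInv c.pt
      rw [Category.assoc, gammaMap_gammaInv, Category.comp_id]
    rw [e]
    exact IsIso.comp_isIso' h1 (isIso_gammaInv c.pt)
  exact (Groth.Agent.S3570.result (πL A) c.pt.π (l A c) (l_π A c)).mpr h2

end

/-- Let S be a scheme and (A_j) a filtered direct system of quasi-coherent O_S-algebras, indexed by a
small filtered category, with a colimit cocone with vertex A. Write S_j = Spec(A_j) and S' = Spec(A)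
for the relative spectra, and u_j : S' ⟶ S_j for the morphisms induced by the coprojections A_j ⟶ A.
Then (S', (u_j)) is a limit of the inverse system (S_j) in the category of all schemes (not only of
S-schemes): for every scheme T and every family of morphisms v_j : T ⟶ S_j compatible with the
transition morphisms, there is exactly one morphism w : T ⟶ S' whose composite with each u_j is v_j. -/
theorem result {S : Scheme.{u}} {J : Type u} [SmallCategory J] [IsFiltered J]
    (A : J ⥤ RelSpec.QCAlg S) (c : Cocone A) (hc : IsColimit c)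
    (T : Scheme.{u}) (v : ∀ j : J, T ⟶ (A.obj j).spec)
    (hv : ∀ (j j' : J) (φ : j ⟶ j'), v j' ≫ RelSpec.QCAlg.specMap (A.map φ) = v j) :
    ∃! w : T ⟶ c.pt.spec, ∀ j : J, w ≫ RelSpec.QCAlg.specMap (c.ι.app j) = v j := by
  have hl := isIso_l A hc
  let tT : Cone (E A) :=
    { pt := T
      π :=
        { app := fun j => v j.unop
          naturality := fun j k φ => by
            change 𝟙 _ ≫ v k.unop = v j.unop ≫ specMap (A.map φ.unop)
            rw [Category.id_comp, hv] } }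
  let lT : T ⟶ L A := AffLim.lift (E A) S (fj A) (hf A) tT
  have hlT : ∀ j, lT ≫ pj A j = v j :=
    fun j => AffLim.lift_fac (E A) S (fj A) (hf A) tT (op j)
  refine ⟨lT ≫ inv (l A c), ?_, ?_⟩
  · intro j
    rw [← l_pj A c j, Category.assoc, IsIso.inv_hom_id_assoc, hlT]
  · intro w hw
    rw [IsIso.eq_comp_inv]
    apply l_uniq A
    intro j
    rw [Category.assoc, l_pj, hw, hlT]

end Groth.Agent.S5876
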