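import Groth.Statements.S5913
import Mathlib

set_option autoImplicit false
universe u
open CategoryTheory AlgebraicGeometry
open EGA43

namespace Groth.Agent.S5913

section helpers

/-- A Noetherian domain, not a field, in which a fixed nonzero element lies in every nonzero prime,
is semilocal of dimension one. -/
theorem semilocal_dim_one_of_mem_all_primes (C : Type*) [CommRing C] [IsDomain C]
    [IsNoetherianRing C] (f : C) (hf : f ≠ 0)
    (h : ∀ q : Ideal C, q.IsPrime → q ≠ ⊥ → f ∈ q) (hC : ¬ IsField C) :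
    Finite (MaximalSpectrum C) ∧ ringKrullDim C = 1 := by
  have hfin : ((Ideal.span {f} : Ideal C).minimalPrimes).Finite :=
    Ideal.finite_minimalPrimes_of_isNoetherianRing C _
  have key : ∀ q : Ideal C, q.IsPrime → q ≠ ⊥ → q ∈ (Ideal.span {f} : Ideal C).minimalPrimes := by
    intro q hq hq0
    have hIq : Ideal.span {f} ≤ q := (Ideal.span_singleton_le_iff_mem _).mpr (h q hq hq0)
    obtain ⟨p', hp', hp'q⟩ := Ideal.exists_minimalPrimes_le hIq
    by_contra hqmin
    have hne : p' ≠ q := fun e => hqmin (e ▸ hp')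
    have hlt : p' < q := lt_of_le_of_ne hp'q hne
    have hnot : ¬ ((q : Set C) ⊆ ⋃ p ∈ (↑hfin.toFinset : Set (Ideal C)), (p : Set C)) := by
      rw [Ideal.subset_union_prime (f := fun p : Ideal C => p) ⊥ ⊥
        (fun i hi _ _ => (hfin.mem_toFinset.mp hi).1.1)]
      rintro ⟨p, hp, hqp⟩
      have hp := hfin.mem_toFinset.mp hp
      have : p ≤ p' := hp.2 ⟨hp'.1.1, hp'.1.2⟩ (hp'q.trans hqp)
      exact absurd (lt_of_lt_of_le hlt (hqp.trans this)) (lt_irrefl _)
    obtain ⟨g, hgq, hg⟩ := Set.not_subset.mp hnot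
    have hg' : ∀ p ∈ (Ideal.span {f} : Ideal C).minimalPrimes, g ∉ p := by
      intro p hp hgp
      apply hg
      simp only [Set.mem_iUnion]
      exact ⟨p, by simpa using hp, hgp⟩
    have hg0 : g ≠ 0 := by
      rintro rfl
      exact hg' p' hp' (zero_mem _)
    have hgq' : Ideal.span {g} ≤ q := (Ideal.span_singleton_le_iff_mem _).mpr hgq
    obtain ⟨r, hr, hrq⟩ := Ideal.exists_minimalPrimes_le hgq'
    have hrp : r.IsPrime := hr.1.1
    have hgr : g ∈ r := (Ideal.span_singleton_le_iff_mem _).mp hr.1.2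
    have hr0 : r ≠ ⊥ := fun e => hg0 (by simpa [e] using hgr)
    have hfr : Ideal.span {f} ≤ r := (Ideal.span_singleton_le_iff_mem _).mpr (h r hrp hr0)
    obtain ⟨pj, hpj, hpjr⟩ := Ideal.exists_minimalPrimes_le hfr
    have hpjp : pj.IsPrime := hpj.1.1
    have hpj0 : pj ≠ ⊥ := fun e => hf (by
      have := (Ideal.span_singleton_le_iff_mem _).mp hpj.1.2
      simpa [e] using this)
    have hht : r.height ≤ 1 := Ideal.height_le_one_of_isPrincipal_of_mem_minimalPrimes _ r hr
    have heq : pj = r := by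
      by_contra hne'
      have hlt' : pj < r := lt_of_le_of_ne hpjr hne'
      have h1 : pj.height + 1 ≤ r.height := Ideal.height_add_one_le_of_lt_of_isPrime hlt'
      have h2 : pj.height ≠ 0 := fun e => hpj0 (Ideal.height_eq_zero_iff_eq_bot.mp e)
      have h3 : 1 ≤ pj.height := Order.one_le_iff_pos.mpr (pos_iff_ne_zero.mpr h2)
      have h4 : (1 : ℕ∞) + 1 ≤ 1 := (add_le_add_left h3 1).trans (h1.trans hht)
      exact absurd h4 (by decide)
    exact hg' pj hpj (heq ▸ hgr)
  have hmax : ∀ q : Ideal C, q.IsPrime → q ≠ ⊥ → q.IsMaximal := by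
    intro q hq hq0
    obtain ⟨m, hm, hqm⟩ := Ideal.exists_le_maximal q hq.ne_top
    have hm0 : m ≠ ⊥ := fun e => hq0 (le_bot_iff.mp (e ▸ hqm))
    have hmmin := key m hm.isPrime hm0
    have hqmin := key q hq hq0
    have : m ≤ q := hmmin.2 hqmin.1 hqm
    rwa [le_antisymm hqm this]
  constructor
  · have hsub : Set.range (fun m : MaximalSpectrum C => m.asIdeal) ⊆
        (Ideal.span {f} : Ideal C).minimalPrimes := by
      rintro _ ⟨m, rfl⟩
      refine key _ m.isMaximal.isPrime ?_
      intro e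
      exact hC (Ring.isField_iff_maximal_bot.mpr (e ▸ m.isMaximal))
    have hfin' := hfin.subset hsub
    have hinj : Function.Injective (fun m : MaximalSpectrum C => m.asIdeal) :=
      fun a b hab => MaximalSpectrum.ext hab
    exact (Set.finite_range_iff hinj).mp hfin'
  · have h1 : Ring.KrullDimLE 1 C :=
      Ring.krullDimLE_one_iff_of_noZeroDivisors.mpr fun I hI hIp => hmax I hIp hI
    have hle : ringKrullDim C ≤ 1 := by
      have := Ring.krullDimLE_iff.mp h1
      exact_mod_cast this
    have hnot : ¬ ringKrullDim C ≤ 0 := fun h0 => by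
      have : Ring.KrullDimLE 0 C := Ring.krullDimLE_iff.mpr h0
      exact hC Ring.KrullDimLE.isField_of_isDomain
    exact le_antisymm hle (Order.succ_le_of_lt (lt_of_not_ge hnot))

/-- A Noetherian ring which is not Jacobson has a prime quotient which is a semilocal domain of
dimension one. -/
theorem exists_prime_quotient_semilocal (A : Type*) [CommRing A] [IsNoetherianRing A]
    (hA : ¬ IsJacobsonRing A) :
    ∃ Q : Ideal A, Q.IsPrime ∧ Finite (MaximalSpectrum (A ⧸ Q)) ∧ ringKrullDim (A ⧸ Q) = 1 := by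
  rw [isJacobsonRing_iff_prime_eq] at hA
  push Not at hA
  obtain ⟨P, hP, hPj⟩ := hA
  have hnle : ¬ P.jacobson ≤ P := fun hle => hPj (le_antisymm hle Ideal.le_jacobson)
  obtain ⟨f, hfJ, hfP⟩ := Set.not_subset.mp hnle
  let T : Set (Ideal A) := {Q | Q.IsPrime ∧ P ≤ Q ∧ f ∉ Q}
  have hT : T.Nonempty := ⟨P, hP, le_rfl, hfP⟩
  obtain ⟨(Q : Ideal A), ⟨hQp, hPQ, hfQ⟩, hQmax⟩ :=
    set_has_maximal_iff_noetherian.mpr (inferInstance : IsNoetherian A A) T hT
  refine ⟨Q, hQp, ?_⟩
  have hdom : IsDomain (A ⧸ Q) := Ideal.Quotient.isDomain Q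
  refine semilocal_dim_one_of_mem_all_primes (A ⧸ Q) (Ideal.Quotient.mk Q f) ?_ ?_ ?_
  · rwa [Ne, Ideal.Quotient.eq_zero_iff_mem]
  · intro q hq hq0
    have hcp : (q.comap (Ideal.Quotient.mk Q)).IsPrime := Ideal.comap_isPrime _ _
    have hQle : Q ≤ q.comap (Ideal.Quotient.mk Q) := by
      intro x hx
      rw [Ideal.mem_comap, Ideal.Quotient.eq_zero_iff_mem.mpr hx]
      exact zero_mem _
    have hne : Q ≠ q.comap (Ideal.Quotient.mk Q) := by
      intro e
      apply hq0
      rw [← Ideal.map_comap_of_surjective _ Ideal.Quotient.mk_surjective q, ← e,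
        Ideal.map_quotient_self]
    by_contra hfq
    exact hQmax _ ⟨hcp, hPQ.trans hQle, fun hmem => hfq hmem⟩ (lt_of_le_of_ne hQle hne)
  · intro hF
    have hQm : Ideal.IsMaximal (Q : Ideal A) := Ideal.Quotient.maximal_of_isField _ hF
    have : P.jacobson ≤ Q := sInf_le ⟨hPQ, hQm⟩
    exact hfQ (this hfJ)

end helpers

/-- In the locally Noetherian form: a locally Noetherian scheme X is Jacobson if and only if it has no
subscheme isomorphic to the spectrum of a semi-local integral domain of dimension 1, i.e. there is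
no immersion Spec R ⟶ X with R an integral domain having finitely many maximal ideals and Krull
dimension 1. -/
theorem result (X : Scheme.{u}) [IsLocallyNoetherian X] :
    JacobsonSpace X ↔
      ∀ (R : CommRingCat.{u}) [IsDomain R] (i : Spec R ⟶ X) [IsImmersion i],
        ¬ (Finite (MaximalSpectrum R) ∧ ringKrullDim R = 1) := by
  constructor
  · intro hJ R _ i _ ⟨hfin, hdim⟩
    have h1 : JacobsonSpace ↥(i.coborderRange.toScheme) :=
      .of_isOpenEmbedding i.coborderRange.ι.isOpenEmbedding
    have h2 : JacobsonSpace ↥(Spec R) :=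
      .of_isClosedEmbedding i.liftCoborder.isClosedEmbedding
    have h1' : Ring.KrullDimLE 1 R := Ring.krullDimLE_iff.mpr (by rw [hdim]; rfl)
    have hmax := Ring.krullDimLE_one_iff_of_noZeroDivisors.mp h1'
    have hfinP : Finite (PrimeSpectrum R) := by
      rw [← Set.finite_univ_iff]
      refine Set.Finite.subset
        ((Set.finite_singleton (⟨⊥, Ideal.isPrime_bot⟩ : PrimeSpectrum R)).union
          (Set.finite_range MaximalSpectrum.toPrimeSpectrum)) ?_
      intro p _
      by_cases hp : p.asIdeal = ⊥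
      · left
        exact PrimeSpectrum.ext hp
      · right
        exact ⟨⟨p.asIdeal, hmax _ hp p.isPrime⟩, rfl⟩
    have hfinS : Finite ↥(Spec R) := hfinP
    have hdisc : DiscreteTopology ↥(Spec R) := inferInstance
    have h0 := topologicalKrullDim_zero_of_discreteTopology ↥(Spec R)
    have h3 : topologicalKrullDim ↥(Spec R) = ringKrullDim R :=
      PrimeSpectrum.topologicalKrullDim_eq_ringKrullDim R
    rw [h3, hdim] at h0
    exact absurd h0 (by decide)
  · intro H
    let 𝒰 := X.affineOpenCover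
    rw [𝒰.openCover.isOpenCover_opensRange.jacobsonSpace_iff]
    intro j
    have hoi : IsOpenImmersion (𝒰.f j) := 𝒰.map_prop j
    have hN : IsNoetherianRing (𝒰.X j) := by
      rw [← isLocallyNoetherian_Spec]
      exact isLocallyNoetherian_of_isOpenImmersion (𝒰.f j)
    have hJR : IsJacobsonRing (𝒰.X j) := by
      by_contra hnJ
      obtain ⟨Q, hQ, hfin, hdim⟩ := exists_prime_quotient_semilocal (𝒰.X j) hnJ
      have hdom : IsDomain (CommRingCat.of ((𝒰.X j) ⧸ Q)) := Ideal.Quotient.isDomain Q
      have hcl : IsClosedImmersion (Spec.map (CommRingCat.ofHom (Ideal.Quotient.mk Q))) :=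
        IsClosedImmersion.spec_of_surjective _ Ideal.Quotient.mk_surjective
      exact H (CommRingCat.of ((𝒰.X j) ⧸ Q))
        (Spec.map (CommRingCat.ofHom (Ideal.Quotient.mk Q)) ≫ 𝒰.f j) ⟨hfin, hdim⟩
    have hJS : JacobsonSpace ↥(Spec (𝒰.X j)) :=
      PrimeSpectrum.isJacobsonRing_iff_jacobsonSpace.mp hJR
    let e := (𝒰.f j).isOpenEmbedding.isEmbedding.toHomeomorph
    exact .of_isClosedEmbedding e.symm.isClosedEmbedding

end Groth.Agent.S5913
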