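import Groth.Statements.S5915
import Groth.Agent.S4857
import Groth.Agent.H76.FlatBaseChangeFactor
import Groth.Agent.H76.FiniteInjTop

set_option autoImplicit false
universe u
open CategoryTheory AlgebraicGeometry
open EGA43

namespace Groth.Agent.S5915

open CategoryTheory.Limits in
/-- Let Y be locally Noetherian, f : X ⟶ Y locally of finite type, F a coherent O_X-module, x a point of
X and y = f x. Let φ : O_{Y,y} ⟶ A' be an injective ring homomorphism which is finite (A' finitely
generated as an O_{Y,y}-module), Y' = Spec A' ⟶ Y the induced Y-scheme, X' = X ×_Y Y' and F' the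
pullback of F to X'. Then F is f-flat at x if and only if F' is flat over Y' at every point of X'
lying over x and over a closed point of Y'. (The published statement treats more generally a Zariski
ring A' whose radical pulls back to the maximal ideal and whose map on completions is injective;
this row is the case of a finite algebra with injective structure map, in which those conditions
hold.) -/
theorem result {X Y : Scheme.{u}} [IsLocallyNoetherian Y]
    (f : X ⟶ Y) [LocallyOfFiniteType f] (F : X.Modules) (hF : Coh.IsCoh F) (x : X)
    (A' : CommRingCat.{u}) (φ : Y.presheaf.stalk (f.base x) ⟶ A') (hfin : φ.hom.Finite)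
    (hinj : Function.Injective φ.hom) :
    FlatMod.IsFlatOverAt f F x ↔
      ∀ x' : ↥(pullback f (Spec.map φ ≫ Y.fromSpecStalk (f.base x))), pullback.fst f (Spec.map φ ≫ Y.fromSpecStalk (f.base x)) x' = x →
        IsClosed ({pullback.snd f (Spec.map φ ≫ Y.fromSpecStalk (f.base x)) x'} : Set ↥(Spec A')) →
          FlatMod.IsFlatOverAt (pullback.snd f (Spec.map φ ≫ Y.fromSpecStalk (f.base x))) ((Scheme.Modules.pullback (pullback.fst f (Spec.map φ ≫ Y.fromSpecStalk (f.base x)))).obj F) x' := by
  classical
  haveI hqcF : F.IsQuasicoherent := hF.1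
  constructor
  · intro h x' hx' _
    exact Groth.Agent.Lib.Helper16.FlatPull.isFlatOverAt_baseChange f
      (pullback.snd f (Spec.map φ ≫ Y.fromSpecStalk (f.base x)))
      (pullback.fst f (Spec.map φ ≫ Y.fromSpecStalk (f.base x)))
      (Spec.map φ ≫ Y.fromSpecStalk (f.base x)) (IsPullback.of_hasPullback _ _) F x'
      (by rw [show (pullback.fst f (Spec.map φ ≫ Y.fromSpecStalk (f.base x))).base x' = x from hx']
          exact h)
  · intro hyp
    letI alg : Algebra (Y.presheaf.stalk (f.base x) : Type u) (A' : Type u) := φ.hom.toAlgebra
    haveI hfin' : Module.Finite (Y.presheaf.stalk (f.base x) : Type u) (A' : Type u) := hfin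
    haveI hnoe : IsNoetherianRing (Y.presheaf.stalk (f.base x) : Type u) := inferInstance
    have hinj' : Function.Injective (algebraMap (Y.presheaf.stalk (f.base x) : Type u) (A' : Type u)) :=
      hinj
    haveI hloc : ∀ m : MaximalSpectrum (A' : Type u), IsLocalHom
        ((algebraMap (A' : Type u) (Localization.AtPrime m.asIdeal)).comp φ.hom) := fun m => by
      haveI := m.isMaximal
      exact Groth.Agent.H76.FiniteInjTop.isLocalHom_comp
        (O := (Y.presheaf.stalk (f.base x) : Type u)) m.asIdeal
    have key := Groth.Agent.S4857.result f F hF x (ι := MaximalSpectrum (A' : Type u))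
      (fun m => Localization.AtPrime m.asIdeal)
      (fun m => (algebraMap (A' : Type u) (Localization.AtPrime m.asIdeal)).comp φ.hom)
      (fun N => Groth.Agent.H76.FiniteInjTop.exists_finset_iInf_comap_le hinj' N)
    beta_reduce at key
    refine key ?_
    intro m
    have hfac : Spec.map (CommRingCat.ofHom
        ((algebraMap (A' : Type u) (Localization.AtPrime m.asIdeal)).comp φ.hom)) ≫
          Y.fromSpecStalk (f x) =
        Spec.map (CommRingCat.ofHom (algebraMap (A' : Type u) (Localization.AtPrime m.asIdeal))) ≫
          (Spec.map φ ≫ Y.fromSpecStalk (f.base x)) := by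
      rw [← Category.assoc, ← Spec.map_comp]
      rfl
    rw [hfac]
    intro x' h1 h2
    refine Groth.Agent.H76.FlatBaseChangeFactor.isFlatOverAt_of_factor f
      (Spec.map φ ≫ Y.fromSpecStalk (f.base x))
      (Spec.map (CommRingCat.ofHom (algebraMap (A' : Type u) (Localization.AtPrime m.asIdeal))))
      F x' ?_
    refine hyp _ ?_ ?_
    · rw [Groth.Agent.H76.FlatBaseChangeFactor.trans_fst_apply]
      exact h1
    · have e1 : pullback.snd f (Spec.map φ ≫ Y.fromSpecStalk (f.base x))
          (Groth.Agent.H76.FlatBaseChangeFactor.trans f (Spec.map φ ≫ Y.fromSpecStalk (f.base x))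
            (Spec.map (CommRingCat.ofHom (algebraMap (A' : Type u)
              (Localization.AtPrime m.asIdeal)))) x') =
          Spec.map (CommRingCat.ofHom (algebraMap (A' : Type u) (Localization.AtPrime m.asIdeal)))
            (IsLocalRing.closedPoint (Localization.AtPrime m.asIdeal)) := by
        rw [← Scheme.Hom.comp_apply, Groth.Agent.H76.FlatBaseChangeFactor.trans_snd,
          Scheme.Hom.comp_apply, h2]
      rw [e1]
      have e2 : (Spec.map (CommRingCat.ofHom (algebraMap (A' : Type u)
          (Localization.AtPrime m.asIdeal)))) (IsLocalRing.closedPoint (Localization.AtPrime m.asIdeal)) =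
          (⟨m.asIdeal, m.isMaximal.isPrime⟩ : PrimeSpectrum (A' : Type u)) := by
        refine PrimeSpectrum.ext ?_
        exact Localization.AtPrime.under_maximalIdeal (I := m.asIdeal)
      rw [e2]
      exact (PrimeSpectrum.isClosed_singleton_iff_isMaximal _).mpr m.isMaximal

end Groth.Agent.S5915
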