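import Groth.Statements.S5917
import Groth.Agent.Lib.Helper19.QuasiHomeo

set_option autoImplicit false
universe u
open CategoryTheory
open EGA43

namespace Groth.Agent.S5917

/-- (a) ⇔ (c): for a continuous map f : X₀ ⟶ X of topological spaces the following are equivalent: U ↦
f⁻¹(U) is a bijection from the open subsets of X onto those of X₀ (that is, f is a
quasi-homeomorphism); the inverse image functor f^* from sheaves of sets on X to sheaves of sets on
X₀ is an equivalence of categories; the inverse image functor f^* from sheaves of abelian groups on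
X to sheaves of abelian groups on X₀ is an equivalence of categories. (Sheaves are taken with values
in sets, resp. abelian groups, of the universe of the two spaces.) -/
theorem result (X₀ X : TopCat.{u}) (f : X₀ ⟶ X) :
    [Function.Bijective (fun U : TopologicalSpace.Opens X => (TopologicalSpace.Opens.map f).obj U),
      (TopCat.Sheaf.pullback (Type u) f).IsEquivalence,
      (TopCat.Sheaf.pullback AddCommGrpCat.{u} f).IsEquivalence].TFAE := by
  have hType : ∀ (Y : TopCat.{u}) (W : TopologicalSpace.Opens Y), ∃ H : Y.Sheaf (Type u),
      Nonempty (Groth.Agent.Helper19.QuasiHomeo.TestSheaf W H) := fun Y W =>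
    ⟨_, ⟨Groth.Agent.Helper19.QuasiHomeo.testSheafType W⟩⟩
  have hAb : ∀ (Y : TopCat.{u}) (W : TopologicalSpace.Opens Y), ∃ H : Y.Sheaf AddCommGrpCat.{u},
      Nonempty (Groth.Agent.Helper19.QuasiHomeo.TestSheaf W H) := fun Y W =>
    ⟨_, ⟨Groth.Agent.Helper19.QuasiHomeo.testSheafAb W⟩⟩
  tfae_have 1 → 2 := by
    intro hf
    have := Groth.Agent.Helper19.QuasiHomeo.pushforward_isEquivalence f hf (Type u)
    exact (TopCat.Sheaf.pullbackPushforwardAdjunction (Type u) f).isEquivalence_left_of_isEquivalence_right
  tfae_have 1 → 3 := by
    intro hf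
    have := Groth.Agent.Helper19.QuasiHomeo.pushforward_isEquivalence f hf AddCommGrpCat.{u}
    exact (TopCat.Sheaf.pullbackPushforwardAdjunction AddCommGrpCat.{u} f).isEquivalence_left_of_isEquivalence_right
  tfae_have 2 → 1 := by
    intro h
    exact ⟨Groth.Agent.Helper19.QuasiHomeo.injective_of_isEquivalence f hType,
      Groth.Agent.Helper19.QuasiHomeo.surjective_of_isEquivalence f hType⟩
  tfae_have 3 → 1 := by
    intro h
    exact ⟨Groth.Agent.Helper19.QuasiHomeo.injective_of_isEquivalence f hAb,
      Groth.Agent.Helper19.QuasiHomeo.surjective_of_isEquivalence f hAb⟩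
  tfae_finish

end Groth.Agent.S5917
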