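import Groth.Statements.S5918
import Groth.Agent.S4856
import Groth.Agent.H76.FlatBaseChangeFactor

set_option autoImplicit false
universe u
open CategoryTheory AlgebraicGeometry
open EGA43

namespace Groth.Agent.S5918

open CategoryTheory.Limits in
/-- Let A be an Artinian local ring, f : X ⟶ Spec A locally of finite type, F a coherent O_X-module and
x a point of X. Let (g_i : Y_i ⟶ Spec A) be a family of A-schemes such that an element of A whose
image in every Γ(Y_i, O_{Y_i}) is zero is itself zero. If, for every i, the pullback of F to X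
×_{Spec A} Y_i is flat over Y_i at every point lying over x, then F is f-flat at x. -/
theorem result {A : Type u} [CommRing A]
    [IsArtinianRing A] [IsLocalRing A] {X : Scheme.{u}} (f : X ⟶ Spec (CommRingCat.of A))
    [LocallyOfFiniteType f] (F : X.Modules) (hF : Coh.IsCoh F) (x : X)
    {ι : Type u} (Y : ι → Scheme.{u}) (g : ∀ i, Y i ⟶ Spec (CommRingCat.of A))
    (hg : ∀ a : A, (∀ i, (g i).appTop ((Scheme.ΓSpecIso (CommRingCat.of A)).inv a) = 0) → a = 0)
    (hflat : ∀ (i : ι) (x' : ↥(pullback f (g i))), pullback.fst f (g i) x' = x →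
      FlatMod.IsFlatOverAt (pullback.snd f (g i)) ((Scheme.Modules.pullback (pullback.fst f (g i))).obj F) x') :
    FlatMod.IsFlatOverAt f F x := by
  classical
  haveI hqcF : F.IsQuasicoherent := hF.1
  -- the family of local rings: all stalks of all `Y i`
  let J : Type u := Σ i, ↥(Y i)
  let h : ∀ p : J, Spec ((Y p.1).presheaf.stalk p.2) ⟶ Spec (CommRingCat.of A) :=
    fun p => (Y p.1).fromSpecStalk p.2 ≫ g p.1
  let uu : ∀ p : J, A →+* ((Y p.1).presheaf.stalk p.2 : Type u) :=
    fun p => (Spec.preimage (h p)).hom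
  have huu : ∀ p : J, Spec.map (CommRingCat.ofHom (uu p)) = h p := fun p => by
    show Spec.map (CommRingCat.ofHom (Spec.preimage (h p)).hom) = h p
    rw [CommRingCat.ofHom_hom, Spec.map_preimage]
  have hpre : ∀ {R' S' : CommRingCat.{u}} (k : Spec S' ⟶ Spec R'),
      Spec.preimage k = (Scheme.ΓSpecIso R').inv ≫ k.appTop ≫ (Scheme.ΓSpecIso S').hom := by
    intro R' S' k
    obtain ⟨ψ, rfl⟩ := Spec.map_surjective k
    rw [Spec.preimage_map, Scheme.ΓSpecIso_naturality, Iso.inv_hom_id_assoc]
  have hval : ∀ (p : J) (a : A), uu p a =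
      (Y p.1).presheaf.germ ⊤ p.2 trivial ((g p.1).appTop ((Scheme.ΓSpecIso (CommRingCat.of A)).inv a)) := by
    intro p a
    show (Spec.preimage (h p)).hom a = _
    rw [hpre]
    simp only [h, Scheme.Hom.comp_appTop, Scheme.fromSpecStalk_appTop, Category.assoc]
    simp
  refine Groth.Agent.S4856.result f F hF x (ι := J)
    (fun p => ((Y p.1).presheaf.stalk p.2 : Type u)) uu ?_ ?_
  · intro a ha
    refine hg a fun i => ?_
    refine TopCat.Presheaf.section_ext (Y i).sheaf ⊤ _ _ fun y hy => ?_
    have := ha ⟨i, y⟩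
    rw [hval] at this
    exact this.trans (map_zero _).symm
  · intro p
    rw [huu p]
    intro x' h1 _
    refine Groth.Agent.H76.FlatBaseChangeFactor.isFlatOverAt_of_factor f (g p.1)
      ((Y p.1).fromSpecStalk p.2) F x' ?_
    refine hflat p.1 _ ?_
    rw [Groth.Agent.H76.FlatBaseChangeFactor.trans_fst_apply]
    exact h1

end Groth.Agent.S5918
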