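import Groth.Statements.S5924
-- import your own Groth.Agent.* helpers here
import Groth.Agent.Lib.Helper55.ZeroLocusEquidim

set_option autoImplicit false
open CategoryTheory AlgebraicGeometry
universe u
open EGA43

namespace Groth.Agent.S5924

/-- Membership in a basic open set, read in an affine chart. -/
theorem mem_basicOpen_iff_chart {X : Scheme.{u}} {U : X.Opens} (hU : IsAffineOpen U)
    (g : Γ(X, U)) (x : X) (hx : x ∈ U) :
    x ∈ X.basicOpen g ↔ g ∉ (hU.primeIdealOf ⟨x, hx⟩).asIdeal := by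
  have h := hU.fromSpec_preimage_basicOpen g
  have h1 : hU.primeIdealOf ⟨x, hx⟩ ∈ (hU.fromSpec ⁻¹ᵁ X.basicOpen g) ↔
      hU.primeIdealOf ⟨x, hx⟩ ∈ PrimeSpectrum.basicOpen g := by
    rw [h]
    exact Iff.rfl
  have h2 : hU.fromSpec (hU.primeIdealOf ⟨x, hx⟩) ∈ X.basicOpen g ↔
      hU.primeIdealOf ⟨x, hx⟩ ∈ PrimeSpectrum.basicOpen g := h1
  rw [hU.fromSpec_primeIdealOf] at h2
  exact h2.trans (PrimeSpectrum.mem_basicOpen g _)

/-- Let Y be an irreducible locally Noetherian scheme, f : X ⟶ Y a morphism locally of finite type which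
is equidimensional at the point x, and suppose that x is not a maximal point of its fibre f⁻¹(f x),
i.e. some point of the fibre other than x specializes to x. Then there exist an affine open
neighbourhood U of x and a section g of O_X over U such that g vanishes at x (x is not in the basic
open set of g) while every maximal point of f⁻¹(f x) lying in U is in the basic open set of g. -/
theorem result {X Y : Scheme.{u}} [IrreducibleSpace Y]
    [IsLocallyNoetherian Y] (f : X ⟶ Y) [LocallyOfFiniteType f] (x : X) (hf : EGA43.IsEquidimAt f x)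
    (hx : ∃ x' : X, f.base x' = f.base x ∧ x' ≠ x ∧ x ∈ closure ({x'} : Set X)) :
    ∃ U : X.Opens, IsAffineOpen U ∧ x ∈ U ∧ ∃ g : Γ(X, U), x ∉ X.basicOpen g ∧
      ∀ z : X, f.base z = f.base x → (∀ z' : X, f.base z' = f.base x → z ∈ closure ({z'} : Set X) → z' = z) →
        z ∈ U → z ∈ X.basicOpen g := by
  classical
  have hX : IsLocallyNoetherian X := LocallyOfFiniteType.isLocallyNoetherian f
  obtain ⟨V, hV, hyV, -⟩ := exists_isAffineOpen_mem_and_subset (x := f x) (U := ⊤) trivial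
  obtain ⟨U, hU, hxU, e⟩ := exists_isAffineOpen_mem_and_subset (x := x) (U := f ⁻¹ᵁ V) hyV
  have hN : IsNoetherianRing Γ(X, U) := IsLocallyNoetherian.component_noetherian ⟨U, hU⟩
  set I : Ideal Γ(X, U) := (hV.primeIdealOf ⟨f x, e hxU⟩).asIdeal.map (f.appLE V U e).hom with hI
  have hMfin : {P : Ideal Γ(X, U) | P ∈ I.minimalPrimes ∧
      ¬ (hU.primeIdealOf ⟨x, hxU⟩).asIdeal ≤ P}.Finite :=
    (I.finite_minimalPrimes_of_isNoetherianRing).subset (fun P hP => hP.1)
  have hnot : ¬ ∃ P ∈ hMfin.toFinset, (hU.primeIdealOf ⟨x, hxU⟩).asIdeal ≤ P := by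
    rintro ⟨P, hP, hle⟩
    exact (hMfin.mem_toFinset.mp hP).2 hle
  rw [← Ideal.subset_union_prime (f := fun P : Ideal Γ(X, U) => P) ⊥ ⊥
    (fun P hP _ _ => (hMfin.mem_toFinset.mp hP).1.1.1)] at hnot
  rw [Set.not_subset] at hnot
  obtain ⟨g, hgx, hgu⟩ := hnot
  refine ⟨U, hU, hxU, g, ?_, ?_⟩
  · rw [mem_basicOpen_iff_chart hU g x hxU, not_not]
    exact hgx
  · intro z hfz hzmax hzU
    rw [mem_basicOpen_iff_chart hU g z hzU]
    intro hgz
    apply hgu
    simp only [Set.mem_iUnion]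
    refine ⟨(hU.primeIdealOf ⟨z, hzU⟩).asIdeal, Finset.mem_coe.mpr (hMfin.mem_toFinset.mpr ⟨?_, ?_⟩),
      hgz⟩
    · -- minimal over `I`
      have hcz := Lib.Helper55.primeIdealOf_comap f e z hzU hU hV
      have hqq : (hV.primeIdealOf ⟨f z, e hzU⟩).asIdeal = (hV.primeIdealOf ⟨f x, e hxU⟩).asIdeal := by
        congr 2
        exact Subtype.ext hfz
      refine ⟨⟨(hU.primeIdealOf ⟨z, hzU⟩).2, ?_⟩, ?_⟩
      · rw [hI, Ideal.map_le_iff_le_comap, ← hcz, hqq]
      · rintro P' ⟨hP'p, hIP'⟩ hP'z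
        obtain ⟨z', hz'U, hz'P'⟩ := Lib.Helper55.exists_primeIdealOf_eq hU ⟨P', hP'p⟩
        have hz'P'' : (hU.primeIdealOf ⟨z', hz'U⟩).asIdeal = P' :=
          congrArg PrimeSpectrum.asIdeal hz'P'
        have hz'z : z' ⤳ z := by
          rw [← Lib.Helper55.primeIdealOf_le_iff_specializes hU z' z hz'U hzU, hz'P'']
          exact hP'z
        have hcz' := Lib.Helper55.primeIdealOf_comap f e z' hz'U hU hV
        have h1 : (hV.primeIdealOf ⟨f x, e hxU⟩).asIdeal ≤
            (hV.primeIdealOf ⟨f z', e hz'U⟩).asIdeal := by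
          rw [hcz', hz'P'', ← Ideal.map_le_iff_le_comap]
          exact hIP'
        have h2 : (hV.primeIdealOf ⟨f z', e hz'U⟩).asIdeal ≤
            (hV.primeIdealOf ⟨f x, e hxU⟩).asIdeal := by
          rw [← hqq, hcz', hcz, hz'P'']
          exact Ideal.comap_mono hP'z
        have hfz' : f z' = f x :=
          Lib.Helper55.primeIdealOf_injective hV (f z') (f x) (e hz'U) (e hxU)
            (PrimeSpectrum.ext (le_antisymm h2 h1))
        have hz'eq : z' = z := hzmax z' hfz' (specializes_iff_mem_closure.mp hz'z)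
        rw [← hz'P'']
        exact ((Lib.Helper55.primeIdealOf_le_iff_specializes hU z z' hzU hz'U).mpr
          (hz'eq ▸ specializes_rfl))
    · intro hle
      have hxz : x ⤳ z := (Lib.Helper55.primeIdealOf_le_iff_specializes hU x z hxU hzU).mp hle
      have hxeq : x = z := hzmax x rfl (specializes_iff_mem_closure.mp hxz)
      obtain ⟨x', hfx', hne, hxx'⟩ := hx
      have hx'z : x' = z := hzmax x' hfx' (hxeq ▸ hxx')
      exact hne (hx'z.trans hxeq.symm)

end Groth.Agent.S5924
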