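import Groth.Statements.S5925
-- import your own Groth.Agent.* helpers here
import Groth.Agent.Lib.Helper55.ZeroLocusEquidim

set_option autoImplicit false
open CategoryTheory AlgebraicGeometry
universe u
open EGA43

namespace Groth.Agent.S5925

/-- Let Y be an irreducible locally Noetherian scheme, f : X ⟶ Y a morphism locally of finite type which
is equidimensional at the point x, y = f x and e = dim_x(f⁻¹(y)). Let g be a global section of O_X
vanishing at x whose zero set X' contains no maximal point of f⁻¹(y). Then X', with its reduced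
closed subscheme structure, is equidimensional over Y at x; dim_x(X' ∩ f⁻¹(y)) = e − 1; and every
irreducible component of X' containing x has codimension 1 in X, i.e. the local ring of X at its
generic point has Krull dimension 1. (Stated for a global section; the published statement takes g
on an affine open neighbourhood of x, to which this applies after restriction, and its codimension
assertion codim(X', X) = 1 is read for the components of X' through x: a component of the zero set
not passing through x can be a whole irreducible component of X disjoint from the fibre, of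
codimension 0.) -/
theorem result {X Y : Scheme.{u}} [IrreducibleSpace Y]
    [IsLocallyNoetherian Y] (f : X ⟶ Y) [LocallyOfFiniteType f] (x : X) (hf : EGA43.IsEquidimAt f x)
    (g : Γ(X, ⊤)) (hgx : x ∈ X.zeroLocus ({g} : Set Γ(X, ⊤)))
    (hmax : ∀ z : X, f.base z = f.base x → (∀ z' : X, f.base z' = f.base x → z ∈ closure ({z'} : Set X) → z' = z) →
      z ∉ X.zeroLocus ({g} : Set Γ(X, ⊤))) :
    (∀ w : ↥(Scheme.IdealSheafData.vanishingIdeal ⟨X.zeroLocus ({g} : Set Γ(X, ⊤)), X.zeroLocus_isClosed _⟩).subscheme,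
        (Scheme.IdealSheafData.vanishingIdeal ⟨X.zeroLocus ({g} : Set Γ(X, ⊤)), X.zeroLocus_isClosed _⟩).subschemeι.base w = x →
        EGA43.IsEquidimAt ((Scheme.IdealSheafData.vanishingIdeal ⟨X.zeroLocus ({g} : Set Γ(X, ⊤)), X.zeroLocus_isClosed _⟩).subschemeι ≫ f) w) ∧
      FlatMor.localDim ↥(X.zeroLocus ({g} : Set Γ(X, ⊤)) ∩ f.base ⁻¹' {f.base x}) ⟨x, ⟨hgx, rfl⟩⟩ + 1 = FlatMor.fibreDimAt f x ∧
      ∀ Z ∈ irreducibleComponents ↥(X.zeroLocus ({g} : Set Γ(X, ⊤))), (⟨x, hgx⟩ : ↥(X.zeroLocus ({g} : Set Γ(X, ⊤)))) ∈ Z →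
        ∀ ξ : ↥(X.zeroLocus ({g} : Set Γ(X, ⊤))), closure ({ξ} : Set ↥(X.zeroLocus ({g} : Set Γ(X, ⊤)))) = Z →
          ringKrullDim (X.presheaf.stalk (ξ : X)) = 1 := by
  have hX : IsLocallyNoetherian X := LocallyOfFiniteType.isLocallyNoetherian f
  set C : TopologicalSpace.Closeds X :=
    ⟨X.zeroLocus ({g} : Set Γ(X, ⊤)), X.zeroLocus_isClosed _⟩ with hC
  have hr : Set.range (Scheme.IdealSheafData.vanishingIdeal C).subschemeι =
      X.zeroLocus ({g} : Set Γ(X, ⊤)) := by
    rw [Scheme.IdealSheafData.range_subschemeι, Scheme.IdealSheafData.coe_support_vanishingIdeal]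
    rfl
  have hinj : Function.Injective (Scheme.IdealSheafData.vanishingIdeal C).subschemeι :=
    (Scheme.IdealSheafData.vanishingIdeal C).subschemeι.isEmbedding.injective
  have spec_iff : ∀ a b : ↥(Scheme.IdealSheafData.vanishingIdeal C).subscheme,
      a ⤳ b ↔ (Scheme.IdealSheafData.vanishingIdeal C).subschemeι a ⤳
        (Scheme.IdealSheafData.vanishingIdeal C).subschemeι b := fun a b =>
    ((Scheme.IdealSheafData.vanishingIdeal C).subschemeι.isEmbedding.isInducing.specializes_iff).symm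
  have hval : ∀ a b : ↥(X.zeroLocus ({g} : Set Γ(X, ⊤))), a ⤳ b ↔ (a : X) ⤳ (b : X) :=
    fun a b => (Topology.IsInducing.subtypeVal.specializes_iff).symm
  have hxr : x ∈ Set.range (Scheme.IdealSheafData.vanishingIdeal C).subschemeι := by
    rw [hr]; exact hgx
  obtain ⟨w, hw⟩ := hxr
  subst hw
  have hcodim : ∀ ξ : ↥(Scheme.IdealSheafData.vanishingIdeal C).subscheme,
      (∀ ζ : ↥(Scheme.IdealSheafData.vanishingIdeal C).subscheme, ζ ⤳ ξ → ξ ⤳ ζ) → ξ ⤳ w →
      ringKrullDim (X.presheaf.stalk ((Scheme.IdealSheafData.vanishingIdeal C).subschemeι ξ)) ≤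
        ((1 : ℕ) : WithBot ℕ∞) := by
    intro ξ hξmax _
    have h1 := Lib.Helper55.ringKrullDim_stalk_le_one_of_maximal_mem_zeroLocus g
      ((Scheme.IdealSheafData.vanishingIdeal C).subschemeι ξ) (by rw [← hr]; exact ⟨ξ, rfl⟩) ?_
    · exact_mod_cast h1
    · intro ζ hζ hζξ
      rw [← hr] at hζ
      obtain ⟨ζ', rfl⟩ := hζ
      exact (spec_iff ξ ζ').mp (hξmax ζ' ((spec_iff ζ' ξ).mpr hζξ))
  have hdim : FlatMor.fibreDimAt ((Scheme.IdealSheafData.vanishingIdeal C).subschemeι ≫ f) w +
      ((1 : ℕ) : WithBot ℕ∞) ≤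
      FlatMor.fibreDimAt f ((Scheme.IdealSheafData.vanishingIdeal C).subschemeι w) := by
    have h1 := Lib.Helper55.fibreDimAt_comp_add_one_le f
      (Scheme.IdealSheafData.vanishingIdeal C).subschemeι w ?_
    · exact_mod_cast h1
    · intro z hz hzmax hzr
      rw [hr] at hzr
      refine hmax z hz ?_ hzr
      intro z' hz' hcl
      exact hzmax z' hz' (specializes_iff_mem_closure.mpr hcl)
  obtain ⟨hc1, hd1, heq⟩ := Lib.Helper55.equidim_sub' f
    (Scheme.IdealSheafData.vanishingIdeal C).subschemeι w hf 1 hcodim hdim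
  refine ⟨?_, ?_, ?_⟩
  · intro w' hw'
    have hww : w' = w := hinj hw'
    rw [hww]
    exact heq
  · have hL := Lib.Helper55.fibreDimAt_preimmersion_comp_eq f
      (Scheme.IdealSheafData.vanishingIdeal C).subschemeι w
    have hset : Set.range (Scheme.IdealSheafData.vanishingIdeal C).subschemeι ∩
        f ⁻¹' {f ((Scheme.IdealSheafData.vanishingIdeal C).subschemeι w)} =
        X.zeroLocus ({g} : Set Γ(X, ⊤)) ∩
          f.base ⁻¹' {f.base ((Scheme.IdealSheafData.vanishingIdeal C).subschemeι w)} := by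
      rw [hr]
    rw [Lib.Helper55.localDim_congr_set hset _ _ ⟨hgx, rfl⟩] at hL
    rw [← hL]
    exact_mod_cast hd1
  · intro Z hZ hxZ ξ hξ
    have hξmaxC : ∀ z : ↥(X.zeroLocus ({g} : Set Γ(X, ⊤))), z ⤳ ξ → ξ ⤳ z :=
      Lib.Helper55.specializes_of_closure_mem_irreducibleComponents ξ (by rw [hξ]; exact hZ)
    have hξx : ξ ⤳ ⟨(Scheme.IdealSheafData.vanishingIdeal C).subschemeι w, hgx⟩ := by
      rw [specializes_iff_mem_closure, hξ]
      exact hxZ
    have hξr : (ξ : X) ∈ Set.range (Scheme.IdealSheafData.vanishingIdeal C).subschemeι := by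
      rw [hr]; exact ξ.2
    obtain ⟨ξ', hξ'⟩ := hξr
    have h1 := hc1 ξ' ?_ ?_
    · rw [hξ'] at h1
      exact_mod_cast h1
    · intro ζ hζ
      have hζC : (Scheme.IdealSheafData.vanishingIdeal C).subschemeι ζ ∈
          X.zeroLocus ({g} : Set Γ(X, ⊤)) := by
        rw [← hr]; exact ⟨ζ, rfl⟩
      have h2 : (⟨(Scheme.IdealSheafData.vanishingIdeal C).subschemeι ζ, hζC⟩ :
          ↥(X.zeroLocus ({g} : Set Γ(X, ⊤)))) ⤳ ξ := by
        rw [hval]
        change (Scheme.IdealSheafData.vanishingIdeal C).subschemeι ζ ⤳ (ξ : X)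
        rw [← hξ']
        exact (spec_iff ζ ξ').mp hζ
      have h3 := (hval _ _).mp (hξmaxC _ h2)
      change (ξ : X) ⤳ (Scheme.IdealSheafData.vanishingIdeal C).subschemeι ζ at h3
      rw [← hξ'] at h3
      exact (spec_iff ξ' ζ).mpr h3
    · rw [spec_iff, hξ']
      exact (hval _ _).mp hξx

end Groth.Agent.S5925
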