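import Groth.Statements.S5926
-- import your own Groth.Agent.* helpers here
import Groth.Agent.Lib.Helper55.SectionCompUO
import Groth.Agent.S2561

set_option autoImplicit false
open CategoryTheory AlgebraicGeometry
universe u
open EGA43

namespace Groth.Agent.S5926

/-- Let Y be a reduced locally Noetherian scheme, f : X ⟶ Y a morphism locally of finite type with a
section g : Y ⟶ X, X_y^0 the connected component of f⁻¹(y) containing g y, and suppose every X_y^0
is geometrically irreducible over κ(y) (its preimage in the base change of X_y to any field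
extension K of κ(y) is irreducible). Let x₀ be a point of X lying in X_{y₀}^0, y₀ = f x₀. If y ↦ dim
X_y^0 is constant on a neighbourhood of y₀ and the fibre f⁻¹(y₀) is geometrically reduced at x₀,
then f is flat at x₀. -/
theorem result {X Y : Scheme.{u}} [IsLocallyNoetherian Y]
    [IsReduced Y] (f : X ⟶ Y) [LocallyOfFiniteType f] (g : Y ⟶ X) (hg : g ≫ f = 𝟙 Y)
    (hirr : ∀ y : Y, (∀ (K : Type u) [Field K] [Algebra (IsLocalRing.ResidueField (Y.presheaf.stalk y)) K],
        IsIrreducible ((FBase.bcπ (f.fiberToSpecResidueField y) K ≫ f.fiberι y).base ⁻¹' connectedComponentIn (f.base ⁻¹' {y}) (g.base y))))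
    (x₀ : X) (hx₀ : x₀ ∈ MoreMor.sectionComponents f g)
    (hconst : (∃ V ∈ nhds (f.base x₀), ∀ z ∈ V, topologicalKrullDim ↥(connectedComponentIn (f.base ⁻¹' {z}) (g.base z)) = topologicalKrullDim ↥(connectedComponentIn (f.base ⁻¹' {(f.base x₀)}) (g.base (f.base x₀)))))
    (hred : FBase.IsGeomReducedAt (f.fiberToSpecResidueField (f.base x₀)) (f.asFiber x₀)) :
    (f.stalkMap x₀).hom.Flat := by
  have : LocallyOfFinitePresentation f :=
    Groth.Agent.Lib.Helper55.SectionCompUO.lfp_of_lft_of_isLocallyNoetherian f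
  have hUO := Groth.Agent.Lib.Helper55.SectionCompUO.isUnivOpenAt_of_dim_const f g hg
    (fun y K _ _ => hirr y K) (f.base x₀) hconst
  refine Groth.Agent.S2561.result f x₀ ?_ hred inferInstance
  intro z hz _
  apply hUO
  -- `z` generizes `x₀` inside the fibre, hence lies in the same connected component
  have hzx : (f.fiberι (f.base x₀)).base z ⤳ x₀ := by
    have h1 : z ⤳ f.asFiber x₀ := specializes_iff_mem_closure.mpr hz
    have h2 := h1.map (f.fiberι (f.base x₀)).continuous
    rwa [f.fiberι_asFiber] at h2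
  have hzf : (f.fiberι (f.base x₀)).base z ∈ f.base ⁻¹' {f.base x₀} := by
    rw [← f.range_fiberι]; exact ⟨z, rfl⟩
  -- the closure of `z` in the fibre is connected and contains `x₀`
  have hconn : _root_.IsPreconnected (closure {(f.fiberι (f.base x₀)).base z} ∩ f.base ⁻¹' {f.base x₀}) := by
    have hirr' : IsPreirreducible
        (closure {(f.fiberι (f.base x₀)).base z} ∩ f.base ⁻¹' {f.base x₀}) := by
      rintro U V hU hV ⟨s, hs, hsU⟩ ⟨t, ht, htV⟩
      have hwU := (specializes_iff_mem_closure.mpr hs.1).mem_open hU hsU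
      have hwV := (specializes_iff_mem_closure.mpr ht.1).mem_open hV htV
      exact ⟨_, ⟨subset_closure rfl, hzf⟩, hwU, hwV⟩
    exact hirr'.isPreconnected
  have hx₀mem : x₀ ∈ closure {(f.fiberι (f.base x₀)).base z} ∩ f.base ⁻¹' {f.base x₀} :=
    ⟨specializes_iff_mem_closure.mp hzx, rfl⟩
  have hx₀C : x₀ ∈ connectedComponentIn (f.base ⁻¹' {f.base x₀}) (g.base (f.base x₀)) := hx₀
  have hCC : connectedComponentIn (f.base ⁻¹' {f.base x₀}) (g.base (f.base x₀)) =
      connectedComponentIn (f.base ⁻¹' {f.base x₀}) x₀ :=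
    connectedComponentIn_eq hx₀C
  rw [hCC]
  exact hconn.subset_connectedComponentIn hx₀mem Set.inter_subset_right
    ⟨subset_closure rfl, hzf⟩

end Groth.Agent.S5926
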