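import Groth.Statements.S5934
import Groth.Agent.S2156
import Groth.Agent.Lib.Helper14.SmoothFibre

set_option autoImplicit false
open CategoryTheory AlgebraicGeometry
universe u
open EGA43

namespace Groth.Agent.S5934

/-- Let f : X ⟶ Y be a proper, flat morphism of finite presentation. The set of points y of Y whose
fibre X_y is geometrically regular, i.e. smooth over the residue field κ(y), is open in Y. -/
theorem result {X Y : Scheme.{u}} (f : X ⟶ Y) [IsProper f] [Flat f]
    [LocallyOfFinitePresentation f] :
    IsOpen {y : Y | Smooth (f.fiberToSpecResidueField y)} := by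
  have hcl : IsClosed (f.base '' ((f.smoothLocus : Set X)ᶜ)) :=
    f.isClosedMap _ f.smoothLocus.isOpen.isClosed_compl
  have heq : {y : Y | Smooth (f.fiberToSpecResidueField y)} =
      (f.base '' ((f.smoothLocus : Set X)ᶜ))ᶜ := by
    ext y
    simp only [Set.mem_ofPred_eq, Set.mem_compl_iff, Set.mem_image, not_exists, not_and]
    constructor
    · intro hsm x hx hxy
      subst hxy
      apply hx
      have h1 : (f.fiberToSpecResidueField (f.base x)).smoothLocus = ⊤ :=
        Scheme.Hom.smoothLocus_eq_top _
      rw [SetLike.mem_coe, Groth.Agent.S2156.result f x]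
      refine ⟨Flat.stalkMap f x, ?_⟩
      rw [h1]
      trivial
    · intro h
      have hlfp : LocallyOfFinitePresentation (f.fiberToSpecResidueField y) :=
        inferInstanceAs (LocallyOfFinitePresentation
          (Limits.pullback.snd f (Y.fromSpecResidueField y)))
      rw [← Scheme.Hom.smoothLocus_eq_top_iff, eq_top_iff]
      intro x' _
      have H : IsPullback (f.fiberι y) (f.fiberToSpecResidueField y) f
          (Y.fromSpecResidueField y) := (IsPullback.of_hasPullback _ _)
      refine Groth.Agent.Lib.Helper14.mem_smoothLocus_of_isPullback H x' ?_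
      by_contra hnot
      have hmem : f.fiberι y x' ∈ f.base ⁻¹' {y} := by
        rw [← f.range_fiberι y]; exact ⟨x', rfl⟩
      exact h _ hnot hmem
  rw [heq]
  exact hcl.isOpen_compl

end Groth.Agent.S5934
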