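import Groth.Statements.S5937
-- import your own Groth.Agent.* helpers here
import Groth.Agent.Lib.Helper51.OmegaUniv.Structure
import Groth.Agent.Lib.Helper13.OmegaZero

set_option autoImplicit false
universe u
open CategoryTheory CategoryTheory.Limits AlgebraicGeometry
open Unram17

namespace Groth.Agent.S5937

/-- Take a morphism of schemes f : X ⟶ Y and an O_X-module Ω' equipped with a universal Y-derivation d :
O_X → Ω' (so that Ω' is a sheaf of differentials of X over Y). Then f is formally unramified if and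
only if Ω' is a zero object of the category of O_X-modules. -/
theorem result {X Y : Scheme.{u}} (f : X ⟶ Y)
    (Ω' : X.Modules) (d : OmegaSh.Der f Ω') (hd : OmegaSh.IsUniversal d) :
    FormallyUnramified f ↔ IsZero Ω' := by
  open Groth.Agent.Lib.Helper13.OmegaZero Groth.Agent.Lib.Helper51.OmegaUniv in
  constructor
  · intro hf
    apply isZero_of_forall_exists_isZero_pullback
    intro x
    obtain ⟨_, ⟨V, hV, rfl⟩, hxV, -⟩ := Y.isBasis_affineOpens.exists_subset_of_mem_open
      (Set.mem_univ (f x)) isOpen_univ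
    obtain ⟨_, ⟨U, hU, rfl⟩, hxU, hUV⟩ := X.isBasis_affineOpens.exists_subset_of_mem_open
      (show x ∈ (f ⁻¹ᵁ V : Set X) from hxV) (f ⁻¹ᵁ V).2
    refine ⟨_, hU.fromSpec, inferInstance, ?_, ?_⟩
    · rw [hU.opensRange_fromSpec]; exact hxU
    · let _ := (f.appLE V U hUV).hom.toAlgebra
      obtain ⟨e, -⟩ := exists_restrict_iso_tilde f hd hU hV hUV
      refine IsZero.of_iso ?_
        (((Scheme.Modules.restrictFunctorIsoPullback hU.fromSpec).app Ω').symm ≪≫ e)
      rw [isZero_tilde_iff]
      have h1 : Algebra.FormallyUnramified Γ(Y, V) Γ(X, U) :=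
        hf.formallyUnramified_appLE hV hU hUV
      exact (h1.subsingleton_kaehlerDifferential : Subsingleton Ω[Γ(X, U)⁄Γ(Y, V)])
  · intro hz
    refine ⟨fun {V} hV {U} hU hUV => ?_⟩
    let _ := (f.appLE V U hUV).hom.toAlgebra
    obtain ⟨e, -⟩ := exists_restrict_iso_tilde f hd hU hV hUV
    have h1 : IsZero (Ω'.restrict hU.fromSpec) :=
      (Scheme.Modules.restrictFunctor hU.fromSpec).map_isZero hz
    have h2 : Subsingleton Ω[Γ(X, U)⁄Γ(Y, V)] := (isZero_tilde_iff _).mp (h1.of_iso e.symm)
    exact ⟨h2⟩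

end Groth.Agent.S5937
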