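import Groth.Statements.S5941
import Groth.Agent.H46.LimSmooth2

set_option autoImplicit false
universe u
open CategoryTheory AlgebraicGeometry
open Unram17

namespace Groth.Agent.S5941

open Groth.Agent.Lib.Helper13.LimDescent in
set_option backward.isDefEq.respectTransparency false in
/-- Let S = lim S_i be a cofiltered limit of schemes with affine transition maps, let X₀ and Y₀ be
schemes locally of finite presentation over a stage S_{i₀}, f₀ : X₀ ⟶ Y₀ an S_{i₀}-morphism, and f :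
X ⟶ Y the base change of f₀ along S ⟶ S_{i₀} (base changes are expressed by pullback squares).
Assume X₀ quasi-compact. Then f is etale if and only if, for some index j over i₀, the base change
f_j : X_j ⟶ Y_j of f₀ along S_j ⟶ S_{i₀} is etale. This is the case of etale morphisms. -/
theorem result {I : Type u} [SmallCategory I] [IsCofiltered I]
    (D : I ⥤ Scheme.{u}) (c : Limits.Cone D) (hc : Limits.IsLimit c)
    [∀ (i j : I) (f : i ⟶ j), IsAffineHom (D.map f)] (i₀ : I)
    {X₀ Y₀ : Scheme.{u}} (f₀ : X₀ ⟶ Y₀) (g₀ : Y₀ ⟶ D.obj i₀)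
    [LocallyOfFinitePresentation g₀] [LocallyOfFinitePresentation (f₀ ≫ g₀)]
    [CompactSpace ↥X₀]
    {X Y : Scheme.{u}} (f : X ⟶ Y) (g : Y ⟶ c.pt) (qY : Y ⟶ Y₀) (qX : X ⟶ X₀)
    (hY : IsPullback qY g g₀ (c.π.app i₀)) (hX : IsPullback qX f f₀ qY) :
    Etale f ↔
      ∃ (j : I) (φ : j ⟶ i₀) (Xj Yj : Scheme.{u}) (fj : Xj ⟶ Yj) (gj : Yj ⟶ D.obj j) (pY : Yj ⟶ Y₀)
        (pX : Xj ⟶ X₀), IsPullback pY gj g₀ (D.map φ) ∧ IsPullback pX fj f₀ pY ∧ Etale fj := by
  have inst : ∀ {i j : I} (f : i ⟶ j), IsAffineHom (D.map f) := fun f => inferInstance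
  have hlfp : LocallyOfFinitePresentation f₀ :=
    locallyOfFinitePresentation_of_comp f₀ g₀ inferInstance inferInstance
  constructor
  · intro hf
    refine twoStep D c i₀ f₀ g₀ f g qY qX hY hX @Etale hf ?_
    intro f₀' hf₀' hP
    have : LocallyOfFinitePresentation f₀' := by
      rw [hf₀']
      exact (liftTop_prop_iff D i₀ f₀ g₀ @LocallyOfFinitePresentation).mpr hlfp
    exact Groth.Agent.H46.LimSmooth.exists_etale_pullback_fst' (sys D i₀ g₀) (sysCone D c i₀ g₀)
      (top i₀) f₀' (isLimitSysCone D c i₀ g₀ hc) hP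
  · rintro ⟨j, φ, Xj, Yj, fj, gj, pY, pX, h1, h2, hfj⟩
    let yj : Y ⟶ Yj := h1.lift qY (g ≫ c.π.app j) (by
      rw [hY.w, ← c.w φ, Category.assoc])
    have hyj : yj ≫ pY = qY := h1.lift_fst _ _ _
    let r : X ⟶ Xj := h2.lift qX (f ≫ yj) (by rw [hX.w, Category.assoc, hyj])
    have hr : r ≫ pX = qX := h2.lift_fst _ _ _
    have hr' : r ≫ fj = f ≫ yj := h2.lift_snd _ _ _
    have hbig : IsPullback (r ≫ pX) f f₀ (yj ≫ pY) := by rw [hr, hyj]; exact hX
    have hsq : IsPullback r f fj yj := IsPullback.of_right hbig hr' h2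
    exact MorphismProperty.of_isPullback (P := @Etale) hsq hfj

end Groth.Agent.S5941
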