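import Groth.Statements.S5942
import Mathlib
import Groth.Agent.Lib.Helper24.UnramifiedLimit

set_option autoImplicit false
universe u
open CategoryTheory AlgebraicGeometry
open Unram17

namespace Groth.Agent.S5942

open Groth.Agent.Lib.Helper13.LimDescent Groth.Agent.Lib.Helper24 in
set_option backward.isDefEq.respectTransparency false in
theorem forward {I : Type u} [SmallCategory I] [IsCofiltered I]
    (D : I ⥤ Scheme.{u}) (c : Limits.Cone D) (hc : Limits.IsLimit c)
    [∀ (i j : I) (f : i ⟶ j), IsAffineHom (D.map f)] (i₀ : I)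
    {X₀ Y₀ : Scheme.{u}} (f₀ : X₀ ⟶ Y₀) (g₀ : Y₀ ⟶ D.obj i₀)
    [LocallyOfFiniteType f₀] [CompactSpace ↥X₀]
    {X Y : Scheme.{u}} (f : X ⟶ Y) (g : Y ⟶ c.pt) (qY : Y ⟶ Y₀) (qX : X ⟶ X₀)
    (hY : IsPullback qY g g₀ (c.π.app i₀)) (hX : IsPullback qX f f₀ qY)
    (hf : FormallyUnramified f) :
      ∃ (j : I) (φ : j ⟶ i₀) (Xj Yj : Scheme.{u}) (fj : Xj ⟶ Yj) (gj : Yj ⟶ D.obj j) (pY : Yj ⟶ Y₀)
        (pX : Xj ⟶ X₀), IsPullback pY gj g₀ (D.map φ) ∧ IsPullback pX fj f₀ pY ∧ FormallyUnramified fj := by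
  have inst : ∀ {i j : I} (f : i ⟶ j), IsAffineHom (D.map f) := fun f => inferInstance
  refine twoStep D c i₀ f₀ g₀ f g qY qX hY hX @FormallyUnramified hf ?_
  intro f₀' hf₀' hP
  have : LocallyOfFiniteType f₀' := by
    have : LocallyOfFiniteType (f₀' ≫ Limits.pullback.snd (D.map (𝟙 i₀)) g₀) := by
      rw [hf₀', liftTop_snd]; infer_instance
    exact locallyOfFiniteType_of_comp f₀' (Limits.pullback.snd (D.map (𝟙 i₀)) g₀)
  exact exists_formallyUnramified_pullback_fst (sys D i₀ g₀) (sysCone D c i₀ g₀) (top i₀)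
    (isLimitSysCone D c i₀ g₀ hc) f₀' hP

/-- Let S = lim S_i be a cofiltered limit of schemes with affine transition maps, let X₀ and Y₀ be
schemes locally of finite presentation over a stage S_{i₀}, f₀ : X₀ ⟶ Y₀ an S_{i₀}-morphism, and f :
X ⟶ Y the base change of f₀ along S ⟶ S_{i₀} (base changes are expressed by pullback squares).
Assume X₀ quasi-compact. Then f is formally unramified if and only if, for some index j over i₀, the
base change f_j : X_j ⟶ Y_j of f₀ along S_j ⟶ S_{i₀} is formally unramified (f and every f_j are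
locally of finite presentation, being morphisms between schemes locally of finite presentation over
a common base, so formally unramified means unramified here). This is the case of unramified
morphisms. -/
theorem result {I : Type u} [SmallCategory I] [IsCofiltered I]
    (D : I ⥤ Scheme.{u}) (c : Limits.Cone D) (hc : Limits.IsLimit c)
    [∀ (i j : I) (f : i ⟶ j), IsAffineHom (D.map f)] (i₀ : I)
    {X₀ Y₀ : Scheme.{u}} (f₀ : X₀ ⟶ Y₀) (g₀ : Y₀ ⟶ D.obj i₀)
    [LocallyOfFinitePresentation g₀] [LocallyOfFinitePresentation (f₀ ≫ g₀)]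
    [CompactSpace ↥X₀]
    {X Y : Scheme.{u}} (f : X ⟶ Y) (g : Y ⟶ c.pt) (qY : Y ⟶ Y₀) (qX : X ⟶ X₀)
    (hY : IsPullback qY g g₀ (c.π.app i₀)) (hX : IsPullback qX f f₀ qY) :
    FormallyUnramified f ↔
      ∃ (j : I) (φ : j ⟶ i₀) (Xj Yj : Scheme.{u}) (fj : Xj ⟶ Yj) (gj : Yj ⟶ D.obj j) (pY : Yj ⟶ Y₀)
        (pX : Xj ⟶ X₀), IsPullback pY gj g₀ (D.map φ) ∧ IsPullback pX fj f₀ pY ∧ FormallyUnramified fj := by
  open Groth.Agent.Lib.Helper24 in
  have hlft : LocallyOfFiniteType f₀ := by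
    have : LocallyOfFiniteType (f₀ ≫ g₀) := inferInstance
    exact locallyOfFiniteType_of_comp f₀ g₀
  constructor
  · exact forward D c hc i₀ f₀ g₀ f g qY qX hY hX
  · rintro ⟨j, φ, Xj, Yj, fj, gj, pY, pX, h1, h2, hfj⟩
    refine HasRingHomProperty.of_stalkMap RingHom.FormallyUnramified.ofLocalizationPrime
      fun x => ?_
    rw [formallyUnramified_stalkMap_iff_of_isPullback hX x]
    let yj : Y ⟶ Yj := h1.lift qY (g ≫ c.π.app j) (by
      rw [hY.w, ← c.w φ, Category.assoc])
    let r : X ⟶ Xj := h2.lift qX (f ≫ yj) (by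
      rw [hX.w, Category.assoc, h1.lift_fst])
    have hr : r ≫ pX = qX := h2.lift_fst _ _ _
    have hx : pX (r x) = qX x := by rw [← Scheme.Hom.comp_apply, hr]
    rw [← hx, ← formallyUnramified_stalkMap_iff_of_isPullback h2 (r x)]
    exact FormallyUnramified.stalkMap fj (r x)

end Groth.Agent.S5942
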