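import Groth.Statements.S5947
import Groth.Agent.Lib.Helper18.TildeDerExt

set_option autoImplicit false
universe u
open CategoryTheory AlgebraicGeometry TopologicalSpace
open Nrm16

namespace Groth.Agent.S5947

/-- Let A be a commutative ring, B an A-algebra and L a B-module; put S = Spec A, X = Spec B and let F
be the O_X-module associated with L. For an S-derivation D of O_X into F write Γ(D) : B → L for its
effect on global sections (global sections of O_X and of F being identified with B and L by the
canonical isomorphisms). Then D ↦ Γ(D) is a bijection from the set of S-derivations of O_X into F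
onto the set of A-derivations of B into L: every Γ(D) is an A-derivation, and every A-derivation of
B into L is Γ(D) for exactly one D. (The published statement asserts an isomorphism of B-modules; no
module structure is placed on sheaf derivations here, so this row states the bijection.) -/
theorem result (A B : Type u) [CommRing A] [CommRing B] [Algebra A B]
    (L : Type u) [AddCommGroup L] [Module B L] [Module A L] [IsScalarTower A B L] :
    (∀ D : OmegaSh.Der (Spec.map (CommRingCat.ofHom (algebraMap A B))) (tilde (ModuleCat.of (CommRingCat.of B) L)),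
      ∃ δ : Derivation A B L, ∀ t : B, D.app ⊤ ((Scheme.ΓSpecIso (CommRingCat.of B)).inv t) =
        (tilde.isoTop (ModuleCat.of (CommRingCat.of B) L)).hom (δ t)) ∧
    ∀ δ : Derivation A B L,
      ∃! D : OmegaSh.Der (Spec.map (CommRingCat.ofHom (algebraMap A B))) (tilde (ModuleCat.of (CommRingCat.of B) L)),
        ∀ t : B, D.app ⊤ ((Scheme.ΓSpecIso (CommRingCat.of B)).inv t) =
          (tilde.isoTop (ModuleCat.of (CommRingCat.of B) L)).hom (δ t) := by
  classical
  constructor
  · intro D
    have hK2 : ∀ a : A, D.app ⊤ ((Scheme.ΓSpecIso (CommRingCat.of B)).inv (algebraMap A B a)) = 0 :=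
      fun a => Groth.Agent.Lib.Helper18.TildeDerExt.der_app_top_base
        (CommRingCat.ofHom (algebraMap A B)) D a
    let ι : Γ(tilde (ModuleCat.of (CommRingCat.of B) L), ⊤) →+ L :=
      { toFun := fun s => (tilde.isoTop (ModuleCat.of (CommRingCat.of B) L)).inv.hom s
        map_zero' := map_zero (tilde.isoTop (ModuleCat.of (CommRingCat.of B) L)).inv.hom
        map_add' := fun x y =>
          map_add (tilde.isoTop (ModuleCat.of (CommRingCat.of B) L)).inv.hom x y }
    let d0 : B →+ L :=
      { toFun := fun t => ι (D.app ⊤ ((Scheme.ΓSpecIso (CommRingCat.of B)).inv t))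
        map_zero' := by rw [map_zero, map_zero, map_zero]
        map_add' := fun x y => by rw [map_add, map_add, map_add] }
    have hd0 : ∀ t, d0 t = ι (D.app ⊤ ((Scheme.ΓSpecIso (CommRingCat.of B)).inv t)) := fun _ => rfl
    have hsm : ∀ (c : B) (s : Γ(tilde (ModuleCat.of (CommRingCat.of B) L), ⊤)),
        ι (((Scheme.ΓSpecIso (CommRingCat.of B)).inv c) • s) = c • ι s := by
      intro c s
      exact (tilde.isoTop (ModuleCat.of (CommRingCat.of B) L)).inv.hom.map_smul c s
    have hleib : ∀ a b : B, d0 (a * b) = a • d0 b + b • d0 a := by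
      intro a b
      rw [hd0, hd0, hd0, map_mul, Groth.Agent.Lib.Helper51.OmegaUniv.der_app_mul, map_add,
        hsm, hsm]
    have hbase : ∀ a : A, d0 (algebraMap A B a) = 0 := by
      intro a
      rw [hd0, hK2, map_zero]
    refine ⟨Derivation.mk'
      { toFun := d0
        map_add' := d0.map_add
        map_smul' := fun a t => by
          rw [Algebra.smul_def, hleib, hbase, smul_zero, add_zero, algebraMap_smul]
          rfl } hleib, ?_⟩
    intro t
    change _ = (tilde.isoTop (ModuleCat.of (CommRingCat.of B) L)).hom.hom (d0 t)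
    rw [hd0]
    change _ = (tilde.isoTop (ModuleCat.of (CommRingCat.of B) L)).hom.hom
      ((tilde.isoTop (ModuleCat.of (CommRingCat.of B) L)).inv.hom
        (D.app ⊤ ((Scheme.ΓSpecIso (CommRingCat.of B)).inv t)))
    exact (congrArg (fun k => k.hom (D.app ⊤ ((Scheme.ΓSpecIso (CommRingCat.of B)).inv t)))
      (tilde.isoTop (ModuleCat.of (CommRingCat.of B) L)).inv_hom_id).symm
  · intro δ
    let AD : Groth.Agent.Lib.Helper51.OmegaUniv.AlgDer (CommRingCat.ofHom (algebraMap A B))
        (ModuleCat.of (CommRingCat.of B) L) :=
      { d := (δ : B →ₗ[A] L).toAddMonoidHom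
        d_mul := fun a b => δ.leibniz a b
        d_map := fun r => δ.map_algebraMap r }
    have hAD : ∀ t : B, AD.tildeDer.app ⊤ ((Scheme.ΓSpecIso (CommRingCat.of B)).inv t) =
        (tilde.isoTop (ModuleCat.of (CommRingCat.of B) L)).hom (δ t) := by
      intro t
      rw [← Groth.Agent.Lib.Helper18.TildeDerExt.algebraMap_top]
      exact AD.tildeDer_app_algebraMap' ⊤ t
    refine ⟨AD.tildeDer, hAD, ?_⟩
    intro D' hD'
    apply Groth.Agent.Lib.Helper18.TildeDerExt.der_ext_of_top
    intro x
    rw [hD', hAD]

end Groth.Agent.S5947
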