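import Groth.Statements.S5961
import Groth.Agent.Lib.Helper18.PPOrderOne
import Groth.Agent.Lib.Helper18.ModHomMk

set_option autoImplicit false
universe u
open CategoryTheory CategoryTheory.Limits AlgebraicGeometry TopologicalSpace Opposite
open Nrm16

namespace Groth.Agent.S5961

/-- Let f : X ⟶ S be a morphism of schemes, G an O_X-module and D : O_X ⟶ G a differential operator of
order at most 1 relative to S. Then D can be written in exactly one way as v + d with v : O_X ⟶ G an
O_X-linear map and d an S-derivation of O_X into G. -/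
theorem result {X S : Scheme.{u}} (f : X ⟶ S) (G : X.Modules)
    (D : (Coh.structureModule X).presheaf ⟶ G.presheaf)
    (hD : PrinPart.IsDiffOpLE f (Coh.structureModule X) G 1 D) :
    ∃! p : (Coh.structureModule X ⟶ G) × OmegaSh.Der f G,
      ∀ (U : X.Opens) (a : Γ(X, U)),
        D.app (op U) (OmegaSh.strSect X U a) = p.1.app U (OmegaSh.strSect X U a) + p.2.app U a := by
  classical
  obtain ⟨u, hu⟩ := hD
  -- the Leibniz identity and base-linearity for `D`
  have hL : ∀ (U : X.Opens) (a b : Γ(X, U)),
      D.app (op U) (OmegaSh.strSect X U (a * b)) = a • D.app (op U) (OmegaSh.strSect X U b) +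
        b • D.app (op U) (OmegaSh.strSect X U a) - (a * b) • D.app (op U) (OmegaSh.strSect X U 1) := by
    intro U a b
    have h1 := Groth.Agent.Lib.Helper18.PPOrderOne.app_dP_mul f u U a b (OmegaSh.strSect X U 1)
    rw [← hu, ← hu, ← hu, ← hu] at h1
    have e1 : ∀ c : Γ(X, U), c • OmegaSh.strSect X U 1 = OmegaSh.strSect X U c := by
      intro c
      have := (OmegaSh.strSect_mul U c 1).symm
      rwa [mul_one] at this
    rw [e1, e1, e1] at h1
    exact h1
  have hB : ∀ (V : S.Opens) (s : Γ(S, V)),
      D.app (op (f ⁻¹ᵁ V)) (OmegaSh.strSect X (f ⁻¹ᵁ V) ((f.app V).hom s)) =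
        (f.app V).hom s • D.app (op (f ⁻¹ᵁ V)) (OmegaSh.strSect X (f ⁻¹ᵁ V) 1) := by
    intro V s
    have h1 := Groth.Agent.Lib.Helper18.PPOrderOne.app_dP_base f 1 u (f ⁻¹ᵁ V) V le_rfl s
      (OmegaSh.strSect X (f ⁻¹ᵁ V) 1)
    rw [← hu, ← hu, Scheme.Hom.appLE_eq_app] at h1
    have e1 : (f.app V).hom s • OmegaSh.strSect X (f ⁻¹ᵁ V) 1 =
        OmegaSh.strSect X (f ⁻¹ᵁ V) ((f.app V).hom s) := by
      have := (OmegaSh.strSect_mul (f ⁻¹ᵁ V) ((f.app V).hom s) 1).symm
      rwa [mul_one] at this
    rw [e1] at h1
    exact h1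
  -- the value at `1`
  set e : ∀ U : X.Opens, Γ(G, U) := fun U => D.app (op U) (OmegaSh.strSect X U 1) with he
  have he_res : ∀ {U V : X.Opens} (h : V ≤ U),
      G.presheaf.map (homOfLE h).op (e U) = e V := by
    intro U V h
    have h1 := D.naturality (homOfLE h).op
    have h2 := congrArg (fun k => k.hom (OmegaSh.strSect X U 1)) h1
    change D.app (op V) ((Coh.structureModule X).presheaf.map (homOfLE h).op
      (OmegaSh.strSect X U 1)) = G.presheaf.map (homOfLE h).op (e U) at h2
    rw [← h2, ← OmegaSh.strSect_map, map_one]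
  -- the linear part `v`
  let v : Coh.structureModule X ⟶ G :=
    Groth.Agent.Lib.Helper18.ModHomMk.mkHom (Coh.structureModule X) G
      (fun U => (LinearMap.toSpanSingleton Γ(X, U) Γ(G, U) (e U)).toAddMonoidHom.comp
        (OmegaSh.fnSect X U))
      (fun {U V} h s => by
        change G.presheaf.map (homOfLE h).op ((OmegaSh.fnSect X U s) • e U) =
          (OmegaSh.fnSect X V ((Coh.structureModule X).presheaf.map (homOfLE h).op s)) • e V
        rw [← he_res h]
        exact Scheme.Modules.map_smul G (homOfLE h) _ _)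
      (fun U r s => by
        change (OmegaSh.fnSect X U (r • s)) • e U = r • ((OmegaSh.fnSect X U s) • e U)
        rw [← mul_smul]
        rfl)
  have hv : ∀ (U : X.Opens) (a : Γ(X, U)), v.app U (OmegaSh.strSect X U a) = a • e U :=
    fun U a => rfl
  -- the derivation `d`
  let d : OmegaSh.Der f G :=
    { d := fun {U} => ((D.app U).hom.comp (OmegaSh.strSect X U.unop)) -
        (LinearMap.toSpanSingleton Γ(X, U.unop) Γ(G, U.unop) (e U.unop)).toAddMonoidHom
      d_mul := fun {U} a b => by
        obtain ⟨U⟩ := U
        change D.app (op U) (OmegaSh.strSect X U (a * b)) - (a * b) • e U =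
          a • (D.app (op U) (OmegaSh.strSect X U b) - b • e U) +
          b • (D.app (op U) (OmegaSh.strSect X U a) - a • e U)
        rw [hL, smul_sub, smul_sub, ← mul_smul, ← mul_smul, mul_comm b a]
        abel
      d_map := fun {U V} g x => by
        obtain ⟨U⟩ := U
        obtain ⟨V⟩ := V
        have hle : V ≤ U := g.unop.le
        have eg : g = (homOfLE hle).op := rfl
        subst eg
        change D.app (op V) (OmegaSh.strSect X V (X.presheaf.map (homOfLE hle).op x)) -
          (X.presheaf.map (homOfLE hle).op x) • e V =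
          G.presheaf.map (homOfLE hle).op (D.app (op U) (OmegaSh.strSect X U x) - x • e U)
        rw [map_sub, ← he_res hle]
        have h1 := D.naturality (homOfLE hle).op
        have h2 := congrArg (fun k => k.hom (OmegaSh.strSect X U x)) h1
        change D.app (op V) ((Coh.structureModule X).presheaf.map (homOfLE hle).op
          (OmegaSh.strSect X U x)) = G.presheaf.map (homOfLE hle).op
            (D.app (op U) (OmegaSh.strSect X U x)) at h2
        rw [OmegaSh.strSect_map, h2]
        congr 1
        exact (Scheme.Modules.map_smul G (homOfLE hle) _ _).symm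
      d_app := fun {V} s => by
        obtain ⟨V⟩ := V
        change D.app (op (f ⁻¹ᵁ V)) (OmegaSh.strSect X (f ⁻¹ᵁ V) ((f.app V).hom s)) -
          ((f.app V).hom s) • e (f ⁻¹ᵁ V) = 0
        rw [hB, sub_self] }
  have hd : ∀ (U : X.Opens) (a : Γ(X, U)),
      d.app U a = D.app (op U) (OmegaSh.strSect X U a) - a • e U := fun U a => rfl
  refine ⟨(v, d), ?_, ?_⟩
  · intro U a
    change _ = v.app U (OmegaSh.strSect X U a) + d.app U a
    rw [hv, hd]
    abel
  · rintro ⟨v', d'⟩ h
    have h' : ∀ (U : X.Opens) (a : Γ(X, U)),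
        D.app (op U) (OmegaSh.strSect X U a) = v'.app U (OmegaSh.strSect X U a) + d'.app U a := h
    have h1 : ∀ U : X.Opens, v'.app U (OmegaSh.strSect X U 1) = e U := by
      intro U
      have h2 := h' U 1
      have h3 : d'.app U 1 = 0 := PresheafOfModules.Derivation.d_one d' (op U)
      rw [h3, add_zero] at h2
      exact h2.symm
    have hv' : v' = v := by
      apply Scheme.Modules.hom_ext
      intro U
      ext t0
      obtain ⟨t, rfl⟩ : ∃ t : Γ(X, U), OmegaSh.strSect X U t = t0 := ⟨OmegaSh.fnSect X U t0, rfl⟩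
      change v'.app U (OmegaSh.strSect X U t) = v.app U (OmegaSh.strSect X U t)
      rw [hv, ← h1]
      have h4 : OmegaSh.strSect X U t = t • OmegaSh.strSect X U 1 := by
        have := OmegaSh.strSect_mul U t 1
        rwa [mul_one] at this
      rw [h4]
      exact Scheme.Modules.Hom.app_smul v' t _
    have hd' : d' = d := by
      apply PresheafOfModules.Derivation.ext
      funext U
      ext a
      obtain ⟨U⟩ := U
      change d'.app U a = d.app U a
      have h5 := h' U a
      rw [hd, h5, hv', hv]
      abel
    rw [hv', hd']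

end Groth.Agent.S5961
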