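import Mathlib
import Groth.Statements.S5966
import Groth.Agent.Lib.Helper49.PushHomeo

set_option autoImplicit false
universe u
open CategoryTheory CategoryTheory.Limits AlgebraicGeometry TopologicalSpace Opposite
open Nrm16

namespace Groth.Agent.S5966

/-- Let f : X ⟶ S be a morphism of schemes and n a natural number. The functor F ↦ P^n_{X/S}(F),
pullback along the second projection of the n-th infinitesimal neighbourhood of the diagonal
followed by pushforward along the first, from O_X-modules to O_X-modules, commutes with all small
colimits (in particular it is right exact). -/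
theorem result {X S : Scheme.{u}} (f : X ⟶ S) (n : ℕ) :
    PreservesColimitsOfSize.{u, u}
      ((Scheme.Modules.pullback (PrinPart.pr2 f n)) ⋙ (Scheme.Modules.pushforward (PrinPart.pr1 f n))) := by
  constructor
  intro K _
  have h1 : PreservesColimitsOfShape K (Scheme.Modules.pushforward (PrinPart.pr1 f n)) :=
    Groth.Agent.Lib.Helper49.PushHomeo.preservesColimitsOfShape_pushforward_of_section
      (PrinPart.pr1 f n) (PrinPart.toNbhd f n) (PrinPart.toNbhd_pr1 f n)
      (PrinPart.toInfNbhd_surjective (PrinPart.diagCl f) n) K
  have h2 : PreservesColimitsOfShape K (Scheme.Modules.pullback (PrinPart.pr2 f n)) :=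
    (Scheme.Modules.pullbackPushforwardAdjunction
      (PrinPart.pr2 f n)).leftAdjoint_preservesColimits.preservesColimitsOfShape
  infer_instance

end Groth.Agent.S5966
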