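import Mathlib
import Groth.Statements.S5968
import Groth.Agent.Lib.Helper49.SectionIntegral
import Groth.Agent.Lib.Helper49.PushforwardFinite
import Groth.Agent.Lib.Helper11.SupportTensor

set_option autoImplicit false
universe u
open CategoryTheory CategoryTheory.Limits AlgebraicGeometry TopologicalSpace Opposite
open Nrm16

namespace Groth.Agent.S5968

/-- Consider a morphism f : X ⟶ S that is locally of finite type, fix a natural number n, and suppose F
is an O_X-module which is quasi-coherent and of finite type. Regarded as an O_X-module through its
left structure, the sheaf of principal parts P^n_{X/S}(F) is again quasi-coherent and of finite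
type. (The published result covers both O_X-module structures on P^n_{X/S}(F); here only the left
one is treated, since that is the structure the sheaf of principal parts is given in this
formalization.) -/
theorem result {X S : Scheme.{u}} (f : X ⟶ S) [LocallyOfFiniteType f] (n : ℕ)
    (F : X.Modules) (hF : Coh.IsCoh F) :
    Coh.IsCoh (PrinPart.PMod f n F) := by
  obtain ⟨hq, hft⟩ := hF
  have : F.IsQuasicoherent := hq
  have h1 : ((Scheme.Modules.pullback (PrinPart.pr2 f n)).obj F).IsQuasicoherent :=
    Groth.Agent.Lib.Helper16.FlatPull.isQuasicoherent_pullback (PrinPart.pr2 f n) F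
  have h2 : SheafOfModules.IsFiniteType (R := (PrinPart.nbhd f n).ringCatSheaf)
      ((Scheme.Modules.pullback (PrinPart.pr2 f n)).obj F) :=
    Groth.Agent.Lib.Helper11.SupportTensor.isFiniteType_pullback_of_isFiniteType
      (PrinPart.pr2 f n) F hft
  have := Groth.Agent.Lib.Helper49.SectionIntegral.isFinite_pr1 f n
  exact ⟨Groth.Agent.Lib.Helper49.PrinPartBasic.isQuasicoherent_PMod f n F,
    Groth.Agent.Lib.Helper49.isFiniteType_pushforward_of_isFinite (PrinPart.pr1 f n) _ h2⟩

end Groth.Agent.S5968
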