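import Groth.Statements.S5972
import Groth.Agent.Lib.Helper18.PPAffine

set_option autoImplicit false
universe u
open CategoryTheory CategoryTheory.Limits AlgebraicGeometry TopologicalSpace Opposite
open Nrm16

namespace Groth.Agent.S5972

/-- Let A → B be a ring homomorphism, X = Spec B, S = Spec A with f : X ⟶ S the induced morphism, and n
a natural number; identify B with the ring of global functions on X through the canonical
isomorphism. If ψ : B ⊗_A B → Γ(X, P^n_{X/S}) is the additive map with ψ(b ⊗ b') = b · d^n(b') for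
all b, b' in B, then ψ is surjective with kernel the (n+1)-st power of the kernel I of the
multiplication map B ⊗_A B → B. -/
theorem result (A B : Type u) [CommRing A] [CommRing B] [Algebra A B] (n : ℕ)
    (ψ : TensorProduct A B B →+
      Γ(PrinPart.P (Spec.map (CommRingCat.ofHom (algebraMap A B))) n, (⊤ : (Spec (CommRingCat.of B)).Opens)))
    (hψ : ∀ b b' : B, ψ (b ⊗ₜ[A] b') =
      (Scheme.ΓSpecIso (CommRingCat.of B)).inv b •
        PrinPart.dn (Spec.map (CommRingCat.ofHom (algebraMap A B))) n ⊤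
          ((Scheme.ΓSpecIso (CommRingCat.of B)).inv b')) :
    Function.Surjective ψ ∧ ψ.ker = (KaehlerDifferential.ideal A B ^ (n + 1)).toAddSubgroup := by
  classical
  let f : Spec (CommRingCat.of B) ⟶ Spec (CommRingCat.of A) :=
    Spec.map (CommRingCat.ofHom (algebraMap A B))
  have hU : IsAffineOpen (⊤ : (Spec (CommRingCat.of B)).Opens) := isAffineOpen_top _
  have hT : IsAffineOpen (⊤ : (Spec (CommRingCat.of A)).Opens) := isAffineOpen_top _
  have hUT : (⊤ : (Spec (CommRingCat.of B)).Opens) ≤ f ⁻¹ᵁ ⊤ := fun _ _ => trivial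
  let _ : Algebra Γ(Spec (CommRingCat.of A), ⊤) Γ(Spec (CommRingCat.of B), ⊤) :=
    Groth.Agent.Lib.Helper18.PPLocalB.algAB f hUT
  let eA : A ≃+* Γ(Spec (CommRingCat.of A), ⊤) :=
    (Scheme.ΓSpecIso (CommRingCat.of A)).symm.commRingCatIsoToRingEquiv
  let eB : B ≃+* Γ(Spec (CommRingCat.of B), ⊤) :=
    (Scheme.ΓSpecIso (CommRingCat.of B)).symm.commRingCatIsoToRingEquiv
  have heB : ∀ b : B, eB b = (Scheme.ΓSpecIso (CommRingCat.of B)).inv b := fun _ => rfl
  have hc : ∀ a : A, eB (algebraMap A B a) =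
      algebraMap Γ(Spec (CommRingCat.of A), ⊤) Γ(Spec (CommRingCat.of B), ⊤) (eA a) := by
    intro a
    have h1 := Scheme.ΓSpecIso_inv_naturality (CommRingCat.ofHom (algebraMap A B))
    have h2 := congrArg (fun k => k.hom a) h1
    have h4 : f.appLE ⊤ ⊤ hUT = f.appTop := by
      rw [Scheme.Hom.appTop, Scheme.Hom.app_eq_appLE]
      rfl
    change (Scheme.ΓSpecIso (CommRingCat.of B)).inv.hom (algebraMap A B a) =
      (f.appLE ⊤ ⊤ hUT).hom ((Scheme.ΓSpecIso (CommRingCat.of A)).inv.hom a)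
    rw [h4]
    exact h2
  let τE := Groth.Agent.Lib.Helper18.TensorIsoBase.τE eA eB hc
  let ψ' : (TensorProduct Γ(Spec (CommRingCat.of A), ⊤) Γ(Spec (CommRingCat.of B), ⊤)
      Γ(Spec (CommRingCat.of B), ⊤)) →+ Γ(PrinPart.P f n, (⊤ : (Spec (CommRingCat.of B)).Opens)) :=
    ψ.comp τE.symm.toAddMonoidHom
  have hψ' : ∀ a b : Γ(Spec (CommRingCat.of B), ⊤),
      ψ' (a ⊗ₜ[Γ(Spec (CommRingCat.of A), ⊤)] b) = a • PrinPart.dn f n ⊤ b := by
    intro a b
    have h1 : τE.symm (a ⊗ₜ[Γ(Spec (CommRingCat.of A), ⊤)] b) = eB.symm a ⊗ₜ[A] eB.symm b := by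
      rw [RingEquiv.symm_apply_eq, Groth.Agent.Lib.Helper18.TensorIsoBase.τE_tmul,
        RingEquiv.apply_symm_apply, RingEquiv.apply_symm_apply]
    change ψ (τE.symm (a ⊗ₜ[Γ(Spec (CommRingCat.of A), ⊤)] b)) = _
    rw [h1, hψ, ← heB, ← heB, RingEquiv.apply_symm_apply, RingEquiv.apply_symm_apply]
  obtain ⟨hs, hk⟩ := Groth.Agent.Lib.Helper18.PPAffine.chart f n hU hT hUT ψ' hψ'
  have hψψ' : ∀ x, ψ x = ψ' (τE x) := by
    intro x
    change ψ x = ψ (τE.symm (τE x))
    rw [RingEquiv.symm_apply_apply]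
  constructor
  · intro σ
    obtain ⟨x', hx'⟩ := hs σ
    refine ⟨τE.symm x', ?_⟩
    rw [hψψ', RingEquiv.apply_symm_apply, hx']
  · ext x
    rw [AddMonoidHom.mem_ker, Submodule.mem_toAddSubgroup, hψψ', hk,
      Groth.Agent.Lib.Helper18.TensorIsoBase.mem_ideal_pow_iff eA eB hc]

end Groth.Agent.S5972
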