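import Groth.Statements.S5974
-- import your own Groth.Agent.* helpers here
import Groth.Agent.Lib.Helper51.OmegaUniv.ConormalTriple

set_option autoImplicit false
universe u
open CategoryTheory CategoryTheory.Limits AlgebraicGeometry TopologicalSpace Opposite
open Nrm16

namespace Groth.Agent.S5974

/-- Let f : Y ⟶ X and j : Y' ⟶ Y be quasi-compact immersions. Let φ₁ : j^* N_{Y/X} ⟶ N_{Y'/X} and φ₂ :
N_{Y'/X} ⟶ N_{Y'/Y} be the canonical maps of conormal sheaves (the first induced by the identity of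
X, the second by f, on local sections of the ideals). Then φ₂ is an epimorphism and the image of φ₁
is the kernel of φ₂: the sequence j^* N_{Y/X} ⟶ N_{Y'/X} ⟶ N_{Y'/Y} ⟶ 0 is exact. (The published
statement allows arbitrary immersions; this row assumes them quasi-compact, the case in which the
conormal sheaves used here are those of the immersions.) -/
theorem result {Y' Y X : Scheme.{u}} (f : Y ⟶ X) [IsImmersion f] [QuasiCompact f]
    (j : Y' ⟶ Y) [IsImmersion j] [QuasiCompact j]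
    (φ₁ : (Scheme.Modules.pullback j).obj (Omega.conormal f) ⟶ Omega.conormal (j ≫ f))
    (hφ₁ : OmegaSh.IsConormalMap (j ≫ f) f (𝟙 X) j φ₁)
    (φ₂ : (Scheme.Modules.pullback (𝟙 Y')).obj (Omega.conormal (j ≫ f)) ⟶ Omega.conormal j)
    (hφ₂ : OmegaSh.IsConormalMap j (j ≫ f) f (𝟙 Y') φ₂) :
    Epi φ₂ ∧
      imageSubobject φ₁ =
        kernelSubobject ((Scheme.Modules.pullbackId Y').inv.app (Omega.conormal (j ≫ f)) ≫ φ₂) := by
  have hqf : (Omega.conormal f).IsQuasicoherent :=
    Groth.Agent.Lib.Helper16.FlatPull.isQuasicoherent_pullback f (ClSub.idealMod f.ker)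
  have hq₁ : ((Scheme.Modules.pullback j).obj (Omega.conormal f)).IsQuasicoherent :=
    Groth.Agent.Lib.Helper16.FlatPull.isQuasicoherent_pullback j (Omega.conormal f)
  have hq₂ : (Omega.conormal (j ≫ f)).IsQuasicoherent :=
    Groth.Agent.Lib.Helper16.FlatPull.isQuasicoherent_pullback (j ≫ f)
      (ClSub.idealMod (j ≫ f).ker)
  have hq₂' : ((𝟭 Y'.Modules).obj (Omega.conormal (j ≫ f))).IsQuasicoherent := hq₂
  have hq₃ : (Omega.conormal j).IsQuasicoherent :=
    Groth.Agent.Lib.Helper16.FlatPull.isQuasicoherent_pullback j (ClSub.idealMod j.ker)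
  have w : φ₁ ≫ ((Scheme.Modules.pullbackId Y').inv.app (Omega.conormal (j ≫ f)) ≫ φ₂) = 0 :=
    Groth.Agent.Lib.Helper51.OmegaUniv.conormal_triple_comp_zero f j hφ₁ hφ₂
  have chart : ∀ y' : Y', ∃ W : Y'.Opens, IsAffineOpen W ∧ y' ∈ W ∧
      Function.Surjective (((Scheme.Modules.pullbackId Y').inv.app (Omega.conormal (j ≫ f)) ≫
        φ₂).app W) ∧
      ∀ n : Γ(Omega.conormal (j ≫ f), W),
        ((Scheme.Modules.pullbackId Y').inv.app (Omega.conormal (j ≫ f)) ≫ φ₂).app W n = 0 →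
          ∃ m, φ₁.app W m = n := by
    intro y'
    have hmem : f (j y') ∈ f.coborderRange ⊓ (j ≫ f).coborderRange :=
      ⟨Groth.Agent.Lib.Helper51.OmegaUniv.range_le_coborderRange f (j y'),
        Groth.Agent.Lib.Helper51.OmegaUniv.range_le_coborderRange (j ≫ f) y'⟩
    obtain ⟨V, hV, hyV, hVc⟩ := exists_isAffineOpen_mem_and_subset
      (x := f (j y')) (U := f.coborderRange ⊓ (j ≫ f).coborderRange) hmem
    obtain ⟨hU, hAB⟩ := Groth.Agent.Lib.Helper51.OmegaUniv.closedImm_chart_of_le f hV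
      (fun y hy => (hVc hy).1)
    obtain ⟨hW, hAC⟩ := Groth.Agent.Lib.Helper51.OmegaUniv.closedImm_chart_of_le (j ≫ f) hV
      (fun y hy => (hVc hy).2)
    obtain ⟨hs, he⟩ := Groth.Agent.Lib.Helper51.OmegaUniv.conormal_triple_chart f j hφ₁ hφ₂
      hV hU hAB hW hAC
    exact ⟨j ⁻¹ᵁ (f ⁻¹ᵁ V), hW, hyV, hs, he⟩
  constructor
  · have hepi : Epi ((Scheme.Modules.pullbackId Y').inv.app (Omega.conormal (j ≫ f)) ≫ φ₂) := by
      apply Groth.Agent.Lib.Helper51.OmegaUniv.epi_of_app_surjective_of_cover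
      intro y'
      obtain ⟨W, hW, hyW, hs, -⟩ := chart y'
      exact ⟨W, hW, hyW, hs⟩
    exact epi_of_epi ((Scheme.Modules.pullbackId Y').inv.app (Omega.conormal (j ≫ f))) φ₂
  · have hex : (ShortComplex.mk φ₁
        ((Scheme.Modules.pullbackId Y').inv.app (Omega.conormal (j ≫ f)) ≫ φ₂) w).Exact := by
      apply Groth.Agent.Lib.Helper51.OmegaUniv.exact_of_app_exact_of_cover
      intro y'
      obtain ⟨W, hW, hyW, -, he⟩ := chart y'
      exact ⟨W, hW, hyW, he⟩
    exact (ShortComplex.exact_iff_image_eq_kernel _).mp hex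

end Groth.Agent.S5974
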