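import Groth.Statements.S5977
import Groth.Agent.Lib.Helper18.PPGen

set_option autoImplicit false
universe u
open CategoryTheory CategoryTheory.Limits AlgebraicGeometry TopologicalSpace Opposite
open Nrm16

namespace Groth.Agent.S5977

/-- Let f : Y ⟶ Z be a morphism and j : X ⟶ Y a closed immersion, and let φ : j^* P^n_{Y/Z} ⟶ P^n_{X/Z}
be the canonical O_X-linear map of sheaves of principal parts of order n, the one sending the
pullback of d^n b to d^n (j♯ b). Then φ is an epimorphism. (The published statement also identifies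
the kernel of φ as the ideal generated by the pullback of d^n of the ideal of j; this row states the
surjectivity.) -/
theorem result {X Y Z : Scheme.{u}} (f : Y ⟶ Z) (j : X ⟶ Y) [IsClosedImmersion j] (n : ℕ)
    (φ : (Scheme.Modules.pullback j).obj (PrinPart.P f n) ⟶ PrinPart.P (j ≫ f) n)
    (hφ : PrinPart.IsPMap f (j ≫ f) j n φ) :
    Epi φ := by
  refine ⟨fun {G} a b hab => ?_⟩
  apply Groth.Agent.Lib.Helper18.PPGen.hom_ext_of_dP
  intro V t0
  obtain ⟨t, rfl⟩ : ∃ t : Γ(X, V), OmegaSh.strSect X V t = t0 := ⟨OmegaSh.fnSect X V t0, rfl⟩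
  apply Groth.Agent.Lib.Helper18.LSubM.eq_of_locally_eq
  intro x hx
  obtain ⟨V₀, hV₀o, hV₀⟩ := (j.isEmbedding.isInducing.isOpen_iff).mp V.2
  have hjx : j x ∈ V₀ := by
    have : x ∈ j ⁻¹' V₀ := by rw [hV₀]; exact hx
    exact this
  obtain ⟨_, ⟨U, hU, rfl⟩, hxU, hUV₀⟩ :=
    Y.isBasis_affineOpens.exists_subset_of_mem_open hjx hV₀o
  have hUV : j ⁻¹ᵁ U ≤ V := by
    intro y hy
    have : y ∈ j ⁻¹' V₀ := hUV₀ hy
    rw [hV₀] at this
    exact this
  obtain ⟨b, hb⟩ := j.app_surjective U hU ((X.presheaf.map (homOfLE hUV).op).hom t)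
  refine ⟨j ⁻¹ᵁ U, hUV, hxU, ?_⟩
  rw [← Groth.Agent.Lib.Helper18.LSubM.app_mres, ← Groth.Agent.Lib.Helper18.LSubM.app_mres]
  have h1 : Groth.Agent.Lib.Helper49.mres (PrinPart.PMod (j ≫ f) n (Coh.structureModule X)) hUV
      (PrinPart.dP (j ≫ f) n (Coh.structureModule X) V (OmegaSh.strSect X V t)) =
      PrinPart.dn (j ≫ f) n (j ⁻¹ᵁ U) ((j.app U).hom b) := by
    rw [hb]
    exact (PrinPart.dP_map (j ≫ f) n (Coh.structureModule X) hUV (OmegaSh.strSect X V t)).symm
  rw [h1]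
  have h2 := hφ U b
  change φ.app (j ⁻¹ᵁ U) (OmegaSh.pullSect j (PrinPart.P f n) U (PrinPart.dn f n U b)) =
    PrinPart.dn (j ≫ f) n (j ⁻¹ᵁ U) ((j.app U).hom b) at h2
  rw [← h2]
  exact congrArg (fun k : (Scheme.Modules.pullback j).obj (PrinPart.P f n) ⟶ G =>
    (k.app (j ⁻¹ᵁ U)) (OmegaSh.pullSect j (PrinPart.P f n) U (PrinPart.dn f n U b))) hab

end Groth.Agent.S5977
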