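import Groth.Statements.S5978
import Groth.Agent.Lib.Helper18.PPAffine2
import Groth.Agent.Lib.Helper51.OmegaUniv.Sections
import Groth.Agent.Lib.Helper51.OmegaUniv.Coprod
import Groth.Agent.Lib.Helper80.OmegaUniversal
import Groth.Agent.Lib.Helper49.PrinPartBasic

set_option autoImplicit false
universe u
open CategoryTheory CategoryTheory.Limits AlgebraicGeometry TopologicalSpace Opposite
open Nrm16

namespace Groth.Agent.S5978

/-- Let f : X ⟶ S be a quasi-separated morphism, Ω_{X/S} its sheaf of differentials (the conormal sheaf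
of the diagonal) with its derivation d, e : O_X ⟶ P^1_{X/S} the O_X-linear map s ↦ s·1 and ι :
Ω_{X/S} ⟶ P^1_{X/S} the O_X-linear map with ι(d s) = d^1 s − s·1 for every local function s. Then
the map O_X ⊕ Ω_{X/S} ⟶ P^1_{X/S} induced by e and ι is an isomorphism of O_X-modules for the left
structure of P^1_{X/S}; in other words Ω_{X/S} is identified with the augmentation ideal of
P^1_{X/S} and d s = d^1 s − s. (The published text takes this as the definition of Ω_{X/S} for every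
f; here Ω_{X/S} is the conormal sheaf of the diagonal, formed for quasi-separated f, and the
identification is stated.) -/
theorem result {X S : Scheme.{u}} (f : X ⟶ S) [QuasiSeparated f]
    (e : Coh.structureModule X ⟶ PrinPart.P f 1)
    (he : ∀ (U : X.Opens) (s : Γ(X, U)), e.app U (OmegaSh.strSect X U s) = s • PrinPart.dn f 1 U 1)
    (ι : Omega.sheaf f ⟶ PrinPart.P f 1)
    (hι : ∀ (U : X.Opens) (s : Γ(X, U)),
      ι.app U ((OmegaSh.dOmega f).app U s) = PrinPart.dn f 1 U s - s • PrinPart.dn f 1 U 1) :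
    IsIso (coprod.desc e ι) := by
  classical
  have hd := Groth.Agent.Lib.Helper80.OmegaUniversal.isUniversal_dOmega f
  have : (Omega.sheaf f).IsQuasicoherent :=
    Groth.Agent.Lib.Helper51.OmegaUniv.isQuasicoherent_of_isUniversal f hd
  have : (PrinPart.P f 1).IsQuasicoherent :=
    Groth.Agent.Lib.Helper49.PrinPartBasic.isQuasicoherent_PMod f 1 _
  apply Groth.Agent.Lib.Helper51.OmegaUniv.isIso_coprod_desc_of_cover
  intro x
  obtain ⟨U, T, hU, hT, hUT, -, hxU⟩ :=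
    Groth.Agent.Lib.Helper18.PPNil.exists_affine_chart f ⊤ x trivial
  refine ⟨U, hU, hxU, ?_⟩
  let _ : Algebra Γ(S, T) Γ(X, U) := Groth.Agent.Lib.Helper18.PPLocalB.algAB f hUT
  obtain ⟨e₀, he₀⟩ := Groth.Agent.Lib.Helper51.OmegaUniv.exists_sections_equiv f hd hU hT hUT
  obtain ⟨hsurj, hker⟩ := Groth.Agent.Lib.Helper18.PPAffine.psi_spec f 1 hU hT hUT
  have hψ1 : ∀ a b : Γ(X, U), Groth.Agent.Lib.Helper18.PPAffine.psi f 1 hU hT hUT
      (a ⊗ₜ[Γ(S, T)] b) = a • PrinPart.dn f 1 U b :=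
    Groth.Agent.Lib.Helper18.PPAffine.psi_tmul f 1 hU hT hUT
  have hψs := Groth.Agent.Lib.Helper18.PPAffine.psi_smul f 1 hU hT hUT
  set ψ := Groth.Agent.Lib.Helper18.PPAffine.psi f 1 hU hT hUT with hψdef
  have hι' : ∀ c : Γ(X, U), ι.app U ((OmegaSh.dOmega f).app U c) =
      ψ ((1 : Γ(X, U)) ⊗ₜ[Γ(S, T)] c - c ⊗ₜ[Γ(S, T)] (1 : Γ(X, U))) := by
    intro c
    rw [hι, map_sub, hψ1, hψ1, one_smul]
  have he' : ∀ s : Γ(X, U), e.app U (OmegaSh.strSect X U s) =
      ψ (s ⊗ₜ[Γ(S, T)] (1 : Γ(X, U))) := by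
    intro s
    rw [he, hψ1]
  -- the class of an element of the ideal
  have claim : ∀ k : TensorProduct Γ(S, T) Γ(X, U) Γ(X, U),
      k ∈ (KaehlerDifferential.ideal Γ(S, T) Γ(X, U)).restrictScalars Γ(X, U) →
      ∃ hk : k ∈ KaehlerDifferential.ideal Γ(S, T) Γ(X, U),
        ι.app U (e₀ (KaehlerDifferential.fromIdeal Γ(S, T) Γ(X, U) ⟨k, hk⟩)) = ψ k := by
    intro k hk
    rw [← KaehlerDifferential.submodule_span_range_eq_ideal] at hk
    induction hk using Submodule.span_induction with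
    | mem k hk =>
      obtain ⟨c, rfl⟩ := hk
      refine ⟨KaehlerDifferential.one_smul_sub_smul_one_mem_ideal _ c, ?_⟩
      have h1 : e₀ (KaehlerDifferential.fromIdeal Γ(S, T) Γ(X, U)
          ⟨(1 : Γ(X, U)) ⊗ₜ[Γ(S, T)] c - c ⊗ₜ[Γ(S, T)] (1 : Γ(X, U)),
            KaehlerDifferential.one_smul_sub_smul_one_mem_ideal _ c⟩) =
          (OmegaSh.dOmega f).app U c := he₀ c
      rw [h1, hι']
    | zero =>
      refine ⟨Submodule.zero_mem _, ?_⟩
      have h0 : (⟨0, Submodule.zero_mem _⟩ : KaehlerDifferential.ideal Γ(S, T) Γ(X, U)) = 0 := rfl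
      rw [h0, map_zero, map_zero, map_zero, map_zero]
    | add k₁ k₂ _ _ h₁ h₂ =>
      obtain ⟨hk₁, e₁⟩ := h₁
      obtain ⟨hk₂, e₂⟩ := h₂
      refine ⟨Submodule.add_mem _ hk₁ hk₂, ?_⟩
      have h0 : (⟨k₁ + k₂, Submodule.add_mem _ hk₁ hk₂⟩ :
          KaehlerDifferential.ideal Γ(S, T) Γ(X, U)) = ⟨k₁, hk₁⟩ + ⟨k₂, hk₂⟩ := rfl
      rw [h0, map_add, map_add, map_add, map_add, e₁, e₂]
    | smul b k _ h₁ =>
      obtain ⟨hk₁, e₁⟩ := h₁
      have hbk : b • k ∈ KaehlerDifferential.ideal Γ(S, T) Γ(X, U) :=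
        ((KaehlerDifferential.ideal Γ(S, T) Γ(X, U)).restrictScalars Γ(X, U)).smul_mem b hk₁
      refine ⟨hbk, ?_⟩
      have h0 : (⟨b • k, hbk⟩ : KaehlerDifferential.ideal Γ(S, T) Γ(X, U)) =
          b • (⟨k, hk₁⟩ : KaehlerDifferential.ideal Γ(S, T) Γ(X, U)) := rfl
      rw [h0, LinearMap.map_smul_of_tower, map_smul, Scheme.Modules.Hom.app_smul, e₁, hψs]
  have key : ∀ (s : Γ(Coh.structureModule X, U)) (ω : Γ(Omega.sheaf f, U)),
      e.app U s + ι.app U ω = 0 → s = 0 ∧ ω = 0 := by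
    intro s ω h
    obtain ⟨s₀, rfl⟩ : ∃ s₀ : Γ(X, U), OmegaSh.strSect X U s₀ = s := ⟨OmegaSh.fnSect X U s, rfl⟩
    obtain ⟨⟨k, hk⟩, hkκ⟩ := KaehlerDifferential.fromIdeal_surjective Γ(S, T) Γ(X, U)
      (e₀.symm ω)
    obtain ⟨hk', hc⟩ := claim k hk
    rw [hkκ, LinearEquiv.apply_symm_apply] at hc
    rw [he', hc, ← map_add, hker] at h
    have h2 : Algebra.TensorProduct.lmul' Γ(S, T) (s₀ ⊗ₜ[Γ(S, T)] (1 : Γ(X, U)) + k) = 0 :=
      Ideal.pow_le_self (Nat.succ_ne_zero 1) h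
    have h3 : Algebra.TensorProduct.lmul' Γ(S, T) k = 0 := hk
    rw [map_add, h3, add_zero, Algebra.TensorProduct.lmul'_apply_tmul, mul_one] at h2
    subst h2
    rw [TensorProduct.zero_tmul, zero_add] at h
    have h4 : KaehlerDifferential.fromIdeal Γ(S, T) Γ(X, U) ⟨k, hk⟩ = 0 :=
      (Ideal.toCotangent_eq_zero _ _).mpr h
    rw [h4] at hkκ
    refine ⟨map_zero _, ?_⟩
    have := congrArg e₀ hkκ
    rw [map_zero, LinearEquiv.apply_symm_apply] at this
    exact this.symm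
  constructor
  · rintro ⟨s, ω⟩ ⟨s', ω'⟩ h
    have h1 : e.app U (s - s') + ι.app U (ω - ω') = 0 := by
      have h' : e.app U s + ι.app U ω = e.app U s' + ι.app U ω' := h
      rw [map_sub, map_sub, sub_add_sub_comm, h', sub_self]
    obtain ⟨h2, h3⟩ := key _ _ h1
    rw [sub_eq_zero] at h2 h3
    rw [h2, h3]
  · intro y
    obtain ⟨x, rfl⟩ := hsurj y
    induction x using TensorProduct.induction_on with
    | zero => exact ⟨(0, 0), by simp⟩
    | tmul a b =>
      refine ⟨(OmegaSh.strSect X U (a * b), a • (OmegaSh.dOmega f).app U b), ?_⟩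
      change e.app U (OmegaSh.strSect X U (a * b)) +
        ι.app U (a • (OmegaSh.dOmega f).app U b) = _
      rw [he, Scheme.Modules.Hom.app_smul, hι, hψ1, smul_sub, smul_smul]
      abel
    | add x y hx hy =>
      obtain ⟨p, hp⟩ := hx
      obtain ⟨q, hq⟩ := hy
      refine ⟨p + q, ?_⟩
      change e.app U (p.1 + q.1) + ι.app U (p.2 + q.2) = _
      have hp' : e.app U p.1 + ι.app U p.2 = ψ x := hp
      have hq' : e.app U q.1 + ι.app U q.2 = ψ y := hq
      rw [map_add, map_add, map_add, ← hp', ← hq']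
      abel

end Groth.Agent.S5978
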