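import Mathlib
import Groth.Statements.S5982
import Groth.Agent.Lib.Helper23.WeakRegGeom
import Groth.Agent.Lib.Helper23.LimFlat
import Groth.Agent.S4758

set_option autoImplicit false
universe u
open CategoryTheory AlgebraicGeometry
open CInt

namespace Groth.Agent.S5982

/-- Let S = lim S_i be a cofiltered limit of schemes with affine, flat transition maps, such that either
every S_i is locally Noetherian or every transition map is surjective; let S_{i₀} be a quasi-compact
stage and f_1, …, f_n global sections of the structure sheaf of S_{i₀}. Then the images of the f_k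
form a regular sequence for the structure sheaf of S (that is, a weakly regular sequence in Γ(U,
O_S) for every affine open U of S; no condition on the last quotient) if and only if, for some index
j over i₀, their images form a regular sequence for the structure sheaf of S_j in the same sense.
This is the case of the structure sheaf. -/
theorem result {I : Type u} [SmallCategory I] [IsCofiltered I]
    (D : I ⥤ Scheme.{u}) (c : Limits.Cone D) (hc : Limits.IsLimit c)
    [∀ (i j : I) (f : i ⟶ j), IsAffineHom (D.map f)]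
    (hflat : ∀ (i j : I) (f : i ⟶ j), Flat (D.map f))
    (hcase : (∀ i : I, IsLocallyNoetherian (D.obj i)) ∨
      ∀ (i j : I) (f : i ⟶ j), Surjective (D.map f))
    (i₀ : I) [CompactSpace (D.obj i₀)] (fs : List Γ(D.obj i₀, ⊤)) :
    (∀ U : c.pt.affineOpens, RingTheory.Sequence.IsWeaklyRegular Γ(c.pt, U.1)
        (fs.map (fun f => (c.pt.presheaf.map (homOfLE (le_top : U.1 ≤ ⊤)).op).hom ((c.π.app i₀).appTop.hom f)))) ↔
      ∃ (j : I) (φ : j ⟶ i₀), ∀ U : (D.obj j).affineOpens,
        RingTheory.Sequence.IsWeaklyRegular Γ(D.obj j, U.1)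
          (fs.map (fun f => ((D.obj j).presheaf.map (homOfLE (le_top : U.1 ≤ ⊤)).op).hom ((D.map φ).appTop.hom f))) := by
  open Groth.Agent.Lib.Helper23 Groth.Agent.Lib.Helper23.WeakReg Limits in
  haveI hD : ∀ {i j : I} (φ : i ⟶ j), IsAffineHom (D.map φ) := fun φ => inferInstance
  change WRAllq (c.π.app i₀) fs ↔ ∃ (j : I) (φ : j ⟶ i₀), WRAllq (D.map φ) fs
  haveI hπflat : ∀ i, Flat (c.π.app i) := fun i =>
    Groth.Agent.Lib.Helper23.flat_π_app D c hc i (fun j φ => hflat j i φ)
  haveI hDflat : ∀ {i j : I} (φ : i ⟶ j), Flat (D.map φ) := fun φ => hflat _ _ φ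
  constructor
  · intro h
    rw [WRAllq_iff] at h
    have h0 : ∀ s : c.pt, WRAt (D.obj i₀) fs (c.π.app i₀ s) := fun s =>
      (WRAt_iff_of_flat' (c.π.app i₀) fs s).mp (h s)
    obtain ⟨j, φ, hj⟩ : ∃ (j : I) (φ : j ⟶ i₀), ∀ y : D.obj j, WRAt (D.obj i₀) fs (D.map φ y) := by
      rcases hcase with hN | hS
      · haveI := hN i₀
        have hW : IsOpen {x : D.obj i₀ | WRAt (D.obj i₀) fs x} := isOpen_setOf_WRAt fs
        let W : (D.obj i₀).Opens := ⟨_, hW⟩
        by_contra hcon
        push Not at hcon
        obtain ⟨s, hs⟩ := exists_mem_of_isClosed_of_nonempty' D c hc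
          (fun j f => ((D.map f ⁻¹ᵁ W : (D.obj j).Opens) : Set (D.obj j))ᶜ)
          (fun j f => (D.map f ⁻¹ᵁ W).2.isClosed_compl)
          (fun j f => by
            obtain ⟨y, hy⟩ := hcon j f
            exact ⟨y, hy⟩)
          (fun j f => by
            haveI : CompactSpace (D.obj j) := QuasiCompact.compactSpace_of_compactSpace (D.map f)
            exact (D.map f ⁻¹ᵁ W).2.isClosed_compl.isCompact)
          (fun j k fkj fji x (hx : _ ∉ W) => by rwa [Functor.map_comp] at hx)
        refine hs i₀ (𝟙 i₀) ?_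
        change D.map (𝟙 i₀) (c.π.app i₀ s) ∈ W
        rw [D.map_id]
        exact h0 s
      · haveI : Surjective (c.π.app i₀) :=
          (Groth.Agent.S4758.result D c hc i₀).mpr fun j φ => hS j i₀ φ
        refine ⟨i₀, 𝟙 i₀, fun y => ?_⟩
        obtain ⟨s, hs⟩ := (c.π.app i₀).surjective (D.map (𝟙 i₀) y)
        rw [← hs]
        exact h0 s
    refine ⟨j, φ, ?_⟩
    rw [WRAllq_iff]
    intro y
    exact (WRAt_iff_of_flat' (D.map φ) fs y).mpr (hj y)
  · rintro ⟨j, φ, h⟩
    rw [WRAllq_iff] at h ⊢
    intro s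
    have h1 := (WRAt_iff_of_flat' (D.map φ) fs (c.π.app j s)).mp (h _)
    rw [WRAt_iff_of_flat' (c.π.app i₀) fs s]
    have h2 : c.π.app i₀ s = D.map φ (c.π.app j s) := by
      rw [← Scheme.Hom.comp_apply, c.w]
    rw [h2]
    exact h1

end Groth.Agent.S5982
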