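import Mathlib
import Groth.Statements.S5983
import Groth.Agent.Lib.Helper23.RegImmStage

set_option autoImplicit false
universe u
open CategoryTheory AlgebraicGeometry
open CInt

namespace Groth.Agent.S5983

/-- Let S = lim S_i be a cofiltered limit of schemes with affine, flat transition maps, S_{i₀} a stage
and j₀ : X₀ ⟶ S_{i₀} an immersion with X₀ quasi-compact; assume either that every S_i is locally
Noetherian, or that every transition map is surjective and j₀ is locally of finite presentation.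
Then the base change X₀ ×_{S_{i₀}} S ⟶ S of j₀ is a regular immersion if and only if, for some index
j over i₀, the base change X₀ ×_{S_{i₀}} S_j ⟶ S_j is a regular immersion. -/
theorem result {I : Type u} [SmallCategory I] [IsCofiltered I]
    (D : I ⥤ Scheme.{u}) (c : Limits.Cone D) (hc : Limits.IsLimit c)
    [∀ (i j : I) (f : i ⟶ j), IsAffineHom (D.map f)]
    (hflat : ∀ (i j : I) (f : i ⟶ j), Flat (D.map f))
    (i₀ : I) {X₀ : Scheme.{u}} (j₀ : X₀ ⟶ D.obj i₀) [CompactSpace X₀] [IsImmersion j₀]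
    (hcase : (∀ i : I, IsLocallyNoetherian (D.obj i)) ∨
      ((∀ (i j : I) (f : i ⟶ j), Surjective (D.map f)) ∧ LocallyOfFinitePresentation j₀)) :
    RegImm.IsRegularImmersion RegImm.Kind.regular (Limits.pullback.snd j₀ (c.π.app i₀)) ↔
      ∃ (j : I) (φ : j ⟶ i₀),
        RegImm.IsRegularImmersion RegImm.Kind.regular (Limits.pullback.snd j₀ (D.map φ)) := by
  open Groth.Agent.Lib.Helper23 Groth.Agent.Lib.Helper23.RegImmStage Limits in
  haveI hD : ∀ {i j : I} (φ : i ⟶ j), IsAffineHom (D.map φ) := fun φ => inferInstance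
  have hflat' : ∀ {i j : I} (f : i ⟶ j), Flat (D.map f) := fun f => hflat _ _ f
  constructor
  · intro h
    have hcase' : (∀ i : I, IsLocallyNoetherian (D.obj i)) ∨
        ((∀ {i j : I} (f : i ⟶ j), Surjective (D.map f)) ∧ LocallyOfFinitePresentation j₀) := by
      rcases hcase with hN | ⟨hS, hfp⟩
      · exact Or.inl hN
      · exact Or.inr ⟨fun f => hS _ _ f, hfp⟩
    obtain ⟨K, hK⟩ := exists_stage_isRegularImmersion D c hc hflat' i₀ j₀ hcase'
      (pullback.snd j₀ (c.π.app i₀)) (pullback.fst j₀ (c.π.app i₀))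
      (IsPullback.of_hasPullback j₀ (c.π.app i₀)) h.2
    refine ⟨K.left, K.hom, inferInstance, fun y => ?_⟩
    let σ := pullbackSymmetry j₀ (D.map K.hom)
    have w1 : σ.hom ≫ bcFst D i₀ j₀ K = pullback.snd j₀ (D.map K.hom) ≫ 𝟙 _ := by
      rw [Category.comp_id]
      exact pullbackSymmetry_hom_comp_fst j₀ (D.map K.hom)
    exact isRegularImmersionAt_of_isPullback _
      (IsPullback.of_horiz_isIso (fst := σ.hom) (snd := pullback.snd j₀ (D.map K.hom))
        (f := bcFst D i₀ j₀ K) (g := 𝟙 _) ⟨w1⟩) y (hK (σ.hom y))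
  · rintro ⟨j, φ, h⟩
    haveI : Flat (c.π.app j) := flat_π_app D c hc j (fun k ψ => hflat _ _ ψ)
    let v : pullback j₀ (c.π.app i₀) ⟶ pullback j₀ (D.map φ) :=
      pullback.map j₀ (c.π.app i₀) j₀ (D.map φ) (𝟙 _) (c.π.app j) (𝟙 _) (by simp) (by simp)
    have hv1 : v ≫ pullback.fst j₀ (D.map φ) = pullback.fst j₀ (c.π.app i₀) :=
      (pullback.lift_fst _ _ _).trans (Category.comp_id _)
    have hv2 : v ≫ pullback.snd j₀ (D.map φ) = pullback.snd j₀ (c.π.app i₀) ≫ c.π.app j :=
      pullback.lift_snd _ _ _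
    have hbig : IsPullback (v ≫ pullback.fst j₀ (D.map φ)) (pullback.snd j₀ (c.π.app i₀)) j₀
        (c.π.app j ≫ D.map φ) := by
      rw [hv1, c.w]
      exact IsPullback.of_hasPullback j₀ (c.π.app i₀)
    have hpb : IsPullback v (pullback.snd j₀ (c.π.app i₀)) (pullback.snd j₀ (D.map φ))
        (c.π.app j) :=
      IsPullback.of_right hbig hv2 (IsPullback.of_hasPullback j₀ (D.map φ))
    exact Groth.Agent.Lib.Helper10.RegImmBaseChange.isRegularImmersion_of_isPullback _ hpb
      (fun ψ hψ rs hrs hne =>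
        Groth.Agent.Lib.Helper10.RegSeqFlat.kindSeq_map ψ _ hψ rs hrs hne) h

end Groth.Agent.S5983
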