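import Groth.Statements.S5987
import Mathlib
import Groth.Agent.Lib.Helper79.LiftSop
-- import your own Groth.Agent.* helpers here

set_option autoImplicit false
universe u
open EGA418

namespace Groth.Agent.S5987

/-- Let A be a Noetherian local ring and p a prime ideal of A such that the local ring A_p is
Cohen–Macaulay, of dimension s; let t_1, …, t_s be a system of parameters of A_p (elements of its
maximal ideal such that A_p/(t_1, …, t_s) has dimension 0). Then there are elements x_1, …, x_s of p
which form part of a system of parameters of A, in the sense that dim A/(x_1, …, x_s) + s = dim A,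
and elements a_1, …, a_s of A outside p, such that for every i the image of x_i in A_p is congruent
to a_i t_i modulo the ideal (t_1, …, t_{i-1}) A_p. (The published statement asks for the image of
x_i to be congruent to t_i itself; this row allows the factor a_i outside p, which is what the
published proof gives, since it first multiplies each t_i by a unit of A_p to bring it into the
image of A. The published form fails already for s = 1: for A the localization of k[X, Y] at (X, Y),
p = (X) and t_1 = X/Y, the congruence modulo the zero ideal asks for an element of A with image X/Y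
in A_p, and there is none.) -/
theorem result (A : Type u) [CommRing A]
    [IsNoetherianRing A] [IsLocalRing A] (p : Ideal A) [p.IsPrime]
    [LocCoh.IsCohenMacaulayLocalRing (Localization.AtPrime p)] (s : ℕ)
    (hs : ringKrullDim (Localization.AtPrime p) = s) (t : Fin s → Localization.AtPrime p)
    (ht : ∀ i, t i ∈ IsLocalRing.maximalIdeal (Localization.AtPrime p))
    (hsop : ringKrullDim (Localization.AtPrime p ⧸ Ideal.span (Set.range t)) = 0) :
    ∃ x a : Fin s → A, (∀ i, x i ∈ p) ∧ (∀ i, a i ∉ p) ∧
      ringKrullDim (A ⧸ Ideal.span (Set.range x)) + (s : WithBot ℕ∞) = ringKrullDim A ∧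
      ∀ i : Fin s, algebraMap A (Localization.AtPrime p) (x i) -
          algebraMap A (Localization.AtPrime p) (a i) * t i ∈
        Ideal.span (t '' {j : Fin s | j < i}) := by
  classical
  set t' : ℕ → Localization.AtPrime p := fun j => if h : j < s then t ⟨j, h⟩ else 0 with ht'def
  have ht'val : ∀ i : Fin s, t' i.val = t i := fun i => by simp [ht'def, i.isLt]
  have ht'max : ∀ j, t' j ∈ IsLocalRing.maximalIdeal (Localization.AtPrime p) := by
    intro j
    by_cases h : j < s
    · simp only [ht'def, h, dif_pos]
      exact ht _
    · simp only [ht'def, h, dif_neg, not_false_eq_true]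
      exact Ideal.zero_mem _
  have himg : ∀ k ≤ s, t' '' {j | j < k} = t '' {j : Fin s | j.val < k} := by
    intro k hk
    ext y
    constructor
    · rintro ⟨j, hj, rfl⟩
      have hjs : j < s := lt_of_lt_of_le hj hk
      exact ⟨⟨j, hjs⟩, hj, (ht'val ⟨j, hjs⟩).symm⟩
    · rintro ⟨j, hj, rfl⟩
      exact ⟨j.val, hj, ht'val j⟩
  have hrange : t' '' {j | j < s} = Set.range t := by
    rw [himg s le_rfl]
    ext y
    constructor
    · rintro ⟨j, _, rfl⟩; exact ⟨j, rfl⟩
    · rintro ⟨j, rfl⟩; exact ⟨j, j.isLt, rfl⟩
  have hreg := Groth.Agent.Lib.Helper79.LiftSop.notMem_minimalPrimes_of_isCohenMacaulay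
    (Localization.AtPrime p) s hs t' ht'max (by rw [hrange]; exact hsop)
  obtain ⟨x, a, hxp, hap, hcong, hmap, hdim⟩ :=
    Groth.Agent.Lib.Helper79.LiftSop.exists_lift p s t' ht'max hreg s le_rfl
  refine ⟨fun i => x i.val, fun i => a i.val, fun i => hxp _, fun i => hap _, ?_, ?_⟩
  · have hr : Set.range (fun i : Fin s => x i.val) = x '' {j | j < s} := by
      ext y
      constructor
      · rintro ⟨j, rfl⟩; exact ⟨j.val, j.isLt, rfl⟩
      · rintro ⟨j, hj, rfl⟩; exact ⟨⟨j, hj⟩, rfl⟩
    rw [hr]
    exact hdim
  · intro i
    have h1 := hcong i.val i.isLt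
    rw [ht'val, himg i.val i.isLt.le] at h1
    exact h1

end Groth.Agent.S5987
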