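import Mathlib
import Groth.Statements.S5990
import Groth.Agent.Lib.Helper23.TransRegGlobal

set_option autoImplicit false
universe u
open CategoryTheory AlgebraicGeometry
open CInt

namespace Groth.Agent.S5990

/-- Let S = lim S_i be a cofiltered limit of schemes with affine transition maps, S_{i₀} a stage, g₀ :
X₀ ⟶ S_{i₀} locally of finite presentation with X₀ quasi-compact, and f_1, …, f_n global sections of
the structure sheaf of X₀. Say that a sequence of global sections of O_X is transversally regular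
relative to a base T (for g : X ⟶ T) when, for every affine open U of X and affine open V of T with
g(U) ⊆ V, its restriction to U is a weakly regular sequence in Γ(U, O_X) all of whose partial
quotients Γ(U, O_X)/(f_1, …, f_j) are flat over Γ(V, O_T). Then the images of the f_k on X₀
×_{S_{i₀}} S are transversally regular relative to S if and only if, for some index j over i₀, their
images on X₀ ×_{S_{i₀}} S_j are transversally regular relative to S_j. This is the case of the
structure sheaf. -/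
theorem result {I : Type u} [SmallCategory I]
    [IsCofiltered I] (D : I ⥤ Scheme.{u}) (c : Limits.Cone D) (hc : Limits.IsLimit c)
    [∀ (i j : I) (f : i ⟶ j), IsAffineHom (D.map f)]
    (i₀ : I) {X₀ : Scheme.{u}} (g₀ : X₀ ⟶ D.obj i₀) [CompactSpace X₀]
    [LocallyOfFinitePresentation g₀] (fs : List Γ(X₀, ⊤)) :
    (∀ (U : (Limits.pullback g₀ (c.π.app i₀)).affineOpens) (V : c.pt.affineOpens)
        (e : U.1 ≤ Limits.pullback.snd g₀ (c.π.app i₀) ⁻¹ᵁ V.1),
        @RegImm.IsTransRegularSeq Γ(c.pt, V.1) Γ(Limits.pullback g₀ (c.π.app i₀), U.1) _ _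
          ((Limits.pullback.snd g₀ (c.π.app i₀)).appLE V.1 U.1 e).hom.toAlgebra
          (fs.map (fun f => ((Limits.pullback g₀ (c.π.app i₀)).presheaf.map
            (homOfLE (le_top : U.1 ≤ ⊤)).op).hom
              ((Limits.pullback.fst g₀ (c.π.app i₀)).appTop.hom f)))) ↔
      ∃ (j : I) (φ : j ⟶ i₀),
        ∀ (U : (Limits.pullback g₀ (D.map φ)).affineOpens) (V : (D.obj j).affineOpens)
          (e : U.1 ≤ Limits.pullback.snd g₀ (D.map φ) ⁻¹ᵁ V.1),
          @RegImm.IsTransRegularSeq Γ(D.obj j, V.1) Γ(Limits.pullback g₀ (D.map φ), U.1) _ _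
            ((Limits.pullback.snd g₀ (D.map φ)).appLE V.1 U.1 e).hom.toAlgebra
            (fs.map (fun f => ((Limits.pullback g₀ (D.map φ)).presheaf.map
              (homOfLE (le_top : U.1 ≤ ⊤)).op).hom
                ((Limits.pullback.fst g₀ (D.map φ)).appTop.hom f))) := by
  open Groth.Agent.Lib.Helper23 Groth.Agent.Lib.Helper23.TransReg Limits in
  haveI hD : ∀ {i j : I} (φ : i ⟶ j), IsAffineHom (D.map φ) := fun φ => inferInstance
  change TRAll (pullback.snd g₀ (c.π.app i₀)) (pullback.fst g₀ (c.π.app i₀)) fs ↔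
    ∃ (j : I) (φ : j ⟶ i₀), TRAll (pullback.snd g₀ (D.map φ)) (pullback.fst g₀ (D.map φ)) fs
  have hfp := isFinitePresentation_structureModule X₀
  constructor
  · intro h
    rw [TRAll_iff_forall_towerAt] at h
    obtain ⟨K, hK⟩ := exists_stage_forall_towerAt D c i₀ g₀ (pullback.snd g₀ (c.π.app i₀))
      (pullback.fst g₀ (c.π.app i₀)) (IsPullback.of_hasPullback g₀ (c.π.app i₀)) hc fs
      (Coh.structureModule X₀) hfp h
    refine ⟨K.left, K.hom, ?_⟩
    rw [TRAll_iff_forall_towerAt]
    intro y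
    let σ := pullbackSymmetry g₀ (D.map K.hom)
    have w1 : σ.hom ≫ bcFst D i₀ g₀ K = pullback.snd g₀ (D.map K.hom) ≫ 𝟙 _ := by
      rw [Category.comp_id]
      exact pullbackSymmetry_hom_comp_fst g₀ (D.map K.hom)
    have w2 : σ.hom ≫ bcSnd D i₀ g₀ K = pullback.fst g₀ (D.map K.hom) :=
      pullbackSymmetry_hom_comp_snd g₀ (D.map K.hom)
    exact TowerAt.baseChange (bcFst D i₀ g₀ K) (pullback.snd g₀ (D.map K.hom)) σ.hom (𝟙 _)
      (IsPullback.of_horiz_isIso ⟨w1⟩) (bcSnd D i₀ g₀ K) (pullback.fst g₀ (D.map K.hom)) w2 fs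
      (Coh.structureModule X₀) hfp y (hK (σ.hom y))
  · rintro ⟨j, φ, h⟩
    rw [TRAll_iff_forall_towerAt] at h ⊢
    intro x
    let v : pullback g₀ (c.π.app i₀) ⟶ pullback g₀ (D.map φ) :=
      pullback.map g₀ (c.π.app i₀) g₀ (D.map φ) (𝟙 _) (c.π.app j) (𝟙 _) (by simp) (by simp)
    have hv1 : v ≫ pullback.fst g₀ (D.map φ) = pullback.fst g₀ (c.π.app i₀) :=
      (pullback.lift_fst _ _ _).trans (Category.comp_id _)
    have hv2 : v ≫ pullback.snd g₀ (D.map φ) = pullback.snd g₀ (c.π.app i₀) ≫ c.π.app j :=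
      pullback.lift_snd _ _ _
    have hbig : IsPullback (v ≫ pullback.fst g₀ (D.map φ)) (pullback.snd g₀ (c.π.app i₀)) g₀
        (c.π.app j ≫ D.map φ) := by
      rw [hv1, c.w]
      exact IsPullback.of_hasPullback g₀ (c.π.app i₀)
    have hpb : IsPullback v (pullback.snd g₀ (c.π.app i₀)) (pullback.snd g₀ (D.map φ))
        (c.π.app j) :=
      IsPullback.of_right hbig hv2 (IsPullback.of_hasPullback g₀ (D.map φ))
    exact TowerAt.baseChange (pullback.snd g₀ (D.map φ)) (pullback.snd g₀ (c.π.app i₀)) v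
      (c.π.app j) hpb (pullback.fst g₀ (D.map φ)) (pullback.fst g₀ (c.π.app i₀)) hv1 fs
      (Coh.structureModule X₀) hfp x (h (v x))

end Groth.Agent.S5990
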