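import Groth.Statements.S5991
import Mathlib
import Groth.Agent.Lib.Helper75.CompletedModules

set_option autoImplicit false
universe u
open scoped TensorProduct
open EGA418

namespace Groth.Agent.S5991

/-- Let k be a field, R and S complete Noetherian local k-algebras such that the module of differentials
of the residue field of S over k is finite-dimensional, and let S be a finite R-algebra through a
k-algebra homomorphism R → S. Write m for the maximal ideal of S and complete m-adically. Then the
S-module Ω_{S/R} is m-adically complete (it is its own completion), and the sequence of completed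
modules (S ⊗_R Ω_{R/k})^ ⟶ (Ω_{S/k})^ ⟶ (Ω_{S/R})^ ⟶ 0, induced by the canonical maps S ⊗_R Ω_{R/k}
⟶ Ω_{S/k} ⟶ Ω_{S/R}, is exact: the second map is surjective and its kernel is the image of the
first. -/
theorem result (k R S : Type u) [Field k] [CommRing R] [IsNoetherianRing R]
    [IsLocalRing R] [Algebra k R] [IsAdicComplete (IsLocalRing.maximalIdeal R) R]
    [CommRing S] [IsNoetherianRing S] [IsLocalRing S] [Algebra k S]
    [IsAdicComplete (IsLocalRing.maximalIdeal S) S] [Algebra R S] [IsScalarTower k R S]
    [Module.Finite R S] [Module.Finite (IsLocalRing.ResidueField S) (Ω[IsLocalRing.ResidueField S⁄k])] :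
    IsAdicComplete (IsLocalRing.maximalIdeal S) (Ω[S⁄R]) ∧
      Function.Surjective (AdicCompletion.map (IsLocalRing.maximalIdeal S) (KaehlerDifferential.map k R S S)) ∧
      LinearMap.range (AdicCompletion.map (IsLocalRing.maximalIdeal S) (KaehlerDifferential.mapBaseChange k R S)) =
        LinearMap.ker (AdicCompletion.map (IsLocalRing.maximalIdeal S) (KaehlerDifferential.map k R S S)) := by
  have hfin : Module.Finite S (Ω[S⁄R]) := inferInstance
  have hmfg : (IsLocalRing.maximalIdeal S).FG :=
    (isNoetherianRing_iff_ideal_fg S).mp inferInstance _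
  have hq : Module.Finite S ((Ω[S⁄k]) ⧸
      (IsLocalRing.maximalIdeal S • ⊤ : Submodule S (Ω[S⁄k]))) :=
    Groth.Agent.Lib.Helper75.CompletedModules.finite_quot_kaehler k S hmfg
  have hN : Module.Finite S (AdicCompletion (IsLocalRing.maximalIdeal S) (Ω[S⁄k])) :=
    Groth.Agent.Lib.Helper75.CompletedModules.finite_adicCompletion_of_finite_quot
      (IsLocalRing.maximalIdeal S) (Ω[S⁄k])
  refine ⟨Groth.Agent.Lib.Helper75.CompletedModules.isAdicComplete_of_finite (Ω[S⁄R]),
    AdicCompletion.map_surjective (IsLocalRing.maximalIdeal S)
      (KaehlerDifferential.map_surjective k R S), ?_⟩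
  exact Groth.Agent.Lib.Helper75.CompletedModules.range_map_eq_ker_map
    (KaehlerDifferential.mapBaseChange k R S) (KaehlerDifferential.map k R S S)
    (KaehlerDifferential.exact_mapBaseChange_map k R S)
    (KaehlerDifferential.map_surjective k R S)

end Groth.Agent.S5991
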