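import Groth.Statements.S5995
import Groth.Agent.Lib.Helper7.RatSection.Main

set_option autoImplicit false
universe u
open CategoryTheory AlgebraicGeometry
open Unram

namespace Groth.Agent.S5995

/-- Let Y be a reduced scheme whose irreducible components form a locally finite family and all of whose
local rings are geometrically unibranch, f : X ⟶ Y a separated, locally of finite type, formally
unramified morphism, and u : U ⟶ X a section of f over a dense open U of Y which cannot be extended:
whenever v is a section of f over an open V agreeing with u on U ∩ V, V is contained in U (so U is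
the domain of definition of the rational section defined by u). Then the image u(U) is an open and
closed subset of X. -/
theorem result {X Y : Scheme.{u}} [IsReduced Y]
    (hcomp : LocallyFinite (fun Z : ↥(irreducibleComponents ↥Y) => (Z : Set ↥Y)))
    (f : X ⟶ Y) [IsSeparated f] [LocallyOfFiniteType f] [FormallyUnramified f]
    (U : Y.Opens) (hU : Dense (U : Set ↥Y)) (u : (U : Scheme.{u}) ⟶ X) (hu : u ≫ f = U.ι)
    (hY : ∀ y : Y, CAlg2.IsGeomUnibranch (Y.presheaf.stalk y))
    (hmax : ∀ (V : Y.Opens) (v : (V : Scheme.{u}) ⟶ X), v ≫ f = V.ι →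
      Y.homOfLE (inf_le_left : U ⊓ V ≤ U) ≫ u = Y.homOfLE (inf_le_right : U ⊓ V ≤ V) ≫ v → V ≤ U) :
    IsOpen (Set.range u) ∧ IsClosed (Set.range u) := by
  have hQ : MorphismProperty.IsStableUnderBaseChange
      (@FormallyUnramified ⊓ @LocallyOfFiniteType : MorphismProperty Scheme.{u}) := inferInstance
  have hpost : MorphismProperty.HasOfPostcompProperty @IsOpenImmersion
      (@FormallyUnramified ⊓ @LocallyOfFiniteType : MorphismProperty Scheme.{u}) := by
    rw [MorphismProperty.hasOfPostcompProperty_iff_le_diagonal]
    intro A B g hg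
    have h1 : FormallyUnramified g := hg.1
    have h2 : LocallyOfFiniteType g := hg.2
    change IsOpenImmersion (Limits.pullback.diagonal g)
    infer_instance
  have huopen : IsOpenImmersion u := by
    have h : IsOpenImmersion (u ≫ f) := by rw [hu]; infer_instance
    exact MorphismProperty.of_postcomp (W := @IsOpenImmersion)
      (W' := (@FormallyUnramified ⊓ @LocallyOfFiniteType : MorphismProperty Scheme.{u})) u f
      ⟨inferInstance, inferInstance⟩ h
  refine ⟨u.isOpenEmbedding.isOpen_range, ?_⟩
  -- closedness
  let XU : X.Opens := f ⁻¹ᵁ U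
  let fU : (XU : Scheme.{u}) ⟶ U := f ∣_ U
  have hfUι : fU ≫ U.ι = XU.ι ≫ f := morphismRestrict_ι f U
  have hfu : ∀ z : U, f (u z) = z.1 := by
    intro z
    rw [← Scheme.Hom.comp_apply, hu]; rfl
  let u' : (U : Scheme.{u}) ⟶ XU := IsOpenImmersion.lift XU.ι u (by
    rintro _ ⟨z, rfl⟩
    rw [Scheme.Opens.range_ι]
    change f (u z) ∈ U
    rw [hfu]
    exact z.2)
  have hu' : u' ≫ XU.ι = u := IsOpenImmersion.lift_fac _ _ _
  have hu'f : u' ≫ fU = 𝟙 _ := by
    rw [← cancel_mono U.ι, Category.assoc, hfUι, reassoc_of% hu', hu, Category.id_comp]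
  have hsep : IsSeparated fU := IsZariskiLocalAtTarget.restrict ‹_› U
  have hu'cl : IsClosedImmersion u' := by
    have h : IsClosedImmersion (u' ≫ fU) := by rw [hu'f]; infer_instance
    exact MorphismProperty.of_postcomp (W := @IsClosedImmersion) (W' := @IsSeparated) u' fU
      inferInstance h
  have hrcl : IsClosed (Set.range u') := u'.isClosedEmbedding.isClosed_range
  have hrange : Set.range u = Subtype.val '' (Set.range u') := by
    rw [← Set.range_comp]
    congr 1
    ext z
    change u z = XU.ι (u' z)
    rw [← Scheme.Hom.comp_apply, hu']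
  rw [← closure_subset_iff_isClosed]
  intro x hx
  obtain ⟨V, v, hxV, hvf, hagree⟩ :=
    Groth.Agent.Lib.Helper7.RatSection.exists_section_nhd hcomp f U hU u hu (f x) (hY _)
      ⟨x, hx, rfl⟩
  have hVU : V ≤ U := hmax V v hvf hagree
  have hxU : f x ∈ U := hVU hxV
  let x₀ : XU := ⟨x, hxU⟩
  have hx₀ : x₀ ∈ closure (Set.range u') := by
    have h0 : (x₀ : X) ∈ closure (Subtype.val '' (Set.range u')) := by
      rw [← hrange]; exact hx
    exact (closure_subtype (X := X) (p := fun a => a ∈ XU) (x := x₀)
      (s := Set.range u')).mpr h0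
  rw [hrcl.closure_eq] at hx₀
  rw [hrange]
  exact ⟨x₀, hx₀, rfl⟩

end Groth.Agent.S5995
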