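import Groth.Statements.S5996
import Groth.Agent.Lib.Helper7.RatSection.Main

set_option autoImplicit false
universe u
open CategoryTheory AlgebraicGeometry
open Unram

namespace Groth.Agent.S5996

/-- Let Y be a reduced scheme whose irreducible components form a locally finite family, f : X ⟶ Y a
separated, locally of finite type, formally unramified morphism such that f(T) is closed in Y for
every closed irreducible subset T of X, and u : U ⟶ X a section of f over a dense open U of Y. Then
for every point y of Y whose local ring is geometrically unibranch there are an open V ∋ y and a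
section v : V ⟶ X of f agreeing with u on U ∩ V: the rational section defined by u is defined at
every geometrically unibranch point. -/
theorem result {X Y : Scheme.{u}} [IsReduced Y]
    (hcomp : LocallyFinite (fun Z : ↥(irreducibleComponents ↥Y) => (Z : Set ↥Y)))
    (f : X ⟶ Y) [IsSeparated f] [LocallyOfFiniteType f] [FormallyUnramified f]
    (U : Y.Opens) (hU : Dense (U : Set ↥Y)) (u : (U : Scheme.{u}) ⟶ X) (hu : u ≫ f = U.ι)
    (hcl : ∀ T : Set ↥X, IsClosed T → IsIrreducible T → IsClosed (f '' T))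
    (y : Y) (hy : CAlg2.IsGeomUnibranch (Y.presheaf.stalk y)) :
    ∃ (V : Y.Opens) (v : (V : Scheme.{u}) ⟶ X), y ∈ V ∧ v ≫ f = V.ι ∧
      Y.homOfLE (inf_le_left : U ⊓ V ≤ U) ≫ u = Y.homOfLE (inf_le_right : U ⊓ V ≤ V) ≫ v := by
  have hdom := Groth.Agent.Lib.Helper7.RatSection.isDomain_stalk_of_isGeomUnibranch Y y hy
  obtain ⟨Y₀, hyY₀, hint⟩ := Groth.Agent.Lib.Helper7.RatSection.exists_integral_open_nhd Y hcomp y
  set η := genericPoint (Y₀ : Scheme.{u}) with hη
  have hηU : η.1 ∈ U := by
    obtain ⟨z, hzY₀, hzU⟩ := hU.inter_open_nonempty Y₀ Y₀.2 ⟨y, hyY₀⟩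
    have h1 : η ⤳ (⟨z, hzY₀⟩ : Y₀) := genericPoint_specializes _
    have h2 : η.1 ⤳ z := (subtype_specializes_iff η ⟨z, hzY₀⟩).mp h1
    exact h2.mem_open U.2 hzU
  let ηU : U := ⟨η.1, hηU⟩
  have hfξ : f (u ηU) = η.1 := by
    rw [← Scheme.Hom.comp_apply, hu]; rfl
  have hηy : η.1 ⤳ y := by
    have h1 : η ⤳ (⟨y, hyY₀⟩ : Y₀) := genericPoint_specializes _
    exact (subtype_specializes_iff η ⟨y, hyY₀⟩).mp h1
  have hTcl : IsClosed (f '' closure ({u ηU} : Set X)) :=
    hcl _ isClosed_closure isIrreducible_singleton.closure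
  have hymem : y ∈ f '' closure ({u ηU} : Set X) := by
    have h0 : η.1 ∈ f '' closure ({u ηU} : Set X) := ⟨u ηU, subset_closure rfl, hfξ⟩
    exact hηy.mem_closed hTcl h0
  obtain ⟨x, hxT, hxy⟩ := hymem
  refine Groth.Agent.Lib.Helper7.RatSection.exists_section_nhd hcomp f U hU u hu y hy
    ⟨x, ?_, hxy⟩
  have hsub : ({u ηU} : Set X) ⊆ Set.range u := Set.singleton_subset_iff.mpr ⟨ηU, rfl⟩
  exact closure_mono hsub hxT

end Groth.Agent.S5996
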