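import Groth.Statements.S5998
import Mathlib
import Groth.Agent.S4580

set_option autoImplicit false
universe u
open SGA1

namespace Groth.Agent.S5998

open TensorProduct KaehlerDifferential Groth.Agent.Lib.Helper62.JacobianFS

theorem formallySmooth_congr {R S : Type u} [CommRing R] [CommRing S] [Algebra R S]
    (P P' : Ideal S) [P.IsPrime] [P'.IsPrime] (h : P = P') :
    Algebra.FormallySmooth R (Localization.AtPrime P) ↔
      Algebra.FormallySmooth R (Localization.AtPrime P') := by
  subst h
  exact Iff.rfl

theorem aux (R A : Type u) [CommRing R] [CommRing A] [IsNoetherianRing R] [Algebra R A]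
    [Algebra.Smooth R A] (I q : Ideal A) [q.IsPrime] (hIq : I ≤ q)
    [(q.map (Ideal.Quotient.mk I)).IsPrime] :
    Algebra.FormallySmooth R (Localization.AtPrime (q.map (Ideal.Quotient.mk I))) ↔
      ∃ s : Finset A, (↑s : Set A) ⊆ (I : Set A) ∧
      Ideal.map (algebraMap A (Localization.AtPrime q)) I =
        Ideal.span ((algebraMap A (Localization.AtPrime q)) '' (↑s : Set A)) ∧
      LinearIndependent q.ResidueField
        (fun g : ↥s => (1 : q.ResidueField) ⊗ₜ[A] KaehlerDifferential.D R A (g : A)) := by
  classical
  have hfp : Algebra.FinitePresentation R A := inferInstance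
  have hft : Algebra.FiniteType R A := inferInstance
  have : IsNoetherianRing A := Algebra.FiniteType.isNoetherianRing R A
  have : Algebra.FormallySmooth R A := inferInstance
  rw [Groth.Agent.S4580.main I q hIq]
  constructor
  · rintro ⟨m, f, D, hfI, hspan, hdet⟩
    have hinj : Function.Injective f := by
      intro i i' hii
      by_contra hne
      apply hdet
      have : Matrix.det (Matrix.of fun i j => D j (f i)) = 0 :=
        Matrix.det_zero_of_row_eq hne (by ext j; simp [hii])
      rw [this]; exact q.zero_mem
    refine ⟨Finset.univ.image f, ?_, ?_, ?_⟩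
    · intro a ha
      simp only [Finset.coe_image, Finset.coe_univ, Set.image_univ, Set.mem_range] at ha
      obtain ⟨i, rfl⟩ := ha
      exact hfI i
    · rw [hspan]
      congr 1
      ext x
      simp
    · let e : Fin m ≃ ↥(Finset.univ.image f) :=
        Equiv.ofBijective (fun i => ⟨f i, Finset.mem_image_of_mem f (Finset.mem_univ i)⟩) (by
          constructor
          · intro i i' h
            exact hinj (Subtype.ext_iff.mp h)
          · rintro ⟨a, ha⟩
            obtain ⟨i, -, rfl⟩ := Finset.mem_image.mp ha
            exact ⟨i, rfl⟩)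
      rw [← linearIndependent_equiv e]
      -- functionals
      let μ : Fin m → q.ResidueField ⊗[A] Ω[A⁄R] →ₗ[q.ResidueField] q.ResidueField := fun j =>
        (TensorProduct.AlgebraTensorModule.rid A q.ResidueField q.ResidueField).toLinearMap ∘ₗ
          ((D j).liftKaehlerDifferential.baseChange q.ResidueField)
      have hμ : ∀ i j, μ j ((1 : q.ResidueField) ⊗ₜ[A] KaehlerDifferential.D R A (f i)) =
          algebraMap A q.ResidueField (D j (f i)) := by
        intro i j
        simp only [μ, LinearMap.coe_comp, LinearEquiv.coe_coe, Function.comp_apply,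
          LinearMap.baseChange_tmul, Derivation.liftKaehlerDifferential_comp_D,
          TensorProduct.AlgebraTensorModule.rid_tmul]
        rw [Algebra.smul_def, mul_one]
      rw [Fintype.linearIndependent_iff]
      intro c hc
      let M : Matrix (Fin m) (Fin m) q.ResidueField :=
        (algebraMap A q.ResidueField).mapMatrix (Matrix.of fun i j => D j (f i))
      have hM : M.det ≠ 0 := by
        rw [← RingHom.map_det]
        intro h0
        apply hdet
        exact (Ideal.algebraMap_residueField_eq_zero).mp h0
      have hvm : Matrix.vecMul c M = 0 := by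
        ext j
        have := congrArg (μ j) hc
        rw [map_sum, map_zero] at this
        rw [Pi.zero_apply, ← this]
        simp only [Matrix.vecMul, dotProduct, M, RingHom.mapMatrix_apply, Matrix.map_apply,
          Matrix.of_apply]
        refine Finset.sum_congr rfl fun i _ => ?_
        rw [Function.comp_apply, map_smul, smul_eq_mul]
        congr 1
        exact (hμ i j).symm
      have := Matrix.eq_zero_of_vecMul_eq_zero hM hvm
      intro i
      rw [this, Pi.zero_apply]
  · rintro ⟨s, hsI, hspan, hli⟩
    let m := s.card
    let e : Fin m ≃ ↥s := s.equivFin.symm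
    let f : Fin m → A := fun i => (e i : A)
    let v : Fin m → q.ResidueField ⊗[A] Ω[A⁄R] :=
      fun i => (1 : q.ResidueField) ⊗ₜ[A] KaehlerDifferential.D R A (f i)
    have hli' : LinearIndependent q.ResidueField v := hli.comp e e.injective
    obtain ⟨g, hg⟩ := LinearMap.exists_leftInverse_of_injective
      (Finsupp.linearCombination q.ResidueField v) (LinearMap.ker_eq_bot.mpr hli')
    let μ : Fin m → Ω[A⁄R] →ₗ[A] q.ResidueField := fun j =>
      (((Finsupp.lapply j) ∘ₗ g).restrictScalars A) ∘ₗ
        (TensorProduct.mk A q.ResidueField (Ω[A⁄R]) 1)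
    have hμ : ∀ i j, μ j (KaehlerDifferential.D R A (f i)) = if i = j then 1 else 0 := by
      intro i j
      have h1 : g (v i) = Finsupp.single i 1 := by
        have := LinearMap.congr_fun hg (Finsupp.single i 1)
        simpa using this
      show (g (v i)) j = _
      rw [h1, Finsupp.single_apply]
    obtain ⟨ν, hν⟩ := exists_linearMaps_det_notMem q
      (fun i => KaehlerDifferential.D R A (f i)) μ hμ
    refine ⟨m, f, fun j => (ν j).compDer (KaehlerDifferential.D R A), ?_, ?_, hν⟩
    · intro i
      exact hsI (e i).2
    · rw [hspan]
      congr 1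
      ext x
      simp only [Set.mem_image, Finset.mem_coe, Set.mem_range]
      constructor
      · rintro ⟨a, ha, rfl⟩
        exact ⟨e.symm ⟨a, ha⟩, by simp [f]⟩
      · rintro ⟨i, rfl⟩
        exact ⟨f i, (e i).2, rfl⟩


open TensorProduct in
/-- Let R be a Noetherian ring, A a smooth R-algebra, I an ideal of A, P a prime ideal of A/I and q its
preimage in A. Then A/I is smooth over R at P (that is, the local ring of A/I at P is formally
smooth over R) exactly when there are finitely many elements g_1, ..., g_p of I generating the ideal
I·A_q whose differentials dg_i have linearly independent images in κ(q) ⊗_A Ω_{A/R}. -/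
theorem result
    (R A : Type u) [CommRing R] [CommRing A] [IsNoetherianRing R] [Algebra R A] [Algebra.Smooth R A]
    (I : Ideal A) (P : Ideal (A ⧸ I)) [P.IsPrime] :
    letI q : Ideal A := P.comap (Ideal.Quotient.mk I)
    Algebra.IsSmoothAt R P ↔ ∃ s : Finset A, (↑s : Set A) ⊆ (I : Set A) ∧
      Ideal.map (algebraMap A (Localization.AtPrime q)) I =
        Ideal.span ((algebraMap A (Localization.AtPrime q)) '' (↑s : Set A)) ∧
      LinearIndependent q.ResidueField
        (fun g : ↥s => (1 : q.ResidueField) ⊗ₜ[A] KaehlerDifferential.D R A (g : A)) := by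
  have hP : (P.comap (Ideal.Quotient.mk I)).map (Ideal.Quotient.mk I) = P :=
    Ideal.map_comap_of_surjective _ Ideal.Quotient.mk_surjective P
  have hIq : I ≤ P.comap (Ideal.Quotient.mk I) := by
    intro x hx
    show Ideal.Quotient.mk I x ∈ P
    rw [Ideal.Quotient.eq_zero_iff_mem.mpr hx]
    exact P.zero_mem
  have : ((P.comap (Ideal.Quotient.mk I)).map (Ideal.Quotient.mk I)).IsPrime :=
    hP.symm ▸ inferInstance
  have h1 := aux R A I (P.comap (Ideal.Quotient.mk I)) hIq
  rw [formallySmooth_congr _ P hP] at h1
  exact h1

end Groth.Agent.S5998
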