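import Groth.Statements.S5999
import Mathlib
import Groth.Agent.Lib.Helper94.QuotLoc

set_option autoImplicit false
universe u
open SGA1

namespace Groth.Agent.S5999

open IsLocalRing TensorProduct KaehlerDifferential Groth.Agent.Lib.Helper94

/-- the comparison iso `K ⊗[A_q] Ω[A_q⁄R] ≃ K ⊗[A] Ω[A⁄R]` on differentials -/
theorem exists_equiv_kaehler (R A : Type u) [CommRing R] [CommRing A] [Algebra R A]
    (q : Ideal A) [q.IsPrime] (K : Type u) [Field K] [Algebra (Localization.AtPrime q) K]
    [Algebra A K] [IsScalarTower A (Localization.AtPrime q) K] :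
    ∃ e : K ⊗[Localization.AtPrime q] Ω[Localization.AtPrime q⁄R] ≃ₗ[K] K ⊗[A] Ω[A⁄R],
      ∀ a : A, e ((1 : K) ⊗ₜ D R (Localization.AtPrime q) (algebraMap A _ a)) =
        (1 : K) ⊗ₜ D R A a := by
  haveI : Algebra.FormallyEtale A (Localization.AtPrime q) :=
    Algebra.FormallyEtale.of_isLocalization q.primeCompl
  let e1 := tensorKaehlerEquivOfFormallyEtale R A (Localization.AtPrime q)
  let e2 : K ⊗[Localization.AtPrime q] Ω[Localization.AtPrime q⁄R] ≃ₗ[K]
      K ⊗[Localization.AtPrime q] (Localization.AtPrime q ⊗[A] Ω[A⁄R]) :=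
    (e1.symm).baseChange _ K _ _
  let e3 := AlgebraTensorModule.cancelBaseChange A (Localization.AtPrime q) K K Ω[A⁄R]
  refine ⟨e2.trans e3, fun a => ?_⟩
  simp only [LinearEquiv.trans_apply, e2, LinearEquiv.baseChange_tmul]
  rw [tensorKaehlerEquivOfFormallyEtale_symm_D_algebraMap,
    AlgebraTensorModule.cancelBaseChange_tmul, one_smul]

open TensorProduct in
/-- Let R be a Noetherian ring, A an R-algebra of finite type, F an element of A, P a prime ideal of
A/(F) and q its preimage in A, and suppose A is smooth over R at q. Then the hypersurface A/(F) is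
smooth over R at P if and only if either F is zero in the local ring A_q (F vanishes on a
neighbourhood of q) or the image dF(q) of the differential of F in κ(q) ⊗_A Ω_{A/R} is nonzero. -/
theorem result
    (R A : Type u) [CommRing R] [CommRing A] [IsNoetherianRing R] [Algebra R A] [Algebra.FiniteType R A]
    (F : A) (P : Ideal (A ⧸ Ideal.span ({F} : Set A))) [P.IsPrime]
    (hX : Algebra.IsSmoothAt R (P.comap (Ideal.Quotient.mk (Ideal.span ({F} : Set A))))) :
    letI q : Ideal A := P.comap (Ideal.Quotient.mk (Ideal.span ({F} : Set A)))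
    Algebra.IsSmoothAt R P ↔ algebraMap A (Localization.AtPrime q) F = 0 ∨
      (1 : q.ResidueField) ⊗ₜ[A] KaehlerDifferential.D R A F ≠ 0 := by
  let q : Ideal A := P.comap (Ideal.Quotient.mk (Ideal.span ({F} : Set A)))
  let J : Ideal A := Ideal.span ({F} : Set A)
  let Aq := Localization.AtPrime q
  let S := Localization.AtPrime P
  let g : Aq →+* S := QuotLoc.locHom J P
  have hg : Function.Surjective g := QuotLoc.locHom_surjective J P
  have hkerg : RingHom.ker g = J.map (algebraMap A Aq) := QuotLoc.ker_locHom J P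
  letI : Algebra Aq S := g.toAlgebra
  haveI : IsScalarTower R Aq S := IsScalarTower.of_algebraMap_eq (fun r => by
    show algebraMap R S r = g (algebraMap R Aq r)
    rw [IsScalarTower.algebraMap_apply R A Aq, QuotLoc.locHom_algebraMap,
      IsScalarTower.algebraMap_apply R (A ⧸ J) S, IsScalarTower.algebraMap_apply R A (A ⧸ J)]
    rfl)
  haveI : Algebra.FormallySmooth R Aq := hX
  haveI : Module.Free Aq Ω[Aq⁄R] := Module.free_of_flat_of_isLocalRing
  let K := q.ResidueField
  have hFq : F ∈ q := by
    show Ideal.Quotient.mk J F ∈ P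
    rw [Ideal.Quotient.eq_zero_iff_mem.mpr (Ideal.mem_span_singleton_self F)]
    exact Ideal.zero_mem _
  have hle : RingHom.ker g ≤ RingHom.ker (algebraMap Aq K) := by
    rw [hkerg, Ideal.map_le_iff_le_comap, Ideal.span_le]
    intro x hx
    have hx' : x = F := hx
    rw [hx']
    show algebraMap A Aq F ∈ RingHom.ker (algebraMap Aq K)
    rw [show RingHom.ker (algebraMap Aq K) = maximalIdeal Aq from ker_residue,
      ← Localization.AtPrime.map_eq_maximalIdeal]
    exact Ideal.mem_map_of_mem _ hFq
  let h : S →+* K := g.liftOfSurjective hg ⟨algebraMap Aq K, hle⟩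
  letI : Algebra S K := h.toAlgebra
  haveI : IsScalarTower Aq S K := IsScalarTower.of_algebraMap_eq (fun x =>
    (g.liftOfSurjective_comp_apply hg ⟨algebraMap Aq K, hle⟩ x).symm)
  have h₃ : maximalIdeal S ≤ RingHom.ker (algebraMap S K) := by
    intro y hy
    obtain ⟨x, rfl⟩ := hg y
    have hx : x ∈ maximalIdeal Aq := by
      haveI := IsLocalHom.of_surjective g hg
      rw [← IsLocalRing.maximalIdeal_comap g]
      exact hy
    rw [RingHom.mem_ker]
    show h (g x) = 0
    rw [g.liftOfSurjective_comp_apply hg ⟨algebraMap Aq K, hle⟩ x]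
    exact (residue_eq_zero_iff x).mpr hx
  have hkerS : RingHom.ker (algebraMap Aq S) = J.map (algebraMap A Aq) := hkerg
  have hfg : (RingHom.ker (algebraMap Aq S)).FG := by
    rw [hkerS]
    exact Ideal.FG.map (I := J) ⟨{F}, by simp [J]⟩ (algebraMap A Aq)
  have crit := Algebra.FormallySmooth.iff_injective_cotangentComplexBaseChange (R := R) (S := S)
    Aq K hg hfg h₃
  show Algebra.FormallySmooth R S ↔ _
  rw [crit]
  have hFker : algebraMap A Aq F ∈ RingHom.ker (algebraMap Aq S) := by
    rw [hkerS]; exact Ideal.mem_map_of_mem _ (Ideal.mem_span_singleton_self F)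
  let Fk : RingHom.ker (algebraMap Aq S) := ⟨algebraMap A Aq F, hFker⟩
  have hrep : ∀ z : K ⊗[Aq] (RingHom.ker (algebraMap Aq S)), ∃ c : K, z = c ⊗ₜ Fk := by
    intro z
    induction z using TensorProduct.induction_on with
    | zero => exact ⟨0, (TensorProduct.zero_tmul _ _).symm⟩
    | tmul k y =>
      obtain ⟨y, hy⟩ := y
      have hy' : y ∈ Ideal.span ({algebraMap A Aq F} : Set Aq) := by
        have := hy
        rw [hkerS, Ideal.map_span, Set.image_singleton] at this
        exact this
      obtain ⟨a, rfl⟩ := Ideal.mem_span_singleton'.mp hy'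
      refine ⟨k * algebraMap Aq K a, ?_⟩
      have : (⟨a * algebraMap A Aq F, hy⟩ : RingHom.ker (algebraMap Aq S)) = a • Fk :=
        Subtype.ext rfl
      rw [this, TensorProduct.tmul_smul, TensorProduct.smul_tmul', Algebra.smul_def, mul_comm]
    | add z z' hz hz' =>
      obtain ⟨c, rfl⟩ := hz
      obtain ⟨c', rfl⟩ := hz'
      exact ⟨c + c', (TensorProduct.add_tmul _ _ _).symm⟩
  obtain ⟨e, he⟩ := exists_equiv_kaehler R A q K
  have himg : ∀ c : K, e (cotangentComplexBaseChange R S Aq K (c ⊗ₜ Fk)) =
      c • ((1 : K) ⊗ₜ[A] D R A F) := by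
    intro c
    rw [cotangentComplexBaseChange_tmul, kerToTensor_apply, map_smul, he]
  constructor
  · intro hinj
    by_contra hcon
    push Not at hcon
    obtain ⟨hF0, hd0⟩ := hcon
    have h1 : (1 : K) ⊗ₜ[Aq] Fk = 0 := hinj (by
      apply e.injective
      rw [himg, hd0, smul_zero, map_zero, map_zero])
    haveI : Module.Finite Aq (RingHom.ker (algebraMap Aq S)) := Module.Finite.of_fg hfg
    have hsub : Subsingleton (K ⊗[Aq] (RingHom.ker (algebraMap Aq S))) := by
      refine ⟨fun z z' => ?_⟩
      obtain ⟨c, rfl⟩ := hrep z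
      obtain ⟨c', rfl⟩ := hrep z'
      have h2 : ∀ c : K, c ⊗ₜ[Aq] Fk = 0 := fun c => by
        have : c ⊗ₜ[Aq] Fk = c • ((1 : K) ⊗ₜ[Aq] Fk) := by
          rw [TensorProduct.smul_tmul', smul_eq_mul, mul_one]
        rw [this, h1, smul_zero]
      rw [h2, h2]
    have hsub' : Subsingleton (RingHom.ker (algebraMap Aq S)) :=
      IsLocalRing.subsingleton_tensorProduct.mp hsub
    apply hF0
    have := Subsingleton.elim Fk 0
    exact congrArg Subtype.val this
  · rintro (hF0 | hd)
    · intro z z' _
      obtain ⟨c, rfl⟩ := hrep z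
      obtain ⟨c', rfl⟩ := hrep z'
      have : Fk = 0 := Subtype.ext hF0
      rw [this, TensorProduct.tmul_zero, TensorProduct.tmul_zero]
    · intro z z' hzz
      obtain ⟨c, rfl⟩ := hrep z
      obtain ⟨c', rfl⟩ := hrep z'
      have h2 := congrArg e hzz
      rw [himg, himg] at h2
      have h3 : c = c' := smul_left_injective K hd h2
      rw [h3]

end Groth.Agent.S5999
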