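import Groth.Statements.S6000
import Groth.Agent.H76.NilFlat

set_option autoImplicit false
universe u v
open SGA1

namespace Groth.Agent.S6000

open TensorProduct in
theorem result (A : Type u) [CommRing A]
    (I : Ideal A) (hI : IsNilpotent I) (M : Type v) [AddCommGroup M] [Module A M] :
    Module.Flat A M ↔ Module.Flat (A ⧸ I) ((A ⧸ I) ⊗[A] M) ∧
      Function.Injective (LinearMap.rTensor M (Submodule.subtype I)) := by
  constructor
  · intro hM
    exact ⟨inferInstance,
      Module.Flat.rTensor_preserves_injective_linearMap _ (Submodule.injective_subtype I)⟩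
  · rintro ⟨h1, h2⟩
    exact Groth.Agent.H76.NilFlat.flat_of_nilpotent I M h2 hI

end Groth.Agent.S6000
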