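import Groth.Statements.S6008
import Mathlib
import Groth.Agent.Lib.Helper43.ConstPts
import Groth.Agent.Lib.Helper43.ASAlg
import Groth.Agent.Lib.Helper43.KumExact
import Groth.Agent.Lib.Helper43.MuSheaf
import Groth.Agent.Lib.Helper43.ASCover

set_option autoImplicit false
universe u
open CategoryTheory AlgebraicGeometry MonoidalCategory CartesianMonoidalCategory MonObj GrpObj
open SGA1t

namespace Groth.Agent.S6008

open Groth.Agent.Lib.Helper43

section Helpers

section Frob

variable {R : Type*} [CommRing R] (p : ℕ) [Fact p.Prime] (hp : (p : R) = 0)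
include hp

lemma frob_add (x y : R) : (x + y) ^ p = x ^ p + y ^ p := by
  obtain ⟨r, hr⟩ := exists_add_pow_prime_eq (Fact.out : p.Prime) x y
  rw [hr, hp]
  ring

lemma frob_sub (x y : R) : (x - y) ^ p = x ^ p - y ^ p := by
  have := frob_add p hp (x - y) y
  rw [sub_add_cancel] at this
  rw [this]
  ring

lemma frob_natCast (k : ℕ) : ((k : R)) ^ p = k := by
  have h : ((k : ZMod p)) ^ p = k := ZMod.pow_card _
  have := congrArg (zmodHom p hp) h
  rw [map_pow, map_natCast] at this
  exact this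

end Frob

variable (p : ℕ) [Fact p.Prime] {S : Scheme.{u}}

lemma natCast_over (hp : (p : Γ(S, ⊤)) = 0) (W : Over S) : (p : Γ(W.left, ⊤)) = 0 := by
  have := congrArg W.hom.appTop.hom hp
  simpa using this

variable {p}
variable (F : Red.Ga S ⟶ Red.Ga S)

lemma comp_P {W : Over S} (x : W ⟶ Red.Ga S) : x ≫ (𝟙 (Red.Ga S) * F⁻¹) = x * (x ≫ F)⁻¹ := by
  rw [MonObj.comp_mul, GrpObj.comp_inv, Category.comp_id]

variable (hF : ∀ (T : Over S) (x : T ⟶ Red.Ga S), Red.gaFn (x ≫ F) = Red.gaFn x ^ p)
include hF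

lemma gaFn_P {W : Over S} (x : W ⟶ Red.Ga S) :
    Red.gaFn (x ≫ (𝟙 (Red.Ga S) * F⁻¹)) = Red.gaFn x - Red.gaFn x ^ p := by
  rw [comp_P, gaFn_mul, gaFn_inv, hF]
  ring

variable (hp : (p : Γ(S, ⊤)) = 0)
include hp

lemma isMonHom_P : IsMonHom (𝟙 (Red.Ga S) * F⁻¹) where
  one_hom := by
    have h : (η : 𝟙_ (Over S) ⟶ Red.Ga S) = 1 := by
      rw [Hom.one_def]
      simp
    rw [h]
    apply gaFn_injective
    rw [gaFn_P F hF, gaFn_one, zero_pow (Fact.out : p.Prime).ne_zero, sub_zero]
  mul_hom := by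
    have h : (μ : Red.Ga S ⊗ Red.Ga S ⟶ Red.Ga S) = fst _ _ * snd _ _ := by
      rw [Hom.mul_def]
      simp
    rw [h]
    apply gaFn_injective
    rw [gaFn_P F hF, gaFn_mul, MonObj.comp_mul, gaFn_mul]
    simp only [tensorHom_fst, tensorHom_snd]
    rw [gaFn_P F hF, gaFn_P F hF, frob_add p (natCast_over p hp _)]
    ring

omit hF hp in
lemma eq_one_of_mul_self {W : Over S} {G : Over S} [GrpObj G] (x : W ⟶ G) (h : x * x = x) : x = 1 := by
  have h4 := congrArg (fun t => x⁻¹ * t) h
  simpa using h4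

variable {G' : Over S} [GrpObj G'] (e : G' ≅ TwC.const S (Multiplicative (ZMod p)))
    (he : TwC.IsConstGrp (Multiplicative (ZMod p)) G' e)
include he

omit hF hp in
lemma pt_one : TwC.pt S (Multiplicative (ZMod p)) 1 ≫ e.inv = 1 := by
  apply eq_one_of_mul_self
  rw [he 1 1, _root_.mul_one]

omit hF hp in
lemma pt_pow (m : Multiplicative (ZMod p)) (k : ℕ) :
    TwC.pt S (Multiplicative (ZMod p)) (m ^ k) ≫ e.inv =
      (TwC.pt S (Multiplicative (ZMod p)) m ≫ e.inv) ^ k := by
  induction k with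
  | zero => rw [pow_zero, pow_zero, pt_one e he]
  | succ k ih => rw [pow_succ, pow_succ, ← he, ih]

variable (i : G' ⟶ Red.Ga S) [IsMonHom i]
    (hi : Red.gaFn (TwC.pt S (Multiplicative (ZMod p)) (Multiplicative.ofAdd 1) ≫ e.inv ≫ i) = 1)
include hi

omit hF hp in
lemma gaFn_pt_natCast (k : ℕ) :
    Red.gaFn (TwC.pt S (Multiplicative (ZMod p)) (Multiplicative.ofAdd (k : ZMod p)) ≫ e.inv ≫ i) = k := by
  have h1 : Multiplicative.ofAdd (k : ZMod p) = (Multiplicative.ofAdd (1 : ZMod p)) ^ k := by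
    rw [← ofAdd_nsmul, nsmul_one]
  rw [h1, ← Category.assoc, pt_pow e he, MonObj.pow_comp _ _ i, gaFn_pow, Category.assoc, hi, nsmul_one]

omit hF hp in
lemma gaFn_pt (m : Multiplicative (ZMod p)) :
    Red.gaFn (TwC.pt S (Multiplicative (ZMod p)) m ≫ e.inv ≫ i) = ((Multiplicative.toAdd m).val : ℕ) := by
  have h1 : m = Multiplicative.ofAdd (((Multiplicative.toAdd m).val : ℕ) : ZMod p) := by
    rw [ZMod.natCast_zmod_val]
    rfl
  conv_lhs => rw [h1]
  exact gaFn_pt_natCast e he i hi _

lemma comp_P_eq_one : i ≫ (𝟙 (Red.Ga S) * F⁻¹) = 1 := by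
  rw [← cancel_epi e.inv]
  apply const_hom_ext
  intro m
  rw [MonObj.comp_one, MonObj.comp_one]
  apply gaFn_injective
  rw [← Category.assoc, ← Category.assoc, gaFn_P F hF, Category.assoc, gaFn_pt e he i hi, gaFn_one,
    frob_natCast p (natCast_over p hp _), sub_self]

omit hF hp in
lemma gaFn_res_of_const {W : Over S} (z' : W ⟶ TwC.const S (Multiplicative (ZMod p)))
    (U : W.left.Opens) (m : Multiplicative (ZMod p))
    (h : resIncl W U ≫ z' = toUnit (resOver W U) ≫ TwC.pt S (Multiplicative (ZMod p)) m) :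
    (resIncl W U).left.appTop (Red.gaFn (z' ≫ e.inv ≫ i)) =
      (((Multiplicative.toAdd m).val : ℕ) : Γ((resOver W U).left, ⊤)) := by
  rw [← gaFn_comp, ← Category.assoc, h, Category.assoc, gaFn_comp, gaFn_pt e he i hi, map_natCast]

omit hF in
lemma mono_i : Mono i := by
  constructor
  intro W z₁ z₂ h
  rw [← cancel_mono e.hom]
  apply eq_of_piece_le
  intro m x hx
  have hx2 : x ∈ (⨆ m', piece (z₂ ≫ e.hom) m' : W.left.Opens) := by
    rw [iSup_piece]; trivial
  rw [TopologicalSpace.Opens.mem_iSup] at hx2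
  obtain ⟨m', hm'⟩ := hx2
  by_cases hmm : m' = m
  · rw [← hmm]; exact hm'
  exfalso
  let U : W.left.Opens := piece (z₁ ≫ e.hom) m ⊓ piece (z₂ ≫ e.hom) m'
  have hxU : x ∈ U := ⟨hx, hm'⟩
  have h1 := gaFn_res_of_const e he i hi (z₁ ≫ e.hom) U m
    (resIncl_comp_of_le_piece _ m U inf_le_left)
  have h2 := gaFn_res_of_const e he i hi (z₂ ≫ e.hom) U m'
    (resIncl_comp_of_le_piece _ m' U inf_le_right)
  have e1 : (z₁ ≫ e.hom) ≫ e.inv ≫ i = z₁ ≫ i := by simp
  have e2 : (z₂ ≫ e.hom) ≫ e.inv ≫ i = z₂ ≫ i := by simp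
  rw [e1] at h1
  rw [e2, ← h, h1] at h2
  -- the two values differ by a unit
  let φ := zmodHom p (natCast_over p hp (resOver W U))
  have h3 : φ (Multiplicative.toAdd m) = φ (Multiplicative.toAdd m') := by
    have a1 : φ (Multiplicative.toAdd m) = (((Multiplicative.toAdd m).val : ℕ) : Γ((resOver W U).left, ⊤)) := by
      conv_lhs => rw [← ZMod.natCast_zmod_val (Multiplicative.toAdd m)]
      exact map_natCast φ _
    have a2 : φ (Multiplicative.toAdd m') = (((Multiplicative.toAdd m').val : ℕ) : Γ((resOver W U).left, ⊤)) := by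
      conv_lhs => rw [← ZMod.natCast_zmod_val (Multiplicative.toAdd m')]
      exact map_natCast φ _
    rw [a1, a2, h2]
  have hne : Multiplicative.toAdd m - Multiplicative.toAdd m' ≠ 0 := by
    intro h0
    apply hmm
    have := sub_eq_zero.mp h0
    exact (Multiplicative.toAdd.injective this).symm
  have hu : IsUnit (φ (Multiplicative.toAdd m - Multiplicative.toAdd m')) :=
    (IsUnit.mk0 _ hne).map φ
  rw [map_sub, h3, sub_self] at hu
  have hsub : Subsingleton Γ(U.toScheme, ⊤) := by
    have h01 : (0 : Γ((resOver W U).left, ⊤)) = 1 := by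
      obtain ⟨v, hv⟩ := hu
      have := v.mul_inv
      rw [hv, zero_mul] at this
      exact this
    exact subsingleton_of_zero_eq_one h01
  have hemp := MuConst.isEmpty_of_subsingleton_Γ U.toScheme
  exact hemp.false ⟨x, hxU⟩

open scoped Function in
lemma key {W : Over S} (a b : W ⟶ Red.Ga S)
    (hab : a ≫ (𝟙 (Red.Ga S) * F⁻¹) = b ≫ (𝟙 (Red.Ga S) * F⁻¹)) :
    ∃ z : W ⟶ G', a * (z ≫ i) = b := by
  have hpW := natCast_over p hp W
  let d : Γ(W.left, ⊤) := Red.gaFn b - Red.gaFn a
  have hd : d ^ p = d := by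
    have h1 := congrArg Red.gaFn hab
    rw [gaFn_P F hF, gaFn_P F hF] at h1
    change (Red.gaFn b - Red.gaFn a) ^ p = Red.gaFn b - Red.gaFn a
    rw [frob_sub p hpW]
    linear_combination h1
  let φ := zmodHom p hpW
  let U : Multiplicative (ZMod p) → W.left.Opens := fun m =>
    W.left.basicOpen (lag φ d (Multiplicative.toAdd m))
  have hcov : ⨆ m, U m = ⊤ := by
    rw [eq_top_iff]
    intro x _
    obtain ⟨k, -, hk⟩ := MuConst.exists_mem_basicOpen_of_sum_eq_one Finset.univ (lag φ d) (sum_lag φ d) x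
    rw [TopologicalSpace.Opens.mem_iSup]
    exact ⟨Multiplicative.ofAdd k, hk⟩
  have hdisj : Pairwise (Disjoint on U) := by
    intro m m' hmm
    change Disjoint (U m) (U m')
    rw [disjoint_iff]
    change W.left.basicOpen _ ⊓ W.left.basicOpen _ = ⊥
    rw [← Scheme.basicOpen_mul, lag_mul_lag φ d hd (fun h => hmm (Multiplicative.toAdd.injective h)),
      Scheme.basicOpen_zero]
  obtain ⟨z', hz'⟩ := exists_const_pt U hcov hdisj
  refine ⟨z' ≫ e.inv, ?_⟩
  apply gaFn_injective
  rw [gaFn_mul]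
  have hmain : Red.gaFn ((z' ≫ e.inv) ≫ i) = d := by
    refine Scheme.OpenCover.ext_elem _ _ (W.left.openCoverOfIsOpenCover U hcov) ?_
    intro m
    have h1 := gaFn_res_of_const e he i hi z' (U m) m (hz' m)
    rw [Category.assoc]
    change (U m).ι.appTop _ = (U m).ι.appTop d
    refine h1.trans ?_
    -- `d = φ m` on `U m`
    have h2 : (U m).ι.appTop (lag φ d (Multiplicative.toAdd m)) *
        (U m).ι.appTop (d - φ (Multiplicative.toAdd m)) = 0 := by
      rw [← map_mul, lag_mul_sub φ d hd, map_zero]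
    have hu : IsUnit ((U m).ι.appTop (lag φ d (Multiplicative.toAdd m))) :=
      MuConst.isUnit_ι_appTop _
    have h3 : (U m).ι.appTop (d - φ (Multiplicative.toAdd m)) = 0 := by
      rwa [hu.mul_right_eq_zero] at h2
    rw [map_sub, sub_eq_zero] at h3
    rw [h3]
    have a1 : φ (Multiplicative.toAdd m) = (((Multiplicative.toAdd m).val : ℕ) : Γ(W.left, ⊤)) := by
      conv_lhs => rw [← ZMod.natCast_zmod_val (Multiplicative.toAdd m)]
      exact map_natCast φ _
    rw [a1, map_natCast]
    rfl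
  rw [hmain]
  change Red.gaFn a + (Red.gaFn b - Red.gaFn a) = Red.gaFn b
  ring

lemma isPullback_P :
    IsPullback (fst (Red.Ga S) G') ((Red.Ga S ◁ i) ≫ μ[Red.Ga S])
      (𝟙 (Red.Ga S) * F⁻¹) (𝟙 (Red.Ga S) * F⁻¹) := by
  have hmono : Mono i := mono_i hp e he i hi
  have hcomp : i ≫ (𝟙 (Red.Ga S) * F⁻¹) = 1 := comp_P_eq_one F hF hp e he i hi
  have hmon : IsMonHom (𝟙 (Red.Ga S) * F⁻¹) := isMonHom_P F hF hp
  have w : fst (Red.Ga S) G' ≫ (𝟙 (Red.Ga S) * F⁻¹) =
      ((Red.Ga S ◁ i) ≫ μ[Red.Ga S]) ≫ (𝟙 (Red.Ga S) * F⁻¹) := by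
    have h := comp_whiskerLeft_mul i (𝟙 (Red.Ga S ⊗ G'))
    rw [Category.id_comp, Category.id_comp, Category.id_comp] at h
    rw [h, MonObj.mul_comp _ _ (𝟙 (Red.Ga S) * F⁻¹), Category.assoc, hcomp, MonObj.comp_one, _root_.mul_one]
  refine IsPullback.mk ⟨w⟩ ⟨Limits.PullbackCone.IsLimit.mk w
    (fun s => lift s.fst (key F hF hp e he i hi s.fst s.snd s.condition).choose) ?_ ?_ ?_⟩
  · intro s
    simp
  · intro s
    rw [comp_whiskerLeft_mul]
    simp only [lift_fst, lift_snd_assoc]
    exact (key F hF hp e he i hi s.fst s.snd s.condition).choose_spec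
  · intro s m h1 h2
    apply CartesianMonoidalCategory.hom_ext
    · simp [h1]
    · rw [lift_snd]
      rw [← cancel_mono i]
      have h3 := (key F hF hp e he i hi s.fst s.snd s.condition).choose_spec
      rw [comp_whiskerLeft_mul, h1] at h2
      rw [← h3] at h2
      have h4 := congrArg (fun t => s.fst⁻¹ * t) h2
      simpa using h4

omit hp he hi [IsMonHom i] in
lemma locTriv_P (hp1 : 1 < p) :
    NonAbH1.IsLocallyTrivialFor Scheme.fpqcPrecoverage
      (Over.mk (𝟙 (Red.Ga S) * F⁻¹).left : Over (Red.Ga S).left) := by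
  let p₁ : (Red.Ga S).left ⟶ Spec (CommRingCat.of AZ.{u}) := Limits.pullback.fst _ _
  let f : Limits.pullback p₁ (asMap.{u} p) ⟶ (Red.Ga S).left := Limits.pullback.fst p₁ (asMap.{u} p)
  have h1 : Flat (asMap.{u} p) := (asMap_flat_surj p hp1).1
  have h2 : Surjective (asMap.{u} p) := (asMap_flat_surj p hp1).2
  have h3 : LocallyOfFinitePresentation (asMap.{u} p) := asMap_lfp p
  have h1' : Flat f := inferInstance
  have h2' : Surjective f := inferInstance
  have h3' : LocallyOfFinitePresentation f := inferInstance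
  refine ⟨Presieve.singleton f,
    Scheme.fppfPrecoverage_le_fpqcPrecoverage _ f.singleton_mem_fppfPrecoverage, ?_⟩
  intro T g hg
  cases hg
  let W : Over S := Over.mk (f ≫ (Red.Ga S).hom)
  let fW : W ⟶ Red.Ga S := Over.homMk f rfl
  let r : Γ(W.left, ⊤) := ptFn (Limits.pullback.snd p₁ (asMap.{u} p)) (AdjoinRoot.root (asPoly.{u} p))
  obtain ⟨s, hs⟩ := gaFn_surjective (X := W) r
  have key : s ≫ (𝟙 (Red.Ga S) * F⁻¹) = fW := by
    apply gaFn_injective
    rw [gaFn_P F hF, hs]
    have e1 : Red.gaFn fW = ptFn (f ≫ p₁) xZ := rfl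
    have e2 : f ≫ p₁ = Limits.pullback.snd p₁ (asMap.{u} p) ≫ asMap.{u} p := Limits.pullback.condition
    rw [e1, e2, ptFn_specMap, ← asRing_root, ← ptFnHom_apply, map_sub, map_pow]
    rfl
  exact ⟨s.left, congrArg (fun t => t.left) key⟩

end Helpers


/-- Let p be a prime and S a scheme of characteristic p (p = 0 in the ring of global functions). Let F
be the Frobenius endomorphism of the additive group over S, the S-endomorphism which raises the
coordinate function of every point to the p-th power, and let P be the difference of the identity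
and F in the group of endomorphisms (on points x ↦ x − x^p). Let G' be the constant S-group (Z/p)_S:
an S-group together with an isomorphism of S-schemes e from G' to the disjoint union of copies of S
indexed by Z/p, under which the S-points of indices m and n multiply to the S-point of index m + n;
and let i : G' → G_a be the homomorphism of S-groups which sends the S-point of index 1 to the point
whose coordinate is the unit global function. Then the Artin-Schreier sequence 1 → (Z/p)_S → G_a →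
G_a → 1 is exact for the fpqc topology: i and P are homomorphisms with trivial composite, (x, g) ↦
(x, x + i(g)) identifies G_a ×_S G' with the fibre product of P with itself (so that i is a kernel
of P), and P acquires sections on the members of some fpqc covering family of its target. -/
theorem result (p : ℕ) [Fact p.Prime] {S : Scheme.{u}}
    (hp : (p : Γ(S, ⊤)) = 0) (F : Red.Ga S ⟶ Red.Ga S)
    (hF : ∀ (T : Over S) (x : T ⟶ Red.Ga S), Red.gaFn (x ≫ F) = Red.gaFn x ^ p)
    {G' : Over S} [GrpObj G'] (e : G' ≅ TwC.const S (Multiplicative (ZMod p)))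
    (he : TwC.IsConstGrp (Multiplicative (ZMod p)) G' e)
    (i : G' ⟶ Red.Ga S) [IsMonHom i]
    (hi : Red.gaFn (TwC.pt S (Multiplicative (ZMod p)) (Multiplicative.ofAdd 1) ≫ e.inv ≫ i) = 1) :
    NonAbH1.IsExactSeq Scheme.fpqcPrecoverage i (𝟙 (Red.Ga S) * F⁻¹) := by
  exact ⟨inferInstance, isMonHom_P F hF hp, comp_P_eq_one F hF hp e he i hi,
    isPullback_P F hF hp e he i hi, locTriv_P F hF (Fact.out : p.Prime).one_lt⟩

end Groth.Agent.S6008
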