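import Groth.Statements.S6012
import Groth.Agent.Lib.Helper26.Cleavage

set_option autoImplicit false
open CategoryTheory
universe v₁ v₂ u₁ u₂
open FibCat FibCat.Cleavage

namespace Groth.Agent.S6012

/-- Let `K` be a cleavage of an arbitrary functor `p : 𝒳 ⥤ 𝒮` (one chosen cartesian lift of every base
morphism at every object over its target; `p` is not assumed fibred). Then `p` is a fibred category
(composites of cartesian morphisms are cartesian) if and only if, for all composable base morphisms
`g : R ⟶ T` and `f : T ⟶ S`, the comparison natural transformation `c_{f,g}` from `g^* f^*` to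
`(fg)^*` determined by `K` is an isomorphism. -/
theorem result (𝒮 : Type u₁) (𝒳 : Type u₂) [Category.{v₁} 𝒮] [Category.{v₂} 𝒳] (p : 𝒳 ⥤ 𝒮) (K : FibCat.Cleavage p) :
    p.IsFibered ↔ ∀ (R S T : 𝒮) (f : T ⟶ S) (g : R ⟶ T), IsIso (K.comp f g) := by
  set_option backward.isDefEq.respectTransparency false in
  constructor
  · intro hfib R S T f g
    have : ∀ a : p.Fiber S, IsIso ((K.comp f g).app a) := by
      intro a
      have hcart : p.IsCartesian (g ≫ f) (K.lift (K.obj_proj a.2 f) g ≫ K.lift a.2 f) :=
        Functor.IsFibered.comp g f _ _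
      let e := Functor.IsCartesian.domainUniqueUpToIso p (g ≫ f) (K.lift a.2 (g ≫ f))
        (K.lift (K.obj_proj a.2 f) g ≫ K.lift a.2 f)
      have he : e.hom = Functor.Fiber.fiberInclusion.map ((K.comp f g).app a) := rfl
      refine ⟨Functor.Fiber.homMk p R e.inv, ?_, ?_⟩
      · apply Functor.Fiber.hom_ext
        rw [Functor.map_comp, ← he, Functor.Fiber.fiberInclusion_homMk, e.hom_inv_id]
        rfl
      · apply Functor.Fiber.hom_ext
        rw [Functor.map_comp, ← he, Functor.Fiber.fiberInclusion_homMk, e.inv_hom_id]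
        rfl
    exact NatIso.isIso_of_isIso_app _
  · intro h
    have hpre : p.IsPreFibered := K.isPreFibered
    refine { hpre with comp := ?_ }
    intro R S T f g a b c φ ψ hφ hψ
    have hc : p.obj c = T := IsHomLift.codomain_eq p g ψ
    let e₁ := Functor.IsCartesian.domainUniqueUpToIso p g (K.lift hc g) ψ
    have he₁ : e₁.hom ≫ K.lift hc g = ψ := Functor.IsCartesian.fac p g (K.lift hc g) ψ
    have hb' : p.obj (K.obj hc g) = S := K.obj_proj hc g
    have hcart1 : p.IsCartesian f (φ ≫ e₁.hom) := inferInstance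
    let e₂ := Functor.IsCartesian.domainUniqueUpToIso p f (K.lift hb' f) (φ ≫ e₁.hom)
    have he₂ : e₂.hom ≫ K.lift hb' f = φ ≫ e₁.hom :=
      Functor.IsCartesian.fac p f (K.lift hb' f) (φ ≫ e₁.hom)
    let c' : p.Fiber T := ⟨c, hc⟩
    have hiso : IsIso ((K.comp g f).app c') := inferInstance
    let e₃ : K.obj hb' f ≅ K.obj hc (f ≫ g) :=
      (Functor.Fiber.fiberInclusion).mapIso (asIso ((K.comp g f).app c'))
    have he₃ : e₃.hom ≫ K.lift hc (f ≫ g) = K.lift hb' f ≫ K.lift hc g :=
      Groth.Agent.Lib.Helper26.comp_app_lift K g f c'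
    have h3 : p.IsHomLift (𝟙 R) e₃.hom :=
      inferInstanceAs (p.IsHomLift (𝟙 R) (Functor.Fiber.fiberInclusion.map ((K.comp g f).app c')))
    have h4 : p.IsHomLift (𝟙 R) (e₂ ≪≫ e₃).hom := by
      rw [Iso.trans_hom]
      infer_instance
    have key : φ ≫ ψ = (e₂ ≪≫ e₃).hom ≫ K.lift hc (f ≫ g) := by
      rw [Iso.trans_hom, Category.assoc, he₃, ← Category.assoc, he₂, Category.assoc, he₁]
    rw [key]
    infer_instance

end Groth.Agent.S6012
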