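import Groth.Statements.S6013
import Groth.Agent.Lib.Helper26.Cleavage

set_option autoImplicit false
open CategoryTheory
universe v₁ v₂ u₁ u₂
open FibCat FibCat.Cleavage

namespace Groth.Agent.S6013

/-- Let `p : 𝒳 ⥤ 𝒮` be a fibred category with a cleavage `K`, and let `f : T ⟶ S` be an isomorphism of
the base. Then the inverse-image functor `f^*` of `K`, from the fibre over `S` to the fibre over
`T`, is an equivalence of categories. -/
theorem result (𝒮 : Type u₁) (𝒳 : Type u₂) [Category.{v₁} 𝒮] [Category.{v₂} 𝒳] (p : 𝒳 ⥤ 𝒮) [p.IsFibered] (K : FibCat.Cleavage p)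
    (S T : 𝒮) (f : T ⟶ S) [IsIso f] : (K.inverseImage f).IsEquivalence := by
  set_option backward.isDefEq.respectTransparency false in
  -- chosen lifts over the isomorphism `f` are isomorphisms
  have hiso : ∀ (a : p.Fiber S), IsIso (K.lift a.2 f) := fun a =>
    Functor.IsStronglyCartesian.isIso_of_base_isIso p f (K.lift a.2 f)
  have hiso' : ∀ (c : p.Fiber T), IsIso (K.lift c.2 (inv f)) := fun c =>
    Functor.IsStronglyCartesian.isIso_of_base_isIso p (inv f) (K.lift c.2 (inv f))
  have hfaith : (K.inverseImage f).Faithful := by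
    constructor
    intro a b φ φ' h
    apply Functor.Fiber.hom_ext
    have h1 := Groth.Agent.Lib.Helper26.inverseImage_map_lift K f φ
    have h2 := Groth.Agent.Lib.Helper26.inverseImage_map_lift K f φ'
    rw [h] at h1
    have := hiso a
    rw [← cancel_epi (K.lift a.2 f), ← h1, ← h2]
  have hfull : (K.inverseImage f).Full := by
    constructor
    intro a b ψ
    have := hiso a
    have hl : p.IsHomLift (𝟙 S) (inv (K.lift a.2 f) ≫ Functor.Fiber.fiberInclusion.map ψ ≫ K.lift b.2 f) := by
      have h1 : p.IsHomLift (inv f) (inv (K.lift a.2 f)) := IsHomLift.inv p f (K.lift a.2 f)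
      have h2 : p.IsHomLift (𝟙 T ≫ f) (Functor.Fiber.fiberInclusion.map ψ ≫ K.lift b.2 f) :=
        inferInstance
      have h3 : p.IsHomLift (inv f ≫ 𝟙 T ≫ f)
          (inv (K.lift a.2 f) ≫ Functor.Fiber.fiberInclusion.map ψ ≫ K.lift b.2 f) := inferInstance
      have e : inv f ≫ 𝟙 T ≫ f = 𝟙 S := by simp
      rw [e] at h3
      exact h3
    refine ⟨Functor.Fiber.homMk p S (inv (K.lift a.2 f) ≫ Functor.Fiber.fiberInclusion.map ψ ≫ K.lift b.2 f), ?_⟩
    apply Groth.Agent.Lib.Helper26.fiber_hom_ext_lift K f b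
    rw [Groth.Agent.Lib.Helper26.inverseImage_map_lift, Functor.Fiber.fiberInclusion_homMk]
    simp
  have hess : (K.inverseImage f).EssSurj := by
    constructor
    intro c
    let a : p.Fiber S := (K.inverseImage (inv f)).obj c
    refine ⟨a, ⟨?_⟩⟩
    have := hiso a
    have := hiso' c
    let χ : K.obj a.2 f ⟶ c.1 := K.lift a.2 f ≫ K.lift c.2 (inv f)
    have hχ : p.IsHomLift (𝟙 T) χ := by
      have h3 : p.IsHomLift (f ≫ inv f) χ := inferInstance
      have e : f ≫ inv f = 𝟙 T := by simp
      rw [e] at h3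
      exact h3
    have hχiso : IsIso χ := inferInstance
    have hχinv : p.IsHomLift (𝟙 T) (inv χ) := inferInstance
    refine ⟨Functor.Fiber.homMk p T χ, Functor.Fiber.homMk p T (inv χ), ?_, ?_⟩
    · apply Functor.Fiber.hom_ext
      rw [Functor.map_comp, Functor.Fiber.fiberInclusion_homMk, Functor.Fiber.fiberInclusion_homMk]
      simp
    · apply Functor.Fiber.hom_ext
      rw [Functor.map_comp, Functor.Fiber.fiberInclusion_homMk, Functor.Fiber.fiberInclusion_homMk]
      simp
  exact { faithful := hfaith, full := hfull, essSurj := hess }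

end Groth.Agent.S6013
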