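import Groth.Statements.S6019
import Groth.Agent.Lib.Helper26.Cleavage

set_option autoImplicit false
open CategoryTheory
universe v₁ v₂ u₁ u₂
open FibCat FibCat.Cleavage

namespace Groth.Agent.S6019

/-- A pre-fibred category admits a normalised cleavage: if every base morphism `R ⟶ p(a)` has a
cartesian morphism over it with target `a`, then one cartesian lift can be chosen for every base
morphism at every object over its target in such a way that the chosen lift of each identity `𝟙 S`
at each object `a` over `S` is the identity of `a` (identities are transport morphisms). -/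
theorem result (𝒮 : Type u₁) (𝒳 : Type u₂) [Category.{v₁} 𝒮] [Category.{v₂} 𝒳]
    (p : 𝒳 ⥤ 𝒮) [p.IsPreFibered] : ∃ K : FibCat.Cleavage p, K.IsNormalised := by
  set_option backward.isDefEq.respectTransparency false in
  classical
  have hid : ∀ {R S : 𝒮} {a : 𝒳} (ha : p.obj a = S) (f : R ⟶ S),
      (∃ e : R = S, f = eqToHom e) → p.IsCartesian f (𝟙 a) := by
    rintro R S a ha f ⟨e, rfl⟩
    subst e
    have : p.IsHomLift (𝟙 R) (𝟙 a) := IsHomLift.id ha
    have : p.IsStronglyCartesian (𝟙 R) (𝟙 a) := Functor.IsStronglyCartesian.of_isIso p (𝟙 R) (𝟙 a)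
    simpa using (inferInstance : p.IsCartesian (𝟙 R) (𝟙 a))
  let choice : ∀ {R S : 𝒮} {a : 𝒳} (ha : p.obj a = S) (f : R ⟶ S),
      { x : Σ b : 𝒳, (b ⟶ a) // p.IsCartesian f x.2 } := fun {R S a} ha f =>
    if h : ∃ e : R = S, f = eqToHom e then ⟨⟨a, 𝟙 a⟩, hid ha f h⟩
    else ⟨⟨Functor.IsPreFibered.pullbackObj ha f, Functor.IsPreFibered.pullbackMap ha f⟩,
      inferInstance⟩
  refine ⟨{ obj := fun ha f => (choice ha f).1.1
            lift := fun ha f => (choice ha f).1.2
            isCartesian := fun ha f => (choice ha f).2 }, ?_⟩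
  intro S a ha
  have hex : ∃ e : S = S, (𝟙 S) = eqToHom e := ⟨rfl, rfl⟩
  have key : choice ha (𝟙 S) = ⟨⟨a, 𝟙 a⟩, hid ha (𝟙 S) hex⟩ := dif_pos hex
  change ∃ h : (choice ha (𝟙 S)).1.1 = a, (choice ha (𝟙 S)).1.2 = eqToHom h
  rw [key]
  exact ⟨rfl, rfl⟩

end Groth.Agent.S6019
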