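import Groth.Statements.S6020
import Groth.Agent.S6022

set_option autoImplicit false
universe u
open CategoryTheory CategoryTheory.Limits TopologicalSpace
open LocCohZ

namespace Groth.Agent.S6020

section Helpers

open Abelian

variable {X : TopCat.{u}} (F : CohTop.Ab X) {W V : Opens X} (h : W ≤ V)

lemma res_eq (n : ℕ) (x : CohTop.HU F n V) :
    CohTop.res F n h x = (Ext.mk₀ (zqSeq h).f).comp x (zero_add n) := rfl

/-- the long exact sequence of cohomology with supports: vanishing of `H^i_{V∖W}(V, F)` for
`i ≤ N` in terms of the restriction maps -/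
lemma forall_subsingleton_HZ_iff (N : ℕ) :
    (∀ i : ℕ, i < N + 1 → Subsingleton (HZ F i h)) ↔
      (∀ i : ℕ, i < N → Function.Bijective (CohTop.res F i h)) ∧
        Function.Injective (CohTop.res F N h) := by
  have hS := zqSeq_shortExact h
  have hepi : Epi (zqSeq h).g := hS.epi_g
  constructor
  · intro hz
    have hinj : ∀ i : ℕ, i < N + 1 → Function.Injective (CohTop.res F i h) := by
      intro i hi
      rw [injective_iff_map_eq_zero]
      intro x hx
      rw [res_eq] at hx
      obtain ⟨x₁, rfl⟩ := Ext.contravariant_sequence_exact₂ hS F x hx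
      have : Subsingleton (Ext.{u} (zqSeq h).X₃ F i) := hz i hi
      have h0 : x₁ = 0 := Subsingleton.elim _ _
      rw [h0, Ext.comp_zero]
      rfl
    refine ⟨fun i hi => ⟨hinj i (by omega), ?_⟩, hinj N (by omega)⟩
    intro x₁
    have : Subsingleton (Ext.{u} (zqSeq h).X₃ F (i + 1)) := hz (i + 1) (by omega)
    have h0 : hS.extClass.comp x₁ (add_comm 1 i) = 0 := Subsingleton.elim _ _
    obtain ⟨x₂, hx₂⟩ := Ext.contravariant_sequence_exact₁ hS F x₁ (add_comm 1 i) h0
    exact ⟨x₂, hx₂⟩
  · rintro ⟨hbij, hinjN⟩ i hi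
    have hinj : Function.Injective (CohTop.res F i h) := by
      rcases Nat.lt_or_ge i N with h1 | h1
      · exact (hbij i h1).1
      · obtain rfl : i = N := by omega
        exact hinjN
    refine subsingleton_of_forall_eq (α := Ext.{u} (zqSeq h).X₃ F i) 0 (fun x₃ => ?_)
    have h1 : (Ext.mk₀ (zqSeq h).g).comp x₃ (zero_add i) = 0 := by
      apply hinj
      refine Eq.trans ?_ (map_zero (CohTop.res F i h)).symm
      rw [res_eq, ← Ext.comp_assoc_of_second_deg_zero, Ext.mk₀_comp_mk₀, (zqSeq h).zero,
        Ext.mk₀_zero, Ext.zero_comp]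
      rfl
    cases i with
    | zero =>
      apply Ext.precomp_mk₀_injective_of_epi F (zqSeq h).g
      refine Eq.trans ?_ (map_zero ((Ext.mk₀ (zqSeq h).g).precomp F (zero_add 0))).symm
      exact h1
    | succ i =>
      obtain ⟨x₁, rfl⟩ := Ext.contravariant_sequence_exact₃ hS F x₃ h1 (add_comm 1 i)
      obtain ⟨x₂, rfl⟩ := (hbij i (by omega)).2 x₁
      rw [res_eq, ← Ext.comp_assoc_of_second_deg_zero, hS.extClass_comp, Ext.zero_comp]

end Helpers

/-- Consider a topological space X carrying a sheaf F of abelian groups, an open subset U whose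
complement is the closed set Z, and a natural number N. The local cohomology sheaves ℋ^i_Z(F) are
zero for all i ≤ N exactly when, for each open V of X, restricting H^i(V, F) → H^i(V ∩ U, F) gives a
bijection whenever i < N and an injection when i = N. -/
theorem result {X : TopCat.{u}} (F : CohTop.Ab X) (U : Opens X) (N : ℕ) :
    (∀ i : ℕ, i ≤ N → IsZero ((LocCohZ.HZsh U i).obj F)) ↔
      ∀ V : Opens X, (∀ i : ℕ, i < N → Function.Bijective (CohTop.res F i (inf_le_left : V ⊓ U ≤ V))) ∧
        Function.Injective (CohTop.res F N (inf_le_left : V ⊓ U ≤ V)) := by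
  have h1 : (∀ i : ℕ, i ≤ N → IsZero ((LocCohZ.HZsh U i).obj F)) ↔
      (∀ i : ℕ, i < N + 1 → IsZero ((LocCohZ.HZsh U i).obj F)) :=
    forall_congr' (fun i => by rw [Nat.lt_succ_iff])
  rw [h1, Groth.Agent.S6022.result F U (N + 1)]
  constructor
  · intro hz V
    exact (forall_subsingleton_HZ_iff F (inf_le_left : V ⊓ U ≤ V) N).1 (fun i hi => hz V i hi)
  · intro hz V i hi
    exact (forall_subsingleton_HZ_iff F (inf_le_left : V ⊓ U ≤ V) N).2 (hz V) i hi

end Groth.Agent.S6020
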