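import Groth.Statements.S6024


set_option autoImplicit false
universe u
open CategoryTheory CategoryTheory.Limits TopologicalSpace
open LocCohZ

namespace Groth.Agent.S6024

/-- Consider a topological space X carrying a sheaf of abelian groups F, and assume that H^1_Z(X, F)
vanishes for each closed subset Z of X (writing Z = X − U with U open). Under this assumption, F is
flasque. -/
theorem result {X : TopCat.{u}} (F : CohTop.Ab X)
    (h : ∀ U : Opens X, Subsingleton (LocCohZ.HZc F 1 U)) : TopCat.Sheaf.IsFlasque F := by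
  have key : ∀ U : Opens X, ∀ s : F.obj.obj (Opposite.op U), ∃ t : F.obj.obj (Opposite.op (⊤ : Opens X)),
      (F.obj.map (homOfLE (le_top : U ≤ ⊤)).op).hom t = s := by
    intro U s
    have hS := LocCohZ.zqSeq_shortExact (le_top : U ≤ ⊤)
    let x₁ : Abelian.Ext.{u} (CohCx.freeSheaf (Opens.grothendieckTopology X) U) F 0 :=
      Abelian.Ext.mk₀ (CohFree.ofSect (Opens.grothendieckTopology X) U F s)
    have h0 : hS.extClass.comp x₁ (by omega : 1 + 0 = 1) = 0 := by
      haveI := h U
      exact Subsingleton.elim (α := LocCohZ.HZc F 1 U) _ _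
    obtain ⟨x₂, hx₂⟩ := Abelian.Ext.contravariant_sequence_exact₁ hS F x₁ (by omega) h0
    obtain ⟨ψ, rfl⟩ := (Abelian.Ext.mk₀_bijective _ _).2 x₂
    rw [Abelian.Ext.mk₀_comp_mk₀] at hx₂
    have hψ := (Abelian.Ext.mk₀_bijective _ _).1 hx₂
    refine ⟨CohFree.evalGen (Opens.grothendieckTopology X) ⊤ F ψ, ?_⟩
    rw [← CohFree.evalGen_freeSheafMap_comp]
    have : CohCx.freeSheafMap (Opens.grothendieckTopology X) (homOfLE (le_top : U ≤ ⊤)) ≫ ψ =
        CohFree.ofSect (Opens.grothendieckTopology X) U F s := hψ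
    rw [this, CohFree.evalGen_ofSect]
  refine ⟨fun {U V} i => ?_⟩
  rw [AddCommGrpCat.epi_iff_surjective]
  intro s
  obtain ⟨t, ht⟩ := key V.unop s
  refine ⟨(F.obj.map (homOfLE (le_top : U.unop ≤ ⊤)).op).hom t, ?_⟩
  rw [← ht]
  have : (homOfLE (le_top : U.unop ≤ ⊤)).op ≫ i = (homOfLE (le_top : V.unop ≤ ⊤)).op := Subsingleton.elim _ _
  rw [← this, Functor.map_comp]
  rfl

end Groth.Agent.S6024
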