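import Groth.Statements.S6026
import Groth.Agent.Lib.Helper33.Excision

set_option autoImplicit false
universe u
open CategoryTheory CategoryTheory.Limits TopologicalSpace
open LocCohZ

namespace Groth.Agent.S6026

section Helpers

variable {A B : Type (u + 1)} [Category.{u} A] [Abelian A] [HasExt.{u} A]
    [Category.{u} B] [Abelian B] [HasExt.{u} B] (Z : A) (Z' : B) (E : A ⥤ B) (i : ℕ)
    (α : (Abelian.extFunctor.{u} i).obj (Opposite.op Z) ≅
      E ⋙ (Abelian.extFunctor.{u} i).obj (Opposite.op Z'))

/-- the components of an isomorphism of `Ext` functors, as additive equivalences -/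
noncomputable def eqv (F : A) : Abelian.Ext.{u} Z F i ≃+ Abelian.Ext.{u} Z' (E.obj F) i :=
  (α.app F).addCommGroupIsoToAddEquiv

lemma eqv_nat (F G : A) (φ : F ⟶ G) (x : Abelian.Ext.{u} Z F i) :
    eqv Z Z' E i α G ((Abelian.Ext.mk₀ φ).postcomp Z (add_zero i) x) =
      (Abelian.Ext.mk₀ (E.map φ)).postcomp Z' (add_zero i) (eqv Z Z' E i α F x) := by
  have := ConcreteCategory.congr_hom (α.hom.naturality φ) x
  exact this

end Helpers

/-- Let X be a topological space, W ⊆ V opens of X and Z = V − W. For every i there is an isomorphism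
H^i_Z(X, F) ≅ H^i_Z(V, F|_V), natural in the abelian sheaf F on X, between cohomology with supports
in Z computed on X and computed on the open subspace V. (Existence of a natural family of
isomorphisms; the published statement has the canonical maps of cohomological functors.) -/
theorem result {X : TopCat.{u}} {W V : Opens X} (h : W ≤ V) (i : ℕ) :
    ∃ e : ∀ F : CohTop.Ab X,
        LocCohZ.HZ F i h ≃+ LocCohZ.HZc (CohTop.restr F V) i ((Opens.map (CohCx.incl V)).obj W),
      ∀ (F G : CohTop.Ab X) (φ : F ⟶ G) (x : LocCohZ.HZ F i h),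
        e G (LocCohZ.map φ i h x) =
          LocCohZ.map ((CohTop.restrFunctor V).map φ) i
            (le_top : (Opens.map (CohCx.incl V)).obj W ≤ ⊤) (e F x) := by
  obtain ⟨α⟩ := Groth.Agent.Lib.Helper33.LocCohSS.nonempty_extFunctor_restr_iso h i
  exact ⟨fun F => eqv (zq h) (zq (le_top : (Opens.map (CohCx.incl V)).obj W ≤ ⊤))
      (CohTop.restrFunctor V) i α F,
    fun F G φ x => eqv_nat (zq h) (zq (le_top : (Opens.map (CohCx.incl V)).obj W ≤ ⊤))
      (CohTop.restrFunctor V) i α F G φ x⟩

end Groth.Agent.S6026
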