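import Groth.Statements.S6040
import Groth.Agent.Lib.Helper33.DeltaPrecomp
import Groth.Agent.S0854

set_option autoImplicit false
universe u
open CategoryTheory CategoryTheory.Limits TopologicalSpace
open LocCohZ

namespace Groth.Agent.S6040

section Helpers

lemma preservesFiniteLimits_push {X Y : TopCat.{u}} (f : Y ⟶ X) :
    PreservesFiniteLimits (CohTop.push f) := by
  have : PreservesLimitsOfSize.{0, 0} (CohTop.push f) :=
    (TopCat.Sheaf.pullbackPushforwardAdjunction AddCommGrpCat.{u} f).rightAdjoint_preservesLimits
  exact PreservesLimitsOfSize.preservesFiniteLimits _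

lemma additive_push {X Y : TopCat.{u}} (f : Y ⟶ X) : (CohTop.push f).Additive := inferInstance

end Helpers

/-- Let X be a topological space, U an open subset and j : U → X the inclusion, so that the sheaf of
sections with supports in the open U is Γ_U(F) = j_*(F|_U). For every q the local cohomology sheaf
functor ℋ^q_U, i.e. the q-th right derived functor of F ↦ j_*(F|_U), is isomorphic to F ↦ R^q
j_*(F|_U). (Existence of an isomorphism of functors for each q.) -/
theorem result {X : TopCat.{u}} (U : Opens X) (q : ℕ) :
    Nonempty (CohCx.RpushOn (𝟙 X) U q ≅ CohTop.restrFunctor U ⋙ CohTop.Rpush (CohCx.incl U) q) := by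
  have h1 : (CohTop.push (CohCx.incl U)).Additive := additive_push _
  have h2 : PreservesFiniteLimits (CohTop.push (CohCx.incl U)) := preservesFiniteLimits_push _
  exact Groth.Agent.Lib.Helper33.ExtDelta.nonempty_rightDerived_exact_comp_iso
    (CohTop.restrFunctor U) (CohTop.push (CohCx.incl U)) q

end Groth.Agent.S6040
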