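import Groth.Statements.S6041
import Groth.Agent.Lib.Helper26.RepSection

set_option autoImplicit false
open CategoryTheory CategoryTheory.Limits AlgebraicGeometry MonoidalCategory
universe u
open GrpQ

namespace Groth.Agent.S6041

open CartesianMonoidalCategory in
/-- For schemes and the fppf topology, easy direction: let `s, t : R ⇉ U` be a pair of morphisms of
schemes over `S` (in the source an equivalence relation), `T` a scheme over `S` and `i : Z ⟶ U ×_S
T` such that `Z ⟶ T` is flat, surjective and locally of finite presentation and any two points of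
`Z` over the same point of `T` have `R`-related images in `U`. Then the composite `h_Z ⟶ h_U ⟶ U/R`
descends to exactly one section of the fppf quotient sheaf `U/R` over `T`. -/
theorem result {S : Scheme.{u}} {R U : Over S} (s t : R ⟶ U)
    (T Z : Over S) (i : Z ⟶ U ⊗ T)
    [Flat (i ≫ snd U T).left] [Surjective (i ≫ snd U T).left] [LocallyOfFinitePresentation (i ≫ snd U T).left]
    (hZZ : ∀ (T' : Over S) (z₁ z₂ : T' ⟶ Z), z₁ ≫ i ≫ snd U T = z₂ ≫ i ≫ snd U T →
      ∃ r : T' ⟶ R, r ≫ s = z₁ ≫ i ≫ fst U T ∧ r ≫ t = z₂ ≫ i ≫ fst U T) :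
    ∃! σ : QuotSh.rep Scheme.fppfPrecoverage T ⟶ QuotSh.quot Scheme.fppfPrecoverage s t,
      QuotSh.repMap Scheme.fppfPrecoverage (i ≫ fst U T) ≫ QuotSh.quotπ Scheme.fppfPrecoverage s t =
        QuotSh.repMap Scheme.fppfPrecoverage (i ≫ snd U T) ≫ σ := by
  have hα : ∀ (T' : Over S) (z₁ z₂ : T' ⟶ Z), z₁ ≫ (i ≫ snd U T) = z₂ ≫ (i ≫ snd U T) →
      QuotSh.repMap Scheme.fppfPrecoverage z₁ ≫
        (QuotSh.repMap Scheme.fppfPrecoverage (i ≫ fst U T) ≫ QuotSh.quotπ Scheme.fppfPrecoverage s t) =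
      QuotSh.repMap Scheme.fppfPrecoverage z₂ ≫
        (QuotSh.repMap Scheme.fppfPrecoverage (i ≫ fst U T) ≫ QuotSh.quotπ Scheme.fppfPrecoverage s t) := by
    intro T' z₁ z₂ h
    obtain ⟨r, hr1, hr2⟩ := hZZ T' z₁ z₂ h
    rw [← Category.assoc, ← Category.assoc, ← Groth.Agent.Lib.Helper26.RepSection.repMap_comp,
      ← Groth.Agent.Lib.Helper26.RepSection.repMap_comp, ← hr1, ← hr2,
      Groth.Agent.Lib.Helper26.RepSection.repMap_comp, Groth.Agent.Lib.Helper26.RepSection.repMap_comp,
      Category.assoc, Category.assoc, QuotSh.quot_condition]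
  exact Groth.Agent.Lib.Helper26.RepSection.existsUnique_section (i ≫ snd U T) _ _ hα

end Groth.Agent.S6041
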