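import Groth.Statements.S6044
-- import your own Groth.Agent.* helpers here
import Groth.Agent.Lib.Helper51.DescMono
import Groth.Agent.S9858

set_option autoImplicit false
open CategoryTheory CategoryTheory.Limits AlgebraicGeometry
universe u
open GrpQ

namespace Groth.Agent.S6044

/-- Closed immersions descend along the fpqc topology. For an fpqc covering family `f i : X i ⟶ S` of a
scheme `S`, every descent datum for schemes relative to the family all of whose members `Z i ⟶ X i`
are closed immersions is effective. -/
theorem result {S : Scheme.{u}} {ι : Type u} {X : ι → Scheme.{u}}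
    (f : ∀ i, X i ⟶ S) (hf : Presieve.ofArrows X f ∈ Scheme.fpqcPrecoverage S)
    (D : Desc.SchDDFam f) (hD : ∀ i, IsClosedImmersion (D.obj i).hom) :
    D.IsEffective := by
  refine Groth.Agent.S9858.result @IsClosedImmersion ?_ ?_ f hf D hD
  · intro m Y V q hq
    exact Groth.Agent.Lib.Helper51.DescMono.sigmaMap_of_isZariskiLocalAtTarget
      @IsClosedImmersion Y V q hq
  · intro X S p hX hS hp hps D hD
    exact Groth.Agent.Lib.Helper51.DescMono.schDD_effective_of_isClosedImmersion p D hD

end Groth.Agent.S6044
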