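import Groth.Statements.S6055
import Groth.Agent.Lib.Helper26.GrpQuot
import Groth.Agent.Lib.Helper26.ShfQuot

set_option autoImplicit false
open CategoryTheory CategoryTheory.Limits MonoidalCategory
universe w v₁ u₁
open ShfCat

namespace Groth.Agent.S6055

open MonObj CartesianMonoidalCategory SemiCartesianMonoidalCategory in
/-- Let `G` be a sheaf of groups on a site, `H, L ⊆ G` subgroup sheaves and `π : G ⟶ G/H` the quotient
sheaf map. Then the pair `L × (H ∩ L) ⇉ L` (projection, right multiplication) is the kernel pair of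
`L ⟶ G ⟶ G/H`, so that the image of `L` in `G/H` is the quotient sheaf `L/(H ∩ L)`. Sheaves of sets
in `Type w` with sheafification; `H ∩ L` is the fibre product `H ×_G L`. (The published statement
assumes `H` normal and also identifies this image with `(L·H)/H`; normality is not needed for the
part stated here.) -/
theorem result {C : Type u₁} [Category.{v₁} C]
    (J : GrothendieckTopology C) [HasSheafify J (Type w)]
    {H L G : Sheaf J (Type w)} [hH : GrpObj H] [hL : GrpObj L] [hG : GrpObj G]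
    (u : H ⟶ G) (l : L ⟶ G) [Mono u] [Mono l]
    (hu : @IsMonHom (Sheaf J (Type w)) _ _ H G hH.toMonObj hG.toMonObj u)
    (hl : @IsMonHom (Sheaf J (Type w)) _ _ L G hL.toMonObj hG.toMonObj l) :
    IsKernelPair (l ≫ coequalizer.π (fst G H) ((G ◁ u) ≫ hG.mul))
      (fst L (pullback u l)) ((L ◁ pullback.snd u l) ≫ hL.mul) := by
  open scoped MonObj in
  set_option backward.isDefEq.respectTransparency false in
  have : IsMonHom u := hu
  have : IsMonHom l := hl
  let p₁ := fst G H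
  let p₂ := (G ◁ u) ≫ μ[G]
  let E := Groth.Agent.Lib.Helper26.ShfQuot.eER (Groth.Agent.Lib.Helper26.GrpQuot.translationER u)
  have hK : IsKernelPair (coequalizer.π p₁ p₂) p₁ p₂ :=
    Groth.Agent.Lib.Helper26.GrpQuot.isKernelPair_coequalizer_π E
  let πG := coequalizer.π p₁ p₂
  have hcond : p₁ ≫ πG = p₂ ≫ πG := coequalizer.condition p₁ p₂
  let k₁ := pullback.fst u l
  let k₂ := pullback.snd u l
  have hk : k₁ ≫ u = k₂ ≫ l := pullback.condition
  have hk₂ : Mono k₂ := pullback.snd_of_mono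
  have hφ : ∀ {T : Sheaf J (Type w)} (φ : T ⟶ L ⊗ pullback u l),
      φ ≫ (L ◁ k₂) ≫ μ[L] = (φ ≫ fst L (pullback u l)) * (φ ≫ snd L (pullback u l) ≫ k₂) :=
    fun φ => Groth.Agent.Lib.Helper26.GrpQuot.comp_act' k₂ φ
  have hψ : ∀ {T : Sheaf J (Type w)} (ψ : T ⟶ G ⊗ H),
      ψ ≫ p₂ = (ψ ≫ fst G H) * (ψ ≫ snd G H ≫ u) :=
    fun ψ => Groth.Agent.Lib.Helper26.GrpQuot.comp_act u ψ
  change IsPullback (fst L (pullback u l)) ((L ◁ k₂) ≫ μ[L]) (l ≫ πG) (l ≫ πG)
  refine IsPullback.mk' ?_ ?_ ?_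
  · let ψ : L ⊗ pullback u l ⟶ G ⊗ H := lift (fst L (pullback u l) ≫ l) (snd L (pullback u l) ≫ k₁)
    have h1 : ψ ≫ p₁ = fst L (pullback u l) ≫ l := lift_fst _ _
    have h2 : ψ ≫ p₂ = ((L ◁ k₂) ≫ μ[L]) ≫ l := by
      rw [hψ, lift_fst, lift_snd_assoc, Category.assoc, hk]
      have := hφ (𝟙 (L ⊗ pullback u l))
      simp only [Category.id_comp] at this
      rw [this, MonObj.mul_comp, Category.assoc]
    calc fst L (pullback u l) ≫ l ≫ πG = (ψ ≫ p₁) ≫ πG := by rw [h1, Category.assoc]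
      _ = ψ ≫ p₂ ≫ πG := by rw [Category.assoc, hcond]
      _ = ((L ◁ k₂) ≫ μ[L]) ≫ l ≫ πG := by rw [← Category.assoc, h2, Category.assoc]
  · intro T φ φ' h1 h2
    rw [hφ, hφ, h1] at h2
    have h3 := mul_left_cancel h2
    rw [← Category.assoc, ← Category.assoc, cancel_mono] at h3
    exact CartesianMonoidalCategory.hom_ext _ _ h1 h3
  · intro T a b hab
    have hab' : (a ≫ l) ≫ πG = (b ≫ l) ≫ πG := by simpa using hab
    obtain ⟨t, ht1, ht2⟩ : ∃ t : T ⟶ G ⊗ H, t ≫ p₁ = a ≫ l ∧ t ≫ p₂ = b ≫ l :=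
      ⟨hK.lift _ _ hab', hK.lift_fst _ _ _, hK.lift_snd _ _ _⟩
    rw [hψ] at ht2
    have ht1' : t ≫ fst G H = a ≫ l := ht1
    rw [ht1'] at ht2
    have h3 : (t ≫ snd G H) ≫ u = (a⁻¹ * b) ≫ l := by
      rw [MonObj.mul_comp, GrpObj.inv_comp, ← ht2, inv_mul_cancel_left, Category.assoc]
    let κ : T ⟶ pullback u l := pullback.lift (t ≫ snd G H) (a⁻¹ * b) h3
    have hκ : κ ≫ k₂ = a⁻¹ * b := pullback.lift_snd _ _ _
    refine ⟨lift a κ, lift_fst _ _, ?_⟩
    rw [hφ, lift_fst, lift_snd_assoc, hκ, mul_inv_cancel_left]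

end Groth.Agent.S6055
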