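import Groth.Statements.S6072
import Groth.Agent.Lib.Helper77.HopfLift3

set_option autoImplicit false
universe u
open TensorProduct SGA3b
open SGA3b

namespace Groth.Agent.S6072

/-- the spectrum of a local ring is connected. -/
theorem connectedSpace_of_isLocalRing (R : Type u) [CommRing R] [IsLocalRing R] :
    ConnectedSpace (PrimeSpectrum R) := by
  rw [Groth.Agent.Lib.Helper50.connectedSpace_primeSpectrum_iff]
  refine ⟨inferInstance, fun e he => ?_⟩
  have h0 : e * (1 - e) = 0 := by
    rw [mul_sub, mul_one, he.eq, sub_self]
  rcases IsLocalRing.isUnit_or_isUnit_one_sub_self e with h | h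
  · right
    have := h.mul_right_eq_zero.mp h0
    exact (sub_eq_zero.mp this).symm
  · left
    exact h.mul_left_eq_zero.mp h0

/-- Let R be a henselian local ring with residue field k and H₀ = Spec C₀ a k-group of multiplicative
type which is finite over k. Then H₀ lifts to R: there is an R-group H = Spec C of multiplicative
type, finite over R and isotrivial, together with an isomorphism of k-groups H ×_R k ≅ H₀, i.e. a
bialgebra isomorphism k ⊗_R C ≅ C₀ (existence of an isomorphism; the lift is determined up to
isomorphism only). (Affine group schemes over an affine base are taken in Hopf-algebra form; base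
change is the tensor product.) -/
theorem result (R : Type u) [CommRing R] [HenselianLocalRing R]
    (C₀ : Type u) [CommRing C₀] [HopfAlgebra (IsLocalRing.ResidueField R) C₀] [Module.Finite (IsLocalRing.ResidueField R) C₀]
    (h₀ : IsMultType (IsLocalRing.ResidueField R) C₀) :
    ∃ (C : Type u) (_ : CommRing C) (_ : HopfAlgebra R C), Module.Finite R C ∧ IsIsotrivial R C ∧
      Nonempty ((IsLocalRing.ResidueField R ⊗[R] C) ≃ₐc[IsLocalRing.ResidueField R] C₀) := by
  have hI : HenselianRing R (IsLocalRing.maximalIdeal R) := inferInstance
  have hconn : ConnectedSpace (PrimeSpectrum R) := connectedSpace_of_isLocalRing R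
  letI i1 : HopfAlgebra (R ⧸ IsLocalRing.maximalIdeal R) C₀ :=
    ‹HopfAlgebra (IsLocalRing.ResidueField R) C₀›
  haveI i2 : Module.Finite (R ⧸ IsLocalRing.maximalIdeal R) C₀ :=
    ‹Module.Finite (IsLocalRing.ResidueField R) C₀›
  exact Groth.Agent.Lib.Helper77.HopfLift3.exists_lift_finite_multType R
    (IsLocalRing.maximalIdeal R) C₀ h₀

end Groth.Agent.S6072
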