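import Groth.Statements.S6077
import Groth.Agent.Lib.Helper41.WordLength
import Groth.Agent.Lib.Helper41.SmallestProps

set_option autoImplicit false
universe u
open CategoryTheory CategoryTheory.Limits MonoidalCategory CartesianMonoidalCategory MonObj GrpObj AlgebraicGeometry
open SGA3

namespace Groth.Agent.S6077

/-- Let k be an algebraically closed field, G a group scheme locally of finite type over k, X a
geometrically reduced k-scheme locally of finite type, f : X → G a k-morphism, and h : H → G a
closed subgroup scheme whose underlying set is contained in the image of f. Let i : Γ → G be the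
smallest closed subgroup scheme of G through which f factors. Say that a point of G lies under a
word of length n in f when there are a k-scheme T, a point p of T, T-valued points x_1, …, x_n of X
and signs such that f(x_1)^{±1} ⋯ f(x_n)^{±1} maps p to it; let Γ'₀ be the set of k-points of G
whose point lies under some word (of any length n ≥ 0). Suppose that Γ'₀ is covered by finitely many
left translates a · H(k) of the image of H(k) in G(k), with the a in Γ'₀ (H(k) has finite index in
Γ'₀). Then there is m such that the underlying set of Γ is the set of points of G lying under a word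
of length m, and there are finitely many k-points a_1, …, a_r of G such that the underlying set of Γ
is the union of the left translates a_j · H of the underlying set of H. -/
theorem result (k : Type u) [Field k] [IsAlgClosed k]
    (G X H : Over (Spec (CommRingCat.of k))) [GrpObj G] [GrpObj H] [LocallyOfFiniteType G.hom]
    [LocallyOfFiniteType X.hom] [GeometricallyReduced X.hom] (f : X ⟶ G)
    (h : H ⟶ G) [IsMonHom h] [IsClosedImmersion h.left] (hH : Set.range h.left.base ⊆ Set.range f.left.base)
    (Γ : Over (Spec (CommRingCat.of k))) [GrpObj Γ] (i : Γ ⟶ G) [IsMonHom i] [IsClosedImmersion i.left]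
    (hf : ∃ f' : X ⟶ Γ, f' ≫ i = f)
    (hmin : ∀ (Γ' : Over (Spec (CommRingCat.of k))) (_ : GrpObj Γ') (i' : Γ' ⟶ G), IsMonHom i' → IsClosedImmersion i'.left →
        (∃ f'' : X ⟶ Γ', f'' ≫ i' = f) → ∃ j : Γ ⟶ Γ', j ≫ i' = i)
    (hfin : ∃ F : Finset (𝟙_ (Over (Spec (CommRingCat.of k))) ⟶ G),
      (∀ a ∈ F, ∃ (n : ℕ) (T : Over (Spec (CommRingCat.of k))) (p : T.left) (p₀ : (𝟙_ (Over (Spec (CommRingCat.of k)))).left) (x : Fin n → (T ⟶ X)) (ε : Fin n → Bool),
        ((List.ofFn fun j : Fin n => if ε j then x j ≫ f else (x j ≫ f)⁻¹).prod : T ⟶ G).left.base p = a.left.base p₀) ∧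
      ∀ g : 𝟙_ (Over (Spec (CommRingCat.of k))) ⟶ G, (∃ (n : ℕ) (T : Over (Spec (CommRingCat.of k))) (p : T.left) (p₀ : (𝟙_ (Over (Spec (CommRingCat.of k)))).left) (x : Fin n → (T ⟶ X)) (ε : Fin n → Bool),
        ((List.ofFn fun j : Fin n => if ε j then x j ≫ f else (x j ≫ f)⁻¹).prod : T ⟶ G).left.base p = g.left.base p₀) →
        ∃ a ∈ F, ∃ y : 𝟙_ (Over (Spec (CommRingCat.of k))) ⟶ H, g = a * (y ≫ h)) :
    (∃ m : ℕ, Set.range i.left.base =
      {g : G.left | ∃ (T : Over (Spec (CommRingCat.of k))) (p : T.left) (x : Fin m → (T ⟶ X)) (ε : Fin m → Bool),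
        ((List.ofFn fun j : Fin m => if ε j then x j ≫ f else (x j ≫ f)⁻¹).prod : T ⟶ G).left.base p = g}) ∧
    ∃ F : Finset (𝟙_ (Over (Spec (CommRingCat.of k))) ⟶ G), Set.range i.left.base =
      ⋃ a ∈ F, (fun z => ((λ_ G).inv ≫ (a ▷ G) ≫ μ[G]).left.base z) '' Set.range h.left.base := by
  classical
  have hsub : Subsingleton (Spec (CommRingCat.of k)) :=
    inferInstanceAs (Subsingleton (PrimeSpectrum k))
  let U1 : Over (Spec (CommRingCat.of k)) := 𝟙_ (Over (Spec (CommRingCat.of k)))
  let pt : U1.left := (IsLocalRing.closedPoint k : PrimeSpectrum k)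
  have hpt : ∀ q : U1.left, q = pt := fun q => hsub.elim _ _
  obtain ⟨F, hF1, hF2⟩ := hfin
  obtain ⟨hred, hgr, hr⟩ :=
    Groth.Agent.Lib.Helper41.SmallestProps.smallest_props f Γ i hf hmin
  obtain ⟨f', hf'⟩ := hf
  -- restate in terms of `wordLen` and `leftTr`
  have hF1' : ∀ a ∈ F, ∃ n : ℕ, a.left.base pt ∈ Groth.Agent.Lib.Helper41.WordLength.wordLen f n := by
    intro a ha
    obtain ⟨n, T, p, p₀, x, ε, hx⟩ := hF1 a ha
    exact ⟨n, T, p, x, ε, by rw [hx, hpt p₀]⟩
  have hF2' : ∀ g : U1 ⟶ G, (∃ n : ℕ, g.left.base pt ∈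
      Groth.Agent.Lib.Helper41.WordLength.wordLen f n) →
      ∃ a ∈ F, ∃ y : U1 ⟶ H, g = a * (y ≫ h) := by
    rintro g ⟨n, T, p, x, ε, hx⟩
    exact hF2 g ⟨n, T, p, pt, x, ε, hx⟩
  let L : (U1 ⟶ G) → (G ⟶ G) := fun a => Groth.Agent.Lib.Helper41.WordLength.leftTr a
  let C : Set G.left := ⋃ a ∈ F, (fun z => (L a).left.base z) '' Set.range h.left.base
  have hgoalC : (⋃ a ∈ F, (fun z => ((λ_ G).inv ≫ (a ▷ G) ≫ μ[G]).left.base z) ''
      Set.range h.left.base) = C := rfl
  have hCclosed : IsClosed C := by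
    apply Set.Finite.isClosed_biUnion F.finite_toSet
    intro a _
    have hiso : IsIso (L a) := Groth.Agent.Lib.Helper41.WordLength.isIso_leftTr a
    have hisol : IsIso (L a).left := inferInstanceAs (IsIso ((Over.forget _).map (L a)))
    exact (L a).left.homeomorph.isClosedMap _ h.left.isClosedEmbedding.isClosed_range
  -- the unit point lies in the image of `f`
  have he : ∃ x : X.left, f.left.base x ∈ Set.range η[G].left.base := by
    have h1 : h.left.base (η[H].left.base pt) ∈ Set.range f.left.base := hH ⟨_, rfl⟩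
    obtain ⟨x, hx⟩ := h1
    refine ⟨x, pt, ?_⟩
    rw [hx]
    change _ = (η[H] ≫ h).left.base pt
    rw [IsMonHom.one_hom]
  -- the range of `i` is stable under the relevant operations
  have hwordΓ : ∀ n, Groth.Agent.Lib.Helper41.WordLength.wordLen f n ⊆ Set.range i.left.base :=
    fun n => Groth.Agent.Lib.Helper41.WordLength.wordLen_subset_range f i f' hf' n
  have hHΓ : Set.range h.left.base ⊆ Set.range i.left.base := by
    intro z hz
    obtain ⟨x, hx⟩ := hH hz
    refine ⟨f'.left.base x, ?_⟩
    rw [← hx, ← hf']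
    rfl
  -- every point under a word lies in `C`
  have hwordC : ∀ (T : Over (Spec (CommRingCat.of k))) (l : List ((T ⟶ X) × Bool)) (p : T.left),
      (Groth.Agent.Lib.Helper41.WordPoints.word f l).left.base p ∈ C := by
    intro T l p
    obtain ⟨P, hP, l', g', hl⟩ := Groth.Agent.Lib.Helper41.WordRational.exists_lft_factor l
    let W : P ⟶ G := Groth.Agent.Lib.Helper41.WordPoints.word f l'
    have hW : (Groth.Agent.Lib.Helper41.WordPoints.word f l).left.base p =
        W.left.base (g'.left.base p) := by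
      rw [hl, ← Groth.Agent.Lib.Helper41.WordPoints.comp_word]
      rfl
    by_contra hnot
    rw [hW] at hnot
    let V : Set P.left := W.left.base ⁻¹' Cᶜ
    have hVopen : IsOpen V := hCclosed.isOpen_compl.preimage W.left.continuous
    have hVne : V.Nonempty := ⟨g'.left.base p, hnot⟩
    have hJ : JacobsonSpace P.left := LocallyOfFiniteType.jacobsonSpace (Y := Spec _) P.hom
    obtain ⟨q, hqV, hq⟩ := nonempty_inter_closedPoints hVne hVopen.isLocallyClosed
    let c : U1 ⟶ P := Over.homMk (pointOfClosedPoint P.hom q hq) (pointOfClosedPoint_comp P.hom q hq)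
    have hc : c.left.base pt = q := pointOfClosedPoint_apply P.hom q hq _
    let g : U1 ⟶ G := c ≫ W
    have hgpt : g.left.base pt = W.left.base q := by
      change W.left.base (c.left.base pt) = _
      rw [hc]
    have hgword : g.left.base pt ∈ Groth.Agent.Lib.Helper41.WordLength.wordLen f l'.length := by
      rw [Groth.Agent.Lib.Helper41.WordLength.mem_wordLen_iff]
      exact ⟨P, l', q, rfl, hgpt.symm⟩
    obtain ⟨a, haF, y, hy⟩ := hF2' g ⟨_, hgword⟩
    apply hqV
    change W.left.base q ∈ C
    rw [← hgpt, hy]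
    refine Set.mem_biUnion haF ⟨h.left.base (y.left.base pt), ⟨_, rfl⟩, ?_⟩
    change ((y ≫ h) ≫ L a).left.base pt = _
    rw [Groth.Agent.Lib.Helper41.WordLength.comp_leftTr, toUnit_unique (toUnit U1) (𝟙 _),
      Category.id_comp]
  -- `C` is contained in words of bounded length and in `Γ`
  choose! nF hnF using hF1'
  let m : ℕ := F.sup nF + 1
  have hCword : C ⊆ Groth.Agent.Lib.Helper41.WordLength.wordLen f m := by
    intro z hz
    obtain ⟨a, haF, hz⟩ := Set.mem_iUnion₂.mp hz
    obtain ⟨z₀, hz₀, rfl⟩ := hz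
    obtain ⟨w, c, hw1, hw2, hw3⟩ :=
      Groth.Agent.Lib.Helper41.WordLength.exists_leftTr_eq_mul a z₀
    change (Groth.Agent.Lib.Helper41.WordLength.leftTr a).left.base z₀ ∈ _
    rw [← hw3]
    have h1 := Groth.Agent.Lib.Helper41.WordLength.wordLen_mul f (nF a) 1 w
      (by rw [hw1, hpt c]; exact hnF a haF)
      (by rw [hw2]; exact Groth.Agent.Lib.Helper41.WordLength.wordLen_one f (hH hz₀))
    exact Groth.Agent.Lib.Helper41.WordLength.wordLen_mono f he
      (Nat.add_le_add_right (Finset.le_sup haF) 1) h1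
  have hCΓ : C ⊆ Set.range i.left.base := hCword.trans (hwordΓ m)
  have hΓC : Set.range i.left.base ⊆ C := by
    rw [hr]
    apply closure_minimal _ hCclosed
    rintro p ⟨T, _, l, t, rfl⟩
    exact hwordC T l t
  have hΓeqC : Set.range i.left.base = C := subset_antisymm hΓC hCΓ
  refine ⟨⟨m, ?_⟩, ⟨F, ?_⟩⟩
  · exact subset_antisymm (hΓC.trans hCword) (hwordΓ m)
  · rw [hgoalC]
    exact hΓeqC

end Groth.Agent.S6077
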