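import Groth.Statements.S6073
import Groth.Agent.S6077
import Groth.Agent.S0355
import Groth.Agent.Lib.Helper41.Baer
import Groth.Agent.Lib.Helper41.CommNeutral

set_option autoImplicit false
universe u
open CategoryTheory CategoryTheory.Limits MonoidalCategory CartesianMonoidalCategory MonObj GrpObj AlgebraicGeometry
open SGA3

namespace Groth.Agent.S6073

open Groth.Agent.Lib.Helper41.CosetConn Groth.Agent.Lib.Helper41.WordLength
  Groth.Agent.Lib.Helper41.PtsLemmas Groth.Agent.Lib.Helper41.NeutralPts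
  Groth.Agent.Lib.Helper41.GenStep Groth.Agent.Lib.Helper41.CommNeutral
open scoped commutatorElement

/-- Let k be an algebraically closed field, G a group scheme locally of finite type over k, and a : A →
G, b : B → G two closed subgroup schemes which are geometrically reduced over k, such that either
(a) A and B are normal in G and of finite type over k, or (b) A is connected and B is of finite type
over k. Let i : Γ → G be the commutator subgroup scheme (A, B): the smallest closed subgroup scheme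
of G through which A ×_k B → G, (x, y) ↦ a(x) b(y) a(x)⁻¹ b(y)⁻¹, factors. Then the image of Γ(k) in
G(k) is the commutator subgroup of the images of A(k) and B(k): the subgroup of G(k) generated by
the commutators of a k-point of A with a k-point of B. -/
theorem result (k : Type u) [Field k] [IsAlgClosed k]
    (G A B : Over (Spec (CommRingCat.of k))) [GrpObj G] [GrpObj A] [GrpObj B] [LocallyOfFiniteType G.hom]
    (a : A ⟶ G) [IsMonHom a] [IsClosedImmersion a.left] (b : B ⟶ G) [IsMonHom b] [IsClosedImmersion b.left]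
    [GeometricallyReduced A.hom] [GeometricallyReduced B.hom] [QuasiCompact B.hom]
    (hcase : (AlgGrp.IsNormalHom a ∧ AlgGrp.IsNormalHom b ∧ QuasiCompact A.hom) ∨ ConnectedSpace A.left)
    (Γ : Over (Spec (CommRingCat.of k))) [GrpObj Γ] (i : Γ ⟶ G) [IsMonHom i] [IsClosedImmersion i.left]
    (hf : ∃ f' : A ⊗ B ⟶ Γ, f' ≫ i = (((fst A B) ≫ a) * ((snd A B) ≫ b) * ((fst A B) ≫ a)⁻¹ * ((snd A B) ≫ b)⁻¹))
    (hmin : ∀ (Γ' : Over (Spec (CommRingCat.of k))) (_ : GrpObj Γ') (i' : Γ' ⟶ G), IsMonHom i' → IsClosedImmersion i'.left →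
        (∃ f'' : A ⊗ B ⟶ Γ', f'' ≫ i' = (((fst A B) ≫ a) * ((snd A B) ≫ b) * ((fst A B) ≫ a)⁻¹ * ((snd A B) ≫ b)⁻¹)) → ∃ j : Γ ⟶ Γ', j ≫ i' = i) :
    Set.range (fun z : 𝟙_ (Over (Spec (CommRingCat.of k))) ⟶ Γ => z ≫ i) =
      ((⁅Subgroup.closure (Set.range (fun x : 𝟙_ (Over (Spec (CommRingCat.of k))) ⟶ A => x ≫ a)),
         Subgroup.closure (Set.range (fun y : 𝟙_ (Over (Spec (CommRingCat.of k))) ⟶ B => y ≫ b))⁆ : Subgroup (𝟙_ (Over (Spec (CommRingCat.of k))) ⟶ G)) :
        Set (𝟙_ (Over (Spec (CommRingCat.of k))) ⟶ G)) := by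
  classical
  let U1 : Over (Spec (CommRingCat.of k)) := 𝟙_ (Over (Spec (CommRingCat.of k)))
  let c : A ⊗ B ⟶ G := commMap a b
  have hAlft : LocallyOfFiniteType A.hom := by
    rw [← Over.w a]
    infer_instance
  have hBlft : LocallyOfFiniteType B.hom := by
    rw [← Over.w b]
    infer_instance
  have hmonoa : Mono a := by
    have : Mono ((Over.forget _).map a) := by
      change Mono a.left
      infer_instance
    exact (Over.forget _).mono_of_mono_map this
  have hmonob : Mono b := by
    have : Mono ((Over.forget _).map b) := by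
      change Mono b.left
      infer_instance
    exact (Over.forget _).mono_of_mono_map this
  have hηG : (η[G] : U1 ⟶ G) = 1 := by
    rw [Hom.one_def, toUnit_unique (toUnit _) (𝟙 _), Category.id_comp]
  -- rewrite the goal in terms of subgroups of rational points
  have h1 : Set.range (fun z : U1 ⟶ Γ => z ≫ i) = ((ptsSubgroup i : Subgroup (U1 ⟶ G)) : Set _) :=
    rfl
  have hA : Subgroup.closure (Set.range (fun x : U1 ⟶ A => x ≫ a)) = ptsSubgroup a := by
    have : Set.range (fun x : U1 ⟶ A => x ≫ a) = ((ptsSubgroup a : Subgroup _) : Set _) := rfl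
    rw [this, Subgroup.closure_eq]
  have hB : Subgroup.closure (Set.range (fun y : U1 ⟶ B => y ≫ b)) = ptsSubgroup b := by
    have : Set.range (fun y : U1 ⟶ B => y ≫ b) = ((ptsSubgroup b : Subgroup _) : Set _) := rfl
    rw [this, Subgroup.closure_eq]
  change Set.range (fun z : U1 ⟶ Γ => z ≫ i) =
    ((⁅Subgroup.closure (Set.range (fun x : U1 ⟶ A => x ≫ a)),
      Subgroup.closure (Set.range (fun y : U1 ⟶ B => y ≫ b))⁆ : Subgroup (U1 ⟶ G)) : Set (U1 ⟶ G))
  rw [h1, hA, hB, SetLike.coe_set_eq]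
  have hcD : ∀ x : U1 ⟶ A ⊗ B, x ≫ c ∈ (⁅ptsSubgroup a, ptsSubgroup b⁆ : Subgroup (U1 ⟶ G)) := by
    intro x
    rw [comp_commMap]
    exact Subgroup.commutator_mem_commutator ⟨_, rfl⟩ ⟨_, rfl⟩
  have hZ1 : LocallyOfFiniteType (A ⊗ B).hom := tensor_lft A B
  have hZ3 : GeometricallyReduced (A ⊗ B).hom := tensor_geomRed A B
  have hfc : ∃ f' : A ⊗ B ⟶ Γ, f' ≫ i = c := hf
  have hminc : ∀ (Γ' : Over (Spec (CommRingCat.of k))) (_ : GrpObj Γ') (i' : Γ' ⟶ G), IsMonHom i' →
      IsClosedImmersion i'.left → (∃ f'' : A ⊗ B ⟶ Γ', f'' ≫ i' = c) → ∃ j : Γ ⟶ Γ', j ≫ i' = i :=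
    hmin
  apply le_antisymm
  · rcases hcase with ⟨hna, hnb, hAqc⟩ | hAconn
    · -- case (a)
      have h𝒜n : (ptsSubgroup a : Subgroup (U1 ⟶ G)).Normal := by
        constructor
        rintro _ ⟨x, rfl⟩ g
        obtain ⟨n', hn'⟩ := hna U1 g x
        exact ⟨n', hn'.symm⟩
      have hℬn : (ptsSubgroup b : Subgroup (U1 ⟶ G)).Normal := by
        constructor
        rintro _ ⟨x, rfl⟩ g
        obtain ⟨n', hn'⟩ := hnb U1 g x
        exact ⟨n', hn'.symm⟩
      obtain ⟨𝒜₀, h𝒜₀⟩ := exists_neutralPts a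
      obtain ⟨ℬ₀, hℬ₀⟩ := exists_neutralPts b
      have h𝒜₀n := normal_of_isNeutralPts a 𝒜₀ h𝒜₀ hna
      have hℬ₀n := normal_of_isNeutralPts b ℬ₀ hℬ₀ hnb
      obtain ⟨RA, hRA⟩ := exists_cover a 𝒜₀ h𝒜₀
      obtain ⟨RB, hRB⟩ := exists_cover b ℬ₀ hℬ₀
      obtain ⟨F, hF1, hF2⟩ := Groth.Agent.Lib.Helper41.Baer.exists_finite_cover
        (ptsSubgroup a) (ptsSubgroup b) 𝒜₀ ℬ₀ RA RB hRA hRB
      obtain ⟨N, hN, n, hn1, hn2, hn3, hn4, hn5, hn6⟩ := exists_neutral_commutator a b
      have hNlft : LocallyOfFiniteType N.hom := by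
        rw [← Over.w n]
        infer_instance
      let X' : Over (Spec (CommRingCat.of k)) := (A ⊗ B) ⊗ N
      have hX'1 : LocallyOfFiniteType X'.hom := tensor_lft (A ⊗ B) N
      have hX'3 : GeometricallyReduced X'.hom := tensor_geomRed (A ⊗ B) N
      let f' : X' ⟶ G := mulHom c n
      have hf'pt : ∀ {T : Over (Spec (CommRingCat.of k))} (u : T ⟶ X'),
          u ≫ f' = ((u ≫ fst (A ⊗ B) N) ≫ c) * ((u ≫ snd (A ⊗ B) N) ≫ n) := by
        intro T u
        change u ≫ ((fst (A ⊗ B) N ≫ c) * (snd (A ⊗ B) N ≫ n)) = _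
        rw [MonObj.comp_mul, Category.assoc, Category.assoc]
      obtain ⟨fc, hfc'⟩ := hfc
      obtain ⟨j, hj⟩ := hn4 Γ inferInstance i inferInstance inferInstance ⟨fc, hfc'⟩
      -- the subgroup generated by the values of `f'` is the commutator subgroup
      have hD' : Subgroup.closure (Set.range fun u : U1 ⟶ X' => u ≫ f') =
          (⁅ptsSubgroup a, ptsSubgroup b⁆ : Subgroup (U1 ⟶ G)) := by
        apply le_antisymm
        · rw [Subgroup.closure_le]
          rintro _ ⟨u, rfl⟩
          change u ≫ f' ∈ _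
          rw [hf'pt]
          exact mul_mem (hcD _) (hn6 ⟨_, rfl⟩)
        · rw [Subgroup.commutator_le]
          rintro g₁ ⟨x, hx⟩ g₂ ⟨y, hy⟩
          have hx' : x ≫ a = g₁ := hx
          have hy' : y ≫ b = g₂ := hy
          apply Subgroup.subset_closure
          refine ⟨lift (lift x y) η[N], ?_⟩
          change lift (lift x y) η[N] ≫ f' = _
          rw [hf'pt, lift_fst, lift_snd, lift_commMap, IsMonHom.one_hom, hηG, _root_.mul_one, hx', hy']
      -- the hypotheses of the finite index statement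
      have hH : Set.range n.left.base ⊆ Set.range f'.left.base := by
        rintro _ ⟨z, rfl⟩
        let y₀ : (A ⊗ B).left := (lift η[A] η[B]).left.base (Groth.Agent.Lib.Helper41.PtsLemmas.pt k)
        have hy₀ : c.left.base y₀ = η[G].left.base (Groth.Agent.Lib.Helper41.PtsLemmas.pt k) := by
          change (lift η[A] η[B] ≫ c).left.base (Groth.Agent.Lib.Helper41.PtsLemmas.pt k) = _
          rw [lift_commMap, IsMonHom.one_hom, hηG, commutatorElement_one_left, ← hηG]
        obtain ⟨w, hw1, hw2⟩ := exists_point (Y := A ⊗ B) (H := N) y₀ z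
        obtain ⟨w', e1, e2, e3⟩ := mulHom_apply c n w
        refine ⟨w, ?_⟩
        change (mulHom c n).left.base w = _
        rw [← e3, Groth.Agent.Lib.Helper41.WordPattern.mul_eq_snd_of_fst_unit w'
          (by rw [e1, hw1, hy₀]; exact ⟨_, rfl⟩), e2, hw2]
      have hfΓ : ∃ f'' : X' ⟶ Γ, f'' ≫ i = f' := by
        refine ⟨(fst (A ⊗ B) N ≫ fc) * (snd (A ⊗ B) N ≫ j), ?_⟩
        rw [MonObj.mul_comp, Category.assoc, Category.assoc, hfc', hj]
        rfl
      have hminΓ : ∀ (Γ' : Over (Spec (CommRingCat.of k))) (_ : GrpObj Γ') (i' : Γ' ⟶ G),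
          IsMonHom i' → IsClosedImmersion i'.left → (∃ f'' : X' ⟶ Γ', f'' ≫ i' = f') →
          ∃ j : Γ ⟶ Γ', j ≫ i' = i := by
        intro Γ' hΓ' i' h1' h2' ⟨f'', hf''⟩
        apply hminc Γ' hΓ' i' h1' h2'
        refine ⟨lift (𝟙 (A ⊗ B)) (toUnit (A ⊗ B) ≫ η[N]) ≫ f'', ?_⟩
        rw [Category.assoc, hf'', hf'pt, lift_fst, lift_snd, Category.id_comp, Category.assoc,
          IsMonHom.one_hom, comp_unit_eq_one, _root_.mul_one]
      have hfin : ∃ F : Finset (U1 ⟶ G),
          (∀ a ∈ F, ∃ (n : ℕ) (T : Over (Spec (CommRingCat.of k))) (p : T.left) (p₀ : U1.left)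
            (x : Fin n → (T ⟶ X')) (ε : Fin n → Bool),
            ((List.ofFn fun j : Fin n => if ε j then x j ≫ f' else (x j ≫ f')⁻¹).prod :
              T ⟶ G).left.base p = a.left.base p₀) ∧
          ∀ g : U1 ⟶ G, (∃ (n : ℕ) (T : Over (Spec (CommRingCat.of k))) (p : T.left) (p₀ : U1.left)
            (x : Fin n → (T ⟶ X')) (ε : Fin n → Bool),
            ((List.ofFn fun j : Fin n => if ε j then x j ≫ f' else (x j ≫ f')⁻¹).prod :
              T ⟶ G).left.base p = g.left.base p₀) →
            ∃ a ∈ F, ∃ y : U1 ⟶ N, g = a * (y ≫ n) := by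
        refine ⟨F, ?_, ?_⟩
        · intro d hd
          rw [underWord_iff, hD']
          exact hF1 d hd
        · intro g hg
          rw [underWord_iff, hD'] at hg
          obtain ⟨d, hd, hdg⟩ := hF2 g hg
          obtain ⟨y, hy⟩ := hn5 𝒜₀ ℬ₀ h𝒜₀ hℬ₀ hdg
          have hy' : y ≫ n = d⁻¹ * g := hy
          refine ⟨d, hd, y, ?_⟩
          rw [hy']
          group
      obtain ⟨⟨M, hM⟩, -⟩ := Groth.Agent.S6077.result k G X' N f' n hH Γ i hfΓ hminΓ hfin
      rintro g ⟨z, hz⟩
      have hz' : z ≫ i = g := hz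
      have hgm : g.left.base (Groth.Agent.Lib.Helper41.PtsLemmas.pt k) ∈ wordLen f' M := by
        change g.left.base (Groth.Agent.Lib.Helper41.PtsLemmas.pt k) ∈ {g : G.left | ∃ (T : Over (Spec (CommRingCat.of k)))
          (p : T.left) (x : Fin M → (T ⟶ X')) (ε : Fin M → Bool),
          ((List.ofFn fun j : Fin M => if ε j then x j ≫ f' else (x j ≫ f')⁻¹).prod :
            T ⟶ G).left.base p = g}
        rw [← hM, ← hz']
        exact ⟨z.left.base (Groth.Agent.Lib.Helper41.PtsLemmas.pt k), rfl⟩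
      have := mem_closure_of_mem_wordLen f' g M hgm
      rw [hD'] at this
      exact this
    · -- case (b)
      have hAcomp : CompactSpace A.left := by
        have h1 := (Groth.Agent.S0355.result k A).2
        rw [PreconnectedSpace.connectedComponent_eq_univ] at h1
        exact isCompact_univ_iff.mp h1
      have hAqc : QuasiCompact A.hom :=
        Groth.Agent.Lib.Helper41.GenStep.quasiCompact_of_compactSpace A.hom
      have hAgc : GeometricallyConnected A.hom :=
        Groth.Agent.Lib.Helper41.GeomConnGroup.geometricallyConnected_of_section A.hom η[A].left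
          (Over.w η[A])
      have hZ2 : QuasiCompact (A ⊗ B).hom := tensor_qc A B
      have hZne : Nonempty (A ⊗ B).left := ⟨(lift η[A] η[B]).left.base (Groth.Agent.Lib.Helper41.PtsLemmas.pt k)⟩
      have hcc : ∀ x : (A ⊗ B).left, ∃ x' ∈ connectedComponent x,
          c.left.base x' ∈ Set.range η[G].left.base := by
        intro x
        have hsndgc : GeometricallyConnected (snd A B).left := by
          rw [Over.snd_left]
          infer_instance
        let r : A ⊗ B ⟶ A ⊗ B := snd A B ≫ lift (toUnit B ≫ η[A]) (𝟙 B)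
        have hr : r ≫ snd A B = snd A B := by
          simp only [r, Category.assoc, lift_snd, Category.comp_id]
        have hrc : r ≫ c = 1 := by
          rw [comp_commMap]
          have : (r ≫ fst A B) ≫ a = 1 := by
            simp only [r, Category.assoc, lift_fst]
            rw [IsMonHom.one_hom, ← Category.assoc, comp_unit_eq_one]
          rw [this, commutatorElement_one_left]
        refine ⟨r.left.base x, ?_, ?_⟩
        · have hconn := Scheme.Hom.isConnected_preimage_singleton (snd A B).left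
            ((snd A B).left.base x)
          apply hconn.isPreconnected.subset_connectedComponent (Set.mem_preimage.mpr rfl)
          change (snd A B).left.base (r.left.base x) = (snd A B).left.base x
          change (r ≫ snd A B).left.base x = _
          rw [hr]
        · change (r ≫ c).left.base x ∈ _
          rw [hrc, Hom.one_def]
          exact ⟨(toUnit (A ⊗ B)).left.base x, rfl⟩
      obtain ⟨⟨M, hM⟩, -, -⟩ :=
        Groth.Agent.Lib.Helper41.BoundedAlgClosed2.bounded_of_algClosed' c hcc Γ i hfc hminc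
      rintro g ⟨z, hz⟩
      have hz' : z ≫ i = g := hz
      have hgm : g.left.base (Groth.Agent.Lib.Helper41.PtsLemmas.pt k) ∈ wordLen c M := by
        rw [← hM, ← hz']
        exact ⟨z.left.base (Groth.Agent.Lib.Helper41.PtsLemmas.pt k), rfl⟩
      have := mem_closure_of_mem_wordLen c g M hgm
      refine (Subgroup.closure_le _).mpr ?_ this
      rintro _ ⟨u, rfl⟩
      exact hcD u
  · rw [Subgroup.commutator_le]
    rintro g₁ ⟨x, hx⟩ g₂ ⟨y, hy⟩
    have hx' : x ≫ a = g₁ := hx
    have hy' : y ≫ b = g₂ := hy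
    obtain ⟨f', hf'⟩ := hfc
    refine ⟨lift x y ≫ f', ?_⟩
    change (lift x y ≫ f') ≫ i = _
    rw [Category.assoc, hf', lift_commMap, hx', hy']

end Groth.Agent.S6073
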