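import Groth.Statements.S6074
import Groth.Agent.S5361
import Groth.Agent.Lib.Helper41.BoundedAlgClosed
import Groth.Agent.Lib.Helper41.WordDescent

set_option autoImplicit false
universe u
open CategoryTheory CategoryTheory.Limits MonoidalCategory CartesianMonoidalCategory MonObj GrpObj AlgebraicGeometry
open SGA3

namespace Groth.Agent.S6074

/-- Let k be a field, G a group scheme locally of finite type over k, X a k-scheme of finite type,
geometrically reduced and geometrically connected, and f : X → G a k-morphism whose image contains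
the unit point of G. Let i : Γ → G be the smallest closed subgroup scheme of G through which f
factors. Then there is a natural number N such that the underlying set of Γ is the set of points of
G lying under a word of length N in f: a point g of G is in the image of i if and only if there are
a k-scheme T, a point p of T, T-valued points x_1, …, x_N of X and signs such that the T-valued
point f(x_1)^{±1} ⋯ f(x_N)^{±1} of G maps p to g. (The set of points of G lying under words of
length exactly N is the image of the N-th iterated word morphism X^N → G built from f and its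
inverse.) -/
theorem result (k : Type u) [Field k]
    (G X : Over (Spec (CommRingCat.of k))) [GrpObj G] [LocallyOfFiniteType G.hom]
    [LocallyOfFiniteType X.hom] [QuasiCompact X.hom] [GeometricallyReduced X.hom] [GeometricallyConnected X.hom]
    (f : X ⟶ G) (he : ∃ x : X.left, f.left.base x ∈ Set.range (η[G] : 𝟙_ (Over (Spec (CommRingCat.of k))) ⟶ G).left.base)
    (Γ : Over (Spec (CommRingCat.of k))) [GrpObj Γ] (i : Γ ⟶ G) [IsMonHom i] [IsClosedImmersion i.left]
    (hf : ∃ f' : X ⟶ Γ, f' ≫ i = f)
    (hmin : ∀ (Γ' : Over (Spec (CommRingCat.of k))) (_ : GrpObj Γ') (i' : Γ' ⟶ G), IsMonHom i' → IsClosedImmersion i'.left →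
        (∃ f'' : X ⟶ Γ', f'' ≫ i' = f) → ∃ j : Γ ⟶ Γ', j ≫ i' = i) :
    ∃ N : ℕ, Set.range i.left.base =
      {g : G.left | ∃ (T : Over (Spec (CommRingCat.of k))) (p : T.left) (x : Fin N → (T ⟶ X)) (ε : Fin N → Bool),
        ((List.ofFn fun j : Fin N => if ε j then x j ≫ f else (x j ≫ f)⁻¹).prod : T ⟶ G).left.base p = g} := by
  classical
  have hsubk : Subsingleton (Spec (CommRingCat.of k)) :=
    inferInstanceAs (Subsingleton (PrimeSpectrum k))
  let K := AlgebraicClosure k
  have hsubK : Subsingleton (Spec (CommRingCat.of K)) :=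
    inferInstanceAs (Subsingleton (PrimeSpectrum K))
  let ptK : Spec (CommRingCat.of K) := (IsLocalRing.closedPoint K : PrimeSpectrum K)
  let σ : Spec (CommRingCat.of K) ⟶ Spec (CommRingCat.of k) :=
    Spec.map (CommRingCat.ofHom (algebraMap k K))
  let F := Over.pullback σ
  -- the base-changed data
  have hG1 : LocallyOfFiniteType (F.obj G).hom := by
    change LocallyOfFiniteType (pullback.snd G.hom σ)
    infer_instance
  have hX1 : LocallyOfFiniteType (F.obj X).hom := by
    change LocallyOfFiniteType (pullback.snd X.hom σ)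
    infer_instance
  have hX2 : QuasiCompact (F.obj X).hom := by
    change QuasiCompact (pullback.snd X.hom σ)
    infer_instance
  have hX3 : GeometricallyReduced (F.obj X).hom := by
    change GeometricallyReduced (pullback.snd X.hom σ)
    infer_instance
  have hX4 : ConnectedSpace (F.obj X).left := by
    have : GeometricallyConnected (pullback.snd X.hom σ) := inferInstance
    have : Nonempty (Spec (CommRingCat.of K)) := ⟨ptK⟩
    exact GeometricallyConnected.connectedSpace_of_subsingleton (f := pullback.snd X.hom σ)
  have hi1 : IsMonHom (F.map i) := Functor.map.instIsMonHom (F := Over.pullback σ) Γ G i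
  have hi2 : IsClosedImmersion (F.map i).left :=
    Groth.Agent.Lib.Helper41.WordDescent.isClosedImmersion_map_left σ i
  -- points of the base change above given points
  have hlift : ∀ (A : Over (Spec (CommRingCat.of k))) (a : A.left),
      ∃ a' : (F.obj A).left, (pullback.fst A.hom σ).base a' = a := by
    intro A a
    obtain ⟨z, hz, -⟩ := Scheme.Pullback.exists_preimage_pullback (f := A.hom) (g := σ) a ptK
      (hsubk.elim _ _)
    exact ⟨z, hz⟩
  have hmapfst : ∀ {A B : Over (Spec (CommRingCat.of k))} (φ : A ⟶ B) (a' : (F.obj A).left),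
      (pullback.fst B.hom σ).base ((F.map φ).left.base a') =
        φ.left.base ((pullback.fst A.hom σ).base a') := by
    intro A B φ a'
    have h : (F.map φ).left ≫ pullback.fst B.hom σ = pullback.fst A.hom σ ≫ φ.left :=
      pullback.lift_fst _ _ _
    change ((F.map φ).left ≫ pullback.fst B.hom σ).base a' = (pullback.fst A.hom σ ≫ φ.left).base a'
    rw [h]
  have heK : ∃ x : (F.obj X).left,
      (F.map f).left.base x ∈ Set.range η[F.obj G].left.base := by
    obtain ⟨x, hx⟩ := he
    obtain ⟨x', hx'⟩ := hlift X x
    refine ⟨x', Groth.Agent.Lib.Helper41.WordDescent.mem_range_unit_of_fst σ _ ?_⟩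
    rw [hmapfst f x', hx']
    exact hx
  have hfK : ∃ f' : F.obj X ⟶ F.obj Γ, f' ≫ F.map i = F.map f := by
    obtain ⟨f', hf'⟩ := hf
    exact ⟨F.map f', by rw [← Functor.map_comp, hf']⟩
  have hminK : ∀ (Γ' : Over (Spec (CommRingCat.of K))) (_ : GrpObj Γ') (i' : Γ' ⟶ F.obj G),
      IsMonHom i' → IsClosedImmersion i'.left → (∃ f'' : F.obj X ⟶ Γ', f'' ≫ i' = F.map f) →
      ∃ j : F.obj Γ ⟶ Γ', j ≫ i' = F.map i := by
    intro Γ' hΓ' i' h1 h2 h3
    exact Groth.Agent.S5361.result k G X f Γ i hf hmin (Spec (CommRingCat.of K)) σ Γ' hΓ' i' h1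
      inferInstance h3
  obtain ⟨N, hN⟩ := Groth.Agent.Lib.Helper41.BoundedAlgClosed.bounded_of_algClosed
    (F.map f) heK (F.obj Γ) (F.map i) hfK hminK
  obtain ⟨f', hf'⟩ := hf
  refine ⟨N, subset_antisymm ?_
    (Groth.Agent.Lib.Helper41.WordLength.wordLen_subset_range f i f' hf' N)⟩
  rintro _ ⟨z, rfl⟩
  obtain ⟨z', hz'⟩ := hlift Γ z
  have h1 : (F.map i).left.base z' ∈
      Groth.Agent.Lib.Helper41.WordLength.wordLen (F.map f) N := by
    rw [← hN]
    exact ⟨z', rfl⟩
  have h2 := Groth.Agent.Lib.Helper41.WordDescent.wordLen_descend σ f N _ h1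
  rw [hmapfst i z', hz'] at h2
  exact h2

end Groth.Agent.S6074
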