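import Groth.Statements.S6076
import Groth.Agent.Lib.Helper41.UniversalWord
import Groth.Agent.Lib.Helper21.OfComp

set_option autoImplicit false
universe u
open CategoryTheory CategoryTheory.Limits MonoidalCategory CartesianMonoidalCategory MonObj GrpObj AlgebraicGeometry
open SGA3

namespace Groth.Agent.S6076

/-- (iii) ⟹ (iv): let S be a scheme, X an S-scheme which is flat and locally of finite presentation over
S, H an S-group scheme locally of finite presentation over S with reduced fibres and quasi-compact
underlying space, and f : X → H an S-morphism. Say that a point h of H lies under a word of length n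
in f when there are an S-scheme T, a point p of T, T-valued points x_1, …, x_n of X and signs such
that the T-valued point f(x_1)^{±1} ⋯ f(x_n)^{±1} of H maps p to h. If every point of H lies under
some word in f, then there is a natural number n such that every point of H lies under a word of
length at most n. (The published statement concludes with words of one fixed length n and an
fppf-covering word morphism; for the constant group of order two over a field and f the non-trivial
point, the points under words of length n alternate between the two points of H, so only the bound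
on the length is stated here, and the covering assertion is not stated.) -/
theorem result (S : Scheme.{u}) (X H : Over S) [GrpObj H]
    [Flat X.hom] [LocallyOfFinitePresentation X.hom] [LocallyOfFinitePresentation H.hom]
    (hred : ∀ s : S, IsReduced (H.hom.fiber s)) [CompactSpace H.left] (f : X ⟶ H)
    (hsurj : ∀ h : H.left, ∃ (n : ℕ) (T : Over S) (p : T.left) (x : Fin n → (T ⟶ X)) (ε : Fin n → Bool),
      ((List.ofFn fun j : Fin n => if ε j then x j ≫ f else (x j ≫ f)⁻¹).prod : T ⟶ H).left.base p = h) :
    ∃ n : ℕ, ∀ h : H.left, ∃ (m : ℕ) (_ : m ≤ n) (T : Over S) (p : T.left) (x : Fin m → (T ⟶ X)) (ε : Fin m → Bool),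
      ((List.ofFn fun j : Fin m => if ε j then x j ≫ f else (x j ≫ f)⁻¹).prod : T ⟶ H).left.base p = h := by
  classical
  let 𝒱 := H.left.affineCover.finiteSubcover
  let W : (l : List Bool) → (Groth.Agent.Lib.Helper41.UniversalWord.uObj X l ⟶ H) := fun l =>
    Groth.Agent.Lib.Helper41.WordPoints.word f (Groth.Agent.Lib.Helper41.UniversalWord.uList X l)
  have hWlfp : ∀ l, LocallyOfFinitePresentation (W l).left := by
    intro l
    have h0 := Groth.Agent.Lib.Helper41.UniversalWord.uObj_lfp X l
    have h1 : LocallyOfFinitePresentation ((W l).left ≫ H.hom) := by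
      rw [Over.w]
      exact h0
    exact Groth.Agent.Lib.Helper21.locallyOfFinitePresentation_of_comp_of_locallyOfFiniteType
      (W l).left H.hom
  have hrange : ∀ h : H.left, ∃ l : List Bool, h ∈ Set.range (W l).left.base := by
    intro h
    obtain ⟨n, T, p, x, ε, hx⟩ := hsurj h
    rw [Groth.Agent.Lib.Helper41.UniversalWord.ofFn_prod_eq_word'] at hx
    obtain ⟨g, hg⟩ := Groth.Agent.Lib.Helper41.UniversalWord.exists_factor
      (List.ofFn fun j => (x j, ε j))
    refine ⟨_, g.left.base p, ?_⟩
    rw [← hx]
    conv_rhs => rw [hg, ← Groth.Agent.Lib.Helper41.WordPoints.comp_word]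
    rfl
  have hchart : ∀ i : 𝒱.I₀, ∃ t : Finset (List Bool), ∀ v : 𝒱.X i, ∃ l ∈ t,
      (𝒱.f i).base v ∈ Set.range (W l).left.base := by
    intro i
    let Q : List Bool → Scheme.{u} := fun l => Limits.pullback (W l).left (𝒱.f i)
    let J := Σ l : List Bool, (Q l).affineCover.I₀
    let φ : (j : J) → ((Q j.1).affineCover.X j.2 ⟶ 𝒱.X i) := fun j =>
      (Q j.1).affineCover.f j.2 ≫ Limits.pullback.snd (W j.1).left (𝒱.f i)
    let C : J → Set (𝒱.X i) := fun j => Set.range (φ j).base
    have hC : ∀ j, Topology.IsConstructible (C j) := by
      intro j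
      have h1 : LocallyOfFinitePresentation (φ j) := by
        have := hWlfp j.1
        infer_instance
      have h2 : QuasiCompact (φ j) := by
        have : IsAffine ((Q j.1).affineCover.X j.2) := inferInstance
        have : IsAffine (𝒱.X i) := inferInstance
        infer_instance
      have h3 := (φ j).isConstructible_image (s := Set.univ) Topology.IsConstructible.univ
      rw [Set.image_univ] at h3
      exact h3
    have hcov : ∀ v, ∃ j, v ∈ C j := by
      intro v
      obtain ⟨l, y, hy⟩ := hrange ((𝒱.f i).base v)
      obtain ⟨q, hq1, hq2⟩ := Scheme.Pullback.exists_preimage_pullback (f := (W l).left)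
        (g := 𝒱.f i) y v hy
      obtain ⟨j₂, z, hz⟩ := (Q l).affineCover.exists_eq q
      refine ⟨⟨l, j₂⟩, z, ?_⟩
      change (Limits.pullback.snd (W l).left (𝒱.f i)).base (((Q l).affineCover.f j₂).base z) = v
      rw [hz]
      exact hq2
    obtain ⟨t, ht⟩ := Groth.Agent.Lib.Helper41.UniversalWord.exists_finite_subcover_of_isConstructible
      C hC hcov
    refine ⟨t.image Sigma.fst, fun v => ?_⟩
    obtain ⟨j, hjt, z, hz⟩ := ht v
    refine ⟨j.1, Finset.mem_image_of_mem _ hjt, ?_⟩
    refine ⟨(Limits.pullback.fst (W j.1).left (𝒱.f i)).base (((Q j.1).affineCover.f j.2).base z), ?_⟩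
    rw [← hz]
    change ((Limits.pullback.fst (W j.1).left (𝒱.f i)) ≫ (W j.1).left).base _ =
      ((Limits.pullback.snd (W j.1).left (𝒱.f i)) ≫ 𝒱.f i).base _
    rw [Limits.pullback.condition]
    rfl
  choose t ht using hchart
  let n := Finset.univ.sup (fun i => (t i).sup List.length)
  refine ⟨n, fun h => ?_⟩
  obtain ⟨i, v, hv⟩ := 𝒱.exists_eq h
  obtain ⟨l, hlt, y, hy⟩ := ht i v
  refine ⟨(Groth.Agent.Lib.Helper41.UniversalWord.uList X l).length, ?_,
    Groth.Agent.Lib.Helper41.UniversalWord.uObj X l, y,
    fun j => ((Groth.Agent.Lib.Helper41.UniversalWord.uList X l).get j).1,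
    fun j => ((Groth.Agent.Lib.Helper41.UniversalWord.uList X l).get j).2, ?_⟩
  · rw [Groth.Agent.Lib.Helper41.UniversalWord.uList_length]
    exact le_trans (Finset.le_sup (f := List.length) hlt)
      (Finset.le_sup (f := fun i => (t i).sup List.length) (Finset.mem_univ i))
  · rw [Groth.Agent.Lib.Helper41.UniversalWord.ofFn_get_prod_eq_word, ← hv]
    exact hy

end Groth.Agent.S6076
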