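import Groth.Statements.S6080
import Groth.Agent.Lib.Helper84.SerreSub
import Groth.Agent.Lib.Helper84.CoeffMat
import Groth.Agent.Lib.Helper84.DualFree
-- import your own Groth.Agent.* helpers here

set_option autoImplicit false
universe u
open TensorProduct
open SGA3

namespace Groth.Agent.S6080
open Groth.Agent.Lib.Helper84

/-- Let R be a Noetherian regular ring of Krull dimension at most 2 and A a commutative Hopf algebra
over R which is flat as an R-module, so that G = Spec A is an affine flat R-group scheme, not
necessarily of finite type. Then every finite subset F of A is contained in a finite-type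
sub-Hopf-algebra of the following form: there are a natural number d and a d × d matrix (a_ij) of
elements of A with Δ(a_ij) = Σ_l a_il ⊗ a_lj and ε(a_ij) = δ_ij (a matrix corepresentation, i.e. a
homomorphism G → GL_{d,R}) whose determinant is a unit, such that F lies in the R-subalgebra
generated by the entries a_ij together with the inverse of det(a_ij) (the affine algebra of the
schematic image of G in GL_{d,R}). Consequently A is the directed union of finite-type
sub-Hopf-algebras each of which is a quotient of the Hopf algebra of some GL_{d,R}. (The published
statement asserts that A is a filtered union of sub-Hopf-algebras of finite type which are moreover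
flat over R. The published proof produces the sub-Hopf-algebras described here, as coefficient
algebras of finite projective subcomodules, and does not address their flatness; they need not be
flat: for the additive group over R = k[x, y], so A = R[s] with s primitive, and the subcomodule
spanned by 1, x s and y s, the construction gives the subalgebra R[x s, y s], which as an R-module
is the direct sum of the powers of the ideal (x, y) and is not flat. Flatness of the
sub-Hopf-algebras is therefore not asserted here. The published statement is over a Noetherian
regular scheme of dimension at most 2; this row is the affine case.) -/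
theorem result (R : Type u) [CommRing R] [IsRegularRing R]
    (hdim : ringKrullDim R ≤ 2) (A : Type u) [CommRing A] [HopfAlgebra R A] [Module.Flat R A] (F : Finset A) :
    ∃ (d : ℕ) (a : Matrix (Fin d) (Fin d) A),
      (∀ i j, CoalgebraStruct.comul (R := R) (a i j) = ∑ l, a i l ⊗ₜ[R] a l j) ∧
      (∀ i j, CoalgebraStruct.counit (R := R) (a i j) = if i = j then 1 else 0) ∧
      ∃ u : A, u * a.det = 1 ∧ (↑F : Set A) ⊆ Algebra.adjoin R (Set.range (fun p : Fin d × Fin d => a p.1 p.2) ∪ {u}) := by
  classical
  haveI : IsNoetherianRing R := inferInstance
  obtain ⟨N, hN, hFN⟩ := SerreSub.exists_fg_core (R := R) F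
  letI instV : HopfRep.Comod R A (SerreSub.core N) := SerreSub.coreComod N
  haveI : Module.Finite R (SerreSub.core N) := Module.Finite.iff_fg.mpr (SerreSub.fg_core hN)
  haveI : Module.FinitePresentation R (SerreSub.core N) := Module.finitePresentation_of_finite R _
  haveI : Module.Finite R (Module.Dual R (SerreSub.core N)) := CoeffMat.finite_dual R _
  haveI : Module.FinitePresentation R (Module.Dual R (SerreSub.core N)) :=
    Module.finitePresentation_of_finite R _
  haveI : Module.Finite R (Module.Dual R (Module.Dual R (SerreSub.core N))) :=
    CoeffMat.finite_dual R _
  haveI : Module.Projective R (Module.Dual R (Module.Dual R (SerreSub.core N))) :=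
    DualFree.projective_dual_of_dim_le_two R hdim (Module.Dual R (SerreSub.core N))
  have hρ : TranspComod.IsCoact (CoalgebraStruct.comul (R := R) (A := A))
      (CoalgebraStruct.counit (R := R) (A := A)) (SerreSub.coreCoact N) :=
    CoeffMat.isCoact_of_comod (inst := instV)
  have hbV : Function.Bijective (dualTensorHom R (SerreSub.core N) A) :=
    TranspComod.dth_bijective
  have hbW : Function.Bijective (dualTensorHom R (Module.Dual R (SerreSub.core N)) A) :=
    TranspComod.dth_bijective
  have h1 := hρ.transp hbV TranspComod.dth_injective TranspComod.dth_injective
  have h2 := h1.transp hbW TranspComod.dth_injective TranspComod.dth_injective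
  rw [TranspComod.comm_comm_comp] at h2
  letI instP : HopfRep.Comod R A (Module.Dual R (Module.Dual R (SerreSub.core N))) :=
    CoeffMat.comodOfIsCoact _ h2
  obtain ⟨d, a, hΔ, hε, hdet, hmem⟩ := CoeffMat.exists_matrix_of_projective (R := R) (A := A)
    (P := Module.Dual R (Module.Dual R (SerreSub.core N)))
  refine ⟨d, a, hΔ, hε, (a.map (HopfAlgebra.antipode R (A := A))).det, hdet, ?_⟩
  intro f hf
  have hfV : f ∈ SerreSub.core N := hFN hf
  -- the functional `ε` on `V`
  set w₀ : Module.Dual R (SerreSub.core N) :=
    (CoalgebraStruct.counit (R := R) (A := A)) ∘ₗ (SerreSub.core N).subtype with hw₀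
  have key : TranspComod.pair2 A w₀ (SerreSub.coreCoact N ⟨f, hfV⟩) = f := by
    have e1 : ∀ z : (SerreSub.core N) ⊗[R] A, TranspComod.pair2 A w₀ z =
        (TensorProduct.lid R A) (((CoalgebraStruct.counit (R := R) (A := A)).rTensor A)
          (((SerreSub.core N).subtype.rTensor A) z)) := by
      intro z
      induction z using TensorProduct.induction_on with
      | zero => simp
      | tmul x b => simp [hw₀]
      | add x y hx hy => simp only [map_add, hx, hy]
    rw [e1, SerreSub.rTensor_coreCoact, Coalgebra.rTensor_counit_comul]
    simp
  have hm := hmem (Module.Dual.eval R (Module.Dual R (SerreSub.core N)) w₀)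
    (Module.Dual.eval R (SerreSub.core N) ⟨f, hfV⟩)
  have hco : HopfRep.Comod.coact (k := R) (A := A)
      (V := Module.Dual R (Module.Dual R (SerreSub.core N)))
      (Module.Dual.eval R (SerreSub.core N) ⟨f, hfV⟩) =
      TranspComod.transp hbW (TranspComod.transp hbV (SerreSub.coreCoact N))
        (Module.Dual.eval R (SerreSub.core N) ⟨f, hfV⟩) := rfl
  rw [hco, TranspComod.pair2_eval_transp_transp, key] at hm
  have hle : Submodule.span R (Set.range (fun q : Fin d × Fin d => a q.1 q.2)) ≤
      Subalgebra.toSubmodule (Algebra.adjoin R (Set.range (fun p : Fin d × Fin d => a p.1 p.2) ∪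
        {(a.map (HopfAlgebra.antipode R (A := A))).det})) := by
    rw [Submodule.span_le]
    rintro _ ⟨q, rfl⟩
    exact Algebra.subset_adjoin (Or.inl ⟨q, rfl⟩)
  exact hle hm

end Groth.Agent.S6080
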