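import Groth.Statements.S6081
import Groth.Agent.Lib.Helper84.SerreSub
import Groth.Agent.Lib.Helper84.ProjComod
-- import your own Groth.Agent.* helpers here

set_option autoImplicit false
universe u
open TensorProduct
open SGA3

namespace Groth.Agent.S6081
open Groth.Agent.Lib.Helper84

/-- Let R be a Noetherian ring and A a commutative Hopf algebra over R which is flat and of finite type
as an R-algebra, so that G = Spec A is an affine flat R-group scheme of finite type. Suppose that
the pair (G, Spec R) has the equivariant resolution property: for every A-comodule F which is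
finitely generated as an R-module there are an A-comodule E which is finitely generated and
projective as an R-module and a surjective R-linear map E → F compatible with the coactions. Then
there are a natural number d and a d × d matrix (a_ij) of elements of A with Δ(a_ij) = Σ_l a_il ⊗
a_lj and ε(a_ij) = δ_ij (a matrix corepresentation, i.e. a homomorphism G → GL_{d,R}) whose
determinant is a unit, such that A is generated as an R-algebra by the entries a_ij together with
the inverse of det(a_ij): G is a closed subgroup scheme of GL_{d,R}. (The published statement is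
over a Noetherian scheme S, with G-equivariant coherent modules; this row is its assertion (ii), the
case S affine, in Hopf-algebra form.) -/
theorem result (R : Type u) [CommRing R] [IsNoetherianRing R]
    (A : Type u) [CommRing A] [HopfAlgebra R A] [Module.Flat R A] [Algebra.FiniteType R A]
    (hRE : ∀ (F : Type u) [AddCommGroup F] [Module R F] [HopfRep.Comod R A F] [Module.Finite R F],
      ∃ (E : Type u) (_ : AddCommGroup E) (_ : Module R E) (_ : HopfRep.Comod R A E) (π : E →ₗ[R] F),
        Module.Finite R E ∧ Module.Projective R E ∧ Function.Surjective π ∧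
        HopfRep.Comod.coact (k := R) (A := A) ∘ₗ π = π.rTensor A ∘ₗ HopfRep.Comod.coact (k := R) (A := A) (V := E)) :
    ∃ (d : ℕ) (a : Matrix (Fin d) (Fin d) A),
      (∀ i j, CoalgebraStruct.comul (R := R) (a i j) = ∑ l, a i l ⊗ₜ[R] a l j) ∧
      (∀ i j, CoalgebraStruct.counit (R := R) (a i j) = if i = j then 1 else 0) ∧
      ∃ u : A, u * a.det = 1 ∧ Algebra.adjoin R (Set.range (fun p : Fin d × Fin d => a p.1 p.2) ∪ {u}) = ⊤ := by
  classical
  obtain ⟨F, hF⟩ := (Algebra.FiniteType.out : (⊤ : Subalgebra R A).FG)
  obtain ⟨N, hN, hFN⟩ := SerreSub.exists_fg_core (R := R) F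
  letI instV : HopfRep.Comod R A (SerreSub.core N) := SerreSub.coreComod N
  haveI : Module.Finite R (SerreSub.core N) := Module.Finite.iff_fg.mpr (SerreSub.fg_core hN)
  obtain ⟨E, iE1, iE2, iE3, π, hEfin, hEproj, hπ, hπco⟩ := hRE (SerreSub.core N)
  obtain ⟨d, p, hp⟩ := Module.Finite.exists_fin' R E
  obtain ⟨i, hi⟩ := Module.projective_lifting_property p LinearMap.id hp
  letI instF : HopfRep.Comod R A (Fin d → R) := ProjComod.retractComod i p hi
  obtain ⟨a, ha, hΔ, hε⟩ := ProjComod.exists_matCoeff (C := A) (Pi.basisFun R (Fin d))
  refine ⟨d, Matrix.of a, hΔ, hε,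
    ((Matrix.of a).map (HopfAlgebra.antipode R (A := A))).det,
    ProjComod.det_unit (R := R) (Matrix.of a) hΔ hε, ?_⟩
  set S := Algebra.adjoin R (Set.range (fun q : Fin d × Fin d => (Matrix.of a) q.1 q.2) ∪
    {((Matrix.of a).map (HopfAlgebra.antipode R (A := A))).det}) with hS
  have haS : ∀ j l, a j l ∈ S := fun j l =>
    Algebra.subset_adjoin (Or.inl ⟨(j, l), rfl⟩)
  -- the linear map `T`
  set g : (Fin d → R) →ₗ[R] A := (SerreSub.core N).subtype ∘ₗ π ∘ₗ p with hg
  set T : (Fin d → R) →ₗ[R] A := (TensorProduct.lid R A).toLinearMap ∘ₗ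
    ((CoalgebraStruct.counit (R := R) (A := A)).rTensor A) ∘ₗ (g.rTensor A) ∘ₗ
    (HopfRep.Comod.coact (k := R) (A := A) (V := Fin d → R)) with hT
  have hTb : ∀ l, T (Pi.basisFun R (Fin d) l) ∈ S := by
    intro l
    rw [hT]
    simp only [LinearMap.comp_apply, LinearEquiv.coe_coe]
    rw [ha l]
    simp only [map_sum, LinearMap.rTensor_tmul, TensorProduct.lid_tmul]
    exact Subalgebra.sum_mem _ fun j _ => Subalgebra.smul_mem _ (haS j l) _
  have hTx : ∀ x : Fin d → R, T x ∈ S := by
    intro x
    rw [← (Pi.basisFun R (Fin d)).sum_repr x, map_sum]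
    refine Subalgebra.sum_mem _ fun l _ => ?_
    rw [map_smul]
    exact Subalgebra.smul_mem _ (hTb l) _
  have hV : ∀ v : SerreSub.core N, (v : A) ∈ S := by
    intro v
    obtain ⟨e, rfl⟩ := hπ v
    have h1 : T (i e) = ((π e : SerreSub.core N) : A) := by
      rw [hT]
      simp only [LinearMap.comp_apply, LinearEquiv.coe_coe]
      have h2 : HopfRep.Comod.coact (k := R) (A := A) (V := Fin d → R) (i e) =
          (i.rTensor A) (HopfRep.Comod.coact (k := R) (A := A) e) :=
        ProjComod.retractCoact_i i p hi e
      rw [h2]
      have h3 : ∀ z : E ⊗[R] A, (g.rTensor A) ((i.rTensor A) z) =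
          ((SerreSub.core N).subtype.rTensor A) ((π.rTensor A) z) := by
        intro z
        induction z using TensorProduct.induction_on with
        | zero => simp
        | tmul e' b =>
          have : p (i e') = e' := LinearMap.congr_fun hi e'
          simp [hg, this]
        | add x y hx hy => simp only [map_add, hx, hy]
      rw [h3]
      have h4 : (π.rTensor A) (HopfRep.Comod.coact (k := R) (A := A) e) =
          HopfRep.Comod.coact (k := R) (A := A) (π e) := by
        have := LinearMap.congr_fun hπco e
        simpa only [LinearMap.comp_apply] using this.symm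
      rw [h4]
      have h5 : ((SerreSub.core N).subtype.rTensor A)
          (HopfRep.Comod.coact (k := R) (A := A) (π e)) =
          Coalgebra.comul (R := R) ((π e : SerreSub.core N) : A) :=
        SerreSub.rTensor_coreCoact N (π e)
      rw [h5, Coalgebra.rTensor_counit_comul]
      simp
    rw [← h1]
    exact hTx _
  apply top_le_iff.mp
  rw [← hF]
  apply Algebra.adjoin_le
  intro f hf
  exact hV ⟨f, hFN hf⟩

end Groth.Agent.S6081
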