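import Groth.Statements.S6084
import Groth.Agent.Lib.Helper41.OnePointFinite

set_option autoImplicit false
universe u
open CategoryTheory CategoryTheory.Limits MonoidalCategory CartesianMonoidalCategory MonObj GrpObj AlgebraicGeometry
open SGA3

namespace Groth.Agent.S6084

theorem isAffine_of_forall_eq {X : Scheme.{u}} (x : X) (h : ∀ y : X, y = x) : IsAffine X := by
  obtain ⟨_, ⟨U, hU, rfl⟩, hxU, -⟩ :=
    X.isBasis_affineOpens.exists_subset_of_mem_open (Set.mem_univ x) isOpen_univ
  have hU' : (U : X.Opens) = ⊤ := by
    ext y
    simp only [TopologicalSpace.Opens.coe_top, Set.mem_univ, iff_true]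
    rw [h y]
    exact hxU
  have hU2 : IsAffineOpen (U : X.Opens) := hU
  rw [hU'] at hU2
  have : IsAffine ↑(⊤ : X.Opens) := hU2
  exact IsAffine.of_isIso (X.topIso).inv

theorem isIso_residueFieldMap_of_section {K : Type u} [Field K] {X : Scheme.{u}}
    (f : X ⟶ Spec (CommRingCat.of K)) (σ : Spec (CommRingCat.of K) ⟶ X) (hσ : σ ≫ f = 𝟙 _)
    (pt : Spec (CommRingCat.of K)) : IsIso (f.residueFieldMap (σ.base pt)) := by
  have h1 : (σ ≫ f).residueFieldMap pt = f.residueFieldMap (σ.base pt) ≫ σ.residueFieldMap pt :=
    Scheme.residueFieldMap_comp σ f pt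
  have key : ∀ g : Spec (CommRingCat.of K) ⟶ Spec (CommRingCat.of K), g = 𝟙 _ →
      Function.Bijective (g.residueFieldMap pt).hom := by
    rintro g rfl
    rw [Scheme.residueFieldMap_id]
    exact Function.bijective_id
  have hE := key (σ ≫ f) hσ
  have hinjσ : Function.Injective (σ.residueFieldMap pt).hom := RingHom.injective _
  have hinjf : Function.Injective (f.residueFieldMap (σ.base pt)).hom := RingHom.injective _
  have hbij : Function.Bijective (f.residueFieldMap (σ.base pt)).hom := by
    refine ⟨hinjf, fun b => ?_⟩
    obtain ⟨a, ha⟩ := hE.2 ((σ.residueFieldMap pt).hom b)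
    refine ⟨a, ?_⟩
    apply hinjσ
    rw [← ha]
    have := congrArg (fun g => g.hom a) h1
    exact this.symm
  exact (ConcreteCategory.isIso_iff_bijective _).mpr hbij

end Groth.Agent.S6084

namespace Groth.Agent.S6084

/-- Let k be a perfect field, G a group scheme locally of finite type over k and u : F → G a
homomorphism of k-group schemes which is a closed immersion and surjective on underlying spaces,
with F reduced (so F is G_red with its group structure). Let p : G → X be a k-morphism which is
flat, surjective and locally of finite presentation and makes the square formed by (f, g) ↦ u(f) ·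
g, the second projection F ×_k G → G and p (twice) cartesian (X is the quotient of G by F acting by
left translations). Then X is the spectrum of a finite local k-algebra with residue field k: X is
affine, its underlying space is a single point at which the structure morphism induces an
isomorphism of residue fields, and the ring of global sections of X is finite over k. -/
theorem result (k : Type u) [Field k] [PerfectField k]
    (F G : Over (Spec (CommRingCat.of k))) [GrpObj F] [GrpObj G] [LocallyOfFiniteType G.hom] [IsReduced F.left]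
    (u : F ⟶ G) [IsMonHom u] [IsClosedImmersion u.left] [Surjective u.left]
    (X : Over (Spec (CommRingCat.of k))) (p : G ⟶ X) [Flat p.left] [Surjective p.left] [LocallyOfFinitePresentation p.left]
    (hp : IsPullback ((u ▷ G) ≫ μ[G]) (snd F G) p p) :
    IsAffine X.left ∧ (∃ x : X.left, (Set.univ : Set X.left) = {x} ∧ IsIso (X.hom.residueFieldMap x)) ∧
      ((Scheme.ΓSpecIso (CommRingCat.of k)).inv ≫ X.hom.appTop).hom.Finite := by
  classical
  have hsubk : Subsingleton (Spec (CommRingCat.of k)) :=
    inferInstanceAs (Subsingleton (PrimeSpectrum k))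
  let pt : (𝟙_ (Over (Spec (CommRingCat.of k)))).left :=
    (IsLocalRing.closedPoint k : PrimeSpectrum k)
  let σ : 𝟙_ (Over (Spec (CommRingCat.of k))) ⟶ X := η[G] ≫ p
  let x : X.left := σ.left.base pt
  -- all points of `X` are equal to `x`
  have hone : ∀ y : X.left, y = x := by
    intro y
    obtain ⟨g, rfl⟩ := p.left.surjective y
    obtain ⟨f₀, rfl⟩ := u.left.surjective g
    let v : F ⟶ F ⊗ G := lift (𝟙 F) (toUnit F ≫ η[G])
    have hv1 : v ≫ (u ▷ G) ≫ μ[G] = u := by
      have e1 : v ≫ (u ▷ G) = lift u (toUnit F ≫ η[G]) := by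
        apply CartesianMonoidalCategory.hom_ext
        · simp [v]
        · simp [v]
      rw [← Category.assoc, e1, ← Hom.mul_def, ← Hom.one_def, _root_.mul_one]
    have hv2 : v ≫ snd F G = toUnit F ≫ η[G] := by simp [v]
    have hw := hp.w
    have h3 : u ≫ p = (toUnit F ≫ η[G]) ≫ p := by
      calc u ≫ p = (v ≫ (u ▷ G) ≫ μ[G]) ≫ p := by rw [hv1]
        _ = v ≫ ((u ▷ G) ≫ μ[G]) ≫ p := by simp only [Category.assoc]
        _ = v ≫ snd F G ≫ p := by rw [hw]
        _ = (toUnit F ≫ η[G]) ≫ p := by rw [← Category.assoc, hv2]
    change p.left.base (u.left.base f₀) = (η[G] ≫ p).left.base pt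
    change (u ≫ p).left.base f₀ = _
    rw [h3]
    change (η[G] ≫ p).left.base ((toUnit F).left.base f₀) = _
    congr 1
    exact hsubk.elim _ _
  have haff : IsAffine X.left := isAffine_of_forall_eq x hone
  refine ⟨haff, ⟨x, ?_, ?_⟩, ?_⟩
  · ext y
    simp only [Set.mem_univ, Set.mem_singleton_iff, true_iff]
    exact hone y
  · exact isIso_residueFieldMap_of_section X.hom σ.left (Over.w σ) pt
  · -- finiteness of the ring of global sections
    let R : CommRingCat := Γ(X.left, ⊤)
    let φ : CommRingCat.of k ⟶ R := (Scheme.ΓSpecIso (CommRingCat.of k)).inv ≫ X.hom.appTop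
    change φ.hom.Finite
    letI algR : Algebra k R := φ.hom.toAlgebra
    -- the prime spectrum of `R` is a single point
    have hsubX : Subsingleton X.left := ⟨fun y z => (hone y).trans (hone z).symm⟩
    have hsubR : Subsingleton (PrimeSpectrum R) := by
      have hinj : Function.Injective X.left.isoSpec.inv.base :=
        X.left.isoSpec.inv.homeomorph.injective
      exact hinj.subsingleton
    -- `R` is Noetherian
    have hnoeth : IsNoetherianRing R := by
      have hGln : IsLocallyNoetherian G.left := LocallyOfFiniteType.isLocallyNoetherian G.hom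
      obtain ⟨_, ⟨V, hV, rfl⟩, heV, -⟩ :=
        G.left.isBasis_affineOpens.exists_subset_of_mem_open
          (Set.mem_univ (η[G].left.base pt)) isOpen_univ
      have hVa : IsAffineOpen (V : G.left.Opens) := hV
      have hCn : IsNoetherianRing Γ(G.left, V) :=
        IsLocallyNoetherian.component_noetherian ⟨V, hVa⟩
      have hVne : Nonempty (V : G.left.Opens) := ⟨⟨_, heV⟩⟩
      have hCnt : Nontrivial Γ(G.left, V) := Scheme.component_nontrivial G.left V
      let ψ : R ⟶ Γ(G.left, V) := p.left.appLE ⊤ V le_top
      have hflat : ψ.hom.Flat :=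
        HasRingHomProperty.appLE (P := @Flat) p.left inferInstance
          ⟨⊤, isAffineOpen_top X.left⟩ ⟨V, hVa⟩ le_top
      have hsurj : Function.Surjective (PrimeSpectrum.comap ψ.hom) := by
        intro q
        obtain ⟨q'⟩ : Nonempty (PrimeSpectrum Γ(G.left, V)) := inferInstance
        exact ⟨q', Subsingleton.elim _ _⟩
      have hff : ψ.hom.FaithfullyFlat :=
        RingHom.FaithfullyFlat.iff_flat_and_comap_surjective.mpr ⟨hflat, hsurj⟩
      letI := ψ.hom.toAlgebra
      have : Module.FaithfullyFlat R Γ(G.left, V) := hff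
      exact Groth.Agent.Lib.Helper41.OnePointFinite.isNoetherianRing_of_faithfullyFlat R
        Γ(G.left, V)
    -- the rational point
    let s₀ : R ⟶ CommRingCat.of k := σ.left.appTop ≫ (Scheme.ΓSpecIso (CommRingCat.of k)).hom
    have hs₀ : φ ≫ s₀ = 𝟙 _ := by
      change ((Scheme.ΓSpecIso (CommRingCat.of k)).inv ≫ X.hom.appTop) ≫
        σ.left.appTop ≫ (Scheme.ΓSpecIso (CommRingCat.of k)).hom = 𝟙 _
      rw [Category.assoc, ← Category.assoc X.hom.appTop, ← Scheme.Hom.comp_appTop, Over.w σ]
      change (Scheme.ΓSpecIso (CommRingCat.of k)).inv ≫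
        (𝟙 (Spec (CommRingCat.of k)) : _ ⟶ _).appTop ≫ _ = _
      rw [Scheme.Hom.id_appTop, Category.id_comp, Iso.inv_hom_id]
    let s : R →ₐ[k] k :=
      { s₀.hom with
        commutes' := fun a => by
          have := congrArg (fun g => g.hom a) hs₀
          exact this }
    exact Groth.Agent.Lib.Helper41.OnePointFinite.finite_of_noetherian_subsingleton k R s

end Groth.Agent.S6084
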