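import Groth.Statements.S6085
import Groth.Agent.Lib.Helper70.GrpLimE
import Groth.Agent.S0591

set_option autoImplicit false
universe u
open CategoryTheory CategoryTheory.Limits MonoidalCategory CartesianMonoidalCategory MonObj GrpObj AlgebraicGeometry
open SGA3

namespace Groth.Agent.S6085

/-- Let S be the limit of a cofiltered system (S_i) of quasi-compact quasi-separated schemes with affine
transition morphisms, and let G be an S-group scheme of finite presentation over S. Then there are
an index j, an S_j-group scheme G_j of finite presentation over S_j and an isomorphism of S-group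
schemes (an isomorphism over S which is a homomorphism) from G to G_j ×_{S_j} S. (The published
setting takes all S_i affine over a fixed quasi-compact quasi-separated S_0; this row allows any
cofiltered system of quasi-compact quasi-separated schemes with affine transition morphisms.) -/
theorem result {I : Type u} [SmallCategory I] [IsCofiltered I]
    (D : I ⥤ Scheme.{u}) (c : Limits.Cone D) (hc : Limits.IsLimit c)
    [∀ (i i' : I) (f : i ⟶ i'), IsAffineHom (D.map f)] [∀ i, CompactSpace (D.obj i)] [∀ i, QuasiSeparatedSpace (D.obj i)]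
    (G : Over c.pt) [GrpObj G] [LocallyOfFinitePresentation G.hom] [QuasiCompact G.hom] [QuasiSeparated G.hom] :
    ∃ (j : I) (Gj : Over (D.obj j)) (_ : GrpObj Gj) (e : G ≅ Red.bc (c.π.app j) Gj),
      IsMonHom e.hom ∧ LocallyOfFinitePresentation Gj.hom ∧ QuasiCompact Gj.hom ∧ QuasiSeparated Gj.hom := by
  have inst : ∀ {i j : I} (f : i ⟶ j), IsAffineHom (D.map f) := fun f => inferInstance
  obtain ⟨j₀, Xs, fi, g, hlfp, hqc, hqs, hpb⟩ := Groth.Agent.S0591.result D c hc G.left G.hom
  let X₀ : Over (D.obj j₀) := Over.mk fi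
  have hlfp' : LocallyOfFinitePresentation X₀.hom := hlfp
  have hqc' : QuasiCompact X₀.hom := hqc
  have hqs' : QuasiSeparated X₀.hom := hqs
  let e₀ : G ≅ Red.bc (c.π.app j₀) X₀ :=
    Over.isoMk hpb.isoPullback (by
      change hpb.isoPullback.hom ≫ pullback.snd fi (c.π.app j₀) = G.hom
      exact hpb.isoPullback_hom_snd)
  let instG' : GrpObj (Red.bc (c.π.app j₀) X₀) := GrpObj.ofIso e₀
  have he₀ : @IsMonHom _ _ _ G (Red.bc (c.π.app j₀) X₀) _ instG'.toMonObj e₀.hom :=
    isMonHom_ofIso e₀
  obtain ⟨i₂, X₂, instX₂, e, he, h1, h2, h3⟩ :=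
    Groth.Agent.Lib.Helper70.GrpLim.exists_grpObj_descend D c hc j₀ X₀ instG'
  refine ⟨i₂, X₂, instX₂, e₀ ≪≫ e, ?_, h1, h2, h3⟩
  rw [Iso.trans_hom]
  exact @instIsMonHomComp _ _ _ G (Red.bc (c.π.app j₀) X₀) (Red.bc (c.π.app i₂) X₂) _
    instG'.toMonObj _ e₀.hom e.hom he₀ he

end Groth.Agent.S6085
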