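import Groth.Statements.S6087
import Groth.Agent.Lib.Helper70.GrpLimH
import Groth.Agent.S0591

set_option autoImplicit false
universe u
open CategoryTheory CategoryTheory.Limits MonoidalCategory CartesianMonoidalCategory MonObj GrpObj AlgebraicGeometry
open SGA3

namespace Groth.Agent.S6087

/-- Let S be the limit of a cofiltered system (S_i) of quasi-compact quasi-separated schemes with affine
transition morphisms, j an index, G_j an S_j-group scheme of finite presentation over S_j and u_j :
G'_j → G_j a subgroup scheme (a homomorphism which is a monomorphism) with G'_j flat and of finite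
presentation over S_j. For a base change G, G' of G_j, G'_j say that G/G' is representable when
there are Q and a morphism p : G → Q which is flat, surjective and locally of finite presentation
and makes the square formed by (g, h) ↦ g · u(h), the first projection G × G' → G and p (twice)
cartesian. Then G/G' is representable over S for the base changes to S if and only if there is an
index i over j such that G_i/G'_i is representable over S_i for the base changes to S_i. (The
published statement is for representability of the fpqc quotient sheaf; with G' flat of finite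
presentation this is the same as the existence of such a p. The published setting takes all S_i
affine over a fixed quasi-compact quasi-separated S_0.) -/
theorem result {I : Type u} [SmallCategory I] [IsCofiltered I]
    (D : I ⥤ Scheme.{u}) (c : Limits.Cone D) (hc : Limits.IsLimit c)
    [∀ (i i' : I) (f : i ⟶ i'), IsAffineHom (D.map f)] [∀ i, CompactSpace (D.obj i)] [∀ i, QuasiSeparatedSpace (D.obj i)]
    (j : I) (Gj G'j : Over (D.obj j)) [GrpObj Gj] [GrpObj G'j]
    [LocallyOfFinitePresentation Gj.hom] [QuasiCompact Gj.hom] [QuasiSeparated Gj.hom]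
    [Flat G'j.hom] [LocallyOfFinitePresentation G'j.hom] [QuasiCompact G'j.hom] [QuasiSeparated G'j.hom]
    (uj : G'j ⟶ Gj) [IsMonHom uj] [Mono uj] :
    (∃ (Q : Over c.pt) (p : (Red.bc (c.π.app j) Gj) ⟶ Q), Flat p.left ∧ Surjective p.left ∧ LocallyOfFinitePresentation p.left ∧
        IsPullback (((Red.bc (c.π.app j) Gj) ◁ ((Over.pullback (c.π.app j)).map uj)) ≫ μ[(Red.bc (c.π.app j) Gj)]) (fst (Red.bc (c.π.app j) Gj) (Red.bc (c.π.app j) G'j)) p p) ↔
    ∃ (i : I) (f : i ⟶ j), ∃ (Q : Over (D.obj i)) (p : (Red.bc (D.map f) Gj) ⟶ Q), Flat p.left ∧ Surjective p.left ∧ LocallyOfFinitePresentation p.left ∧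
        IsPullback (((Red.bc (D.map f) Gj) ◁ ((Over.pullback (D.map f)).map uj)) ≫ μ[(Red.bc (D.map f) Gj)]) (fst (Red.bc (D.map f) Gj) (Red.bc (D.map f) G'j)) p p := by
  have inst : ∀ {i j : I} (f : i ⟶ j), IsAffineHom (D.map f) := fun f => inferInstance
  have hG : Groth.Agent.Lib.Helper70.GrpLim.FP Gj := Groth.Agent.Lib.Helper70.GrpLim.FP.mk' Gj
  have hG' : Groth.Agent.Lib.Helper70.GrpLim.FP G'j := Groth.Agent.Lib.Helper70.GrpLim.FP.mk' G'j
  have key := Groth.Agent.Lib.Helper70.GrpLim.quot_limit_iff D c hc
    (fun X f _ _ _ => Groth.Agent.S0591.result D c hc X f) j Gj (Gj ⊗ G'j) hG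
    (Groth.Agent.Lib.Helper70.GrpLim.FP.tensor hG hG') ((Gj ◁ uj) ≫ μ[Gj]) (fst Gj G'j)
  refine (Groth.Agent.Lib.Helper70.GrpLim.hasQuot_translation_iff (c.π.app j) uj).trans
    (key.trans ?_)
  constructor
  · rintro ⟨i, f, h⟩
    exact ⟨i, f, (Groth.Agent.Lib.Helper70.GrpLim.hasQuot_translation_iff (D.map f) uj).mpr h⟩
  · rintro ⟨i, f, h⟩
    exact ⟨i, f, (Groth.Agent.Lib.Helper70.GrpLim.hasQuot_translation_iff (D.map f) uj).mp h⟩

end Groth.Agent.S6087
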