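import Groth.Statements.S6088
import Groth.Agent.Lib.Helper70.GrpLimC
import Groth.Agent.Lib.Helper70.SubGrpF

set_option autoImplicit false
universe u
open CategoryTheory CategoryTheory.Limits MonoidalCategory CartesianMonoidalCategory MonObj GrpObj AlgebraicGeometry
open SGA3

namespace Groth.Agent.S6088

/-- Let S be the limit of a cofiltered system (S_i) of quasi-compact quasi-separated schemes with affine
transition morphisms, j an index and u_j : H_j → G_j a homomorphism of S_j-group schemes of finite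
presentation over S_j; write u and u_i for its base changes to S and to S_i. Then u is a
monomorphism with H normal in G (for every S-scheme T, conjugates of T-points of H by T-points of G
are T-points of H) if and only if there is an index i over j such that u_i is a monomorphism with
H_i normal in G_i; and u is a monomorphism with H central in G (every T-point of H commutes with
every T-point of G) if and only if there is an index i over j with the same property for u_i. (The
published statement starts from a homomorphism u of S-groups of finite presentation and first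
descends it to some u_j; this row starts from u_j. The published setting takes all S_i affine over a
fixed quasi-compact quasi-separated S_0.) -/
theorem result {I : Type u} [SmallCategory I] [IsCofiltered I]
    (D : I ⥤ Scheme.{u}) (c : Limits.Cone D) (hc : Limits.IsLimit c)
    [∀ (i i' : I) (f : i ⟶ i'), IsAffineHom (D.map f)] [∀ i, CompactSpace (D.obj i)] [∀ i, QuasiSeparatedSpace (D.obj i)]
    (j : I) (Gj Hj : Over (D.obj j)) [GrpObj Gj] [GrpObj Hj]
    [LocallyOfFinitePresentation Gj.hom] [QuasiCompact Gj.hom] [QuasiSeparated Gj.hom]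
    [LocallyOfFinitePresentation Hj.hom] [QuasiCompact Hj.hom] [QuasiSeparated Hj.hom]
    (uj : Hj ⟶ Gj) [IsMonHom uj] :
    ((Mono ((Over.pullback (c.π.app j)).map uj) ∧ AlgGrp.IsNormalHom ((Over.pullback (c.π.app j)).map uj)) ↔
      ∃ (i : I) (f : i ⟶ j), Mono ((Over.pullback (D.map f)).map uj) ∧ AlgGrp.IsNormalHom ((Over.pullback (D.map f)).map uj)) ∧
    ((Mono ((Over.pullback (c.π.app j)).map uj) ∧ (∀ (T : Over c.pt) (g : T ⟶ (Red.bc (c.π.app j) Gj)) (n : T ⟶ (Red.bc (c.π.app j) Hj)), g * (n ≫ ((Over.pullback (c.π.app j)).map uj)) = (n ≫ ((Over.pullback (c.π.app j)).map uj)) * g)) ↔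
      ∃ (i : I) (f : i ⟶ j), Mono ((Over.pullback (D.map f)).map uj) ∧ (∀ (T : Over (D.obj i)) (g : T ⟶ (Red.bc (D.map f) Gj)) (n : T ⟶ (Red.bc (D.map f) Hj)), g * (n ≫ ((Over.pullback (D.map f)).map uj)) = (n ≫ ((Over.pullback (D.map f)).map uj)) * g)) := by
  have inst : ∀ {i j : I} (f : i ⟶ j), IsAffineHom (D.map f) := fun f => inferInstance
  have hw : uj.left ≫ Gj.hom = Hj.hom := Over.w uj
  have hlfp : LocallyOfFinitePresentation uj.left :=
    Groth.Agent.Lib.Helper13.LimDescent.locallyOfFinitePresentation_of_comp uj.left Gj.hom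
      (by rw [hw]; infer_instance) inferInstance
  have hqc : QuasiCompact uj.left :=
    have : QuasiCompact (uj.left ≫ Gj.hom) := by rw [hw]; infer_instance
    QuasiCompact.of_comp uj.left Gj.hom
  have hqs : QuasiSeparated uj.left :=
    have : QuasiSeparated (uj.left ≫ Gj.hom) := by rw [hw]; infer_instance
    QuasiSeparated.of_comp uj.left Gj.hom
  have hqcT : QuasiCompact (Gj ⊗ Hj).hom := by
    rw [Over.tensorObj_hom]
    have : QuasiCompact (pullback.fst Gj.hom Hj.hom) :=
      MorphismProperty.pullback_fst _ _ inferInstance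
    infer_instance
  have hqsT : QuasiSeparated (Gj ⊗ Hj).hom := by
    rw [Over.tensorObj_hom]
    have : QuasiSeparated (pullback.fst Gj.hom Hj.hom) :=
      MorphismProperty.pullback_fst _ _ inferInstance
    infer_instance
  have hcT : CompactSpace (Gj ⊗ Hj).left :=
    QuasiCompact.compactSpace_of_compactSpace (Gj ⊗ Hj).hom
  have hnormiff : ∀ {S' : Scheme.{u}} (a : S' ⟶ D.obj j),
      AlgGrp.IsNormalHom ((Over.pullback a).map uj) ↔
        Groth.Agent.Lib.Helper70.SubGrp.FactF (Over.pullback a) uj
          (Groth.Agent.Lib.Helper70.SubGrp.phiConj uj) := fun a =>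
    Groth.Agent.Lib.Helper70.SubGrp.isNormalPts_iff_factF (Over.pullback a) uj
  have hceniff : ∀ {S' : Scheme.{u}} (a : S' ⟶ D.obj j),
      (∀ (T : Over S') (g : T ⟶ (Red.bc a Gj)) (n : T ⟶ (Red.bc a Hj)),
        g * (n ≫ ((Over.pullback a).map uj)) = (n ≫ ((Over.pullback a).map uj)) * g) ↔
        (Over.pullback a).map (Groth.Agent.Lib.Helper70.SubGrp.phiL uj) =
          (Over.pullback a).map (Groth.Agent.Lib.Helper70.SubGrp.phiR uj) := fun a =>
    Groth.Agent.Lib.Helper70.SubGrp.isCentralPts_iff_map_eq (Over.pullback a) uj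
  refine ⟨⟨?_, ?_⟩, ⟨?_, ?_⟩⟩
  · rintro ⟨hmono, hnorm⟩
    have e1 := Groth.Agent.Lib.Helper70.GrpLim.ev_mono D c hc j uj hmono
    have e2 := Groth.Agent.Lib.Helper70.GrpLim.ev_factF' D c hc j uj hmono
      (Groth.Agent.Lib.Helper70.SubGrp.phiConj uj) ((hnormiff _).mp hnorm)
    obtain ⟨i, f, h1, h2⟩ := (e1.and e2).exists
    exact ⟨i, f, h1, (hnormiff _).mpr h2⟩
  · rintro ⟨i, f, h1, h2⟩
    exact ⟨Groth.Agent.Lib.Helper70.GrpLim.mono_limit_of_stage D c j uj f h1,
      (hnormiff _).mpr (Groth.Agent.Lib.Helper70.GrpLim.factF_limit_of_stage D c j uj _ f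
        ((hnormiff _).mp h2))⟩
  · rintro ⟨hmono, hcen⟩
    have e1 := Groth.Agent.Lib.Helper70.GrpLim.ev_mono D c hc j uj hmono
    have e2 := Groth.Agent.Lib.Helper70.GrpLim.ev_eq D c hc j
      (Groth.Agent.Lib.Helper70.SubGrp.phiL uj) (Groth.Agent.Lib.Helper70.SubGrp.phiR uj)
      ((hceniff _).mp hcen)
    obtain ⟨i, f, h1, h2⟩ := (e1.and e2).exists
    exact ⟨i, f, h1, (hceniff _).mpr h2⟩
  · rintro ⟨i, f, h1, h2⟩
    exact ⟨Groth.Agent.Lib.Helper70.GrpLim.mono_limit_of_stage D c j uj f h1,
      (hceniff _).mpr (Groth.Agent.Lib.Helper70.GrpLim.map_eq_map_of_stage (c.π.app j) (D.map f)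
        (c.π.app i) (c.w f) _ _ ((hceniff _).mp h2))⟩

end Groth.Agent.S6088
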