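import Groth.Statements.S6120
-- import your own Groth.Agent.* helpers here

set_option autoImplicit false
open CategoryTheory CategoryTheory.Limits Opposite
universe w v₁ v₂ u₁ u₂
open SGA4

namespace Groth.Agent.S6120

section aux

variable {I : Type u₁} [Category.{v₁} I] {C : Type u₂} [Category.{v₂} C] {A : Type w} (i : A → I)
  [∀ α β, HasBinaryProduct (i α) (i β)]
  (F : Iᵒᵖ ⥤ C)
  [HasProduct (fun α => F.obj (op (i α)))]
  [HasProduct (fun p : A × A => F.obj (op (i p.1 ⨯ i p.2)))]

/-- the first of the two parallel maps -/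
noncomputable abbrev p₁ : (∏ᶜ (fun α => F.obj (op (i α)))) ⟶
    ∏ᶜ (fun p : A × A => F.obj (op (i p.1 ⨯ i p.2))) :=
  Pi.lift (fun p : A × A =>
    Pi.π (fun α => F.obj (op (i α))) p.1 ≫ F.map (prod.fst : i p.1 ⨯ i p.2 ⟶ i p.1).op)

/-- the second of the two parallel maps -/
noncomputable abbrev p₂ : (∏ᶜ (fun α => F.obj (op (i α)))) ⟶
    ∏ᶜ (fun p : A × A => F.obj (op (i p.1 ⨯ i p.2))) :=
  Pi.lift (fun p : A × A =>
    Pi.π (fun α => F.obj (op (i α))) p.2 ≫ F.map (prod.snd : i p.1 ⨯ i p.2 ⟶ i p.2).op)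

variable {i F}

theorem indep {T : C} (t : T ⟶ ∏ᶜ (fun α => F.obj (op (i α))))
    (ht : t ≫ p₁ i F = t ≫ p₂ i F) {j : I} {α β : A} (f : j ⟶ i α) (g : j ⟶ i β) :
    t ≫ Pi.π (fun α => F.obj (op (i α))) α ≫ F.map f.op =
      t ≫ Pi.π (fun α => F.obj (op (i α))) β ≫ F.map g.op := by
  have h := congrArg (fun x => x ≫ Pi.π (fun p : A × A => F.obj (op (i p.1 ⨯ i p.2))) (α, β) ≫
    F.map (prod.lift f g).op) ht
  simp only [Category.assoc] at h
  rw [Pi.lift_π_assoc, Pi.lift_π_assoc] at h
  simp only [Category.assoc, ← F.map_comp, ← op_comp, prod.lift_fst, prod.lift_snd] at h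
  exact h

/-- The cone over `F` attached to a map equalizing the two parallel maps. -/
@[reducible] noncomputable def coneOf (hcov : ∀ j : I, ∃ α, Nonempty (j ⟶ i α))
    {T : C} (t : T ⟶ ∏ᶜ (fun α => F.obj (op (i α))))
    (ht : t ≫ p₁ i F = t ≫ p₂ i F) : Cone F where
  pt := T
  π :=
    { app := fun j => t ≫ Pi.π (fun α => F.obj (op (i α))) (hcov j.unop).choose ≫
        F.map ((hcov j.unop).choose_spec.some).op
      naturality := by
        intro j j' h
        simp only [Functor.const_obj_obj, Functor.const_obj_map, Category.id_comp, Category.assoc]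
        rw [← F.map_comp]
        have : ((hcov j.unop).choose_spec.some).op ≫ h =
            (h.unop ≫ (hcov j.unop).choose_spec.some).op := by simp
        rw [this]
        exact indep t ht _ _ }

theorem coneOf_π (hcov : ∀ j : I, ∃ α, Nonempty (j ⟶ i α))
    {T : C} (t : T ⟶ ∏ᶜ (fun α => F.obj (op (i α))))
    (ht : t ≫ p₁ i F = t ≫ p₂ i F) {j : I} {α : A} (f : j ⟶ i α) :
    (coneOf hcov t ht).π.app (op j) = t ≫ Pi.π (fun α => F.obj (op (i α))) α ≫ F.map f.op :=
  indep t ht _ _

theorem cone_eq (s : Cone F) :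
    Pi.lift (fun α => s.π.app (op (i α))) ≫ p₁ i F =
      Pi.lift (fun α => s.π.app (op (i α))) ≫ p₂ i F := by
  apply Pi.hom_ext
  intro p
  simp only [Category.assoc, Pi.lift_π, Pi.lift_π_assoc]
  rw [s.w, s.w]

end aux

/-- Let `I` be a category with a family of objects `i α` (`α : A`) such that every binary product `i α ⨯
i β` exists in `I` and every object of `I` admits a morphism to some `i α`. Let `F : Iᵒᵖ ⥤ C` be a
functor, and assume that `C` has equalizers and that the products `∏ F (i α)` and `∏ F (i α ⨯ i β)`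
exist in `C`. Then the limit of `F` exists, the canonical map `lim F ⟶ ∏ F (i α)` is a monomorphism,
and a map `t : T ⟶ ∏ F (i α)` factors through `lim F` exactly when its composites with the two maps
`∏ F (i α) ⇉ ∏ F (i α ⨯ i β)` induced by the two projections agree: `lim F` is the equalizer of that
pair. (The published statement assumes that `C` has all limits of the size of `A`; only equalizers
and the two products named are assumed here, which is what the equalizer construction uses.) -/
theorem result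
    {I : Type u₁} [Category.{v₁} I] {C : Type u₂} [Category.{v₂} C] {A : Type w} (i : A → I)
    [∀ α β, HasBinaryProduct (i α) (i β)]
    (hcov : ∀ j : I, ∃ α, Nonempty (j ⟶ i α))
    (F : Iᵒᵖ ⥤ C) [HasEqualizers C]
    [HasProduct (fun α => F.obj (op (i α)))]
    [HasProduct (fun p : A × A => F.obj (op (i p.1 ⨯ i p.2)))] :
    HasLimit F ∧ ∀ [HasLimit F],
      Mono (Pi.lift (fun α => limit.π F (op (i α)))) ∧
      ∀ (T : C) (t : T ⟶ ∏ᶜ (fun α => F.obj (op (i α)))),
        (∃ s : T ⟶ limit F, s ≫ Pi.lift (fun α => limit.π F (op (i α))) = t) ↔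
        t ≫ Pi.lift (fun p : A × A =>
            Pi.π (fun α => F.obj (op (i α))) p.1 ≫ F.map (prod.fst : i p.1 ⨯ i p.2 ⟶ i p.1).op) =
        t ≫ Pi.lift (fun p : A × A =>
            Pi.π (fun α => F.obj (op (i α))) p.2 ≫ F.map (prod.snd : i p.1 ⨯ i p.2 ⟶ i p.2).op) := by
  have hlim : HasLimit F := by
    have hι : equalizer.ι (p₁ i F) (p₂ i F) ≫ p₁ i F = equalizer.ι (p₁ i F) (p₂ i F) ≫ p₂ i F :=
      equalizer.condition _ _
    refine ⟨⟨⟨coneOf hcov (equalizer.ι (p₁ i F) (p₂ i F)) hι, ?_⟩⟩⟩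
    refine
      { lift := fun s => equalizer.lift (Pi.lift (fun α => s.π.app (op (i α)))) (cone_eq s)
        fac := ?_
        uniq := ?_ }
    · intro s j
      obtain ⟨α, ⟨f⟩⟩ := hcov j.unop
      have : j = op j.unop := rfl
      rw [this, coneOf_π hcov _ hι f]
      change equalizer.lift (Pi.lift (fun α => s.π.app (op (i α)))) (cone_eq s) ≫
        equalizer.ι (p₁ i F) (p₂ i F) ≫ _ = _
      rw [equalizer.lift_ι_assoc, Pi.lift_π_assoc, s.w]
    · intro s m hm
      change s.pt ⟶ equalizer (p₁ i F) (p₂ i F) at m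
      apply equalizer.hom_ext
      rw [equalizer.lift_ι]
      apply Pi.hom_ext
      intro α
      rw [Pi.lift_π, ← hm (op (i α)), coneOf_π hcov _ hι (𝟙 (i α))]
      simp
  refine ⟨hlim, ?_⟩
  intro _
  refine ⟨⟨fun {T} a b hab => ?_⟩, fun T t => ⟨?_, fun ht => ?_⟩⟩
  · apply limit.hom_ext
    intro j
    obtain ⟨α, ⟨f⟩⟩ := hcov j.unop
    have h1 := congrArg (fun x => x ≫ Pi.π (fun α => F.obj (op (i α))) α) hab
    simp only [Category.assoc, Pi.lift_π] at h1
    have : limit.π F j = limit.π F (op (i α)) ≫ F.map f.op := (limit.w F f.op).symm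
    rw [this, ← Category.assoc, h1, Category.assoc]
  · rintro ⟨s, rfl⟩
    simp only [Category.assoc]
    congr 1
    exact cone_eq (limit.cone F)
  · refine ⟨limit.lift F (coneOf hcov t ht), ?_⟩
    apply Pi.hom_ext
    intro α
    rw [Category.assoc, Pi.lift_π, limit.lift_π]
    rw [coneOf_π hcov t ht (𝟙 (i α))]
    simp

end Groth.Agent.S6120
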