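import Groth.Statements.S6121
-- import your own Groth.Agent.* helpers here

set_option autoImplicit false
open CategoryTheory
universe v₁ v₂ u₁ u₂
open SGA4

namespace Groth.Agent.S6121

/-- For a fibered functor `p : E ⥤ B` (every morphism of `B` has a cartesian lift with prescribed
codomain, and cartesian morphisms compose), `p` reflects isomorphisms if and only if every fibre
category of `p` (objects over `b`, morphisms lying over the identity of `b`) is a groupoid. -/
theorem result
    {B : Type u₁} [Category.{v₁} B] {E : Type u₂} [Category.{v₂} E] (p : E ⥤ B) [p.IsFibered] :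
    p.ReflectsIsomorphisms ↔ ∀ b : B, IsGroupoid (p.Fiber b) := by
  constructor
  · intro hp b
    refine ⟨fun {x y} φ => ?_⟩
    have h1 : p.IsHomLift (𝟙 b) φ.1 := φ.2
    have h2 : IsIso (p.map φ.1) := by
      rw [IsHomLift.fac' p (𝟙 b) φ.1]
      infer_instance
    have h3 : IsIso φ.1 := isIso_of_reflects_iso φ.1 p
    have h4 : p.IsHomLift (𝟙 b) (inv φ.1) := inferInstance
    refine ⟨⟨⟨inv φ.1, h4⟩, ?_, ?_⟩⟩
    · apply Functor.Fiber.hom_ext
      exact IsIso.hom_inv_id φ.1
    · apply Functor.Fiber.hom_ext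
      exact IsIso.inv_hom_id φ.1
  · intro hgrp
    refine ⟨fun {a b} φ hφ => ?_⟩
    obtain ⟨a', ψ, hψ⟩ := IsPreFibered.exists_isCartesian p (rfl : p.obj b = p.obj b) (p.map φ)
    have hψs : p.IsStronglyCartesian (p.map φ) ψ := inferInstance
    have hψiso : IsIso ψ := Functor.IsStronglyCartesian.isIso_of_base_isIso p (p.map φ) ψ
    let χ := Functor.IsCartesian.map p (p.map φ) ψ φ
    have hχ : p.IsHomLift (𝟙 (p.obj a)) χ := inferInstance
    have hfac : χ ≫ ψ = φ := Functor.IsCartesian.fac p (p.map φ) ψ φ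
    have ha' : p.obj a' = p.obj a := IsHomLift.codomain_eq p (𝟙 (p.obj a)) χ
    let χ' : (Functor.Fiber.mk (p := p) (rfl : p.obj a = p.obj a)) ⟶
        (Functor.Fiber.mk (p := p) ha') := ⟨χ, hχ⟩
    have hχ'iso : IsIso χ' := (hgrp (p.obj a)).all_isIso χ'
    have hχiso : IsIso χ := by
      have := Functor.map_isIso (Functor.Fiber.fiberInclusion (p := p) (S := p.obj a)) χ'
      exact this
    rw [← hfac]
    infer_instance

end Groth.Agent.S6121
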