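import Groth.Statements.S6122
-- import your own Groth.Agent.* helpers here

set_option autoImplicit false
open CategoryTheory
universe v₁ v₂ u₁ u₂
open SGA4

namespace Groth.Agent.S6122

/-- For a fibered functor `p : E ⥤ B` (every morphism of `B` has a cartesian lift with prescribed
codomain, and cartesian morphisms compose), `p` is faithful if and only if every fibre category of
`p` (objects over `b`, morphisms lying over the identity of `b`) has at most one morphism between
any two objects. -/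
theorem result
    {B : Type u₁} [Category.{v₁} B] {E : Type u₂} [Category.{v₂} E] (p : E ⥤ B) [p.IsFibered] :
    p.Faithful ↔ ∀ (b : B) (x y : p.Fiber b), Subsingleton (x ⟶ y) := by
  constructor
  · intro hp b x y
    refine ⟨fun φ ψ => ?_⟩
    apply Functor.Fiber.hom_ext
    apply p.map_injective
    have h1 : p.IsHomLift (𝟙 b) φ.1 := φ.2
    have h2 : p.IsHomLift (𝟙 b) ψ.1 := ψ.2
    change p.map φ.1 = p.map ψ.1
    rw [IsHomLift.fac' p (𝟙 b) φ.1, IsHomLift.fac' p (𝟙 b) ψ.1]
  · intro hsub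
    refine ⟨fun {a b} φ φ' hφ => ?_⟩
    obtain ⟨a', ψ, hψ⟩ := IsPreFibered.exists_isCartesian p (rfl : p.obj b = p.obj b) (p.map φ)
    have hφ' : p.IsHomLift (p.map φ) φ' := by
      rw [hφ]; infer_instance
    let χ := Functor.IsCartesian.map p (p.map φ) ψ φ
    let χ₂ := Functor.IsCartesian.map p (p.map φ) ψ φ'
    have hχ : p.IsHomLift (𝟙 (p.obj a)) χ := inferInstance
    have hχ₂ : p.IsHomLift (𝟙 (p.obj a)) χ₂ := inferInstance
    have hfac : χ ≫ ψ = φ := Functor.IsCartesian.fac p (p.map φ) ψ φ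
    have hfac₂ : χ₂ ≫ ψ = φ' := Functor.IsCartesian.fac p (p.map φ) ψ φ'
    have ha' : p.obj a' = p.obj a := IsHomLift.codomain_eq p (𝟙 (p.obj a)) χ
    let c : (Functor.Fiber.mk (p := p) (rfl : p.obj a = p.obj a)) ⟶
        (Functor.Fiber.mk (p := p) ha') := ⟨χ, hχ⟩
    let c₂ : (Functor.Fiber.mk (p := p) (rfl : p.obj a = p.obj a)) ⟶
        (Functor.Fiber.mk (p := p) ha') := ⟨χ₂, hχ₂⟩
    have hc : c = c₂ := (hsub _ _ _).elim c c₂
    have hχeq : χ = χ₂ := congrArg Subtype.val hc
    rw [← hfac, ← hfac₂, hχeq]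

end Groth.Agent.S6122
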