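import Groth.Statements.S6124
import Mathlib.CategoryTheory.Limits.Shapes.Diagonal
import Mathlib.CategoryTheory.Limits.Preserves.Shapes.Pullbacks
import Mathlib.CategoryTheory.Subobject.Lattice

set_option autoImplicit false
open CategoryTheory CategoryTheory.Limits Opposite
universe w v₁ v₂ u₁ u₂
open SGA4

namespace Groth.Agent.S6124

/-- Let `E` have pullbacks, let `P` be a detecting family of objects of `E` (a morphism `f` is
invertible as soon as every map out of an object of `P` factors uniquely through `f`), and let `φ i
: E ⥤ E' i` be functors preserving pullbacks. Then the `φ i` jointly reflect isomorphisms if and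
only if, for every `X` with `P X` and every subobject `X'` of `X` other than `⊤`, some `φ i` takes
the inclusion `X' ⟶ X` to a morphism that is not invertible. -/
theorem result
    {E : Type u₁} [Category.{v₁} E] [HasPullbacks E] (P : ObjectProperty E) (hP : P.IsDetecting)
    {κ : Type w} {E' : κ → Type u₂} [∀ k, Category.{v₂} (E' k)] (φ : ∀ k, E ⥤ E' k)
    [∀ k, PreservesLimitsOfShape WalkingCospan (φ k)] :
    (∀ ⦃X Y : E⦄ (f : X ⟶ Y), (∀ k, IsIso ((φ k).map f)) → IsIso f) ↔
      ∀ (X : E), P X → ∀ (X' : Subobject X), X' ≠ ⊤ → ∃ k, ¬ IsIso ((φ k).map X'.arrow) := by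
  constructor
  · intro hrefl X _ X' hX'
    by_contra hcon
    push Not at hcon
    have : IsIso X'.arrow := hrefl X'.arrow hcon
    exact hX' (Subobject.eq_top_of_isIso_arrow X')
  · intro hsub
    -- first the case of monomorphisms
    have hmono : ∀ ⦃X Y : E⦄ (f : X ⟶ Y), Mono f → (∀ k, IsIso ((φ k).map f)) → IsIso f := by
      intro X Y f hf hφf
      refine hP f fun G hG h => ?_
      have hpb : IsPullback (pullback.fst h f) (pullback.snd h f) h f := IsPullback.of_hasPullback h f
      have hiso : ∀ k, IsIso ((φ k).map (pullback.fst h f)) := fun k =>
        (hpb.map (φ k)).isIso_fst_of_isIso (hφf k)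
      have hmk : Subobject.mk (pullback.fst h f) = ⊤ := by
        by_contra hne
        obtain ⟨k, hk⟩ := hsub G hG _ hne
        apply hk
        have e : (Subobject.mk (pullback.fst h f)).arrow =
            (Subobject.underlyingIso (pullback.fst h f)).hom ≫ pullback.fst h f := by simp
        rw [e, Functor.map_comp]
        have := hiso k
        infer_instance
      have hfst : IsIso (pullback.fst h f) := (Subobject.isIso_iff_mk_eq_top _).mpr hmk
      refine ⟨inv (pullback.fst h f) ≫ pullback.snd h f, ?_, ?_⟩
      · simp only [Category.assoc, ← pullback.condition, IsIso.inv_hom_id_assoc]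
      · intro y hy
        rw [← cancel_mono f, hy]
        simp only [Category.assoc, ← pullback.condition, IsIso.inv_hom_id_assoc]
    intro X Y f hφf
    have hm : Mono f := by
      rw [← pullback.isIso_diagonal_iff]
      apply hmono _ inferInstance
      intro k
      have e : (φ k).map (pullback.diagonal f) ≫ (PreservesPullback.iso (φ k) f f).hom =
          pullback.diagonal ((φ k).map f) := by
        apply pullback.hom_ext <;> simp [← Functor.map_comp]
      have := hφf k
      have h2 : IsIso (pullback.diagonal ((φ k).map f)) := inferInstance
      rw [← e] at h2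
      exact IsIso.of_isIso_comp_right _ (PreservesPullback.iso (φ k) f f).hom
    exact hmono f hm hφf

end Groth.Agent.S6124
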