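import Groth.Statements.S6126
-- import your own Groth.Agent.* helpers here

set_option autoImplicit false
open CategoryTheory CategoryTheory.Limits
universe v₁ u₁
open SGA4

namespace Groth.Agent.S6126

/-- Let `E` be a category with `v₁`-small hom-sets admitting a separating family of objects `G t`
indexed by a `v₁`-small type, in which every object admits a monomorphism into an injective object.
Assume that each coproduct `G t ⨿ G t` exists and that every morphism out of `G t ⨿ G t` factors as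
an effective epimorphism followed by a monomorphism. Then `E` admits a coseparating family of
injective objects indexed by a `v₁`-small type. (The published statement moreover bounds the size of
this family in terms of the hom-sets `Hom (G t', G t ⨿ G t)`; only existence is stated here. The
published statement speaks of generating and cogenerating families; its proof uses and produces
joint faithfulness of maps out of, resp. into, the family, which is the sense taken here.) -/
theorem result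
    {E : Type u₁} [Category.{v₁} E] {ι : Type v₁} (G : ι → E)
    (hG : (ObjectProperty.ofObj G).IsSeparating)
    [EnoughInjectives E] [∀ t, HasBinaryCoproduct (G t) (G t)]
    (hfac : ∀ (t : ι) (X : E) (f : G t ⨿ G t ⟶ X),
      ∃ (Y : E) (e : G t ⨿ G t ⟶ Y) (m : Y ⟶ X), EffectiveEpi e ∧ Mono m ∧ e ≫ m = f) :
    ∃ (κ : Type v₁) (H : κ → E),
      (∀ k, Injective (H k)) ∧ (ObjectProperty.ofObj H).IsCoseparating := by
  classical
  let A : ι → E := fun t => G t ⨿ G t
  let Rel : ∀ (t : ι) {Q : E} (_ : A t ⟶ Q), Set (Σ t' : ι, (G t' ⟶ A t) × (G t' ⟶ A t)) :=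
    fun t Q e => {p | p.2.1 ≫ e = p.2.2 ≫ e}
  let κ := Σ t : ι, Set (Σ t' : ι, (G t' ⟶ A t) × (G t' ⟶ A t))
  let Ex : κ → Prop := fun k => ∃ (Q : E) (e : A k.1 ⟶ Q), EffectiveEpi e ∧ Rel k.1 e = k.2
  let Qk : κ → E := fun k => if h : Ex k then h.choose else A k.1
  refine ⟨κ, fun k => Injective.under (Qk k), fun k => inferInstance, ?_⟩
  intro X Y u v huv
  by_contra hne
  obtain ⟨t, g, hg⟩ : ∃ (t : ι) (g : G t ⟶ X), g ≫ u ≠ g ≫ v := by
    by_contra hcon
    push Not at hcon
    refine hne (hG u v fun T hT g => ?_)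
    obtain ⟨t⟩ := hT
    exact hcon t g
  obtain ⟨Q, e, m, he, hm, hem⟩ := hfac t Y (coprod.desc (g ≫ u) (g ≫ v))
  let k : κ := ⟨t, Rel t e⟩
  have hk : Ex k := ⟨Q, e, he, rfl⟩
  have hQk : Qk k = hk.choose := dif_pos hk
  obtain ⟨e', he', hRel0⟩ := hk.choose_spec
  have hRel : Rel t e' = Rel t e := hRel0
  -- the comparison map `φ : Q ⟶ Q'`
  have hcoeq : ∀ {Z : E} (g₁ g₂ : Z ⟶ A t), g₁ ≫ e = g₂ ≫ e → g₁ ≫ e' = g₂ ≫ e' := by
    intro Z g₁ g₂ h12
    refine hG _ _ fun T hT a => ?_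
    obtain ⟨t'⟩ := hT
    have hmem : (⟨t', (a ≫ g₁, a ≫ g₂)⟩ : Σ t' : ι, (G t' ⟶ A t) × (G t' ⟶ A t)) ∈ Rel t e := by
      change (a ≫ g₁) ≫ e = (a ≫ g₂) ≫ e
      rw [Category.assoc, Category.assoc, h12]
    rw [← hRel] at hmem
    have : (a ≫ g₁) ≫ e' = (a ≫ g₂) ≫ e' := hmem
    simpa using this
  obtain ⟨str⟩ := he.effectiveEpi
  let φ : Q ⟶ hk.choose := str.desc e' hcoeq
  have hφ : e ≫ φ = e' := str.fac e' hcoeq
  let j : hk.choose ⟶ Injective.under (Qk k) := eqToHom hQk.symm ≫ Injective.ι (Qk k)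
  have hj : Mono j := inferInstance
  let w : Y ⟶ Injective.under (Qk k) := Injective.factorThru (φ ≫ j) m
  have hw : m ≫ w = φ ≫ j := Injective.comp_factorThru (φ ≫ j) m
  have huvw := huv (Injective.under (Qk k)) ⟨k⟩ w
  -- derive a contradiction
  have h1 : (coprod.inl : G t ⟶ A t) ≫ e' ≫ j = (coprod.inr : G t ⟶ A t) ≫ e' ≫ j := by
    have hl : (coprod.inl : G t ⟶ A t) ≫ e ≫ m = g ≫ u := by rw [hem]; exact coprod.inl_desc _ _
    have hr : (coprod.inr : G t ⟶ A t) ≫ e ≫ m = g ≫ v := by rw [hem]; exact coprod.inr_desc _ _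
    calc (coprod.inl : G t ⟶ A t) ≫ e' ≫ j
        = (coprod.inl : G t ⟶ A t) ≫ e ≫ m ≫ w := by rw [hw, ← hφ]; simp
      _ = g ≫ u ≫ w := by rw [← Category.assoc e m w, ← Category.assoc, hl, Category.assoc]
      _ = g ≫ v ≫ w := by rw [huvw]
      _ = (coprod.inr : G t ⟶ A t) ≫ e ≫ m ≫ w := by
          rw [← Category.assoc e m w, ← Category.assoc _ (e ≫ m) w, hr, Category.assoc]
      _ = (coprod.inr : G t ⟶ A t) ≫ e' ≫ j := by rw [hw, ← hφ]; simp
  have h2 : (coprod.inl : G t ⟶ A t) ≫ e' = (coprod.inr : G t ⟶ A t) ≫ e' := by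
    rw [← cancel_mono j]
    simpa using h1
  have h3 : (⟨t, (coprod.inl, coprod.inr)⟩ : Σ t' : ι, (G t' ⟶ A t) × (G t' ⟶ A t)) ∈
      Rel t e' := h2
  rw [hRel] at h3
  have h4 : (coprod.inl : G t ⟶ A t) ≫ e = (coprod.inr : G t ⟶ A t) ≫ e := h3
  apply hg
  have h5 := congrArg (· ≫ m) h4
  simp only [Category.assoc, hem] at h5
  have h6 : (coprod.inl : G t ⟶ G t ⨿ G t) ≫ coprod.desc (g ≫ u) (g ≫ v) =
      (coprod.inr : G t ⟶ G t ⨿ G t) ≫ coprod.desc (g ≫ u) (g ≫ v) := h5
  rwa [coprod.inl_desc, coprod.inr_desc] at h6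

end Groth.Agent.S6126
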