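import Groth.Statements.S6127
import Mathlib
-- import your own Groth.Agent.* helpers here

set_option autoImplicit false
open CategoryTheory CategoryTheory.Limits Opposite
universe u
open SGA4


namespace Groth.Agent.S6127.Aux

variable {C : Type u} [SmallCategory C]

/-- map into a sieve functor from a map into the representable landing in the sieve -/
def liftSieve {X : C} (S : Sieve X) {Q : Cᵒᵖ ⥤ Type u} (g : Q ⟶ yoneda.obj X)
    (hg : ∀ (Y : Cᵒᵖ) (q : Q.obj Y), S (g.app Y q)) : Q ⟶ S.functor where
  app Y := ↾fun q => ⟨g.app Y q, hg Y q⟩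
  naturality Y Z f := by
    ext q
    apply Subtype.ext
    exact NatTrans.naturality_apply g f q

@[reassoc (attr := simp)]
lemma liftSieve_comp {X : C} (S : Sieve X) {Q : Cᵒᵖ ⥤ Type u} (g : Q ⟶ yoneda.obj X)
    (hg : ∀ (Y : Cᵒᵖ) (q : Q.obj Y), S (g.app Y q)) :
    liftSieve S g hg ≫ S.functorInclusion = g := by
  ext Y q
  rfl

end Groth.Agent.S6127.Aux

namespace Groth.Agent.S6127.Aux

variable {C : Type u} [SmallCategory C]

section
variable (P : ObjectProperty (Cᵒᵖ ⥤ Type u)) [Reflective P.ι]

lemma bijective_of_isIso_reflector_map {A B : Cᵒᵖ ⥤ Type u} (m : A ⟶ B)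
    (h : IsIso ((reflector P.ι).map m)) (F : Cᵒᵖ ⥤ Type u) (hF : P F) :
    Function.Bijective (fun g : B ⟶ F => m ≫ g) := by
  let adj := reflectorAdjunction P.ι
  let Z : P.FullSubcategory := ⟨F, hF⟩
  have h1 : (fun g : B ⟶ F => m ≫ g) =
      (adj.homEquiv A Z) ∘ (fun g' => (reflector P.ι).map m ≫ g') ∘ (adj.homEquiv B Z).symm := by
    funext g
    simp only [Function.comp_apply]
    rw [Adjunction.homEquiv_naturality_left, Equiv.apply_symm_apply]
  rw [h1]
  refine (adj.homEquiv A Z).bijective.comp (Function.Bijective.comp ?_ (adj.homEquiv B Z).symm.bijective)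
  exact (isIso_iff_coyoneda_map_bijective _).mp h Z

lemma isIso_reflector_map_of_bijective {A B : Cᵒᵖ ⥤ Type u} (m : A ⟶ B)
    (h : ∀ F, P F → Function.Bijective (fun g : B ⟶ F => m ≫ g)) :
    IsIso ((reflector P.ι).map m) := by
  let adj := reflectorAdjunction P.ι
  rw [isIso_iff_coyoneda_map_bijective]
  intro Z
  have h1 : (fun g' : (reflector P.ι).obj B ⟶ Z => (reflector P.ι).map m ≫ g') =
      (adj.homEquiv A Z).symm ∘ (fun g : B ⟶ Z.obj => m ≫ g) ∘ (adj.homEquiv B Z) := by
    funext g
    simp only [Function.comp_apply]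
    rw [Adjunction.homEquiv_naturality_left_symm, Equiv.symm_apply_apply]
  rw [h1]
  exact (adj.homEquiv A Z).symm.bijective.comp
    (Function.Bijective.comp (h Z.obj Z.property) (adj.homEquiv B Z).bijective)

end

end Groth.Agent.S6127.Aux

namespace Groth.Agent.S6127.Aux

variable {C : Type u} [SmallCategory C]

/-- the canonical map `(f^* S).functor ⟶ S.functor`. -/
def sievePullbackMap {X Y : C} (S : Sieve X) (f : Y ⟶ X) :
    (S.pullback f).functor ⟶ S.functor :=
  liftSieve S ((S.pullback f).functorInclusion ≫ yoneda.map f) (fun _ q => q.2)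

lemma isPullback_sievePullback {X Y : C} (S : Sieve X) (f : Y ⟶ X) :
    IsPullback (sievePullbackMap S f) (S.pullback f).functorInclusion
      S.functorInclusion (yoneda.map f) := by
  have w : sievePullbackMap S f ≫ S.functorInclusion =
      (S.pullback f).functorInclusion ≫ yoneda.map f := liftSieve_comp _ _ _
  refine ⟨⟨w⟩, ⟨PullbackCone.IsLimit.mk w
    (fun s => liftSieve (S.pullback f) s.snd (fun Z q => ?_)) ?_ ?_ ?_⟩⟩
  · have h1 := NatTrans.congr_app s.condition Z
    have h2 := ConcreteCategory.congr_hom h1 q
    change S ((s.snd.app Z q) ≫ f)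
    have h3 : (s.snd.app Z q) ≫ f = (s.fst.app Z q).1 := h2.symm
    rw [h3]
    exact (s.fst.app Z q).2
  · intro s
    rw [← cancel_mono S.functorInclusion, Category.assoc, w, liftSieve_comp_assoc, s.condition]
  · intro s
    exact liftSieve_comp _ _ _
  · intro s m _ hm2
    rw [← cancel_mono (S.pullback f).functorInclusion, hm2, liftSieve_comp]

lemma isIso_reflector_map_pullback (P : ObjectProperty (Cᵒᵖ ⥤ Type u)) [Reflective P.ι]
    [PreservesFiniteLimits (reflector P.ι)] {X Y : C} (S : Sieve X) (f : Y ⟶ X)
    (h : IsIso ((reflector P.ι).map S.functorInclusion)) :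
    IsIso ((reflector P.ι).map (S.pullback f).functorInclusion) :=
  ((isPullback_sievePullback S f).map (reflector P.ι)).isIso_snd_of_isIso

end Groth.Agent.S6127.Aux

namespace Groth.Agent.S6127.Aux

variable {C : Type u} [SmallCategory C]

section
variable (P : ObjectProperty (Cᵒᵖ ⥤ Type u)) [Reflective P.ι]
  [PreservesFiniteLimits (reflector P.ι)]

lemma isIso_reflector_map_imageSieve {G H : Cᵒᵖ ⥤ Type u} (φ : G ⟶ H)
    (hφ : IsIso ((reflector P.ι).map φ)) {X : C} (s : H.obj (op X)) :
    IsIso ((reflector P.ι).map (Presheaf.imageSieve φ s).functorInclusion) := by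
  let L := reflector P.ι
  let s' : yoneda.obj X ⟶ H := yonedaEquiv.symm s
  let S := Presheaf.imageSieve φ s
  have hpb : IsPullback (pullback.fst φ s') (pullback.snd φ s') φ s' := IsPullback.of_hasPullback φ s'
  have hsnd : IsIso (L.map (pullback.snd φ s')) := (hpb.map L).isIso_snd_of_isIso
  let e : pullback φ s' ⟶ S.functor := liftSieve S (pullback.snd φ s') (by
    intro Z q
    refine ⟨(pullback.fst φ s').app Z q, ?_⟩
    have h1 := ConcreteCategory.congr_hom (NatTrans.congr_app hpb.w Z) q
    simp only [NatTrans.comp_app, ConcreteCategory.comp_apply] at h1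
    rw [h1]
    rfl)
  have he : e ≫ S.functorInclusion = pullback.snd φ s' := liftSieve_comp _ _ _
  have he' : L.map e ≫ L.map S.functorInclusion = L.map (pullback.snd φ s') := by
    rw [← L.map_comp, he]
  have hmono : Mono (L.map S.functorInclusion) := inferInstance
  have hsplit : IsSplitEpi (L.map S.functorInclusion) :=
    IsSplitEpi.mk' ⟨inv (L.map (pullback.snd φ s')) ≫ L.map e, by
      rw [Category.assoc, he', IsIso.inv_hom_id]⟩
  exact isIso_of_mono_of_isSplitEpi _

lemma isIso_reflector_map_equalizerSieve {G H : Cᵒᵖ ⥤ Type u} (φ : G ⟶ H)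
    (hφ : Mono ((reflector P.ι).map φ)) {X : Cᵒᵖ} (s t : G.obj X)
    (hst : φ.app X s = φ.app X t) :
    IsIso ((reflector P.ι).map (Presheaf.equalizerSieve (F := G) (X := X) s t).functorInclusion) := by
  let L := reflector P.ι
  let s' : yoneda.obj X.unop ⟶ G := yonedaEquiv.symm s
  let t' : yoneda.obj X.unop ⟶ G := yonedaEquiv.symm t
  let S := Presheaf.equalizerSieve (F := G) (X := X) s t
  have w : S.functorInclusion ≫ s' = S.functorInclusion ≫ t' := by
    ext Z q
    simp only [NatTrans.comp_app]
    exact q.2
  have hlim : IsLimit (Fork.ofι S.functorInclusion w) := by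
    refine Fork.IsLimit.mk _ (fun c => liftSieve S c.ι (fun Z q => ?_)) ?_ ?_
    · have h1 := ConcreteCategory.congr_hom (NatTrans.congr_app c.condition Z) q
      simp only [NatTrans.comp_app, ConcreteCategory.comp_apply] at h1
      exact h1
    · intro c
      exact liftSieve_comp _ _ _
    · intro c m hm
      rw [← cancel_mono S.functorInclusion, liftSieve_comp]
      exact hm
  have hlim' := isLimitForkMapOfIsLimit L w hlim
  have heq : L.map s' = L.map t' := by
    rw [← cancel_mono (L.map φ), ← L.map_comp, ← L.map_comp]
    congr 1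
    apply yonedaEquiv.injective
    rw [yonedaEquiv_comp, yonedaEquiv_comp, Equiv.apply_symm_apply, Equiv.apply_symm_apply]
    exact hst
  exact isIso_limit_cone_parallelPair_of_eq heq hlim'

end

end Groth.Agent.S6127.Aux

namespace Groth.Agent.S6127

open Aux

/-- Let `C` be a small category and `P` a strictly full subcategory of the category of presheaves of
sets on `C` whose inclusion admits a left adjoint (a reflector) preserving finite limits. Call a
sieve `S` on `X` covering when the reflector inverts the inclusion of `S`, viewed as a subpresheaf,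
into the presheaf represented by `X`. Then these covering sieves form a Grothendieck topology `J` on
`C`, and a presheaf lies in `P` if and only if it is a sheaf for `J`. (This is the half of the
correspondence between topologies on `C` and such reflective subcategories that produces the
topology; the topology is pinned down by its covering sieves.) -/
theorem result
    {C : Type u} [SmallCategory C] (P : ObjectProperty (Cᵒᵖ ⥤ Type u))
    [P.IsClosedUnderIsomorphisms] [Reflective P.ι] [PreservesFiniteLimits (reflector P.ι)] :
    ∃ J : GrothendieckTopology C,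
      (∀ (X : C) (S : Sieve X), S ∈ J X ↔ IsIso ((reflector P.ι).map S.functorInclusion)) ∧
      ∀ F : Cᵒᵖ ⥤ Type u, P F ↔ Presieve.IsSheaf J F := by
  classical
  let Ps : Set (Cᵒᵖ ⥤ Type u) := {F | P F}
  let J := Sheaf.finestTopology Ps
  have hA : ∀ (X : C) (S : Sieve X),
      S ∈ J X ↔ IsIso ((reflector P.ι).map S.functorInclusion) := by
    intro X S
    constructor
    · intro hS
      apply isIso_reflector_map_of_bijective
      intro F hF
      have h1 : Presieve.IsSheafFor F (S : Presieve X) :=
        Sheaf.sheaf_for_finestTopology Ps (P := F) hF S hS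
      rw [Presieve.isSheafFor_iff_yonedaSheafCondition] at h1
      rw [Function.bijective_iff_existsUnique]
      exact h1
    · intro h
      apply Sheaf.mem_finestTopology_of_forall_isSheafFor
      intro F hF Y f
      rw [Presieve.isSheafFor_iff_yonedaSheafCondition]
      have := bijective_of_isIso_reflector_map P _ (isIso_reflector_map_pullback P S f h) F hF
      rw [Function.bijective_iff_existsUnique] at this
      exact this
  refine ⟨J, hA, ?_⟩
  intro F
  constructor
  · intro hF
    exact Sheaf.sheaf_for_finestTopology Ps (P := F) hF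
  · intro hF
    let adj := reflectorAdjunction P.ι
    let η : F ⟶ ((reflector P.ι).obj F).obj := adj.unit.app F
    have hLη : IsIso ((reflector P.ι).map η) := by
      have h1 : (reflector P.ι).map η ≫ adj.counit.app ((reflector P.ι).obj F) = 𝟙 _ :=
        adj.left_triangle_components F
      have h2 : IsIso (adj.counit.app ((reflector P.ι).obj F)) := inferInstance
      have h3 : (reflector P.ι).map η = inv (adj.counit.app ((reflector P.ι).obj F)) := by
        rw [← cancel_mono (adj.counit.app ((reflector P.ι).obj F)), h1, IsIso.inv_hom_id]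
      rw [h3]; infer_instance
    have hsurj : Presheaf.IsLocallySurjective J η :=
      ⟨fun s => (hA _ _).mpr (isIso_reflector_map_imageSieve P η hLη s)⟩
    have hinj : Presheaf.IsLocallyInjective J η :=
      ⟨fun s t hst => (hA _ _).mpr (isIso_reflector_map_equalizerSieve P η inferInstance s t hst)⟩
    let F' : Sheaf J (Type u) := ⟨F, (isSheaf_iff_isSheaf_of_type J F).mpr hF⟩
    let G' : Sheaf J (Type u) := ⟨((reflector P.ι).obj F).obj,
      (isSheaf_iff_isSheaf_of_type J _).mpr
        (Sheaf.sheaf_for_finestTopology Ps (P := ((reflector P.ι).obj F).obj)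
          ((reflector P.ι).obj F).property)⟩
    let η' : F' ⟶ G' := ⟨η⟩
    have hiso' : IsIso η' := by
      rw [← Sheaf.isLocallyBijective_iff_isIso η']
      exact ⟨hinj, hsurj⟩
    have hiso : IsIso η := by
      have := (sheafToPresheaf J (Type u)).map_isIso η'
      exact this
    exact P.prop_of_iso (asIso η).symm ((reflector P.ι).obj F).property

end Groth.Agent.S6127
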