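import Groth.Statements.S6128
import Mathlib.CategoryTheory.Sites.LocallyBijective
import Mathlib.CategoryTheory.Functor.KanExtension.Adjunction

set_option autoImplicit false
open CategoryTheory
universe u
open SGA4

namespace Groth.Agent.S6128

/-- Let `u : C ⥤ C'` be a functor between small sites. If the right Kan extension along `u` of the
underlying presheaf of every sheaf of sets on `C` is a sheaf on `C'`, then `u` is cocontinuous: for
every object `Y` of `C` and every covering sieve `R` of `u Y`, the sieve of morphisms `g : Z ⟶ Y`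
with `u g ∈ R` covers `Y`. -/
theorem result
    {C : Type u} [SmallCategory C] {C' : Type u} [SmallCategory C']
    (J : GrothendieckTopology C) (J' : GrothendieckTopology C') (u : C ⥤ C')
    (h : ∀ G : Sheaf J (Type u), Presheaf.IsSheaf J' ((u.op.ran).obj G.obj)) :
    u.IsCocontinuous J J' := by
  refine ⟨fun {Y R} hR => ?_⟩
  -- the restriction along `u` of the inclusion `R ↪ y(uY)`
  let m : ((Functor.whiskeringLeft Cᵒᵖ C'ᵒᵖ (Type u)).obj u.op).obj R.functor ⟶
      ((Functor.whiskeringLeft Cᵒᵖ C'ᵒᵖ (Type u)).obj u.op).obj (yoneda.obj (u.obj Y)) :=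
    ((Functor.whiskeringLeft Cᵒᵖ C'ᵒᵖ (Type u)).obj u.op).map R.functorInclusion
  have hW : J.W m := by
    intro G hG
    let adj := u.op.ranAdjunction (Type u)
    have hG' : Presieve.IsSheaf J' ((u.op.ran).obj G) :=
      (isSheaf_iff_isSheaf_of_type _ _).mp (h ⟨G, hG⟩)
    have hY : Presieve.YonedaSheafCondition ((u.op.ran).obj G) R :=
      Presieve.isSheafFor_iff_yonedaSheafCondition.mp (hG' R hR)
    constructor
    · intro f₁ f₂ hf
      simp only at hf
      apply (adj.homEquiv _ _).injective
      have h1 := congrArg (adj.homEquiv _ _) hf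
      rw [adj.homEquiv_naturality_left, adj.homEquiv_naturality_left] at h1
      exact (hY _).unique h1 rfl
    · intro f
      obtain ⟨g, hg, -⟩ := hY (adj.homEquiv _ _ f)
      refine ⟨(adj.homEquiv _ _).symm g, ?_⟩
      apply (adj.homEquiv _ _).injective
      simp only
      rw [adj.homEquiv_naturality_left, Equiv.apply_symm_apply, hg]
  have hsurj : Presheaf.IsLocallySurjective J m := hW.isLocallySurjective
  have hmem := Presheaf.imageSieve_mem J m (U := Opposite.op Y) (𝟙 (u.obj Y))
  refine J.superset_covering ?_ hmem
  intro Z g hg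
  obtain ⟨t, ht⟩ := hg
  change R (u.map g)
  have : u.map g = t.1 := by
    have := ht
    simp [m] at this
    exact this.symm
  rw [this]
  exact t.2

end Groth.Agent.S6128
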