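import Groth.Statements.S6129
import Mathlib
-- import your own Groth.Agent.* helpers here

set_option autoImplicit false
open CategoryTheory CategoryTheory.Limits
universe u
open SGA4


namespace Groth.Agent.S6129.Aux
open Opposite

variable {C : Type u} [SmallCategory C] {C' : Type u} [SmallCategory C'] (u : C ⥤ C')

lemma slice_full (hu : ∀ X : C, (Over.post (X := X) u).Full)
    {Z W X : C} (p : Z ⟶ X) (q : W ⟶ X) (g : u.obj Z ⟶ u.obj W) (hg : g ≫ u.map q = u.map p) :
    ∃ f : Z ⟶ W, f ≫ q = p ∧ u.map f = g := by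
  have := hu X
  let g' : (Over.post u).obj (Over.mk p) ⟶ (Over.post u).obj (Over.mk q) :=
    Over.homMk g hg
  obtain ⟨f', hf'⟩ := (Over.post (X := X) u).map_surjective g'
  refine ⟨f'.left, by simpa using Over.w f', ?_⟩
  have := congrArg CommaMorphism.left hf'
  simp only [g', Over.post_map, Over.homMk_left] at this
  exact this

lemma slice_full_op (hu : ∀ X : C, (Over.post (X := X) u).Full)
    {A B X : Cᵒᵖ} (s₁ : A ⟶ X) (φ : A ⟶ B) (g : u.op.obj B ⟶ u.op.obj X)
    (hg : u.op.map φ ≫ g = u.op.map s₁) :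
    ∃ s₂ : B ⟶ X, φ ≫ s₂ = s₁ ∧ u.op.map s₂ = g := by
  obtain ⟨f, hf1, hf2⟩ := slice_full u hu s₁.unop φ.unop g.unop (by
    have := congrArg Quiver.Hom.unop hg
    simpa using this)
  refine ⟨f.op, ?_, ?_⟩
  · apply Quiver.Hom.unop_inj
    simpa using hf1
  · apply Quiver.Hom.unop_inj
    simpa using hf2

end Groth.Agent.S6129.Aux

namespace Groth.Agent.S6129.Aux
open Opposite

variable {C : Type u} [SmallCategory C] {C' : Type u} [SmallCategory C'] (u : C ⥤ C')

open Classical in
/-- the retraction function on each piece of the colimit -/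
noncomputable def rFun (H : Cᵒᵖ ⥤ Type u) (X : Cᵒᵖ)
    (g : CostructuredArrow u.op (u.op.obj X)) (h : H.obj g.left) : Option (H.obj X) :=
  if hs : ∃ s : g.left ⟶ X, u.op.map s = g.hom then some (H.map hs.choose h) else none

lemma rFun_pos [u.Faithful] (H : Cᵒᵖ ⥤ Type u) (X : Cᵒᵖ)
    (g : CostructuredArrow u.op (u.op.obj X)) (h : H.obj g.left)
    (s : g.left ⟶ X) (hs : u.op.map s = g.hom) : rFun u H X g h = some (H.map s h) := by
  have hs' : ∃ s : g.left ⟶ X, u.op.map s = g.hom := ⟨s, hs⟩
  have e : hs'.choose = s := u.op.map_injective (by rw [hs'.choose_spec, hs])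
  unfold rFun
  rw [dif_pos hs', e]

lemma rFun_neg (H : Cᵒᵖ ⥤ Type u) (X : Cᵒᵖ)
    (g : CostructuredArrow u.op (u.op.obj X)) (h : H.obj g.left)
    (hs : ¬ ∃ s : g.left ⟶ X, u.op.map s = g.hom) : rFun u H X g h = none := by
  unfold rFun
  rw [dif_neg hs]

lemma rFun_eq_some (H : Cᵒᵖ ⥤ Type u) (X : Cᵒᵖ)
    (g : CostructuredArrow u.op (u.op.obj X)) (h : H.obj g.left) (k : H.obj X)
    (hk : rFun u H X g h = some k) :
    ∃ s : g.left ⟶ X, u.op.map s = g.hom ∧ H.map s h = k := by
  unfold rFun at hk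
  by_cases hs : ∃ s : g.left ⟶ X, u.op.map s = g.hom
  · rw [dif_pos hs] at hk
    exact ⟨hs.choose, hs.choose_spec, Option.some.inj hk⟩
  · rw [dif_neg hs] at hk
    exact absurd hk (by simp)

/-- the cocone defining the retraction onto the main component -/
noncomputable def rCocone [u.Faithful] (hu : ∀ X : C, (Over.post (X := X) u).Full)
    (H : Cᵒᵖ ⥤ Type u) (X : Cᵒᵖ) :
    Cocone (CostructuredArrow.proj u.op (u.op.obj X) ⋙ H) where
  pt := Option (H.obj X)
  ι :=
    { app := fun g => ↾(rFun u H X g)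
      naturality := by
        intro g₁ g₂ φ
        ext h
        have hw : u.op.map φ.left ≫ g₂.hom = g₁.hom := CostructuredArrow.w φ
        change rFun u H X g₂ (H.map φ.left h) = rFun u H X g₁ h
        by_cases hs₁ : ∃ s : g₁.left ⟶ X, u.op.map s = g₁.hom
        · obtain ⟨s₁, hs₁⟩ := hs₁
          obtain ⟨s₂, h1, h2⟩ := slice_full_op u hu s₁ φ.left g₂.hom (by rw [hw, hs₁])
          rw [rFun_pos u H X g₁ h s₁ hs₁, rFun_pos u H X g₂ _ s₂ h2, ← h1]
          simp
        · have hs₂ : ¬ ∃ s : g₂.left ⟶ X, u.op.map s = g₂.hom := by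
            rintro ⟨s₂, h2⟩
            exact hs₁ ⟨φ.left ≫ s₂, by rw [Functor.map_comp, h2, hw]⟩
          rw [rFun_neg u H X g₁ h hs₁, rFun_neg u H X g₂ _ hs₂] }

end Groth.Agent.S6129.Aux

namespace Groth.Agent.S6129.Aux
open Opposite

variable {C : Type u} [SmallCategory C] {C' : Type u} [SmallCategory C'] (u : C ⥤ C')

/-- the unit with a clean type -/
noncomputable def η (H : Cᵒᵖ ⥤ Type u) : H ⟶ u.op ⋙ u.op.lan.obj H := u.op.lanUnit.app H

/-- the left extension -/
noncomputable abbrev lanExt (H : Cᵒᵖ ⥤ Type u) : u.op.LeftExtension H :=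
  Functor.LeftExtension.mk (u.op.lan.obj H) (η u H)

/-- pointwise colimit -/
noncomputable def lanIsColimit (H : Cᵒᵖ ⥤ Type u) (Y : C'ᵒᵖ) :
    IsColimit ((lanExt u H).coconeAt Y) :=
  Functor.isPointwiseLeftKanExtensionLeftKanExtensionUnit u.op H Y

/-- the structure maps of the pointwise colimit, elementwise -/
noncomputable def ιel (H : Cᵒᵖ ⥤ Type u) (Y : C'ᵒᵖ) (g : CostructuredArrow u.op Y)
    (h : H.obj g.left) : (u.op.lan.obj H).obj Y :=
  (u.op.lan.obj H).map g.hom ((η u H).app g.left h)

lemma coconeAt_ι_apply (H : Cᵒᵖ ⥤ Type u) (Y : C'ᵒᵖ) (g : CostructuredArrow u.op Y)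
    (h : H.obj g.left) : ((lanExt u H).coconeAt Y).ι.app g h = ιel u H Y g h := rfl

lemma ιel_surjective (H : Cᵒᵖ ⥤ Type u) (Y : C'ᵒᵖ) (y : (u.op.lan.obj H).obj Y) :
    ∃ (g : CostructuredArrow u.op Y) (h : H.obj g.left), ιel u H Y g h = y :=
  Types.jointly_surjective_of_isColimit (lanIsColimit u H Y) y

lemma ιel_w (H : Cᵒᵖ ⥤ Type u) (Y : C'ᵒᵖ) {g₁ g₂ : CostructuredArrow u.op Y} (φ : g₁ ⟶ g₂)
    (h : H.obj g₁.left) : ιel u H Y g₂ (H.map φ.left h) = ιel u H Y g₁ h :=
  ConcreteCategory.congr_hom (((lanExt u H).coconeAt Y).w φ) h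

lemma unit_ιel (H : Cᵒᵖ ⥤ Type u) (X : Cᵒᵖ) (h : H.obj X) :
    (η u H).app X h = ιel u H (u.op.obj X) (CostructuredArrow.mk (𝟙 (u.op.obj X))) h := by
  unfold ιel
  simp

lemma lan_map_ιel {H K : Cᵒᵖ ⥤ Type u} (α : H ⟶ K) (Y : C'ᵒᵖ) (g : CostructuredArrow u.op Y)
    (h : H.obj g.left) :
    (u.op.lan.map α).app Y (ιel u H Y g h) = ιel u K Y g (α.app g.left h) := by
  have h2 : α.app g.left ≫ (η u K).app g.left =
      (η u H).app g.left ≫ (u.op.lan.map α).app (u.op.obj g.left) :=
    NatTrans.congr_app (u.op.lanUnit.naturality α) g.left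
  have h3 := (u.op.lan.map α).naturality g.hom
  unfold ιel
  have e3 := ConcreteCategory.congr_hom h3 ((η u H).app g.left h)
  have e2 := ConcreteCategory.congr_hom h2 h
  simp only [ConcreteCategory.comp_apply] at e2 e3
  rw [e3, ← e2]

section
variable [u.Faithful] (hu : ∀ X : C, (Over.post (X := X) u).Full)

/-- the retraction -/
noncomputable def retr (H : Cᵒᵖ ⥤ Type u) (X : Cᵒᵖ) :
    (u.op.lan.obj H).obj (u.op.obj X) ⟶ Option (H.obj X) :=
  (lanIsColimit u H (u.op.obj X)).desc (rCocone u hu H X)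

lemma retr_ιel (H : Cᵒᵖ ⥤ Type u) (X : Cᵒᵖ) (g : CostructuredArrow u.op (u.op.obj X))
    (h : H.obj g.left) :
    retr u hu H X (ιel u H (u.op.obj X) g h) = rFun u H X g h := by
  have := (lanIsColimit u H (u.op.obj X)).fac (rCocone u hu H X) g
  exact ConcreteCategory.congr_hom this h

lemma retr_unit (H : Cᵒᵖ ⥤ Type u) (X : Cᵒᵖ) (h : H.obj X) :
    retr u hu H X ((η u H).app X h) = some h := by
  rw [unit_ιel, retr_ιel]
  refine (rFun_pos u H X (CostructuredArrow.mk (𝟙 (u.op.obj X))) h (𝟙 X) (by simp)).trans ?_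
  simp

end

end Groth.Agent.S6129.Aux

namespace Groth.Agent.S6129

open Aux

/-- Let `u : C ⥤ C'` be a faithful functor between small categories such that for every object `X` of
`C` the induced functor on over-categories `C/X ⥤ C'/u X` is full and faithful. Then the left Kan
extension functor `u_!` on presheaves of sets is faithful, the unit `H ⟶ u^* u_! H` of the
adjunction `u_! ⊣ u^*` is a monomorphism for every presheaf `H`, and for every morphism of
presheaves `α : H ⟶ K` the naturality square of the unit at `α` (with sides `α` and `u^* u_! α`) is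
cartesian. (The published statement assumes only the condition on the slice functors, and its proof
uses that `u` is faithful; the slice condition alone does not suffice: for a nontrivial group viewed
as a one-object category mapping to the point every slice functor is an equivalence, while `u_!` is
the orbit-set functor on `G`-sets, which is not faithful, and the unit `G ⟶ G/G` is not a
monomorphism. So `u` is taken faithful here.) -/
theorem result
    {C : Type u} [SmallCategory C] {C' : Type u} [SmallCategory C'] (u : C ⥤ C') [u.Faithful]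
    (hu : ∀ X : C, (Over.post (X := X) u).Full ∧ (Over.post (X := X) u).Faithful) :
    (u.op.lan : (Cᵒᵖ ⥤ Type u) ⥤ (C'ᵒᵖ ⥤ Type u)).Faithful ∧
    (∀ H : Cᵒᵖ ⥤ Type u, Mono ((u.op.lanAdjunction (Type u)).unit.app H)) ∧
    ∀ (H K : Cᵒᵖ ⥤ Type u) (α : H ⟶ K),
      IsPullback ((u.op.lanAdjunction (Type u)).unit.app H) α
        (((Functor.whiskeringLeft Cᵒᵖ C'ᵒᵖ (Type u)).obj u.op).map (u.op.lan.map α))
        ((u.op.lanAdjunction (Type u)).unit.app K) := by
  have hfull : ∀ X : C, (Over.post (X := X) u).Full := fun X => (hu X).1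
  let adj := u.op.lanAdjunction (Type u)
  have hunit : ∀ H : Cᵒᵖ ⥤ Type u, adj.unit.app H = η u H := by
    intro H
    simp only [adj, Functor.lanAdjunction_unit]
    rfl
  have hinj : ∀ (H : Cᵒᵖ ⥤ Type u) (X : Cᵒᵖ), Function.Injective ((η u H).app X) := by
    intro H X a b hab
    have := congrArg (retr u hfull H X) hab
    rw [retr_unit, retr_unit] at this
    exact Option.some.inj this
  have hmono : ∀ H : Cᵒᵖ ⥤ Type u, Mono (adj.unit.app H) := by
    intro H
    rw [hunit]
    have : ∀ X, Mono ((η u H).app X) := fun X => (mono_iff_injective _).mpr (hinj H X)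
    exact NatTrans.mono_of_mono_app _
  refine ⟨?_, hmono, ?_⟩
  · exact adj.faithful_L_of_mono_unit_app
  · intro H K α
    have key : IsPullback (η u H) α
        (((Functor.whiskeringLeft Cᵒᵖ C'ᵒᵖ (Type u)).obj u.op).map (u.op.lan.map α)) (η u K) := by
      apply IsPullback.of_forall_isPullback_app
      intro X
      rw [Types.isPullback_iff]
      refine ⟨?_, ?_, ?_⟩
      · exact (NatTrans.congr_app (u.op.lanUnit.naturality α) X).symm
      · rintro a b ⟨h1, _⟩
        exact hinj H X h1
      · intro y k hyk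
        obtain ⟨g, h', rfl⟩ := ιel_surjective u H (u.op.obj X) y
        have h1 : (u.op.lan.map α).app (u.op.obj X) (ιel u H _ g h') = (η u K).app X k := hyk
        rw [lan_map_ιel] at h1
        have h2 := congrArg (retr u hfull K X) h1
        rw [retr_ιel, retr_unit] at h2
        obtain ⟨s, hs, hk⟩ := rFun_eq_some u K X g _ k h2
        refine ⟨H.map s h', ?_, ?_⟩
        · rw [unit_ιel]
          let φ : g ⟶ CostructuredArrow.mk (𝟙 (u.op.obj X)) :=
            CostructuredArrow.homMk s (by
              change u.op.map s ≫ 𝟙 _ = g.hom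
              rw [Category.comp_id, hs])
          exact ιel_w u H _ φ h'
        · rw [← hk]
          exact NatTrans.naturality_apply α s h'
    have e1 := hunit H
    have e2 := hunit K
    rw [← e1, ← e2] at key
    exact key

end Groth.Agent.S6129
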