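import Groth.Statements.S6131
import Mathlib.CategoryTheory.Sites.Closed

set_option autoImplicit false
open CategoryTheory CategoryTheory.Limits
universe u
open SGA4

namespace Groth.Agent.S6131

/-- For a small site `(C, J)` and an object `X` of `C`, the sheaf associated to the presheaf represented
by `X` is an initial object of the category of sheaves of sets if and only if the empty sieve covers
`X`. -/
theorem result
    {C : Type u} [SmallCategory C] (J : GrothendieckTopology C) (X : C) :
    Nonempty (IsInitial ((presheafToSheaf J (Type u)).obj (yoneda.obj X))) ↔ (⊥ : Sieve X) ∈ J X := by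
  have e : ∀ F : Sheaf J (Type u),
      ((presheafToSheaf J (Type u)).obj (yoneda.obj X) ⟶ F) ≃ F.obj.obj (Opposite.op X) :=
    fun F => ((sheafificationAdjunction J (Type u)).homEquiv (yoneda.obj X) F).trans yonedaEquiv
  constructor
  · rintro ⟨hinit⟩
    let Ω : Sheaf J (Type u) := ⟨(Functor.closedSieves J).toFunctor,
      (isSheaf_iff_isSheaf_of_type _ _).mpr (classifier_isSheaf J)⟩
    have hsub : ∀ a b : Ω.obj.obj (Opposite.op X), a = b := fun a b => by
      have := hinit.hom_ext ((e Ω).symm a) ((e Ω).symm b)
      exact (e Ω).symm.injective this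
    have h := hsub ⟨(⊤ : Sieve X), J.isClosed_iff_close_eq_self ⊤ |>.mpr
      ((J.close_eq_top_iff_mem ⊤).mpr (J.top_mem X))⟩ ⟨J.close (⊥ : Sieve X), J.close_isClosed ⊥⟩
    rw [← J.close_eq_top_iff_mem]
    exact (congrArg Subtype.val h).symm
  · intro hbot
    have huniq : ∀ F : Sheaf J (Type u), ∃ t : F.obj.obj (Opposite.op X),
        ∀ t' : F.obj.obj (Opposite.op X), t' = t := by
      intro F
      have hF : Presieve.IsSheafFor F.obj (⊥ : Sieve X).arrows :=
        (isSheaf_iff_isSheaf_of_type J F.obj).mp F.property (⊥ : Sieve X) hbot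
      let x : Presieve.FamilyOfElements F.obj (⊥ : Sieve X).arrows :=
        fun Y f hf => False.elim hf
      have hx : x.Compatible := by
        intro Y₁ Y₂ Z g₁ g₂ f₁ f₂ h₁ h₂ _
        exact False.elim h₁
      obtain ⟨t, -, ht⟩ := hF x hx
      refine ⟨t, fun t' => ht t' ?_⟩
      intro Y f hf
      exact False.elim hf
    refine ⟨IsInitial.ofUniqueHom (fun F => (e F).symm (huniq F).choose) ?_⟩
    intro F m
    apply (e F).injective
    rw [Equiv.apply_symm_apply]
    exact (huniq F).choose_spec _

end Groth.Agent.S6131
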