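import Groth.Statements.S6135
import Mathlib
-- import your own Groth.Agent.* helpers here

set_option autoImplicit false
open CategoryTheory CategoryTheory.Limits
universe u
open SGA4


namespace Groth.Agent.S6135.Aux
open Opposite

variable {C : Type u} [SmallCategory C] {C' : Type u} [SmallCategory C'] (u : C ⥤ C')

lemma mono_unit_yoneda [u.Faithful] (X : C) :
    Mono ((u.op.lanAdjunction (Type u)).unit.app (yoneda.obj X)) := by
  rw [Functor.lanAdjunction_unit]
  let i := Functor.leftKanExtensionUnique (yoneda.obj (u.obj X)) (yonedaMap u X)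
    (u.op.lan.obj (yoneda.obj X)) (u.op.lanUnit.app (yoneda.obj X))
  have h1 : yonedaMap u X ≫ Functor.whiskerLeft u.op i.hom = u.op.lanUnit.app (yoneda.obj X) := by
    simp [i, Functor.leftKanExtensionUnique, Functor.leftKanExtensionUniqueOfIso]
  rw [← h1]
  have : Mono (yonedaMap u X) := by
    have : ∀ Z : Cᵒᵖ, Mono ((yonedaMap u X).app Z) := by
      intro Z
      rw [mono_iff_injective]
      intro f g hfg
      exact u.map_injective hfg
    apply NatTrans.mono_of_mono_app
  exact mono_comp _ _

lemma mono_unit_of_isIndObject [u.Faithful] (G : Cᵒᵖ ⥤ Type u) (hG : IsIndObject G) :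
    Mono ((u.op.lanAdjunction (Type u)).unit.app G) := by
  obtain ⟨⟨P⟩⟩ := hG
  let adj := u.op.lanAdjunction (Type u)
  have : PreservesColimits (u.op.lan : (Cᵒᵖ ⥤ Type u) ⥤ (C'ᵒᵖ ⥤ Type u)) :=
    adj.leftAdjoint_preservesColimits
  let T : (Cᵒᵖ ⥤ Type u) ⥤ (Cᵒᵖ ⥤ Type u) :=
    u.op.lan ⋙ (Functor.whiskeringLeft Cᵒᵖ C'ᵒᵖ (Type u)).obj u.op
  let D := P.F ⋙ yoneda
  let φ : D ⟶ D ⋙ T :=
    { app := fun i => adj.unit.app (D.obj i)
      naturality := fun i j f => adj.unit.naturality (D.map f) }
  have : ∀ i, Mono (φ.app i) := fun i => mono_unit_yoneda u (P.F.obj i)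
  have hφ : Mono φ := NatTrans.mono_of_mono_app φ
  let c₁ : Cocone D := Cocone.mk G P.ι
  have hc₁ : IsColimit c₁ := P.isColimit
  have hc₂ : IsColimit (T.mapCocone c₁) := isColimitOfPreserves T hc₁
  exact colim.map_mono' φ hc₁ hc₂ (adj.unit.app G) (fun j => adj.unit.naturality (P.ι.app j))

end Groth.Agent.S6135.Aux

namespace Groth.Agent.S6135

open Aux

/-- Faithful case. Let `u : C ⥤ C'` be a functor between small categories and `u_!` the left Kan
extension functor on presheaves of sets, whose restriction to ind-objects (presheaves that are small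
filtered colimits of representables) is the induced functor `Ind C ⥤ Ind C'`. Then `u` is faithful
if and only if `u_!` is injective on morphisms between ind-representable presheaves. -/
theorem result
    {C : Type u} [SmallCategory C] {C' : Type u} [SmallCategory C'] (u : C ⥤ C') :
    u.Faithful ↔ ∀ (F G : Cᵒᵖ ⥤ Type u), IsIndObject F → IsIndObject G →
      Function.Injective (fun φ : F ⟶ G => (u.op.lan : (Cᵒᵖ ⥤ Type u) ⥤ (C'ᵒᵖ ⥤ Type u)).map φ) := by
  constructor
  · intro hfaith F G _ hG φ ψ h
    let adj := u.op.lanAdjunction (Type u)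
    have hmono : Mono (adj.unit.app G) := mono_unit_of_isIndObject u G hG
    have h1 : φ ≫ adj.unit.app G = ψ ≫ adj.unit.app G := by
      have e1 := adj.unit.naturality φ
      have e2 := adj.unit.naturality ψ
      simp only [Functor.id_map, Functor.comp_map] at e1 e2
      rw [e1, e2]
      have h' : u.op.lan.map φ = u.op.lan.map ψ := h
      rw [h']
    exact (cancel_mono _).mp h1
  · intro hinj
    let Y : C ⥤ Cᵒᵖ ⥤ Type u := uliftYoneda.{u}
    let Y' : C' ⥤ C'ᵒᵖ ⥤ Type u := uliftYoneda.{u}
    let e : u ⋙ Y' ≅ Y ⋙ u.op.lan := Presheaf.compULiftYonedaIsoULiftYonedaCompLan.{u} u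
    have hind : ∀ X : C, IsIndObject (Y.obj X) := fun X =>
      (isIndObject_yoneda X).map (uliftYonedaIsoYoneda.{u}.symm.app X).hom
    have hfaith : (Y ⋙ u.op.lan).Faithful := ⟨fun {X X'} f g hfg => by
      apply Y.map_injective
      exact (hinj _ _ (hind X) (hind X')) hfg⟩
    have hfaith' : (u ⋙ Y').Faithful := Functor.Faithful.of_iso e.symm
    exact Functor.Faithful.of_comp u Y'

end Groth.Agent.S6135
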