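import Groth.Statements.S6137
import Mathlib.CategoryTheory.Limits.Elements
import Mathlib.CategoryTheory.Limits.Constructions.WeaklyInitial
import Mathlib.CategoryTheory.Limits.Types.Colimits
import Mathlib.CategoryTheory.Limits.FunctorCategory.Basic
-- import your own Groth.Agent.* helpers here

set_option autoImplicit false
open CategoryTheory CategoryTheory.Limits
universe v u
open SGA4

namespace Groth.Agent.S6137

/-- Let `C` be a category with `v`-small hom-sets admitting all `v`-small limits, and `F : C ⥤ Type v` a
functor. Then `F` is corepresentable if and only if it is pro-representable (viewed as a presheaf on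
`Cᵒᵖ` it is an ind-object, i.e. a small filtered colimit of corepresentable functors) and preserves
all `v`-small limits. -/
theorem result
    {C : Type u} [Category.{v} C] [HasLimitsOfSize.{v, v} C] (F : C ⥤ Type v) :
    F.IsCorepresentable ↔
      IsIndObject (unopUnop C ⋙ F) ∧ PreservesLimitsOfSize.{v, v} F := by
  constructor
  · intro hF
    obtain ⟨X, ⟨e⟩⟩ := hF.has_corepresentation
    constructor
    · -- representable presheaf on Cᵒᵖ
      let r : (unopUnop C ⋙ F).RepresentableBy (Opposite.op X) :=
        { homEquiv := fun {Z} => (opEquiv Z (Opposite.op X)).trans e.homEquiv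
          homEquiv_comp := fun {Z Z'} f g => by
            simp only [Equiv.trans_apply]
            exact e.homEquiv_comp f.unop g.unop }
      exact (isIndObject_yoneda (Opposite.op X)).map r.toIso.hom
    · have : PreservesLimitsOfSize.{v, v} (coyoneda.obj (Opposite.op X)) := inferInstance
      exact preservesLimits_of_natIso e.toIso
  · rintro ⟨hind, hlim⟩
    obtain ⟨P⟩ := hind.nonempty_presentation
    -- the small weakly initial family
    let ξ : ∀ i : P.I, F.obj (P.F.obj i).unop :=
      fun i => (P.ι.app i).app (Opposite.op (P.F.obj i)) (𝟙 (P.F.obj i))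
    let B : P.I → F.Elements := fun i => ⟨(P.F.obj i).unop, ξ i⟩
    have hB : ∀ A : F.Elements, ∃ i, Nonempty (B i ⟶ A) := by
      rintro ⟨Y, η⟩
      have hcol := isColimitOfPreserves ((evaluation Cᵒᵖᵒᵖ (Type v)).obj
        (Opposite.op (Opposite.op Y))) P.isColimit
      obtain ⟨i, g, hg⟩ := Types.jointly_surjective_of_isColimit hcol η
      refine ⟨i, ⟨⟨(show Opposite.op Y ⟶ P.F.obj i from g).unop, ?_⟩⟩⟩
      have hnat := NatTrans.naturality_apply (P.ι.app i)
        (show Opposite.op Y ⟶ P.F.obj i from g).op (𝟙 (P.F.obj i))
      have e1 : ((P.F ⋙ yoneda).obj i).map (show Opposite.op Y ⟶ P.F.obj i from g).op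
          (𝟙 (P.F.obj i)) = g := by
        change (show Opposite.op Y ⟶ P.F.obj i from g) ≫ 𝟙 (P.F.obj i) = g
        exact Category.comp_id _
      rw [e1] at hnat
      change (P.ι.app i).app (Opposite.op (Opposite.op Y)) g = η at hg
      rw [← hg]
      exact hnat.symm
    have : HasProducts.{v} F.Elements := fun J => inferInstance
    have : HasWideEqualizers.{v} F.Elements := fun J => inferInstance
    obtain ⟨T, hT⟩ := has_weakly_initial_of_weakly_initial_set_and_hasProducts hB
    have := hasInitial_of_weakly_initial_and_hasWideEqualizers hT
    exact Functor.Elements.isCorepresentable_of_hasInitial F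

end Groth.Agent.S6137
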