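import Groth.Statements.S6139
import Mathlib

set_option autoImplicit false
open CategoryTheory CategoryTheory.Limits
universe v u
open SGA4

namespace Groth.Agent.S6139

/-- For an object `X` of a category `C`, the empty sieve on `X` is covering for the canonical topology
of `C` (the finest topology for which every representable presheaf is a sheaf) if and only if `X` is
a strict initial object: `X` is initial and every morphism with target `X` is an isomorphism. (The
source phrases the first condition as: for some topology coarser than the canonical one the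
associated sheaf of `h_X` is initial; that sheaf is initial exactly when the empty sieve covers `X`,
and coverage by the empty sieve passes to the finer canonical topology.) -/
theorem result
    {C : Type u} [Category.{v} C] (X : C) :
    (⊥ : Sieve X) ∈ Sheaf.canonicalTopology C X ↔
      (Nonempty (IsInitial X) ∧ ∀ (Y : C) (f : Y ⟶ X), IsIso f) := by
  -- sheaf condition for the empty sieve on `Y` w.r.t. `yoneda.obj Z` ↔ unique map `Y ⟶ Z`
  have hbot : ∀ (Y Z : C), Presieve.IsSheafFor (yoneda.obj Z) ((⊥ : Sieve Y) : Presieve Y) ↔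
      Nonempty (Unique (Y ⟶ Z)) := by
    intro Y Z
    constructor
    · intro h
      let x : Presieve.FamilyOfElements (yoneda.obj Z) ((⊥ : Sieve Y) : Presieve Y) :=
        fun W g hg => hg.elim
      have hx : x.Compatible := fun _ _ _ _ _ _ _ h₁ _ _ => h₁.elim
      obtain ⟨t, -, ht⟩ := h x hx
      exact ⟨⟨⟨t⟩, fun a => ht a (fun W g hg => hg.elim)⟩⟩
    · rintro ⟨hu⟩ x hx
      refine ⟨hu.default, fun W g hg => hg.elim, fun a _ => hu.uniq a⟩
  constructor
  · intro h
    have hY : ∀ (Y : C) (f : Y ⟶ X) (Z : C), Nonempty (Unique (Y ⟶ Z)) := by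
      intro Y f Z
      rw [← hbot]
      have := h _
        ⟨⟨_, _, ⟨yoneda.obj Z, Set.mem_range_self Z, rfl⟩, rfl⟩, rfl⟩ Y f
      simpa using this
    have hinit : ∀ (Y : C) (f : Y ⟶ X), IsInitial Y := fun Y f =>
      IsInitial.ofUnique (h := fun Z => (hY Y f Z).some)
    refine ⟨⟨hinit X (𝟙 X)⟩, fun Y f => ?_⟩
    have hX := hinit X (𝟙 X)
    have hYi := hinit Y f
    exact ⟨hX.to Y, hYi.hom_ext _ _, hX.hom_ext _ _⟩
  · rintro ⟨⟨hX⟩, hiso⟩
    refine Sheaf.mem_finestTopology_of_forall_isSheafFor ?_
    rintro _ ⟨Z, rfl⟩ Y f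
    have : IsIso f := hiso Y f
    have hYi : IsInitial Y := IsInitial.ofIso hX (asIso f).symm
    have hb : (Sieve.pullback f (⊥ : Sieve X)) = ⊥ := by
      ext W g
      simp
    rw [hb, hbot]
    exact ⟨⟨⟨hYi.to Z⟩, fun a => hYi.hom_ext _ _⟩⟩

end Groth.Agent.S6139
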