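import Groth.Statements.S6142
import Mathlib.CategoryTheory.Sites.Subcanonical
-- import your own Groth.Agent.* helpers here

set_option autoImplicit false
open CategoryTheory
universe u
open SGA4

namespace Groth.Agent.S6142

section helpers
open Opposite

variable {C : Type u} [SmallCategory C] {C' : Type u} [SmallCategory C']
    (J : GrothendieckTopology C) (K : GrothendieckTopology C') [J.Subcanonical] [K.Subcanonical]
    (u : C ⥤ C') [u.IsContinuous J K]

/-- `β X : y X ⟶ u^* y (u X)`, `f ↦ u f`. -/
private noncomputable def β (X : C) :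
    J.yoneda.obj X ⟶ (u.sheafPushforwardContinuous (Type u) J K).obj (K.yoneda.obj (u.obj X)) :=
  J.yonedaEquiv.symm (𝟙 (u.obj X) : u.obj X ⟶ u.obj X)

private lemma yonedaEquiv_β (X : C) :
    J.yonedaEquiv (β J K u X) = (𝟙 (u.obj X) : u.obj X ⟶ u.obj X) :=
  Equiv.apply_symm_apply _ _

/-- `α X : u_! y X ⟶ y (u X)`. -/
private noncomputable def α (X : C) :
    (u.sheafPullback (Type u) J K).obj (J.yoneda.obj X) ⟶ K.yoneda.obj (u.obj X) :=
  ((u.sheafAdjunctionContinuous (Type u) J K).homEquiv _ _).symm (β J K u X)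

private lemma homEquiv_α (X : C) :
    (u.sheafAdjunctionContinuous (Type u) J K).homEquiv _ _ (α J K u X) = β J K u X :=
  Equiv.apply_symm_apply _ _

private lemma key_comp (X : C) (F : Sheaf K (Type u)) (φ : K.yoneda.obj (u.obj X) ⟶ F) :
    J.yonedaEquiv ((u.sheafAdjunctionContinuous (Type u) J K).homEquiv _ _ (α J K u X ≫ φ)) =
      K.yonedaEquiv φ := by
  rw [Adjunction.homEquiv_naturality_right, homEquiv_α, GrothendieckTopology.yonedaEquiv_comp,
    yonedaEquiv_β, GrothendieckTopology.yonedaEquiv_apply]
  rfl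

private lemma isIso_α (X : C) : IsIso (α J K u X) := by
  rw [isIso_iff_coyoneda_map_bijective]
  intro F
  have h : (fun φ : K.yoneda.obj (u.obj X) ⟶ F =>
      J.yonedaEquiv ((u.sheafAdjunctionContinuous (Type u) J K).homEquiv _ _ (α J K u X ≫ φ))) =
      fun φ => K.yonedaEquiv φ := funext fun φ => key_comp J K u X F φ
  have hb : Function.Bijective (fun φ : K.yoneda.obj (u.obj X) ⟶ F =>
      J.yonedaEquiv ((u.sheafAdjunctionContinuous (Type u) J K).homEquiv _ _ (α J K u X ≫ φ))) := by
    rw [h]; exact K.yonedaEquiv.bijective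
  let e := ((u.sheafAdjunctionContinuous (Type u) J K).homEquiv (J.yoneda.obj X) F).trans
    J.yonedaEquiv
  exact (Equiv.comp_bijective (fun φ : K.yoneda.obj (u.obj X) ⟶ F => α J K u X ≫ φ) e).mp hb

private lemma α_naturality {X Y : C} (f : X ⟶ Y) :
    (u.sheafPullback (Type u) J K).map (J.yoneda.map f) ≫ α J K u Y =
      α J K u X ≫ K.yoneda.map (u.map f) := by
  apply ((u.sheafAdjunctionContinuous (Type u) J K).homEquiv _ _).injective
  rw [Adjunction.homEquiv_naturality_left, Adjunction.homEquiv_naturality_right, homEquiv_α,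
    homEquiv_α]
  apply J.yonedaEquiv.injective
  rw [← GrothendieckTopology.yonedaEquiv_naturality, GrothendieckTopology.yonedaEquiv_comp,
    yonedaEquiv_β, yonedaEquiv_β]
  change u.map f ≫ (𝟙 (u.obj Y) : u.obj Y ⟶ u.obj Y) = (𝟙 (u.obj X) : u.obj X ⟶ u.obj X) ≫ u.map f
  simp

end helpers

/-- Let `u : C ⥤ C'` be a continuous and cocontinuous functor between small sites whose topologies are
subcanonical. If the left adjoint `u_!` of the restriction functor `u^*` on sheaves of sets is full
and faithful, then `u` is full and faithful. -/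
theorem result
    {C : Type u} [SmallCategory C] {C' : Type u} [SmallCategory C']
    (J : GrothendieckTopology C) (K : GrothendieckTopology C') [J.Subcanonical] [K.Subcanonical]
    (u : C ⥤ C') [u.IsContinuous J K] [u.IsCocontinuous J K]
    (h : (u.sheafPullback (Type u) J K).Full ∧ (u.sheafPullback (Type u) J K).Faithful) :
    u.Full ∧ u.Faithful := by
  obtain ⟨hfull, hfaith⟩ := h
  have hiso : ∀ X, IsIso (α J K u X) := isIso_α J K u
  constructor
  · refine ⟨fun {X Y} g => ?_⟩
    let ψ : (u.sheafPullback (Type u) J K).obj (J.yoneda.obj X) ⟶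
        (u.sheafPullback (Type u) J K).obj (J.yoneda.obj Y) :=
      α J K u X ≫ K.yoneda.map g ≫ inv (α J K u Y)
    obtain ⟨θ, hθ⟩ := (u.sheafPullback (Type u) J K).map_surjective ψ
    obtain ⟨f, hf⟩ := J.yoneda.map_surjective θ
    refine ⟨f, ?_⟩
    apply K.yoneda.map_injective
    have h1 := α_naturality J K u f
    rw [hf, hθ] at h1
    simp only [ψ, Category.assoc, IsIso.inv_hom_id, Category.comp_id] at h1
    exact ((cancel_epi (α J K u X)).mp h1).symm
  · refine ⟨fun {X Y} f g hfg => ?_⟩
    apply J.yoneda.map_injective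
    apply (u.sheafPullback (Type u) J K).map_injective
    rw [← cancel_mono (α J K u Y), α_naturality, α_naturality, hfg]

end Groth.Agent.S6142
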