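import Groth.Statements.S6143
import Groth.Agent.S12108
import Groth.Agent.Lib.Helper28.ShVanKampen
import Mathlib

set_option autoImplicit false
open CategoryTheory CategoryTheory.Limits
universe u
open SGA4

set_option linter.unusedSectionVars false

namespace Groth.Agent.S6143.Aux

open Opposite


variable {C : Type u} [SmallCategory C]

local notation "Jc" => Sheaf.canonicalTopology C

/-- objects covered by the empty sieve (canonical topology) have unique maps to everything -/
lemma unique_hom_of_bot_mem {T : C} (hT : (⊥ : Sieve T) ∈ Jc T) (W : C) :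
    Nonempty (Unique (T ⟶ W)) :=
  Groth.Agent.S12108.Aux.unique_of_bot_mem Jc (Sheaf.isSheaf_yoneda_obj W) hT

/-- strict-initial-like objects are covered by the empty sieve -/
lemma bot_mem_of_unique {T : C} (h : ∀ (V : C) (_ : V ⟶ T) (W : C), Nonempty (Unique (V ⟶ W))) :
    (⊥ : Sieve T) ∈ Jc T := by
  apply Sheaf.mem_finestTopology_of_forall_isSheafFor
  rintro _ ⟨W, rfl⟩ V g
  obtain ⟨hu⟩ := h V g W
  intro x hx
  refine ⟨(hu.default : V ⟶ W), ?_, fun t _ => hu.uniq t⟩
  intro V' k hk
  exact False.elim hk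

lemma mono_of_isLocallyInjective {Y X : C} (f : Y ⟶ X)
    (h : Presheaf.IsLocallyInjective Jc (yoneda.map f)) : Mono f := by
  constructor
  intro T a b hab
  have hmem := Presheaf.equalizerSieve_mem Jc (yoneda.map f) (X := op T) a b hab
  apply ((Sheaf.isSheaf_yoneda_obj Y).isSeparated _ hmem).ext
  intro V k hk
  exact hk

lemma isLocallyInjective_of_mono {Y X : C} (f : Y ⟶ X) [Mono f] :
    Presheaf.IsLocallyInjective Jc (yoneda.map f) := by
  apply Presheaf.isLocallyInjective_of_injective
  intro T a b hab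
  exact (cancel_mono f).mp hab

/-- a covering family of monomorphisms with "empty" pairwise intersections is a coproduct -/
noncomputable def isColimit_of_cover {X : C} {ι : Type u} (Y : ι → C) (s : ∀ i, Y i ⟶ X)
    (hA : Sieve.ofArrows Y s ∈ Jc X) (hB : ∀ i, Mono (s i))
    (hC : ∀ i j, i ≠ j → ∀ (T : C) (f : T ⟶ Y i) (g : T ⟶ Y j), f ≫ s i = g ≫ s j →
        (⊥ : Sieve T) ∈ Jc T) : IsColimit (Cofan.mk X s) := by
  have key : ∀ (W : C) (x : ∀ i, Y i ⟶ W), ∃! t : X ⟶ W, ∀ i, s i ≫ t = x i := by
    intro W x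
    have hsh := (Sheaf.isSheaf_yoneda_obj W) _ hA
    rw [Sieve.ofArrows, ← Presieve.isSheafFor_iff_generate, Presieve.isSheafFor_arrows_iff] at hsh
    apply hsh x
    intro i j Z gi gj hg
    change gi ≫ x i = gj ≫ x j
    by_cases hij : i = j
    · subst hij
      have := hB i
      rw [(cancel_mono (s i)).mp hg]
    · obtain ⟨hu⟩ := unique_hom_of_bot_mem (hC i j hij Z gi gj hg) W
      exact (hu.uniq _).trans (hu.uniq _).symm
  choose t ht htu using key
  exact Cofan.IsColimit.mk _ (fun c => t c.pt c.inj) (fun c i => ht c.pt c.inj i)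
    (fun c m hm => htu c.pt c.inj m hm)



/-- the three conditions are stable under base change, hence the coproduct is universal -/
lemma isUniversalColimit_of_cover {X : C} {ι : Type u} (Y : ι → C) (s : ∀ i, Y i ⟶ X)
    (hA : Sieve.ofArrows Y s ∈ Jc X) (hB : ∀ i, Mono (s i))
    (hC : ∀ i j, i ≠ j → ∀ (T : C) (f : T ⟶ Y i) (g : T ⟶ Y j), f ≫ s i = g ≫ s j →
        (⊥ : Sieve T) ∈ Jc T) : IsUniversalColimit (Cofan.mk X s) := by
  intro F' c' α f hα _ hpb
  refine ⟨Groth.Agent.Lib.Helper28.isColimitOfCoconeToCofan c' ?_⟩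
  have hpb' : ∀ i : ι, IsPullback (c'.ι.app ⟨i⟩) (α.app ⟨i⟩) f (s i) := fun i => hpb ⟨i⟩
  apply isColimit_of_cover
  · refine (Jc).superset_covering ?_ ((Jc).pullback_stable f hA)
    intro V k hk
    rw [Sieve.pullback_apply, Sieve.mem_ofArrows_iff] at hk
    obtain ⟨i, a, ha⟩ := hk
    rw [Sieve.mem_ofArrows_iff]
    exact ⟨i, (hpb' i).lift k a ha, ((hpb' i).lift_fst k a ha).symm⟩
  · intro i
    have := hB i
    exact (hpb' i).mono_fst_of_mono
  · intro i j hij T a b hab
    apply hC i j hij T (a ≫ α.app ⟨i⟩) (b ≫ α.app ⟨j⟩)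
    rw [Category.assoc, Category.assoc, ← (hpb' i).w, ← (hpb' j).w, ← Category.assoc,
      ← Category.assoc]
    exact congr_arg (· ≫ f) hab



section converse

variable {X : C} {ι : Type u} (Y : ι → C) (s : ∀ i, Y i ⟶ X)
  [∀ (i : ι) (Z : C) (g : Z ⟶ X), HasPullback (s i) g]

/-- base change of a universal coproduct along `g` -/
noncomputable def isColimit_pullback (hu : IsUniversalColimit (Cofan.mk X s)) {Z : C} (g : Z ⟶ X) :
    IsColimit (Cofan.mk Z (fun i => pullback.snd (s i) g)) := by
  refine (hu (Cofan.mk Z (fun i => pullback.snd (s i) g))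
    (Discrete.natTrans (fun i => pullback.fst (s i.as) g)) g ?_ (NatTrans.Equifibered.of_discrete _)
    ?_).some
  · ext ⟨i⟩
    exact pullback.condition
  · rintro ⟨i⟩
    exact (IsPullback.of_hasPullback (s i) g).flip

lemma hA_of_universal (hu : IsUniversalColimit (Cofan.mk X s)) :
    Sieve.ofArrows Y s ∈ Jc X := by
  apply Sheaf.mem_finestTopology_of_forall_isSheafFor
  rintro _ ⟨W, rfl⟩ Z g
  rw [Sieve.ofArrows, ← Sieve.pullbackArrows_comm, ← Presieve.ofArrows_pullback,
    ← Presieve.isSheafFor_iff_generate, Presieve.isSheafFor_arrows_iff]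
  intro x _
  have hc := isColimit_pullback Y s hu g
  refine ⟨Cofan.IsColimit.desc hc x, fun i => Cofan.IsColimit.fac hc x i, fun t ht => ?_⟩
  apply Cofan.IsColimit.hom_ext hc
  intro i
  rw [Cofan.IsColimit.fac hc x i]
  exact ht i

lemma hC_of_disjoint_universal (hc : IsColimit (Cofan.mk X s)) (hd : CoproductDisjoint Y)
    (hu : IsUniversalColimit (Cofan.mk X s)) (i j : ι) (hij : i ≠ j) (T : C)
    (f : T ⟶ Y i) (g : T ⟶ Y j) (hfg : f ≫ s i = g ≫ s j) : (⊥ : Sieve T) ∈ Jc T := by
  classical
  obtain ⟨hI⟩ := hd.nonempty_isInitial_of_ne hc hij (pullback.cone (s i) (s j))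
    (pullback.isLimit (s i) (s j))
  apply bot_mem_of_unique
  intro V k W
  -- replace `T` by `V`
  let f' : V ⟶ Y i := k ≫ f
  let g' : V ⟶ Y j := k ≫ g
  have hfg' : f' ≫ s i = g' ≫ s j := by
    simp only [f', g', Category.assoc, hfg]
  let h : V ⟶ X := f' ≫ s i
  have hcV := isColimit_pullback Y s hu h
  have hsi : IsSplitEpi (pullback.snd (s i) h) :=
    ⟨⟨pullback.lift f' (𝟙 V) (Category.id_comp _).symm, pullback.lift_snd _ _ _⟩⟩
  have hsj : IsSplitEpi (pullback.snd (s j) h) :=
    ⟨⟨pullback.lift g' (𝟙 V) (hfg'.symm.trans (Category.id_comp _).symm), pullback.lift_snd _ _ _⟩⟩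
  let x₀ : V ⟶ W := pullback.lift f' g' hfg' ≫ hI.to W
  refine ⟨⟨⟨x₀⟩, fun x => ?_⟩⟩
  have huniq : ∀ x x' : V ⟶ W, x = x' := by
    intro x x'
    let z : V ⟶ W := Cofan.IsColimit.desc hcV
      (fun l => if l = j then pullback.snd (s l) h ≫ x' else pullback.snd (s l) h ≫ x)
    have hz : ∀ l, pullback.snd (s l) h ≫ z =
        if l = j then pullback.snd (s l) h ≫ x' else pullback.snd (s l) h ≫ x :=
      fun l => Cofan.IsColimit.fac hcV _ l
    have h1 : z = x := by
      rw [← cancel_epi (pullback.snd (s i) h), hz i, if_neg hij]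
    have h2 : z = x' := by
      rw [← cancel_epi (pullback.snd (s j) h), hz j, if_pos rfl]
    exact h1.symm.trans h2
  exact huniq _ _

end converse

end Groth.Agent.S6143.Aux


namespace Groth.Agent.S6143

/-- Let `C` be a small category, `X` an object and `s i : Y i ⟶ X` a family of morphisms all of whose
base changes exist. Then the associated sheaf of `h_X` for the canonical topology, with the maps
induced by the `s i`, is a coproduct of the associated sheaves of the `h_{Y i}` (in sheaves of sets
for the canonical topology) if and only if `X` is a disjoint universal coproduct of the `Y i` in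
`C`: the cofan `(X, s)` is a colimit, the injections of a coproduct of the family are monomorphisms
with pairwise pullbacks initial, and the colimit is stable under base change. (The source asks for
the coproduct decomposition after sheafification for some topology coarser than the canonical one;
this is equivalent to asking it for the canonical topology itself.) -/
theorem result
    {C : Type u} [SmallCategory C] {X : C} {ι : Type u} (Y : ι → C) (s : ∀ i, Y i ⟶ X)
    [∀ (i : ι) (Z : C) (g : Z ⟶ X), HasPullback (s i) g] :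
    Nonempty (IsColimit (Cofan.mk
        ((presheafToSheaf (Sheaf.canonicalTopology C) (Type u)).obj (yoneda.obj X))
        (fun i => (presheafToSheaf (Sheaf.canonicalTopology C) (Type u)).map (yoneda.map (s i))))) ↔
      (Nonempty (IsColimit (Cofan.mk X s)) ∧ CoproductDisjoint Y ∧
        IsUniversalColimit (Cofan.mk X s)) := by
  rw [Groth.Agent.S12108.Aux.isColimit_iff_W, GrothendieckTopology.W_iff_isLocallyBijective,
    Groth.Agent.S12108.Aux.isLocallySurjective_iff,
    Groth.Agent.S12108.Aux.isLocallyInjective_sigmaRepDesc_iff]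
  constructor
  · rintro ⟨⟨hB, hC⟩, hA⟩
    have hB' : ∀ i, Mono (s i) := fun i => Aux.mono_of_isLocallyInjective (s i) (hB i)
    have hc := Aux.isColimit_of_cover Y s hA hB' hC
    refine ⟨⟨hc⟩, ?_, Aux.isUniversalColimit_of_cover Y s hA hB' hC⟩
    have hI : ∀ {i j : ι} (hij : i ≠ j), IsInitial (pullback (s i) (s j)) := by
      intro i j hij
      have hbot := hC i j hij _ (pullback.fst (s i) (s j)) (pullback.snd (s i) (s j))
        pullback.condition
      have hu : ∀ W, Nonempty (Unique (pullback (s i) (s j) ⟶ W)) :=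
        fun W => Aux.unique_hom_of_bot_mem hbot W
      exact IsInitial.ofUniqueHom (fun W => (hu W).some.default)
        (fun W m => (hu W).some.uniq m)
    have : ∀ i, Mono ((Cofan.mk X s).inj i) := hB'
    exact CoproductDisjoint.of_cofan hc
      (fun {i j} _ => pullback.cone (s i) (s j))
      (fun {i j} _ => pullback.isLimit (s i) (s j))
      (fun {i j} hij => hI hij)
  · rintro ⟨⟨hc⟩, hd, hu⟩
    refine ⟨⟨fun i => ?_, Aux.hC_of_disjoint_universal Y s hc hd hu⟩, Aux.hA_of_universal Y s hu⟩
    have : Mono (s i) := hd.mono_inj hc i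
    exact Aux.isLocallyInjective_of_mono (s i)

end Groth.Agent.S6143
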