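import Groth.Statements.S6144
import Mathlib.CategoryTheory.Subobject.Lattice
import Mathlib.CategoryTheory.Subobject.FactorThru
import Mathlib.CategoryTheory.Generator.Basic
import Mathlib.CategoryTheory.Limits.Shapes.Diagonal
import Mathlib.Logic.Small.Set

set_option autoImplicit false
open CategoryTheory CategoryTheory.Limits
universe w v u
open SGA4

namespace Groth.Agent.S6144

section helpers

variable {E : Type u} [Category.{v} E] [HasPullbacks E] {κ : Type v} (G : κ → E)

omit [HasPullbacks E] in
/-- A mono through which every map from a member of a detecting family factors is an iso. -/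
theorem isIso_of_mono_of_factors (hG : (ObjectProperty.ofObj G).IsDetecting) {A B : E} (m : A ⟶ B)
    [Mono m] (h : ∀ (k : κ) (g : G k ⟶ B), ∃ g' : G k ⟶ A, g' ≫ m = g) : IsIso m := by
  apply hG
  rintro _ ⟨k⟩ g
  obtain ⟨g', hg'⟩ := h k g
  exact ⟨g', hg', fun y hy => (cancel_mono m).mp (hy.trans hg'.symm)⟩

/-- the factoring sets of a subobject -/
def facSet {X : E} (S : Subobject X) : ∀ k : κ, Set (G k ⟶ X) := fun _ => {g | S.Factors g}

theorem le_of_factors (hG : (ObjectProperty.ofObj G).IsDetecting) {X : E} (S S' : Subobject X)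
    (h : ∀ (k : κ) (g : G k ⟶ X), S.Factors g → S'.Factors g) : S ≤ S' := by
  have hiso : IsIso ((S ⊓ S').ofLE S inf_le_left) := by
    apply isIso_of_mono_of_factors G hG
    intro k g
    have h1 : S.Factors (g ≫ S.arrow) := Subobject.factors_comp_arrow g
    have h2 : S'.Factors (g ≫ S.arrow) := h k _ h1
    have h3 : (S ⊓ S').Factors (g ≫ S.arrow) := (Subobject.inf_factors _).mpr ⟨h1, h2⟩
    refine ⟨(S ⊓ S').factorThru _ h3, ?_⟩
    apply (cancel_mono S.arrow).mp
    rw [Category.assoc, Subobject.ofLE_arrow, Subobject.factorThru_arrow]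
  have h4 : S ≤ S ⊓ S' := by
    refine Subobject.le_of_comm (inv ((S ⊓ S').ofLE S inf_le_left)) ?_
    rw [IsIso.inv_comp_eq, Subobject.ofLE_arrow]
  exact h4.trans inf_le_right

theorem facSet_injective (hG : (ObjectProperty.ofObj G).IsDetecting) (X : E) :
    Function.Injective (facSet G (X := X)) := by
  intro S S' h
  have h' : ∀ (k : κ) (g : G k ⟶ X), S.Factors g ↔ S'.Factors g := by
    intro k g
    have := congrFun h k
    exact Set.ext_iff.mp this g
  exact le_antisymm (le_of_factors G hG S S' fun k g => (h' k g).mp)
    (le_of_factors G hG S' S fun k g => (h' k g).mpr)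

theorem small_subobject (hG : (ObjectProperty.ofObj G).IsDetecting) (X : E) :
    Small.{v} (Subobject X) :=
  small_of_injective (facSet_injective G hG X)

variable {I : Type w} (Y : I → E)

omit [HasPullbacks E] in
/-- For a proper subobject of `G k` there is a map from some `Y i` not factoring through it. -/
theorem exists_not_factors (hY : (ObjectProperty.ofObj Y).IsDetecting) {X : E} (S : Subobject X)
    (hS : S ≠ ⊤) : ∃ (i : I) (y : Y i ⟶ X), ¬ S.Factors y := by
  by_contra hcon
  push Not at hcon
  apply hS
  rw [← Subobject.isIso_arrow_iff_eq_top]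
  apply hY
  rintro _ ⟨i⟩ y
  refine ⟨S.factorThru y (hcon i y), Subobject.factorThru_arrow _ _ _, fun z hz => ?_⟩
  apply (cancel_mono S.arrow).mp
  rw [hz, Subobject.factorThru_arrow]

theorem main (hG : (ObjectProperty.ofObj G).IsDetecting)
    (hY : (ObjectProperty.ofObj Y).IsDetecting) :
    ∃ J : Set I, Small.{v} J ∧ (ObjectProperty.ofObj (fun j : J => Y j)).IsDetecting := by
  classical
  -- index type
  let T := Σ k : κ, {S : Subobject (G k) // S ≠ ⊤}
  have : ∀ k, Small.{v} (Subobject (G k)) := fun k => small_subobject G hG (G k)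
  have : Small.{v} T := small_sigma _
  have hch : ∀ t : T, ∃ (i : I) (y : Y i ⟶ G t.1), ¬ t.2.1.Factors y :=
    fun t => exists_not_factors Y hY t.2.1 t.2.2
  choose ι y hy using hch
  refine ⟨Set.range ι, small_range ι, ?_⟩
  -- mono case
  have mono_case : ∀ {A B : E} (m : A ⟶ B) [Mono m],
      (∀ (t : T) (h : Y (ι t) ⟶ B), ∃ h' : Y (ι t) ⟶ A, h' ≫ m = h) → IsIso m := by
    intro A B m _ hm
    apply isIso_of_mono_of_factors G hG
    intro k b
    have htop : Subobject.mk (pullback.fst b m) = ⊤ := by
      by_contra hne
      let t : T := ⟨k, Subobject.mk (pullback.fst b m), hne⟩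
      obtain ⟨a, ha⟩ := hm t (y t ≫ b)
      apply hy t
      change (Subobject.mk (pullback.fst b m)).Factors (y t)
      rw [Subobject.mk_factors_iff]
      exact ⟨pullback.lift (y t) a ha.symm, pullback.lift_fst _ _ _⟩
    have hiso : IsIso (pullback.fst b m) := (Subobject.isIso_iff_mk_eq_top _).mpr htop
    refine ⟨inv (pullback.fst b m) ≫ pullback.snd b m, ?_⟩
    rw [Category.assoc, ← pullback.condition, IsIso.inv_hom_id_assoc]
  intro A B f hf
  have hf' : ∀ (t : T) (h : Y (ι t) ⟶ B), ∃! h' : Y (ι t) ⟶ A, h' ≫ f = h := by
    intro t h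
    exact hf _ (ObjectProperty.ofObj.mk (⟨ι t, Set.mem_range_self t⟩ : Set.range ι)) h
  -- the diagonal is an iso
  have hδ : IsIso (pullback.diagonal f) := by
    apply mono_case
    intro t h
    have h12 : h ≫ pullback.fst f f = h ≫ pullback.snd f f := by
      obtain ⟨_, _, huniq⟩ := hf' t (h ≫ pullback.fst f f ≫ f)
      rw [huniq (h ≫ pullback.fst f f) (Category.assoc _ _ _),
        huniq (h ≫ pullback.snd f f) ((Category.assoc _ _ _).trans (by rw [pullback.condition]))]
    refine ⟨h ≫ pullback.fst f f, ?_⟩
    apply pullback.hom_ext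
    · rw [Category.assoc, pullback.diagonal_fst, Category.comp_id]
    · rw [Category.assoc, pullback.diagonal_snd, Category.comp_id, h12]
  have hmono : Mono f := by
    constructor
    intro Z a a' haa
    have e0 : (pullback.lift a a' haa ≫ inv (pullback.diagonal f)) ≫ pullback.diagonal f =
        pullback.lift a a' haa := by
      rw [Category.assoc, IsIso.inv_hom_id, Category.comp_id]
    have e1 : a = (pullback.lift a a' haa ≫ inv (pullback.diagonal f)) := by
      have := congrArg (fun z => z ≫ pullback.fst f f) e0
      simp only [Category.assoc, pullback.diagonal_fst, Category.comp_id, pullback.lift_fst] at this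
      exact this.symm
    have e2 : a' = (pullback.lift a a' haa ≫ inv (pullback.diagonal f)) := by
      have := congrArg (fun z => z ≫ pullback.snd f f) e0
      simp only [Category.assoc, pullback.diagonal_snd, Category.comp_id, pullback.lift_snd] at this
      exact this.symm
    rw [e1]
    exact e2.symm
  exact mono_case f fun t h => (hf' t h).exists

end helpers

end Groth.Agent.S6144

namespace Groth.Agent.S6144

/-- Let `E` be a category with `v`-small hom-sets and pullbacks, admitting a detecting family of objects
indexed by a `v`-small type (maps out of the family jointly reflect isomorphisms). Then every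
detecting family `Y : I → E`, indexed by an arbitrary type, contains a detecting subfamily indexed
by a `v`-small subset of `I`. -/
theorem result
    {E : Type u} [Category.{v} E] [HasPullbacks E] {κ : Type v} (G : κ → E)
    (hG : (ObjectProperty.ofObj G).IsDetecting) {I : Type w} (Y : I → E)
    (hY : (ObjectProperty.ofObj Y).IsDetecting) :
    ∃ J : Set I, Small.{v} J ∧ (ObjectProperty.ofObj (fun j : J => Y j)).IsDetecting := by
  exact Groth.Agent.S6144.main G Y hG hY

end Groth.Agent.S6144
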