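import Groth.Statements.S6151
import Mathlib
import Groth.Agent.Lib.Helper30.CechFree
import Groth.Agent.Lib.Helper30.AcyclicRes
import Groth.Agent.Lib.Helper30.HomCx

set_option autoImplicit false
universe u
open CategoryTheory
open CohSite

namespace Groth.Agent.S6151

open CategoryTheory.Limits in
/-- Abelian sheaves on the topos of sheaves of sets on a small site: if F is flasque (totally acyclic:
H^q(K, F) = 0 for all sheaves of sets K and q > 0), then for every epimorphism of sheaves of sets K'
-> K the Cech cohomology groups H^q(K'/K, F), computed from the complex H^0(K', F) -> H^0(K' x_K K',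
F) -> ..., vanish for all q > 0. (An epimorphic family (X_i -> X) is replaced here by the single
epimorphism from its coproduct, which has the same Cech complex.) -/
theorem result {C : Type u} [SmallCategory C] {J : GrothendieckTopology C}
    (F : Sheaf J AddCommGrpCat.{u}) (hF : CohCx.IsTotallyAcyclic F) {K' K : Sheaf J (Type u)} (f : K' ⟶ K) [Epi f]
    (q : ℕ) : IsZero ((CohCx.cechNerveCx F f).homology (q + 1)) := by
  rw [← HomologicalComplex.exactAt_iff_isZero_homology]
  rw [HomologicalComplex.exactAt_iff' _ q (q + 1) (q + 2) (by simp) (by simp)]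
  rw [ShortComplex.ab_exact_iff]
  intro x hx
  let T := Sheaf.composeAndSheafify J AddCommGrpCat.free.{u}
  let W := ((SimplicialObject.Augmented.whiskering _ _).obj T).obj (Arrow.mk f).augmentedCechNerve
  let X : SimplicialObject (Sheaf J AddCommGrpCat.{u}) := (Arrow.mk f).cechNerve ⋙ T
  let P := AlgebraicTopology.AlternatingFaceMapComplex.obj X
  let ε : P ⟶ (ChainComplex.single₀ _).obj (T.obj K) :=
    AlgebraicTopology.AlternatingFaceMapComplex.ε.app W
  have hε : QuasiIso ε := Groth.Agent.Lib.Helper30.CechFree.main J f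
  have hP : ∀ n, Groth.Agent.Lib.Helper30.AcyclicRes.Acyc F (P.X n) := fun n p =>
    hF (((Arrow.mk f).cechNerve).obj (Opposite.op (SimplexCategory.mk n))) p
  have hM : Groth.Agent.Lib.Helper30.AcyclicRes.Acyc F (T.obj K) := fun p => hF K p
  let x' : P.X (q + 1) ⟶ F := x
  have hx' : P.d (q + 2) (q + 1) ≫ x' = 0 :=
    (Groth.Agent.Lib.Helper30.HomCx.d_apply X F (q + 1) x').symm.trans hx
  obtain ⟨χ, hχ⟩ := Groth.Agent.Lib.Helper30.AcyclicRes.exists_lift ε F hP hM q x' hx'
  exact ⟨χ, (Groth.Agent.Lib.Helper30.HomCx.d_apply X F q χ).trans hχ⟩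

end Groth.Agent.S6151
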