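import Groth.Statements.S6153
import Mathlib
import Groth.Agent.Lib.Helper30.ModSiteFree

set_option autoImplicit false
universe u
open CategoryTheory
open ModSite

namespace Groth.Agent.S6153
open Groth.Agent.Lib.Helper30.ModSiteFree

/-- Morphisms of ringed sites between small sites with commutative structure sheaves: for a morphism of
ringed sites f : (C, O_C) -> (D, O_D) given by a functor u : D -> C and every object X of D, the
inverse image f^*(A'_X) of the free O_D-module on X is isomorphic to the free O_C-module A_{u(X)} on
u(X). Existence of an isomorphism of modules only (the source's isomorphism is the canonical one). -/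
theorem result {C D : Type u} [SmallCategory C] [SmallCategory D] {J : GrothendieckTopology C}
    {K : GrothendieckTopology D} {O_C : Sheaf J CommRingCat.{u}} {O_D : Sheaf K CommRingCat.{u}}
    (f : ModSite.RMor O_C O_D) (X : D) :
    Nonempty (f.pull.obj (ModSite.freeOn O_D X) ≅ ModSite.freeOn O_C (f.fn.obj X)) := by
  let e₁ := freeOnCorepresentableBy O_C (f.fn.obj X)
  let e₂ : (secFunctor O_C (f.fn.obj X)).CorepresentableBy (f.pull.obj (ModSite.freeOn O_D X)) :=
    { homEquiv := fun {F} => (f.adj.homEquiv _ F).trans (freeOnHomEquiv O_D X (f.push.obj F))
      homEquiv_comp := fun {F F'} g h => by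
        have h1 := Adjunction.homEquiv_naturality_right f.adj h g
        have h2 := freeOnHomEquiv_comp O_D X (f.adj.homEquiv _ F h) (f.push.map g)
        exact (congrArg (freeOnHomEquiv O_D X (f.push.obj F')) h1).trans h2 }
  exact ⟨e₂.uniqueUpToIso e₁⟩

end Groth.Agent.S6153
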