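import Groth.Statements.S6160
import Groth.Agent.H46.ToSheafColim

set_option autoImplicit false
universe u
open CategoryTheory
open ModSite

namespace Groth.Agent.S6160

open CategoryTheory.Limits in
/-- Ringed topos of sheaves on a small site; u : A -> B a morphism of sheaves of rings: the
restriction-of-scalars functor from B-Modules to A-Modules commutes with all u-small limits and
colimits and is conservative. -/
theorem result {C : Type u} [SmallCategory C]
    {J : GrothendieckTopology C} {A B : Sheaf J RingCat.{u}} (φ : A ⟶ B) :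
    PreservesLimitsOfSize.{u, u} (SheafOfModules.restrictScalars.{u} φ) ∧
    PreservesColimitsOfSize.{u, u} (SheafOfModules.restrictScalars.{u} φ) ∧
    (SheafOfModules.restrictScalars.{u} φ).ReflectsIsomorphisms := by
  let F := SheafOfModules.restrictScalars.{u} φ
  let e : F ⋙ SheafOfModules.toSheaf.{u} A ≅ SheafOfModules.toSheaf.{u} B :=
    NatIso.ofComponents (fun M => Iso.refl _)
  -- `toSheaf` preserves limits
  have hlim : ∀ (R : Sheaf J RingCat.{u}), PreservesLimitsOfSize.{u, u} (SheafOfModules.toSheaf.{u} R) := by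
    intro R
    have h1 : PreservesLimitsOfSize.{u, u} (SheafOfModules.toSheaf.{u} R ⋙ sheafToPresheaf J AddCommGrpCat.{u}) :=
      inferInstanceAs (PreservesLimitsOfSize.{u, u}
        (SheafOfModules.forget.{u} R ⋙ PresheafOfModules.toPresheaf R.obj))
    exact preservesLimits_of_reflects_of_preserves _ (sheafToPresheaf J AddCommGrpCat.{u})
  have hcolim : ∀ (R : Sheaf J RingCat.{u}), PreservesColimitsOfSize.{u, u} (SheafOfModules.toSheaf.{u} R) :=
    fun R => ⟨fun {K} _ => Groth.Agent.H46.toSheaf_preservesColimitsOfShape R K⟩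
  have hA1 := hlim A
  have hB1 := hlim B
  have hA2 := hcolim A
  have hB2 := hcolim B
  have hrl : ReflectsLimitsOfSize.{u, u} (SheafOfModules.toSheaf.{u} A) :=
    ⟨fun {K} _ => reflectsLimitsOfShape_of_reflectsIsomorphisms⟩
  have hrc : ReflectsColimitsOfSize.{u, u} (SheafOfModules.toSheaf.{u} A) :=
    ⟨fun {K} _ => reflectsColimitsOfShape_of_reflectsIsomorphisms⟩
  have h1 : PreservesLimitsOfSize.{u, u} (F ⋙ SheafOfModules.toSheaf.{u} A) :=
    preservesLimits_of_natIso e.symm
  have h2 : PreservesColimitsOfSize.{u, u} (F ⋙ SheafOfModules.toSheaf.{u} A) :=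
    preservesColimits_of_natIso e.symm
  refine ⟨preservesLimits_of_reflects_of_preserves F (SheafOfModules.toSheaf.{u} A),
    preservesColimits_of_reflects_of_preserves F (SheafOfModules.toSheaf.{u} A), ?_⟩
  have : (F ⋙ SheafOfModules.toSheaf.{u} A).ReflectsIsomorphisms :=
    reflectsIsomorphisms_of_iso e.symm
  exact reflectsIsomorphisms_of_comp F (SheafOfModules.toSheaf.{u} A)

end Groth.Agent.S6160
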