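import Groth.Statements.S6162
import Groth.Agent.Lib.Helper83.SheafCommGrp
import Groth.Agent.Lib.Helper33.GrothSS
import Groth.Agent.Lib.Lead.AbutmentTransport
import Groth.Agent.Lib.Helper5.SiteCoh
import Groth.Agent.Lib.Helper5.RDerExact
-- import your own Groth.Agent.* helpers here

set_option autoImplicit false
universe u
open CategoryTheory
open CohSite

namespace Groth.Agent.S6162
open CategoryTheory.Limits in
/-- Isomorphic additive functors have isomorphic right derived functors. -/
noncomputable def rightDerivedNatIso' {A B : Type*} [Category A] [Category B] [Abelian A] [Abelian B]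
    [HasInjectiveResolutions A] {F G : A ⥤ B} [F.Additive] [G.Additive] (α : F ≅ G) (n : ℕ) :
    F.rightDerived n ≅ G.rightDerived n where
  hom := NatTrans.rightDerived α.hom n
  inv := NatTrans.rightDerived α.inv n
  hom_inv_id := by rw [← NatTrans.rightDerived_comp, α.hom_inv_id, NatTrans.rightDerived_id]
  inv_hom_id := by rw [← NatTrans.rightDerived_comp, α.inv_hom_id, NatTrans.rightDerived_id]

/-- sections over `V` of abelian sheaves -/
noncomputable abbrev secFun {C : Type u} [SmallCategory C] (J : GrothendieckTopology C) (V : C) :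
    Sheaf J AddCommGrpCat.{u} ⥤ AddCommGrpCat.{u} :=
  sheafToPresheaf J AddCommGrpCat.{u} ⋙ (evaluation Cᵒᵖ AddCommGrpCat.{u}).obj (Opposite.op V)

instance evalPreservesHomology {C : Type u} [SmallCategory C] (V : C) :
    ((evaluation Cᵒᵖ AddCommGrpCat.{u}).obj (Opposite.op V)).PreservesHomology :=
  Groth.Agent.Lib.Helper5.preservesHomology_of_exact _

/-- `R^n Γ(V, -) (G) ≅ H^n(V, G)`. -/
theorem nonempty_rightDerived_secFun_iso {C : Type u} [SmallCategory C]
    (J : GrothendieckTopology C) (V : C) (G : Sheaf J AddCommGrpCat.{u}) (n : ℕ) :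
    Nonempty (((secFun J V).rightDerived n).obj G ≅ AddCommGrpCat.of (CohSite.HU G n V)) := by
  obtain ⟨e⟩ := Groth.Agent.Lib.Helper5.SiteCoh.rightDerived_sheafToPresheaf_iso (J := J) n G
  exact ⟨Groth.Agent.Lib.Helper5.rightDerivedCompExactIso (sheafToPresheaf J AddCommGrpCat.{u})
    ((evaluation Cᵒᵖ AddCommGrpCat.{u}).obj (Opposite.op V)) G n ≪≫
    ((evaluation Cᵒᵖ AddCommGrpCat.{u}).obj (Opposite.op V)).mapIso e⟩

open CategoryTheory.Limits in
/-- The pushforward of abelian sheaves along a continuous functor whose pullback on sheaves of sets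
is exact preserves injective objects. -/
theorem injective_push {C D : Type u} [SmallCategory C] [SmallCategory D]
    (J : GrothendieckTopology C) (K : GrothendieckTopology D) (u : D ⥤ C) [u.IsContinuous K J]
    [PreservesFiniteLimits (u.sheafPullback (Type u) K J)] (Q : Sheaf J AddCommGrpCat.{u})
    [Injective Q] : Injective ((CohSite.push J K u).obj Q) := by
  have := Groth.Agent.Lib.Helper83.SheafCommGrp.preservesMonomorphisms_sheafPullback K u (J := J)
  exact Injective.injective_of_adjoint (u.sheafAdjunctionContinuous AddCommGrpCat.{u} K J) Q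

open scoped ZeroObject in
/-- Replace the zero object by `PUnit` in the conclusion of the Grothendieck spectral sequence. -/
theorem punit_of_zero (H : ℕ → AddCommGrpCat.{u}) (E₂ : ℕ → ℕ → AddCommGrpCat.{u})
    (hG : ∃ (E : E₂CohomologicalSpectralSequence AddCommGrpCat.{u})
      (a : SpSeq.Abutment E (fun n : ℤ => if 0 ≤ n then H n.toNat else 0)),
      (∀ n, a.IsFinite n) ∧ SpSeq.IsBounded E ∧
      ∀ p q : ℤ, Nonempty ((E.page 2 le_rfl).X (p, q) ≅
        (if 0 ≤ p ∧ 0 ≤ q then E₂ p.toNat q.toNat else 0))) :
    ∃ (E : E₂CohomologicalSpectralSequence AddCommGrpCat.{u})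
      (a : SpSeq.Abutment E (fun n : ℤ =>
        if 0 ≤ n then H n.toNat else AddCommGrpCat.of PUnit.{u + 1})),
      (∀ n, a.IsFinite n) ∧ SpSeq.IsBounded E ∧
      ∀ p q : ℤ, Nonempty ((E.page 2 le_rfl).X (p, q) ≅
        (if 0 ≤ p ∧ 0 ≤ q then E₂ p.toNat q.toNat else AddCommGrpCat.of PUnit.{u + 1})) := by
  obtain ⟨E, a, hfin, hbd, hE2⟩ := hG
  have hz : Limits.IsZero (AddCommGrpCat.of PUnit.{u + 1}) := by
    refine (Limits.IsZero.iff_id_eq_zero _).2 ?_
    ext x
  let z : (0 : AddCommGrpCat.{u}) ≅ AddCommGrpCat.of PUnit.{u + 1} := (Limits.isZero_zero _).iso hz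
  let φ : ∀ n : ℤ, (if 0 ≤ n then H n.toNat else 0) ≅
      (if 0 ≤ n then H n.toNat else AddCommGrpCat.of PUnit.{u + 1}) :=
    fun n => Groth.Agent.Lib.Lead.ifIso (0 ≤ n) (Iso.refl _) z
  refine ⟨E, Groth.Agent.Lib.Lead.abutmentTransport a φ,
    fun n => Groth.Agent.Lib.Lead.abutmentTransport_isFinite a φ n (hfin n), hbd, ?_⟩
  intro p q
  obtain ⟨e⟩ := hE2 p q
  exact ⟨e ≪≫ Groth.Agent.Lib.Lead.ifIso (0 ≤ p ∧ 0 ≤ q) (Iso.refl _) z⟩

open CategoryTheory.Limits in
/-- Existence form of the Leray spectral sequence; abelian sheaves on small sites: let u : D -> C be a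
continuous functor between small sites whose pullback on sheaves of sets is exact (a morphism of
topoi), u_* M = M o u the direct image and R^q u_* its right derived functors. For an abelian sheaf
M on C and an object V of D there is an E_2 spectral sequence of abelian groups, bounded, with
E_2^{p,q} isomorphic to H^p(V, R^q u_* M) for p, q >= 0 and zero otherwise, together with abutment
data whose filtrations are finite on H^n(u(V), M) (n >= 0; zero for n < 0). The E_2 identifications
and the abutment isomorphisms are asserted to exist only; they are not pinned to the canonical maps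
of the construction, so edge maps and low-degree exact sequences are not part of this statement. -/
theorem result {C D : Type u} [SmallCategory C] [SmallCategory D]
    (J : GrothendieckTopology C) (K : GrothendieckTopology D) (u : D ⥤ C) [u.IsContinuous K J]
    [PreservesFiniteLimits (u.sheafPullback (Type u) K J)] (M : Sheaf J AddCommGrpCat.{u}) (V : D) :
    ∃ (E : E₂CohomologicalSpectralSequence AddCommGrpCat.{u})
      (a : SpSeq.Abutment E (fun n : ℤ =>
        if 0 ≤ n then AddCommGrpCat.of (CohSite.HU M n.toNat (u.obj V)) else AddCommGrpCat.of PUnit.{u + 1})),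
      (∀ n, a.IsFinite n) ∧ SpSeq.IsBounded E ∧
      ∀ p q : ℤ, Nonempty ((E.page 2 le_rfl).X (p, q) ≅
        (if 0 ≤ p ∧ 0 ≤ q then AddCommGrpCat.of (CohSite.HU ((CohSite.Rpush J K u q.toNat).obj M) p.toNat V)
         else AddCommGrpCat.of PUnit.{u + 1})) := by

  have hT : ∀ Q : Sheaf J AddCommGrpCat.{u}, Injective Q → ∀ q : ℕ, 0 < q →
      IsZero (((secFun K V).rightDerived q).obj ((CohSite.push J K u).obj Q)) := by
    intro Q hQ q hq
    have := injective_push J K u Q
    obtain ⟨k, rfl⟩ : ∃ k, q = k + 1 := ⟨q - 1, by omega⟩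
    exact Functor.isZero_rightDerived_obj_injective_succ _ k _
  let α : CohSite.push J K u ⋙ secFun K V ≅ secFun J (u.obj V) := Iso.refl _
  exact punit_of_zero (fun n => AddCommGrpCat.of (CohSite.HU M n (u.obj V)))
    (fun p q => AddCommGrpCat.of (CohSite.HU ((CohSite.Rpush J K u q).obj M) p V))
    (Groth.Agent.Lib.Helper33.GrothSS.grothendieck_ss
      (CohSite.push J K u) (secFun K V) hT M
      (fun n => AddCommGrpCat.of (CohSite.HU M n (u.obj V)))
      (fun n => ⟨(rightDerivedNatIso' α n).app M ≪≫
        (nonempty_rightDerived_secFun_iso J (u.obj V) M n).some⟩)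
      (fun p q => AddCommGrpCat.of (CohSite.HU ((CohSite.Rpush J K u q).obj M) p V))
      (fun p q => nonempty_rightDerived_secFun_iso K V _ p))
end Groth.Agent.S6162
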