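import Groth.Statements.S6163
import Groth.Agent.Lib.Helper83.SheafCommGrp
import Groth.Agent.Lib.Helper33.GrothSS
-- import your own Groth.Agent.* helpers here

set_option autoImplicit false
universe u
open CategoryTheory
open scoped ZeroObject
open CohSite

namespace Groth.Agent.S6163
open CategoryTheory.Limits in
/-- Isomorphic additive functors have isomorphic right derived functors. -/
noncomputable def rightDerivedNatIso' {A B : Type*} [Category A] [Category B] [Abelian A] [Abelian B]
    [HasInjectiveResolutions A] {F G : A ⥤ B} [F.Additive] [G.Additive] (α : F ≅ G) (n : ℕ) :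
    F.rightDerived n ≅ G.rightDerived n where
  hom := NatTrans.rightDerived α.hom n
  inv := NatTrans.rightDerived α.inv n
  hom_inv_id := by rw [← NatTrans.rightDerived_comp, α.hom_inv_id, NatTrans.rightDerived_id]
  inv_hom_id := by rw [← NatTrans.rightDerived_comp, α.inv_hom_id, NatTrans.rightDerived_id]

open CategoryTheory.Limits in
/-- The pushforward of abelian sheaves along a continuous functor whose pullback on sheaves of sets
is exact preserves injective objects. -/
theorem injective_push {C D : Type u} [SmallCategory C] [SmallCategory D]
    (J : GrothendieckTopology C) (K : GrothendieckTopology D) (u : D ⥤ C) [u.IsContinuous K J]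
    [PreservesFiniteLimits (u.sheafPullback (Type u) K J)] (Q : Sheaf J AddCommGrpCat.{u})
    [Injective Q] : Injective ((CohSite.push J K u).obj Q) := by
  have := Groth.Agent.Lib.Helper83.SheafCommGrp.preservesMonomorphisms_sheafPullback K u (J := J)
  exact Injective.injective_of_adjoint (u.sheafAdjunctionContinuous AddCommGrpCat.{u} K J) Q

open CategoryTheory.Limits in
/-- Existence form (abelian sheaves; the two morphisms of topoi are given by continuous functors u : D
-> C and w : B -> D between small sites with exact pullback on sheaves of sets; the composite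
morphism is given by w followed by u, whose continuity is recorded by a binder that always holds):
for an abelian sheaf M on C there is a bounded E_2 spectral sequence of abelian sheaves on B with
E_2^{p,q} isomorphic to R^p w_*(R^q u_* M) for p, q >= 0 and zero otherwise, with abutment data
whose filtrations are finite on R^n (u w)_* M (n >= 0; zero for n < 0). The E_2 identifications and
abutment isomorphisms are asserted to exist only, not pinned to the canonical maps. -/
theorem result {C D B : Type u} [SmallCategory C] [SmallCategory D]
    [SmallCategory B] (J : GrothendieckTopology C) (K : GrothendieckTopology D) (L : GrothendieckTopology B)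
    (u : D ⥤ C) [u.IsContinuous K J] [PreservesFiniteLimits (u.sheafPullback (Type u) K J)]
    (w : B ⥤ D) [w.IsContinuous L K] [PreservesFiniteLimits (w.sheafPullback (Type u) L K)]
    [(w ⋙ u).IsContinuous L J] (M : Sheaf J AddCommGrpCat.{u}) :
    ∃ (E : E₂CohomologicalSpectralSequence (Sheaf L AddCommGrpCat.{u}))
      (a : SpSeq.Abutment E (fun n : ℤ =>
        if 0 ≤ n then (CohSite.Rpush J L (w ⋙ u) n.toNat).obj M else 0)),
      (∀ n, a.IsFinite n) ∧ SpSeq.IsBounded E ∧
      ∀ p q : ℤ, Nonempty ((E.page 2 le_rfl).X (p, q) ≅
        (if 0 ≤ p ∧ 0 ≤ q then (CohSite.Rpush K L w p.toNat).obj ((CohSite.Rpush J K u q.toNat).obj M) else 0)) := by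

  have hpres : PreservesFiniteLimits (CohSite.push K L w) := by
    have : (CohSite.push K L w).IsRightAdjoint := inferInstance
    infer_instance
  have hT : ∀ Q : Sheaf J AddCommGrpCat.{u}, Injective Q → ∀ q : ℕ, 0 < q →
      IsZero (((CohSite.push K L w).rightDerived q).obj ((CohSite.push J K u).obj Q)) := by
    intro Q hQ q hq
    have := injective_push J K u Q
    obtain ⟨k, rfl⟩ : ∃ k, q = k + 1 := ⟨q - 1, by omega⟩
    exact Functor.isZero_rightDerived_obj_injective_succ _ k _
  let α : CohSite.push J K u ⋙ CohSite.push K L w ≅ CohSite.push J L (w ⋙ u) := Iso.refl _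
  obtain ⟨E, a, h1, h2, h3⟩ := Groth.Agent.Lib.Helper33.GrothSS.grothendieck_ss
    (CohSite.push J K u) (CohSite.push K L w) hT M
    (fun n => (CohSite.Rpush J L (w ⋙ u) n).obj M)
    (fun n => ⟨(rightDerivedNatIso' α n).app M⟩)
    (fun p q => (CohSite.Rpush K L w p).obj ((CohSite.Rpush J K u q).obj M))
    (fun p q => ⟨Iso.refl _⟩)
  exact ⟨E, a, h1, h2, h3⟩
end Groth.Agent.S6163
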