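import Groth.Statements.S6166
import Groth.Agent.S12448
import Groth.Agent.Lib.Helper5.SiteBdry

set_option autoImplicit false
universe u
open CategoryTheory
open CohSite

namespace Groth.Agent.S6166

open Opposite CategoryTheory.Limits Abelian Groth.Agent.Lib.Helper5 Groth.Agent.Lib.Helper5.SiteCoh

variable {C D : Type u} [SmallCategory C] [SmallCategory D]
  (J : GrothendieckTopology C) (K : GrothendieckTopology D) (u : D ⥤ C) [u.IsContinuous K J]

/-- acyclicity on all objects -/
def Acyc (F : Ab J) : Prop := ∀ (U : C) (q : ℕ), Subsingleton (Ext.{u} (freeSheaf J U) F (q + 1))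

variable {J} in
lemma acyc_sesInj_X₃ (F : Ab J) (hF : Acyc J F) : Acyc J (sesInj F).X₃ := by
  intro U q
  have : Subsingleton (Ext.{u} (freeSheaf J U) (sesInj F).X₁ (q + 2)) := hF U (q + 1)
  exact subsingleton_ext_of_shift (sesInj_shortExact F) _ q

instance : PreservesLimitsOfSize.{u, u} (CohSite.push J K u) :=
  (Functor.sheafPullbackConstruction.sheafAdjunctionContinuous u AddCommGrpCat.{u} K
    J).rightAdjoint_preservesLimits

/-- the direct image of `0 ⟶ F ⟶ I ⟶ Q ⟶ 0` is short exact when `F` is acyclic on objects -/
lemma shortExact_push_sesInj (F : Ab J) (hF : Acyc J F) :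
    ((sesInj F).map (CohSite.push J K u)).ShortExact := by
  have hS := sesInj_shortExact F
  have h := (Functor.preservesFiniteLimits_iff_forall_exact_map_and_mono (CohSite.push J K u)).1
    inferInstance _ hS
  have hepi : Epi ((CohSite.push J K u).map (sesInj F).g) := by
    suffices h1 : ∀ V : Dᵒᵖ, Epi (((CohSite.push J K u).map (sesInj F).g).hom.app V) by
      have h2 : Epi ((CohSite.push J K u).map (sesInj F).g).hom := NatTrans.epi_of_epi_app _
      exact Sheaf.Hom.epi_of_presheaf_epi _ _ _
    intro V
    rw [AddCommGrpCat.epi_iff_surjective]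
    intro s
    have : Subsingleton (Ext.{u} (freeSheaf J (u.obj V.unop)) (sesInj F).X₁ 1) :=
      hF (u.obj V.unop) 0
    obtain ⟨φ, hφ⟩ := exists_lift_of_subsingleton_ext_one hS (freeSheaf J (u.obj V.unop))
      ((βAdd (u.obj V.unop) (sesInj F).X₃).symm s)
    refine ⟨βAdd (u.obj V.unop) (sesInj F).X₂ φ, ?_⟩
    change (sesInj F).g.hom.app (op (u.obj V.unop)) (βAdd (u.obj V.unop) (sesInj F).X₂ φ) = s
    rw [← βAdd_naturality, hφ, AddEquiv.apply_symm_apply]
  exact ShortComplex.ShortExact.mk' h.1 h.2 hepi

variable (hpull : PreservesFiniteLimits (u.sheafPullback AddCommGrpCat.{u} K J))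

include hpull in
lemma injective_push (I : Ab J) [Injective I] : Injective ((CohSite.push J K u).obj I) :=
  Injective.injective_of_adjoint (Functor.sheafAdjunctionContinuous u AddCommGrpCat.{u} K J) I

include hpull in
theorem main (V : D) (q : ℕ) (F : Ab J) (hF : Acyc J F) :
    Subsingleton (Ext.{u} (freeSheaf K V) ((CohSite.push J K u).obj F) (q + 1)) := by
  induction q generalizing F with
  | zero =>
    have hS := sesInj_shortExact F
    have hS' := shortExact_push_sesInj J K u F hF
    have : Injective ((sesInj F).map (CohSite.push J K u)).X₂ :=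
      injective_push J K u hpull (sesInj F).X₂
    have : Subsingleton (Ext.{u} (freeSheaf K V) ((sesInj F).map (CohSite.push J K u)).X₂ 1) :=
      subsingleton_of_forall_eq 0 fun x => Ext.eq_zero_of_injective x
    refine subsingleton_of_forall_eq 0 (fun x => ?_)
    obtain ⟨s, rfl⟩ := bdryV_surjective hS' V x
    have hs : s ∈ (bdryV hS' V).ker := by
      rw [bdryV_ker, AddMonoidHom.mem_range]
      have : Subsingleton (Ext.{u} (freeSheaf J (u.obj V)) (sesInj F).X₁ 1) := hF (u.obj V) 0
      obtain ⟨φ, hφ⟩ := exists_lift_of_subsingleton_ext_one hS (freeSheaf J (u.obj V))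
        ((βAdd (u.obj V) (sesInj F).X₃).symm s)
      refine ⟨βAdd (u.obj V) (sesInj F).X₂ φ, ?_⟩
      change (sesInj F).g.hom.app (op (u.obj V)) (βAdd (u.obj V) (sesInj F).X₂ φ) = s
      rw [← βAdd_naturality, hφ, AddEquiv.apply_symm_apply]
    exact hs
  | succ n ih =>
    have hS' := shortExact_push_sesInj J K u F hF
    have : Injective ((sesInj F).map (CohSite.push J K u)).X₂ :=
      injective_push J K u hpull (sesInj F).X₂
    have : Subsingleton (Ext.{u} (freeSheaf K V)
        ((sesInj F).map (CohSite.push J K u)).X₃ (n + 1)) := ih (sesInj F).X₃ (acyc_sesInj_X₃ F hF)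
    exact (extShiftAddEquiv hS' (freeSheaf K V) n).symm.toEquiv.subsingleton

open CategoryTheory.Limits in
/-- Let u : D -> C be a continuous functor between small sites with exact pullback on sheaves of sets (a
morphism of topoi), and take the topologically generating families to be all objects of C, resp. of
D, so that the inverse image of the second lies in the first. For an abelian sheaf F on C: if H^q(U,
F) = 0 for all objects U of C and all q > 0, then H^q(V, u_* F) = 0 for all objects V of D and all q
> 0, where u_* F = F o u. -/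
theorem result {C D : Type u} [SmallCategory C] [SmallCategory D]
    (J : GrothendieckTopology C) (K : GrothendieckTopology D) (u : D ⥤ C) [u.IsContinuous K J]
    [PreservesFiniteLimits (u.sheafPullback (Type u) K J)] (F : Sheaf J AddCommGrpCat.{u})
    (hF : ∀ (U : C) (q : ℕ), Subsingleton (CohSite.HU F (q + 1) U)) (V : D) (q : ℕ) :
    Subsingleton (CohSite.HU ((CohSite.push J K u).obj F) (q + 1) V) := by
  exact main J K u (S12448.result J K u inferInstance) V q F hF

end Groth.Agent.S6166
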