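import Groth.Statements.S6167
import Mathlib
import Groth.Agent.Lib.Helper30.FlatFactor

set_option autoImplicit false
universe u
open CategoryTheory
open ModSite

namespace Groth.Agent.S6167

/-- Ringed site (C, O), small, with commutative structure sheaf: a morphism from an O-module of finite
presentation (Mathlib's notion: over some family of objects covering every object, a cokernel of a
map of finite free modules) to a flat O-module factors, locally on the site, through a finite free
module: for every object X there is a covering family (Y_i -> X) and for each i a factorisation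
F|Y_i -> (O|Y_i)^n -> H|Y_i of the restricted morphism. -/
theorem result {C : Type u} [SmallCategory C] {J : GrothendieckTopology C}
    (O : Sheaf J CommRingCat.{u}) (F H : ModSite.Mod O) [F.IsFinitePresentation] (hH : ModSite.IsFlat H)
    (φ : F ⟶ H) (X : C) :
    ∃ (ι : Type u) (Y : ι → C) (g : ∀ i, Y i ⟶ X), Sieve.ofArrows Y g ∈ J X ∧
      ∀ i, ∃ (n : ℕ) (a : (ModSite.restr O (Y i)).obj F ⟶ SheafOfModules.free (ULift.{u} (Fin n)))
        (b : SheafOfModules.free (ULift.{u} (Fin n)) ⟶ (ModSite.restr O (Y i)).obj H),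
        a ≫ b = (ModSite.restr O (Y i)).map φ := by
  obtain ⟨σ, hσ⟩ := SheafOfModules.IsFinitePresentation.exists_quasicoherentData F
  -- the local factorisations over each member of the trivialising family
  have hcore := fun i : σ.I =>
    Groth.Agent.Lib.Helper30.FlatFactor.core O F H φ (σ.X i) (σ.presentation i) hH
  choose S hS hfac using hcore
  -- the covering sieve of `X`
  have hS₀ : Sieve.ofObjects σ.X X ∈ J X := σ.coversTop X
  have hch : ∀ ⦃W : C⦄ ⦃f : W ⟶ X⦄, (Sieve.ofObjects σ.X X) f → ∃ i : σ.I, Nonempty (W ⟶ σ.X i) :=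
    fun W f hf => hf
  choose ix hix using hch
  let R : ∀ ⦃W : C⦄ ⦃f : W ⟶ X⦄, (Sieve.ofObjects σ.X X) f → Sieve W :=
    fun W f hf => (S (ix hf)).pullback (hix hf).some
  have hbind : Sieve.bind (Sieve.ofObjects σ.X X) R ∈ J X :=
    J.bind_covering hS₀ (fun W f hf => J.pullback_stable _ (hS (ix hf)))
  refine ⟨Σ V : C, {v : V ⟶ X // (Sieve.bind (Sieve.ofObjects σ.X X) R) v},
    fun p => p.1, fun p => p.2.1, ?_, ?_⟩
  · refine J.superset_covering ?_ hbind
    intro V v hv
    exact ⟨V, 𝟙 V, v, Presieve.ofArrows.mk (⟨V, v, hv⟩ : Σ V : C, {v : V ⟶ X //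
      (Sieve.bind (Sieve.ofObjects σ.X X) R) v}), Category.id_comp v⟩
  · rintro ⟨V, v, hv⟩
    obtain ⟨W, g, f, hf, hg, _⟩ := hv
    obtain ⟨l, α, β, hαβ⟩ := hfac (ix hf) (g ≫ (hix hf).some) hg
    exact ⟨l, α, β, hαβ⟩

end Groth.Agent.S6167
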