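import Groth.Statements.S6171
-- import your own Groth.Agent.* helpers here

set_option autoImplicit false
universe u
open CategoryTheory
open SGA4

namespace Groth.Agent.S6171

section helpers
open CategoryTheory.Limits MonoidalCategory CartesianMonoidalCategory

universe v₁ u₁ v₂ u₂

private lemma general {E : Type u₁} [Category.{v₁} E] {E' : Type u₂} [Category.{v₂} E']
    [CartesianMonoidalCategory E] [CartesianMonoidalCategory E'] [MonoidalClosed E]
    [MonoidalClosed E'] (L : E' ⥤ E) (R : E ⥤ E') (adj : L ⊣ R) [PreservesFiniteLimits L]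
    (X : E) (Y : E') :
    Nonempty (R.obj ((ihom (L.obj Y)).obj X) ≅ (ihom Y).obj (R.obj X)) := by
  let adj1 : tensorLeft Y ⋙ L ⊣ R ⋙ ihom Y := (ihom.adjunction Y).comp adj
  let adj2 : L ⋙ tensorLeft (L.obj Y) ⊣ ihom (L.obj Y) ⋙ R :=
    adj.comp (ihom.adjunction (L.obj Y))
  let e : tensorLeft Y ⋙ L ≅ L ⋙ tensorLeft (L.obj Y) :=
    CartesianMonoidalCategory.prodComparisonNatIso L Y
  exact ⟨(((adj1.ofNatIsoLeft e).rightAdjointUniq adj2).symm).app X⟩

end helpers

open CategoryTheory.Limits MonoidalCategory in
/-- Sheaves of sets on small sites; internal homs of the cartesian closed topoi: for a morphism of topoi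
v : E -> E' given by a continuous functor u : D -> C between small sites with exact pullback (v_* =
composition with u, v^* = the pullback), a sheaf of sets X on C and a sheaf of sets Y on D, v_*
Hom_E(v^* Y, X) is isomorphic to Hom_{E'}(Y, v_* X). Existence of an isomorphism only (the source's
is canonical and bifunctorial). -/
theorem result {C D : Type u} [SmallCategory C] [SmallCategory D] (J : GrothendieckTopology C)
    (K : GrothendieckTopology D) (u : D ⥤ C) [u.IsContinuous K J] [PreservesFiniteLimits (u.sheafPullback (Type u) K J)]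
    (X : Sheaf J (Type u)) (Y : Sheaf K (Type u)) :
    Nonempty ((u.sheafPushforwardContinuous (Type u) K J).obj ((ihom ((u.sheafPullback (Type u) K J).obj Y)).obj X) ≅
      (ihom Y).obj ((u.sheafPushforwardContinuous (Type u) K J).obj X)) := by
  exact @general _ _ _ _ _ _ (inferInstance : MonoidalClosed (Sheaf J (Type u)))
    (inferInstance : MonoidalClosed (Sheaf K (Type u)))
    (u.sheafPullback (Type u) K J) (u.sheafPushforwardContinuous (Type u) K J)
    (u.sheafAdjunctionContinuous (Type u) K J) _ X Y

end Groth.Agent.S6171
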