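import Groth.Statements.S6172
-- import your own Groth.Agent.* helpers here

set_option autoImplicit false
universe u
open CategoryTheory
open SGA4

namespace Groth.Agent.S6172

section helpers
open CategoryTheory.Limits MonoidalCategory CartesianMonoidalCategory

universe v' u'

variable {E : Type u'} [Category.{v'} E] [CartesianMonoidalCategory E] [HasBinaryProducts E]

/-- `Z ⨯ T ≅ Z ⊗ T`, naturally in `T`. -/
private noncomputable def prodIsoTensor (Z : E) :
    Over.star Z ⋙ Over.forget Z ≅ tensorLeft Z :=
  NatIso.ofComponents
    (fun T => (limit.isLimit (pair Z T)).conePointUniqueUpToIso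
      (CartesianMonoidalCategory.tensorProductIsBinaryProduct Z T))
    (by
      intro T T' f
      have hfst : ∀ T, ((limit.isLimit (pair Z T)).conePointUniqueUpToIso
          (CartesianMonoidalCategory.tensorProductIsBinaryProduct Z T)).hom ≫ fst Z T = prod.fst :=
        fun T => IsLimit.conePointUniqueUpToIso_hom_comp (limit.isLimit (pair Z T))
          (CartesianMonoidalCategory.tensorProductIsBinaryProduct Z T) (Discrete.mk WalkingPair.left)
      have hsnd : ∀ T, ((limit.isLimit (pair Z T)).conePointUniqueUpToIso
          (CartesianMonoidalCategory.tensorProductIsBinaryProduct Z T)).hom ≫ snd Z T = prod.snd :=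
        fun T => IsLimit.conePointUniqueUpToIso_hom_comp (limit.isLimit (pair Z T))
          (CartesianMonoidalCategory.tensorProductIsBinaryProduct Z T) (Discrete.mk WalkingPair.right)
      have hmap : (Over.star Z ⋙ Over.forget Z).map f = prod.map (𝟙 Z) f := by
        simp [Over.star]
      have hw1 : (tensorLeft Z).map f ≫ fst Z T' = fst Z T := whiskerLeft_fst Z f
      have hw2 : (tensorLeft Z).map f ≫ snd Z T' = snd Z T ≫ f := whiskerLeft_snd Z f
      rw [hmap]
      change (prod.map (𝟙 Z) f : Z ⨯ T ⟶ Z ⨯ T') ≫
        ((limit.isLimit (pair Z T')).conePointUniqueUpToIso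
          (CartesianMonoidalCategory.tensorProductIsBinaryProduct Z T')).hom =
        ((limit.isLimit (pair Z T)).conePointUniqueUpToIso
          (CartesianMonoidalCategory.tensorProductIsBinaryProduct Z T)).hom ≫ (tensorLeft Z).map f
      apply CartesianMonoidalCategory.hom_ext
      · rw [Category.assoc, Category.assoc, hfst, hw1, hfst, prod.map_fst, Category.comp_id]
      · rw [Category.assoc, Category.assoc, hsnd, hw2, ← Category.assoc, hsnd, prod.map_snd])

private lemma general [MonoidalClosed E] (Z Y : E) [(Over.star Z).IsLeftAdjoint] :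
    Nonempty (((Over.star Z).rightAdjoint).obj ((Over.star Z).obj Y) ≅ (ihom Z).obj Y) := by
  let adj1 : Over.forget Z ⊣ Over.star Z := Over.forgetAdjStar Z
  let adj2 : Over.star Z ⊣ (Over.star Z).rightAdjoint := Adjunction.ofIsLeftAdjoint (Over.star Z)
  let adj : Over.star Z ⋙ Over.forget Z ⊣ Over.star Z ⋙ (Over.star Z).rightAdjoint :=
    adj2.comp adj1
  let adj' : tensorLeft Z ⊣ Over.star Z ⋙ (Over.star Z).rightAdjoint :=
    adj.ofNatIsoLeft (prodIsoTensor Z)
  exact ⟨(adj'.rightAdjointUniq (ihom.adjunction Z)).app Y⟩

end helpers

open CategoryTheory.Limits MonoidalCategory in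
/-- Topos E of sheaves of sets on a small site, localised at an object Z: with j_Z : E/Z -> E the
localisation morphism, j_Z^* X = Z x X over Z, and j_{Z*} its right adjoint (taken as an instance
hypothesis, which holds in any topos), j_{Z*} j_Z^* Y is isomorphic to the internal hom Hom(Z, Y)
for every object Y. Existence of an isomorphism only (the source's is canonical). -/
theorem result {C : Type u} [SmallCategory C] (J : GrothendieckTopology C)
    (Z Y : Sheaf J (Type u)) [(Over.star Z).IsLeftAdjoint] :
    Nonempty (((Over.star Z).rightAdjoint).obj ((Over.star Z).obj Y) ≅ (ihom Z).obj Y) := by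
  exact @general _ _ _ _ (inferInstance : MonoidalClosed (Sheaf J (Type u))) Z Y _

end Groth.Agent.S6172
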