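import Groth.Statements.S6173
import Mathlib.CategoryTheory.Sites.Point.Map
import Mathlib.CategoryTheory.Sites.LocallyBijective
-- import your own Groth.Agent.* helpers here

set_option autoImplicit false
universe u
open CategoryTheory
open SGA4

namespace Groth.Agent.S6173

section helpers
open Opposite GrothendieckTopology

private lemma isIso_of_coversTop {C : Type u} [SmallCategory C] (J : GrothendieckTopology C)
    {ι : Type u} (X : ι → C) (hX : J.CoversTop X) {F G : Sheaf J (Type u)} (f : F ⟶ G)
    (h : ∀ i, IsIso (((Over.forget (X i)).sheafPushforwardContinuous (Type u)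
      (J.over (X i)) J).map f)) : IsIso f := by
  have hbij : ∀ (Z : C) (i : ι) (φ : Z ⟶ X i), Function.Bijective (f.hom.app (op Z)) := by
    intro Z i φ
    have h1 := h i
    have h2 : IsIso ((sheafToPresheaf _ _).map
      (((Over.forget (X i)).sheafPushforwardContinuous (Type u) (J.over (X i)) J).map f)) :=
      inferInstance
    have h3 : IsIso (((sheafToPresheaf _ _).map
      (((Over.forget (X i)).sheafPushforwardContinuous (Type u) (J.over (X i)) J).map f)).app
        (op (Over.mk φ))) := inferInstance
    exact (isIso_iff_bijective _).mp h3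
  refine (Sheaf.isLocallyBijective_iff_isIso f).mp ⟨?_, ?_⟩
  · refine ⟨fun {Y} a b hab => ?_⟩
    refine J.superset_covering ?_ (hX Y.unop)
    rintro Z g ⟨i, ⟨φ⟩⟩
    apply (hbij Z i φ).1
    have e1 := NatTrans.naturality_apply f.hom g.op a
    have e2 := NatTrans.naturality_apply f.hom g.op b
    exact e1.trans ((congrArg _ hab).trans e2.symm)
  · refine ⟨fun {Y} s => ?_⟩
    refine J.superset_covering ?_ (hX Y)
    rintro Z g ⟨i, ⟨φ⟩⟩
    exact (hbij Z i φ).2 _

end helpers

/-- Second assertion (topos of sheaves on a small site (C, J); E/X_i the induced topoi, modelled by the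
sites (C/X_i, J/X_i); 'enough points' = a small conservative family of points, equivalently all
fibre functors together are conservative): if (X_i) is a family of objects covering the final object
and every E/X_i has enough points, then E has enough points. (The first assertion, that E/X inherits
enough points from E, is Mathlib's instance.) -/
theorem result {C : Type u} [SmallCategory C] (J : GrothendieckTopology C) {ι : Type u}
    (X : ι → C) (hX : J.CoversTop X) (h : ∀ i, GrothendieckTopology.HasEnoughPoints.{u} (J.over (X i))) :
    GrothendieckTopology.HasEnoughPoints.{u} J := by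
  choose P hPsmall hPcons using fun i => (h i).exists_objectProperty
  let Q : ObjectProperty (GrothendieckTopology.Point.{u} J) :=
    ObjectProperty.ofObj (fun x : Σ i, (P i).FullSubcategory =>
      x.2.obj.map (Over.forget (X x.1)) J)
  have hQs : ObjectProperty.Small.{u} Q := by
    have : ∀ i, Small.{u} (P i).FullSubcategory := fun i =>
      haveI := hPsmall i
      inferInstance
    infer_instance
  have hQc : Q.IsConservativeFamilyOfPoints := by
    refine ⟨⟨fun {F G} f hf => ?_⟩⟩
    apply isIso_of_coversTop J X hX f
    intro i
    refine @JointlyReflectIsomorphisms.isIso _ _ _ _ _ _ (hPcons i).jointlyReflectIsomorphisms_type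
      _ _ _ (fun Φ => ?_)
    have hmem : Q (Φ.obj.map (Over.forget (X i)) J) :=
      ObjectProperty.ofObj_apply (fun x : Σ i, (P i).FullSubcategory =>
        x.2.obj.map (Over.forget (X x.1)) J) ⟨i, Φ⟩
    have h1 : IsIso ((Φ.obj.map (Over.forget (X i)) J).sheafFiber.map f) := hf ⟨_, hmem⟩
    let e := Φ.obj.sheafFiberMapIso (Over.forget (X i)) J (Type u)
    have h2 : IsIso (((Over.forget (X i)).sheafPushforwardContinuous (Type u) (J.over (X i)) J ⋙
        Φ.obj.sheafFiber).map f) := (NatIso.isIso_map_iff e f).mp h1
    exact h2
  exact ⟨Q, hQs, hQc⟩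

end Groth.Agent.S6173
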