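import Groth.Statements.S6174
import Groth.Agent.S0941
import Groth.Agent.S0905
import Groth.Agent.Lib.Helper5.CechSieveZero

set_option autoImplicit false
universe u
open CategoryTheory
open CohSite

namespace Groth.Agent.S6174

open Opposite CategoryTheory.Limits Abelian Groth.Agent.Lib.Helper5 Groth.Agent.Lib.Helper5.SiteCoh
  Groth.Agent.Lib.Lead

variable {C : Type u} [SmallCategory C]

/-- for the trivial topology every object is weakly contractible -/
lemma isWeaklyContractible_bot (V : C) :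
    CohSite.IsWeaklyContractible (⊥ : GrothendieckTopology C) V := by
  intro F G φ hφ s
  have h1 : Sheaf.IsLocallySurjective φ := (Sheaf.isLocallySurjective_iff_epi φ).2 hφ
  have h2 := Presheaf.imageSieve_mem (⊥ : GrothendieckTopology C) φ.hom (U := op V) s
  rw [GrothendieckTopology.bot_covering] at h2
  have h3 : (Presheaf.imageSieve φ.hom s).arrows (𝟙 V) := by
    rw [h2]
    trivial
  obtain ⟨t, ht⟩ := h3
  refine ⟨t, ht.trans ?_⟩
  rw [op_id, G.obj.map_id]
  rfl

variable [HasPullbacks C] {U : C} {ι : Type u} (Y : ι → Over U)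

lemma acyc (F : Ab (⊥ : GrothendieckTopology C)) : Groth.Agent.S0941.Acyc Y F := by
  intro n x q
  have : Projective (freeSheaf (⊥ : GrothendieckTopology C) (gObj Y x).left) :=
    Groth.Agent.S0905.projective_freeSheaf _ _ (isWeaklyContractible_bot _)
  exact subsingleton_of_forall_eq 0 (fun e => Ext.eq_zero_of_projective e)

/-- abbreviation: abelian sheaves for the trivial topology -/
abbrev PAb (C : Type u) [SmallCategory C] : Type (u + 1) := Ab (⊥ : GrothendieckTopology C)

/-- the free abelian presheaf on the sieve generated by the family -/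
noncomputable abbrev AR : PAb C := freeSieve Y (⊥ : GrothendieckTopology C)

/-- degree `0` -/
lemma base0 (F : PAb C) : Nonempty (CohCx.cechH F.obj Y 0 ≃+ Ext.{u} (AR Y) F 0) :=
  ⟨(asIso (rEta Y F)).addCommGroupIsoToAddEquiv.symm.trans Ext.addEquiv₀.symm⟩

/-- the inductive step -/
lemma step (n : ℕ)
    (ih : ∀ F : PAb C, Nonempty (CohCx.cechH F.obj Y (n + 1) ≃+ Ext.{u} (AR Y) F (n + 1)))
    (F : PAb C) :
    Nonempty (CohCx.cechH F.obj Y (n + 2) ≃+ Ext.{u} (AR Y) F (n + 2)) := by
  have hT := Groth.Agent.S0941.cech_shortExact_sesInj Y F (acyc Y F)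
  obtain ⟨e⟩ := ih (sesInj F).X₃
  have e' := hT.δIso (n + 1) (n + 2) rfl
    (isZero_sCechH_of_injective Y _ (sesInj F).X₂ n)
    (isZero_sCechH_of_injective Y _ (sesInj F).X₂ (n + 1))
  exact ⟨(e'.symm.addCommGroupIsoToAddEquiv.trans e).trans
    (extShiftAddEquiv (sesInj_shortExact F) (AR Y) n)⟩

/-- degree `1` -/
lemma base1 (F : PAb C) : Nonempty (CohCx.cechH F.obj Y 1 ≃+ Ext.{u} (AR Y) F 1) := by
  have hS := sesInj_shortExact F
  have hT := Groth.Agent.S0941.cech_shortExact_sesInj Y F (acyc Y F)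
  let gW : (AR Y ⟶ (sesInj F).X₂) →+ (AR Y ⟶ (sesInj F).X₃) :=
    (postcompHom (A := AR Y) (sesInj F).g).hom
  have hnat : ∀ t : AR Y ⟶ (sesInj F).X₂,
      (HomologicalComplex.homologyMap
        ((cechComplexFunctor Y).map (sPUMap (U := U) (sesInj F).g.hom)) 0)
        (rEta Y (sesInj F).X₂ t) = rEta Y (sesInj F).X₃ (gW t) := fun t => by
    have := ConcreteCategory.congr_hom (rEta_naturality Y (sesInj F).g) t
    rwa [ConcreteCategory.comp_apply, ConcreteCategory.comp_apply] at this
  -- Čech side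
  let g₁ : (AR Y ⟶ (sesInj F).X₃) →+ CohCx.cechH F.obj Y 1 :=
    (rEta Y (sesInj F).X₃ ≫ hT.δ 0 1 rfl).hom
  have hg₁ : Function.Surjective g₁ := by
    have h1 : Epi (hT.δ 0 1 rfl) :=
      hT.epi_δ 0 1 rfl (isZero_sCechH_of_injective Y _ (sesInj F).X₂ 0)
    have h2 : Epi (rEta Y (sesInj F).X₃ ≫ hT.δ 0 1 rfl) :=
      epi_comp' (IsIso.epi_of_iso (rEta Y (sesInj F).X₃)) h1
    exact (AddCommGrpCat.epi_iff_surjective _).1 h2
  have hk₁ : g₁.ker = gW.range := by
    ext s
    rw [AddMonoidHom.mem_ker, AddMonoidHom.mem_range]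
    constructor
    · intro hs
      obtain ⟨y, hy⟩ := (ShortComplex.ab_exact_iff _).1 (hT.homology_exact₃ 0 1 rfl)
        (rEta Y (sesInj F).X₃ s) hs
      obtain ⟨t, rfl⟩ := (ConcreteCategory.bijective_of_isIso (rEta Y (sesInj F).X₂)).2 y
      refine ⟨t, ?_⟩
      apply (ConcreteCategory.bijective_of_isIso (rEta Y (sesInj F).X₃)).1
      rw [← hy]
      exact (hnat t).symm
    · rintro ⟨t, rfl⟩
      change (hT.δ 0 1 rfl) (rEta Y (sesInj F).X₃ (gW t)) = 0
      rw [← hnat t]
      have := ConcreteCategory.congr_hom (hT.comp_δ 0 1 rfl) (rEta Y (sesInj F).X₂ t)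
      rwa [ConcreteCategory.comp_apply] at this
  -- derived side
  let g₂ : (AR Y ⟶ (sesInj F).X₃) →+ Ext.{u} (AR Y) F 1 := extBoundary₀ hS (AR Y)
  have hg₂ : Function.Surjective g₂ := extBoundary₀_surjective hS (AR Y)
  have hk₂ : g₂.ker = gW.range := by
    ext s
    rw [AddMonoidHom.mem_ker, AddMonoidHom.mem_range]
    change extBoundary₀ hS (AR Y) s = 0 ↔ _
    rw [extBoundary₀_eq_zero_iff]
    rfl
  exact ⟨Groth.Agent.S0941.addEquivOfKerEq g₁ g₂ hg₁ hg₂ (hk₁.trans hk₂.symm)⟩

/-- the comparison in all degrees -/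
theorem main (p : ℕ) (F : PAb C) : Nonempty (CohCx.cechH F.obj Y p ≃+ Ext.{u} (AR Y) F p) := by
  cases p with
  | zero => exact base0 Y F
  | succ p =>
    induction p generalizing F with
    | zero => exact base1 Y F
    | succ n ih => exact step Y n (fun G => ih G) F

open CategoryTheory.Limits in
/-- C a small category with fibre products; presheaves are the sheaves for the trivial topology: for a
presheaf of abelian groups M, a family of arrows (U_i -> X) and the sieve R it generates, viewed as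
a sub-presheaf of h_X, the Cech cohomology group H^q((U_i -> X), M) is isomorphic to H^q(R, M), the
q-th Ext group out of the free abelian presheaf on R. Existence of an isomorphism only (the source's
is canonical). -/
theorem result {C : Type u} [SmallCategory C] [HasPullbacks C]
    (M : Cᵒᵖ ⥤ AddCommGrpCat.{u}) {X : C} {ι : Type u} (Y : ι → Over X) (q : ℕ) :
    Nonempty (CohCx.cechH M Y q ≅ AddCommGrpCat.of (CohCx.HK (J := (⊥ : GrothendieckTopology C))
      ⟨(Sieve.ofArrows (fun i => (Y i).left) (fun i => (Y i).hom)).functor, Presheaf.isSheaf_bot _⟩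
      ⟨M, Presheaf.isSheaf_bot _⟩ q)) := by
  obtain ⟨e⟩ := main Y q (⟨M, Presheaf.isSheaf_bot M⟩ : PAb C)
  exact ⟨e.toAddCommGrpIso⟩

end Groth.Agent.S6174
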