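import Groth.Statements.S6176
-- import your own Groth.Agent.* helpers here

set_option autoImplicit false
universe u
open CategoryTheory
open SGA4

namespace Groth.Agent.S6176

open CategoryTheory.Limits in
/-- The clause on products (topos of sheaves of sets on a small site; j : E/U -> E the open embedding
defined by an open U, i.e. a subobject of the final object, so that j_! is the forgetful functor
from objects over U): j_! commutes with products indexed by a nonempty u-small set. (Commutation
with fibre products and cofiltered limits, the other clauses, holds for the forgetful functor of any
slice.) -/
theorem result {C : Type u} [SmallCategory C] (J : GrothendieckTopology C)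
    (U : Sheaf J (Type u)) (hU : SGA4.IsOpen U) (I : Type u) [Nonempty I] :
    PreservesLimitsOfShape (Discrete I) (Over.forget U) := by
  have : Mono (terminal.from U) := hU
  have huniq : ∀ {T : Sheaf J (Type u)} (a b : T ⟶ U), a = b := fun a b => by
    rw [← cancel_mono (terminal.from U)]; exact Subsingleton.elim _ _
  obtain ⟨i0⟩ := ‹Nonempty I›
  refine ⟨fun {K} => ⟨fun {c} hc => ⟨?_⟩⟩⟩
  let liftCone : Cone (K ⋙ Over.forget U) → Cone K := fun s =>
    { pt := Over.mk (s.π.app ⟨i0⟩ ≫ (K.obj ⟨i0⟩).hom)
      π :=
        { app := fun j => Over.homMk (s.π.app j) (huniq _ _)
          naturality := by
            intro j j' f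
            apply Over.OverMorphism.ext
            simpa using s.π.naturality f } }
  exact
    { lift := fun s => (hc.lift (liftCone s)).left
      fac := fun s j => by
        have := congrArg CommaMorphism.left (hc.fac (liftCone s) j)
        exact this
      uniq := fun s m hm => by
        have h1 : Over.homMk (U := (liftCone s).pt) (V := c.pt) m (huniq _ _) =
            hc.lift (liftCone s) :=
          hc.uniq (liftCone s) (Over.homMk m (huniq _ _)) (fun j => by
            apply Over.OverMorphism.ext
            simpa [liftCone] using hm j)
        have := congrArg CommaMorphism.left h1
        simpa using this }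

end Groth.Agent.S6176
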