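import Groth.Statements.S6177
import Mathlib.CategoryTheory.Sites.CartesianClosed
import Mathlib.CategoryTheory.Monoidal.Closed.FunctorToTypes
import Mathlib.CategoryTheory.Monoidal.Closed.Types
import Mathlib.CategoryTheory.Limits.Shapes.Pullback.Iso
-- import your own Groth.Agent.* helpers here

set_option autoImplicit false
universe u
open CategoryTheory
open SGA4

namespace Groth.Agent.S6177

section cart
open CategoryTheory.Limits MonoidalCategory CartesianMonoidalCategory

universe v'' u''

variable {E : Type u''} [Category.{v''} E] [CartesianMonoidalCategory E] [HasBinaryProducts E]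

/-- `Z ⨯ T ≅ Z ⊗ T`, naturally in `T`. -/
private noncomputable def prodIsoTensor (Z : E) :
    prod.functor.obj Z ≅ tensorLeft Z :=
  NatIso.ofComponents
    (fun T => (limit.isLimit (pair Z T)).conePointUniqueUpToIso
      (CartesianMonoidalCategory.tensorProductIsBinaryProduct Z T))
    (by
      intro T T' f
      have hfst : ∀ T, ((limit.isLimit (pair Z T)).conePointUniqueUpToIso
          (CartesianMonoidalCategory.tensorProductIsBinaryProduct Z T)).hom ≫ fst Z T = prod.fst :=
        fun T => IsLimit.conePointUniqueUpToIso_hom_comp (limit.isLimit (pair Z T))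
          (CartesianMonoidalCategory.tensorProductIsBinaryProduct Z T) (Discrete.mk WalkingPair.left)
      have hsnd : ∀ T, ((limit.isLimit (pair Z T)).conePointUniqueUpToIso
          (CartesianMonoidalCategory.tensorProductIsBinaryProduct Z T)).hom ≫ snd Z T = prod.snd :=
        fun T => IsLimit.conePointUniqueUpToIso_hom_comp (limit.isLimit (pair Z T))
          (CartesianMonoidalCategory.tensorProductIsBinaryProduct Z T) (Discrete.mk WalkingPair.right)
      have hw1 : (tensorLeft Z).map f ≫ fst Z T' = fst Z T := whiskerLeft_fst Z f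
      have hw2 : (tensorLeft Z).map f ≫ snd Z T' = snd Z T ≫ f := whiskerLeft_snd Z f
      change (prod.map (𝟙 Z) f : Z ⨯ T ⟶ Z ⨯ T') ≫
        ((limit.isLimit (pair Z T')).conePointUniqueUpToIso
          (CartesianMonoidalCategory.tensorProductIsBinaryProduct Z T')).hom =
        ((limit.isLimit (pair Z T)).conePointUniqueUpToIso
          (CartesianMonoidalCategory.tensorProductIsBinaryProduct Z T)).hom ≫ (tensorLeft Z).map f
      apply CartesianMonoidalCategory.hom_ext
      · rw [Category.assoc, Category.assoc, hfst, hw1, hfst, prod.map_fst, Category.comp_id]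
      · rw [Category.assoc, Category.assoc, hsnd, hw2, ← Category.assoc, hsnd, prod.map_snd])

private lemma presv [MonoidalClosed E] (U : E) :
    PreservesColimitsOfShape WalkingSpan (prod.functor.obj U) := by
  have h1 : PreservesColimitsOfSize.{0, 0} (tensorLeft U) :=
    (ihom.adjunction U).leftAdjoint_preservesColimits
  have h2 : PreservesColimitsOfShape WalkingSpan (tensorLeft U) := inferInstance
  exact preservesColimitsOfShape_of_natIso (prodIsoTensor U).symm

end cart

section general
open CategoryTheory.Limits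

universe v' u'

variable {E : Type u'} [Category.{v'} E] [HasBinaryProducts E] [HasPushouts E] [HasTerminal E]

private lemma core (U Y : E) [Mono (terminal.from U)]
    [PreservesColimitsOfShape WalkingSpan (prod.functor.obj U)] :
    IsIso (prod.fst : U ⨯ pushout (prod.fst : U ⨯ Y ⟶ U) (prod.snd : U ⨯ Y ⟶ Y) ⟶ U) := by
  have huniq : ∀ {T : E} (a b : T ⟶ U), a = b := fun a b => by
    rw [← cancel_mono (terminal.from U)]; exact Subsingleton.elim _ _
  have hpo : IsPushout (prod.fst : U ⨯ Y ⟶ U) (prod.snd : U ⨯ Y ⟶ Y)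
      (pushout.inl _ _) (pushout.inr _ _) := IsPushout.of_hasPushout _ _
  have hpo' := hpo.map (prod.functor.obj U)
  have hiso : IsIso ((prod.functor.obj U).map (prod.snd : U ⨯ Y ⟶ Y)) := by
    change IsIso (prod.map (𝟙 U) (prod.snd : U ⨯ Y ⟶ Y))
    refine ⟨prod.lift prod.fst (𝟙 (U ⨯ Y)), ?_, ?_⟩
    · apply Limits.prod.hom_ext
      · exact huniq _ _
      · rw [Category.assoc, prod.lift_snd, Category.comp_id, Category.id_comp]
        apply Limits.prod.hom_ext
        · exact huniq _ _
        · rw [prod.map_snd]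
    · apply Limits.prod.hom_ext
      · exact huniq _ _
      · rw [Category.assoc, prod.map_snd, ← Category.assoc, prod.lift_snd, Category.id_comp]
  have hinl : IsIso (prod.map (𝟙 U)
      (pushout.inl (prod.fst : U ⨯ Y ⟶ U) (prod.snd : U ⨯ Y ⟶ Y))) :=
    hpo'.isIso_inl_of_isIso
  have hfstUU : IsIso (prod.fst : U ⨯ U ⟶ U) :=
    ⟨prod.lift (𝟙 U) (𝟙 U), by
      apply Limits.prod.hom_ext
      · exact huniq _ _
      · exact huniq _ _, by rw [prod.lift_fst]⟩
  have hcomp : prod.map (𝟙 U) (pushout.inl (prod.fst : U ⨯ Y ⟶ U) (prod.snd : U ⨯ Y ⟶ Y)) ≫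
      prod.fst = (prod.fst : U ⨯ U ⟶ U) := by
    rw [prod.map_fst, Category.comp_id]
  have : (prod.fst : U ⨯ pushout (prod.fst : U ⨯ Y ⟶ U) (prod.snd : U ⨯ Y ⟶ Y) ⟶ U) =
      inv (prod.map (𝟙 U) (pushout.inl (prod.fst : U ⨯ Y ⟶ U) (prod.snd : U ⨯ Y ⟶ Y))) ≫
        (prod.fst : U ⨯ U ⟶ U) := by
    rw [IsIso.eq_inv_comp, hcomp]
  rw [this]; infer_instance

private lemma general' (U X : E) [Mono (terminal.from U)]
    [PreservesColimitsOfShape WalkingSpan (prod.functor.obj U)] :
    (IsIso (prod.fst : U ⨯ X ⟶ U) ↔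
      IsIso (pushout.inr (prod.fst : U ⨯ X ⟶ U) (prod.snd : U ⨯ X ⟶ X))) ∧
    ((∃ Y : E, Nonempty (X ≅ pushout (prod.fst : U ⨯ Y ⟶ U) (prod.snd : U ⨯ Y ⟶ Y))) →
      IsIso (prod.fst : U ⨯ X ⟶ U)) := by
  have hB : ∀ Y : E, Nonempty (X ≅ pushout (prod.fst : U ⨯ Y ⟶ U) (prod.snd : U ⨯ Y ⟶ Y)) →
      IsIso (prod.fst : U ⨯ X ⟶ U) := by
    rintro Y ⟨e⟩
    have := core U Y
    have h : (prod.fst : U ⨯ X ⟶ U) = prod.map (𝟙 U) e.hom ≫ prod.fst := by
      rw [prod.map_fst, Category.comp_id]
    rw [h]; infer_instance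
  refine ⟨⟨fun h => ?_, fun h => ?_⟩, fun ⟨Y, hY⟩ => hB Y hY⟩
  · infer_instance
  · exact hB X ⟨asIso (pushout.inr _ _)⟩

end general

open CategoryTheory.Limits in
/-- Topos of sheaves of sets on a small site; U an open, i.e. a subobject of the final object; X_CU the
pushout of U <- U x X -> X along the two projections: (ii) <=> (iii): the canonical map X -> X_CU is
an isomorphism if and only if the projection U x X -> U is an isomorphism (X belongs to the closed
complement of U); and (i) => (iii): if X is isomorphic to Y_CU for some Y then X belongs to the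
closed complement of U ((iii) => (i) with Y = X is then immediate from (ii)). -/
theorem result {C : Type u} [SmallCategory C] (J : GrothendieckTopology C)
    (U : Sheaf J (Type u)) (hU : SGA4.IsOpen U) (X : Sheaf J (Type u)) :
    (SGA4.closedCompl U X ↔ IsIso (pushout.inr (prod.fst : U ⨯ X ⟶ U) (prod.snd : U ⨯ X ⟶ X))) ∧
    ((∃ Y : Sheaf J (Type u), Nonempty (X ≅ pushout (prod.fst : U ⨯ Y ⟶ U) (prod.snd : U ⨯ Y ⟶ Y))) →
      SGA4.closedCompl U X) := by
  have : Mono (terminal.from U) := hU
  have : PreservesColimitsOfShape WalkingSpan (prod.functor.obj U) :=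
    @presv _ _ _ _ (inferInstance : MonoidalClosed (Sheaf J (Type u))) U
  exact general' U X

end Groth.Agent.S6177
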