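import Groth.Statements.S6178
-- import your own Groth.Agent.* helpers here
import Groth.Agent.S3090
import Groth.Agent.Lib.Lead.FreeSheaf

set_option autoImplicit false
universe u
open CategoryTheory
open CohSite

namespace Groth.Agent.S6178

open Groth.Agent.Lib.Helper4 CategoryTheory.Abelian Opposite CategoryTheory.Limits
open Groth.Agent.S3090 (Zf freeAdj)

section

variable {C : Type u} [SmallCategory C] (J : GrothendieckTopology C)

/-- Abelian presheaves, as sheaves for the trivial topology. -/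
abbrev PSh (C : Type u) [SmallCategory C] : Type (u + 1) :=
  Sheaf (⊥ : GrothendieckTopology C) AddCommGrpCat.{u}

/-- The underlying presheaf of an abelian sheaf. -/
def ι : Sheaf J AddCommGrpCat.{u} ⥤ PSh C where
  obj F := ⟨F.obj, Presheaf.isSheaf_bot _⟩
  map f := ⟨f.hom⟩

/-- Sheafification, from `PSh`. -/
noncomputable def a : PSh C ⥤ Sheaf J AddCommGrpCat.{u} :=
  sheafToPresheaf _ _ ⋙ presheafToSheaf J AddCommGrpCat.{u}

/-- `a ⊣ ι`. -/
noncomputable def adj : a J ⊣ ι J :=
  Adjunction.mkOfHomEquiv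
    { homEquiv := fun P F =>
        ((sheafificationAdjunction J AddCommGrpCat.{u}).homEquiv P.obj F).trans
          { toFun := fun f => ⟨f⟩
            invFun := fun g => g.hom
            left_inv := fun _ => rfl
            right_inv := fun _ => rfl }
      homEquiv_naturality_left_symm := by
        intro P P' F f g
        exact (sheafificationAdjunction J AddCommGrpCat.{u}).homEquiv_naturality_left_symm f.hom g.hom
      homEquiv_naturality_right := by
        intro P F F' f g
        apply Sheaf.hom_ext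
        exact (sheafificationAdjunction J AddCommGrpCat.{u}).homEquiv_naturality_right f g }

instance : PreservesFiniteLimits (a J) := by
  unfold a
  have : PreservesFiniteLimits (sheafToPresheaf (⊥ : GrothendieckTopology C) AddCommGrpCat.{u}) := by
    have : (sheafToPresheaf (⊥ : GrothendieckTopology C) AddCommGrpCat.{u}).IsRightAdjoint :=
      inferInstance
    infer_instance
  infer_instance

instance : PreservesFiniteLimits (ι J) := by
  have : (ι J).IsRightAdjoint := (adj J).isRightAdjoint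
  infer_instance

instance (I : Sheaf J AddCommGrpCat.{u}) [Injective I] : Injective ((ι J).obj I) :=
  Injective.injective_of_adjoint (adj J) I

end


section

variable {C : Type u} [SmallCategory C] {J : GrothendieckTopology C}

/-- `F` is acyclic on objects. -/
def IsCAcyclic (F : Sheaf J AddCommGrpCat.{u}) : Prop :=
  ∀ (X : C) (q : ℕ), Subsingleton (CohSite.HU F (q + 1) X)

/-- (A) `I ⟶ I/F` is surjective on sections when `H¹(U, F) = 0`. -/
lemma surj_g_of_H1 (F : Sheaf J AddCommGrpCat.{u}) (U : C)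
    (h0 : Subsingleton (Ext (ZU J U) F 1)) :
    Function.Surjective ((S0865.ses F).g.hom.app (op U)) := by
  intro s
  have hS := S0865.ses_shortExact F
  obtain ⟨ψ, rfl⟩ := (ZUev_bijective U (S0865.ses F).X₃).2 s
  have h0' : Subsingleton (Ext (ZU J U) (S0865.ses F).X₁ 1) := h0
  have h1 : (Ext.mk₀ ψ).comp hS.extClass (zero_add 1) = 0 := Subsingleton.elim _ _
  obtain ⟨z, hz⟩ := Ext.covariant_sequence_exact₃ _ hS (Ext.mk₀ ψ) (zero_add 1) h1
  obtain ⟨ψ', rfl⟩ := (Ext.mk₀_bijective _ _).surjective z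
  rw [Ext.mk₀_comp_mk₀] at hz
  have hz' : ψ' ≫ (S0865.ses F).g = ψ := (Ext.mk₀_bijective _ _).injective hz
  refine ⟨ZUev U _ ψ', ?_⟩
  rw [← ZUev_comp, hz']

/-- (B) the quotient `I/F` is again acyclic on objects. -/
lemma isCAcyclic_X₃ (F : Sheaf J AddCommGrpCat.{u}) (hF : IsCAcyclic F) :
    IsCAcyclic (S0865.ses F).X₃ := by
  intro X p
  refine subsingleton_of_forall_eq 0 (fun y => ?_)
  have hS := S0865.ses_shortExact F
  change Ext (ZU J X) (S0865.ses F).X₃ (p + 1) at y
  change y = 0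
  have h1 : y.comp hS.extClass (rfl : p + 1 + 1 = p + 2) = 0 :=
    @Subsingleton.elim _ (hF X (p + 1)) _ _
  obtain ⟨z, rfl⟩ := Ext.covariant_sequence_exact₃ _ hS y rfl h1
  rw [Ext.eq_zero_of_injective z, Ext.zero_comp]

/-- (C) the sequence of underlying presheaves is short exact when `I ⟶ I/F` is surjective on
sections. -/
lemma ιses_shortExact (F : Sheaf J AddCommGrpCat.{u})
    (hsurj : ∀ U : C, Function.Surjective ((S0865.ses F).g.hom.app (op U))) :
    ((S0865.ses F).map (ι J)).ShortExact := by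
  have hS := S0865.ses_shortExact F
  have hmono : Mono (S0865.ses F).f := hS.mono_f
  have hepi : Epi ((ι J).map (S0865.ses F).g) := by
    have : Sheaf.IsLocallySurjective ((ι J).map (S0865.ses F).g) := by
      apply Presheaf.isLocallySurjective_of_surjective
      intro V
      exact hsurj V.unop
    exact (Sheaf.isLocallySurjective_iff_epi'
      (φ := (ι J).map (S0865.ses F).g)).1 inferInstance
  exact
    { exact := hS.exact.map_of_mono_of_preservesKernel (ι J) hmono inferInstance
      mono_f := by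
        change Mono ((ι J).map (S0865.ses F).f)
        infer_instance
      epi_g := hepi }

/-- (D) the Yoneda form of the sheaf condition for the underlying sheaf of sets. -/
lemma yoneda_cond (G : Sheaf J AddCommGrpCat.{u}) {X : C} (R : Sieve X) (hR : R ∈ J X)
    (σ : R.functor ⟶ G.obj ⋙ forget AddCommGrpCat.{u}) :
    ∃! τ : yoneda.obj X ⟶ G.obj ⋙ forget AddCommGrpCat.{u}, R.functorInclusion ≫ τ = σ := by
  have h1 : Presheaf.IsSheaf J (G.obj ⋙ forget AddCommGrpCat.{u}) :=
    ((sheafCompose J (forget AddCommGrpCat.{u})).obj G).property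
  have h2 : Presieve.IsSheaf J (G.obj ⋙ forget AddCommGrpCat.{u}) :=
    (isSheaf_iff_isSheaf_of_type J _).1 h1
  exact (Presieve.isSheafFor_iff_yonedaSheafCondition.1 (h2 R hR)) σ

/-- The presheaf of sets of a sieve, as a sheaf for the trivial topology. -/
abbrev RSh {X : C} (R : Sieve X) : Sheaf (⊥ : GrothendieckTopology C) (Type u) :=
  ⟨R.functor, Presheaf.isSheaf_bot _⟩

/-- (L2) lifting maps from the free presheaf on a covering sieve. -/
lemma lift_of_surj {I Q : Sheaf J AddCommGrpCat.{u}} (g : I ⟶ Q) {X : C} (R : Sieve X)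
    (hR : R ∈ J X) (hsurj : Function.Surjective (g.hom.app (op X)))
    (ψ : (Zf (⊥ : GrothendieckTopology C)).obj (RSh R) ⟶ (ι J).obj Q) :
    ∃ ψ' : (Zf (⊥ : GrothendieckTopology C)).obj (RSh R) ⟶ (ι J).obj I,
      ψ' ≫ (ι J).map g = ψ := by
  let σ : R.functor ⟶ Q.obj ⋙ forget AddCommGrpCat.{u} :=
    ((freeAdj (⊥ : GrothendieckTopology C)).homEquiv (RSh R) ((ι J).obj Q) ψ).hom
  obtain ⟨τ, hτ, -⟩ := yoneda_cond Q R hR σ
  obtain ⟨t₀, ht₀⟩ := hsurj (yonedaEquiv τ)
  let τ' : yoneda.obj X ⟶ I.obj ⋙ forget AddCommGrpCat.{u} := yonedaEquiv.symm t₀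
  have hτ' : τ' ≫ Functor.whiskerRight g.hom (forget AddCommGrpCat.{u}) = τ := by
    apply yonedaEquiv.injective
    rw [yonedaEquiv_comp, Equiv.apply_symm_apply]
    exact ht₀
  refine ⟨((freeAdj (⊥ : GrothendieckTopology C)).homEquiv (RSh R) ((ι J).obj I)).symm
    ⟨R.functorInclusion ≫ τ'⟩, ?_⟩
  apply ((freeAdj (⊥ : GrothendieckTopology C)).homEquiv (RSh R) ((ι J).obj Q)).injective
  rw [Adjunction.homEquiv_naturality_right, Equiv.apply_symm_apply]
  apply Sheaf.hom_ext
  change (R.functorInclusion ≫ τ') ≫ Functor.whiskerRight g.hom (forget AddCommGrpCat.{u}) = σ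
  rw [Category.assoc, hτ', hτ]

/-- The forward direction. -/
theorem forward (F : Sheaf J AddCommGrpCat.{u}) (hF : IsCAcyclic F) {X : C} (R : Sieve X)
    (hR : R ∈ J X) (q : ℕ) :
    ∀ x : Ext ((Zf (⊥ : GrothendieckTopology C)).obj (RSh R)) ((ι J).obj F) (q + 1), x = 0 := by
  refine Groth.Agent.Lib.Lead.ext_succ_eq_zero _
    (fun G => ∃ F' : Sheaf J AddCommGrpCat.{u}, IsCAcyclic F' ∧ G = (ι J).obj F') ?_ q _
    ⟨F, hF, rfl⟩
  rintro G ⟨F', hF', rfl⟩
  have hsurj : ∀ U : C, Function.Surjective ((S0865.ses F').g.hom.app (op U)) :=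
    fun U => surj_g_of_H1 F' U (hF' U 0)
  have hI : Injective ((S0865.ses F').map (ι J)).X₂ := by
    change Injective ((ι J).obj (S0865.ses F').X₂)
    infer_instance
  have h1 : ((S0865.ses F').map (ι J)).X₁ = (ι J).obj F' := rfl
  have h3 : ∃ F'' : Sheaf J AddCommGrpCat.{u}, IsCAcyclic F'' ∧
      ((S0865.ses F').map (ι J)).X₃ = (ι J).obj F'' :=
    ⟨(S0865.ses F').X₃, isCAcyclic_X₃ F' hF', rfl⟩
  have h4 : ∀ ψ : (Zf (⊥ : GrothendieckTopology C)).obj (RSh R) ⟶ ((S0865.ses F').map (ι J)).X₃,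
      ∃ ψ' : (Zf (⊥ : GrothendieckTopology C)).obj (RSh R) ⟶ ((S0865.ses F').map (ι J)).X₂,
        ψ' ≫ ((S0865.ses F').map (ι J)).g = ψ := by
    intro ψ
    exact lift_of_surj (S0865.ses F').g R hR (hsurj X) ψ
  exact ⟨(S0865.ses F').map (ι J), ιses_shortExact F' hsurj, h1, hI, h3, h4⟩

end


section

variable {C : Type u} [SmallCategory C] {J : GrothendieckTopology C}

/-- Sectionwise injectivity of a monomorphism of abelian presheaves. -/
lemma injective_app_of_mono {P Q' : PSh C} (m : P ⟶ Q') [Mono m] (V : Cᵒᵖ) :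
    Function.Injective (m.hom.app V) := by
  have h1 : Mono ((sheafToPresheaf (⊥ : GrothendieckTopology C) AddCommGrpCat.{u}).map m) :=
    inferInstance
  have h2 : Mono m.hom := h1
  have h3 : Mono (m.hom.app V) := inferInstance
  exact (AddCommGrpCat.mono_iff_injective _).1 h3

/-- Factoring a family of sections over a sieve through a subpresheaf. -/
lemma exists_factor {P Q' : PSh C} (m : P ⟶ Q') [Mono m] {X : C} (R : Sieve X)
    (σ : R.functor ⟶ Q'.obj ⋙ forget AddCommGrpCat.{u})
    (h : ∀ (V : Cᵒᵖ) (f : R.functor.obj V), ∃ c : P.obj.obj V, m.hom.app V c = σ.app V f) :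
    ∃ φ : R.functor ⟶ P.obj ⋙ forget AddCommGrpCat.{u},
      φ ≫ Functor.whiskerRight m.hom (forget AddCommGrpCat.{u}) = σ := by
  choose c hc using h
  refine ⟨{ app := fun V => TypeCat.ofHom (fun f => c V f), naturality := ?_ }, ?_⟩
  · intro V W k
    ext f
    apply injective_app_of_mono m W
    have h1 := hc W (R.functor.map k f)
    have h2 := hc V f
    have h3 := NatTrans.naturality_apply σ k f
    have h4 := NatTrans.naturality_apply m.hom k (c V f)
    change m.hom.app W (c W (R.functor.map k f)) = m.hom.app W (P.obj.map k (c V f))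
    rw [h1, h4, h2]
    exact h3
  · ext V f
    exact hc V f

/-- The cokernel of the first map of an exact short complex, packaged opaquely. -/
lemma exists_cokernel_factor {A : Type*} [Category A] [Abelian A] (S : ShortComplex A)
    (hS : S.Exact) [Mono S.f] :
    ∃ (Cq : A) (e : S.X₂ ⟶ Cq) (m : Cq ⟶ S.X₃) (w : S.f ≫ e = 0), Mono m ∧ e ≫ m = S.g ∧
      (ShortComplex.mk S.f e w).ShortExact :=
  ⟨cokernel S.f, cokernel.π S.f, cokernel.desc S.f S.g S.zero, cokernel.condition S.f,
    (ShortComplex.exact_iff_mono_cokernel_desc S).1 hS, cokernel.π_desc _ _ _,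
    { exact := ShortComplex.exact_cokernel S.f
      mono_f := ‹Mono S.f›
      epi_g := inferInstanceAs (Epi (cokernel.π S.f)) }⟩

/-- The cokernel presheaf of `F ⟶ I`, packaged opaquely. -/
lemma exists_cokernel_factor_ι (F : Sheaf J AddCommGrpCat.{u}) :
    ∃ (Cq : PSh C) (e : (ι J).obj (S0865.ses F).X₂ ⟶ Cq) (m : Cq ⟶ (ι J).obj (S0865.ses F).X₃)
      (w : (ι J).map (S0865.ses F).f ≫ e = 0), Mono m ∧ e ≫ m = (ι J).map (S0865.ses F).g ∧
        (ShortComplex.mk ((ι J).map (S0865.ses F).f) e w).ShortExact := by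
  have hS := S0865.ses_shortExact F
  have hmono : Mono (S0865.ses F).f := hS.mono_f
  have hexact : ((S0865.ses F).map (ι J)).Exact :=
    hS.exact.map_of_mono_of_preservesKernel (ι J) hmono inferInstance
  have hmono' : Mono ((S0865.ses F).map (ι J)).f :=
    inferInstanceAs (Mono ((ι J).map (S0865.ses F).f))
  exact exists_cokernel_factor ((S0865.ses F).map (ι J)) hexact

/-- (L1) the key surjectivity. -/
lemma surj_of_vanishing (F : Sheaf J AddCommGrpCat.{u})
    (h : ∀ (X : C) (R : Sieve X), R ∈ J X →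
      ∀ x : Ext ((Zf (⊥ : GrothendieckTopology C)).obj (RSh R)) ((ι J).obj F) 1, x = 0)
    (X : C) : Function.Surjective ((S0865.ses F).g.hom.app (op X)) := by
  intro s₀
  have hS := S0865.ses_shortExact F
  have hepi : Epi (S0865.ses F).g := hS.epi_g
  have hloc : Sheaf.IsLocallySurjective (S0865.ses F).g :=
    (Sheaf.isLocallySurjective_iff_epi' (φ := (S0865.ses F).g)).2 hepi
  have hloc' : Presheaf.IsLocallySurjective J (S0865.ses F).g.hom := hloc
  have hR : Presheaf.imageSieve (S0865.ses F).g.hom s₀ ∈ J X :=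
    Presheaf.imageSieve_mem J (S0865.ses F).g.hom (U := op X) s₀
  have hRarrows : ∀ (V : Cᵒᵖ) (f : (Presheaf.imageSieve (S0865.ses F).g.hom s₀).functor.obj V),
      ∃ t : (S0865.ses F).X₂.obj.obj V,
        (S0865.ses F).g.hom.app V t = (S0865.ses F).X₃.obj.map f.1.op s₀ :=
    fun V f => f.2
  generalize Presheaf.imageSieve (S0865.ses F).g.hom s₀ = R at hR hRarrows
  obtain ⟨Cq, e, m, w, hm, hem, hS'⟩ := exists_cokernel_factor_ι F
  -- the family of restrictions of `s₀`
  obtain ⟨σ, hσ⟩ : ∃ σ : R.functor ⟶ (S0865.ses F).X₃.obj ⋙ forget AddCommGrpCat.{u},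
      σ = R.functorInclusion ≫ yonedaEquiv.symm s₀ := ⟨_, rfl⟩
  have hσapp : ∀ (V : Cᵒᵖ) (f : R.functor.obj V),
      σ.app V f = (S0865.ses F).X₃.obj.map f.1.op s₀ := by
    intro V f
    rw [hσ]
    rfl
  have hfac : ∀ (V : Cᵒᵖ) (f : R.functor.obj V), ∃ c : Cq.obj.obj V, m.hom.app V c = σ.app V f := by
    intro V f
    obtain ⟨t, ht⟩ := hRarrows V f
    have h1 : m.hom.app V (e.hom.app V t) = (S0865.ses F).g.hom.app V t :=
      congrArg (fun z => z.hom.app V t) hem
    have h2 : m.hom.app V (e.hom.app V t) = σ.app V f :=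
      h1.trans (ht.trans (hσapp V f).symm)
    exact ⟨e.hom.app V t, h2⟩
  obtain ⟨φb, hφb⟩ := exists_factor m R σ hfac
  obtain ⟨ψ, hψ⟩ : ∃ ψ : (Zf (⊥ : GrothendieckTopology C)).obj (RSh R) ⟶
      (ι J).obj (S0865.ses F).X₃,
      ψ = ((freeAdj (⊥ : GrothendieckTopology C)).homEquiv (RSh R)
        ((ι J).obj (S0865.ses F).X₃)).symm ⟨σ⟩ := ⟨_, rfl⟩
  obtain ⟨φ, hφ⟩ : ∃ φ : (Zf (⊥ : GrothendieckTopology C)).obj (RSh R) ⟶ Cq,
      φ = ((freeAdj (⊥ : GrothendieckTopology C)).homEquiv (RSh R) Cq).symm ⟨φb⟩ := ⟨_, rfl⟩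
  have hφm : φ ≫ m = ψ := by
    apply ((freeAdj (⊥ : GrothendieckTopology C)).homEquiv (RSh R) _).injective
    rw [Adjunction.homEquiv_naturality_right, hφ, hψ, Equiv.apply_symm_apply,
      Equiv.apply_symm_apply]
    apply Sheaf.hom_ext
    exact hφb
  -- lift `φ` through `e`
  have h1 : (Ext.mk₀ φ).comp hS'.extClass (zero_add 1) = 0 := h X R hR _
  obtain ⟨z, hz⟩ := Ext.covariant_sequence_exact₃ _ hS' (Ext.mk₀ φ) (zero_add 1) h1
  obtain ⟨ψ'', rfl⟩ := (Ext.mk₀_bijective _ _).surjective z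
  rw [Ext.mk₀_comp_mk₀] at hz
  have hz' : ψ'' ≫ e = φ := (Ext.mk₀_bijective _ _).injective hz
  -- glue
  obtain ⟨σ'', hσ''def⟩ : ∃ σ'' : R.functor ⟶ (S0865.ses F).X₂.obj ⋙ forget AddCommGrpCat.{u},
      σ'' = ((freeAdj (⊥ : GrothendieckTopology C)).homEquiv (RSh R) _ ψ'').hom := ⟨_, rfl⟩
  have hσ'' : σ'' ≫ Functor.whiskerRight (S0865.ses F).g.hom (forget AddCommGrpCat.{u}) = σ := by
    have h2 : ψ'' ≫ (ι J).map (S0865.ses F).g = ψ := by
      rw [← hem, ← Category.assoc, hz', hφm]
    have h3 := Adjunction.homEquiv_naturality_right (freeAdj (⊥ : GrothendieckTopology C)) ψ''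
      ((ι J).map (S0865.ses F).g)
    rw [h2, hψ, Equiv.apply_symm_apply] at h3
    rw [hσ''def]
    exact (congrArg (fun z => z.hom) h3).symm
  obtain ⟨τ, hτ, -⟩ := yoneda_cond (S0865.ses F).X₂ R hR σ''
  obtain ⟨τQ, -, huniq⟩ := yoneda_cond (S0865.ses F).X₃ R hR σ
  have key : τ ≫ Functor.whiskerRight (S0865.ses F).g.hom (forget AddCommGrpCat.{u}) =
      yonedaEquiv.symm s₀ := by
    have h4 : R.functorInclusion ≫
        (τ ≫ Functor.whiskerRight (S0865.ses F).g.hom (forget AddCommGrpCat.{u})) = σ := by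
      rw [← Category.assoc, hτ, hσ'']
    exact (huniq _ h4).trans (huniq _ hσ.symm).symm
  have h5 := congrArg yonedaEquiv key
  rw [yonedaEquiv_comp, Equiv.apply_symm_apply] at h5
  have h6 : (S0865.ses F).g.hom.app (op X) (yonedaEquiv τ) = s₀ := h5
  exact ⟨yonedaEquiv τ, h6⟩

end


section

variable {C : Type u} [SmallCategory C] {J : GrothendieckTopology C}

/-- Vanishing of the presheaf cohomology of all covering sieves. -/
def Vanishing (F : Sheaf J AddCommGrpCat.{u}) : Prop :=
  ∀ (X : C) (R : Sieve X), R ∈ J X → ∀ (q : ℕ)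
    (x : Ext ((Zf (⊥ : GrothendieckTopology C)).obj (RSh R)) ((ι J).obj F) (q + 1)), x = 0

lemma surj_of_Vanishing (F : Sheaf J AddCommGrpCat.{u}) (hF : Vanishing F) (U : C) :
    Function.Surjective ((S0865.ses F).g.hom.app (op U)) :=
  surj_of_vanishing F (fun X R hR x => hF X R hR 0 x) U

lemma vanishing_X₃ (F : Sheaf J AddCommGrpCat.{u}) (hF : Vanishing F) :
    Vanishing (S0865.ses F).X₃ := by
  intro X R hR q y
  have hS' := ιses_shortExact F (surj_of_Vanishing F hF)
  have h1 : y.comp hS'.extClass (rfl : q + 1 + 1 = q + 2) = 0 := hF X R hR (q + 1) _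
  obtain ⟨z, rfl⟩ := Ext.covariant_sequence_exact₃ _ hS' y rfl h1
  have : Injective ((S0865.ses F).map (ι J)).X₂ := by
    change Injective ((ι J).obj (S0865.ses F).X₂)
    infer_instance
  rw [Ext.eq_zero_of_injective z, Ext.zero_comp]
  rfl

/-- The backward direction. -/
theorem backward (F : Sheaf J AddCommGrpCat.{u}) (hF : Vanishing F) (X : C) (q : ℕ) :
    ∀ x : Ext (ZU J X) F (q + 1), x = 0 := by
  refine Groth.Agent.Lib.Lead.ext_succ_eq_zero (ZU J X) Vanishing ?_ q F hF
  intro F' hF'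
  refine ⟨S0865.ses F', S0865.ses_shortExact F', rfl, inferInstance, vanishing_X₃ F' hF', ?_⟩
  intro ψ
  exact ZU_lift X (S0865.ses F').g (surj_of_Vanishing F' hF' X) ψ

end


/-- An abelian sheaf F on a small site (C, J) is C-acyclic, i.e. H^q(X, F) = 0 for all objects X and q >
0, if and only if H^q(R, H^0(F)) = 0 for every object X, every covering sieve R of X and every q >
0, where H^0(F) is the underlying presheaf of F and H^q(R, -), for a presheaf of sets R, is the q-th
Ext out of the free abelian presheaf on R computed in abelian presheaves (the sheaves for the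
trivial topology). -/
theorem result {C : Type u} [SmallCategory C] (J : GrothendieckTopology C)
    (F : Sheaf J AddCommGrpCat.{u}) :
    (∀ (X : C) (q : ℕ), Subsingleton (CohSite.HU F (q + 1) X)) ↔
      ∀ (X : C) (R : Sieve X), R ∈ J X → ∀ q : ℕ,
        Subsingleton (CohCx.HK (J := (⊥ : GrothendieckTopology C)) ⟨R.functor, Presheaf.isSheaf_bot _⟩
          ⟨F.obj, Presheaf.isSheaf_bot _⟩ (q + 1)) := by
  constructor
  · intro h X R hR q
    refine subsingleton_of_forall_eq 0 (fun x => ?_)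
    exact forward F h R hR q x
  · intro h X q
    refine subsingleton_of_forall_eq 0 (fun x => ?_)
    exact backward F (fun X R hR q x => @Subsingleton.elim _ (h X R hR q) x 0) X q x

end Groth.Agent.S6178
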