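import Groth.Statements.S6179
import Groth.Agent.Lib.Helper3.StrictHensSection

set_option autoImplicit false
open CategoryTheory CategoryTheory.Limits AlgebraicGeometry Opposite
universe u
open EtDesc

namespace Groth.Agent.S6179

/-- Let R be a strictly henselian local ring, X = Spec R and x̄ : Spec κ(R) -> X the closed geometric
point. For every etale sheaf of sets F on X the canonical map Γ(X, F) -> F_x̄ into the stalk (the
colimit of F(X') over the x̄-pointed etale X-schemes X', taken at X' = X) is bijective; in
particular the global-sections functor is isomorphic to the fibre functor at x̄ and commutes with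
all colimits. -/
theorem result (R : Type u) [CommRing R]
    [HenselianLocalRing R] [IsSepClosed (IsLocalRing.ResidueField R)]
    (F : EtDesc.Sh (Spec (CommRingCat.of R))) :
    Function.Bijective ((Scheme.pointSmallEtale
      (Spec.map (CommRingCat.ofHom (IsLocalRing.residue R)))).toPresheafFiber (A := Type (u + 1))
        (EtCoh.top (Spec (CommRingCat.of R)))
        (Over.homMk (Spec.map (CommRingCat.ofHom (IsLocalRing.residue R))) (Category.comp_id _)) F.obj) := by
  open Groth.Agent.Lib.Helper3.StrictHensSection in
  set s := Spec.map (CommRingCat.ofHom (IsLocalRing.residue R)) with hs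
  set Φ := Scheme.pointSmallEtale s with hΦ
  set x₀ : Φ.fiber.obj (EtCoh.top (Spec (CommRingCat.of R))) :=
    Over.homMk s (Category.comp_id _) with hx₀
  -- sections through lifts
  have key : ∀ (Y : (Spec (CommRingCat.of R)).Etale) (y : Φ.fiber.obj Y),
      ∃ σ : EtCoh.top (Spec (CommRingCat.of R)) ⟶ Y, Φ.fiber.map σ x₀ = y := by
    intro Y y
    have hY : Etale Y.hom := Y.prop
    obtain ⟨σ, hσ1, hσ2⟩ := exists_section_of_etale_of_henselian R Y.hom y.left (Over.w y)
    refine ⟨MorphismProperty.Over.homMk σ (by exact hσ1) trivial, ?_⟩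
    apply Over.OverMorphism.ext
    exact hσ2
  have hid : ∀ f : EtCoh.top (Spec (CommRingCat.of R)) ⟶ EtCoh.top (Spec (CommRingCat.of R)),
      f = 𝟙 _ := by
    intro f
    apply MorphismProperty.Over.Hom.ext
    have : f.left ≫ 𝟙 _ = 𝟙 _ := MorphismProperty.Over.w f
    rw [Category.comp_id] at this
    exact this
  constructor
  · intro z₁ z₂ h
    rw [Φ.toPresheafFiber_eq_iff'] at h
    obtain ⟨Y, f, y, hy, hz⟩ := h
    obtain ⟨σ, hσ⟩ := key Y y
    have h1 : σ ≫ f = 𝟙 _ := hid _
    have h2 := congrArg (F.obj.map σ.op) hz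
    have h3 : ∀ z, F.obj.map σ.op (F.obj.map f.op z) = z := by
      intro z
      rw [← Functor.map_comp_apply, ← op_comp, h1, op_id, Functor.map_id_apply]
    rw [h3, h3] at h2
    exact h2
  · intro p
    obtain ⟨Y, y, z, rfl⟩ := Φ.toPresheafFiber_jointly_surjective (P := F.obj) p
    obtain ⟨σ, hσ⟩ := key Y y
    refine ⟨F.obj.map σ.op z, ?_⟩
    have := Φ.toPresheafFiber_w σ x₀ F.obj
    rw [hσ] at this
    exact ConcreteCategory.congr_hom this z

end Groth.Agent.S6179
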