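import Groth.Statements.S6191
import Groth.Agent.Lib.Helper28.FlatAmpStalk
import Groth.Agent.Lib.Helper5.PushStalk
import Groth.Agent.Lib.Helper35.StalkTA
import Groth.Agent.S6946

set_option autoImplicit false
universe u
open CategoryTheory CategoryTheory.Limits AlgebraicGeometry
attribute [local instance] HasDerivedCategory.standard
open KSix



namespace Groth.Agent.S6191

/-- Let i : X ⟶ X' be a closed immersion, f' : X' ⟶ Y smooth, f = i ≫ f', and F a cochain complex of
O_X-modules whose termwise direct image i_* F has tor amplitude in [a, b] in the absolute sense on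
X' (it is isomorphic in D(O_X') to a complex of flat O_X'-modules placed in [a, b]). Then F has tor
amplitude in [a, b] relative to f (stalkwise flat models placed in [a, b] over the local rings of
Y). -/
theorem result {X X' Y : Scheme.{u}} (i : X ⟶ X') [IsClosedImmersion i]
    (f' : X' ⟶ Y) [Smooth f'] (F : CochainComplex X.Modules ℤ) (a b : ℤ)
    (hF : DCoh.HasFlatAmplitudeIn a b (DCoh.toD X' (((Scheme.Modules.pushforward i).mapHomologicalComplex (ComplexShape.up ℤ)).obj F))) :
    DerSch.HasTorAmplitude (i ≫ f') a b F := by
  have h1 : DerSch.HasTorAmplitude i a b F := by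
    intro x
    have h := (Groth.Agent.Lib.Helper28.FlatAmpStalk.hasFlatAmplitudeIn_iff_stalks _ a b).1 hF
      (i.base x)
    exact Groth.Agent.Lib.Helper35.TA.TAmp.of_iso h (DerivedCategory.Q.mapIso
      ((Functor.mapHomologicalComplexCompIso
        (Groth.Agent.Lib.Helper5.PushStalk.pushStalkIso i x) (ComplexShape.up ℤ)).app F))
  have hf' : DerSch.HasTorDimLE f' 0 := by
    intro x'
    letI := (f'.stalkMap x').hom.toAlgebra
    have hfl : Module.Flat (Y.presheaf.stalk (f'.base x')) (X'.presheaf.stalk x') :=
      Flat.stalkMap f' x'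
    have h2 := (Groth.Agent.S6946.result (Y.presheaf.stalk (f'.base x'))
      (X'.presheaf.stalk x') 0).1.mp
      ((Groth.Agent.S6946.result (Y.presheaf.stalk (f'.base x'))
        (X'.presheaf.stalk x') 0).2.mpr hfl)
    exact Groth.Agent.Lib.Helper35.TA.TAmp.of_iso h2
      (Groth.Agent.Lib.Helper35.StalkTA.stalkUnitIso f' x').symm
  have h3 := Groth.Agent.Lib.Helper35.StalkTA.hasTorAmplitude_comp i f' 0 hf' F a b h1
  simpa using h3

end Groth.Agent.S6191
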