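import Groth.Statements.S6235
import Groth.Agent.Lib.Helper28.ClosedPushQCoh

set_option autoImplicit false
universe u
open CategoryTheory CategoryTheory.Limits AlgebraicGeometry
attribute [local instance] HasDerivedCategory.standard
open KSix

open Groth.Agent.Lib.Helper28

namespace Groth.Agent.S6235

/-- Let f : X ⟶ Y be a morphism of schemes and E an object of D(O_X) which is pseudo-coherent relative
to f (chart form, every degree; in particular f is locally of finite type). Then the cohomology
sheaves of E are quasi-coherent. -/
theorem result {X Y : Scheme.{u}} (f : X ⟶ Y) (E : DCoh.D X)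
    (hE : DerSch.IsPseudoCoherentRelAll f E) : DCoh.IsQCohD E := by
  intro i
  exact Groth.Agent.Lib.Helper28.ClosedPushQCoh.isQuasicoherent_HD_of_isPseudoCoherentRel f (i - 1) E
    (hE (i - 1)) i (by omega)

end Groth.Agent.S6235
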