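import Groth.Statements.S6239


set_option autoImplicit false
universe u
open CategoryTheory CategoryTheory.Limits AlgebraicGeometry
attribute [local instance] HasDerivedCategory.standard
open KSix



namespace Groth.Agent.S6239

/-- Let f : X ⟶ Y be a morphism with X quasi-compact and F a cochain complex of O_X-modules which is
perfect relative to f (pseudo-coherent relative to f in chart form, and locally on X of finite
stalkwise tor amplitude over the local rings of Y). Then F has finite perfect amplitude relative to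
f: one interval [a, b] works at every point of X. -/
theorem result {X Y : Scheme.{u}} [CompactSpace X] (f : X ⟶ Y)
    (F : CochainComplex X.Modules ℤ) (hF : DerSch.IsPerfectRel f F) :
    DerSch.HasFinitePerfAmplitudeRel f F := by
  obtain ⟨hpc, hloc⟩ := hF
  choose V a b hxV hV using hloc
  obtain ⟨t, ht⟩ := isCompact_univ.elim_finite_subcover (fun x => ((V x : X.Opens) : Set X))
    (fun x => (V x).isOpen) (fun x _ => Set.mem_iUnion.2 ⟨x, hxV x⟩)
  obtain ⟨a₀, ha₀⟩ := (t.image (fun x => - a x)).exists_le
  obtain ⟨b₀, hb₀⟩ := (t.image b).exists_le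
  refine ⟨-a₀, b₀, hpc, fun x => ?_⟩
  obtain ⟨y, hy⟩ := Set.mem_iUnion.1 (ht (Set.mem_univ x))
  obtain ⟨hyt, hxy⟩ := Set.mem_iUnion.1 hy
  obtain ⟨E, hE, hflat, hiso⟩ := hV y x hxy
  refine ⟨E, fun i hi => hE i ?_, hflat, hiso⟩
  have h1 : - a y ≤ a₀ := ha₀ _ (Finset.mem_image_of_mem (fun x => - a x) hyt)
  have h2 : b y ≤ b₀ := hb₀ _ (Finset.mem_image_of_mem b hyt)
  omega

end Groth.Agent.S6239
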