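import Groth.Statements.S6263
import Mathlib

set_option autoImplicit false
universe u
open CAlg

namespace Groth.Agent.S6263


open scoped TensorProduct in
/-- For a flat module `N` and `r ∉ p` (prime), `r` is a nonzerodivisor on `N / pN`. -/
lemma mem_smul_top_of_smul_mem {R : Type u} [CommRing R] (N : Type u) [AddCommGroup N]
    [Module R N] [Module.Flat R N] (p : Ideal R) [p.IsPrime] (r : R) (hr : r ∉ p) (m : N)
    (h : r • m ∈ p • (⊤ : Submodule R N)) : m ∈ p • (⊤ : Submodule R N) := by
  let μ : (R ⧸ p) →ₗ[R] (R ⧸ p) := r • LinearMap.id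
  have hμ : Function.Injective μ := by
    rw [injective_iff_map_eq_zero]
    intro x hx
    have hx' : Ideal.Quotient.mk p r * x = 0 := by
      have : r • x = 0 := hx
      rwa [Algebra.smul_def] at this
    rcases mul_eq_zero.mp hx' with h0 | h0
    · exact absurd (Ideal.Quotient.eq_zero_iff_mem.mp h0) hr
    · exact h0
  have hinj := Module.Flat.rTensor_preserves_injective_linearMap (M := N) μ hμ
  have hμN : μ.rTensor N = r • LinearMap.id := by
    simp [μ, LinearMap.rTensor_smul]
  let e := TensorProduct.quotTensorEquivQuotSMul N p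
  have h0 : (Submodule.Quotient.mk m : N ⧸ (p • (⊤ : Submodule R N))) = 0 := by
    apply e.symm.injective
    rw [map_zero]
    apply hinj
    rw [map_zero, hμN, LinearMap.smul_apply, LinearMap.id_apply, ← map_smul,
      ← Submodule.Quotient.mk_smul, (Submodule.Quotient.mk_eq_zero _).mpr h, map_zero]
  exact (Submodule.Quotient.mk_eq_zero _).mp h0

/-- Cayley–Hamilton / Nakayama: if `s N ⊆ J N` for a finite module `N`, then `s ^ d + b` kills `N`
for some `b ∈ J`. -/
lemma exists_pow_add_mem_annihilator {S : Type u} [CommRing S] (N : Type u) [AddCommGroup N]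
    [Module S N] [Module.Finite S N] (J : Ideal S) (s : S)
    (h : ∀ n : N, s • n ∈ J • (⊤ : Submodule S N)) :
    ∃ (d : ℕ) (b : S), b ∈ J ∧ s ^ d + b ∈ Module.annihilator S N := by
  let φ : Module.End S N := algebraMap S (Module.End S N) s
  have hrange : LinearMap.range φ ≤ J • (⊤ : Submodule S N) := by
    rintro _ ⟨n, rfl⟩
    simpa [φ, Module.algebraMap_end_apply] using h n
  obtain ⟨P, hPm, -, hPc, hP0⟩ :=
    LinearMap.exists_monic_and_natDegree_eq_and_coeff_mem_pow_and_aeval_eq_zero S φ J hrange
  have hkill : P.eval s ∈ Module.annihilator S N := by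
    rw [Module.mem_annihilator]
    intro n
    have h6 : algebraMap S (Module.End S N) (P.eval s) = 0 := by
      rw [← Polynomial.aeval_algebraMap_apply_eq_algebraMap_eval]; exact hP0
    have h7 := LinearMap.congr_fun h6 n
    rwa [Module.algebraMap_end_apply, LinearMap.zero_apply] at h7
  set d := P.natDegree with hd
  have heval : P.eval s = s ^ d + ∑ k ∈ Finset.range d, P.coeff k * s ^ k := by
    rw [Polynomial.eval_eq_sum_range, Finset.sum_range_succ, ← hd, hPm.coeff_natDegree, one_mul,
      add_comm]
  refine ⟨d, ∑ k ∈ Finset.range d, P.coeff k * s ^ k, ?_, heval ▸ hkill⟩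
  refine Ideal.sum_mem _ fun k hk => Ideal.mul_mem_right _ _ ?_
  have hk' : d - k ≠ 0 := by
    have := Finset.mem_range.mp hk
    omega
  exact Ideal.pow_le_self hk' (hPc k)

/-- For a ring map R → S and a finite S-module N which is flat as an R-module, generalizations lift
along the map from the support of N (a subset of Spec S) to Spec R: if p ≤ p' are primes of R and q'
is a prime of S in the support of N whose inverse image in R is p', then some prime q ≤ q' of S lies
in the support of N and has inverse image p. -/
theorem result {R S : Type u} [CommRing R] [CommRing S] [Algebra R S] (N : Type u) [AddCommGroup N] [Module S N] [Module R N] [IsScalarTower R S N] [Module.Finite S N] [Module.Flat R N] (p p' : Ideal R) [p.IsPrime] [p'.IsPrime] (hle : p ≤ p') (q' : PrimeSpectrum S) (hq' : q' ∈ Module.support S N) (hover : q'.asIdeal.under R = p') : ∃ q : PrimeSpectrum S, q ≤ q' ∧ q ∈ Module.support S N ∧ q.asIdeal.under R = p := by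
  classical
  let I := Module.annihilator S N
  let J := Ideal.map (algebraMap R S) p
  let T : Submonoid S := (p.primeCompl.map (algebraMap R S : R →* S)) ⊔ q'.asIdeal.primeCompl
  have hJq' : J ≤ q'.asIdeal := by
    rw [Ideal.map_le_iff_le_comap]
    intro x hx
    have : x ∈ q'.asIdeal.under R := by rw [hover]; exact hle hx
    exact this
  have hIq' : I ≤ q'.asIdeal := (Module.mem_support_iff_of_finite).mp hq'
  have hres : ∀ n : N, n ∈ J • (⊤ : Submodule S N) ↔ n ∈ p • (⊤ : Submodule R N) := by
    intro n
    have h4 := Ideal.smul_restrictScalars p (⊤ : Submodule S N)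
    rw [Submodule.restrictScalars_top] at h4
    rw [← h4]
    rfl
  have hdisj : Disjoint ((I ⊔ J : Ideal S) : Set S) (T : Set S) := by
    rw [Set.disjoint_left]
    rintro x hxIJ hxT
    obtain ⟨y, hy, s, hs, rfl⟩ := Submonoid.mem_sup.mp hxT
    obtain ⟨r, hr, rfl⟩ := hy
    obtain ⟨a, ha, b, hb, hab⟩ := Submodule.mem_sup.mp hxIJ
    have h1 : ∀ n : N, (algebraMap R S r * s) • n ∈ J • (⊤ : Submodule S N) := by
      intro n
      have : (algebraMap R S r * s) • n = (a + b) • n := by
        rw [hab]; rfl
      rw [this, add_smul, Module.mem_annihilator.mp ha n, zero_add]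
      exact Submodule.smul_mem_smul hb trivial
    have h2 : ∀ n : N, s • n ∈ J • (⊤ : Submodule S N) := by
      intro n
      have h3 : r • (s • n) ∈ p • (⊤ : Submodule R N) := by
        have := h1 n
        rw [mul_smul, algebraMap_smul] at this
        exact (hres _).mp this
      exact (hres _).mpr (mem_smul_top_of_smul_mem N p r hr (s • n) h3)
    obtain ⟨d, b', hb', hann⟩ := exists_pow_add_mem_annihilator N J s h2
    have hsd : s ^ d ∈ q'.asIdeal := by
      have h6 := hIq' hann
      have h7 := hJq' hb'
      have := q'.asIdeal.sub_mem h6 h7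
      simpa using this
    exact hs (q'.isPrime.mem_of_pow_mem d hsd)
  obtain ⟨q, hqprime, hIJq, hqT⟩ := Ideal.exists_le_prime_disjoint (I ⊔ J) T hdisj
  refine ⟨⟨q, hqprime⟩, ?_, ?_, ?_⟩
  · rw [← PrimeSpectrum.asIdeal_le_asIdeal]
    intro x hx
    by_contra hx'
    exact Set.disjoint_left.mp hqT hx (Submonoid.mem_sup_right (show x ∈ q'.asIdeal.primeCompl from hx'))
  · exact Module.mem_support_iff_of_finite.mpr (le_sup_left.trans hIJq)
  · ext x
    constructor
    · intro hx
      by_contra hxp
      have hx1 : algebraMap R S x ∈ q := hx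
      exact Set.disjoint_left.mp hqT hx1
        (Submonoid.mem_sup_left (Submonoid.mem_map.mpr ⟨x, hxp, rfl⟩))
    · intro hx
      exact hIJq (Ideal.mem_sup_right (Ideal.mem_map_of_mem _ hx))

end Groth.Agent.S6263
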