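import Groth.Statements.S6264
import Mathlib
import Groth.Agent.Lib.Helper30.LocAtPrime

set_option autoImplicit false
universe u
open CAlg

namespace Groth.Agent.S6264

/-- Let R → S be a ring map with the going-up property and p a prime of R such that exactly one prime q
of S lies over p. Then the localization S_p of S at the image of R - p is a localization of S at q,
i.e. S_p = S_q. -/
theorem result {R S : Type u} [CommRing R] [CommRing S] [Algebra R S] [Algebra.HasGoingUp R S] (p : Ideal R) [p.IsPrime] (q : Ideal S) [q.IsPrime] [q.LiesOver p] (huniq : ∀ q' : Ideal S, q'.IsPrime → q'.under R = p → q' = q) : IsLocalization.AtPrime (Localization (Algebra.algebraMapSubmonoid S p.primeCompl)) q := by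
  apply Groth.Agent.Lib.Helper30.isLocalization_atPrime_of_forall_le
  intro q' hq' hdisj
  have hle : q'.under R ≤ p := by
    intro r hr
    by_contra hrp
    exact Set.disjoint_left.mp hdisj ⟨r, hrp, rfl⟩ hr
  have : q'.LiesOver (q'.under R) := ⟨rfl⟩
  obtain ⟨Q, hQ, hQprime, hQover⟩ :=
    Ideal.exists_ideal_ge_liesOver_of_le (p := q'.under R) (q := p) q' hle
  have : Q = q := huniq Q hQprime (hQover.over).symm
  rw [← this]
  exact hQ

end Groth.Agent.S6264
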