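import Groth.Statements.S6266
import Mathlib
import Groth.Agent.Lib.Helper30.SurjLocus

set_option autoImplicit false
universe u
open scoped TensorProduct
open CAlg

namespace Groth.Agent.S6266


section helpers

variable {R : Type u} [CommRing R] {M : Type u} [AddCommGroup M] [Module R M]

/-- Lemma A: lift a basis of the fibre. -/
lemma exists_fiber_basis_lift [Module.Finite R M] (p : PrimeSpectrum R) (n : ℕ)
    (hn : Module.finrank p.asIdeal.ResidueField (p.asIdeal.ResidueField ⊗[R] M) = n) :
    ∃ (x : Fin n → M),
      Function.Surjective
        ((Fintype.linearCombination R x).lTensor p.asIdeal.ResidueField) := by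
  classical
  subst hn
  set κ := p.asIdeal.ResidueField with hκ
  set n := Module.finrank κ (κ ⊗[R] M) with hn
  let T : Set (κ ⊗[R] M) := Set.range fun m : M => (1 : κ) ⊗ₜ[R] m
  have hT : Submodule.span κ T = ⊤ := by
    rw [eq_top_iff]
    intro z _
    clear * - z
    induction z using TensorProduct.induction_on with
    | zero => exact Submodule.zero_mem _
    | add a b ha hb => exact Submodule.add_mem _ ha hb
    | tmul a m =>
      have : a ⊗ₜ[R] m = a • ((1 : κ) ⊗ₜ[R] m) := by
        rw [TensorProduct.smul_tmul', smul_eq_mul, mul_one]
      rw [this]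
      exact Submodule.smul_mem _ _ (Submodule.subset_span ⟨m, rfl⟩)
  obtain ⟨b, hbT, hbspan, hbli⟩ := exists_linearIndependent κ T
  rw [hT] at hbspan
  let B : Module.Basis b κ (κ ⊗[R] M) := Module.Basis.mk hbli (by
    rw [Subtype.range_coe_subtype]; exact hbspan.ge)
  have hfin : Fintype b := FiniteDimensional.fintypeBasisIndex B
  have hcard : Fintype.card b = n := (Module.finrank_eq_card_basis B).symm
  let e : Fin n ≃ b := (Fintype.equivFinOfCardEq hcard).symm
  have hex : ∀ i : Fin n, ∃ m : M, (1 : κ) ⊗ₜ[R] m = (e i : κ ⊗[R] M) := fun i => hbT (e i).2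
  choose x hx using hex
  refine ⟨x, ?_⟩
  -- the base change is κ-linear with range containing the basis
  have hrange : LinearMap.range ((Fintype.linearCombination R x).baseChange κ) = ⊤ := by
    rw [eq_top_iff, ← hbspan, Submodule.span_le]
    intro w hw
    obtain ⟨i, hi⟩ := e.surjective ⟨w, hw⟩
    refine ⟨(1 : κ) ⊗ₜ[R] (Pi.single i 1), ?_⟩
    rw [LinearMap.baseChange_tmul, Fintype.linearCombination_apply_single, one_smul, hx, hi]
  intro z
  have hz : z ∈ LinearMap.range ((Fintype.linearCombination R x).baseChange κ) := by
    rw [hrange]; trivial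
  obtain ⟨y, hy⟩ := hz
  exact ⟨y, by rw [← hy]; rfl⟩



/-- Lemma B: fibrewise bijective on `D(f)` over a reduced ring implies bijective after inverting `f`. -/
lemma localizedMap_bijective_of_fiber_bijective [IsReduced R] [Module.Finite R M] {n : ℕ}
    (φ : (Fin n → R) →ₗ[R] M) (f : R)
    (hsurj : ∀ q ∈ PrimeSpectrum.basicOpen f,
      Function.Surjective (φ.lTensor q.asIdeal.ResidueField))
    (hinj : ∀ q ∈ PrimeSpectrum.basicOpen f,
      Function.Injective (φ.lTensor q.asIdeal.ResidueField)) :
    Function.Bijective (LocalizedModule.map (Submonoid.powers f) φ) := by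
  constructor
  · rw [injective_iff_map_eq_zero]
    intro z hz
    induction z using LocalizedModule.induction_on with
    | h v s =>
      rw [LocalizedModule.map_mk, ← LocalizedModule.zero_mk (1 : Submonoid.powers f),
        LocalizedModule.mk_eq] at hz
      obtain ⟨c, hc⟩ := hz
      simp only [one_smul, smul_zero] at hc
      have hc' : φ ((c : R) • v) = 0 := by
        rw [map_smul]; exact hc
      set v' := (c : R) • v with hv'
      -- each coordinate of `v'` lies in every prime of `D(f)`
      have hcoord : ∀ (q : PrimeSpectrum R), f ∉ q.asIdeal → ∀ i, v' i ∈ q.asIdeal := by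
        intro q hq i
        have h1 : (φ.lTensor q.asIdeal.ResidueField) ((1 : q.asIdeal.ResidueField) ⊗ₜ[R] v') =
            (φ.lTensor q.asIdeal.ResidueField) 0 := by
          rw [LinearMap.lTensor_tmul, hc', TensorProduct.tmul_zero, map_zero]
        have h2 := hinj q hq h1
        let ψ : q.asIdeal.ResidueField ⊗[R] (Fin n → R) →ₗ[R] q.asIdeal.ResidueField :=
          (TensorProduct.rid R q.asIdeal.ResidueField).toLinearMap ∘ₗ
            (LinearMap.proj i).lTensor q.asIdeal.ResidueField
        have h3 := congrArg ψ h2
        simp only [ψ, LinearMap.comp_apply, LinearMap.lTensor_tmul, LinearMap.proj_apply,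
          LinearEquiv.coe_coe, TensorProduct.rid_tmul, map_zero] at h3
        rw [Algebra.smul_def, mul_one, Ideal.algebraMap_residueField_eq_zero] at h3
        exact h3
      have hzero : ∀ i, f * v' i = 0 := by
        intro i
        have hnil : f * v' i ∈ nilradical R := by
          rw [nilradical_eq_sInf, Ideal.mem_sInf]
          intro q hq
          have hq' : q.IsPrime := hq
          by_cases hfq : f ∈ q
          · exact q.mul_mem_right _ hfq
          · exact q.mul_mem_left _ (hcoord ⟨q, hq'⟩ hfq i)
        exact (mem_nilradical.mp hnil).eq_zero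
      rw [← LocalizedModule.zero_mk (1 : Submonoid.powers f), LocalizedModule.mk_eq]
      refine ⟨⟨f, Submonoid.mem_powers f⟩ * c, ?_⟩
      simp only [one_smul, smul_zero]
      show (f * (c : R)) • v = 0
      rw [mul_smul]
      ext i
      exact hzero i
  · refine Groth.Agent.Lib.Helper30.localizedMap_powers_surjective_of_basicOpen_subset φ f ?_
    intro q hq
    exact (Groth.Agent.Lib.Helper30.lTensor_residueField_surjective_iff_notMem_support φ q).mp
      (hsurj q hq)


end helpers

/-- Let R be a reduced ring and M an R-module. Then M is a finite projective R-module if and only if M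
is finitely generated and the function on Spec R sending a prime p to the dimension of κ(p) ⊗ M over
the residue field κ(p) is locally constant for the Zariski topology. -/
theorem result (R : Type u) [CommRing R] [IsReduced R] (M : Type u) [AddCommGroup M] [Module R M] : (Module.Finite R M ∧ Module.Projective R M) ↔ (Module.Finite R M ∧ IsLocallyConstant (fun p : PrimeSpectrum R => Module.finrank p.asIdeal.ResidueField (p.asIdeal.ResidueField ⊗[R] M))) := by
  classical
  constructor
  · rintro ⟨hfin, hproj⟩
    refine ⟨hfin, ?_⟩
    have : Module.FinitePresentation R M := Module.finitePresentation_of_projective R M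
    have h := Module.isLocallyConstant_rankAtStalk (R := R) (M := M)
    have heq : (fun p : PrimeSpectrum R => Module.finrank p.asIdeal.ResidueField
        (p.asIdeal.ResidueField ⊗[R] M)) = Module.rankAtStalk M := by
      funext p; exact (Module.rankAtStalk_eq p).symm
    rw [heq]; exact h
  · rintro ⟨hfin, hlc⟩
    refine ⟨hfin, ?_⟩
    have hloc : ∀ p : PrimeSpectrum R, ∃ f : R, f ∉ p.asIdeal ∧
        Module.Free (Localization.Away f) (LocalizedModule.Away f M) := by
      intro p
      obtain ⟨n, hn⟩ : ∃ n, Module.finrank p.asIdeal.ResidueField
          (p.asIdeal.ResidueField ⊗[R] M) = n := ⟨_, rfl⟩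
      obtain ⟨x, hx⟩ := exists_fiber_basis_lift (M := M) p n hn
      set φ := Fintype.linearCombination R x with hφ
      have hU₁ : IsOpen (Module.support R (M ⧸ LinearMap.range φ))ᶜ :=
        Module.isClosed_support.isOpen_compl
      have hp₁ : p ∈ (Module.support R (M ⧸ LinearMap.range φ))ᶜ :=
        (Groth.Agent.Lib.Helper30.lTensor_residueField_surjective_iff_notMem_support φ p).mp hx
      have hU₂ := hlc.isOpen_fiber n
      have hp₂ : p ∈ (fun p : PrimeSpectrum R => Module.finrank p.asIdeal.ResidueField
          (p.asIdeal.ResidueField ⊗[R] M)) ⁻¹' {n} := hn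
      obtain ⟨_, ⟨f, rfl⟩, hpf, hfU⟩ :=
        PrimeSpectrum.isTopologicalBasis_basic_opens.exists_subset_of_mem_open
          (show p ∈ _ ∩ _ from ⟨hp₁, hp₂⟩) (hU₁.inter hU₂)
      refine ⟨f, hpf, ?_⟩
      have hsurj : ∀ q ∈ PrimeSpectrum.basicOpen f,
          Function.Surjective (φ.lTensor q.asIdeal.ResidueField) := fun q hq =>
        (Groth.Agent.Lib.Helper30.lTensor_residueField_surjective_iff_notMem_support φ q).mpr
          (hfU hq).1
      have hinj : ∀ q ∈ PrimeSpectrum.basicOpen f,
          Function.Injective (φ.lTensor q.asIdeal.ResidueField) := by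
        intro q hq
        have hs : Function.Surjective (φ.baseChange q.asIdeal.ResidueField) := hsurj q hq
        have hq2 : Module.finrank q.asIdeal.ResidueField (q.asIdeal.ResidueField ⊗[R] M) = n :=
          (hfU hq).2
        have hrank : Module.finrank q.asIdeal.ResidueField
            (q.asIdeal.ResidueField ⊗[R] (Fin n → R)) =
            Module.finrank q.asIdeal.ResidueField (q.asIdeal.ResidueField ⊗[R] M) := by
          rw [hq2, (TensorProduct.piScalarRight R q.asIdeal.ResidueField q.asIdeal.ResidueField
            (Fin n)).finrank_eq, Module.finrank_fin_fun]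
        have := (LinearMap.injective_iff_surjective_of_finrank_eq_finrank hrank
          (f := φ.baseChange q.asIdeal.ResidueField)).mpr hs
        exact this
      have hbij := localizedMap_bijective_of_fiber_bijective φ f hsurj hinj
      let e := LinearEquiv.ofBijective (LocalizedModule.map (Submonoid.powers f) φ) hbij
      have : Module.Free (Localization.Away f)
          (LocalizedModule (Submonoid.powers f) (Fin n → R)) :=
        Module.free_of_isLocalizedModule (Submonoid.powers f)
          (LocalizedModule.mkLinearMap (Submonoid.powers f) (Fin n → R))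
      exact Module.Free.of_equiv e
    let s : Set R := {f | Module.Free (Localization.Away f) (LocalizedModule.Away f M)}
    have hs : Ideal.span s = ⊤ := by
      by_contra hne
      obtain ⟨m, hm, hsm⟩ := Ideal.exists_le_maximal _ hne
      obtain ⟨f, hfm, hfree⟩ := hloc ⟨m, hm.isPrime⟩
      exact hfm (hsm (Ideal.subset_span hfree))
    have hfp : Module.FinitePresentation R M := by
      refine Module.FinitePresentation.of_localizationSpan s hs (fun g => ?_)
      have : Module.Free (Localization.Away g.1) (LocalizedModule.Away g.1 M) := g.2
      exact Module.finitePresentation_of_projective _ _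
    have hflat : Module.Flat R M := by
      refine Module.flat_of_localized_span R M s hs (fun g => ?_)
      have : Module.Free (Localization.Away g.1) (LocalizedModule.Away g.1 M) := g.2
      exact Module.Flat.trans R (Localization.Away g.1) _
    exact Module.Flat.projective_of_finitePresentation

end Groth.Agent.S6266
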