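import Groth.Statements.S6267
import Groth.Agent.Lib.Helper84.UnivInj
-- import your own Groth.Agent.* helpers here

set_option autoImplicit false
universe u
open CAlg

namespace Groth.Agent.S6267

open TensorProduct

/-- Let R be a ring and f : M → M' a map of R-modules with M' flat. Then f is universally injective
exactly when, for each finitely generated ideal I of R, the induced map M ⊗ R/I → M' ⊗ R/I (that is,
M/IM → M'/IM') is injective. -/
theorem result {R : Type u} [CommRing R] {M M' : Type u} [AddCommGroup M] [Module R M] [AddCommGroup M'] [Module R M'] [Module.Flat R M'] (f : M →ₗ[R] M') : CAlgX.UniversallyInjective R f ↔ ∀ I : Ideal R, I.FG → Function.Injective (f.rTensor (R ⧸ I)) := by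
  constructor
  · intro h I _
    exact h (R ⧸ I)
  · intro h
    -- f is injective (the case I = 0)
    have hinj : Function.Injective f := by
      have h0 := h ⊥ Submodule.fg_bot
      intro x y hxy
      have e : ∀ z : M, f.rTensor (R ⧸ (⊥ : Ideal R)) (z ⊗ₜ[R] 1) = f z ⊗ₜ[R] 1 := fun z => rfl
      have h1 : x ⊗ₜ[R] (1 : R ⧸ (⊥ : Ideal R)) = y ⊗ₜ[R] 1 := h0 (by rw [e, e, hxy])
      -- M ⊗ R/⊥ ≅ M
      let φ : M ⊗[R] (R ⧸ (⊥ : Ideal R)) →ₗ[R] M :=
        (TensorProduct.rid R M).toLinearMap ∘ₗ
          LinearMap.lTensor M (Submodule.quotEquivOfEqBot (⊥ : Ideal R) rfl).toLinearMap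
      have hφ : ∀ z : M, φ (z ⊗ₜ[R] 1) = z := by
        intro z
        have h1 : (1 : R ⧸ (⊥ : Ideal R)) = Submodule.Quotient.mk (1 : R) := rfl
        simp only [φ, LinearMap.comp_apply, LinearMap.lTensor_tmul, LinearEquiv.coe_coe, h1,
          Submodule.quotEquivOfEqBot_apply_mk, TensorProduct.rid_tmul, one_smul]
      rw [← hφ x, ← hφ y, h1]
    have hex : Function.Exact f (LinearMap.range f).mkQ := LinearMap.exact_map_mkQ_range f
    have : Module.Flat R (M' ⧸ LinearMap.range f) :=
      Groth.Agent.Lib.Helper84.flat_of_univInj_of_exact f _ hex (Submodule.mkQ_surjective _) h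
    exact Groth.Agent.Lib.Helper84.univInj_of_exact_of_flat f _ hinj hex (Submodule.mkQ_surjective _)

end Groth.Agent.S6267
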