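import Groth.Statements.S6268
import Mathlib.LinearAlgebra.TensorProduct.RightExactness
import Mathlib.LinearAlgebra.Quotient.Basic
-- import your own Groth.Agent.* helpers here

set_option autoImplicit false
universe u
open CAlg

namespace Groth.Agent.S6268

open TensorProduct

/-- Suppose the structure map R → S of an R-algebra S is universally injective as an R-linear map. Then
tensoring with S detects injectivity and surjectivity of R-linear maps (and hence reflects
isomorphisms): for an R-linear g : M → N, if S ⊗ g is injective then so is g, and if S ⊗ g is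
surjective then so is g. -/
theorem result {R S : Type u} [CommRing R] [CommRing S] [Algebra R S] (hS : CAlgX.UniversallyInjective R (Algebra.linearMap R S)) {M N : Type u} [AddCommGroup M] [Module R M] [AddCommGroup N] [Module R N] (g : M →ₗ[R] N) : (Function.Injective (g.lTensor S) → Function.Injective g) ∧ (Function.Surjective (g.lTensor S) → Function.Surjective g) := by
  -- m ↦ 1 ⊗ m is injective for every module
  have key : ∀ (Q : Type u) [AddCommGroup Q] [Module R Q],
      Function.Injective (fun q : Q => (1 : S) ⊗ₜ[R] q) := by
    intro Q _ _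
    have h1 := hS Q
    have h2 : (fun q : Q => (1 : S) ⊗ₜ[R] q) =
        (Algebra.linearMap R S).rTensor Q ∘ (TensorProduct.lid R Q).symm := by
      funext q
      simp [Algebra.linearMap_apply]
    rw [h2]
    exact h1.comp (TensorProduct.lid R Q).symm.injective
  constructor
  · intro hg x y hxy
    apply key M
    apply hg
    show g.lTensor S ((1 : S) ⊗ₜ[R] x) = g.lTensor S ((1 : S) ⊗ₜ[R] y)
    rw [LinearMap.lTensor_tmul, LinearMap.lTensor_tmul, hxy]
  · intro hg
    have hex : Function.Exact g (LinearMap.range g).mkQ := LinearMap.exact_map_mkQ_range g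
    have hexT := lTensor_exact S hex (Submodule.mkQ_surjective _)
    have hC : ∀ c : N ⧸ LinearMap.range g, c = 0 := by
      intro c
      apply key (N ⧸ LinearMap.range g)
      show (1 : S) ⊗ₜ[R] c = (1 : S) ⊗ₜ[R] (0 : N ⧸ LinearMap.range g)
      rw [TensorProduct.tmul_zero]
      obtain ⟨n, rfl⟩ := Submodule.mkQ_surjective (LinearMap.range g) c
      have : (1 : S) ⊗ₜ[R] (LinearMap.range g).mkQ n = (LinearMap.range g).mkQ.lTensor S ((1 : S) ⊗ₜ[R] n) := rfl
      rw [this]
      obtain ⟨x, hx⟩ := hg ((1 : S) ⊗ₜ[R] n)
      rw [← hx]
      exact (hexT _).mpr ⟨x, rfl⟩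
    rw [← LinearMap.range_eq_top, ← Submodule.Quotient.subsingleton_iff]
    exact ⟨fun a b => by rw [hC a, hC b]⟩

end Groth.Agent.S6268
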