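import Groth.Statements.S6271
import Mathlib

set_option autoImplicit false
universe u
open scoped TensorProduct
open CAlg

namespace Groth.Agent.S6271


section Helpers
open TensorProduct
set_option linter.style.haveILetI false

variable {R : Type u} {A : Type u} [CommRing R] [CommRing A] [Algebra R A]

/-- A matrix with entries in a locally nilpotent ideal is nilpotent. -/
theorem isNilpotent_matrix_of_locallyNilpotent
    (hnil : ∀ x ∈ RingHom.ker (algebraMap R A), IsNilpotent x) {n : ℕ}
    (M : Matrix (Fin n) (Fin n) R) (hM : (algebraMap R A).mapMatrix M = 0) : IsNilpotent M := by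
  classical
  have hM' : ∀ i j, M i j ∈ RingHom.ker (algebraMap R A) := by
    intro i j
    have := congrFun (congrFun hM i) j
    exact RingHom.mem_ker.mpr (by simpa [RingHom.mapMatrix_apply, Matrix.map_apply] using this)
  -- the ideal generated by the entries
  let S : Finset R := Finset.univ.image (fun ij : Fin n × Fin n => M ij.1 ij.2)
  let I₀ : Ideal R := Ideal.span (S : Set R)
  have hI₀fg : I₀.FG := ⟨S, rfl⟩
  have hI₀le : I₀ ≤ nilradical R := by
    rw [Ideal.span_le]
    intro x hx
    obtain ⟨ij, -, rfl⟩ := Finset.mem_image.mp hx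
    exact mem_nilradical.mpr (hnil _ (hM' ij.1 ij.2))
  obtain ⟨N, hN⟩ := (Ideal.FG.isNilpotent_iff_le_nilradical hI₀fg).mpr hI₀le
  have hM'' : ∀ i j, M i j ∈ I₀ := fun i j =>
    Ideal.subset_span (Finset.mem_image.mpr ⟨(i, j), Finset.mem_univ _, rfl⟩)
  have key : ∀ k : ℕ, ∀ i j, (M ^ (k + 1)) i j ∈ I₀ ^ (k + 1) := by
    intro k
    induction k with
    | zero => intro i j; simpa using hM'' i j
    | succ k ih =>
      intro i j
      rw [pow_succ M (k + 1), Matrix.mul_apply, pow_succ I₀ (k + 1)]
      exact Ideal.sum_mem _ fun l _ => Ideal.mul_mem_mul (ih i l) (hM'' l j)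
  refine ⟨N + 1, ?_⟩
  ext i j
  have h1 := key N i j
  have h2 : I₀ ^ (N + 1) ≤ I₀ ^ N := Ideal.pow_le_pow_right (Nat.le_succ N)
  have h3 := h2 h1
  rw [hN] at h3
  exact h3

/-- finite projective modules lift along a surjection such that matrices over the kernel are
nilpotent (proof copied from helper78's `Lib/Helper78/PicNilpotent.lean`, generalised). -/
theorem exists_lift_projective' (hsurj : Function.Surjective (algebraMap R A))
    (hmat : ∀ (n : ℕ) (M : Matrix (Fin n) (Fin n) R), (algebraMap R A).mapMatrix M = 0 → IsNilpotent M)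
    (P : Type u) [AddCommGroup P] [Module A P] [Module.Finite A P] [Module.Projective A P] :
    ∃ (P' : Type u) (_ : AddCommGroup P') (_ : Module R P') (_ : Module.Finite R P')
      (_ : Module.Projective R P'), Nonempty (A ⊗[R] P' ≃ₗ[A] P) := by
  classical
  letI : Module R P := Module.compHom P (algebraMap R A)
  haveI : IsScalarTower R A P := ⟨fun r a x => by
    change (r • a) • x = (algebraMap R A r) • (a • x)
    rw [Algebra.smul_def, mul_smul]⟩
  obtain ⟨n, p, i, -, -, hpi⟩ := Module.Finite.exists_comp_eq_id_of_projective A P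
  have hpi' : ∀ y, p (i y) = y := fun y => LinearMap.congr_fun hpi y
  -- the idempotent matrix
  let E : Matrix (Fin n) (Fin n) A := LinearMap.toMatrix' (i ∘ₗ p)
  have hE : IsIdempotentElem E := by
    change E * E = E
    rw [← LinearMap.toMatrix'_mul]
    congr 1
    exact LinearMap.ext fun v => by
      change i (p (i (p v))) = i (p v)
      rw [hpi']
  have hEv : ∀ v, E.mulVec v = i (p v) := fun v => LinearMap.toMatrix'_mulVec _ v
  -- lift it
  have hrange : E ∈ ((algebraMap R A).mapMatrix (m := Fin n)).range := by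
    choose M₀ hM₀ using fun a b => hsurj (E a b)
    refine ⟨Matrix.of M₀, ?_⟩
    ext a b
    simp [RingHom.mapMatrix_apply, Matrix.map_apply, hM₀]
  obtain ⟨E', hE', hE'E⟩ := exists_isIdempotentElem_eq_of_ker_isNilpotent
    ((algebraMap R A).mapMatrix (m := Fin n))
    (fun M hM => hmat n M hM) E hrange hE
  let T' : (Fin n → R) →ₗ[R] (Fin n → R) := Matrix.toLin' E'
  have hT'T' : ∀ v, T' (T' v) = T' v := by
    intro v
    change Matrix.toLin' E' (Matrix.toLin' E' v) = Matrix.toLin' E' v
    rw [← LinearMap.comp_apply, ← Matrix.toLin'_mul, hE'.eq]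
  -- compatibility of `E'` and `E`
  let mapFun : (Fin n → R) →ₗ[R] (Fin n → A) := (Algebra.linearMap R A).compLeft (Fin n)
  have hmapFun : ∀ v a, mapFun v a = algebraMap R A (v a) := fun v a => rfl
  have hcompat : ∀ v, mapFun (T' v) = E.mulVec (mapFun v) := by
    intro v
    funext a
    rw [hmapFun, Matrix.toLin'_apply, RingHom.map_mulVec, ← hE'E]
    rfl
  -- the lifted module
  let P' : Submodule R (Fin n → R) := LinearMap.range T'
  have hP'fix : ∀ x : P', T' (x : Fin n → R) = x := by
    rintro ⟨_, v, rfl⟩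
    exact hT'T' v
  let proj : (Fin n → R) →ₗ[R] P' := T'.rangeRestrict
  haveI : Module.Projective R P' :=
    Module.Projective.of_split P'.subtype proj
      (LinearMap.ext fun x => Subtype.ext (hP'fix x))
  -- the comparison map
  let ρ : P' →ₗ[R] P := (p.restrictScalars R) ∘ₗ mapFun ∘ₗ P'.subtype
  have hρ : ∀ x : P', ρ x = p (mapFun (x : Fin n → R)) := fun x => rfl
  let α : A ⊗[R] P' →ₗ[A] P := ρ.liftBaseChange A
  have hα : ∀ x : P', α ((1 : A) ⊗ₜ[R] x) = p (mapFun (x : Fin n → R)) := by
    intro x
    rw [LinearMap.liftBaseChange_tmul, one_smul, hρ]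
  have hαsurj : Function.Surjective α := by
    intro y
    choose x hx using fun a => hsurj (i y a)
    refine ⟨(1 : A) ⊗ₜ[R] (proj x), ?_⟩
    rw [hα]
    have : ((proj x : P') : Fin n → R) = T' x := rfl
    rw [this, hcompat, hEv]
    have : mapFun x = i y := funext fun a => hx a
    rw [this, hpi', hpi']
  have hαinj : Function.Injective α := by
    rw [← LinearMap.ker_eq_bot, Submodule.eq_bot_iff]
    intro z hz
    obtain ⟨x, rfl⟩ := TensorProduct.mk_surjective R P' A hsurj z
    rw [LinearMap.mem_ker, TensorProduct.mk_apply, hα] at hz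
    -- all coordinates of `x` are in the kernel
    have h1 : mapFun (x : Fin n → R) = 0 := by
      have := hcompat (x : Fin n → R)
      rw [hP'fix x, hEv, hz, map_zero] at this
      exact this
    have h2 : ∀ a, algebraMap R A ((x : Fin n → R) a) = 0 := fun a => congrFun h1 a
    -- decompose `x`
    let w : Fin n → P' := fun a => proj (fun b => if a = b then 1 else 0)
    have h3 : x = ∑ a, ((x : Fin n → R) a) • w a := by
      apply Subtype.ext
      rw [Submodule.coe_sum]
      simp only [Submodule.coe_smul]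
      conv_lhs => rw [← hP'fix x, LinearMap.pi_apply_eq_sum_univ T' (x : Fin n → R)]
      rfl
    rw [TensorProduct.mk_apply, h3, TensorProduct.tmul_sum]
    apply Finset.sum_eq_zero
    intro a _
    rw [TensorProduct.tmul_smul, TensorProduct.smul_tmul', Algebra.smul_def, mul_one, h2 a,
      TensorProduct.zero_tmul]
  exact ⟨P', inferInstance, inferInstance, inferInstance, inferInstance,
    ⟨LinearEquiv.ofBijective α ⟨hαinj, hαsurj⟩⟩⟩


end Helpers

/-- Let R be a ring, I ⊆ R a locally nilpotent ideal (every element of I is nilpotent) and P̄ a finite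
projective R/I-module. Then there is a finite projective R-module P such that P/IP (that is, R/I ⊗
P) is isomorphic to P̄ as an R/I-module. -/
theorem result {R : Type u} [CommRing R] (I : Ideal R) (hI : ∀ x ∈ I, IsNilpotent x) (Pb : Type u) [AddCommGroup Pb] [Module (R ⧸ I) Pb] [Module.Projective (R ⧸ I) Pb] [Module.Finite (R ⧸ I) Pb] : ∃ (P : Type u) (_ : AddCommGroup P) (_ : Module R P), Module.Projective R P ∧ Module.Finite R P ∧ Nonempty (((R ⧸ I) ⊗[R] P) ≃ₗ[R ⧸ I] Pb) := by
  have hsurj : Function.Surjective (algebraMap R (R ⧸ I)) := Ideal.Quotient.mk_surjective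
  have hker : RingHom.ker (algebraMap R (R ⧸ I)) = I := Ideal.mk_ker
  have hnil : ∀ x ∈ RingHom.ker (algebraMap R (R ⧸ I)), IsNilpotent x := by
    intro x hx
    rw [hker] at hx
    exact hI x hx
  obtain ⟨P', i1, i2, i3, i4, ⟨e⟩⟩ := exists_lift_projective' (R := R) (A := R ⧸ I) hsurj
    (fun n M hM => isNilpotent_matrix_of_locallyNilpotent hnil M hM) Pb
  exact ⟨P', i1, i2, i4, i3, ⟨e⟩⟩

end Groth.Agent.S6271
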