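import Groth.Statements.S6272
import Groth.Agent.H76.MilnorProj

set_option autoImplicit false
universe u
open scoped TensorProduct
open CAlg

namespace Groth.Agent.S6272

/-- Over a ring R, take two ideals I and J meeting in zero (I ∩ J = 0) and an R-module P. If the
R/I-module P/IP (that is, R/I ⊗ P) and the R/J-module P/JP (that is, R/J ⊗ P) are both projective,
then P itself is projective over R. -/
theorem result {R : Type u} [CommRing R] (I J : Ideal R) (hIJ : I ⊓ J = ⊥) (P : Type u) [AddCommGroup P] [Module R P] (hI : Module.Projective (R ⧸ I) ((R ⧸ I) ⊗[R] P)) (hJ : Module.Projective (R ⧸ J) ((R ⧸ J) ⊗[R] P)) : Module.Projective R P := by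
  letI algI : Algebra (R ⧸ I) (R ⧸ (I ⊔ J)) :=
    (Ideal.Quotient.factor (le_sup_left : I ≤ I ⊔ J)).toAlgebra
  letI algJ : Algebra (R ⧸ J) (R ⧸ (I ⊔ J)) :=
    (Ideal.Quotient.factor (le_sup_right : J ≤ I ⊔ J)).toAlgebra
  haveI : IsScalarTower R (R ⧸ I) (R ⧸ (I ⊔ J)) := IsScalarTower.of_algebraMap_eq (fun r => rfl)
  haveI : IsScalarTower R (R ⧸ J) (R ⧸ (I ⊔ J)) := IsScalarTower.of_algebraMap_eq (fun r => rfl)
  have hsq : EtMil.IsFibreSquare R (R ⧸ I) (R ⧸ J) (R ⧸ (I ⊔ J)) := by
    refine ⟨Ideal.Quotient.factor_surjective (le_sup_right : J ≤ I ⊔ J), ?_⟩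
    intro b a' hba'
    obtain ⟨x, rfl⟩ := Ideal.Quotient.mk_surjective b
    obtain ⟨y, rfl⟩ := Ideal.Quotient.mk_surjective a'
    have h1 : Ideal.Quotient.mk (I ⊔ J) x = Ideal.Quotient.mk (I ⊔ J) y := hba'
    rw [Ideal.Quotient.eq, Submodule.mem_sup] at h1
    obtain ⟨i, hi, j, hj, hij⟩ := h1
    refine ⟨x - i, ⟨?_, ?_⟩, ?_⟩
    · show Ideal.Quotient.mk I (x - i) = Ideal.Quotient.mk I x
      rw [Ideal.Quotient.eq]
      have : x - i - x = -i := by ring
      rw [this]
      exact I.neg_mem hi
    · show Ideal.Quotient.mk J (x - i) = Ideal.Quotient.mk J y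
      rw [Ideal.Quotient.eq]
      have : x - i - y = j := by
        have h' : x - i - y = (x - y) - i := by ring
        rw [h', ← hij]; ring
      rw [this]
      exact hj
    · rintro r ⟨hr1, hr2⟩
      have e1 : Ideal.Quotient.mk I r = Ideal.Quotient.mk I x := hr1
      have e2 : Ideal.Quotient.mk J r = Ideal.Quotient.mk J y := hr2
      rw [Ideal.Quotient.eq] at e1 e2
      have hmem : r - (x - i) ∈ I ⊓ J := by
        constructor
        · have : r - (x - i) = (r - x) + i := by ring
          rw [this]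
          exact I.add_mem e1 hi
        · have : r - (x - i) = (r - y) - j := by
            have h' : r - (x - i) = (r - y) - ((x - y) - i) := by ring
            rw [h', ← hij]; ring
          rw [this]
          exact J.sub_mem e2 hj
      rw [hIJ, Ideal.mem_bot, sub_eq_zero] at hmem
      exact hmem
  haveI := hI
  haveI := hJ
  exact Groth.Agent.H76.MilnorProj.projective_of_baseChange_projective hsq P

end Groth.Agent.S6272
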