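import Groth.Statements.S6273
import Mathlib

set_option autoImplicit false
universe u
open CAlg

namespace Groth.Agent.S6273

/-- Let R be a ring, S ⊆ R a multiplicative subset and A = S⁻¹R. If the image of Spec(A) → Spec(R) is
closed, then the localization map R → A is surjective; in particular A is isomorphic to R/I for the
ideal I = ker(R → A). -/
theorem result {R : Type u} [CommRing R] (S : Submonoid R) (A : Type u) [CommRing A] [Algebra R A] [IsLocalization S A] (hcl : IsClosed (Set.range (PrimeSpectrum.comap (algebraMap R A)))) : Function.Surjective (algebraMap R A) := by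
  have key : ∀ s ∈ S, ∃ r : R, algebraMap R A (r * s) = 1 := by
    intro s hs
    by_contra hcon
    push Not at hcon
    have hne : Ideal.span {s} ⊔ RingHom.ker (algebraMap R A) ≠ ⊤ := by
      intro htop
      rw [Ideal.eq_top_iff_one, Submodule.mem_sup] at htop
      obtain ⟨a, ha, b, hb, hab⟩ := htop
      obtain ⟨r, rfl⟩ := Ideal.mem_span_singleton'.mp ha
      apply hcon r
      have hb0 : algebraMap R A b = 0 := hb
      rw [← add_zero (algebraMap R A (r * s)), ← hb0, ← map_add, hab, map_one]
    obtain ⟨m, hm, hle⟩ := Ideal.exists_le_maximal _ hne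
    let P : PrimeSpectrum R := ⟨m, hm.isPrime⟩
    have hP : P ∈ closure (Set.range (PrimeSpectrum.comap (algebraMap R A))) := by
      rw [PrimeSpectrum.closure_range_comap, PrimeSpectrum.mem_zeroLocus]
      have hle' : RingHom.ker (algebraMap R A) ≤ m := le_trans le_sup_right hle
      exact hle'
    rw [hcl.closure_eq, PrimeSpectrum.localization_comap_range A S] at hP
    exact Set.disjoint_left.mp hP hs (hle (Ideal.mem_sup_left (Ideal.mem_span_singleton_self s)))
  intro a
  obtain ⟨⟨r, s⟩, h⟩ := IsLocalization.surj S a
  obtain ⟨t, ht⟩ := key s s.2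
  refine ⟨r * t, ?_⟩
  simp only at h
  rw [map_mul, ← h, mul_assoc, ← map_mul, mul_comm (s : R) t, ht, mul_one]

end Groth.Agent.S6273
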