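import Groth.Statements.S6274
import Mathlib
import Groth.Agent.S6273

set_option autoImplicit false
universe u
open CAlg

namespace Groth.Agent.S6274

/-- The image of `Spec S⁻¹R` is open under either finiteness assumption. -/
theorem isOpen_range {R : Type u} [CommRing R] (S : Submonoid R) (A : Type u) [CommRing A]
    [Algebra R A] [IsLocalization S A]
    (hcl : IsClosed (Set.range (PrimeSpectrum.comap (algebraMap R A))))
    (h : TopologicalSpace.NoetherianSpace (PrimeSpectrum R) ∨ S.FG) :
    IsOpen (Set.range (PrimeSpectrum.comap (algebraMap R A))) := by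
  rcases h with h | h
  · apply PrimeSpectrum.isOpen_of_stableUnderGeneralization_of_isConstructible
    · rw [PrimeSpectrum.localization_comap_range A S]
      intro p q hqp hp
      rw [← PrimeSpectrum.le_iff_specializes] at hqp
      exact Set.disjoint_of_subset_right hqp hp
    · rw [← Topology.isConstructible_compl]
      exact (TopologicalSpace.NoetherianSpace.isCompact _).isConstructible hcl.isOpen_compl
  · obtain ⟨T, hT⟩ := h
    have : Set.range (PrimeSpectrum.comap (algebraMap R A)) =
        ⋂ t ∈ T, (PrimeSpectrum.basicOpen t : Set (PrimeSpectrum R)) := by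
      rw [PrimeSpectrum.localization_comap_range A S]
      ext p
      simp only [Set.mem_ofPred_eq, Set.mem_iInter, SetLike.mem_coe, PrimeSpectrum.mem_basicOpen]
      constructor
      · intro hp t ht htp
        have : t ∈ S := by rw [← hT]; exact Submonoid.subset_closure ht
        exact Set.disjoint_left.mp hp this htp
      · intro hp
        rw [Set.disjoint_left]
        intro s hs hsp
        have hle : S ≤ p.asIdeal.primeCompl := by
          rw [← hT, Submonoid.closure_le]
          intro t ht
          exact hp t ht
        exact hle hs hsp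
    rw [this]
    exact T.finite_toSet.isOpen_biInter (fun t _ => (PrimeSpectrum.basicOpen t).2)

/-- Let R be a ring, S ⊆ R a multiplicative subset and A = S⁻¹R, and assume the image of Spec(A) →
Spec(R) is closed. If Spec(R) is a Noetherian topological space (which holds when R is Noetherian)
or S is finitely generated as a monoid, then R is isomorphic to A × R' for some ring R', by an
isomorphism whose first component is the localization map R → A. -/
theorem result {R : Type u} [CommRing R] (S : Submonoid R) (A : Type u) [CommRing A] [Algebra R A] [IsLocalization S A] (hcl : IsClosed (Set.range (PrimeSpectrum.comap (algebraMap R A)))) (h : TopologicalSpace.NoetherianSpace (PrimeSpectrum R) ∨ S.FG) : ∃ (R' : Type u) (_ : CommRing R') (e : R ≃+* A × R'), ∀ x : R, (e x).1 = algebraMap R A x := by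
  have hsurj := Groth.Agent.S6273.result S A hcl
  have hclopen : IsClopen (Set.range (PrimeSpectrum.comap (algebraMap R A))) :=
    ⟨hcl, isOpen_range S A hcl h⟩
  obtain ⟨e, f, hef, hadd, hZ⟩ := PrimeSpectrum.isClopen_iff_mul_add.mp hclopen
  -- `e` maps to a unit of `A`
  have he_unit : IsUnit (algebraMap R A e) := by
    by_contra hnu
    obtain ⟨m, hm, hem⟩ := exists_max_ideal_of_mem_nonunits (show algebraMap R A e ∈ nonunits A from hnu)
    let q : PrimeSpectrum A := ⟨m, hm.isPrime⟩
    have : PrimeSpectrum.comap (algebraMap R A) q ∈
        Set.range (PrimeSpectrum.comap (algebraMap R A)) := ⟨q, rfl⟩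
    rw [hZ] at this
    exact this hem
  have hf0 : algebraMap R A f = 0 := by
    have : algebraMap R A e * algebraMap R A f = 0 := by rw [← map_mul, hef, map_zero]
    exact (he_unit.mul_right_eq_zero).mp this
  have he1 : algebraMap R A e = 1 := by
    have : algebraMap R A (e + f) = 1 := by rw [hadd, map_one]
    rwa [map_add, hf0, add_zero] at this
  -- every `s ∈ S` is invertible modulo `f`
  have hsf : ∀ s ∈ S, ∃ a b : R, a * s + b * f = 1 := by
    intro s hs
    by_contra hcon
    have hne : Ideal.span {s} ⊔ Ideal.span {f} ≠ ⊤ := by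
      intro htop
      rw [Ideal.eq_top_iff_one, Submodule.mem_sup] at htop
      obtain ⟨x, hx, y, hy, hxy⟩ := htop
      obtain ⟨a, rfl⟩ := Ideal.mem_span_singleton'.mp hx
      obtain ⟨b, rfl⟩ := Ideal.mem_span_singleton'.mp hy
      exact hcon ⟨a, b, hxy⟩
    obtain ⟨m, hm, hle⟩ := Ideal.exists_le_maximal _ hne
    let P : PrimeSpectrum R := ⟨m, hm.isPrime⟩
    have hsm : s ∈ m := hle (Ideal.mem_sup_left (Ideal.mem_span_singleton_self s))
    have hfm : f ∈ m := hle (Ideal.mem_sup_right (Ideal.mem_span_singleton_self f))
    have hem : e ∉ m := by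
      intro hem
      apply hm.ne_top
      rw [Ideal.eq_top_iff_one, ← hadd]
      exact m.add_mem hem hfm
    have hP : P ∈ Set.range (PrimeSpectrum.comap (algebraMap R A)) := by
      rw [hZ]; exact hem
    rw [PrimeSpectrum.localization_comap_range A S] at hP
    exact Set.disjoint_left.mp hP hs hsm
  let φ : R →+* A × (R ⧸ Ideal.span {e}) :=
    (algebraMap R A).prod (Ideal.Quotient.mk (Ideal.span {e}))
  have hφ : Function.Bijective φ := by
    constructor
    · rw [injective_iff_map_eq_zero]
      intro x hx
      have h1 : algebraMap R A x = 0 := congrArg Prod.fst hx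
      have h2 : Ideal.Quotient.mk (Ideal.span {e}) x = 0 := congrArg Prod.snd hx
      rw [Ideal.Quotient.eq_zero_iff_mem, Ideal.mem_span_singleton'] at h2
      obtain ⟨b, rfl⟩ := h2
      obtain ⟨s, hs⟩ := (IsLocalization.map_eq_zero_iff S A _).mp h1
      obtain ⟨a, c, hac⟩ := hsf s s.2
      calc b * e = (a * s + c * f) * (b * e) := by rw [hac, one_mul]
        _ = a * (s * (b * e)) + c * b * (e * f) := by ring
        _ = 0 := by rw [hs, hef]; ring
    · rintro ⟨a, y⟩
      obtain ⟨r, rfl⟩ := hsurj a
      obtain ⟨r', rfl⟩ := Ideal.Quotient.mk_surjective y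
      refine ⟨e * r + f * r', ?_⟩
      apply Prod.ext
      · change algebraMap R A (e * r + f * r') = algebraMap R A r
        rw [map_add, map_mul, map_mul, he1, hf0, one_mul, zero_mul, add_zero]
      · change Ideal.Quotient.mk (Ideal.span {e}) (e * r + f * r') = Ideal.Quotient.mk _ r'
        rw [Ideal.Quotient.eq, Ideal.mem_span_singleton']
        refine ⟨r - r', ?_⟩
        have : f = 1 - e := by rw [← hadd]; ring
        rw [this]; ring
  exact ⟨R ⧸ Ideal.span {e}, inferInstance, RingEquiv.ofBijective φ hφ, fun x => rfl⟩

end Groth.Agent.S6274
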