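import Groth.Statements.S6275
import Mathlib

set_option autoImplicit false
universe u
open CAlg

namespace Groth.Agent.S6275

/-- Let R be a Noetherian ring and p ⊆ R a prime. Then there is f ∈ R, f ∉ p, such that R_f → R_p is
injective; equivalently every x ∈ R mapping to zero in R_p maps to zero in R_f. (The cases of a
domain and of a reduced ring with finitely many minimal primes are not included here.) -/
theorem result {R : Type u} [CommRing R] [IsNoetherianRing R] (p : Ideal R) [p.IsPrime] : ∃ f : R, f ∉ p ∧ ∀ x : R, algebraMap R (Localization.AtPrime p) x = 0 → algebraMap R (Localization.Away f) x = 0 := by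
  set I : Ideal R := RingHom.ker (algebraMap R (Localization.AtPrime p)) with hI
  have hfg : I.FG := IsNoetherian.noetherian I
  have key : ∀ (N : Submodule R R) (_ : N.FG), N ≤ I → ∃ f : R, f ∉ p ∧ ∀ x ∈ N, f * x = 0 := by
    intro N hN
    refine Submodule.fg_induction (motive := fun N _ => N ≤ I → ∃ f : R, f ∉ p ∧ ∀ x ∈ N, f * x = 0)
      ?_ ?_ N hN
    · intro x hx
      have hxI : x ∈ I := hx (Submodule.mem_span_singleton_self x)
      rw [hI, RingHom.mem_ker, IsLocalization.map_eq_zero_iff p.primeCompl] at hxI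
      obtain ⟨m, hm⟩ := hxI
      refine ⟨m, m.2, ?_⟩
      intro y hy
      obtain ⟨r, rfl⟩ := Submodule.mem_span_singleton.mp hy
      rw [smul_eq_mul, mul_left_comm, hm, mul_zero]
    · intro N₁ N₂ _ _ h₁ h₂ hle
      obtain ⟨f₁, hf₁, h₁'⟩ := h₁ (le_trans le_sup_left hle)
      obtain ⟨f₂, hf₂, h₂'⟩ := h₂ (le_trans le_sup_right hle)
      refine ⟨f₁ * f₂, ?_, ?_⟩
      · intro hmem
        rcases (inferInstance : p.IsPrime).mem_or_mem hmem with h | h
        · exact hf₁ h
        · exact hf₂ h
      · intro x hx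
        obtain ⟨a, ha, b, hb, rfl⟩ := Submodule.mem_sup.mp hx
        rw [mul_add, mul_right_comm, h₁' a ha, zero_mul, mul_assoc, h₂' b hb, mul_zero, add_zero]
  obtain ⟨f, hf, hfx⟩ := key I hfg le_rfl
  refine ⟨f, hf, ?_⟩
  intro x hx
  rw [IsLocalization.map_eq_zero_iff (Submonoid.powers f)]
  exact ⟨⟨f, Submonoid.mem_powers f⟩, hfx x hx⟩

end Groth.Agent.S6275
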