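import Groth.Statements.S6278
import Mathlib

set_option autoImplicit false
universe u
open CAlg

namespace Groth.Agent.S6278

/-- A normal ring R (all localizations at primes are integrally closed domains) is integrally closed in
its total ring of fractions. -/
theorem result (R : Type u) [CommRing R] (hR : EGA4.IsNormalRing R) : IsIntegrallyClosedIn R (FractionRing R) := by
  classical
  let K := FractionRing R
  rw [isIntegrallyClosedIn_iff]
  refine ⟨IsFractionRing.injective R K, ?_⟩
  intro x hx
  -- ideal of denominators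
  let D : Ideal R :=
    { carrier := {r | ∃ y : R, algebraMap R K y = r • x}
      add_mem' := by
        rintro a b ⟨ya, ha⟩ ⟨yb, hb⟩
        exact ⟨ya + yb, by rw [map_add, ha, hb, add_smul]⟩
      zero_mem' := ⟨0, by simp⟩
      smul_mem' := by
        rintro c a ⟨ya, ha⟩
        exact ⟨c * ya, by rw [map_mul, ha, smul_eq_mul, mul_smul, Algebra.smul_def c (a • x)]⟩ }
  suffices hD : D = ⊤ by
    have h1 : (1 : R) ∈ D := by rw [hD]; trivial
    obtain ⟨y, hy⟩ := h1
    exact ⟨y, by rw [hy, one_smul]⟩
  by_contra hD
  obtain ⟨m, hm, hDm⟩ := Ideal.exists_le_maximal D hD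
  have hmp : m.IsPrime := hm.isPrime
  obtain ⟨hdom, hic⟩ := hR m
  let Rp := Localization.AtPrime m
  let L := FractionRing Rp
  let g : R →+* L := (algebraMap Rp L).comp (algebraMap R Rp)
  have hRpL : Function.Injective (algebraMap Rp L) := IsFractionRing.injective Rp L
  have hg : ∀ s : nonZeroDivisors R, IsUnit (g s) := by
    intro s
    rw [isUnit_iff_ne_zero]
    intro h0
    have h1 : algebraMap R Rp (s : R) = 0 := hRpL (by rw [map_zero]; exact h0)
    rw [IsLocalization.map_eq_zero_iff m.primeCompl] at h1
    obtain ⟨t, ht⟩ := h1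
    have h2 : (t : R) = 0 := by
      have := (mem_nonZeroDivisors_iff.mp s.2).2 (t : R)
      exact this ht
    exact t.2 (by rw [h2]; exact m.zero_mem)
  let ψ : K →+* L := IsLocalization.lift (M := nonZeroDivisors R) hg
  have hψ : ∀ r : R, ψ (algebraMap R K r) = g r := fun r => IsLocalization.lift_eq hg r
  -- `ψ x` is integral over `Rp`
  have hint : IsIntegral Rp (ψ x) := by
    obtain ⟨P, hPm, hP0⟩ := hx
    refine ⟨P.map (algebraMap R Rp), hPm.map _, ?_⟩
    rw [Polynomial.eval₂_map]
    have h3 : Polynomial.eval₂ ((algebraMap Rp L).comp (algebraMap R Rp)) (ψ x) P =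
        ψ (Polynomial.eval₂ (algebraMap R K) x P) := by
      rw [Polynomial.hom_eval₂]
      congr 1
      ext r
      exact (hψ r).symm
    rw [h3, hP0, map_zero]
  obtain ⟨z, hz⟩ := IsIntegrallyClosed.algebraMap_eq_of_integral hint
  obtain ⟨a, t, rfl⟩ := IsLocalization.exists_mk'_eq m.primeCompl z
  obtain ⟨b, s, rfl⟩ := IsLocalization.exists_mk'_eq (nonZeroDivisors R) x
  -- compare in `L`
  have h4 : algebraMap R Rp (b * t) = algebraMap R Rp (a * s) := by
    apply hRpL
    have e1 : ψ (IsLocalization.mk' K b s) * g s = g b := by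
      rw [← hψ, ← hψ, ← map_mul, IsLocalization.mk'_spec]
    have e2 : algebraMap Rp L (IsLocalization.mk' Rp a t) * g t = g a := by
      show _ * algebraMap Rp L (algebraMap R Rp t) = algebraMap Rp L (algebraMap R Rp a)
      rw [← map_mul, IsLocalization.mk'_spec]
    have e3 : g (b * t) = g (a * s) := by
      rw [map_mul, map_mul, ← e1, ← e2, hz]
      ring
    exact e3
  obtain ⟨u, hu⟩ := (IsLocalization.eq_iff_exists m.primeCompl Rp).mp h4
  have hmem : (u : R) * t ∈ D := by
    refine ⟨u * a, ?_⟩
    have e5 : algebraMap R K ((u : R) * a) * algebraMap R K (s : R) =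
        ((u : R) * t) • IsLocalization.mk' K b s * algebraMap R K (s : R) := by
      rw [Algebra.smul_def, mul_assoc, IsLocalization.mk'_spec, ← map_mul, ← map_mul]
      congr 1
      calc (u : R) * a * s = u * (a * s) := by ring
        _ = u * (b * t) := hu.symm
        _ = u * t * b := by ring
    have hsu : IsUnit (algebraMap R K (s : R)) := IsLocalization.map_units K s
    exact hsu.mul_left_injective e5
  exact (mul_mem u.2 t.2) (hDm hmem)

end Groth.Agent.S6278
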