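import Groth.Statements.S6279
import Mathlib

set_option autoImplicit false
universe u
open CAlg

namespace Groth.Agent.S6279


/-- If `π : B → A` is surjective and every element of its kernel is killed by an element mapping to
`1`, then the localization of `A` at a prime `p` is the localization of `B` at `π⁻¹ p`. -/
lemma isLocalization_atPrime_of_surjective {A B : Type u} [CommRing A] [CommRing B]
    (π : B →+* A) (hπ : Function.Surjective π)
    (hker : ∀ x, π x = 0 → ∃ c, π c = 1 ∧ c * x = 0)
    (p : Ideal A) [p.IsPrime] :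
    @IsLocalization.AtPrime B _ (Localization.AtPrime p) _
      ((algebraMap A (Localization.AtPrime p)).comp π).toAlgebra (p.comap π) _ := by
  letI : Algebra B (Localization.AtPrime p) :=
    ((algebraMap A (Localization.AtPrime p)).comp π).toAlgebra
  have halg : ∀ b : B, algebraMap B (Localization.AtPrime p) b =
      algebraMap A (Localization.AtPrime p) (π b) := fun b => rfl
  rw [IsLocalization.AtPrime, isLocalization_iff]
  refine ⟨?_, ?_, ?_⟩
  · rintro ⟨y, hy⟩
    rw [halg]
    exact IsLocalization.map_units (Localization.AtPrime p) (⟨π y, hy⟩ : p.primeCompl)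
  · intro z
    obtain ⟨a, s, rfl⟩ := IsLocalization.exists_mk'_eq p.primeCompl z
    obtain ⟨b, rfl⟩ := hπ a
    obtain ⟨t, ht⟩ := hπ (s : A)
    have htP : t ∈ (p.comap π).primeCompl := by
      show π t ∉ p
      rw [ht]; exact s.2
    refine ⟨(b, ⟨t, htP⟩), ?_⟩
    simp only [halg, ht]
    exact IsLocalization.mk'_spec _ _ _
  · intro x y hxy
    rw [halg, halg] at hxy
    obtain ⟨s, hs⟩ := (IsLocalization.eq_iff_exists p.primeCompl (Localization.AtPrime p)).mp hxy
    obtain ⟨t, ht⟩ := hπ (s : A)
    have h0 : π (t * (x - y)) = 0 := by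
      rw [map_mul, map_sub, ht, mul_sub, hs, sub_self]
    obtain ⟨c, hc1, hc0⟩ := hker _ h0
    have hctP : c * t ∈ (p.comap π).primeCompl := by
      show π (c * t) ∉ p
      rw [map_mul, hc1, one_mul, ht]; exact s.2
    refine ⟨⟨c * t, hctP⟩, ?_⟩
    show c * t * x = c * t * y
    have : c * t * x - c * t * y = c * (t * (x - y)) := by ring
    rw [← sub_eq_zero, this, hc0]

/-- A finite product of normal rings is normal (a ring is normal when every localization at a prime is
an integrally closed domain). -/
theorem result {ι : Type u} [Finite ι] (A : ι → Type u) [∀ i, CommRing (A i)] (hA : ∀ i, EGA4.IsNormalRing (A i)) : EGA4.IsNormalRing (∀ i, A i) := by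
  classical
  intro P hP
  obtain ⟨⟨i, p⟩, hp⟩ := (PrimeSpectrum.sigmaToPi_bijective A).2 ⟨P, hP⟩
  have hPeq : P = p.asIdeal.comap (Pi.evalRingHom A i) := by
    have := congrArg PrimeSpectrum.asIdeal hp
    rw [PrimeSpectrum.sigmaToPi_apply] at this
    exact this.symm
  subst hPeq
  obtain ⟨hdom, hic⟩ := hA i p.asIdeal
  letI : Algebra (∀ i, A i) (Localization.AtPrime p.asIdeal) :=
    ((algebraMap (A i) (Localization.AtPrime p.asIdeal)).comp (Pi.evalRingHom A i)).toAlgebra
  haveI : IsLocalization.AtPrime (Localization.AtPrime p.asIdeal)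
      (p.asIdeal.comap (Pi.evalRingHom A i)) := by
    refine isLocalization_atPrime_of_surjective (Pi.evalRingHom A i)
      (Function.surjective_eval i) ?_ p.asIdeal
    intro x hx
    refine ⟨Pi.single i 1, by simp, ?_⟩
    ext j
    by_cases hj : j = i
    · subst hj
      have : x j = 0 := hx
      simp [this]
    · simp [Pi.single_eq_of_ne hj]
  let e : Localization.AtPrime (p.asIdeal.comap (Pi.evalRingHom A i)) ≃ₐ[∀ i, A i]
      Localization.AtPrime p.asIdeal :=
    IsLocalization.algEquiv (p.asIdeal.comap (Pi.evalRingHom A i)).primeCompl _ _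
  refine ⟨e.toRingEquiv.toMulEquiv.isDomain _, ?_⟩
  exact IsIntegrallyClosed.of_equiv e.symm.toRingEquiv

end Groth.Agent.S6279
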