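import Groth.Statements.S6281
import Mathlib

set_option autoImplicit false
universe u
open CAlg

namespace Groth.Agent.S6281

/-- For an R-algebra S and an S-module M, flatness of S over R follows once M is both flat over R and
faithfully flat over S. -/
theorem result {R S : Type u} [CommRing R] [CommRing S] [Algebra R S] (M : Type u) [AddCommGroup M] [Module S M] [Module R M] [IsScalarTower R S M] [Module.Flat R M] [Module.FaithfullyFlat S M] : Module.Flat R S := by
  rw [Module.Flat.iff_lTensor_preserves_injective_linearMap]
  intro N N' _ _ _ _ f hf
  let g : TensorProduct R S N →ₗ[S] TensorProduct R S N' :=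
    TensorProduct.AlgebraTensorModule.lTensor S S f
  have hg : ⇑g = ⇑(f.lTensor S) := rfl
  rw [← hg, ← Module.FaithfullyFlat.lTensor_injective_iff_injective S M]
  have key := TensorProduct.AlgebraTensorModule.lTensor_comp_cancelBaseChange
    (R := R) (A := S) (B := S) (M := M) f
  have h1 : Function.Injective (TensorProduct.AlgebraTensorModule.lTensor S M f) :=
    Module.Flat.lTensor_preserves_injective_linearMap f hf
  have h2 : Function.Injective
      ((TensorProduct.AlgebraTensorModule.lTensor S M f) ∘ₗ
        (TensorProduct.AlgebraTensorModule.cancelBaseChange R S S M N).toLinearMap) := by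
    rw [LinearMap.coe_comp]
    exact h1.comp (LinearEquiv.injective _)
  rw [key, LinearMap.coe_comp] at h2
  exact Function.Injective.of_comp h2

end Groth.Agent.S6281
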