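import Groth.Statements.S6282
import Mathlib

set_option autoImplicit false
universe u
open scoped TensorProduct
open CAlg

namespace Groth.Agent.S6282

open TensorProduct in
theorem square {R S S' : Type u} [CommRing R] [CommRing S] [CommRing S'] [Algebra R S]
    [Algebra R S'] [Algebra S S'] [IsScalarTower R S S'] (M : Type u) [AddCommGroup M] [Module S M]
    [Module R M] [IsScalarTower R S M] {N N' : Type u} [AddCommGroup N] [AddCommGroup N']
    [Module R N] [Module R N'] (f : N →ₗ[R] N') (x : (S' ⊗[S] M) ⊗[R] N) :
    AlgebraTensorModule.assoc R S S' S' M N' (f.lTensor (S' ⊗[S] M) x) =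
      (AlgebraTensorModule.lTensor S M f).lTensor S' (AlgebraTensorModule.assoc R S S' S' M N x) := by
  induction x using TensorProduct.induction_on with
  | zero => simp
  | add x y hx hy => simp only [map_add, hx, hy]
  | tmul y n =>
    induction y using TensorProduct.induction_on with
    | zero => simp
    | add y z hy hz => simp only [TensorProduct.add_tmul, map_add, hy, hz]
    | tmul s m => simp

open TensorProduct in
theorem inj_iff {R S S' : Type u} [CommRing R] [CommRing S] [CommRing S'] [Algebra R S]
    [Algebra R S'] [Algebra S S'] [IsScalarTower R S S'] (M : Type u) [AddCommGroup M] [Module S M]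
    [Module R M] [IsScalarTower R S M] {N N' : Type u} [AddCommGroup N] [AddCommGroup N']
    [Module R N] [Module R N'] (f : N →ₗ[R] N') :
    Function.Injective (f.lTensor (S' ⊗[S] M)) ↔
      Function.Injective ((AlgebraTensorModule.lTensor S M f).lTensor S') := by
  have h : ⇑(AlgebraTensorModule.assoc R S S' S' M N') ∘ ⇑(f.lTensor (S' ⊗[S] M)) =
      ⇑((AlgebraTensorModule.lTensor S M f).lTensor S') ∘
        ⇑(AlgebraTensorModule.assoc R S S' S' M N) := by
    funext x
    exact square M f x
  constructor
  · intro hinj
    have h1 : Function.Injective (⇑(AlgebraTensorModule.assoc R S S' S' M N') ∘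
        ⇑(f.lTensor (S' ⊗[S] M))) := (LinearEquiv.injective _).comp hinj
    rw [h] at h1
    intro a b hab
    obtain ⟨a', rfl⟩ := (AlgebraTensorModule.assoc R S S' S' M N).surjective a
    obtain ⟨b', rfl⟩ := (AlgebraTensorModule.assoc R S S' S' M N).surjective b
    rw [h1 hab]
  · intro hinj
    have h1 : Function.Injective (⇑((AlgebraTensorModule.lTensor S M f).lTensor S') ∘
        ⇑(AlgebraTensorModule.assoc R S S' S' M N)) := hinj.comp (LinearEquiv.injective _)
    rw [← h] at h1
    exact Function.Injective.of_comp h1

/-- Let S → S' be a homomorphism of R-algebras, M an S-module, and M' = S' ⊗_S M with its induced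
R-module structure. (1) When S' is flat over S, R-flatness of M passes to M'. (2) When S' is
faithfully flat over S, M is R-flat exactly when M' is. -/
theorem result {R S S' : Type u} [CommRing R] [CommRing S] [CommRing S'] [Algebra R S] [Algebra R S'] [Algebra S S'] [IsScalarTower R S S'] (M : Type u) [AddCommGroup M] [Module S M] [Module R M] [IsScalarTower R S M] : ([Module.Flat S S'] → Module.Flat R M → Module.Flat R (S' ⊗[S] M)) ∧ ([Module.FaithfullyFlat S S'] → (Module.Flat R M ↔ Module.Flat R (S' ⊗[S] M))) := by
  constructor
  · intro _ hM
    rw [Module.Flat.iff_lTensor_preserves_injective_linearMap]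
    intro N N' _ _ _ _ f hf
    rw [inj_iff]
    apply Module.Flat.lTensor_preserves_injective_linearMap
    exact Module.Flat.lTensor_preserves_injective_linearMap (M := M) f hf
  · intro _
    constructor
    · intro hM
      rw [Module.Flat.iff_lTensor_preserves_injective_linearMap]
      intro N N' _ _ _ _ f hf
      rw [inj_iff]
      apply Module.Flat.lTensor_preserves_injective_linearMap
      exact Module.Flat.lTensor_preserves_injective_linearMap (M := M) f hf
    · intro hM'
      rw [Module.Flat.iff_lTensor_preserves_injective_linearMap]
      intro N N' _ _ _ _ f hf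
      have h1 : Function.Injective (f.lTensor (S' ⊗[S] M)) :=
        Module.Flat.lTensor_preserves_injective_linearMap f hf
      rw [inj_iff, Module.FaithfullyFlat.lTensor_injective_iff_injective] at h1
      exact h1

end Groth.Agent.S6282
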