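import Groth.Statements.S6283
import Mathlib

set_option autoImplicit false
universe u
open scoped TensorProduct
open CAlg

namespace Groth.Agent.S6283

open TensorProduct in
/-- For flat `S`, an element `s` with `s ⊗ f 1 = 0` lies in the extension of `ker f`. -/
theorem mem_map_ker {R S : Type u} [CommRing R] [CommRing S] [Algebra R S] [Module.Flat R S]
    {N : Type u} [AddCommGroup N] [Module R N] (f : R →ₗ[R] N) (s : S)
    (h : s ⊗ₜ[R] f 1 = 0) : s ∈ Ideal.map (algebraMap R S) (LinearMap.ker f) := by
  have hex : Function.Exact (LinearMap.ker f).subtype f := by
    rw [LinearMap.exact_iff, Submodule.range_subtype]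
  have hex' := Module.Flat.lTensor_exact S hex
  have h1 : (f.lTensor S) (s ⊗ₜ[R] (1 : R)) = 0 := by
    rw [LinearMap.lTensor_tmul]; exact h
  obtain ⟨y, hy⟩ := (hex' _).mp h1
  have key : ∀ y : S ⊗[R] (LinearMap.ker f),
      TensorProduct.rid R S (((LinearMap.ker f).subtype.lTensor S) y) ∈
        Ideal.map (algebraMap R S) (LinearMap.ker f) := by
    intro y
    induction y using TensorProduct.induction_on with
    | zero => simp
    | tmul a i =>
      rw [LinearMap.lTensor_tmul, TensorProduct.rid_tmul, Submodule.subtype_apply,
        Algebra.smul_def]
      exact Ideal.mul_mem_right _ _ (Ideal.mem_map_of_mem _ i.2)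
    | add a b ha hb =>
      rw [map_add, map_add]
      exact Ideal.add_mem _ ha hb
  have := key y
  rw [hy, TensorProduct.rid_tmul, one_smul] at this
  exact this

/-- Let R → S be a flat ring map, M an R-module and m ∈ M. Then Ann_R(m)S = Ann_S(1 ⊗ m), the
annihilator in S of the element 1 ⊗ m of S ⊗_R M. If moreover M is a finite R-module then Ann_R(M)S
= Ann_S(S ⊗_R M). -/
theorem result {R S : Type u} [CommRing R] [CommRing S] [Algebra R S] [Module.Flat R S] (M : Type u) [AddCommGroup M] [Module R M] : (∀ m : M, ((Submodule.span R {m}).annihilator).map (algebraMap R S) = (Submodule.span S {(1 : S) ⊗ₜ[R] m}).annihilator) ∧ (Module.Finite R M → (Module.annihilator R M).map (algebraMap R S) = Module.annihilator S (S ⊗[R] M)) := by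
  constructor
  · intro m
    apply le_antisymm
    · rw [Ideal.map_le_iff_le_comap]
      intro r hr
      rw [Submodule.mem_annihilator_span_singleton] at hr
      rw [Ideal.mem_comap, Submodule.mem_annihilator_span_singleton, algebraMap_smul,
        ← TensorProduct.tmul_smul, hr, TensorProduct.tmul_zero]
    · intro s hs
      rw [Submodule.mem_annihilator_span_singleton, TensorProduct.smul_tmul', smul_eq_mul,
        mul_one] at hs
      have := mem_map_ker (LinearMap.toSpanSingleton R M m) s
        (by rw [LinearMap.toSpanSingleton_apply, one_smul]; exact hs)
      have hker : LinearMap.ker (LinearMap.toSpanSingleton R M m) =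
          (Submodule.span R {m}).annihilator := by
        ext r
        rw [LinearMap.mem_ker, LinearMap.toSpanSingleton_apply,
          Submodule.mem_annihilator_span_singleton]
      rwa [hker] at this
  · intro hfin
    obtain ⟨n, g, hg⟩ := Module.Finite.exists_fin (R := R) (M := M)
    apply le_antisymm
    · rw [Ideal.map_le_iff_le_comap]
      intro r hr
      rw [Module.mem_annihilator] at hr
      rw [Ideal.mem_comap, Module.mem_annihilator]
      intro x
      induction x using TensorProduct.induction_on with
      | zero => simp
      | tmul a m =>
        rw [algebraMap_smul, ← TensorProduct.tmul_smul, hr m, TensorProduct.tmul_zero]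
      | add a b ha hb => rw [smul_add, ha, hb, add_zero]
    · intro s hs
      rw [Module.mem_annihilator] at hs
      let f : R →ₗ[R] (Fin n → M) := LinearMap.pi (fun i => LinearMap.toSpanSingleton R M (g i))
      have hf1 : f 1 = ∑ i, Pi.single i (g i) := by
        funext j
        simp [f, Finset.sum_apply, Pi.single_apply]
      have h0 : s ⊗ₜ[R] f 1 = 0 := by
        rw [hf1, TensorProduct.tmul_sum]
        apply Finset.sum_eq_zero
        intro i _
        have h1 : s ⊗ₜ[R] g i = 0 := by
          have := hs ((1 : S) ⊗ₜ[R] g i)
          rwa [TensorProduct.smul_tmul', smul_eq_mul, mul_one] at this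
        have : s ⊗ₜ[R] (Pi.single i (g i) : Fin n → M) =
            (LinearMap.single R (fun _ : Fin n => M) i).lTensor S (s ⊗ₜ[R] g i) := by
          rw [LinearMap.lTensor_tmul]; rfl
        rw [this, h1, map_zero]
      have := mem_map_ker f s h0
      have hker : LinearMap.ker f = Module.annihilator R M := by
        ext r
        rw [LinearMap.mem_ker, Module.mem_annihilator]
        constructor
        · intro hr m
          have hm : m ∈ Submodule.span R (Set.range g) := by rw [hg]; trivial
          induction hm using Submodule.span_induction with
          | mem x hx =>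
            obtain ⟨i, rfl⟩ := hx
            have := congrFun hr i
            simpa [f] using this
          | zero => simp
          | add x y _ _ hx hy => rw [smul_add, hx, hy, add_zero]
          | smul a x _ hx => rw [smul_comm, hx, smul_zero]
        · intro hr
          funext i
          simp [f, hr]
      rwa [hker] at this

end Groth.Agent.S6283
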