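import Groth.Statements.S6285
import Mathlib

set_option autoImplicit false
universe u
open CAlg

namespace Groth.Agent.S6285

section aux

variable {R : Type u} [CommRing R] {n m : ℕ} (k : Fin m → (Fin n → R))

/-- The determinants of the square matrices whose rows are chosen among the relations. -/
noncomputable def minorDet (σ : Fin n → Fin m) : R :=
  Matrix.det (Matrix.of fun i => k (σ i))

/-- A "minor" kills the quotient of `Rⁿ` by the span of the relations. -/
theorem minorDet_smul_mem (σ : Fin n → Fin m) (x : Fin n → R) :
    minorDet k σ • x ∈ Submodule.span R (Set.range k) := by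
  classical
  set N : Matrix (Fin n) (Fin n) R := Matrix.of fun i => k (σ i) with hN
  have hadj : N.adjugate * N = N.det • (1 : Matrix (Fin n) (Fin n) R) := Matrix.adjugate_mul N
  have hrow : ∀ i : Fin n, (minorDet k σ) • (Pi.single i (1 : R) : Fin n → R) ∈
      Submodule.span R (Set.range k) := by
    intro i
    have h1 : (minorDet k σ) • (Pi.single i (1 : R) : Fin n → R) =
        ∑ l, N.adjugate i l • k (σ l) := by
      funext a
      have := congrFun (congrFun hadj i) a
      rw [Matrix.mul_apply] at this
      simp only [Matrix.smul_apply, Matrix.one_apply, smul_eq_mul] at this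
      simp only [Pi.smul_apply, Finset.sum_apply, smul_eq_mul, Pi.single_apply, minorDet]
      rw [← hN]
      have h2 : (N.det * if a = i then 1 else 0) = N.det * if i = a then 1 else 0 := by
        simp only [eq_comm]
      rw [h2, ← this]
      rfl
    rw [h1]
    exact Submodule.sum_mem _ (fun l _ => Submodule.smul_mem _ _ (Submodule.subset_span ⟨σ l, rfl⟩))
  have hx : x = ∑ i, x i • (Pi.single i (1 : R) : Fin n → R) := by
    funext a
    simp [Finset.sum_apply, Pi.single_apply]
  rw [hx, Finset.smul_sum]
  refine Submodule.sum_mem _ (fun i _ => ?_)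
  rw [smul_comm]
  exact Submodule.smul_mem _ _ (hrow i)

/-- If `r` kills the quotient, then `r ^ n` is a combination of the "minors". -/
theorem pow_mem_span_minorDet (r : R)
    (hr : ∀ i : Fin n, r • (Pi.single i (1 : R) : Fin n → R) ∈ Submodule.span R (Set.range k)) :
    r ^ n ∈ Ideal.span (Set.range (minorDet k)) := by
  classical
  have hB : ∀ i : Fin n, ∃ c : Fin m → R, ∑ j, c j • k j = r • (Pi.single i (1 : R) : Fin n → R) :=
    fun i => (Submodule.mem_span_range_iff_exists_fun R).mp (hr i)
  choose B hB using hB
  have hdet : Matrix.det (r • (1 : Matrix (Fin n) (Fin n) R)) = r ^ n := by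
    rw [Matrix.det_smul, Matrix.det_one, mul_one, Fintype.card_fin]
  have hrows : (r • (1 : Matrix (Fin n) (Fin n) R)) = Matrix.of (fun i => ∑ j, B i j • k j) := by
    ext i a
    rw [Matrix.of_apply, hB i]
    simp [Matrix.one_apply, Pi.single_apply, eq_comm]
  rw [← hdet, hrows]
  change Matrix.detRowAlternating (fun i => ∑ j, B i j • k j) ∈ _
  rw [← AlternatingMap.coe_multilinearMap, MultilinearMap.map_sum]
  refine Ideal.sum_mem _ (fun σ _ => ?_)
  rw [MultilinearMap.map_smul_univ]
  exact Ideal.mul_mem_left _ _ (Ideal.subset_span ⟨σ, rfl⟩)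

end aux

/-- For a ring R and an R-module M of finite presentation, the support Supp(M) is closed in Spec(R), and
its complement in Spec(R) is quasi-compact. -/
theorem result (R : Type u) [CommRing R] (M : Type u) [AddCommGroup M] [Module R M] [Module.FinitePresentation R M] : IsClosed (Module.support R M) ∧ IsCompact (Module.support R M)ᶜ := by
  classical
  have hfin : Module.Finite R M := inferInstance
  refine ⟨Module.isClosed_support, ?_⟩
  obtain ⟨n, K, e, hK⟩ := Module.FinitePresentation.exists_fin R M
  obtain ⟨m, k, hk⟩ := Submodule.fg_iff_exists_fin_generating_family.mp hK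
  -- the support is the zero locus of the finitely many "minors"
  have hsupp : Module.support R M = PrimeSpectrum.zeroLocus (Set.range (minorDet k)) := by
    rw [e.support_eq, Module.support_eq_zeroLocus, ← PrimeSpectrum.zeroLocus_span (Set.range _)]
    apply le_antisymm
    · -- `Ann ⊆ √𝔟`
      intro p hp
      rw [PrimeSpectrum.mem_zeroLocus] at hp ⊢
      intro d hd
      -- d ∈ 𝔟 ⊆ Ann
      apply hp
      rw [SetLike.mem_coe, Module.mem_annihilator]
      intro x
      obtain ⟨y, rfl⟩ := Submodule.Quotient.mk_surjective K x
      rw [← Submodule.Quotient.mk_smul, Submodule.Quotient.mk_eq_zero, ← hk]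
      induction hd using Submodule.span_induction with
      | mem d hd =>
        obtain ⟨σ, rfl⟩ := hd
        exact minorDet_smul_mem k σ y
      | zero => rw [zero_smul]; exact Submodule.zero_mem _
      | add a b _ _ ha hb => rw [add_smul]; exact Submodule.add_mem _ ha hb
      | smul a b _ hb => rw [smul_eq_mul, mul_smul]; exact Submodule.smul_mem _ _ hb
    · intro p hp
      rw [PrimeSpectrum.mem_zeroLocus] at hp ⊢
      intro r hr
      rw [SetLike.mem_coe, Module.mem_annihilator] at hr
      have h1 : r ^ n ∈ Ideal.span (Set.range (minorDet k)) := by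
        apply pow_mem_span_minorDet
        intro i
        have := hr (Submodule.Quotient.mk (Pi.single i (1 : R)))
        rw [← Submodule.Quotient.mk_smul, Submodule.Quotient.mk_eq_zero, ← hk] at this
        exact this
      exact p.2.mem_of_pow_mem n (hp h1)
  rw [hsupp]
  have : (PrimeSpectrum.zeroLocus (Set.range (minorDet k)))ᶜ =
      ⋃ σ : Fin n → Fin m, (PrimeSpectrum.basicOpen (minorDet k σ) : Set (PrimeSpectrum R)) := by
    ext p
    simp [PrimeSpectrum.mem_zeroLocus, Set.subset_def]
  rw [this]
  exact isCompact_iUnion (fun σ => PrimeSpectrum.isCompact_basicOpen _)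

end Groth.Agent.S6285
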