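import Groth.Statements.S6286
import Mathlib

set_option autoImplicit false
universe u
open scoped TensorProduct
open CAlg

namespace Groth.Agent.S6286


section helpers

variable (k : Type u) [Field k] (R : Type u) [CommRing R] [Algebra k R]

/-- The base change map `R ⊗ A → κ(p) ⊗ A`. -/
noncomputable def toFiber (A : Type u) [CommRing A] [Algebra k A] (p : PrimeSpectrum R) :
    R ⊗[k] A →ₐ[k] p.asIdeal.ResidueField ⊗[k] A :=
  Algebra.TensorProduct.map (IsScalarTower.toAlgHom k R p.asIdeal.ResidueField) (AlgHom.id k A)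

/-- A prime of `R` is in the image of `D(g) ⊆ Spec (R ⊗ A)` iff `g` is not nilpotent in the fibre
ring `κ(p) ⊗ A`. -/
lemma exists_prime_iff_not_isNilpotent (A : Type u) [CommRing A] [Algebra k A] (g : R ⊗[k] A)
    (p : PrimeSpectrum R) :
    (∃ q : PrimeSpectrum (R ⊗[k] A), g ∉ q.asIdeal ∧
      q.asIdeal.comap (algebraMap R (R ⊗[k] A)) = p.asIdeal) ↔
    ¬ IsNilpotent (toFiber k R A p g) := by
  constructor
  · rintro ⟨q, hgq, hqp⟩ hnil
    let L := q.asIdeal.ResidueField
    have hf : p.asIdeal = q.asIdeal.comap
        (Algebra.TensorProduct.includeLeft : R →ₐ[k] R ⊗[k] A).toRingHom := by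
      rw [← hqp]; rfl
    let f₁ : p.asIdeal.ResidueField →ₐ[k] L :=
      Ideal.ResidueField.mapₐ p.asIdeal q.asIdeal Algebra.TensorProduct.includeLeft hf
    let f₂ : A →ₐ[k] L :=
      (IsScalarTower.toAlgHom k (R ⊗[k] A) L).comp Algebra.TensorProduct.includeRight
    let Φ : p.asIdeal.ResidueField ⊗[k] A →ₐ[k] L := Algebra.TensorProduct.productMap f₁ f₂
    have hΦ : Φ.comp (toFiber k R A p) = IsScalarTower.toAlgHom k (R ⊗[k] A) L := by
      apply Algebra.TensorProduct.ext
      · ext r
        have h5 : f₁ (algebraMap R p.asIdeal.ResidueField r) =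
            algebraMap (R ⊗[k] A) L (r ⊗ₜ[k] 1) :=
          Ideal.ResidueField.map_algebraMap p.asIdeal q.asIdeal _ hf r
        have h6 : f₂ 1 = 1 := map_one f₂
        simp only [AlgHom.comp_apply, toFiber, Algebra.TensorProduct.includeLeft_apply,
          Algebra.TensorProduct.map_tmul, IsScalarTower.coe_toAlgHom', map_one, Φ,
          Algebra.TensorProduct.productMap_apply_tmul, h5, mul_one]
      · ext a
        simp [Φ, toFiber, f₁, f₂]
    have h1 : IsNilpotent (algebraMap (R ⊗[k] A) L g) := by
      have := hnil.map Φ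
      have h2 : Φ (toFiber k R A p g) = algebraMap (R ⊗[k] A) L g := by
        have := AlgHom.congr_fun hΦ g
        simpa using this
      rwa [h2] at this
    have h3 : algebraMap (R ⊗[k] A) L g = 0 := h1.eq_zero
    exact hgq (Ideal.algebraMap_residueField_eq_zero.mp h3)
  · intro hnil
    have h1 : toFiber k R A p g ∉ nilradical (p.asIdeal.ResidueField ⊗[k] A) := by
      rwa [mem_nilradical]
    rw [nilradical_eq_sInf, Ideal.mem_sInf] at h1
    push Not at h1
    obtain ⟨Q, hQ, hgQ⟩ := h1
    have hQ' : Q.IsPrime := hQ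
    refine ⟨⟨Q.comap (toFiber k R A p), inferInstance⟩, hgQ, ?_⟩
    ext x
    simp only [Ideal.mem_comap]
    have hx : toFiber k R A p (algebraMap R (R ⊗[k] A) x) =
        algebraMap p.asIdeal.ResidueField (p.asIdeal.ResidueField ⊗[k] A)
          (algebraMap R p.asIdeal.ResidueField x) := by
      simp [toFiber, Algebra.TensorProduct.algebraMap_apply]
    rw [hx]
    constructor
    · intro h
      by_contra hxp
      have hu : IsUnit (algebraMap R p.asIdeal.ResidueField x) := by
        rw [isUnit_iff_ne_zero, Ne, Ideal.algebraMap_residueField_eq_zero]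
        exact hxp
      exact hQ'.ne_top (Ideal.eq_top_of_isUnit_mem _ h (hu.map _))
    · intro hxp
      rw [Ideal.algebraMap_residueField_eq_zero.mpr hxp, map_zero]
      exact Q.zero_mem

end helpers

/-- Let k be a field, R and S k-algebras, S' ⊆ S a k-subalgebra and f ∈ R ⊗ₖ S', with image f again in R
⊗ₖ S. Then the images in Spec(R) of Spec((R ⊗ₖ S)_f) and of Spec((R ⊗ₖ S')_f) coincide: a prime p of
R is the contraction of a prime of R ⊗ₖ S not containing f if and only if it is the contraction of a
prime of R ⊗ₖ S' not containing f. -/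
theorem result (k : Type u) [Field k] (R S : Type u) [CommRing R] [Algebra k R] [CommRing S] [Algebra k S] (S' : Subalgebra k S) (f : R ⊗[k] S') (p : PrimeSpectrum R) : (∃ q : PrimeSpectrum (R ⊗[k] S), Algebra.TensorProduct.map (AlgHom.id k R) S'.val f ∉ q.asIdeal ∧ q.asIdeal.comap (algebraMap R (R ⊗[k] S)) = p.asIdeal) ↔ (∃ q' : PrimeSpectrum (R ⊗[k] S'), f ∉ q'.asIdeal ∧ q'.asIdeal.comap (algebraMap R (R ⊗[k] S')) = p.asIdeal) := by
  rw [exists_prime_iff_not_isNilpotent, exists_prime_iff_not_isNilpotent]
  let ι : p.asIdeal.ResidueField ⊗[k] S' →ₐ[k] p.asIdeal.ResidueField ⊗[k] S :=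
    Algebra.TensorProduct.map (AlgHom.id k p.asIdeal.ResidueField) S'.val
  have hι : Function.Injective ι := by
    have : (ι : p.asIdeal.ResidueField ⊗[k] S' → p.asIdeal.ResidueField ⊗[k] S) =
        LinearMap.lTensor p.asIdeal.ResidueField S'.val.toLinearMap := by
      ext z
      induction z using TensorProduct.induction_on with
      | zero => simp
      | add a b ha hb => simp only [map_add, ha, hb]
      | tmul a b => simp [ι]
    rw [this]
    exact Module.Flat.lTensor_preserves_injective_linearMap _ Subtype.val_injective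
  have hcomm : toFiber k R S p (Algebra.TensorProduct.map (AlgHom.id k R) S'.val f) =
      ι (toFiber k R S' p f) := by
    induction f using TensorProduct.induction_on with
    | zero => simp
    | add a b ha hb => simp only [map_add, ha, hb]
    | tmul a b => simp [ι, toFiber]
  rw [hcomm]
  exact not_congr (IsNilpotent.map_iff hι)

end Groth.Agent.S6286
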