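import Groth.Statements.S6289
import Mathlib

set_option autoImplicit false
universe u
open CAlg

namespace Groth.Agent.S6289

theorem key (A' : Type u) [CommRing A'] [IsDomain A'] [ValuationRing A']
    (A : ValuationSubring (IsLocalRing.ResidueField A')) (a b c : A') (hc : a * c = b) :
    (IsLocalRing.residue A' c ∈ A) ∨
      ∃ d : A', IsLocalRing.residue A' d ∈ A ∧ b * d = a := by
  by_cases hcA : IsLocalRing.residue A' c ∈ A
  · exact Or.inl hcA
  · right
    have hinv : (IsLocalRing.residue A' c)⁻¹ ∈ A := (A.mem_or_inv_mem _).resolve_left hcA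
    have hne : IsLocalRing.residue A' c ≠ 0 := by
      intro h0
      apply hcA
      rw [h0]
      exact A.zero_mem
    obtain ⟨u, hu⟩ := (IsLocalRing.residue_ne_zero_iff_isUnit c).mp hne
    refine ⟨((u⁻¹ : A'ˣ) : A'), ?_, ?_⟩
    · have h1 : IsLocalRing.residue A' ((u⁻¹ : A'ˣ) : A') = (IsLocalRing.residue A' c)⁻¹ := by
        rw [← hu]
        apply eq_inv_of_mul_eq_one_left
        rw [← map_mul, Units.inv_mul, map_one]
      rw [h1]
      exact hinv
    · rw [← hc, ← hu, mul_assoc, Units.mul_inv, mul_one]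

/-- Let A' be a valuation ring with residue field K and A ⊆ K a valuation ring with fraction field K.
Then the subring C of A' consisting of the elements whose residue class lies in A is a valuation
ring. -/
theorem result (A' : Type u) [CommRing A'] [IsDomain A'] [ValuationRing A'] (A : ValuationSubring (IsLocalRing.ResidueField A')) : ValuationRing (A.toSubring.comap (IsLocalRing.residue A')) := by
  refine { cond' := ?_ }
  rintro ⟨a, ha⟩ ⟨b, hb⟩
  obtain ⟨c, hc | hc⟩ := ValuationRing.cond a b
  · rcases key A' A a b c hc with h | ⟨d, hd, hbd⟩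
    · exact ⟨⟨c, h⟩, Or.inl (Subtype.ext hc)⟩
    · exact ⟨⟨d, hd⟩, Or.inr (Subtype.ext hbd)⟩
  · rcases key A' A b a c hc with h | ⟨d, hd, hbd⟩
    · exact ⟨⟨c, h⟩, Or.inr (Subtype.ext hc)⟩
    · exact ⟨⟨d, hd⟩, Or.inl (Subtype.ext hbd)⟩

end Groth.Agent.S6289
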