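import Groth.Statements.S6294
import Mathlib

set_option autoImplicit false
universe u
open CAlg

namespace Groth.Agent.S6294

theorem mem_of_map_eq_zero {R : Type u} [CommRing R] (p : Ideal R) [p.IsPrime] (t : R)
    (h : algebraMap R (Localization.AtPrime p) t = 0) : t ∈ p := by
  rw [IsLocalization.map_eq_zero_iff p.primeCompl] at h
  obtain ⟨m, hm⟩ := h
  have : (m : R) * t ∈ p := by rw [hm]; exact p.zero_mem
  exact ((inferInstance : p.IsPrime).mem_or_mem this).resolve_left m.2

theorem isNilpotent_map_of_mem {R : Type u} [CommRing R] (p : Ideal R) [p.IsPrime]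
    (hp : p ∈ minimalPrimes R) (t : R) (ht : t ∈ p) :
    IsNilpotent (algebraMap R (Localization.AtPrime p) t) := by
  have hrad := IsLocalization.AtPrime.radical_map_of_mem_minimalPrimes
    (A := Localization.AtPrime p) p (⊥ : Ideal R) hp
  rw [Ideal.map_bot] at hrad
  have : algebraMap R (Localization.AtPrime p) t ∈ (⊥ : Ideal (Localization.AtPrime p)).radical := by
    rw [hrad]
    exact Ideal.mem_map_of_mem _ ht
  obtain ⟨n, hn⟩ := this
  exact ⟨n, hn⟩

/-- The orthogonal "almost idempotents". -/
theorem exists_e {R : Type u} [CommRing R] {ι : Type} [Fintype ι] (q : ι → Ideal R)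
    [∀ i, (q i).IsPrime] (hinj : Function.Injective q)
    (hmin : ∀ P : Ideal R, P ∈ minimalPrimes R ↔ P ∈ Set.range q) (i : ι) :
    ∃ e : R, e ∉ q i ∧ ∀ j, j ≠ i → algebraMap R (Localization.AtPrime (q j)) e = 0 := by
  classical
  have hB : ∀ j, ∃ t : R, j ≠ i → (t ∉ q i ∧ algebraMap R (Localization.AtPrime (q j)) t = 0) := by
    intro j
    by_cases hji : j = i
    · exact ⟨0, fun h => (h hji).elim⟩
    · have hqi : q i ∈ minimalPrimes R := (hmin _).mpr ⟨i, rfl⟩
      have hqj : q j ∈ minimalPrimes R := (hmin _).mpr ⟨j, rfl⟩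
      have hnle : ¬ q j ≤ q i := by
        intro hle
        have : q i ≤ q j := hqi.2 ⟨inferInstance, bot_le⟩ hle
        exact hji (hinj (le_antisymm hle this))
      obtain ⟨t0, ht0j, ht0i⟩ := SetLike.not_le_iff_exists.mp hnle
      obtain ⟨N, hN⟩ := isNilpotent_map_of_mem (q j) hqj t0 ht0j
      refine ⟨t0 ^ N, fun _ => ⟨?_, ?_⟩⟩
      · intro hmem
        exact ht0i ((inferInstance : (q i).IsPrime).mem_of_pow_mem N hmem)
      · rw [map_pow, hN]
  choose t ht using hB
  refine ⟨∏ j ∈ Finset.univ.erase i, t j, ?_, ?_⟩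
  · intro hmem
    obtain ⟨j, hj, hjmem⟩ := ((inferInstance : (q i).IsPrime).prod_mem_iff).mp hmem
    exact (ht j (Finset.ne_of_mem_erase hj)).1 hjmem
  · intro j hj
    rw [map_prod]
    exact Finset.prod_eq_zero (Finset.mem_erase.mpr ⟨hj, Finset.mem_univ j⟩) (ht j hj).2

/-- Let R be a ring with finitely many minimal primes q₁, …, q_t, and assume that the zerodivisors of R
are precisely the elements of q₁ ∪ … ∪ q_t. Then Q(R), the total ring of fractions of R, equals
R_{q₁} × … × R_{q_t}: the diagonal map R → ∏ R_{q_i} is a localization of R at its non-zerodivisors. -/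
theorem result {R : Type u} [CommRing R] {ι : Type} [Fintype ι] (q : ι → Ideal R) [∀ i, (q i).IsPrime] (hinj : Function.Injective q) (hmin : ∀ P : Ideal R, P ∈ minimalPrimes R ↔ P ∈ Set.range q) (hzd : ∀ x : R, x ∈ nonZeroDivisors R ↔ ∀ i, x ∉ q i) : IsLocalization (nonZeroDivisors R) (∀ i, Localization.AtPrime (q i)) := by
  classical
  have hE : ∀ i, ∃ e : R, e ∉ q i ∧ ∀ j, j ≠ i → algebraMap R (Localization.AtPrime (q j)) e = 0 :=
    fun i => exists_e q hinj hmin i
  choose e he using hE
  -- a combination `∑ e j * c j` with `c i ∉ q i` is a non-zero-divisor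
  have hcomb : ∀ c : ι → R, (∀ i, c i ∉ q i) → (∑ j, e j * c j) ∈ nonZeroDivisors R := by
    intro c hc
    rw [hzd]
    intro i hmem
    have hsplit : ∑ j, e j * c j = e i * c i + ∑ j ∈ Finset.univ.erase i, e j * c j := by
      exact (Finset.add_sum_erase Finset.univ (fun j => e j * c j) (Finset.mem_univ i)).symm
    have hrest : ∑ j ∈ Finset.univ.erase i, e j * c j ∈ q i := by
      apply Ideal.sum_mem
      intro j hj
      apply Ideal.mul_mem_right
      exact mem_of_map_eq_zero (q i) (e j) ((he j).2 i (Finset.ne_of_mem_erase hj).symm)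
    have h1 : e i * c i ∈ q i := by
      have := (q i).sub_mem hmem hrest
      rwa [hsplit, add_sub_cancel_right] at this
    rcases (inferInstance : (q i).IsPrime).mem_or_mem h1 with h | h
    · exact (he i).1 h
    · exact hc i h
  -- the image of such a combination in the `i`-th factor
  have hmap : ∀ (c : ι → R) (i : ι), algebraMap R (Localization.AtPrime (q i)) (∑ j, e j * c j) =
      algebraMap R (Localization.AtPrime (q i)) (e i) *
        algebraMap R (Localization.AtPrime (q i)) (c i) := by
    intro c i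
    rw [map_sum, Finset.sum_eq_single i]
    · rw [map_mul]
    · intro j _ hji
      rw [map_mul, (he j).2 i hji.symm, zero_mul]
    · intro h; exact (h (Finset.mem_univ i)).elim
  rw [isLocalization_iff]
  refine ⟨?_, ?_, ?_⟩
  · intro y
    rw [Pi.isUnit_iff]
    intro i
    rw [Pi.algebraMap_apply]
    have : (y : R) ∉ q i := (hzd y).mp y.2 i
    exact IsLocalization.map_units (Localization.AtPrime (q i)) (⟨y, this⟩ : (q i).primeCompl)
  · intro z
    have hz : ∀ i, ∃ x : R × (q i).primeCompl,
        z i * algebraMap R (Localization.AtPrime (q i)) x.2 =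
          algebraMap R (Localization.AtPrime (q i)) x.1 := fun i => IsLocalization.surj _ (z i)
    choose x hx using hz
    refine ⟨(∑ j, e j * (x j).1, ⟨∑ j, e j * ((x j).2 : R), hcomb _ (fun i => (x i).2.2)⟩), ?_⟩
    funext i
    rw [Pi.mul_apply, Pi.algebraMap_apply, Pi.algebraMap_apply]
    simp only
    rw [hmap, hmap, mul_left_comm, hx i]
  · intro x y hxy
    have hc : ∀ i, ∃ c : (q i).primeCompl, (c : R) * x = c * y := by
      intro i
      have := congrFun hxy i
      rw [Pi.algebraMap_apply, Pi.algebraMap_apply] at this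
      exact (IsLocalization.eq_iff_exists (q i).primeCompl _).mp this
    choose c hc using hc
    refine ⟨⟨∑ j, e j * (c j : R), hcomb _ (fun i => (c i).2)⟩, ?_⟩
    simp only
    rw [Finset.sum_mul, Finset.sum_mul]
    apply Finset.sum_congr rfl
    intro j _
    rw [mul_assoc, mul_assoc, hc j]

end Groth.Agent.S6294
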