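import Groth.Statements.S6295
import Mathlib

set_option autoImplicit false
universe u
open CAlg

namespace Groth.Agent.S6295

theorem exists_minimalPrime_notMem (R : Type u) [CommRing R] [IsReduced R] (x : R) (hx : x ≠ 0) :
    ∃ p ∈ minimalPrimes R, x ∉ p := by
  by_contra hcon
  push Not at hcon
  apply hx
  have h1 : x ∈ sInf (minimalPrimes R) := by
    rw [Ideal.mem_sInf]
    intro p hp
    exact hcon p hp
  have h2 : sInf (minimalPrimes R) = (⊥ : Ideal R).radical := Ideal.sInf_minimalPrimes
  rw [h2] at h1
  have h3 : (⊥ : Ideal R).radical = ⊥ := (Ideal.isRadical_bot (R := R)).radical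
  rw [h3] at h1
  exact h1

/-- Let R be a reduced ring. Then every localization R_p at a minimal prime p is a field and the map R →
∏_{p minimal} R_p is injective (so R is a subring of a product of fields); moreover the set of
zerodivisors of R is the union of the minimal primes. -/
theorem result (R : Type u) [CommRing R] [IsReduced R] : (∀ p : PrimeSpectrum R, p.asIdeal ∈ minimalPrimes R → IsField (Localization.AtPrime p.asIdeal)) ∧ Function.Injective (algebraMap R (∀ p : {p : PrimeSpectrum R // p.asIdeal ∈ minimalPrimes R}, Localization.AtPrime p.1.asIdeal)) ∧ (∀ x : R, x ∉ nonZeroDivisors R ↔ ∃ p ∈ minimalPrimes R, x ∈ p) := by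
  refine ⟨?_, ?_, ?_⟩
  · intro p hp
    have hrad := IsLocalization.AtPrime.radical_map_of_mem_minimalPrimes
      (A := Localization.AtPrime p.asIdeal) p.asIdeal (⊥ : Ideal R) hp
    rw [Ideal.map_bot, Localization.AtPrime.map_eq_maximalIdeal] at hrad
    have h3 : (⊥ : Ideal (Localization.AtPrime p.asIdeal)).radical = ⊥ :=
      (Ideal.isRadical_bot (R := Localization.AtPrime p.asIdeal)).radical
    rw [h3] at hrad
    exact IsLocalRing.isField_iff_maximalIdeal_eq.mpr hrad.symm
  · rw [injective_iff_map_eq_zero]
    intro x hx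
    by_contra hne
    obtain ⟨p, hp, hxp⟩ := exists_minimalPrime_notMem R x hne
    have hpprime : p.IsPrime := hp.1.1
    have h1 := congrFun hx ⟨⟨p, hpprime⟩, hp⟩
    rw [Pi.algebraMap_apply, Pi.zero_apply,
      IsLocalization.map_eq_zero_iff p.primeCompl] at h1
    obtain ⟨m, hm⟩ := h1
    have : (m : R) * x ∈ p := by rw [hm]; exact p.zero_mem
    rcases hpprime.mem_or_mem this with h | h
    · exact m.2 h
    · exact hxp h
  · intro x
    constructor
    · intro hx
      rw [mem_nonZeroDivisors_iff_right] at hx
      push Not at hx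
      obtain ⟨z, hz, hz0⟩ := hx
      obtain ⟨p, hp, hzp⟩ := exists_minimalPrime_notMem R z hz0
      refine ⟨p, hp, ?_⟩
      have hpprime : p.IsPrime := hp.1.1
      have : z * x ∈ p := by rw [hz]; exact p.zero_mem
      exact (hpprime.mem_or_mem this).resolve_left hzp
    · rintro ⟨p, hp, hxp⟩ hx
      exact Set.disjoint_left.mp (Ideal.disjoint_nonZeroDivisors_of_mem_minimalPrimes hp) hxp hx

end Groth.Agent.S6295
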