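import Groth.Statements.S6297
import Mathlib.LinearAlgebra.Matrix.Adjugate
-- import your own Groth.Agent.* helpers here

set_option autoImplicit false
universe u
open CAlg

namespace Groth.Agent.S6297

theorem part1 {R : Type u} [CommRing R] {n m : ℕ} (A : Matrix (Fin n) (Fin m) R) :
    ∀ f ∈ CAlgX.minorIdeal A m, ∃ B : Matrix (Fin m) (Fin n) R,
      B * A = f • (1 : Matrix (Fin m) (Fin m) R) := by
  intro f hf
  unfold CAlgX.minorIdeal at hf
  induction hf using Submodule.span_induction with
  | mem x hx =>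
    obtain ⟨⟨g, h⟩, rfl⟩ := hx
    have e1 : A.submatrix g h = A.submatrix g id *
        (1 : Matrix (Fin m) (Fin m) R).submatrix id h := by
      have := Matrix.submatrix_mul A (1 : Matrix (Fin m) (Fin m) R) g id h Function.bijective_id
      rwa [Matrix.mul_one] at this
    have e2 : A.submatrix g id = (1 : Matrix (Fin n) (Fin n) R).submatrix g id * A := by
      have := Matrix.submatrix_mul (1 : Matrix (Fin n) (Fin n) R) A g id id Function.bijective_id
      rwa [Matrix.one_mul, Matrix.submatrix_id_id] at this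
    refine ⟨((1 : Matrix (Fin m) (Fin m) R).submatrix id h).det •
      ((A.submatrix g id).adjugate * (1 : Matrix (Fin n) (Fin n) R).submatrix g id), ?_⟩
    simp only []
    rw [Matrix.smul_mul, Matrix.mul_assoc, ← e2, Matrix.adjugate_mul, e1, Matrix.det_mul,
      smul_smul, mul_comm]
  | zero => exact ⟨0, by simp⟩
  | add x y _ _ hx hy =>
    obtain ⟨B1, h1⟩ := hx
    obtain ⟨B2, h2⟩ := hy
    exact ⟨B1 + B2, by rw [Matrix.add_mul, h1, h2, add_smul]⟩
  | smul a x _ hx =>
    obtain ⟨B, hB⟩ := hx
    exact ⟨a • B, by rw [Matrix.smul_mul, hB, smul_smul]; rfl⟩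

theorem det_mul_mem {R : Type u} [CommRing R] {n m : ℕ} (B : Matrix (Fin m) (Fin n) R)
    (A : Matrix (Fin n) (Fin m) R) : (B * A).det ∈ CAlgX.minorIdeal A m := by
  have h : (B * A) = fun i => ∑ k, B i k • A k := by
    ext i j
    simp [Matrix.mul_apply, Finset.sum_apply]
  have h2 : (B * A).det = ∑ r : Fin m → Fin n, (∏ i, B i (r i)) • (A.submatrix r id).det := by
    change Matrix.detRowAlternating (B * A) = _
    rw [h]
    rw [← AlternatingMap.coe_multilinearMap, MultilinearMap.map_sum]
    refine Finset.sum_congr rfl fun r _ => ?_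
    rw [MultilinearMap.map_smul_univ]
    rfl
  rw [h2]
  refine Ideal.sum_mem _ fun r _ => ?_
  rw [smul_eq_mul]
  refine Ideal.mul_mem_left _ _ ?_
  exact Ideal.subset_span ⟨(r, id), rfl⟩

/-- Let R be a ring, m ≤ n, A an n × m matrix over R and J the ideal generated by the m × m minors of A.
(1) For every f ∈ J there is an m × n matrix B with BA = f · 1. (2) If BA = f · 1 for some m × n
matrix B, then f^m ∈ J. -/
theorem result {R : Type u} [CommRing R] {n m : ℕ} (hmn : m ≤ n) (A : Matrix (Fin n) (Fin m) R) : (∀ f ∈ CAlgX.minorIdeal A m, ∃ B : Matrix (Fin m) (Fin n) R, B * A = f • (1 : Matrix (Fin m) (Fin m) R)) ∧ (∀ (f : R) (B : Matrix (Fin m) (Fin n) R), B * A = f • (1 : Matrix (Fin m) (Fin m) R) → f ^ m ∈ CAlgX.minorIdeal A m) := by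
  refine ⟨part1 A, fun f B hB => ?_⟩
  have := det_mul_mem B A
  rw [hB, Matrix.det_smul, Matrix.det_one, mul_one, Fintype.card_fin] at this
  exact this

end Groth.Agent.S6297
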