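import Groth.Statements.S6298
import Mathlib

set_option autoImplicit false
universe u
open CAlg

namespace Groth.Agent.S6298

theorem aux {R : Type u} [CommRing R] (x : R) (I : Ideal R) (n : ℕ) :
    ∀ s : Finset (Ideal R), s.card = n → (∀ p ∈ s, p.IsPrime ∧ ∃ y ∈ I, x + y ∉ p) →
      ∃ y ∈ I, ∀ p ∈ s, x + y ∉ p := by
  classical
  induction n with
  | zero =>
    intro s hs _
    rw [Finset.card_eq_zero] at hs
    subst hs
    exact ⟨0, I.zero_mem, by simp⟩
  | succ n ih =>
    intro s hs h
    have hne : s.Nonempty := by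
      rw [← Finset.card_pos, hs]; exact Nat.succ_pos n
    obtain ⟨p, hp, hpmin⟩ := s.exists_minimal hne
    have hcard : (s.erase p).card = n := by
      rw [Finset.card_erase_of_mem hp, hs]; rfl
    obtain ⟨y, hyI, hy⟩ := ih (s.erase p) hcard (fun q hq => h q (Finset.mem_of_mem_erase hq))
    by_cases hxy : x + y ∈ p
    · -- need to modify y
      have hpprime : p.IsPrime := (h p hp).1
      obtain ⟨y', hy'I, hy'⟩ := (h p hp).2
      have hIp : ¬ I ≤ p := by
        intro hle
        apply hy'
        have h1 : x ∈ p := by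
          have := p.sub_mem hxy (hle hyI)
          simpa using this
        exact p.add_mem h1 (hle hy'I)
      have hprod : ¬ (I * ∏ q ∈ s.erase p, q) ≤ p := by
        intro hle
        rcases hpprime.mul_le.mp hle with h1 | h1
        · exact hIp h1
        · obtain ⟨q, hq, hqp⟩ := (hpprime.prod_le).mp h1
          have hqs : q ∈ s := Finset.mem_of_mem_erase hq
          have : p ≤ q := hpmin hqs hqp
          exact (Finset.ne_of_mem_erase hq) (le_antisymm hqp this)
      obtain ⟨z, hz, hzp⟩ := SetLike.not_le_iff_exists.mp hprod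
      have hle1 : I * ∏ q ∈ s.erase p, q ≤ I := Ideal.mul_le_left
      have hle2 : I * ∏ q ∈ s.erase p, q ≤ ∏ q ∈ s.erase p, q := Ideal.mul_le_right
      have hzI : z ∈ I := hle1 hz
      have hzq : ∀ q ∈ s.erase p, z ∈ q := by
        intro q hq
        have h1 : z ∈ ∏ q ∈ s.erase p, q := hle2 hz
        exact Ideal.le_of_dvd (Finset.dvd_prod_of_mem (fun q => q) hq) h1
      refine ⟨y + z, I.add_mem hyI hzI, ?_⟩
      intro q hq
      by_cases hqp : q = p
      · subst hqp
        intro hmem
        apply hzp
        have := q.sub_mem hmem hxy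
        have e : x + (y + z) - (x + y) = z := by ring
        rwa [e] at this
      · have hq' : q ∈ s.erase p := Finset.mem_erase.mpr ⟨hqp, hq⟩
        intro hmem
        apply hy q hq'
        have := q.sub_mem hmem (hzq q hq')
        have e : x + (y + z) - z = x + y := by ring
        rwa [e] at this
    · refine ⟨y, hyI, ?_⟩
      intro q hq
      by_cases hqp : q = p
      · subst hqp; exact hxy
      · exact hy q (Finset.mem_erase.mpr ⟨hqp, hq⟩)

/-- Let R be a ring, x ∈ R, I ⊆ R an ideal and p₁, …, p_r prime ideals such that for each i the coset x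
+ I is not contained in p_i. Then there is y ∈ I with x + y ∉ p_i for all i. -/
theorem result {R : Type u} [CommRing R] (x : R) (I : Ideal R) {r : ℕ} (p : Fin r → Ideal R) [∀ i, (p i).IsPrime] (h : ∀ i, ∃ y ∈ I, x + y ∉ p i) : ∃ y ∈ I, ∀ i, x + y ∉ p i := by
  classical
  obtain ⟨y, hyI, hy⟩ := aux x I _ (Finset.univ.image p) rfl (by
    intro q hq
    obtain ⟨i, _, rfl⟩ := Finset.mem_image.mp hq
    exact ⟨inferInstance, h i⟩)
  exact ⟨y, hyI, fun i => hy (p i) (Finset.mem_image_of_mem p (Finset.mem_univ i))⟩

end Groth.Agent.S6298
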