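import Groth.Statements.S6300
import Mathlib

set_option autoImplicit false
universe u
open CAlg

namespace Groth.Agent.S6300

/-- Let R be a normal ring (every localization at a prime is an integrally closed domain). Then R[x] is
a normal ring. -/
theorem result (R : Type u) [CommRing R] (hR : EGA4.IsNormalRing R) : EGA4.IsNormalRing (Polynomial R) := by
  classical
  intro P hP
  let q := P.comap (Polynomial.C : R →+* Polynomial R)
  obtain ⟨hdom, hic⟩ := hR q
  let S := Polynomial (Localization.AtPrime q)
  let pc := Submonoid.map (Polynomial.C : R →+* Polynomial R).toMonoidHom q.primeCompl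
  let _ : Algebra (Polynomial R) S := Polynomial.algebra R (Localization.AtPrime q)
  have : IsLocalization pc S := Polynomial.isLocalization _ _
  let pS := P.map (algebraMap (Polynomial R) S)
  have disj : Disjoint (pc : Set (Polynomial R)) (P : Set (Polynomial R)) := by
    simpa [pc, q] using! Set.disjoint_image_left.mpr
      (Set.disjoint_compl_left_iff_subset.mpr (fun _ a ↦ a))
  have : pS.IsPrime := IsLocalization.isPrime_of_isPrime_disjoint pc _ _ ‹_› disj
  have hloc : IsLocalization.AtPrime (Localization.AtPrime pS) P := by
    convert IsLocalization.isLocalization_isLocalization_atPrime_isLocalization pc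
      (Localization.AtPrime pS) pS
    exact (IsLocalization.under_map_of_isPrime_disjoint pc _ ‹_› disj).symm
  have hdomS : IsDomain S := inferInstance
  have hicS : IsIntegrallyClosed S := inferInstance
  have hdom' : IsDomain (Localization.AtPrime pS) :=
    IsLocalization.isDomain_localization pS.primeCompl_le_nonZeroDivisors
  have hic' : IsIntegrallyClosed (Localization.AtPrime pS) :=
    isIntegrallyClosed_of_isLocalization _ pS.primeCompl pS.primeCompl_le_nonZeroDivisors
  let e : Localization.AtPrime P ≃ₐ[Polynomial R] Localization.AtPrime pS :=
    IsLocalization.algEquiv P.primeCompl _ _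
  refine ⟨e.toRingEquiv.toMulEquiv.isDomain _, ?_⟩
  exact IsIntegrallyClosed.of_equiv (R := Localization.AtPrime pS) e.symm.toRingEquiv

end Groth.Agent.S6300
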