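import Groth.Statements.S6301
import Mathlib

set_option autoImplicit false
universe u
open CAlg

namespace Groth.Agent.S6301


/-- A linear map from a finite free module into `M →₀ R` has image supported on a finite set. -/
lemma exists_finset_supported {R : Type u} [CommRing R] {M : Type u} {l : ℕ}
    (φ : (Fin l →₀ R) →ₗ[R] (M →₀ R)) :
    ∃ s : Finset M, ∀ v, φ v ∈ Finsupp.supported R R (s : Set M) := by
  classical
  refine ⟨Finset.univ.biUnion fun i => (φ (Finsupp.single i 1)).support, fun v => ?_⟩
  induction v using Finsupp.induction_linear with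
  | zero => simp
  | add f g hf hg => rw [map_add]; exact Submodule.add_mem _ hf hg
  | single i r =>
    have : (Finsupp.single i r : Fin l →₀ R) = r • Finsupp.single i 1 := by
      rw [Finsupp.smul_single, smul_eq_mul, mul_one]
    rw [this, map_smul]
    refine Submodule.smul_mem _ _ ?_
    rw [Finsupp.mem_supported]
    intro m hm
    simp only [Finset.coe_biUnion, Finset.coe_univ, Set.mem_univ, Set.iUnion_true, Set.mem_iUnion]
    exact ⟨i, hm⟩

/-- An R-module M is flat exactly when, for every finitely presented R-module P and every surjective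
R-module map N → M, the induced map Hom_R(P, N) → Hom_R(P, M) is surjective (modules P, N taken in
the same universe). -/
theorem result {R : Type u} [CommRing R] (M : Type u) [AddCommGroup M] [Module R M] : Module.Flat R M ↔ ∀ (P : Type u) [AddCommGroup P] [Module R P], Module.FinitePresentation R P → ∀ (N : Type u) [AddCommGroup N] [Module R N] (g : N →ₗ[R] M), Function.Surjective g → ∀ h : P →ₗ[R] M, ∃ h' : P →ₗ[R] N, g.comp h' = h := by
  classical
  constructor
  · intro hflat P _ _ hP N _ _ g hg h
    have := hP
    obtain ⟨k, h₂, h₃, rfl⟩ := Module.Flat.exists_factorization_of_finitePresentation h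
    obtain ⟨h'', hh''⟩ := Module.projective_lifting_property g h₃ hg
    exact ⟨h'' ∘ₗ h₂, by rw [← LinearMap.comp_assoc, hh'']⟩
  · intro H
    refine Module.Flat.of_forall_exists_factorization ?_
    intro l f x hx
    -- the finitely presented module `R^l / (f)`
    let K : Submodule R (Fin l →₀ R) := Submodule.span R {f}
    have hP : Module.FinitePresentation R ((Fin l →₀ R) ⧸ K) :=
      Module.finitePresentation_of_surjective K.mkQ K.mkQ_surjective
        (by rw [Submodule.ker_mkQ]; exact Submodule.fg_span_singleton f)
    have hK : K ≤ LinearMap.ker x := by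
      rw [Submodule.span_le, Set.singleton_subset_iff]
      exact hx
    let h : ((Fin l →₀ R) ⧸ K) →ₗ[R] M := K.liftQ x hK
    let g : (M →₀ R) →ₗ[R] M := Finsupp.linearCombination R id
    have hg : Function.Surjective g := fun m => ⟨Finsupp.single m 1, by simp [g]⟩
    obtain ⟨h', hh'⟩ := H _ hP (M →₀ R) g hg h
    let φ : (Fin l →₀ R) →ₗ[R] (M →₀ R) := h' ∘ₗ K.mkQ
    obtain ⟨s, hs⟩ := exists_finset_supported φ
    let e : s ≃ Fin s.card := s.equivFin
    let a : (Fin l →₀ R) →ₗ[R] (Fin s.card →₀ R) :=
      (Finsupp.domLCongr e).toLinearMap ∘ₗ Finsupp.lsubtypeDomain (s : Set M) ∘ₗ φ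
    let y : (Fin s.card →₀ R) →ₗ[R] M :=
      Finsupp.linearCombination R (fun j => ((e.symm j : s) : M))
    refine ⟨s.card, a, y, ?_, ?_⟩
    · refine LinearMap.ext fun v => ?_
      have h1 : x v = g (φ v) := by
        have := LinearMap.congr_fun hh' (K.mkQ v)
        simp only [LinearMap.comp_apply] at this
        rw [show φ v = h' (K.mkQ v) from rfl, this]
        simp [h]
      have hsupp : (φ v).support ⊆ s := by
        have := hs v
        rw [Finsupp.mem_supported] at this
        exact_mod_cast this
      rw [h1]
      simp only [g, y, a, LinearMap.comp_apply, Finsupp.linearCombination_apply]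
      rw [Finsupp.sum_of_support_subset _ hsupp _ (by simp), Finsupp.sum_fintype _ _ (by simp)]
      rw [← Finset.sum_coe_sort s, ← Equiv.sum_comp e.symm]
      refine Finset.sum_congr rfl fun j _ => ?_
      simp [Finsupp.domLCongr_apply, Finsupp.lsubtypeDomain, Finsupp.subtypeDomain]
    · have : K.mkQ f = 0 := by
        rw [Submodule.mkQ_apply, Submodule.Quotient.mk_eq_zero]
        exact Submodule.mem_span_singleton_self f
      simp [a, φ, this]

end Groth.Agent.S6301
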