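import Groth.Statements.S6303
import Mathlib

set_option autoImplicit false
universe u
open CAlg

namespace Groth.Agent.S6303

open TensorProduct in
theorem mem_smul_top_iff {R : Type u} [CommRing R] (I : Ideal R) (M : Type u) [AddCommGroup M]
    [Module R M] (x : M) : x ∈ I • (⊤ : Submodule R M) ↔ (1 : R ⧸ I) ⊗ₜ[R] x = 0 := by
  rw [← (TensorProduct.quotTensorEquivQuotSMul M I).map_eq_zero_iff,
    TensorProduct.quotTensorEquivQuotSMul_mk_one_tmul, Submodule.Quotient.mk_eq_zero]

/-- Let R be a ring, I, J ⊆ R ideals and M a flat R-module. Then IM ∩ JM = (I ∩ J)M. -/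
theorem result {R : Type u} [CommRing R] (I J : Ideal R) (M : Type u) [AddCommGroup M] [Module R M] [Module.Flat R M] : (I • (⊤ : Submodule R M)) ⊓ (J • ⊤) = (I ⊓ J) • (⊤ : Submodule R M) := by
  apply le_antisymm
  · rintro x ⟨hxI, hxJ⟩
    rw [SetLike.mem_coe, mem_smul_top_iff] at hxI hxJ
    rw [mem_smul_top_iff]
    let φI : R ⧸ (I ⊓ J) →ₗ[R] R ⧸ I := Submodule.mapQ (I ⊓ J) I LinearMap.id (by
      intro r hr; exact hr.1)
    let φJ : R ⧸ (I ⊓ J) →ₗ[R] R ⧸ J := Submodule.mapQ (I ⊓ J) J LinearMap.id (by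
      intro r hr; exact hr.2)
    let ψ : R ⧸ (I ⊓ J) →ₗ[R] (R ⧸ I) × (R ⧸ J) := φI.prod φJ
    have hψ : Function.Injective ψ := by
      rw [← LinearMap.ker_eq_bot, eq_bot_iff]
      intro y hy
      obtain ⟨r, rfl⟩ := Submodule.Quotient.mk_surjective _ y
      rw [LinearMap.mem_ker] at hy
      have h1 : φI (Submodule.Quotient.mk r) = 0 := congrArg Prod.fst hy
      have h2 : φJ (Submodule.Quotient.mk r) = 0 := congrArg Prod.snd hy
      simp only [φI, φJ, Submodule.mapQ_apply, LinearMap.id_coe, id_eq,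
        Submodule.Quotient.mk_eq_zero] at h1 h2
      rw [Submodule.mem_bot, Submodule.Quotient.mk_eq_zero]
      exact ⟨h1, h2⟩
    have hinj := Module.Flat.rTensor_preserves_injective_linearMap (M := M) ψ hψ
    apply hinj
    rw [map_zero, LinearMap.rTensor_tmul]
    have hψ1 : ψ 1 = LinearMap.inl R (R ⧸ I) (R ⧸ J) 1 + LinearMap.inr R (R ⧸ I) (R ⧸ J) 1 := by
      simp only [LinearMap.coe_inl, LinearMap.coe_inr, Prod.mk_add_mk, add_zero, zero_add]
      rfl
    rw [hψ1, TensorProduct.add_tmul, ← LinearMap.rTensor_tmul, ← LinearMap.rTensor_tmul, hxI, hxJ,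
      map_zero, map_zero, add_zero]
  · exact le_inf (Submodule.smul_mono_left inf_le_left) (Submodule.smul_mono_left inf_le_right)

end Groth.Agent.S6303
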