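import Groth.Statements.S6304
import Mathlib

set_option autoImplicit false
universe u
open CAlg

namespace Groth.Agent.S6304

open TensorProduct in
theorem aux {R : Type u} [CommRing R] {M' M M'' : Type u}
    [AddCommGroup M'] [Module R M'] [AddCommGroup M] [Module R M] [AddCommGroup M''] [Module R M'']
    (f : M' →ₗ[R] M) (g : M →ₗ[R] M'') (hf : Function.Injective f) (hexact : Function.Exact f g)
    (hg : Function.Surjective g) [Module.Flat R M''] (N : Type u) [AddCommGroup N] [Module R N]
    (F K : Type u) [AddCommGroup F] [Module R F] [Module.Flat R F] [AddCommGroup K] [Module R K]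
    (i : K →ₗ[R] F) (π : F →ₗ[R] N) (hi : Function.Injective i) (hiπ : Function.Exact i π)
    (hπ : Function.Surjective π) :
    Function.Injective (f.rTensor N) := by
  have h1 : Function.Injective (i.rTensor M'') :=
    Module.Flat.rTensor_preserves_injective_linearMap _ hi
  have h2 : Function.Injective (f.lTensor F) :=
    Module.Flat.lTensor_preserves_injective_linearMap _ hf
  have := lTensor_injective_of_exact_of_exact_of_rTensor_injective hiπ hπ hexact hg h1 h2
  rwa [LinearMap.lTensor_inj_iff_rTensor_inj] at this

open TensorProduct in
/-- If `M''` is flat then `M' ⊗ N → M ⊗ N` stays injective for every `N`. -/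
theorem rTensor_injective_of_flat_right {R : Type u} [CommRing R] {M' M M'' : Type u}
    [AddCommGroup M'] [Module R M'] [AddCommGroup M] [Module R M] [AddCommGroup M''] [Module R M'']
    (f : M' →ₗ[R] M) (g : M →ₗ[R] M'') (hf : Function.Injective f) (hexact : Function.Exact f g)
    (hg : Function.Surjective g) [Module.Flat R M''] (N : Type u) [AddCommGroup N] [Module R N] :
    Function.Injective (f.rTensor N) := by
  let π : (N →₀ R) →ₗ[R] N := Finsupp.linearCombination R id
  have hπ : Function.Surjective π := Finsupp.linearCombination_id_surjective R N
  have hKexact : Function.Exact (LinearMap.ker π).subtype π := by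
    rw [LinearMap.exact_iff, Submodule.range_subtype]
  exact aux f g hf hexact hg N (N →₀ R) (LinearMap.ker π) (LinearMap.ker π).subtype π
    (LinearMap.ker π).injective_subtype hKexact hπ

/-- In a short exact sequence 0 → M' → M → M'' → 0 of R-modules whose right-hand term M'' is flat, the
middle term M is flat when M' is, and M' is flat when M is. -/
theorem result {R : Type u} [CommRing R] {M' M M'' : Type u} [AddCommGroup M'] [Module R M'] [AddCommGroup M] [Module R M] [AddCommGroup M''] [Module R M''] (f : M' →ₗ[R] M) (g : M →ₗ[R] M'') (hf : Function.Injective f) (hexact : Function.Exact f g) (hg : Function.Surjective g) [Module.Flat R M''] : (Module.Flat R M' → Module.Flat R M) ∧ (Module.Flat R M → Module.Flat R M') := by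
  constructor
  · intro hM'
    rw [Module.Flat.iff_lTensor_preserves_injective_linearMap]
    intro A B _ _ _ _ φ hφ
    rw [injective_iff_map_eq_zero]
    intro x hx
    -- image in M'' ⊗ A vanishes
    have h1 : g.rTensor A x = 0 := by
      apply Module.Flat.lTensor_preserves_injective_linearMap (M := M'') φ hφ
      rw [map_zero, ← LinearMap.comp_apply, LinearMap.lTensor_comp_rTensor,
        ← LinearMap.rTensor_comp_lTensor, LinearMap.comp_apply, hx, map_zero]
    obtain ⟨y, rfl⟩ := (rTensor_exact A hexact hg x).mp h1
    have h2 : φ.lTensor M' y = 0 := by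
      apply rTensor_injective_of_flat_right f g hf hexact hg B
      rw [map_zero, ← LinearMap.comp_apply, LinearMap.rTensor_comp_lTensor,
        ← LinearMap.lTensor_comp_rTensor, LinearMap.comp_apply, hx]
    have h3 : y = 0 := by
      apply Module.Flat.lTensor_preserves_injective_linearMap (M := M') φ hφ
      rw [h2, map_zero]
    rw [h3, map_zero]
  · intro hM
    rw [Module.Flat.iff_lTensor_preserves_injective_linearMap]
    intro A B _ _ _ _ φ hφ
    rw [injective_iff_map_eq_zero]
    intro x hx
    apply rTensor_injective_of_flat_right f g hf hexact hg A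
    rw [map_zero]
    apply Module.Flat.lTensor_preserves_injective_linearMap (M := M) φ hφ
    rw [map_zero, ← LinearMap.comp_apply, LinearMap.lTensor_comp_rTensor,
      ← LinearMap.rTensor_comp_lTensor, LinearMap.comp_apply, hx, map_zero]

end Groth.Agent.S6304
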