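import Groth.Statements.S6307
import Mathlib

set_option autoImplicit false
universe u
open CAlg

namespace Groth.Agent.S6307

/-- Let R be a ring, J ⊆ R a principal ideal and I ⊆ J an ideal. Then I = J · (I : J). -/
theorem result {R : Type u} [CommRing R] (I J : Ideal R) (hJ : J.IsPrincipal) (hIJ : I ≤ J) : I = J * I.colon J := by
  obtain ⟨a, rfl⟩ := hJ.principal
  change I = Ideal.span {a} * I.colon ((Ideal.span {a} : Ideal R) : Set R)
  rw [Ideal.colon_span]
  apply le_antisymm
  · intro x hx
    obtain ⟨r, rfl⟩ := Ideal.mem_span_singleton'.mp (hIJ hx)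
    have hr : r ∈ Submodule.colon I {a} := by
      rw [Submodule.mem_colon_singleton]
      exact hx
    have := Ideal.mul_mem_mul (Ideal.mem_span_singleton_self a) hr
    rw [mul_comm r a]
    exact this
  · rw [Ideal.span_singleton_mul_le_iff]
    intro r hr
    rw [Submodule.mem_colon_singleton] at hr
    rw [mul_comm]
    exact hr

end Groth.Agent.S6307
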