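import Groth.Statements.S6309
import Mathlib

set_option autoImplicit false
universe u
open scoped TensorProduct
open CAlg

namespace Groth.Agent.S6309


section helpers

variable {R : Type u} [CommRing R] {P₁ P₂ : Type u} [AddCommGroup P₁] [Module R P₁]
  [AddCommGroup P₂] [Module R P₂]

/-- If `φ ⊗ κ(p)` is injective, then `φ` has a retraction up to an element outside `p`. -/
lemma exists_retraction_of_injective [Module.Finite R P₁] [Module.Projective R P₁]
    [Module.Finite R P₂] [Module.Projective R P₂] (φ : P₁ →ₗ[R] P₂) (p : PrimeSpectrum R)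
    (h : Function.Injective (φ.lTensor p.asIdeal.ResidueField)) :
    ∃ (f : R) (ψ : P₂ →ₗ[R] P₁), f ∉ p.asIdeal ∧ ψ ∘ₗ φ = f • LinearMap.id := by
  let A := Localization.AtPrime p.asIdeal
  let κ := p.asIdeal.ResidueField
  let S := p.asIdeal.primeCompl
  let l : A ⊗[R] P₁ →ₗ[A] A ⊗[R] P₂ := φ.baseChange A
  have : Module.Free A (A ⊗[R] P₂) := Module.free_of_flat_of_isLocalRing
  let e₁ := TensorProduct.AlgebraTensorModule.cancelBaseChange R A A κ P₁
  let e₂ := TensorProduct.AlgebraTensorModule.cancelBaseChange R A A κ P₂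
  have hnat : ∀ z, e₂ (l.lTensor κ z) = φ.lTensor κ (e₁ z) := by
    intro z
    induction z using TensorProduct.induction_on with
    | zero => simp
    | add a b ha hb => simp only [map_add, ha, hb]
    | tmul k y =>
      induction y using TensorProduct.induction_on with
      | zero => simp
      | add a b ha hb => simp only [TensorProduct.tmul_add, map_add, ha, hb]
      | tmul a x =>
        simp [l, e₁, e₂]
  have hl : Function.Injective (l.lTensor (IsLocalRing.ResidueField A)) := by
    intro z z' hz
    have h1 : φ.lTensor κ (e₁ z) = φ.lTensor κ (e₁ z') := by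
      rw [← hnat, ← hnat]
      exact congrArg e₂ hz
    exact e₁.injective (h h1)
  obtain ⟨l', hl'⟩ := (IsLocalRing.split_injective_iff_lTensor_residueField_injective l).mpr hl
  let g₁ : P₁ →ₗ[R] A ⊗[R] P₁ := TensorProduct.mk R A P₁ 1
  let g₂ : P₂ →ₗ[R] A ⊗[R] P₂ := TensorProduct.mk R A P₂ 1
  have : IsLocalizedModule S g₁ := IsLocalization.tensorProduct_isLocalizedModule S A
  have : IsLocalizedModule S g₂ := IsLocalization.tensorProduct_isLocalizedModule S A
  have : Module.FinitePresentation R P₂ := Module.finitePresentation_of_projective R P₂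
  obtain ⟨ψ, s, hψ⟩ := Module.FinitePresentation.exists_lift_of_isLocalizedModule S g₁
    ((l'.restrictScalars R) ∘ₗ g₂)
  have hcomp : g₁ ∘ₗ (ψ ∘ₗ φ) = g₁ ∘ₗ ((s : R) • LinearMap.id) := by
    ext x
    have h2 := LinearMap.congr_fun hψ (φ x)
    have h3 : l' (l (g₁ x)) = g₁ x := LinearMap.congr_fun hl' (g₁ x)
    have h4 : l (g₁ x) = g₂ (φ x) := by simp [l, g₁, g₂]
    simp only [LinearMap.comp_apply, LinearMap.smul_apply, LinearMap.id_apply, map_smul]
    simp only [LinearMap.comp_apply, LinearMap.smul_apply, LinearMap.restrictScalars_apply]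
      at h2
    rw [h2, ← h4, h3]
    rfl
  obtain ⟨t, ht⟩ := Module.Finite.exists_smul_of_comp_eq_of_isLocalizedModule S g₁
    (ψ ∘ₗ φ) ((s : R) • LinearMap.id) hcomp
  refine ⟨t * s, (t : R) • ψ, (t * s).2, ?_⟩
  have ht' : (t : R) • (ψ ∘ₗ φ) = (t : R) • ((s : R) • LinearMap.id) := ht
  rw [LinearMap.smul_comp, ht', mul_smul]

/-- If `φ` has a retraction up to `f`, then `φ ⊗ κ(q)` is injective for `q ∈ D(f)`. -/
lemma injective_lTensor_of_retraction (φ : P₁ →ₗ[R] P₂) (f : R) (ψ : P₂ →ₗ[R] P₁)
    (hψ : ψ ∘ₗ φ = f • LinearMap.id) (q : PrimeSpectrum R) (hf : f ∉ q.asIdeal) :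
    Function.Injective (φ.lTensor q.asIdeal.ResidueField) := by
  have hu : IsUnit (algebraMap R q.asIdeal.ResidueField f) := by
    rw [isUnit_iff_ne_zero, Ne, Ideal.algebraMap_residueField_eq_zero]
    exact hf
  have h1 : ∀ z, ψ.lTensor q.asIdeal.ResidueField (φ.lTensor q.asIdeal.ResidueField z) =
      (algebraMap R q.asIdeal.ResidueField f) • z := by
    intro z
    rw [← LinearMap.comp_apply, ← LinearMap.lTensor_comp, hψ]
    induction z using TensorProduct.induction_on with
    | zero => simp
    | add a b ha hb => rw [map_add, ha, hb, smul_add]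
    | tmul k x =>
      simp only [LinearMap.lTensor_tmul, LinearMap.smul_apply, LinearMap.id_apply,
        TensorProduct.tmul_smul, TensorProduct.smul_tmul', algebraMap_smul]
  intro z z' hz
  have h2 := congrArg (ψ.lTensor q.asIdeal.ResidueField) hz
  rw [h1, h1] at h2
  exact hu.smul_left_cancel.mp h2

end helpers

/-- Let R be a ring and φ : P₁ → P₂ a map of finite projective R-modules. The set U of primes p of R
such that φ ⊗ κ(p) is injective is open, and for every f ∈ R with D(f) ⊆ U the map (P₁)_f → (P₂)_f
is injective and Coker(φ)_f is a finite projective module over R_f. -/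
theorem result {R : Type u} [CommRing R] {P₁ P₂ : Type u} [AddCommGroup P₁] [Module R P₁] [AddCommGroup P₂] [Module R P₂] [Module.Finite R P₁] [Module.Projective R P₁] [Module.Finite R P₂] [Module.Projective R P₂] (φ : P₁ →ₗ[R] P₂) : IsOpen {p : PrimeSpectrum R | Function.Injective (φ.lTensor p.asIdeal.ResidueField)} ∧ ∀ f : R, (↑(PrimeSpectrum.basicOpen f) : Set (PrimeSpectrum R)) ⊆ {p : PrimeSpectrum R | Function.Injective (φ.lTensor p.asIdeal.ResidueField)} → Function.Injective (LocalizedModule.map (Submonoid.powers f) φ) ∧ Module.Finite (Localization.Away f) (LocalizedModule (Submonoid.powers f) (P₂ ⧸ LinearMap.range φ)) ∧ Module.Projective (Localization.Away f) (LocalizedModule (Submonoid.powers f) (P₂ ⧸ LinearMap.range φ)) := by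
  classical
  refine ⟨?_, ?_⟩
  · rw [isOpen_iff_forall_mem_open]
    intro p hp
    obtain ⟨f, ψ, hfp, hψ⟩ := exists_retraction_of_injective φ p hp
    refine ⟨↑(PrimeSpectrum.basicOpen f), ?_, (PrimeSpectrum.basicOpen f).isOpen, hfp⟩
    intro q hq
    exact injective_lTensor_of_retraction φ f ψ hψ q hq
  · intro f hf
    -- the ideal of `a` such that `φ` has a retraction up to `a`
    let J : Ideal R :=
      { carrier := {a | ∃ ψ : P₂ →ₗ[R] P₁, ψ ∘ₗ φ = a • LinearMap.id}
        add_mem' := by
          rintro a b ⟨ψa, ha⟩ ⟨ψb, hb⟩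
          exact ⟨ψa + ψb, by rw [LinearMap.add_comp, ha, hb, add_smul]⟩
        zero_mem' := ⟨0, by simp⟩
        smul_mem' := by
          rintro c a ⟨ψa, ha⟩
          exact ⟨c • ψa, by rw [LinearMap.smul_comp, ha, smul_eq_mul, mul_smul]⟩ }
    have hfJ : f ∈ J.radical := by
      rw [Ideal.radical_eq_sInf, Ideal.mem_sInf]
      rintro q ⟨hJq, hq⟩
      by_contra hfq
      have hqU := hf (show (⟨q, hq⟩ : PrimeSpectrum R) ∈ PrimeSpectrum.basicOpen f from hfq)
      obtain ⟨a, ψ, haq, hψ⟩ := exists_retraction_of_injective φ ⟨q, hq⟩ hqU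
      exact haq (hJq ⟨ψ, hψ⟩)
    obtain ⟨k, ψ, hψ⟩ := hfJ
    have hψ' : ∀ x, ψ (φ x) = f ^ k • x := fun x => LinearMap.congr_fun hψ x
    refine ⟨?_, inferInstance, ?_⟩
    · rw [injective_iff_map_eq_zero]
      intro z hz
      induction z using LocalizedModule.induction_on with
      | h m s =>
        rw [LocalizedModule.map_mk, ← LocalizedModule.zero_mk (1 : Submonoid.powers f),
          LocalizedModule.mk_eq] at hz
        obtain ⟨c, hc⟩ := hz
        simp only [one_smul, smul_zero] at hc
        have hc' : (c : R) • φ m = 0 := hc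
        rw [← LocalizedModule.zero_mk (1 : Submonoid.powers f), LocalizedModule.mk_eq]
        refine ⟨c * ⟨f ^ k, k, rfl⟩, ?_⟩
        simp only [one_smul, smul_zero]
        have h1 : ψ ((c : R) • φ m) = 0 := by rw [hc', map_zero]
        have h2 : ψ ((c : R) • φ m) = (c : R) • (f ^ k • m) := by
          rw [← hψ' m]; exact map_smul ψ (c : R) (φ m)
        rw [h2] at h1
        show ((c : R) * f ^ k) • m = 0
        rw [mul_smul]
        exact h1
    · -- splitting of the cokernel
      let Q := P₂ ⧸ LinearMap.range φ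
      let θ : P₂ →ₗ[R] P₂ := f ^ k • LinearMap.id - φ ∘ₗ ψ
      have hθ : LinearMap.range φ ≤ LinearMap.ker θ := by
        rintro _ ⟨x, rfl⟩
        simp only [LinearMap.mem_ker, θ, LinearMap.sub_apply, LinearMap.smul_apply,
          LinearMap.id_apply, LinearMap.comp_apply, hψ', map_smul, sub_self]
      let θ' : Q →ₗ[R] P₂ := (LinearMap.range φ).liftQ θ hθ
      have hθ' : ∀ q : Q, (LinearMap.range φ).mkQ (θ' q) = f ^ k • q := by
        intro q
        obtain ⟨y, rfl⟩ := (LinearMap.range φ).mkQ_surjective q
        have h5 : θ' ((LinearMap.range φ).mkQ y) = θ y := Submodule.liftQ_apply _ _ _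
        rw [h5]
        simp only [θ, LinearMap.sub_apply, LinearMap.smul_apply, LinearMap.id_apply,
          LinearMap.comp_apply, map_sub, map_smul]
        rw [Submodule.mkQ_apply _ (φ (ψ y)),
          (Submodule.Quotient.mk_eq_zero _).mpr (LinearMap.mem_range_self φ (ψ y)), sub_zero]
      let T := Submonoid.powers f
      let π : LocalizedModule T P₂ →ₗ[Localization.Away f] LocalizedModule T Q :=
        LocalizedModule.map T (LinearMap.range φ).mkQ
      let i : LocalizedModule T Q →ₗ[Localization.Away f] LocalizedModule T P₂ :=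
        LocalizedModule.map T θ'
      have hu : IsUnit (algebraMap R (Localization.Away f) (f ^ k)) :=
        IsLocalization.map_units (Localization.Away f) (⟨f ^ k, k, rfl⟩ : Submonoid.powers f)
      have hπi : ∀ z, π (i z) = (algebraMap R (Localization.Away f) (f ^ k)) • z := by
        intro z
        induction z using LocalizedModule.induction_on with
        | h q s =>
          simp only [π, i, LocalizedModule.map_mk, hθ', algebraMap_smul,
            LocalizedModule.smul'_mk]
      refine Module.Projective.of_split (((hu.unit⁻¹ : (Localization.Away f)ˣ) :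
        Localization.Away f) • i) π ?_
      ext z
      simp only [LinearMap.comp_apply, LinearMap.smul_apply, map_smul, hπi, LinearMap.id_apply]
      rw [← mul_smul]
      simp

end Groth.Agent.S6309
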