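import Groth.Statements.S6310
import Mathlib

set_option autoImplicit false
universe u
open CAlg

namespace Groth.Agent.S6310

/-- Let R be a ring, S ⊆ R a multiplicative subset, I ⊆ R an ideal and M a finite R-module. If x₁, …,
x_r ∈ M have images generating S⁻¹(M/IM) as an S⁻¹R-module, then there is f ∈ S + I (f = s + i with
s ∈ S, i ∈ I) such that x₁, …, x_r generate M_f as an R_f-module. -/
theorem result {R : Type u} [CommRing R] (S : Submonoid R) (I : Ideal R) (M : Type u) [AddCommGroup M] [Module R M] [Module.Finite R M] {r : ℕ} (x : Fin r → M) (hx : Submodule.span (Localization S) (Set.range fun j => LocalizedModule.mkLinearMap S (M ⧸ (I • (⊤ : Submodule R M))) (Submodule.Quotient.mk (x j))) = ⊤) : ∃ (s : R) (i : R), s ∈ S ∧ i ∈ I ∧ Submodule.span (Localization.Away (s + i)) (Set.range fun j => LocalizedModule.mkLinearMap (Submonoid.powers (s + i)) M (x j)) = ⊤ := by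
  classical
  set N : Submodule R M := Submodule.span R (Set.range x) with hN
  set IM : Submodule R M := I • (⊤ : Submodule R M) with hIM
  let g := LocalizedModule.mkLinearMap S (M ⧸ IM)
  -- Step 1: every element is pushed into `N ⊔ IM` by an element of `S`
  have step1 : ∀ m : M, ∃ s ∈ S, s • m ∈ N ⊔ IM := by
    intro m
    have hmem : g (IM.mkQ m) ∈
        Submodule.span (Localization S) (g '' (Set.range fun j => IM.mkQ (x j))) := by
      have h2 : (g '' (Set.range fun j => IM.mkQ (x j))) =
          Set.range fun j => g (IM.mkQ (x j)) := by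
        rw [← Set.range_comp]; rfl
      rw [h2]
      have : Submodule.span (Localization S) (Set.range fun j => g (IM.mkQ (x j))) = ⊤ := hx
      rw [this]
      trivial
    rw [← Submodule.localized'_span (Localization S) S g] at hmem
    obtain ⟨n, hn, s, hs⟩ := hmem
    rw [IsLocalizedModule.mk'_eq_iff] at hs
    have hs' : g n = g ((s : R) • IM.mkQ m) := by
      rw [hs, map_smul]; rfl
    obtain ⟨t, ht⟩ := IsLocalizedModule.exists_of_eq (S := S) hs'
    refine ⟨t * s, mul_mem t.2 s.2, ?_⟩
    have hn' : n ∈ N.map IM.mkQ := by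
      rw [hN, Submodule.map_span, ← Set.range_comp]; exact hn
    obtain ⟨n₀, hn₀, rfl⟩ := hn'
    have h3 : ((t : R) * s) • m - (t : R) • n₀ ∈ IM := by
      rw [← Submodule.Quotient.mk_eq_zero, Submodule.Quotient.mk_sub, sub_eq_zero]
      have ht' : (t : R) • IM.mkQ n₀ = (t : R) • (s : R) • IM.mkQ m := ht
      rw [mul_smul]
      exact ht'.symm
    have h4 := Submodule.add_mem_sup (N.smul_mem (t : R) hn₀) h3
    rwa [add_sub_cancel] at h4
  -- Step 2: a single element of `S` works for all of `M`
  obtain ⟨s₀, hs₀S, hs₀⟩ : ∃ s₀ ∈ S, ∀ m : M, s₀ • m ∈ N ⊔ IM := by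
    obtain ⟨G, hG⟩ := (Module.Finite.fg_top : (⊤ : Submodule R M).FG)
    choose σ hσS hσ using step1
    refine ⟨∏ a ∈ G, σ a, Submonoid.prod_mem _ fun a _ => hσS a, fun m => ?_⟩
    have hm : m ∈ Submodule.span R (G : Set M) := by rw [hG]; trivial
    induction hm using Submodule.span_induction with
    | mem a ha =>
      rw [← Finset.prod_erase_mul _ _ ha, mul_smul]
      exact Submodule.smul_mem _ _ (hσ a)
    | zero => simp
    | add a b _ _ ha hb => rw [smul_add]; exact Submodule.add_mem _ ha hb
    | smul c a _ ha => rw [smul_comm]; exact Submodule.smul_mem _ _ ha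
  -- Step 3: Cayley–Hamilton on `Q = M ⧸ N`
  let φ : Module.End R (M ⧸ N) := algebraMap R (Module.End R (M ⧸ N)) s₀
  have hrange : LinearMap.range φ ≤ I • (⊤ : Submodule R (M ⧸ N)) := by
    rintro _ ⟨q, rfl⟩
    obtain ⟨m, rfl⟩ := N.mkQ_surjective q
    have h5 : φ (N.mkQ m) = N.mkQ (s₀ • m) := by
      simp [φ, Module.algebraMap_end_apply]
    rw [h5]
    obtain ⟨n, hn, z, hz, hnz⟩ := Submodule.mem_sup.mp (hs₀ m)
    rw [← hnz, map_add, Submodule.mkQ_apply, Submodule.mkQ_apply,
      (Submodule.Quotient.mk_eq_zero N).mpr hn, zero_add, ← Submodule.mkQ_apply]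
    have : N.mkQ z ∈ (I • (⊤ : Submodule R M)).map N.mkQ := Submodule.mem_map_of_mem hz
    rw [Submodule.map_smul''] at this
    exact Submodule.smul_mono le_rfl le_top this
  obtain ⟨p, hpm, -, hpc, hp0⟩ :=
    LinearMap.exists_monic_and_natDegree_eq_and_coeff_mem_pow_and_aeval_eq_zero R φ I hrange
  have hkill : ∀ m : M, (p.eval s₀) • m ∈ N := by
    intro m
    have h6 : algebraMap R (Module.End R (M ⧸ N)) (p.eval s₀) = 0 := by
      rw [← Polynomial.aeval_algebraMap_apply_eq_algebraMap_eval]; exact hp0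
    have h7 := LinearMap.congr_fun h6 (N.mkQ m)
    rw [Module.algebraMap_end_apply, LinearMap.zero_apply, ← map_smul] at h7
    exact (Submodule.Quotient.mk_eq_zero N).mp h7
  set d := p.natDegree with hd
  have heval : p.eval s₀ = s₀ ^ d + ∑ k ∈ Finset.range d, p.coeff k * s₀ ^ k := by
    rw [Polynomial.eval_eq_sum_range, Finset.sum_range_succ, ← hd, hpm.coeff_natDegree, one_mul,
      add_comm]
  have hi : ∑ k ∈ Finset.range d, p.coeff k * s₀ ^ k ∈ I := by
    refine Ideal.sum_mem _ fun k hk => Ideal.mul_mem_right _ _ ?_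
    have hk' : d - k ≠ 0 := by
      have := Finset.mem_range.mp hk
      omega
    exact Ideal.pow_le_self hk' (hpc k)
  refine ⟨s₀ ^ d, ∑ k ∈ Finset.range d, p.coeff k * s₀ ^ k, pow_mem hs₀S d, hi, ?_⟩
  rw [← heval]
  set f := p.eval s₀ with hf
  let g' := LocalizedModule.mkLinearMap (Submonoid.powers f) M
  have h8 : (Set.range fun j => g' (x j)) = g' '' Set.range x := by
    rw [← Set.range_comp]; rfl
  change Submodule.span (Localization.Away f) (Set.range fun j => g' (x j)) = ⊤
  rw [h8, ← Submodule.localized'_span (Localization.Away f) (Submonoid.powers f) g', eq_top_iff]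
  intro y _
  obtain ⟨⟨m, t⟩, rfl⟩ := IsLocalizedModule.mk'_surjective (Submonoid.powers f) g' y
  refine ⟨f • m, hkill m, ⟨f, Submonoid.mem_powers f⟩ * t, ?_⟩
  exact IsLocalizedModule.mk'_cancel_left (f := g') m ⟨f, Submonoid.mem_powers f⟩ t

end Groth.Agent.S6310
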