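import Groth.Statements.S6311
import Mathlib

set_option autoImplicit false
universe u
open CategoryTheory
open CAlg

namespace Groth.Agent.S6311


section helpers

variable (R : Type u) [CommRing R]

/-- The object property "finite projective". -/
abbrev FP : ObjectProperty (ModuleCat.{u} R) :=
  fun M : ModuleCat.{u} R => Module.Finite R M ∧ Module.Projective R M

variable {R}

lemma clSub_of_mem (M : ModuleCat.{u} R) (hM : FP R M) :
    KZero.clSub (FP R) M = QuotientAddGroup.mk (FreeAbelianGroup.of ⟨M, hM⟩) := by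
  unfold KZero.clSub
  rw [dif_pos hM]

/-- Additivity of classes on short exact sequences of finite projective modules. -/
lemma cl_add (M₁ M₂ M₃ : ModuleCat.{u} R) (h₁ : FP R M₁) (h₂ : FP R M₂) (h₃ : FP R M₃)
    (f : M₁ →ₗ[R] M₂) (g : M₂ →ₗ[R] M₃) (hf : Function.Injective f)
    (hg : Function.Surjective g) (hex : Function.Exact f g) :
    KZero.clSub (FP R) M₂ = KZero.clSub (FP R) M₁ + KZero.clSub (FP R) M₃ := by
  let S : ShortComplex (ModuleCat.{u} R) :=
    ShortComplex.mk (ModuleCat.ofHom f) (ModuleCat.ofHom g)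
      (by ext x; exact hex.apply_apply_eq_zero x)
  have hS : S.ShortExact := ModuleCat.shortComplex_shortExact S hex hf hg
  have hmem : FreeAbelianGroup.of (⟨M₂, h₂⟩ : Subtype (FP R)) - FreeAbelianGroup.of ⟨M₁, h₁⟩ -
      FreeAbelianGroup.of ⟨M₃, h₃⟩ ∈ KZero.relSub (FP R) :=
    AddSubgroup.subset_closure ⟨S, h₁, h₂, h₃, hS, rfl⟩
  rw [clSub_of_mem M₁ h₁, clSub_of_mem M₂ h₂, clSub_of_mem M₃ h₃]
  have := (QuotientAddGroup.eq_zero_iff _).mpr hmem
  rw [QuotientAddGroup.mk_sub, QuotientAddGroup.mk_sub, sub_sub, sub_eq_zero] at this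
  exact this

/-- A finite projective module isomorphic to `Rⁿ` has class `n • [R]`. -/
lemma cl_eq_nsmul : ∀ (n : ℕ) (M : ModuleCat.{u} R) (_ : FP R M), (M ≃ₗ[R] (Fin n → R)) →
    KZero.clSub (FP R) M = n • KZero.clSub (FP R) (ModuleCat.of R R) := by
  intro n
  induction n with
  | zero =>
    intro M hM e
    have hsub : Subsingleton M := e.toEquiv.subsingleton
    have h := cl_add M M M hM hM hM (0 : M →ₗ[R] M) (0 : M →ₗ[R] M)
      (fun a b _ => Subsingleton.elim a b) (fun b => ⟨0, Subsingleton.elim _ _⟩)
      (fun y => ⟨fun _ => ⟨0, Subsingleton.elim _ _⟩, fun _ => Subsingleton.elim _ _⟩)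
    rw [zero_smul]
    exact left_eq_add.mp h |>.symm ▸ rfl
  | succ n ih =>
    intro M hM e
    let ι : R →ₗ[R] M := e.symm.toLinearMap ∘ₗ LinearMap.single R (fun _ : Fin (n + 1) => R) 0
    let π : M →ₗ[R] (Fin n → R) := (LinearMap.funLeft R R Fin.succ) ∘ₗ e.toLinearMap
    have hRR : FP R (ModuleCat.of R R) := ⟨inferInstance, inferInstance⟩
    have hRn : FP R (ModuleCat.of R (Fin n → R)) := ⟨inferInstance, inferInstance⟩
    have hι : Function.Injective ι := by
      intro a b hab
      have := e.symm.injective hab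
      exact Pi.single_injective 0 this
    have hπ : Function.Surjective π := by
      intro v
      refine ⟨e.symm (Fin.cons 0 v), ?_⟩
      ext i
      simp [π, LinearMap.funLeft]
    have hex : Function.Exact ι π := by
      intro m
      constructor
      · intro hm
        refine ⟨e m 0, ?_⟩
        apply e.injective
        simp only [ι, LinearMap.comp_apply, LinearEquiv.coe_coe, LinearEquiv.apply_symm_apply]
        ext i
        refine Fin.cases ?_ (fun j => ?_) i
        · simp
        · have := congrFun hm j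
          simp only [π, LinearMap.comp_apply, LinearEquiv.coe_coe, LinearMap.funLeft_apply,
            Pi.zero_apply] at this
          simp [this, Fin.succ_ne_zero]
      · rintro ⟨r, rfl⟩
        ext j
        simp [ι, π, LinearMap.funLeft, Fin.succ_ne_zero]
    have h := cl_add (ModuleCat.of R R) M (ModuleCat.of R (Fin n → R)) hRR hM hRn ι π hι hπ hex
    rw [h, ih (ModuleCat.of R (Fin n → R)) hRn (LinearEquiv.refl R _), succ_nsmul, add_comm]

end helpers

/-- Let R be a local ring. Then K₀(R), the Grothendieck group of the category of finite projective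
R-modules, is isomorphic to ℤ via the rank; precisely, there is an isomorphism K₀(R) ≅ ℤ of abelian
groups sending the class [R] to 1 (such an isomorphism is then unique, K₀(R) being generated by
[R]). -/
theorem result (R : Type u) [CommRing R] [IsLocalRing R] : ∃ e : KZero.K0sub (fun M : ModuleCat.{u} R => Module.Finite R M ∧ Module.Projective R M) ≃+ ℤ, e (KZero.clSub (fun M : ModuleCat.{u} R => Module.Finite R M ∧ Module.Projective R M) (ModuleCat.of R R)) = 1 := by
  classical
  have hRR : FP R (ModuleCat.of R R) := ⟨inferInstance, inferInstance⟩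
  -- the rank homomorphism
  let ℓ : Subtype (FP R) → ℤ := fun M => (Module.finrank R M.1 : ℤ)
  let φ₀ : FreeAbelianGroup (Subtype (FP R)) →+ ℤ := FreeAbelianGroup.lift ℓ
  have hker : KZero.relSub (FP R) ≤ φ₀.ker := by
    unfold KZero.relSub
    rw [AddSubgroup.closure_le]
    rintro x ⟨S, h₁, h₂, h₃, hS, rfl⟩
    rw [SetLike.mem_coe, AddMonoidHom.mem_ker, map_sub, map_sub]
    simp only [φ₀, FreeAbelianGroup.lift_apply_of, ℓ]
    have hinj := hS.moduleCat_injective_f
    have hsurj := hS.moduleCat_surjective_g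
    have hex := (ShortComplex.ShortExact.moduleCat_exact_iff_function_exact S).mp hS.exact
    have := h₁.1; have := h₁.2; have := h₂.1; have := h₂.2; have := h₃.1; have := h₃.2
    obtain ⟨l, hl⟩ := Module.projective_lifting_property S.g.hom LinearMap.id hsurj
    obtain ⟨e, -, -⟩ := Function.Exact.splitSurjectiveEquiv (f := S.f.hom) (g := S.g.hom)
      hex hinj ⟨l, hl⟩
    have : Module.Free R S.X₁ := Module.free_of_flat_of_isLocalRing
    have : Module.Free R S.X₃ := Module.free_of_flat_of_isLocalRing
    rw [e.finrank_eq, Module.finrank_prod]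
    push_cast
    ring
  let φ : KZero.K0sub (FP R) →+ ℤ := QuotientAddGroup.lift (KZero.relSub (FP R)) φ₀ hker
  let ψ : ℤ →+ KZero.K0sub (FP R) := zmultiplesHom _ (KZero.clSub (FP R) (ModuleCat.of R R))
  have hφcl : ∀ (M : ModuleCat.{u} R) (hM : FP R M),
      φ (KZero.clSub (FP R) M) = (Module.finrank R M : ℤ) := by
    intro M hM
    rw [clSub_of_mem M hM]
    show φ₀ _ = _
    simp only [φ₀, FreeAbelianGroup.lift_apply_of, ℓ]
  have h1 : ψ.comp φ = AddMonoidHom.id _ := by
    apply QuotientAddGroup.addMonoidHom_ext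
    apply FreeAbelianGroup.lift_ext
    rintro ⟨M, hM⟩
    have := hM.1; have := hM.2
    have : Module.Free R M := Module.free_of_flat_of_isLocalRing
    have key := cl_eq_nsmul (Module.finrank R M) M hM (Module.finBasis R M).equivFun
    simp only [AddMonoidHom.comp_apply, QuotientAddGroup.coe_mk', AddMonoidHom.id_apply]
    rw [← clSub_of_mem M hM, hφcl M hM, key]
    simp [ψ]
  have h2 : φ.comp ψ = AddMonoidHom.id _ := by
    ext
    simp only [AddMonoidHom.comp_apply, AddMonoidHom.id_apply, ψ, zmultiplesHom_apply, one_smul]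
    rw [hφcl _ hRR]
    simp
  refine ⟨AddMonoidHom.toAddEquiv φ ψ h1 h2, ?_⟩
  show φ _ = 1
  rw [hφcl _ hRR]
  simp

end Groth.Agent.S6311
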