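import Groth.Statements.S6318
import Mathlib

set_option autoImplicit false
universe u
open CategoryTheory
open CAlg

namespace Groth.Agent.S6318


open CategoryTheory.Limits

section construction

variable (R : Type u) [CommRing R] [IsNoetherianRing R]

/-- A finite module, bundled. -/
structure Stage where
  /-- the module -/
  Z : ModuleCat.{u} R
  /-- it is finite -/
  fin : Module.Finite R Z

variable {R}

/-- rank of a chosen finite free cover -/
noncomputable def Stage.rank (s : Stage R) : ℕ :=
  haveI := s.fin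
  (Module.Finite.exists_fin' R s.Z).choose

/-- the chosen finite free module -/
noncomputable abbrev Stage.X (s : Stage R) : ModuleCat.{u} R := ModuleCat.of R (Fin s.rank → R)

/-- the chosen cover, as a linear map -/
noncomputable def Stage.cover (s : Stage R) : (Fin s.rank → R) →ₗ[R] s.Z :=
  haveI := s.fin
  (Module.Finite.exists_fin' R s.Z).choose_spec.choose

lemma Stage.cover_surjective (s : Stage R) : Function.Surjective s.cover :=
  haveI := s.fin
  (Module.Finite.exists_fin' R s.Z).choose_spec.choose_spec

/-- the chosen cover, as a morphism -/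
noncomputable def Stage.π (s : Stage R) : s.X ⟶ s.Z := ModuleCat.ofHom s.cover

instance (s : Stage R) : Epi s.π :=
  (ModuleCat.epi_iff_surjective _).mpr s.cover_surjective

lemma finite_kernel (s : Stage R) : Module.Finite R (kernel s.π : ModuleCat.{u} R) := by
  have hmono : Function.Injective (kernel.ι s.π).hom :=
    (ModuleCat.mono_iff_injective _).mp inferInstance
  have : IsNoetherian R s.X := by
    show IsNoetherian R (Fin s.rank → R)
    infer_instance
  exact Module.Finite.of_injective (kernel.ι s.π).hom hmono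

/-- the next stage: the kernel of the cover -/
noncomputable def Stage.next (s : Stage R) : Stage R := ⟨kernel s.π, finite_kernel s⟩

/-- the inclusion of the kernel -/
noncomputable def Stage.ι (t : Stage R) : t.next.Z ⟶ t.X := kernel.ι t.π

lemma Stage.ι_comp_π (t : Stage R) : t.ι ≫ t.π = 0 := kernel.condition t.π

instance (t : Stage R) : Mono t.ι := inferInstanceAs (Mono (kernel.ι t.π))

/-- `ι` is a kernel of `π` -/
noncomputable def Stage.isKernel (t : Stage R) :
    IsLimit (KernelFork.ofι t.ι t.ι_comp_π) := kernelIsKernel t.π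

/-- the differential at a stage -/
noncomputable def Stage.d (t : Stage R) : t.next.X ⟶ t.X := t.next.π ≫ t.ι

lemma Stage.d_comp_π (t : Stage R) : t.d ≫ t.π = 0 := by
  unfold Stage.d
  rw [Category.assoc, Stage.ι_comp_π, comp_zero]

lemma Stage.d_sq (t : Stage R) : t.next.d ≫ t.d = 0 := by
  have h := t.next.d_comp_π
  unfold Stage.d at h ⊢
  rw [Category.assoc] at h ⊢
  rw [← Category.assoc t.next.ι, Stage.ι_comp_π, zero_comp, comp_zero]

lemma Stage.exact_d_π (t : Stage R) : (ShortComplex.mk t.d t.π t.d_comp_π).Exact := by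
  let α : ShortComplex.mk t.d t.π t.d_comp_π ⟶ ShortComplex.mk t.ι t.π t.ι_comp_π :=
    { τ₁ := t.next.π
      τ₂ := 𝟙 _
      τ₃ := 𝟙 _
      comm₁₂ := by simp [Stage.d]
      comm₂₃ := by simp }
  have : Epi α.τ₁ := inferInstanceAs (Epi t.next.π)
  have : IsIso α.τ₂ := inferInstanceAs (IsIso (𝟙 _))
  have : Mono α.τ₃ := inferInstanceAs (Mono (𝟙 _))
  rw [ShortComplex.exact_iff_of_epi_of_isIso_of_mono α]
  exact ShortComplex.exact_of_f_is_kernel _ t.isKernel

lemma Stage.exact_d_d (t : Stage R) : (ShortComplex.mk t.next.d t.d t.d_sq).Exact := by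
  let α : ShortComplex.mk t.next.d t.next.π t.next.d_comp_π ⟶
      ShortComplex.mk t.next.d t.d t.d_sq :=
    { τ₁ := 𝟙 _
      τ₂ := 𝟙 _
      τ₃ := t.ι
      comm₁₂ := by simp
      comm₂₃ := by simp [Stage.d] }
  have : Epi α.τ₁ := inferInstanceAs (Epi (𝟙 _))
  have : IsIso α.τ₂ := inferInstanceAs (IsIso (𝟙 _))
  have : Mono α.τ₃ := inferInstanceAs (Mono t.ι)
  rw [← ShortComplex.exact_iff_of_epi_of_isIso_of_mono α]
  exact t.next.exact_d_π

lemma id_comp_eq_comp_id {C : Type*} [Category C] {A B : C} (f g : A ⟶ B) (h : f = g) :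
    𝟙 A ≫ f = g ≫ 𝟙 B := by
  rw [Category.id_comp, Category.comp_id, h]

/-- the sequence of syzygies -/
noncomputable def seq (s : Stage R) : ℕ → Stage R
  | 0 => s
  | n + 1 => (seq s n).next

/-- the terms of the resolution -/
noncomputable def cX (s : Stage R) (n : ℕ) : ModuleCat.{u} R := (seq s n).X

/-- the differentials of the resolution -/
noncomputable def cd (s : Stage R) (n : ℕ) : cX s (n + 1) ⟶ cX s n := (seq s n).d

lemma cd_comp_π (s : Stage R) (n : ℕ) : cd s n ≫ (seq s n).π = 0 := (seq s n).d_comp_π

lemma cd_sq (s : Stage R) (n : ℕ) : cd s (n + 1) ≫ cd s n = 0 := (seq s n).d_sq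

/-- the complex -/
noncomputable def cplx (s : Stage R) : ChainComplex (ModuleCat.{u} R) ℕ :=
  ChainComplex.of (cX s) (cd s) (cd_sq s)

lemma cplx_d (s : Stage R) (n : ℕ) : (cplx s).d (n + 1) n = cd s n :=
  ChainComplex.of_d _ _ n

lemma exact_cd_π (s : Stage R) (n : ℕ) :
    (ShortComplex.mk (cd s n) (seq s n).π (cd_comp_π s n)).Exact := (seq s n).exact_d_π

lemma exact_cd_cd (s : Stage R) (n : ℕ) :
    (ShortComplex.mk (cd s (n + 1)) (cd s n) (cd_sq s n)).Exact := (seq s n).exact_d_d

lemma cplx_exactAt_succ (s : Stage R) (n : ℕ) : (cplx s).ExactAt (n + 1) := by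
  rw [HomologicalComplex.exactAt_iff' _ (n + 1 + 1) (n + 1) n (by simp) (by simp)]
  refine ShortComplex.exact_of_iso ?_ (exact_cd_cd s n)
  refine ShortComplex.isoMk (Iso.refl _) (Iso.refl _) (Iso.refl _) ?_ ?_
  · exact id_comp_eq_comp_id _ _ (cplx_d s (n + 1))
  · exact id_comp_eq_comp_id _ _ (cplx_d s n)

/-- the augmentation -/
noncomputable def caug (s : Stage R) : cplx s ⟶ (ChainComplex.single₀ (ModuleCat.{u} R)).obj s.Z :=
  (ChainComplex.toSingle₀Equiv _ _).symm ⟨(seq s 0).π, by
    rw [cplx_d]; exact cd_comp_π s 0⟩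

lemma caug_f_zero (s : Stage R) : (caug s).f 0 = (seq s 0).π :=
  ChainComplex.toSingle₀Equiv_symm_apply_f_zero _ _

lemma caug_quasiIso (s : Stage R) : QuasiIso (caug s) := ⟨fun n => by
  cases n with
  | zero =>
    rw [ChainComplex.quasiIsoAt₀_iff, ShortComplex.quasiIso_iff_of_zeros']
    · refine (ShortComplex.exact_and_epi_g_iff_of_iso ?_).2
        ⟨exact_cd_π s 0, inferInstanceAs (Epi (seq s 0).π)⟩
      refine ShortComplex.isoMk (Iso.refl _) (Iso.refl _) (Iso.refl _) ?_ ?_
      · exact id_comp_eq_comp_id _ _ (cplx_d s 0).symm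
      · exact id_comp_eq_comp_id _ _ (caug_f_zero s).symm
    all_goals rfl
  | succ n =>
    rw [quasiIsoAt_iff_exactAt']
    · apply cplx_exactAt_succ
    · apply ChainComplex.exactAt_succ_single_obj⟩

instance (s : Stage R) (n : ℕ) : Projective ((cplx s).X n) := by
  show Projective (ModuleCat.of R (Fin (seq s n).rank → R))
  rw [← IsProjective.iff_projective]
  infer_instance

/-- the resolution -/
noncomputable def res (s : Stage R) : ProjectiveResolution s.Z where
  complex := cplx s
  π := caug s
  quasiIso := caug_quasiIso s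

end construction

/-- Let R be a Noetherian ring and M a finite R-module. Then M has a resolution … → F₂ → F₁ → F₀ → M → 0
with every Fᵢ finite free; stated as the existence of a projective resolution of M in the category
of R-modules all of whose terms are finite free. -/
theorem result (R : Type u) [CommRing R] [IsNoetherianRing R] (M : Type u) [AddCommGroup M] [Module R M] [Module.Finite R M] : ∃ F : ProjectiveResolution (ModuleCat.of R M), ∀ n : ℕ, Module.Finite R (F.complex.X n) ∧ Module.Free R (F.complex.X n) := by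
  refine ⟨res (⟨ModuleCat.of R M, inferInstanceAs (Module.Finite R M)⟩ : Stage R), fun n => ?_⟩
  constructor
  · show Module.Finite R (Fin _ → R)
    infer_instance
  · show Module.Free R (Fin _ → R)
    infer_instance

end Groth.Agent.S6318
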