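import Groth.Statements.S6315
import Mathlib
import Groth.Agent.S6318

set_option autoImplicit false
universe u
open CategoryTheory
open CAlg

namespace Groth.Agent.S6315

/-- Let R be a Noetherian ring and M, N finite R-modules. Then Tor_pᴿ(M, N) is a finite R-module for all
p. -/
theorem result (R : Type u) [CommRing R] [IsNoetherianRing R] (M N : Type u) [AddCommGroup M] [Module R M] [AddCommGroup N] [Module R N] [Module.Finite R M] [Module.Finite R N] (p : ℕ) : Module.Finite R (((CategoryTheory.Tor (ModuleCat.{u} R) p).obj (ModuleCat.of R M)).obj (ModuleCat.of R N)) := by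
  obtain ⟨P, hP⟩ := Groth.Agent.S6318.result R N
  let F := MonoidalCategory.tensorLeft (ModuleCat.of R M)
  let K := (F.mapHomologicalComplex (ComplexShape.down ℕ)).obj P.complex
  have hX : Module.Finite R (K.X p) := by
    have := (hP p).1
    show Module.Finite R (TensorProduct R M (P.complex.X p))
    infer_instance
  have hNoeth : IsNoetherian R (K.X p) := isNoetherian_of_isNoetherianRing_of_finite R _
  have hcyc : Module.Finite R (K.cycles p) :=
    Module.Finite.of_injective (K.iCycles p).hom ((ModuleCat.mono_iff_injective _).mp inferInstance)
  have hhom : Module.Finite R (K.homology p) :=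
    Module.Finite.of_surjective (K.homologyπ p).hom
      ((ModuleCat.epi_iff_surjective _).mp inferInstance)
  let e := P.isoLeftDerivedObj F p
  have hhom' : Module.Finite R
      ↑((HomologicalComplex.homologyFunctor (ModuleCat R) (ComplexShape.down ℕ) p).obj K) := hhom
  exact Module.Finite.equiv e.symm.toLinearEquiv

end Groth.Agent.S6315
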