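import Groth.Statements.S6319
import Mathlib

set_option autoImplicit false
universe u
open CategoryTheory
open CAlg

namespace Groth.Agent.S6319

/-- Let R be an Artinian local ring. The length function defines a homomorphism of abelian groups
length_R : K'₀(R) → ℤ on the Grothendieck group of finite R-modules, sending the class of a finite
module M to its (finite) length. -/
theorem result (R : Type u) [CommRing R] [IsArtinianRing R] [IsLocalRing R] : ∃ φ : KZero.K0sub (fun M : ModuleCat.{u} R => Module.Finite R M) →+ ℤ, ∀ (M : ModuleCat.{u} R), Module.Finite R M → (φ (KZero.clSub (fun M : ModuleCat.{u} R => Module.Finite R M) M) : ℤ) = (Module.length R M).toNat := by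
  classical
  let P : ObjectProperty (ModuleCat.{u} R) := fun M => Module.Finite R M
  have hfin : ∀ M : ModuleCat.{u} R, Module.Finite R M → Module.length R M ≠ ⊤ := by
    intro M hM
    have := hM
    exact Module.length_ne_top
  let ℓ : Subtype P → ℤ := fun M => ((Module.length R M.1).toNat : ℤ)
  let φ₀ : FreeAbelianGroup (Subtype P) →+ ℤ := FreeAbelianGroup.lift ℓ
  have hker : KZero.relSub P ≤ φ₀.ker := by
    unfold KZero.relSub
    rw [AddSubgroup.closure_le]
    rintro x ⟨S, h₁, h₂, h₃, hS, rfl⟩
    rw [SetLike.mem_coe, AddMonoidHom.mem_ker, map_sub, map_sub]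
    simp only [φ₀, FreeAbelianGroup.lift_apply_of, ℓ]
    have hadd := Module.length_eq_add_of_exact S.f.hom S.g.hom hS.moduleCat_injective_f
      hS.moduleCat_surjective_g
      ((ShortComplex.ShortExact.moduleCat_exact_iff_function_exact S).mp hS.exact)
    have e1 := hfin S.X₁ h₁
    have e3 := hfin S.X₃ h₃
    rw [hadd, ENat.toNat_add e1 e3]
    push_cast
    ring
  refine ⟨QuotientAddGroup.lift (KZero.relSub P) φ₀ hker, ?_⟩
  intro M hM
  have hcl : KZero.clSub P M = QuotientAddGroup.mk (FreeAbelianGroup.of ⟨M, hM⟩) := by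
    unfold KZero.clSub
    rw [dif_pos hM]
  show (QuotientAddGroup.lift (KZero.relSub P) φ₀ hker) (KZero.clSub P M) = _
  rw [hcl, QuotientAddGroup.lift_mk]
  simp only [φ₀, FreeAbelianGroup.lift_apply_of, ℓ]

end Groth.Agent.S6319
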