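import Groth.Statements.S6321
import Mathlib

set_option autoImplicit false
universe u
open CAlg

namespace Groth.Agent.S6321

/-- Let R be a ring and (Sᵢ, φᵢⱼ) a directed system of faithfully flat R-algebras whose transition maps
are R-algebra maps. Then S = colim Sᵢ is a faithfully flat R-algebra: for any index i the composite
R → Sᵢ → S is faithfully flat. -/
theorem result {R : Type u} [CommRing R] {ι : Type u} [Preorder ι] [Nonempty ι] [IsDirected ι (· ≤ ·)] (G : ι → Type u) [∀ i, CommRing (G i)] [∀ i, Algebra R (G i)] (f : ∀ i j, i ≤ j → G i →+* G j) [DirectedSystem G fun i j h => f i j h] (hcompat : ∀ i j (h : i ≤ j), (f i j h).comp (algebraMap R (G i)) = algebraMap R (G j)) (hff : ∀ i, (algebraMap R (G i)).FaithfullyFlat) (i : ι) : ((Ring.DirectLimit.of G (fun i j h => f i j h) i).comp (algebraMap R (G i))).FaithfullyFlat := by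
  classical
  let S := Ring.DirectLimit G (fun i j h => f i j h)
  let of' : ∀ k, G k →+* S := fun k => Ring.DirectLimit.of G (fun i j h => f i j h) k
  have hof_f : ∀ k l (h : k ≤ l) (x : G k), of' l (f k l h x) = of' k x :=
    fun k l h x => Ring.DirectLimit.of_f h x
  let ψ : R →+* S := (of' i).comp (algebraMap R (G i))
  have hψ : ∀ k (r : R), of' k (algebraMap R (G k) r) = ψ r := by
    intro k r
    obtain ⟨l, hil, hkl⟩ := exists_ge_ge i k
    simp only [ψ, RingHom.comp_apply]
    rw [← hof_f k l hkl, ← hof_f i l hil]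
    congr 1
    have h1 := RingHom.congr_fun (hcompat k l hkl) r
    have h2 := RingHom.congr_fun (hcompat i l hil) r
    simp only [RingHom.comp_apply] at h1 h2
    rw [h1, h2]
  have hFF : ∀ k, Module.FaithfullyFlat R (G k) :=
    fun k => RingHom.faithfullyFlat_algebraMap_iff.mp (hff k)
  letI : Algebra R S := ψ.toAlgebra
  show Module.FaithfullyFlat R S
  have halg : ∀ r : R, algebraMap R S r = ψ r := fun r => rfl
  have hsmul : ∀ k (r : R) (x : G k), of' k (r • x) = r • of' k x := by
    intro k r x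
    rw [Algebra.smul_def, Algebra.smul_def, map_mul, hψ k r, halg]
  have hfsmul : ∀ k l (h : k ≤ l) (r : R) (x : G k), f k l h (r • x) = r • f k l h x := by
    intro k l h r x
    rw [Algebra.smul_def, Algebra.smul_def, map_mul]
    congr 1
    exact RingHom.congr_fun (hcompat k l h) r
  have hflat : Module.Flat R S := by
    refine Module.Flat.of_forall_isTrivialRelation ?_
    intro l c x hx
    have hex : ∀ t : Fin l, ∃ k, ∃ x' : G k, of' k x' = x t :=
      fun t => Ring.DirectLimit.exists_of (x t)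
    choose κ x' hx' using hex
    obtain ⟨M, hM⟩ := Finite.exists_le κ
    let x'' : Fin l → G M := fun t => f (κ t) M (hM t) (x' t)
    have hx'' : ∀ t, of' M (x'' t) = x t := fun t => by
      simp only [x'']; rw [hof_f, hx']
    have h0 : of' M (∑ t, c t • x'' t) = 0 := by
      rw [map_sum]; simp_rw [hsmul, hx'']; exact hx
    obtain ⟨k, hMk, hk⟩ := Ring.DirectLimit.of.zero_exact h0
    have hrel : ∑ t, c t • (f M k hMk (x'' t)) = 0 := by
      rw [← hk, map_sum]; simp_rw [hfsmul]
    haveI := (hFF k).toFlat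
    obtain ⟨n, a, y, hxy, hca⟩ := Module.Flat.isTrivialRelation_of_sum_smul_eq_zero (R := R) (M := G k) (f := c)
      (x := fun t => f M k hMk (x'' t)) hrel
    refine ⟨n, a, fun j => of' k (y j), ?_, hca⟩
    intro t
    have hxy' : f M k hMk (x'' t) = ∑ j, a t j • y j := hxy t
    rw [← hx'' t, ← hof_f M k hMk, hxy', map_sum]
    simp_rw [hsmul]
  refine { hflat with submodule_ne_top := ?_ }
  intro m hm htop
  have hmapk : ∀ (k₀ k : ι) (h : k₀ ≤ k) (w : G k₀), w ∈ m • (⊤ : Submodule R (G k₀)) →
      f k₀ k h w ∈ m • (⊤ : Submodule R (G k)) := by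
    intro k₀ k h w hw
    refine Submodule.smul_induction_on hw ?_ ?_
    · intro r hr s _
      rw [hfsmul]; exact Submodule.smul_mem_smul hr trivial
    · intro a b ha hb
      rw [map_add]; exact Submodule.add_mem _ ha hb
  -- elements of `m • ⊤` come from some `m • ⊤` at a finite level
  have hT : ∀ z ∈ m • (⊤ : Submodule R S),
      ∃ k, ∃ z' : G k, of' k z' = z ∧ z' ∈ m • (⊤ : Submodule R (G k)) := by
    intro z hz
    refine Submodule.smul_induction_on hz ?_ ?_
    · intro r hr s _
      obtain ⟨k, s', hs'⟩ := Ring.DirectLimit.exists_of s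
      exact ⟨k, r • s', by rw [hsmul]; congr 1, Submodule.smul_mem_smul hr trivial⟩
    · rintro a b ⟨k₁, a', ha', ha''⟩ ⟨k₂, b', hb', hb''⟩
      obtain ⟨k, h1, h2⟩ := exists_ge_ge k₁ k₂
      refine ⟨k, f k₁ k h1 a' + f k₂ k h2 b', ?_, ?_⟩
      · rw [map_add, hof_f, hof_f, ha', hb']
      · exact Submodule.add_mem _ (hmapk _ _ h1 _ ha'') (hmapk _ _ h2 _ hb'')
  obtain ⟨k, z', hz', hz'm⟩ := hT 1 (by rw [htop]; trivial)
  have h0 : of' k (z' - 1) = 0 := by rw [map_sub, hz', map_one, sub_self]
  obtain ⟨k', hkk', hk'⟩ := Ring.DirectLimit.of.zero_exact h0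
  have h1 : f k k' hkk' z' = 1 := by
    rw [map_sub, map_one, sub_eq_zero] at hk'; exact hk'
  have h1mem : (1 : G k') ∈ m • (⊤ : Submodule R (G k')) := by
    rw [← h1]; exact hmapk k k' hkk' z' hz'm
  refine (hFF k').submodule_ne_top hm ?_
  rw [eq_top_iff]
  intro g _
  have h2 := Ideal.smul_top_eq_map (R := R) (S := G k') m
  rw [h2] at h1mem ⊢
  have h3 : (1 : G k') ∈ m.map (algebraMap R (G k')) := h1mem
  have h4 : m.map (algebraMap R (G k')) = ⊤ := (Ideal.eq_top_iff_one _).mpr h3
  show g ∈ m.map (algebraMap R (G k'))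
  rw [h4]; trivial

end Groth.Agent.S6321
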