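import Groth.Statements.S6322
import Mathlib

set_option autoImplicit false
universe u
open CategoryTheory
open CAlg

namespace Groth.Agent.S6322


section comparison

open CategoryTheory.Limits

variable {C : Type*} [Category C] [Abelian C]

lemma d_comp_ε (K : ChainComplex C ℕ) {Z : C} (ε : K ⟶ (ChainComplex.single₀ C).obj Z) :
    K.d 1 0 ≫ ε.f 0 = 0 := by
  rw [← ε.comm 1 0, HomologicalComplex.single_obj_d, comp_zero]

variable {M N : C} (g : M ⟶ N) (F Nc : ChainComplex C ℕ)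
  (εF : F ⟶ (ChainComplex.single₀ C).obj M) (εN : Nc ⟶ (ChainComplex.single₀ C).obj N)

lemma exact₀_and_epi [QuasiIso εN] :
    (ShortComplex.mk (Nc.d 1 0) (εN.f 0) (d_comp_ε Nc εN)).Exact ∧ Epi (εN.f 0) := by
  have h : QuasiIsoAt εN 0 := inferInstance
  rw [ChainComplex.quasiIsoAt₀_iff,
    ShortComplex.quasiIso_iff_of_zeros' _ (by simp <;> rfl) (by simp <;> rfl)
      (by simp <;> rfl)] at h
  exact h

lemma exact₀ [QuasiIso εN] : (ShortComplex.mk (Nc.d 1 0) (εN.f 0) (d_comp_ε Nc εN)).Exact :=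
  (exact₀_and_epi Nc εN).1

lemma epi₀ [QuasiIso εN] : Epi (εN.f 0) := (exact₀_and_epi Nc εN).2

lemma exact_succ [QuasiIso εN] (n : ℕ) :
    (ShortComplex.mk _ _ (Nc.d_comp_d (n + 2) (n + 1) n)).Exact := by
  have h : Nc.ExactAt (n + 1) := by
    rw [← quasiIsoAt_iff_exactAt' εN (n + 1) (ChainComplex.exactAt_succ_single_obj _ _)]
    infer_instance
  exact ((HomologicalComplex.exactAt_iff' _ (n + 2) (n + 1) n)
    (by simp only [ChainComplex.prev]; rfl) (by simp)).1 h

variable [∀ i, Projective (F.X i)] [QuasiIso εN]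

/-- degree zero part of the lift -/
noncomputable def liftFZero : F.X 0 ⟶ Nc.X 0 :=
  haveI := epi₀ Nc εN
  Projective.factorThru (εF.f 0 ≫ ((ChainComplex.single₀ C).map g).f 0) (εN.f 0)

lemma liftFZero_comp : liftFZero g F Nc εF εN ≫ εN.f 0 =
    εF.f 0 ≫ ((ChainComplex.single₀ C).map g).f 0 := by
  haveI := epi₀ Nc εN
  exact Projective.factorThru_comp _ _

/-- degree one part of the lift -/
noncomputable def liftFOne : F.X 1 ⟶ Nc.X 1 :=
  (exact₀ Nc εN).liftFromProjective (F.d 1 0 ≫ liftFZero g F Nc εF εN) (by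
    show (F.d 1 0 ≫ liftFZero g F Nc εF εN) ≫ εN.f 0 = 0
    rw [Category.assoc, liftFZero_comp, ← Category.assoc, d_comp_ε, zero_comp])

lemma liftFOne_zero_comm :
    liftFOne g F Nc εF εN ≫ Nc.d 1 0 = F.d 1 0 ≫ liftFZero g F Nc εF εN :=
  (exact₀ Nc εN).liftFromProjective_comp _ _

/-- inductive step of the lift -/
noncomputable def liftFSucc (n : ℕ) (h : F.X n ⟶ Nc.X n) (h' : F.X (n + 1) ⟶ Nc.X (n + 1))
    (w : h' ≫ Nc.d (n + 1) n = F.d (n + 1) n ≫ h) :
    Σ' h'' : F.X (n + 2) ⟶ Nc.X (n + 2),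
      h'' ≫ Nc.d (n + 2) (n + 1) = F.d (n + 2) (n + 1) ≫ h' :=
  ⟨(exact_succ Nc εN n).liftFromProjective (F.d (n + 2) (n + 1) ≫ h') (by simp [w]),
    (exact_succ Nc εN n).liftFromProjective_comp _ _⟩

/-- the lift -/
noncomputable def lift : F ⟶ Nc :=
  ChainComplex.mkHom _ _ (liftFZero g F Nc εF εN) (liftFOne g F Nc εF εN)
    (liftFOne_zero_comm g F Nc εF εN)
    fun n ⟨h, h', w⟩ => ⟨(liftFSucc F Nc εN n h h' w).1, (liftFSucc F Nc εN n h h' w).2⟩

lemma lift_commutes : lift g F Nc εF εN ≫ εN = εF ≫ (ChainComplex.single₀ C).map g := by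
  ext
  simp only [lift, HomologicalComplex.comp_f, ChainComplex.mkHom_f_0]
  exact liftFZero_comp g F Nc εF εN

/-- degree zero part of the homotopy -/
noncomputable def liftHomotopyZeroZero (f : F ⟶ Nc) (comm : f ≫ εN = 0) : F.X 0 ⟶ Nc.X 1 :=
  (exact₀ Nc εN).liftFromProjective (f.f 0)
    (congr_fun (congr_arg HomologicalComplex.Hom.f comm) 0)

lemma liftHomotopyZeroZero_comp (f : F ⟶ Nc) (comm : f ≫ εN = 0) :
    liftHomotopyZeroZero F Nc εN f comm ≫ Nc.d 1 0 = f.f 0 :=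
  (exact₀ Nc εN).liftFromProjective_comp _ _

/-- degree one part of the homotopy -/
noncomputable def liftHomotopyZeroOne (f : F ⟶ Nc) (comm : f ≫ εN = 0) : F.X 1 ⟶ Nc.X 2 :=
  (exact_succ Nc εN 0).liftFromProjective
    (f.f 1 - F.d 1 0 ≫ liftHomotopyZeroZero F Nc εN f comm)
    (by
      show (f.f 1 - F.d 1 0 ≫ liftHomotopyZeroZero F Nc εN f comm) ≫ Nc.d 1 0 = 0
      rw [Preadditive.sub_comp, Category.assoc, HomologicalComplex.Hom.comm,
        liftHomotopyZeroZero_comp, sub_self])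

lemma liftHomotopyZeroOne_comp (f : F ⟶ Nc) (comm : f ≫ εN = 0) :
    liftHomotopyZeroOne F Nc εN f comm ≫ Nc.d 2 1 =
      f.f 1 - F.d 1 0 ≫ liftHomotopyZeroZero F Nc εN f comm :=
  (exact_succ Nc εN 0).liftFromProjective_comp _ _

/-- inductive step of the homotopy -/
noncomputable def liftHomotopyZeroSucc (f : F ⟶ Nc) (n : ℕ) (h : F.X n ⟶ Nc.X (n + 1))
    (h' : F.X (n + 1) ⟶ Nc.X (n + 2))
    (w : f.f (n + 1) = F.d (n + 1) n ≫ h + h' ≫ Nc.d (n + 2) (n + 1)) :
    F.X (n + 2) ⟶ Nc.X (n + 3) :=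
  (exact_succ Nc εN (n + 1)).liftFromProjective (f.f (n + 2) - F.d _ _ ≫ h') (by simp [w])

lemma liftHomotopyZeroSucc_comp (f : F ⟶ Nc) (n : ℕ) (h : F.X n ⟶ Nc.X (n + 1))
    (h' : F.X (n + 1) ⟶ Nc.X (n + 2))
    (w : f.f (n + 1) = F.d (n + 1) n ≫ h + h' ≫ Nc.d (n + 2) (n + 1)) :
    liftHomotopyZeroSucc F Nc εN f n h h' w ≫ Nc.d (n + 3) (n + 2) =
      f.f (n + 2) - F.d _ _ ≫ h' :=
  (exact_succ Nc εN (n + 1)).liftFromProjective_comp _ _

/-- Any lift of zero is null-homotopic. -/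
noncomputable def liftHomotopyZero (f : F ⟶ Nc) (comm : f ≫ εN = 0) : Homotopy f 0 :=
  Homotopy.mkInductive _ (liftHomotopyZeroZero F Nc εN f comm)
    (by simp [liftHomotopyZeroZero_comp])
    (liftHomotopyZeroOne F Nc εN f comm) (by simp [liftHomotopyZeroOne_comp])
    fun n ⟨h, h', w⟩ =>
    ⟨liftHomotopyZeroSucc F Nc εN f n h h' w, by simp [liftHomotopyZeroSucc_comp]⟩

end comparison

/-- Let R be a ring, M → N a map of R-modules, N• → N a resolution (a chain complex with a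
quasi-isomorphism onto N placed in degree 0) and … → F₁ → F₀ → M a complex with every Fᵢ free (F• a
chain complex with an augmentation to M in degree 0, exactness not required). Then (1) there is a
map of complexes F• → N• compatible with M → N through the augmentations, and (2) any two such maps
are homotopic. -/
theorem result (R : Type u) [CommRing R] (M N : ModuleCat.{u} R) (g : M ⟶ N) (F Nc : ChainComplex (ModuleCat.{u} R) ℕ) (hF : ∀ i, Module.Free R (F.X i)) (εF : F ⟶ (ChainComplex.single₀ (ModuleCat.{u} R)).obj M) (εN : Nc ⟶ (ChainComplex.single₀ (ModuleCat.{u} R)).obj N) [QuasiIso εN] : (∃ φ : F ⟶ Nc, φ ≫ εN = εF ≫ (ChainComplex.single₀ (ModuleCat.{u} R)).map g) ∧ ∀ α β : F ⟶ Nc, α ≫ εN = εF ≫ (ChainComplex.single₀ (ModuleCat.{u} R)).map g → β ≫ εN = εF ≫ (ChainComplex.single₀ (ModuleCat.{u} R)).map g → Nonempty (Homotopy α β) := by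
  have hproj : ∀ i, Projective (F.X i) := by
    intro i
    have := hF i
    have hp : Module.Projective R (F.X i) := inferInstance
    have := (IsProjective.iff_projective (R := R) (P := F.X i)).mp hp
    exact this
  refine ⟨⟨lift g F Nc εF εN, lift_commutes g F Nc εF εN⟩, ?_⟩
  intro α β hα hβ
  have hcomm : (α - β) ≫ εN = 0 := by
    rw [Preadditive.sub_comp, hα, hβ, sub_self]
  exact ⟨Homotopy.equivSubZero.invFun (liftHomotopyZero F Nc εN (α - β) hcomm)⟩

end Groth.Agent.S6322
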