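import Groth.Statements.S6324
import Mathlib

set_option autoImplicit false
universe u
open CAlg

namespace Groth.Agent.S6324


open Polynomial in
/-- The polynomial `∑_{j ≤ n} c j X^j` with `c n = 1`. -/
lemma mkPoly_props {A : Type u} [CommRing A] (n : ℕ) (c : ℕ → A) (hc : c n = 1) :
    (∑ j ∈ Finset.range (n + 1), C (c j) * X ^ j : A[X]).Monic ∧
    (∑ j ∈ Finset.range (n + 1), C (c j) * X ^ j : A[X]).natDegree ≤ n ∧
    (∀ j, j ≤ n → (∑ j ∈ Finset.range (n + 1), C (c j) * X ^ j : A[X]).coeff j = c j) := by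
  have hdeg : (∑ j ∈ Finset.range (n + 1), C (c j) * X ^ j : A[X]).natDegree ≤ n := by
    refine natDegree_sum_le_of_forall_le _ _ fun j hj => ?_
    exact (natDegree_C_mul_X_pow_le _ _).trans (Nat.lt_succ_iff.mp (Finset.mem_range.mp hj))
  have hcoeff : ∀ j, j ≤ n →
      (∑ j ∈ Finset.range (n + 1), C (c j) * X ^ j : A[X]).coeff j = c j := by
    intro j hj
    rw [finsetSum_coeff]
    simp_rw [coeff_C_mul_X_pow]
    rw [Finset.sum_ite_eq]
    simp [Nat.lt_succ_iff.mpr hj]
  exact ⟨monic_of_natDegree_le_of_coeff_eq_one n hdeg ((hcoeff n le_rfl).trans hc), hdeg, hcoeff⟩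

open Polynomial in
lemma mkPoly_eval₂ {A B : Type u} [CommRing A] [CommRing B] (n : ℕ) (c : ℕ → A) (φ : A →+* B)
    (y : B) :
    eval₂ φ y (∑ j ∈ Finset.range (n + 1), C (c j) * X ^ j : A[X]) =
      ∑ j ∈ Finset.range (n + 1), φ (c j) * y ^ j := by
  rw [eval₂_finsetSum]
  refine Finset.sum_congr rfl fun j _ => ?_
  rw [eval₂_mul, eval₂_C, eval₂_X_pow]

/-- Let R → S be a ring map, I ⊆ R an ideal and A = Σ Iⁿtⁿ ⊆ R[t] the Rees algebra of I. For s ∈ S,
being integral over I is equivalent to s·t ∈ S[t] being integral over A (via A ⊆ R[t] → S[t]). -/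
theorem result {R S : Type u} [CommRing R] [CommRing S] [Algebra R S] (I : Ideal R) (s : S) : W4stkalgebra1.IsIntegralOverIdeal I s ↔ ((Polynomial.mapRingHom (algebraMap R S)).comp (reesAlgebra I).val.toRingHom).IsIntegralElem (Polynomial.C s * Polynomial.X) := by
  classical
  set φ : ↥(reesAlgebra I) →+* Polynomial S :=
    (Polynomial.mapRingHom (algebraMap R S)).comp (reesAlgebra I).val.toRingHom with hφ
  have hφ_apply : ∀ a : ↥(reesAlgebra I), φ a = (a : Polynomial R).map (algebraMap R S) :=
    fun a => rfl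
  constructor
  · rintro ⟨p, hpm, hpc, hp0⟩
    set d := p.natDegree with hd
    have hmem : ∀ j, Polynomial.monomial (d - j) (p.coeff j) ∈ reesAlgebra I := by
      intro j
      rw [reesAlgebra.monomial_mem]
      rcases lt_trichotomy j d with h | h | h
      · exact hpc j h
      · subst h
        rw [Nat.sub_self, pow_zero, Ideal.one_eq_top]; trivial
      · rw [Polynomial.coeff_eq_zero_of_natDegree_lt h]; exact Ideal.zero_mem _
    let c : ℕ → ↥(reesAlgebra I) := fun j => ⟨Polynomial.monomial (d - j) (p.coeff j), hmem j⟩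
    have hcd : c d = 1 := by
      apply Subtype.ext
      simp only [c, Nat.sub_self]
      rw [hd, hpm.coeff_natDegree]
      rfl
    obtain ⟨hQm, -, -⟩ := mkPoly_props d c hcd
    refine ⟨_, hQm, ?_⟩
    rw [mkPoly_eval₂]
    have hterm : ∀ j ∈ Finset.range (d + 1), φ (c j) * (Polynomial.C s * Polynomial.X) ^ j =
        Polynomial.C (algebraMap R S (p.coeff j) * s ^ j) * Polynomial.X ^ d := by
      intro j hj
      have hjd : j ≤ d := Nat.lt_succ_iff.mp (Finset.mem_range.mp hj)
      have h1 : ((c j : ↥(reesAlgebra I)) : Polynomial R).map (algebraMap R S) =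
          Polynomial.C (algebraMap R S (p.coeff j)) * Polynomial.X ^ (d - j) := by
        simp only [c, Polynomial.map_monomial, Polynomial.C_mul_X_pow_eq_monomial]
      rw [hφ_apply, h1, mul_pow, ← Polynomial.C_pow, map_mul]
      calc Polynomial.C (algebraMap R S (p.coeff j)) * Polynomial.X ^ (d - j) *
            (Polynomial.C (s ^ j) * Polynomial.X ^ j)
          = Polynomial.C (algebraMap R S (p.coeff j)) * Polynomial.C (s ^ j) *
            (Polynomial.X ^ (d - j) * Polynomial.X ^ j) := by ring
        _ = Polynomial.C (algebraMap R S (p.coeff j)) * Polynomial.C (s ^ j) *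
            Polynomial.X ^ d := by rw [← pow_add, Nat.sub_add_cancel hjd]
    have hsum : ∑ j ∈ Finset.range (d + 1), algebraMap R S (p.coeff j) * s ^ j = 0 := by
      rw [hd, ← Polynomial.eval₂_eq_sum_range]; exact hp0
    rw [Finset.sum_congr rfl hterm, ← Finset.sum_mul, ← map_sum, hsum, map_zero, zero_mul]
  · rintro ⟨Q, hQm, hQ0⟩
    rcases subsingleton_or_nontrivial R with hR | hR
    · refine ⟨1, Polynomial.monic_one, fun j hj => by simp at hj, ?_⟩
      have : Subsingleton S := by
        refine subsingleton_of_zero_eq_one ?_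
        rw [← map_one (algebraMap R S), Subsingleton.elim (1 : R) 0, map_zero]
      exact Subsingleton.elim _ _
    set n := Q.natDegree with hn
    let c : ℕ → R := fun j => ((Q.coeff j : ↥(reesAlgebra I)) : Polynomial R).coeff (n - j)
    have hcn : c n = 1 := by
      simp only [c, Nat.sub_self]
      rw [hn, hQm.coeff_natDegree]
      simp
    obtain ⟨hpm, hpdeg, hpcoeff⟩ := mkPoly_props n c hcn
    have hpnat : (∑ j ∈ Finset.range (n + 1), Polynomial.C (c j) * Polynomial.X ^ j :
        Polynomial R).natDegree = n := by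
      refine Polynomial.natDegree_eq_of_le_of_coeff_ne_zero hpdeg ?_
      rw [hpcoeff n le_rfl, hcn]; exact one_ne_zero
    refine ⟨_, hpm, ?_, ?_⟩
    · intro j hj
      rw [hpnat] at hj ⊢
      rw [hpcoeff j hj.le]
      exact (Q.coeff j).2 (n - j)
    · rw [mkPoly_eval₂]
      have h1 := congrArg (fun P => Polynomial.coeff P n) hQ0
      simp only [Polynomial.coeff_zero] at h1
      rw [Polynomial.eval₂_eq_sum_range, ← hn, Polynomial.finsetSum_coeff] at h1
      rw [← h1]
      refine Finset.sum_congr rfl fun j hj => ?_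
      have hjn : j ≤ n := Nat.lt_succ_iff.mp (Finset.mem_range.mp hj)
      rw [hφ_apply, mul_pow, ← Polynomial.C_pow, ← mul_assoc, Polynomial.coeff_mul_X_pow',
        if_pos hjn, Polynomial.coeff_mul_C, Polynomial.coeff_map]

end Groth.Agent.S6324
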