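import Groth.Statements.S6325
import Mathlib
import Groth.Agent.S6324

set_option autoImplicit false
universe u
open CAlg

namespace Groth.Agent.S6325

/-- Let R → S be a ring map and I ⊆ R an ideal. The elements of S integral over I form an R-submodule of
S; moreover, the product s s' is integral over I for any s ∈ S integral over R and any s' ∈ S
integral over I. -/
theorem result {R S : Type u} [CommRing R] [CommRing S] [Algebra R S] (I : Ideal R) : (∃ N : Submodule R S, ∀ s : S, s ∈ N ↔ W4stkalgebra1.IsIntegralOverIdeal I s) ∧ (∀ s s' : S, IsIntegral R s → W4stkalgebra1.IsIntegralOverIdeal I s' → W4stkalgebra1.IsIntegralOverIdeal I (s * s')) := by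
  classical
  set φ : ↥(reesAlgebra I) →+* Polynomial S :=
    (Polynomial.mapRingHom (algebraMap R S)).comp (reesAlgebra I).val.toRingHom with hφ
  have key : ∀ s : S, W4stkalgebra1.IsIntegralOverIdeal I s ↔
      φ.IsIntegralElem (Polynomial.C s * Polynomial.X) := fun s => Groth.Agent.S6324.result I s
  have hφalg : ∀ r : R, φ (algebraMap R ↥(reesAlgebra I) r) = Polynomial.C (algebraMap R S r) := by
    intro r
    show Polynomial.map (algebraMap R S) ((algebraMap R ↥(reesAlgebra I) r : ↥(reesAlgebra I)) :
      Polynomial R) = _
    have : ((algebraMap R ↥(reesAlgebra I) r : ↥(reesAlgebra I)) : Polynomial R) =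
        Polynomial.C r := rfl
    rw [this, Polynomial.map_C]
  -- elements of `S` integral over `R` give constants integral over the Rees algebra
  have hconst : ∀ s : S, IsIntegral R s → φ.IsIntegralElem (Polynomial.C s) := by
    rintro s ⟨P, hPm, hP0⟩
    refine ⟨P.map (algebraMap R ↥(reesAlgebra I)), hPm.map _, ?_⟩
    rw [Polynomial.eval₂_map]
    have hcomp : φ.comp (algebraMap R ↥(reesAlgebra I)) =
        (Polynomial.C : S →+* Polynomial S).comp (algebraMap R S) := by
      ext r : 1
      exact hφalg r
    rw [hcomp, ← Polynomial.hom_eval₂, hP0, map_zero]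
  refine ⟨⟨{ carrier := {s | W4stkalgebra1.IsIntegralOverIdeal I s}
             add_mem' := ?_
             zero_mem' := ?_
             smul_mem' := ?_ }, fun s => Iff.rfl⟩, ?_⟩
  · intro a b ha hb
    rw [Set.mem_ofPred_eq, key] at ha hb ⊢
    rw [map_add, add_mul]
    exact ha.add _ hb
  · rw [Set.mem_ofPred_eq, key, map_zero, zero_mul]
    exact RingHom.isIntegralElem_zero _
  · intro r a ha
    rw [Set.mem_ofPred_eq, key] at ha ⊢
    rw [Algebra.smul_def, map_mul, mul_assoc, ← hφalg]
    exact (RingHom.isIntegralElem_map _).mul _ ha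
  · intro s s' hs hs'
    rw [key] at hs' ⊢
    rw [map_mul, mul_assoc]
    exact (hconst s hs).mul _ hs'

end Groth.Agent.S6325
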