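import Groth.Statements.S6326
import Groth.Agent.Lib.Helper20.FGSystem

set_option autoImplicit false
universe u
open CategoryTheory CategoryTheory.Limits
open CAlg

namespace Groth.Agent.S6326

open Groth.Agent.Lib.Helper20.FGSystem

/-- Let R be a ring and N an R-module such that whenever M is the colimit of a filtered diagram (Mᵢ) of
R-modules (indexed by a filtered category in the same universe), the comparison map colim Hom_R(N,
Mᵢ) → Hom_R(N, M) is injective. Then N is finitely generated. (The implication from finite
generation back to this injectivity also holds; only the characterizing direction is stated here.) -/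
theorem result (R : Type u) [CommRing R] (N : Type u) [AddCommGroup N] [Module R N] (h : ∀ (J : Type u) [SmallCategory J] [IsFiltered J] (F : J ⥤ ModuleCat.{u} R), Function.Injective (colimit.post F (coyoneda.obj (Opposite.op (ModuleCat.of R N))))) : Module.Finite R N := by
  classical
  let K : Submodule R N := ⊤
  let F := diagram K
  let G : ModuleCat.{u} R ⥤ Type u := coyoneda.obj (Opposite.op (ModuleCat.of R N))
  have hinj := h (Idx K) F
  -- the colimit is zero
  have hzero : IsZero (colimit F) := by
    have hz : IsZero (cocone K).pt := by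
      apply ModuleCat.isZero_of_subsingleton (M := ModuleCat.of R (N ⧸ K))
    exact hz.of_iso ((colimit.isColimit F).coconePointUniqueUpToIso (isColimit K))
  let a : colimit (F ⋙ G) := colimit.ι (F ⋙ G) (idxBot K) (proj K (idxBot K))
  let b : colimit (F ⋙ G) := colimit.ι (F ⋙ G) (idxBot K) (0 : ModuleCat.of R N ⟶ F.obj (idxBot K))
  have hab : a = b := by
    apply hinj
    exact hzero.eq_of_tgt _ _
  obtain ⟨k, f, g, hfg⟩ := (Types.FilteredColimit.colimit_eq_iff (F ⋙ G)).mp hab
  have h1 : proj K k = 0 := by
    have e1 : (F ⋙ G).map f (proj K (idxBot K)) = proj K k := proj_map K f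
    have e2 : (F ⋙ G).map g (0 : ModuleCat.of R N ⟶ F.obj (idxBot K)) =
        (0 : ModuleCat.of R N ⟶ F.obj k) := by
      show (0 : ModuleCat.of R N ⟶ F.obj (idxBot K)) ≫ F.map g = 0
      exact zero_comp
    rw [← e1, hfg, e2]
  have h2 : k.1 = ⊤ := by
    rw [_root_.eq_top_iff]
    intro x _
    rw [← proj_apply_eq_zero_iff K k x, h1]
    rfl
  exact ⟨h2 ▸ k.2.1⟩


end Groth.Agent.S6326
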