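import Groth.Statements.S6327
import Groth.Agent.Lib.Helper20.FGSystem
import Groth.Agent.S6326

set_option autoImplicit false
universe u
open CategoryTheory CategoryTheory.Limits
open CAlg

namespace Groth.Agent.S6327

open Groth.Agent.Lib.Helper20.FGSystem

lemma finitePresentation_of_retract {R : Type u} [CommRing R] {M N : Type u} [AddCommGroup M]
    [Module R M] [AddCommGroup N] [Module R N] [Module.FinitePresentation R M]
    (p : M →ₗ[R] N) (s : N →ₗ[R] M) (hps : ∀ x, p (s x) = x) : Module.FinitePresentation R N := by
  have hsurj : Function.Surjective p := fun x => ⟨s x, hps x⟩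
  apply Module.finitePresentation_of_surjective p hsurj
  have hker : LinearMap.ker p = LinearMap.range (LinearMap.id - s ∘ₗ p) := by
    ext x
    constructor
    · intro hx
      rw [LinearMap.mem_ker] at hx
      refine ⟨x, ?_⟩
      rw [LinearMap.sub_apply, LinearMap.comp_apply, hx, map_zero, sub_zero]
      rfl
    · rintro ⟨y, rfl⟩
      rw [LinearMap.mem_ker, LinearMap.sub_apply, LinearMap.comp_apply, map_sub, hps]
      exact sub_self _
  rw [hker]
  exact Submodule.fg_range _

/-- Let R be a ring and N an R-module such that whenever M is the colimit of a filtered diagram (Mᵢ) of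
R-modules (indexed by a filtered category in the same universe), the comparison map colim Hom_R(N,
Mᵢ) → Hom_R(N, M) is bijective. Then N is finitely presented. (The implication from finite
presentation back to this bijectivity also holds; only the characterizing direction is stated here.) -/
theorem result (R : Type u) [CommRing R] (N : Type u) [AddCommGroup N] [Module R N] (h : ∀ (J : Type u) [SmallCategory J] [IsFiltered J] (F : J ⥤ ModuleCat.{u} R), Function.Bijective (colimit.post F (coyoneda.obj (Opposite.op (ModuleCat.of R N))))) : Module.FinitePresentation R N := by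
  classical
  have hfin : Module.Finite R N := Groth.Agent.S6326.result R N (fun J _ _ F => (h J F).1)
  obtain ⟨n, f, hf⟩ := Module.Finite.exists_fin' R N
  let K : Submodule R (Fin n → R) := LinearMap.ker f
  let F := diagram K
  let G : ModuleCat.{u} R ⥤ Type u := coyoneda.obj (Opposite.op (ModuleCat.of R N))
  have hsurj := (h (Idx K) F).2
  -- `N ≅ colimit F`
  let e0 : ModuleCat.of R N ≅ (cocone K).pt :=
    (f.quotKerEquivOfSurjective hf).symm.toModuleIso
  let e : ModuleCat.of R N ≅ colimit F :=
    e0 ≪≫ ((colimit.isColimit F).coconePointUniqueUpToIso (isColimit K)).symm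
  obtain ⟨a, ha⟩ := hsurj e.hom
  obtain ⟨j, x, rfl⟩ := Types.jointly_surjective' a
  have hx : x ≫ colimit.ι F j = e.hom := by
    rw [← ha]
    have h1 := ConcreteCategory.congr_hom (colimit.ι_post F G j) x
    rw [ConcreteCategory.comp_apply] at h1
    exact h1.symm
  let p : F.obj j ⟶ ModuleCat.of R N := colimit.ι F j ≫ e.inv
  have hxp : x ≫ p = 𝟙 _ := by
    rw [← Category.assoc, hx, e.hom_inv_id]
  have hfp : Module.FinitePresentation R (F.obj j) := by
    refine Module.finitePresentation_of_surjective (Submodule.mkQ j.1) (Submodule.mkQ_surjective _) ?_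
    have hk : LinearMap.ker (Submodule.mkQ j.1) = j.1 := Submodule.ker_mkQ _
    exact hk.symm ▸ j.2.1
  exact finitePresentation_of_retract p.hom x.hom (fun y => congrArg (fun g => g.hom y) hxp)


end Groth.Agent.S6327
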