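import Groth.Statements.S6330
import Mathlib
import Groth.Agent.Lib.Helper30.SurjLocus
import Groth.Agent.Lib.Helper30.KerLocalized

set_option autoImplicit false
universe u
open scoped TensorProduct
open CAlg

namespace Groth.Agent.S6330

/-- Let R be a ring and φ : P₁ → P₂ a map of finite projective R-modules. The set W of primes p of R
such that φ ⊗ κ(p) is surjective is open, and for every f ∈ R with D(f) ⊆ W the map (P₁)_f → (P₂)_f
is surjective and Ker(φ)_f is a finite projective module over R_f. -/
theorem result {R : Type u} [CommRing R] {P₁ P₂ : Type u} [AddCommGroup P₁] [Module R P₁] [AddCommGroup P₂] [Module R P₂] [Module.Finite R P₁] [Module.Projective R P₁] [Module.Finite R P₂] [Module.Projective R P₂] (φ : P₁ →ₗ[R] P₂) : IsOpen {p : PrimeSpectrum R | Function.Surjective (φ.lTensor p.asIdeal.ResidueField)} ∧ ∀ f : R, (↑(PrimeSpectrum.basicOpen f) : Set (PrimeSpectrum R)) ⊆ {p : PrimeSpectrum R | Function.Surjective (φ.lTensor p.asIdeal.ResidueField)} → Function.Surjective (LocalizedModule.map (Submonoid.powers f) φ) ∧ Module.Finite (Localization.Away f) (LocalizedModule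 (Submonoid.powers f) (LinearMap.ker φ)) ∧ Module.Projective (Localization.Away f) (LocalizedModule (Submonoid.powers f) (LinearMap.ker φ)) := by
  have hset : {p : PrimeSpectrum R | Function.Surjective (φ.lTensor p.asIdeal.ResidueField)} =
      (Module.support R (P₂ ⧸ LinearMap.range φ))ᶜ := by
    ext p
    exact Groth.Agent.Lib.Helper30.lTensor_residueField_surjective_iff_notMem_support φ p
  refine ⟨?_, ?_⟩
  · rw [hset]
    exact (Module.isClosed_support).isOpen_compl
  · intro f hf
    rw [hset] at hf
    have hsurj : Function.Surjective (LocalizedModule.map (Submonoid.powers f) φ) :=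
      Groth.Agent.Lib.Helper30.localizedMap_powers_surjective_of_basicOpen_subset φ f hf
    refine ⟨hsurj, ?_⟩
    obtain ⟨h1, h2⟩ := Groth.Agent.Lib.Helper30.ker_finite_projective_of_surjective
      (LocalizedModule.map (Submonoid.powers f) φ) hsurj
    let e := Groth.Agent.Lib.Helper30.localizedKerEquiv (Submonoid.powers f) φ
    exact ⟨Module.Finite.equiv e.symm, Module.Projective.of_equiv e.symm⟩

end Groth.Agent.S6330
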