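import Groth.Statements.S6331
import Mathlib

set_option autoImplicit false
universe u
open CAlg

namespace Groth.Agent.S6331


open Polynomial in
/-- Hensel/Newton for `Xⁿ - a` near a unit approximate root. -/
lemma key {S : Type u} [CommRing S] (n : ℕ) (hn : 1 ≤ n) (hnS : IsUnit ((n : ℕ) : S))
    (a x₀ : S) (hx₀ : IsUnit x₀) (h : IsNilpotent (x₀ ^ n - a)) :
    ∃! r : S, IsNilpotent (x₀ - r) ∧ r ^ n = a := by
  have h1 : IsNilpotent (aeval x₀ (X ^ n - C a : S[X])) := by simpa using h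
  have h2 : IsUnit (aeval x₀ (derivative (X ^ n - C a : S[X]))) := by
    simp only [derivative_sub, derivative_X_pow, derivative_C, sub_zero, map_mul, map_natCast,
      map_pow, aeval_X]
    exact hnS.mul (hx₀.pow _)
  have := Polynomial.existsUnique_nilpotent_sub_and_aeval_eq_zero (P := (X ^ n - C a : S[X])) h1 h2
  simpa [sub_eq_zero] using this

/-- Let R be a ring, I ⊆ R an ideal all of whose elements are nilpotent, and n ≥ 1 an integer whose
image in R/I is invertible. Then (1) raising to the n-th power is a bijection of the subset 1 + I of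
R onto itself: for every y ∈ I there is exactly one x ∈ I with (1 + x)ⁿ = 1 + y; (2) a unit u of R
has an n-th root in R exactly when the residue class of u has an n-th root in R/I. -/
theorem result {R : Type u} [CommRing R] (I : Ideal R) (hI : ∀ x ∈ I, IsNilpotent x) (n : ℕ) (hn : 1 ≤ n) (hinv : IsUnit ((n : ℕ) : R ⧸ I)) : (∀ y ∈ I, ∃! x : R, x ∈ I ∧ (1 + x) ^ n = 1 + y) ∧ (∀ u : Rˣ, (∃ v : R, v ^ n = (u : R)) ↔ ∃ w : R ⧸ I, w ^ n = Ideal.Quotient.mk I (u : R)) := by
  have hn0 : n ≠ 0 := by omega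
  -- `n` is a unit in `R`
  have hnR : IsUnit ((n : ℕ) : R) := by
    obtain ⟨w, hw⟩ := hinv.exists_right_inv
    obtain ⟨m, rfl⟩ := Ideal.Quotient.mk_surjective w
    have hmem : (n : R) * m - 1 ∈ I := by
      rw [← Ideal.Quotient.eq_zero_iff_mem, map_sub, map_mul, map_one, map_natCast, hw, sub_self]
    have hu : IsUnit ((n : R) * m) := by
      have := (hI _ hmem).isUnit_one_add
      rwa [add_sub_cancel] at this
    exact isUnit_of_mul_isUnit_left hu
  have part1 : ∀ y ∈ I, ∃! x : R, x ∈ I ∧ (1 + x) ^ n = 1 + y := by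
    intro y hy
    have hnil : IsNilpotent ((1 : R) ^ n - (1 + y)) := by
      have : (1 : R) ^ n - (1 + y) = -y := by ring
      rw [this]
      exact (hI y hy).neg
    obtain ⟨r, ⟨hr1, hr2⟩, hruniq⟩ := key n hn hnR (1 + y) 1 isUnit_one hnil
    -- `r ≡ 1 mod I` by uniqueness in `R ⧸ I`
    have hrI : r - 1 ∈ I := by
      have hq := key (S := R ⧸ I) n hn hinv 1 1 isUnit_one (by simp)
      have e1 : IsNilpotent ((1 : R ⧸ I) - Ideal.Quotient.mk I r) ∧
          (Ideal.Quotient.mk I r) ^ n = 1 := by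
        refine ⟨?_, ?_⟩
        · have := hr1.map (Ideal.Quotient.mk I)
          simpa using this
        · rw [← map_pow, hr2, map_add, map_one, Ideal.Quotient.eq_zero_iff_mem.mpr hy, add_zero]
      have e2 : IsNilpotent ((1 : R ⧸ I) - 1) ∧ (1 : R ⧸ I) ^ n = 1 := by simp
      have := hq.unique e1 e2
      rw [← Ideal.Quotient.eq_zero_iff_mem, map_sub, map_one, this, sub_self]
    refine ⟨r - 1, ⟨hrI, by rw [add_sub_cancel, hr2]⟩, ?_⟩
    rintro x' ⟨hx'I, hx'⟩
    have : 1 + x' = r := by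
      refine hruniq (1 + x') ⟨?_, hx'⟩
      have : (1 : R) - (1 + x') = -x' := by ring
      rw [this]
      exact (hI x' hx'I).neg
    rw [← this]; ring
  refine ⟨part1, fun u => ⟨fun ⟨v, hv⟩ => ⟨Ideal.Quotient.mk I v, by rw [← map_pow, hv]⟩, ?_⟩⟩
  rintro ⟨w, hw⟩
  obtain ⟨v₀, rfl⟩ := Ideal.Quotient.mk_surjective w
  have hz : v₀ ^ n - (u : R) ∈ I := by
    rw [← Ideal.Quotient.eq_zero_iff_mem, map_sub, map_pow, hw, sub_self]
  have hv₀n : IsUnit (v₀ ^ n) := by
    have := (hI _ hz).isUnit_add_left_of_commute u.isUnit (Commute.all _ _)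
    rwa [add_sub_cancel] at this
  have hv₀ : IsUnit v₀ := (isUnit_pow_iff hn0).mp hv₀n
  obtain ⟨r, ⟨-, hr⟩, -⟩ := key n hn hnR (u : R) v₀ hv₀ (hI _ hz)
  exact ⟨r, hr⟩

end Groth.Agent.S6331
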