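import Groth.Statements.S6332
import Mathlib
-- import your own Groth.Agent.* helpers here

set_option autoImplicit false
universe u
open Fields

namespace Groth.Agent.S6332

open IntermediateField in
/-- Let L/K be a finite Galois extension of fields of characteristic p > 0 whose degree equals the prime
p (equivalently, the Galois group is cyclic of order p). Then there is an element z of L with z ^ p
- z in K which generates L over K. -/
theorem result {K L : Type u} [Field K] [Field L] [Algebra K L] (p : ℕ)
    [Fact p.Prime] [CharP K p] [FiniteDimensional K L] [IsGalois K L]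
    (hdeg : Module.finrank K L = p) :
    ∃ z : L, z ^ p - z ∈ Set.range (algebraMap K L) ∧ K⟮z⟯ = ⊤ := by
  classical
  have hp : p.Prime := Fact.out
  have : CharP L p := (algebraMap K L).charP_iff_charP p |>.mp inferInstance  -- char of L
  have hcard : Nat.card (L ≃ₐ[K] L) = p := by
    rw [IsGalois.card_aut_eq_finrank, hdeg]
  -- pick a generator
  have hnt : Nontrivial (L ≃ₐ[K] L) := by
    have : 1 < Nat.card (L ≃ₐ[K] L) := by rw [hcard]; exact hp.one_lt
    exact (Finite.one_lt_card_iff_nontrivial).mp this
  obtain ⟨σ, hσ⟩ := exists_ne (1 : L ≃ₐ[K] L)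
  have hgen : Subgroup.zpowers σ = ⊤ := zpowers_eq_top_of_prime_card hcard hσ
  -- fixed points of σ lie in K
  have hfix : ∀ x : L, σ x = x → x ∈ Set.range (algebraMap K L) := by
    intro x hx
    have hmem : x ∈ (⊥ : IntermediateField K L) := by
      rw [IsGalois.mem_bot_iff_fixed]
      intro f
      have hf : f ∈ MulAction.stabilizer (L ≃ₐ[K] L) x := by
        have hle : Subgroup.zpowers σ ≤ MulAction.stabilizer (L ≃ₐ[K] L) x := by
          rw [Subgroup.zpowers_le]
          exact hx
        exact hle (hgen ▸ Subgroup.mem_top f)
      exact hf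
    exact IntermediateField.mem_bot.mp hmem
  -- the linear map N = σ - 1
  let N : L →ₗ[K] L := σ.toLinearMap - LinearMap.id
  let T : L →ₗ[K] K := Algebra.trace K L
  have hNT : LinearMap.range N ≤ LinearMap.ker T := by
    rintro _ ⟨x, rfl⟩
    simp only [N, T, LinearMap.mem_ker, LinearMap.sub_apply, map_sub, AlgEquiv.toLinearMap_apply,
      LinearMap.id_apply]
    rw [Algebra.trace_eq_of_algEquiv σ x, sub_self]
  have hkerN : Module.finrank K (LinearMap.ker N) = 1 := by
    have : LinearMap.ker N = (1 : Submodule K L) := by
      ext x
      simp only [N, LinearMap.mem_ker, LinearMap.sub_apply, AlgEquiv.toLinearMap_apply,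
        LinearMap.id_apply, sub_eq_zero, Submodule.mem_one]
      constructor
      · intro hx
        exact hfix x hx
      · rintro ⟨a, rfl⟩
        exact σ.commutes a
    rw [this]
    exact Subalgebra.finrank_bot (F := K) (E := L) ▸ by
      rw [← Algebra.toSubmodule_bot]
      rfl
  have hT : Function.Surjective T := Algebra.trace_surjective K L
  have hrkN := LinearMap.finrank_range_add_finrank_ker N
  have hrkT := LinearMap.finrank_range_add_finrank_ker T
  have hrangeT : Module.finrank K (LinearMap.range T) = 1 := by
    rw [LinearMap.range_eq_top.mpr hT, finrank_top, Module.finrank_self]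
  have heq : LinearMap.range N = LinearMap.ker T := by
    apply Submodule.eq_of_le_of_finrank_eq hNT
    omega
  have h1 : (1 : L) ∈ LinearMap.ker T := by
    simp only [T, LinearMap.mem_ker]
    have := Algebra.trace_algebraMap (R := K) (S := L) (1 : K)
    rw [map_one] at this
    rw [this, hdeg]
    simp
  rw [← heq] at h1
  obtain ⟨z, hz⟩ := h1
  have hz' : σ z = z + 1 := by
    simp only [N, LinearMap.sub_apply, AlgEquiv.toLinearMap_apply, LinearMap.id_apply] at hz
    rw [← hz]; ring
  refine ⟨z, ?_, ?_⟩
  · apply hfix
    rw [map_sub, map_pow, hz', add_pow_char, one_pow]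
    ring
  · have := IntermediateField.isSimpleOrder_of_finrank_prime K L (hdeg ▸ hp)
    rcases eq_bot_or_eq_top K⟮z⟯ with h | h
    · exfalso
      have hzmem : z ∈ (⊥ : IntermediateField K L) := h ▸ IntermediateField.mem_adjoin_simple_self K z
      obtain ⟨a, rfl⟩ := IntermediateField.mem_bot.mp hzmem
      rw [σ.commutes] at hz'
      have : (1 : L) = 0 := by
        have := hz'
        nth_rewrite 1 [← add_zero (algebraMap K L a)] at this
        exact (add_left_cancel this).symm
      exact one_ne_zero this
    · exact h

end Groth.Agent.S6332
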