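import Groth.Statements.S6333
import Mathlib
-- import your own Groth.Agent.* helpers here

set_option autoImplicit false
universe u
open Fields

namespace Groth.Agent.S6333

section Helpers

open scoped IntermediateField.algebraAdjoinAdjoin in
/-- A `k`-linearly independent family in the algebraic closure `k'` of `k` in `K` stays linearly
independent over `k(x)` for any family `x` algebraically independent over `k`. -/
theorem linearIndependent_adjoin_of_algClosure {k K : Type u} [Field k] [Field K] [Algebra k K]
    (s : Finset K) (hs : AlgebraicIndependent k ((↑) : s → K))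
    (t : Finset (algebraicClosure k K))
    (ht : LinearIndependent k (fun i : t => (i : algebraicClosure k K))) :
    LinearIndependent (IntermediateField.adjoin k (Set.range ((↑) : s → K)))
      (fun i : t => (((i : algebraicClosure k K)) : K)) := by
  classical
  set x : s → K := (↑) with hxdef
  have hx' : AlgebraicIndependent (algebraicClosure k K) x := hs.algebraicClosure
  rw [← LinearIndependent.iff_fractionRing (R := Algebra.adjoin k (Set.range x))
    (K := IntermediateField.adjoin k (Set.range x))]
  rw [Fintype.linearIndependent_iff]
  intro g hg
  have hgf : ∀ i : t, ∃ f : MvPolynomial s k, MvPolynomial.aeval x f = (g i : K) := by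
    intro i
    have h2 : (g i : K) ∈ (MvPolynomial.aeval x : MvPolynomial s k →ₐ[k] K).range := by
      rw [← Algebra.adjoin_range_eq_range_aeval]
      exact (g i).2
    exact h2
  choose f hf using hgf
  let G : MvPolynomial s (algebraicClosure k K) :=
    ∑ i : t, MvPolynomial.C (i : algebraicClosure k K) *
      MvPolynomial.map (algebraMap k (algebraicClosure k K)) (f i)
  have hG : MvPolynomial.aeval x G = 0 := by
    rw [map_sum, ← hg]
    refine Finset.sum_congr rfl fun i _ => ?_
    rw [map_mul, MvPolynomial.aeval_C, MvPolynomial.aeval_map_algebraMap, hf]
    rw [mul_comm]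
    rfl
  have hG0 : G = 0 := by
    apply hx'
    rw [hG, map_zero]
  have hcoef : ∀ (d : s →₀ ℕ) (i : t), MvPolynomial.coeff d (f i) = 0 := by
    intro d
    have h1 : MvPolynomial.coeff d G = 0 := by rw [hG0]; simp
    have h2 : ∑ i : t, (MvPolynomial.coeff d (f i)) • (i : algebraicClosure k K) = 0 := by
      rw [← h1]
      simp only [G, MvPolynomial.coeff_sum, MvPolynomial.coeff_C_mul, MvPolynomial.coeff_map]
      refine Finset.sum_congr rfl fun i _ => ?_
      rw [Algebra.smul_def, mul_comm]
    exact Fintype.linearIndependent_iff.mp ht _ h2
  intro i
  have hfi : f i = 0 := by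
    ext d
    simp [hcoef d i]
  apply Subtype.ext
  rw [← hf, hfi]
  simp

end Helpers


/-- For a finitely generated field extension K/k, the algebraic closure of k inside K is a finite
extension of k. -/
theorem result {k K : Type u} [Field k] [Field K] [Algebra k K]
    (hfg : (⊤ : IntermediateField k K).FG) :
    FiniteDimensional k (algebraicClosure k K) := by
  classical
  have : Algebra.EssFiniteType k K := IntermediateField.fg_top_iff.mp hfg
  obtain ⟨s, hs⟩ := exists_finset_isTranscendenceBasis k K
  have : Algebra.IsAlgebraic (IntermediateField.adjoin k (Set.range ((↑) : s → K))) K :=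
    hs.isAlgebraic_field
  have : Algebra.EssFiniteType (IntermediateField.adjoin k (Set.range ((↑) : s → K))) K :=
    Algebra.EssFiniteType.of_comp k _ K
  have : Module.Finite (IntermediateField.adjoin k (Set.range ((↑) : s → K))) K :=
    Algebra.finite_of_essFiniteType_of_isAlgebraic
  have hrank : Module.rank k (algebraicClosure k K) ≤
      (Module.finrank (IntermediateField.adjoin k (Set.range ((↑) : s → K))) K : ℕ) := by
    apply rank_le
    intro t ht
    have := (linearIndependent_adjoin_of_algClosure s hs.1 t ht).fintype_card_le_finrank
    simpa using this
  exact Module.rank_lt_aleph0_iff.mp (lt_of_le_of_lt hrank Cardinal.natCast_lt_aleph0)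

end Groth.Agent.S6333
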