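import Groth.Statements.S6334
import Mathlib
-- import your own Groth.Agent.* helpers here

set_option autoImplicit false
universe u
open Fields

namespace Groth.Agent.S6334

section HelpersAll
open IntermediateField Polynomial

section Helpers

theorem step_finrank {F E : Type u} [Field F] [Field E] [Algebra F E] (p : ℕ)
    [Fact p.Prime] [CharP F p] (M : IntermediateField F E) (y : E) (hy : y ∉ M) (hyp : y ^ p ∈ M) :
    Module.finrank M M⟮y⟯ = p := by
  have hp : p.Prime := Fact.out
  have : CharP E p := charP_of_injective_algebraMap (algebraMap F E).injective p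
  let c : M := ⟨y ^ p, hyp⟩
  have irr : Irreducible (X ^ p - C c : M[X]) := by
    apply X_pow_sub_C_irreducible_of_prime hp
    intro b hb
    apply hy
    have h1 : (b : E) ^ p = y ^ p := by
      have := congrArg (fun z : M => (z : E)) hb
      simpa [c] using this
    have h2 : (b : E) = y := frobenius_inj E p h1
    rw [← h2]; exact b.2
  have hroot : aeval y (X ^ p - C c : M[X]) = 0 := by
    simp only [map_sub, map_pow, aeval_X, aeval_C]
    change y ^ p - (c : E) = 0
    simp [c]
  have hmonic : (X ^ p - C c : M[X]).Monic := monic_X_pow_sub_C c hp.ne_zero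
  have hmin : X ^ p - C c = minpoly M y := minpoly.eq_of_irreducible_of_monic irr hroot hmonic
  have hint : IsIntegral M y := ⟨_, hmonic, hroot⟩
  rw [IntermediateField.adjoin.finrank hint, ← hmin, natDegree_X_pow_sub_C]

end Helpers

section Helpers2

theorem snoc_image_lt_last {E : Type u} {n : ℕ} (a : Fin n → E) (y : E) :
    (Fin.snoc a y : Fin (n + 1) → E) '' {j | j < Fin.last n} = Set.range a := by
  ext z
  constructor
  · rintro ⟨j, hj, rfl⟩
    induction j using Fin.lastCases with
    | last => exact absurd (show Fin.last n < Fin.last n from hj) (lt_irrefl _)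
    | cast j₀ => exact ⟨j₀, by simp⟩
  · rintro ⟨j₀, rfl⟩
    exact ⟨Fin.castSucc j₀, Fin.castSucc_lt_last j₀, by simp⟩

theorem snoc_image_lt_castSucc {E : Type u} {n : ℕ} (a : Fin n → E) (y : E) (i : Fin n) :
    (Fin.snoc a y : Fin (n + 1) → E) '' {j | j < Fin.castSucc i} = a '' {j | j < i} := by
  ext z
  constructor
  · rintro ⟨j, hj, rfl⟩
    induction j using Fin.lastCases with
    | last => exact absurd (show Fin.last n < Fin.castSucc i from hj) (not_lt.mpr (Fin.le_last _))
    | cast j₀ => exact ⟨j₀, Fin.castSucc_lt_castSucc_iff.mp hj, by simp⟩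
  · rintro ⟨j₀, hj₀, rfl⟩
    exact ⟨Fin.castSucc j₀, Fin.castSucc_lt_castSucc_iff.mpr hj₀, by simp⟩

theorem range_snoc' {E : Type u} {n : ℕ} (a : Fin n → E) (y : E) :
    Set.range (Fin.snoc a y : Fin (n + 1) → E) = Set.range a ∪ {y} := by
  ext z
  constructor
  · rintro ⟨j, rfl⟩
    induction j using Fin.lastCases with
    | last => right; simp
    | cast j₀ => left; exact ⟨j₀, by simp⟩
  · rintro (⟨j₀, rfl⟩ | h)
    · exact ⟨Fin.castSucc j₀, by simp⟩
    · rw [Set.mem_singleton_iff] at h
      exact ⟨Fin.last n, by simp [h]⟩

theorem chain_extend {F E : Type u} [Field F] [Field E] [Algebra F E] (p : ℕ)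
    [Fact p.Prime] [CharP F p] [FiniteDimensional F E] [IsPurelyInseparable F E] :
    ∀ (k n : ℕ) (a : Fin n → E),
      (∀ i : Fin n, a i ^ p ∈ adjoin F (a '' {j | j < i}) ∧ a i ∉ adjoin F (a '' {j | j < i})) →
      Module.finrank F (adjoin F (Set.range a)) = p ^ n →
      Module.finrank F E ≤ n + k →
      ∃ (n' : ℕ) (a' : Fin n' → E), adjoin F (Set.range a') = ⊤ ∧
        (∀ i : Fin n', a' i ^ p ∈ adjoin F (a' '' {j | j < i}) ∧ a' i ∉ adjoin F (a' '' {j | j < i})) ∧
        Module.finrank F E = p ^ n' := by
  classical
  have hp : p.Prime := Fact.out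
  have : ExpChar F p := ExpChar.prime hp
  intro k
  induction k with
  | zero =>
    intro n a _ hrank hle
    exfalso
    have h1 : Module.finrank F (adjoin F (Set.range a)) ≤ Module.finrank F E :=
      Submodule.finrank_le (adjoin F (Set.range a)).toSubalgebra.toSubmodule
    have h2 : n < p ^ n := Nat.lt_pow_self hp.one_lt
    omega
  | succ k ih =>
    intro n a hsteps hrank hle
    by_cases htop : adjoin F (Set.range a) = ⊤
    · refine ⟨n, a, htop, hsteps, ?_⟩
      rw [← hrank, htop, IntermediateField.finrank_top']
    · -- extend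
      set M := adjoin F (Set.range a) with hM
      obtain ⟨x, hx⟩ : ∃ x : E, x ∉ M := by
        by_contra hcon
        push Not at hcon
        exact htop (eq_top_iff.mpr fun x _ => hcon x)
      have hex : ∃ m : ℕ, x ^ p ^ m ∈ M := by
        obtain ⟨m, z, hz⟩ := IsPurelyInseparable.pow_mem F p x
        exact ⟨m, hz ▸ M.algebraMap_mem z⟩
      have hm0 : Nat.find hex ≠ 0 := by
        intro h0
        have := Nat.find_spec hex
        rw [h0, pow_zero, pow_one] at this
        exact hx this
      obtain ⟨m', hm'⟩ := Nat.exists_eq_succ_of_ne_zero hm0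
      set y := x ^ p ^ m' with hy
      have hyM : y ∉ M := Nat.find_min hex (by omega : m' < Nat.find hex)
      have hypM : y ^ p ∈ M := by
        have := Nat.find_spec hex
        rw [hm', pow_succ, pow_mul] at this
        exact this
      have hdeg : Module.finrank M M⟮y⟯ = p := step_finrank p M y hyM hypM
      have hadj : adjoin F (Set.range (Fin.snoc a y : Fin (n + 1) → E)) =
          (M⟮y⟯).restrictScalars F := by
        rw [range_snoc', adjoin_adjoin_left]
      have hrank' : Module.finrank F (adjoin F (Set.range (Fin.snoc a y : Fin (n + 1) → E))) =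
          p ^ (n + 1) := by
        rw [hadj]
        have := Module.finrank_mul_finrank F M M⟮y⟯
        rw [hrank, hdeg] at this
        rw [pow_succ, this]
        rfl
      have hle' : Module.finrank F E ≤ (n + 1) + k := by omega
      refine ih (n + 1) (Fin.snoc a y) ?_ hrank' hle'
      intro i
      induction i using Fin.lastCases with
      | last =>
        rw [snoc_image_lt_last, Fin.snoc_last]
        exact ⟨hypM, hyM⟩
      | cast i₀ =>
        rw [snoc_image_lt_castSucc, Fin.snoc_castSucc]
        exact hsteps i₀

end Helpers2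


end HelpersAll


open IntermediateField in
/-- Let E/F be a finite purely inseparable extension of fields of characteristic p > 0. Then there are
elements a_1, ..., a_n of E generating E over F such that for each i the p-th power of a_i lies in
F(a_1, ..., a_{i-1}) while a_i itself does not (so each step adjoins a p-th root and has degree p);
in particular [E : F] = p ^ n. -/
theorem result {F E : Type u} [Field F] [Field E] [Algebra F E] (p : ℕ)
    [Fact p.Prime] [CharP F p] [FiniteDimensional F E] [IsPurelyInseparable F E] :
    ∃ (n : ℕ) (a : Fin n → E), adjoin F (Set.range a) = ⊤ ∧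
      (∀ i : Fin n, a i ^ p ∈ adjoin F (a '' {j | j < i}) ∧ a i ∉ adjoin F (a '' {j | j < i})) ∧
      Module.finrank F E = p ^ n := by
  refine chain_extend p (Module.finrank F E) 0 (Fin.elim0) (fun i => i.elim0) ?_ (by omega)
  have : Set.range (Fin.elim0 : Fin 0 → E) = ∅ := Set.range_eq_empty _
  rw [this, adjoin_empty, pow_zero, IntermediateField.finrank_bot]

end Groth.Agent.S6334
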