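import Groth.Statements.S6335
import Mathlib
-- import your own Groth.Agent.* helpers here

set_option autoImplicit false
universe u
open Fields

namespace Groth.Agent.S6335

/-- Let K be a field of characteristic p > 0, L/K a separable algebraic extension and a an element of L.
If a is a root of a polynomial P over K which is separable (pairwise distinct roots in an algebraic
closure) and all of whose coefficients are p-th powers in K, then a is a p-th power in L. (Part (1),
the case where P is the minimal polynomial of a, is a special case.) -/
theorem result {K L : Type u} [Field K] [Field L] [Algebra K L]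
    (p : ℕ) [Fact p.Prime] [CharP K p] [Algebra.IsSeparable K L] (a : L) (P : Polynomial K)
    (hroot : Polynomial.aeval a P = 0) (hsep : P.Separable) (hcoeff : ∀ i : ℕ, ∃ b : K, b ^ p = P.coeff i) :
    ∃ c : L, c ^ p = a := by
  classical
  have hp : p.Prime := Fact.out
  have : CharP L p := charP_of_injective_algebraMap (algebraMap K L).injective p
  have : CharP (AlgebraicClosure L) p :=
    charP_of_injective_algebraMap (algebraMap L (AlgebraicClosure L)).injective p
  have : ExpChar L p := ExpChar.prime hp
  choose b hb using hcoeff
  let Q : Polynomial K := ∑ i ∈ Finset.range (P.natDegree + 1), Polynomial.monomial i (b i)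
  have hQP : Q.map (frobenius K p) = P := by
    ext i
    simp only [Q, Polynomial.coeff_map, Polynomial.finsetSum_coeff, Polynomial.coeff_monomial,
      frobenius_def, Finset.sum_ite_eq', Finset.mem_range]
    split_ifs with h
    · exact hb i
    · rw [zero_pow hp.ne_zero]
      exact (Polynomial.coeff_eq_zero_of_natDegree_lt (by omega)).symm
  have hQsep : Q.Separable := (Polynomial.separable_map (frobenius K p)).mp (hQP ▸ hsep)
  obtain ⟨α, hα⟩ : ∃ α : AlgebraicClosure L, α ^ p = algebraMap L (AlgebraicClosure L) a :=
    IsAlgClosed.exists_pow_nat_eq _ hp.pos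
  have hQα : Polynomial.aeval α Q = 0 := by
    have h : (Polynomial.aeval α Q) ^ p = 0 := by
      have h1 : Polynomial.aeval α Q =
          ∑ i ∈ Finset.range (P.natDegree + 1), algebraMap K (AlgebraicClosure L) (b i) * α ^ i := by
        simp only [Q, map_sum, Polynomial.aeval_monomial]
      rw [h1, sum_pow_char]
      have h2 : algebraMap L (AlgebraicClosure L) (Polynomial.aeval a P) = 0 := by
        rw [hroot, map_zero]
      rw [← Polynomial.aeval_algebraMap_apply, Polynomial.aeval_eq_sum_range] at h2
      rw [← h2]
      refine Finset.sum_congr rfl fun i _ => ?_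
      rw [mul_pow, ← map_pow, hb, ← pow_mul, mul_comm i p, pow_mul, hα, Algebra.smul_def]
    exact (pow_eq_zero_iff hp.ne_zero).mp h
  have hQ0 : Q ≠ 0 := by
    rintro h0
    rw [h0] at hQsep
    exact Polynomial.not_separable_zero hQsep
  have hαK : IsSeparable K α := by
    exact hQsep.of_dvd (minpoly.dvd K α hQα)
  have hαL : IsSeparable L α := hαK.tower_top L
  have hmem : α ∈ separableClosure L (AlgebraicClosure L) ⊓ perfectClosure L (AlgebraicClosure L) := by
    refine ⟨mem_separableClosure_iff.mpr hαL, ?_⟩
    rw [SetLike.mem_coe, mem_perfectClosure_iff_pow_mem p]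
    exact ⟨1, by rw [pow_one, hα]; exact ⟨a, rfl⟩⟩
  rw [separableClosure_inf_perfectClosure, IntermediateField.mem_bot] at hmem
  obtain ⟨c, hc⟩ := hmem
  refine ⟨c, ?_⟩
  apply (algebraMap L (AlgebraicClosure L)).injective
  rw [map_pow, hc, hα]

end Groth.Agent.S6335
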