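import Groth.Statements.S6342
import Mathlib.LinearAlgebra.TensorProduct.Tower
import Mathlib.RingTheory.Flat.Basic

set_option autoImplicit false
universe u
open CAlg

namespace Groth.Agent.S6342

/-- Let R → S be a ring map such that S is Mittag-Leffler as an R-module, and let M be an S-module which
is flat and Mittag-Leffler over S. Then M is Mittag-Leffler as an R-module. -/
theorem result (R S : Type u) [CommRing R] [CommRing S] [Algebra R S]
    (M : Type u) [AddCommGroup M] [Module S M] [Module R M] [IsScalarTower R S M]
    (hS : CAlg.IsMittagLeffler R S) [Module.Flat S M] (hM : CAlg.IsMittagLeffler S M) :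
    CAlg.IsMittagLeffler R M := by
  intro ι Q _ _
  -- the S-linear comparison map for S
  let φ : TensorProduct R S (∀ i, Q i) →ₗ[S] ∀ i, TensorProduct R S (Q i) :=
    TensorProduct.piRightHom R S S Q
  have hφ : Function.Injective φ := hS ι Q
  have h1 : Function.Injective (LinearMap.lTensor M φ) :=
    Module.Flat.lTensor_preserves_injective_linearMap φ hφ
  have h2 : Function.Injective
      (TensorProduct.piRightHom S S M (fun i => TensorProduct R S (Q i))) :=
    hM ι (fun i => TensorProduct R S (Q i))
  have key : ∀ (t : TensorProduct R M (∀ i, Q i)) (i : ι),
      TensorProduct.piRightHom R R M Q t i =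
        TensorProduct.AlgebraTensorModule.cancelBaseChange R S S M (Q i)
          (TensorProduct.piRightHom S S M (fun i => TensorProduct R S (Q i))
            (LinearMap.lTensor M φ
              ((TensorProduct.AlgebraTensorModule.cancelBaseChange R S S M (∀ i, Q i)).symm t)) i) := by
    intro t i
    induction t using TensorProduct.induction_on with
    | zero => simp
    | tmul m q =>
      simp [φ]
    | add a b ha hb =>
      rw [map_add, map_add, map_add, map_add, Pi.add_apply, Pi.add_apply, map_add, ha, hb]
  intro x y hxy
  apply (TensorProduct.AlgebraTensorModule.cancelBaseChange R S S M (∀ i, Q i)).symm.injective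
  apply h1
  apply h2
  funext i
  apply (TensorProduct.AlgebraTensorModule.cancelBaseChange R S S M (Q i)).injective
  rw [← key x i, ← key y i, hxy]

end Groth.Agent.S6342
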