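import Groth.Statements.S6350
import Mathlib.RingTheory.LocalRing.Module
import Mathlib.LinearAlgebra.TensorProduct.Basis
import Mathlib.LinearAlgebra.TensorProduct.Quotient

set_option autoImplicit false
universe u
open scoped TensorProduct
open CAlg

namespace Groth.Agent.S6350

/-- Let (R, m) be a local ring with nilpotent maximal ideal and M a flat R-module. A family of elements
of M is a basis of M over R if and only if its image is a basis of the R/m-vector space M/mM = R/m ⊗
M. -/
theorem result (R : Type u) [CommRing R] [IsLocalRing R]
    (hnil : IsNilpotent (IsLocalRing.maximalIdeal R)) (M : Type u) [AddCommGroup M] [Module R M] [Module.Flat R M]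
    {A : Type u} (x : A → M) :
    (LinearIndependent R x ∧ Submodule.span R (Set.range x) = ⊤) ↔
      (LinearIndependent (R ⧸ IsLocalRing.maximalIdeal R)
          (fun a => (1 : R ⧸ IsLocalRing.maximalIdeal R) ⊗ₜ[R] x a) ∧
        Submodule.span (R ⧸ IsLocalRing.maximalIdeal R)
          (Set.range fun a => (1 : R ⧸ IsLocalRing.maximalIdeal R) ⊗ₜ[R] x a) = ⊤) := by
  constructor
  · rintro ⟨hli, hsp⟩
    let b : Module.Basis A R M := Module.Basis.mk hli (by rw [hsp])
    let b' := b.baseChange (R ⧸ IsLocalRing.maximalIdeal R)
    have hb' : (fun a => (1 : R ⧸ IsLocalRing.maximalIdeal R) ⊗ₜ[R] x a) = b' := by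
      funext a
      rw [Module.Basis.baseChange_apply, Module.Basis.mk_apply]
    rw [hb']
    exact ⟨b'.linearIndependent, b'.span_eq⟩
  · rintro ⟨hli, hsp⟩
    constructor
    · exact Module.IsLocalRing.linearIndependent_of_flat x hli
    · -- Nakayama for a nilpotent ideal
      set N : Submodule R M := Submodule.span R (Set.range x) with hN
      have h1 : N ⊔ IsLocalRing.maximalIdeal R • (⊤ : Submodule R M) = ⊤ := by
        let e := TensorProduct.quotTensorEquivQuotSMul M (IsLocalRing.maximalIdeal R)
        have h2 : Submodule.span R
            (Set.range fun a => (1 : R ⧸ IsLocalRing.maximalIdeal R) ⊗ₜ[R] x a) = ⊤ := by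
          have := Submodule.restrictScalars_span R (R ⧸ IsLocalRing.maximalIdeal R)
            Ideal.Quotient.mk_surjective
            (Set.range fun a => (1 : R ⧸ IsLocalRing.maximalIdeal R) ⊗ₜ[R] x a)
          rw [← this, hsp, Submodule.restrictScalars_top]
        have h3 : Submodule.map (IsLocalRing.maximalIdeal R • (⊤ : Submodule R M)).mkQ N = ⊤ := by
          rw [hN, Submodule.map_span, ← Set.range_comp]
          have h4 : ((IsLocalRing.maximalIdeal R • (⊤ : Submodule R M)).mkQ ∘ x) =
              e ∘ (fun a => (1 : R ⧸ IsLocalRing.maximalIdeal R) ⊗ₜ[R] x a) := by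
            funext a
            simp [e]
          rw [h4]
          have h5 : Submodule.span R
              (Set.range (⇑e ∘ fun a => (1 : R ⧸ IsLocalRing.maximalIdeal R) ⊗ₜ[R] x a)) =
              (Submodule.span R (Set.range fun a =>
                (1 : R ⧸ IsLocalRing.maximalIdeal R) ⊗ₜ[R] x a)).map e.toLinearMap := by
            rw [Submodule.map_span, ← Set.range_comp]
            rfl
          rw [h5, h2, Submodule.map_top, LinearMap.range_eq_top]
          exact e.surjective
        rw [sup_comm]
        exact (Submodule.map_mkQ_eq_top _ _).mp h3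
      have key : ∀ k : ℕ, N ⊔ (IsLocalRing.maximalIdeal R) ^ k • (⊤ : Submodule R M) = ⊤ := by
        intro k
        induction k with
        | zero => simp
        | succ k ih =>
          rw [eq_top_iff]
          calc (⊤ : Submodule R M) = N ⊔ IsLocalRing.maximalIdeal R • (⊤ : Submodule R M) := h1.symm
            _ = N ⊔ IsLocalRing.maximalIdeal R •
                  (N ⊔ (IsLocalRing.maximalIdeal R) ^ k • (⊤ : Submodule R M)) := by rw [ih]
            _ ≤ N ⊔ (IsLocalRing.maximalIdeal R) ^ (k + 1) • (⊤ : Submodule R M) := by
              rw [Submodule.smul_sup, ← Submodule.mul_smul, ← pow_succ']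
              refine sup_le le_sup_left (sup_le ?_ le_sup_right)
              exact le_trans Submodule.smul_le_right le_sup_left
      obtain ⟨n, hn⟩ := hnil
      have := key n
      rwa [hn, Ideal.zero_eq_bot, Submodule.bot_smul, sup_bot_eq] at this

end Groth.Agent.S6350
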