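import Groth.Statements.S6351
import Groth.Agent.S3169

set_option autoImplicit false
universe u
open scoped TensorProduct
open CAlg

namespace Groth.Agent.S6351

open Groth.Agent.S3169

/-- Let I be a nilpotent ideal of a commutative ring R and M an R-module with Tor_1^R(R/I, M) = 0, i.e.
I ⊗_R M → M injective. If a family of elements of M maps to a basis of the R/I-module M/IM = R/I ⊗
M, then it is a basis of M over R. -/
theorem result (R : Type u) [CommRing R] (I : Ideal R)
    (hI : IsNilpotent I) (M : Type u) [AddCommGroup M] [Module R M]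
    (htor : Function.Injective ((Submodule.subtype I).rTensor M)) {A : Type u} (x : A → M)
    (hli : LinearIndependent (R ⧸ I) (fun a => (1 : R ⧸ I) ⊗ₜ[R] x a))
    (hsp : Submodule.span (R ⧸ I) (Set.range fun a => (1 : R ⧸ I) ⊗ₜ[R] x a) = ⊤) :
    LinearIndependent R x ∧ Submodule.span R (Set.range x) = ⊤ := by
  classical
  set f : (A →₀ R) →ₗ[R] M := Finsupp.linearCombination R x with hf
  have hmuinj : Function.Injective (mu I M) :=
    (TensorProduct.lid R M).injective.comp htor
  -- surjectivity
  have hfbar : Function.Surjective (f.baseChange (R ⧸ I)) := by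
    rw [← LinearMap.range_eq_top, eq_top_iff, ← hsp, Submodule.span_le]
    rintro _ ⟨a, rfl⟩
    refine ⟨(1 : R ⧸ I) ⊗ₜ[R] Finsupp.single a 1, ?_⟩
    simp [hf]
  have hsurj : Function.Surjective f := by
    rw [← LinearMap.range_eq_top]
    apply eq_top_of_sup_smul_top I hI
    rw [eq_top_iff]
    rintro m -
    obtain ⟨z, hz⟩ := hfbar ((1 : R ⧸ I) ⊗ₜ[R] m)
    obtain ⟨c, rfl⟩ := mk_one_surjective I (A →₀ R) z
    have h0 : (1 : R ⧸ I) ⊗ₜ[R] (m - f c) = 0 := by
      rw [TensorProduct.tmul_sub, ← hz]
      simp
    have hmem := (ker_mk_one I M _).mp h0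
    have hsum : m = f c + (m - f c) := by abel
    rw [hsum]
    exact Submodule.add_mem_sup (LinearMap.mem_range_self f c) hmem
  have hker : LinearMap.ker f = ⊥ := by
    apply eq_bot_of_le_smul I hI
    intro k hk
    have hk0 : f k = 0 := hk
    -- coefficients of k lie in I
    have hcoef : ∀ a, k a ∈ I := by
      have hlc : Finsupp.linearCombination (R ⧸ I) (fun a => (1 : R ⧸ I) ⊗ₜ[R] x a)
          (k.mapRange (Ideal.Quotient.mk I) (map_zero _)) = 0 := by
        rw [Finsupp.linearCombination_apply, Finsupp.sum_mapRange_index (by simp)]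
        have : (k.sum fun a r => (Ideal.Quotient.mk I r) • ((1 : R ⧸ I) ⊗ₜ[R] x a)) =
            (1 : R ⧸ I) ⊗ₜ[R] f k := by
          rw [hf, Finsupp.linearCombination_apply, Finsupp.sum, Finsupp.sum, TensorProduct.tmul_sum]
          apply Finset.sum_congr rfl
          intro a _
          rw [TensorProduct.tmul_smul, TensorProduct.smul_tmul', TensorProduct.smul_tmul',
            smul_eq_mul, mul_one, Algebra.smul_def, mul_one, Ideal.Quotient.algebraMap_eq]
        rw [this, hk0, TensorProduct.tmul_zero]
      have h0 := (linearIndependent_iff.mp hli) _ hlc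
      intro a
      have := DFunLike.congr_fun h0 a
      simpa [Ideal.Quotient.eq_zero_iff_mem] using this
    have h1 : k ∈ I • (⊤ : Submodule R (A →₀ R)) := by
      rw [← Finsupp.sum_single k]
      apply Submodule.sum_mem
      intro a _
      have : Finsupp.single a (k a) = (k a) • Finsupp.single a (1 : R) := by simp
      rw [this]
      exact Submodule.smul_mem_smul (hcoef a) Submodule.mem_top
    obtain ⟨y, hy⟩ := exists_mu_eq I (A →₀ R) k h1
    have h2 : f.lTensor I y = 0 := by
      apply hmuinj
      rw [mu_natural, hy, hk0, map_zero]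
    have hex0 : Function.Exact (LinearMap.ker f).subtype f := LinearMap.exact_subtype_ker_map f
    have hex := lTensor_exact (R := R) (M := LinearMap.ker f) (N := A →₀ R) (P := M)
      (f := (LinearMap.ker f).subtype) (g := f) (↥I) hex0 hsurj
    obtain ⟨z, hz⟩ := (hex y).mp h2
    rw [← hy, ← hz]
    exact mu_mem_smul I (LinearMap.ker f) z
  refine ⟨?_, ?_⟩
  · rw [linearIndependent_iff]
    intro l hl
    have : l ∈ LinearMap.ker f := hl
    rw [hker] at this
    exact this
  · rw [← Finsupp.range_linearCombination]
    exact LinearMap.range_eq_top.mpr hsurj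

end Groth.Agent.S6351
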