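import Groth.Statements.S6353
import Mathlib
-- import your own Groth.Agent.* helpers here

set_option autoImplicit false
universe u
open CAlg

namespace Groth.Agent.S6353

open PrimeSpectrum in
/-- For a commutative ring R, I ↦ V(I) is a bijection between pure ideals (R/I flat over R) and closed
subsets of Spec R stable under generalization. Stated here as: V(I) is stable under generalization
for I pure, and every closed generalization-stable subset is V(I) for some pure I (injectivity on
pure ideals being the standard fact that pure ideals with the same zero locus coincide). -/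
theorem result (R : Type u) [CommRing R] :
    (∀ I : Ideal R, I.Pure → StableUnderGeneralization (zeroLocus (I : Set R))) ∧
      ∀ Z : Set (PrimeSpectrum R), IsClosed Z → StableUnderGeneralization Z →
        ∃ I : Ideal R, I.Pure ∧ zeroLocus (I : Set R) = Z := by
  constructor
  · intro I hI p q hqp hp
    have := hI
    rw [mem_zeroLocus] at hp ⊢
    have hle : q.asIdeal ≤ p.asIdeal := (le_iff_specializes q p).mpr hqp
    intro x hx
    obtain ⟨y, hy, hxy⟩ := Ideal.exists_eq_mul_of_pure (I := I) hx
    have h0 : x * (1 - y) ∈ q.asIdeal := by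
      have : x * (1 - y) = 0 := by rw [mul_sub, mul_one, ← hxy, sub_self]
      rw [this]; exact zero_mem _
    rcases q.2.mem_or_mem h0 with h | h
    · exact h
    · exfalso
      apply p.2.ne_top
      rw [Ideal.eq_top_iff_one]
      have h1 : 1 - y ∈ p.asIdeal := hle h
      have h2 : y ∈ p.asIdeal := hp hy
      have := add_mem h1 h2
      rwa [sub_add_cancel] at this
  · intro Z hZ hgen
    obtain ⟨J, rfl⟩ : ∃ J : Ideal R, zeroLocus (J : Set R) = Z := by
      obtain ⟨s, hs⟩ := (isClosed_iff_zeroLocus Z).mp hZ
      exact ⟨Ideal.span s, by rw [zeroLocus_span, hs]⟩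
    -- the ideal I
    let I : Ideal R :=
      { carrier := {x | ∃ y ∈ J, x = x * y}
        zero_mem' := ⟨0, J.zero_mem, by simp⟩
        add_mem' := by
          rintro x y ⟨f, hf, hxf⟩ ⟨g, hg, hyg⟩
          refine ⟨f + g - f * g, ?_, ?_⟩
          · exact sub_mem (add_mem hf hg) (J.mul_mem_right _ hf)
          · have e1 : x * f = x := hxf.symm
            have e2 : y * g = y := hyg.symm
            linear_combination (-1 + g) * e1 + (-1 + f) * e2
        smul_mem' := by
          rintro c x ⟨f, hf, hxf⟩
          refine ⟨f, hf, ?_⟩
          rw [smul_eq_mul, mul_assoc, ← hxf] }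
    have hI_mem : ∀ x, x ∈ I ↔ ∃ y ∈ J, x = x * y := fun x => Iff.rfl
    have hIJ : I ≤ J := by
      rintro x ⟨y, hy, hxy⟩
      rw [hxy]; exact J.mul_mem_left _ hy
    have hzero : zeroLocus (I : Set R) = zeroLocus (J : Set R) := by
      apply le_antisymm
      · intro p hp
        rw [mem_zeroLocus] at hp ⊢
        -- the multiplicative set
        let S : Submonoid R :=
          { carrier := {t | ∃ s, s ∉ p.asIdeal ∧ ∃ j ∈ J, t = s * (1 + j)}
            one_mem' := ⟨1, (Ideal.ne_top_iff_one _).mp p.2.ne_top, 0, J.zero_mem, by simp⟩
            mul_mem' := by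
              rintro a b ⟨s, hs, j, hj, rfl⟩ ⟨s', hs', j', hj', rfl⟩
              refine ⟨s * s', ?_, j + j' + j * j', ?_, by ring⟩
              · intro h
                rcases p.2.mem_or_mem h with h | h
                · exact hs h
                · exact hs' h
              · exact add_mem (add_mem hj hj') (J.mul_mem_left _ hj') }
        have hdisj : Disjoint ((⊥ : Ideal R) : Set R) S := by
          rw [Set.disjoint_left]
          rintro t ht ⟨s, hs, j, hj, rfl⟩
          have ht' : s * (1 + j) = 0 := ht
          apply hs
          apply hp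
          refine ⟨-j, neg_mem hj, ?_⟩
          linear_combination ht'
        obtain ⟨q, hqprime, -, hqS⟩ := Ideal.exists_le_prime_disjoint ⊥ S hdisj
        have hqp : q ≤ p.asIdeal := by
          intro x hx
          by_contra hxp
          exact Set.disjoint_left.mp hqS hx ⟨x, hxp, 0, J.zero_mem, by simp⟩
        have hqJ : q ⊔ J ≠ ⊤ := by
          intro htop
          rw [Ideal.eq_top_iff_one, Submodule.mem_sup] at htop
          obtain ⟨a, ha, j, hj, haj⟩ := htop
          refine Set.disjoint_left.mp hqS ha ⟨1, (Ideal.ne_top_iff_one _).mp p.2.ne_top, -j,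
            neg_mem hj, ?_⟩
          linear_combination haj
        obtain ⟨m, hmmax, hm⟩ := Ideal.exists_le_maximal _ hqJ
        have hmZ : (⟨m, hmmax.isPrime⟩ : PrimeSpectrum R) ∈ zeroLocus (J : Set R) := by
          rw [mem_zeroLocus]
          exact fun x hx => hm (Ideal.mem_sup_right hx)
        have hqZ : (⟨q, hqprime⟩ : PrimeSpectrum R) ∈ zeroLocus (J : Set R) := by
          refine hgen ?_ hmZ
          rw [← le_iff_specializes]
          exact fun x hx => hm (Ideal.mem_sup_left hx)
        rw [mem_zeroLocus] at hqZ
        exact fun x hx => hqp (hqZ hx)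
      · exact zeroLocus_anti_mono hIJ
    refine ⟨I, ?_, hzero⟩
    -- purity
    apply Ideal.Pure.of_inf_eq_mul
    intro J' _
    apply le_antisymm _ Ideal.mul_le_inf
    rintro x ⟨hxI, hxJ'⟩
    obtain ⟨y, hy, hxy⟩ := hxI
    -- y ∈ J ≤ radical I
    have hrad : J ≤ I.radical := by
      have h1 : (vanishingIdeal (zeroLocus (I : Set R))) = I.radical :=
        vanishingIdeal_zeroLocus_eq_radical I
      rw [← h1, hzero]
      exact le_vanishingIdeal_zeroLocus J
    obtain ⟨n, hn⟩ := hrad hy
    have hxyn : x = y ^ n * x := by
      clear hn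
      induction n with
      | zero => simp
      | succ n ih =>
        rw [pow_succ, mul_assoc, mul_comm y x, ← hxy, ← ih]
    rw [hxyn]
    exact Ideal.mul_mem_mul hn hxJ'

end Groth.Agent.S6353
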