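import Groth.Statements.S6354
import Mathlib
-- import your own Groth.Agent.* helpers here

set_option autoImplicit false
universe u
open CAlg

namespace Groth.Agent.S6354

open PrimeSpectrum in
/-- For an ideal I of a commutative ring R these four conditions are equivalent: (1) I is finitely
generated and pure; (2) I = (e) for some idempotent e; (3) I is pure with V(I) open in Spec R; (4)
R/I is projective as an R-module. -/
theorem result (R : Type u) [CommRing R] (I : Ideal R) :
    List.TFAE [I.Pure ∧ I.FG, ∃ e : R, IsIdempotentElem e ∧ I = Ideal.span {e},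
      I.Pure ∧ IsOpen (zeroLocus (I : Set R)), Module.Projective R (R ⧸ I)] := by
  have pure_of_idem : ∀ e : R, IsIdempotentElem e → (Ideal.span {e}).Pure := by
    intro e he
    have hfg : (Ideal.span {e}).FG := ⟨{e}, by simp⟩
    exact Ideal.Pure.of_isIdempotentElem hfg
      ((Ideal.isIdempotentElem_iff_of_fg _ hfg).mpr ⟨e, he, rfl⟩)
  tfae_have 1 → 2 := by
    rintro ⟨hpure, hfg⟩
    have := hpure
    exact (I.isIdempotentElem_iff_of_fg hfg).mp I.isIdempotentElem_of_pure
  tfae_have 2 → 1 := by
    rintro ⟨e, he, rfl⟩
    exact ⟨pure_of_idem e he, ⟨{e}, by simp⟩⟩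
  tfae_have 2 → 3 := by
    rintro ⟨e, he, rfl⟩
    refine ⟨pure_of_idem e he, ?_⟩
    rw [zeroLocus_span, zeroLocus_eq_basicOpen_of_isIdempotentElem e he]
    exact (basicOpen (1 - e)).2
  tfae_have 3 → 2 := by
    rintro ⟨hpure, hopen⟩
    have hclopen : IsClopen (zeroLocus (I : Set R)) := ⟨isClosed_zeroLocus _, hopen⟩
    obtain ⟨e, he, hze⟩ := isClopen_iff_zeroLocus.mp hclopen
    refine ⟨e, he, ?_⟩
    have h1 := hpure
    have h2 := pure_of_idem e he
    apply Ideal.zeroLocus_inj_of_pure.mp
    rw [hze, zeroLocus_span]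
  tfae_have 2 → 4 := by
    rintro ⟨e, he, rfl⟩
    -- R ⧸ (e) is a retract of R
    let s : R ⧸ Ideal.span {e} →ₗ[R] R :=
      Submodule.liftQ _ (LinearMap.mulLeft R (1 - e)) (by
        rw [Ideal.span, Submodule.span_le]
        rintro x hx
        rw [Set.mem_singleton_iff] at hx
        subst hx
        simp only [SetLike.mem_coe, LinearMap.mem_ker, LinearMap.mulLeft_apply]
        rw [sub_mul, one_mul, he.eq, sub_self])
    apply Module.Projective.of_split s (Submodule.mkQ _)
    ext
    simp only [LinearMap.coe_comp, Function.comp_apply, Submodule.mkQ_apply, LinearMap.id_comp, s,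
      Submodule.liftQ_apply, LinearMap.mulLeft_apply, mul_one]
    rw [← sub_eq_zero, ← Submodule.Quotient.mk_sub, Submodule.Quotient.mk_eq_zero]
    rw [sub_sub_cancel_left]
    exact neg_mem (Ideal.subset_span rfl)
  tfae_have 4 → 2 := by
    intro hproj
    obtain ⟨s, hs⟩ := Module.projective_lifting_property (Submodule.mkQ I) LinearMap.id
      (Submodule.mkQ_surjective I)
    set f : R := s (Submodule.Quotient.mk 1) with hf
    have hf1 : 1 - f ∈ I := by
      have := LinearMap.congr_fun hs (Submodule.Quotient.mk 1)
      simp only [LinearMap.coe_comp, Function.comp_apply, Submodule.mkQ_apply, LinearMap.id_coe,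
        id_eq] at this
      rw [← Submodule.Quotient.mk_eq_zero, Submodule.Quotient.mk_sub, ← hf] at *
      rw [this, sub_self]
    have hfI : ∀ x ∈ I, x * f = 0 := by
      intro x hx
      have : x • f = s (x • Submodule.Quotient.mk 1) := by rw [map_smul]
      rw [← Submodule.Quotient.mk_smul, smul_eq_mul, smul_eq_mul, mul_one,
        (Submodule.Quotient.mk_eq_zero I).mpr hx, map_zero] at this
      exact this
    refine ⟨1 - f, ?_, ?_⟩
    · have := hfI _ hf1
      change (1 - f) * (1 - f) = 1 - f
      rw [mul_sub, mul_one, this, sub_zero]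
    · apply le_antisymm
      · intro x hx
        rw [Ideal.mem_span_singleton']
        exact ⟨x, by rw [mul_sub, mul_one, hfI x hx, sub_zero]⟩
      · rw [Ideal.span_le]
        intro x hx
        rw [Set.mem_singleton_iff] at hx
        exact hx ▸ hf1
  tfae_finish

end Groth.Agent.S6354
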