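import Groth.Statements.S6355
import Groth.Agent.Lib.Helper31.RankSemicont
import Groth.Agent.Lib.Helper31.PureIdeal

set_option autoImplicit false
universe u
open CAlg

namespace Groth.Agent.S6355

/-- For a commutative ring R the following are equivalent: (1) every subset of Spec R which is closed
and stable under generalization is open; (2) every finite flat R-module is finite locally free, i.e.
(for finite modules) projective. -/
theorem result (R : Type u) [CommRing R] :
    (∀ Z : Set (PrimeSpectrum R), IsClosed Z → StableUnderGeneralization Z → IsOpen Z) ↔
      ∀ (M : Type u) [AddCommGroup M] [Module R M], Module.Finite R M → Module.Flat R M →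
        Module.Projective R M := by
  constructor
  · intro h M _ _ hfin hflat
    haveI := Groth.Agent.Lib.Helper31.RankSemicont.finitePresentation_of_forall_isOpen M h
    exact Module.Flat.projective_of_finitePresentation
  · intro h Z hZ hgen
    obtain ⟨I, hI, rfl⟩ := Groth.Agent.Lib.Helper31.PureIdeal.exists_pure_zeroLocus_eq Z hZ hgen
    have hproj : Module.Projective R (R ⧸ I) := h (R ⧸ I) inferInstance hI
    obtain ⟨s, hs⟩ := Module.projective_lifting_property (Submodule.mkQ I) LinearMap.id
      (Submodule.mkQ_surjective I)
    set e : R := s 1 with he
    have h1 : 1 - e ∈ I := by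
      have := LinearMap.congr_fun hs (1 : R ⧸ I)
      simp only [LinearMap.comp_apply, LinearMap.id_apply, Submodule.mkQ_apply] at this
      rw [← Ideal.Quotient.eq_zero_iff_mem, map_sub, map_one]
      change (1 : R ⧸ I) - Submodule.Quotient.mk (s 1) = 0
      rw [this, sub_self]
    have h2 : ∀ x ∈ I, x * e = 0 := by
      intro x hx
      have : x • s 1 = s (x • (1 : R ⧸ I)) := (map_smul s x 1).symm
      rw [he, ← smul_eq_mul, this]
      have hx0 : x • (1 : R ⧸ I) = 0 := by
        rw [Algebra.smul_def, mul_one]
        exact Ideal.Quotient.eq_zero_iff_mem.2 hx
      rw [hx0, map_zero]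
    have : PrimeSpectrum.zeroLocus (I : Set R) = (PrimeSpectrum.basicOpen e : Set (PrimeSpectrum R)) := by
      ext p
      simp only [PrimeSpectrum.mem_zeroLocus, SetLike.mem_coe, PrimeSpectrum.mem_basicOpen]
      constructor
      · intro hIp hep
        apply p.2.ne_top
        rw [Ideal.eq_top_iff_one]
        have := p.asIdeal.add_mem (hIp h1) hep
        simpa using this
      · intro hep x hx
        have := h2 x hx
        have hmem : x * e ∈ p.asIdeal := by rw [this]; exact p.asIdeal.zero_mem
        rcases p.2.mem_or_mem hmem with h | h
        · exact h
        · exact absurd h hep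
    rw [this]
    exact (PrimeSpectrum.basicOpen e).2

end Groth.Agent.S6355
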