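import Groth.Statements.S6358
import Groth.Agent.Lib.Helper31.DominateML

set_option autoImplicit false
universe u
open CAlg

namespace Groth.Agent.S6358

/-- A module M over a commutative ring R is Mittag-Leffler exactly when each linear map f from a finite
free module R^n into M is mutually dominated by some linear map g : R^n → Q with Q finitely
presented, meaning that f ⊗ id_N and g ⊗ id_N have the same kernel for every R-module N. -/
theorem result (R : Type u) [CommRing R] (M : Type u)
    [AddCommGroup M] [Module R M] :
    CAlg.IsMittagLeffler R M ↔
      ∀ (n : ℕ) (f : (Fin n → R) →ₗ[R] M),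
        ∃ (Q : Type u) (_ : AddCommGroup Q) (_ : Module R Q) (_ : Module.FinitePresentation R Q)
          (g : (Fin n → R) →ₗ[R] Q),
          ∀ (N : Type u) [AddCommGroup N] [Module R N],
            LinearMap.ker (f.rTensor N) = LinearMap.ker (g.rTensor N) := by
  constructor
  · intro hM n f
    exact Groth.Agent.Lib.Helper31.ML.exists_fp_ker_eq_of_isMittagLeffler R hM f
  · intro h
    apply Groth.Agent.Lib.Helper31.ML.isMittagLeffler_of_forall_free_dominate R M
    intro n f
    obtain ⟨Q, i1, i2, i3, g, hg⟩ := h n f
    exact ⟨Q, i1, i2, Groth.Agent.Lib.Helper31.ML.isMittagLeffler_of_finitePresentation R, g, hg⟩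

end Groth.Agent.S6358
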