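import Groth.Statements.S6362
import Mathlib
-- import your own Groth.Agent.* helpers here

set_option autoImplicit false
universe u
open scoped TensorProduct
open Fields

namespace Groth.Agent.S6362

/-- Let K/F be a finite separable extension and L/F an extension with L algebraically closed. Then the
L-algebra map K ⊗_F L → ∏_σ L, indexed by the F-algebra maps σ : K → L and sending a ⊗ b to (σ(a)
b)_σ, is an isomorphism; stated as bijectivity of that map. -/
theorem result {F K L : Type u} [Field F] [Field K] [Field L]
    [Algebra F K] [Algebra F L] [FiniteDimensional F K] [Algebra.IsSeparable F K] [IsAlgClosed L] :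
    Function.Bijective (fun x : K ⊗[F] L => fun σ : K →ₐ[F] L =>
      Algebra.TensorProduct.lift σ (AlgHom.id F L) (fun a b => Commute.all (σ a) b) x) := by
  classical
  set n := Module.finrank F K with hn
  let b : Module.Basis (Fin n) F K := Module.finBasis F K
  have hcard : Fintype.card (Fin n) = Fintype.card (K →ₐ[F] L) := by
    rw [AlgHom.card, Fintype.card_fin]
  let e : Fin n ≃ (K →ₐ[F] L) := Fintype.equivOfCardEq hcard
  let A : Matrix (Fin n) (Fin n) L := Algebra.embeddingsMatrixReindex F L b e
  have hA : IsUnit A := by
    rw [Matrix.isUnit_iff_isUnit_det]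
    have h1 := Algebra.discr_eq_det_embeddingsMatrixReindex_pow_two F L (b : Fin n → K) e
    have h2 : Algebra.discr F (b : Fin n → K) ≠ 0 := Algebra.discr_not_zero_of_basis F b
    refine IsUnit.mk0 _ fun h0 => h2 ?_
    have : algebraMap F L (Algebra.discr F (b : Fin n → K)) = 0 := by
      rw [h1]; change A.det ^ 2 = 0; rw [h0]; simp
    exact (map_eq_zero _).mp this
  let T : K ⊗[F] L ≃ₗ[F] (Fin n →₀ L) := TensorProduct.equivFinsuppOfBasisLeft b
  -- key formula
  have key : ∀ (x : K ⊗[F] L) (j : Fin n),
      Algebra.TensorProduct.lift (e j) (AlgHom.id F L) (fun a b => Commute.all ((e j) a) b) x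
        = Matrix.vecMul (fun i => T x i) A j := by
    intro x j
    induction x using TensorProduct.induction_on with
    | zero => simp [Matrix.vecMul, dotProduct]
    | tmul a l =>
      simp only [Algebra.TensorProduct.lift_tmul, AlgHom.coe_id, id_eq, Matrix.vecMul, dotProduct, T,
        TensorProduct.equivFinsuppOfBasisLeft_apply_tmul_apply]
      have : A = fun i j => (e j) (b i) := by
        ext i j
        simp [A, Algebra.embeddingsMatrixReindex, Algebra.embeddingsMatrix_apply]
      rw [this]
      conv_lhs => rw [← b.sum_repr a]
      rw [map_sum, Finset.sum_mul]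
      refine Finset.sum_congr rfl fun i _ => ?_
      rw [map_smul, Algebra.smul_def, Algebra.smul_def]
      ring
    | add x y hx hy =>
      rw [map_add, hx, hy]
      have : (fun i => T (x + y) i) = (fun i => T x i) + (fun i => T y i) := by
        ext i; simp
      rw [this, Matrix.add_vecMul]; rfl
  constructor
  · intro x y hxy
    apply T.injective
    have h1 : Matrix.vecMul (fun i => T x i) A = Matrix.vecMul (fun i => T y i) A := by
      ext j
      rw [← key, ← key]
      exact congrFun hxy (e j)
    have := (Matrix.vecMul_injective_iff_isUnit.mpr hA) h1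
    ext i
    exact congrFun this i
  · intro g
    obtain ⟨v, hv⟩ := (Matrix.vecMul_surjective_iff_isUnit.mpr hA) (fun j => g (e j))
    refine ⟨T.symm (Finsupp.equivFunOnFinite.symm v), ?_⟩
    funext σ
    obtain ⟨j, rfl⟩ := e.surjective σ
    have := key (T.symm (Finsupp.equivFunOnFinite.symm v)) j
    simp only at this ⊢
    rw [this]
    have h2 : (fun i => T (T.symm (Finsupp.equivFunOnFinite.symm v)) i) = v := by
      ext i; simp
    rw [h2]
    exact congrFun hv j

end Groth.Agent.S6362
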