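import Groth.Statements.S6363
import Mathlib

set_option autoImplicit false
universe u
open scoped TensorProduct
open Fields

namespace Groth.Agent.S6363

/-- For a finite field extension L/K and a normal closure M of L/K, some K-algebra homomorphism from the
n-fold tensor power L ⊗_K ⋯ ⊗_K L to M is surjective, where n = [L : K]_s is the separable degree
(so n ≤ [L : K]). -/
theorem result {K L M : Type u} [Field K] [Field L] [Field M]
    [Algebra K L] [Algebra K M] [Algebra L M] [IsScalarTower K L M] [FiniteDimensional K L]
    [IsNormalClosure K L M] :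
    ∃ f : (⨂[K] _ : Fin (Field.finSepDegree K L), L) →ₐ[K] M, Function.Surjective f := by
  classical
  have hNC := (Algebra.IsAlgebraic.isNormalClosure_iff (F := K) (K := L) (L := M)).1 inferInstance
  obtain ⟨hsplits, htop⟩ := hNC
  have hn : Field.finSepDegree K L = Nat.card (L →ₐ[K] M) :=
    Field.finSepDegree_eq_of_adjoin_splits (F := K) (E := L) (K := M) (S := Set.univ)
      (IntermediateField.adjoin_univ K L)
      (fun s _ => ⟨Algebra.IsIntegral.isIntegral s, hsplits s⟩)
  have e : Fin (Field.finSepDegree K L) ≃ (L →ₐ[K] M) :=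
    (Finite.equivFinOfCardEq hn.symm).symm
  set n := Field.finSepDegree K L
  obtain ⟨F, hF⟩ : ∃ F : (⨂[K] _ : Fin n, L) →ₐ[K] M,
      ∀ x : Fin n → L, F (PiTensorProduct.tprod K x) = ∏ i, e i (x i) := by
    let f : MultilinearMap K (fun _ : Fin n => L) M :=
      (MultilinearMap.mkPiAlgebra K (Fin n) M).compLinearMap (fun i => (e i).toLinearMap)
    have hf : ∀ x : Fin n → L, f x = ∏ i, e i (x i) := fun x => by
      simp [f]
    refine ⟨PiTensorProduct.liftAlgHom f (by rw [hf]; simp) (fun x y => by
      rw [hf, hf, hf, ← Finset.prod_mul_distrib]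
      simp), ?_⟩
    intro x
    rw [PiTensorProduct.liftAlgHom_apply, PiTensorProduct.lift.tprod, hf]
  refine ⟨F, ?_⟩
  have hM : Algebra.IsAlgebraic K M := (IsNormalClosure.normal (F := K) (K := L) (L := M)).toIsAlgebraic
  have hfield : IsField F.range := Subalgebra.isField_of_algebraic F.range
  have hle : ∀ σ : L →ₐ[K] M, σ.fieldRange ≤ Subalgebra.toIntermediateField' F.range hfield := by
    intro σ y hy
    obtain ⟨a, rfl⟩ := hy
    obtain ⟨i, rfl⟩ := e.surjective σ
    show (e i) a ∈ F.range
    refine ⟨PiTensorProduct.singleAlgHom (R := K) (A := fun _ : Fin n => L) i a, ?_⟩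
    rw [PiTensorProduct.singleAlgHom_apply]
    erw [hF]
    rw [Finset.prod_eq_single i]
    · simp
    · intro j _ hj
      simp [hj]
    · simp
  have htop' : (⊤ : IntermediateField K M) ≤ Subalgebra.toIntermediateField' F.range hfield := by
    rw [← htop]
    exact normalClosure_le_iff.2 hle
  intro y
  exact htop' (IntermediateField.mem_top (x := y))

end Groth.Agent.S6363
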