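import Groth.Statements.S6364
import Mathlib.LinearAlgebra.Matrix.Charpoly.Minpoly
import Mathlib.LinearAlgebra.Charpoly.ToMatrix
import Mathlib.FieldTheory.IntermediateField.Adjoin.Basic
import Mathlib.RingTheory.Norm.Basic

set_option autoImplicit false
universe u
open Fields

namespace Groth.Agent.S6364

open Matrix Polynomial in
theorem charpoly_blockDiagonal_const {R : Type*} [CommRing R] {n o : Type*} [Fintype n] [DecidableEq n]
    [Fintype o] [DecidableEq o] (M : Matrix n n R) :
    (blockDiagonal (fun _ : o => M)).charpoly = M.charpoly ^ Fintype.card o := by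
  have h : charmatrix (blockDiagonal (fun _ : o => M)) = blockDiagonal (fun _ : o => charmatrix M) := by
    ext ⟨i, k⟩ ⟨j, k'⟩
    simp only [charmatrix_apply, blockDiagonal_apply, diagonal_apply, Prod.mk.injEq]
    by_cases hk : k = k'
    · subst hk
      by_cases hij : i = j <;> simp [hij]
    · simp [hk]
  rw [Matrix.charpoly, h, det_blockDiagonal]
  simp [Matrix.charpoly]

open IntermediateField in
/-- Let L/K be a finite extension and a ∈ L with minimal polynomial P over K. Then P ^ e, with e = [L :
K(a)], is the characteristic polynomial of multiplication by a (the K-linear map x ↦ a x on L), and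
e · deg P = [L : K]. -/
theorem result {K L : Type u} [Field K] [Field L] [Algebra K L] [FiniteDimensional K L]
    (a : L) :
    (Algebra.lmul K L a).charpoly = minpoly K a ^ Module.finrank K⟮a⟯ L ∧
      Module.finrank K⟮a⟯ L * (minpoly K a).natDegree = Module.finrank K L := by
  classical
  have ha : IsIntegral K a := Algebra.IsIntegral.isIntegral a
  constructor
  · let pb := adjoin.powerBasis ha
    let b := pb.basis
    let c := Module.finBasis K⟮a⟯ L
    have hgen : algebraMap K⟮a⟯ L pb.gen = a := by
      simp [pb]
    rw [← LinearMap.charpoly_toMatrix _ (b.smulTower c)]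
    have h1 : LinearMap.toMatrix (b.smulTower c) (b.smulTower c) (Algebra.lmul K L a) =
        Algebra.leftMulMatrix (b.smulTower c) (algebraMap K⟮a⟯ L pb.gen) := by
      rw [hgen, Algebra.leftMulMatrix_apply]
    rw [h1, Algebra.smulTower_leftMulMatrix_algebraMap, charpoly_blockDiagonal_const,
      _root_.charpoly_leftMulMatrix, Fintype.card_fin]
    congr 1
    simp [pb, minpoly_gen]
  · rw [← IntermediateField.adjoin.finrank ha, mul_comm]
    exact Module.finrank_mul_finrank K K⟮a⟯ L

end Groth.Agent.S6364
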