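import Groth.Statements.S6368
import Mathlib.RingTheory.Flat.FaithfullyFlat.Basic
import Mathlib.LinearAlgebra.TensorProduct.Finiteness

set_option autoImplicit false
universe u
open scoped TensorProduct
open CAlg

namespace Groth.Agent.S6368

/-- Let R → S be faithfully flat and M an R-module. If the S-module S ⊗_R M is countably generated then
M is countably generated. -/
theorem result (R S : Type u) [CommRing R] [CommRing S] [Algebra R S]
    [Module.FaithfullyFlat R S] (M : Type u) [AddCommGroup M] [Module R M]
    (h : CAlg.IsCountablyGenerated S (S ⊗[R] M)) : CAlg.IsCountablyGenerated R M := by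
  obtain ⟨t, ht, hspan⟩ := h
  -- finite representations of the generators
  choose F hF using fun y : S ⊗[R] M => TensorProduct.exists_finset y
  let T : Set M := ⋃ y ∈ t, (Prod.snd '' (F y : Set (S × M)))
  have hT : T.Countable :=
    ht.biUnion (fun y _ => ((F y).finite_toSet.image Prod.snd).countable)
  refine ⟨T, hT, ?_⟩
  set M' : Submodule R M := Submodule.span R T with hM'
  -- the base change of the inclusion is surjective
  have hsurj : Function.Surjective (M'.subtype.baseChange S) := by
    rw [← LinearMap.range_eq_top, eq_top_iff, ← hspan, Submodule.span_le]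
    intro y hy
    have h1 : ∀ i ∈ F y, i.2 ∈ M' := by
      intro i hi
      apply Submodule.subset_span
      exact Set.mem_biUnion hy ⟨i, hi, rfl⟩
    refine ⟨∑ i ∈ (F y).attach, i.1.1 ⊗ₜ[R] (⟨i.1.2, h1 i.1 i.2⟩ : M'), ?_⟩
    rw [map_sum]
    conv_rhs => rw [hF y, ← Finset.sum_attach]
    apply Finset.sum_congr rfl
    intro i _
    simp
  have hsub : Subsingleton (S ⊗[R] (M ⧸ M')) := by
    constructor
    intro a b
    have hz : ∀ z : S ⊗[R] (M ⧸ M'), z = 0 := by
      intro z
      obtain ⟨w, rfl⟩ := LinearMap.lTensor_surjective S M'.mkQ_surjective z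
      obtain ⟨w', rfl⟩ := hsurj w
      have h2 : M'.mkQ.lTensor S (M'.subtype.baseChange S w') =
          (M'.mkQ ∘ₗ M'.subtype).lTensor S w' := by
        rw [LinearMap.lTensor_comp]
        rfl
      rw [h2]
      have h3 : M'.mkQ ∘ₗ M'.subtype = 0 := by
        ext m
        simp
      rw [h3, LinearMap.lTensor_zero, LinearMap.zero_apply]
    rw [hz a, hz b]
  have := Module.FaithfullyFlat.lTensor_reflects_triviality R S (M ⧸ M')
  exact (Submodule.Quotient.subsingleton_iff).mp this

end Groth.Agent.S6368
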