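import Groth.Statements.S6371
import Mathlib.Algebra.Category.Ring.Epi
import Mathlib.Algebra.Category.Ring.Instances
import Mathlib.RingTheory.Localization.BaseChange
import Mathlib.RingTheory.LocalProperties.Submodule

set_option autoImplicit false
universe u
open CAlg

namespace Groth.Agent.S6371

open TensorProduct CategoryTheory

/-- A ring map R → S is an epimorphism of rings if and only if for every prime p of R the localized map
R_p → S_p is an epimorphism, where S_p is S localized at the image of R ∖ p. -/
theorem result (R S : Type u) [CommRing R] [CommRing S] [Algebra R S] :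
    Algebra.IsEpi R S ↔ ∀ (p : Ideal R) [p.IsPrime],
      Algebra.IsEpi (Localization.AtPrime p) (Localization (Algebra.algebraMapSubmonoid S p.primeCompl)) := by
  constructor
  · intro h p _
    rw [← CommRingCat.epi_iff_epi] at h ⊢
    have h1 : Epi (CommRingCat.ofHom
        (algebraMap S (Localization (Algebra.algebraMapSubmonoid S p.primeCompl)))) :=
      IsLocalization.epi (Algebra.algebraMapSubmonoid S p.primeCompl) _
    have h2 := epi_comp (CommRingCat.ofHom (algebraMap R S))
      (CommRingCat.ofHom (algebraMap S (Localization (Algebra.algebraMapSubmonoid S p.primeCompl))))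
    have e : CommRingCat.ofHom (algebraMap R S) ≫
        CommRingCat.ofHom (algebraMap S (Localization (Algebra.algebraMapSubmonoid S p.primeCompl))) =
        CommRingCat.ofHom (algebraMap R (Localization.AtPrime p)) ≫
        CommRingCat.ofHom (algebraMap (Localization.AtPrime p)
          (Localization (Algebra.algebraMapSubmonoid S p.primeCompl))) := by
      ext r
      simp [← IsScalarTower.algebraMap_apply]
    rw [e] at h2
    exact epi_of_epi (CommRingCat.ofHom (algebraMap R (Localization.AtPrime p))) _
  · intro h
    rw [Algebra.isEpi_iff_forall_one_tmul_eq]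
    intro a
    let Sₚ : ∀ (P : Ideal R) [P.IsMaximal], Type u := fun P _ =>
      Localization (Algebra.algebraMapSubmonoid S P.primeCompl)
    let ℓ : ∀ (P : Ideal R) [P.IsMaximal], S →ₗ[R] Sₚ P := fun P _ =>
      (IsScalarTower.toAlgHom R S (Sₚ P)).toLinearMap
    have hℓ : ∀ (P : Ideal R) [P.IsMaximal], IsLocalizedModule P.primeCompl (ℓ P) := by
      intro P _
      exact (isLocalizedModule_iff_isLocalization (S := P.primeCompl) (A := S) (Aₛ := Sₚ P)).mpr
        inferInstance
    have : ∀ (P : Ideal R) [P.IsMaximal],
        IsLocalizedModule P.primeCompl (TensorProduct.map (ℓ P) (ℓ P)) := by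
      intro P _
      have := hℓ P
      infer_instance
    refine Module.eq_of_localization_maximal
      (fun P _ => Sₚ P ⊗[R] Sₚ P)
      (fun P _ => TensorProduct.map (ℓ P) (ℓ P)) _ _ ?_
    intro P _
    have hP := (Algebra.isEpi_iff_forall_one_tmul_eq _ _).mp (h P) (algebraMap S (Sₚ P) a)
    have := congrArg (IsLocalization.moduleTensorEquiv P.primeCompl (Localization.AtPrime P)
      (Sₚ P) (Sₚ P)) hP
    have e1 : (TensorProduct.map (ℓ P) (ℓ P)) ((1 : S) ⊗ₜ[R] a) =
        (1 : Sₚ P) ⊗ₜ[R] (algebraMap S (Sₚ P) a) := by
      simp [ℓ]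
    have e2 : (TensorProduct.map (ℓ P) (ℓ P)) (a ⊗ₜ[R] (1 : S)) =
        (algebraMap S (Sₚ P) a) ⊗ₜ[R] (1 : Sₚ P) := by
      simp [ℓ]
    rw [e1, e2]
    exact this

end Groth.Agent.S6371
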