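import Groth.Statements.S6372

set_option autoImplicit false
universe u
open CAlg

namespace Groth.Agent.S6372

/-- A faithfully flat epimorphism of rings is an isomorphism: if R → S is faithfully flat and an
epimorphism in the category of rings then it is bijective. -/
theorem result (R S : Type u) [CommRing R] [CommRing S] [Algebra R S]
    [Module.FaithfullyFlat R S] [Algebra.IsEpi R S] : Function.Bijective (algebraMap R S) := by
  have h0 : (algebraMap R S : R → S) = (Algebra.linearMap R S : R → S) := rfl
  rw [h0, ← Module.FaithfullyFlat.lTensor_bijective_iff_bijective (R := R) (M := S)]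
  -- the multiplication map `S ⊗ S → S` is bijective
  have hmul : Function.Bijective (TensorProduct.lift (LinearMap.mul R S)) :=
    ⟨Algebra.IsEpi.injective_lift_mul, fun s => ⟨s ⊗ₜ 1, by simp⟩⟩
  -- composite is `rid`
  have hcomp : (TensorProduct.lift (LinearMap.mul R S)) ∘ₗ ((Algebra.linearMap R S).lTensor S) =
      (TensorProduct.rid R S).toLinearMap := by
    ext s
    simp
  have hb : Function.Bijective ((TensorProduct.lift (LinearMap.mul R S)) ∘
      ((Algebra.linearMap R S).lTensor S)) := by
    have : ((TensorProduct.lift (LinearMap.mul R S)) ∘ ((Algebra.linearMap R S).lTensor S)) =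
        (TensorProduct.rid R S) := by
      funext x
      exact congrArg (fun g => g x) hcomp
    rw [this]
    exact (TensorProduct.rid R S).bijective
  exact (Function.Bijective.of_comp_iff' hmul _).mp hb

end Groth.Agent.S6372
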