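import Groth.Statements.S6373

set_option autoImplicit false
universe u
open CAlg

namespace Groth.Agent.S6373

/-- A faithfully flat epimorphism of rings is bijective (auxiliary). -/
theorem bijective_of_faithfullyFlat_of_isEpi (R S : Type u) [CommRing R] [CommRing S] [Algebra R S]
    [Module.FaithfullyFlat R S] [Algebra.IsEpi R S] : Function.Bijective (algebraMap R S) := by
  have h0 : (algebraMap R S : R → S) = (Algebra.linearMap R S : R → S) := rfl
  rw [h0, ← Module.FaithfullyFlat.lTensor_bijective_iff_bijective (R := R) (M := S)]
  have hmul : Function.Bijective (TensorProduct.lift (LinearMap.mul R S)) :=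
    ⟨Algebra.IsEpi.injective_lift_mul, fun s => ⟨s ⊗ₜ 1, by simp⟩⟩
  have hcomp : (TensorProduct.lift (LinearMap.mul R S)) ∘ₗ ((Algebra.linearMap R S).lTensor S) =
      (TensorProduct.rid R S).toLinearMap := by
    ext s
    simp
  have hb : Function.Bijective ((TensorProduct.lift (LinearMap.mul R S)) ∘
      ((Algebra.linearMap R S).lTensor S)) := by
    have : ((TensorProduct.lift (LinearMap.mul R S)) ∘ ((Algebra.linearMap R S).lTensor S)) =
        (TensorProduct.rid R S) := by
      funext x
      exact congrArg (fun g => g x) hcomp
    rw [this]
    exact (TensorProduct.rid R S).bijective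
  exact (Function.Bijective.of_comp_iff' hmul _).mp hb

/-- If k is a field and k → S is an epimorphism of rings, then S is the zero ring or k → S is an
isomorphism. -/
theorem result (k S : Type u) [Field k] [CommRing S] [Algebra k S] [Algebra.IsEpi k S] :
    Subsingleton S ∨ Function.Bijective (algebraMap k S) := by
  rcases subsingleton_or_nontrivial S with h | h
  · exact Or.inl h
  · exact Or.inr (bijective_of_faithfullyFlat_of_isEpi k S)

end Groth.Agent.S6373
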