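import Groth.Statements.S6374

set_option autoImplicit false
universe u
open CAlg

namespace Groth.Agent.S6374

open TensorProduct

/-- A faithfully flat epimorphism of rings is bijective (auxiliary). -/
theorem bijective_of_faithfullyFlat_of_isEpi (R S : Type u) [CommRing R] [CommRing S] [Algebra R S]
    [Module.FaithfullyFlat R S] [Algebra.IsEpi R S] : Function.Bijective (algebraMap R S) := by
  have h0 : (algebraMap R S : R → S) = (Algebra.linearMap R S : R → S) := rfl
  rw [h0, ← Module.FaithfullyFlat.lTensor_bijective_iff_bijective (R := R) (M := S)]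
  have hmul : Function.Bijective (TensorProduct.lift (LinearMap.mul R S)) :=
    ⟨Algebra.IsEpi.injective_lift_mul, fun s => ⟨s ⊗ₜ 1, by simp⟩⟩
  have hcomp : (TensorProduct.lift (LinearMap.mul R S)) ∘ₗ ((Algebra.linearMap R S).lTensor S) =
      (TensorProduct.rid R S).toLinearMap := by
    ext s
    simp
  have hb : Function.Bijective ((TensorProduct.lift (LinearMap.mul R S)) ∘
      ((Algebra.linearMap R S).lTensor S)) := by
    have : ((TensorProduct.lift (LinearMap.mul R S)) ∘ ((Algebra.linearMap R S).lTensor S)) =
        (TensorProduct.rid R S) := by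
      funext x
      exact congrArg (fun g => g x) hcomp
    rw [this]
    exact (TensorProduct.rid R S).bijective
  exact (Function.Bijective.of_comp_iff' hmul _).mp hb

/-- Epimorphisms of rings are stable under base change. -/
theorem isEpi_baseChange (R S A : Type u) [CommRing R] [CommRing S] [Algebra R S]
    [CommRing A] [Algebra R A] [Algebra.IsEpi R S] : Algebra.IsEpi A (A ⊗[R] S) := by
  rw [Algebra.isEpi_iff_forall_one_tmul_eq]
  intro x
  -- the `R`-linear map `S ⊗[R] S → (A ⊗ S) ⊗[A] (A ⊗ S)`
  let ι : S →ₗ[R] A ⊗[R] S := (Algebra.TensorProduct.includeRight : S →ₐ[R] A ⊗[R] S).toLinearMap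
  let B : S →ₗ[R] S →ₗ[R] (A ⊗[R] S) ⊗[A] (A ⊗[R] S) :=
    LinearMap.mk₂ R (fun s t => (ι s) ⊗ₜ[A] (ι t))
      (by intro a a' b; simp [add_tmul])
      (by intro r a b; simp [smul_tmul'])
      (by intro a b b'; simp [tmul_add])
      (by intro r a b; simp)
  have key : ∀ s : S, (1 : A ⊗[R] S) ⊗ₜ[A] ((1 : A) ⊗ₜ[R] s) = ((1 : A) ⊗ₜ[R] s) ⊗ₜ[A] (1 : A ⊗[R] S) := by
    intro s
    have := congrArg (TensorProduct.lift B) ((Algebra.isEpi_iff_forall_one_tmul_eq R S).mp ‹_› s)
    simpa [B, ι, Algebra.TensorProduct.one_def] using this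
  induction x using TensorProduct.induction_on with
  | zero => simp
  | tmul a s =>
    have h1 : (a ⊗ₜ[R] s : A ⊗[R] S) = a • ((1 : A) ⊗ₜ[R] s) := by
      simp [TensorProduct.smul_tmul']
    rw [h1, TensorProduct.tmul_smul, ← TensorProduct.smul_tmul', key]
  | add x y hx hy => rw [tmul_add, add_tmul, hx, hy]

/-- If k is a field and k → S is an epimorphism of rings, then S is the zero ring or k → S is an
isomorphism. -/
theorem epi_over_field (k S : Type u) [Field k] [CommRing S] [Algebra k S] [Algebra.IsEpi k S] :
    Subsingleton S ∨ Function.Bijective (algebraMap k S) := by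
  rcases subsingleton_or_nontrivial S with h | h
  · exact Or.inl h
  · exact Or.inr (bijective_of_faithfullyFlat_of_isEpi k S)

/-- For an epimorphism of rings R → S, the induced map Spec S → Spec R is injective and induces trivial
residue field extensions; stated in the form the proof gives: for every prime p of R the fibre ring
S ⊗_R κ(p) is either zero or κ(p) → S ⊗_R κ(p) is bijective, together with injectivity of Spec S →
Spec R. -/
theorem result (R S : Type u) [CommRing R] [CommRing S] [Algebra R S]
    [Algebra.IsEpi R S] :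
    Function.Injective (PrimeSpectrum.comap (algebraMap R S)) ∧
      ∀ (p : Ideal R) [p.IsPrime],
        Subsingleton (p.Fiber S) ∨ Function.Bijective (algebraMap p.ResidueField (p.Fiber S)) := by
  have h2 : ∀ (p : Ideal R) [p.IsPrime],
        Subsingleton (p.Fiber S) ∨ Function.Bijective (algebraMap p.ResidueField (p.Fiber S)) := by
    intro p _
    haveI : Algebra.IsEpi p.ResidueField (p.Fiber S) := isEpi_baseChange R S p.ResidueField
    exact epi_over_field p.ResidueField (p.Fiber S)
  refine ⟨?_, h2⟩
  intro q₁ q₂ h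
  set p := PrimeSpectrum.comap (algebraMap R S) q₁ with hp
  have hq₁ : q₁ ∈ PrimeSpectrum.comap (algebraMap R S) ⁻¹' {p} := rfl
  have hq₂ : q₂ ∈ PrimeSpectrum.comap (algebraMap R S) ⁻¹' {p} := h.symm
  have hsub : Subsingleton (PrimeSpectrum (p.asIdeal.Fiber S)) := by
    rcases h2 p.asIdeal with h' | h'
    · infer_instance
    · let e : p.asIdeal.ResidueField ≃+* p.asIdeal.Fiber S := RingEquiv.ofBijective _ h'
      exact (PrimeSpectrum.comapEquiv e).symm.subsingleton
  have := (PrimeSpectrum.preimageEquivFiber R S p).injective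
    (Subsingleton.elim (PrimeSpectrum.preimageEquivFiber R S p ⟨q₁, hq₁⟩)
      (PrimeSpectrum.preimageEquivFiber R S p ⟨q₂, hq₂⟩))
  exact congrArg Subtype.val this

end Groth.Agent.S6374
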