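import Groth.Statements.S6375
import Mathlib

set_option autoImplicit false
universe u
open CAlg

namespace Groth.Agent.S6375

open TensorProduct Cardinal

section Helpers

variable {R S : Type u} [CommRing R] [CommRing S] [Algebra R S]

/-- the coefficient matrices of a trivial vanishing of `g ⊗ 1 - 1 ⊗ g` -/
def Data (R : Type u) : Type u := Σ n : ℕ × ℕ, ((Fin 2 ⊕ Fin n.1) → Fin n.2 → R)

/-- `d` is associated to `g` -/
def Assoc (d : Data R) (g : S) : Prop :=
  ∃ (e : Fin d.1.1 → S) (y : Fin d.1.2 → S),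
    (1 : S) = ∑ j, d.2 (Sum.inl 0) j • y j ∧
    -g = ∑ j, d.2 (Sum.inl 1) j • y j ∧
    (∀ i, (0 : S) = ∑ j, d.2 (Sum.inr i) j • y j) ∧
    ∀ j, d.2 (Sum.inl 0) j • g + d.2 (Sum.inl 1) j • (1 : S) + ∑ i, d.2 (Sum.inr i) j • e i = 0

lemma assoc_unique (d : Data R) (g g' : S) (h : Assoc d g) (h' : Assoc d g') : g = g' := by
  obtain ⟨e, y, h1, h2, h3, h4⟩ := h
  obtain ⟨e', y', h1', h2', h3', h4'⟩ := h'
  have hg : g = ∑ j, (-(d.2 (Sum.inl 1) j)) • y j := by
    rw [← neg_neg g, h2, ← Finset.sum_neg_distrib]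
    simp only [neg_smul]
  have key : ∀ j, (-(d.2 (Sum.inl 1) j)) • (1 : S) =
      d.2 (Sum.inl 0) j • g' + ∑ i, d.2 (Sum.inr i) j • e' i := by
    intro j
    have := h4' j
    rw [neg_smul]
    linear_combination (-1 : S) * this
  calc g = ∑ j, (-(d.2 (Sum.inl 1) j)) • y j := hg
    _ = ∑ j, ((-(d.2 (Sum.inl 1) j)) • (1 : S)) * y j := by simp
    _ = ∑ j, (d.2 (Sum.inl 0) j • g' + ∑ i, d.2 (Sum.inr i) j • e' i) * y j := by simp_rw [key]
    _ = g' * ∑ j, d.2 (Sum.inl 0) j • y j + ∑ i, e' i * ∑ j, d.2 (Sum.inr i) j • y j := by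
        simp only [add_mul, Finset.sum_add_distrib, Finset.mul_sum, Finset.sum_mul]
        congr 1
        · refine Finset.sum_congr rfl fun j _ => ?_
          rw [smul_mul_assoc, mul_smul_comm]
        · rw [Finset.sum_comm]
          refine Finset.sum_congr rfl fun i _ => Finset.sum_congr rfl fun j _ => ?_
          rw [smul_mul_assoc, mul_smul_comm]
    _ = g' := by
        rw [← h1]
        simp [← h3]

lemma exists_assoc [Algebra.IsEpi R S] (g : S) : ∃ d : Data R, Assoc d g := by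
  classical
  have hepi : (1 : S) ⊗ₜ[R] g = g ⊗ₜ[R] 1 :=
    (Algebra.isEpi_iff_forall_one_tmul_eq R S).mp inferInstance g
  let P : Submodule R S := Submodule.span R {g, 1}
  have hP : P.FG := Submodule.fg_span (by simp)
  have hgP : g ∈ P := Submodule.subset_span (by simp)
  have h1P : (1 : S) ∈ P := Submodule.subset_span (by simp)
  let t : P ⊗[R] S := (⟨g, hgP⟩ : P) ⊗ₜ[R] (1 : S) - (⟨1, h1P⟩ : P) ⊗ₜ[R] g
  have ht : LinearMap.rTensor S P.subtype t = 0 := by
    simp [t, hepi]
  obtain ⟨Q, hPQ, hQ, hQt⟩ := TensorProduct.eq_zero_of_fg_of_subtype_eq_zero hP ht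
  obtain ⟨n, s, hs⟩ := Submodule.fg_iff_exists_fin_generating_family.mp hQ
  have hsQ : ∀ i, s i ∈ Q := fun i => hs ▸ Submodule.subset_span ⟨i, rfl⟩
  let m : Fin 2 ⊕ Fin n → Q := Sum.elim ![⟨g, hPQ hgP⟩, ⟨1, hPQ h1P⟩] (fun i => ⟨s i, hsQ i⟩)
  let nn : Fin 2 ⊕ Fin n → S := Sum.elim ![1, -g] (fun _ => 0)
  have hm : Submodule.span R (Set.range m) = ⊤ := by
    apply Submodule.map_injective_of_injective Q.injective_subtype
    rw [Submodule.map_span, Submodule.map_top, Submodule.range_subtype, ← Set.range_comp]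
    apply le_antisymm
    · rw [Submodule.span_le]
      rintro _ ⟨i, rfl⟩
      exact (m i).2
    · intro x hx
      rw [← hs] at hx
      refine Submodule.span_mono ?_ hx
      rintro _ ⟨i, rfl⟩
      exact ⟨Sum.inr i, rfl⟩
  have hsum : ∑ i, m i ⊗ₜ[R] nn i = 0 := by
    have h2 : LinearMap.rTensor S (Submodule.inclusion hPQ) t =
        m (Sum.inl 0) ⊗ₜ[R] (1 : S) - m (Sum.inl 1) ⊗ₜ[R] g := by
      simp only [t, map_sub, LinearMap.rTensor_tmul]
      rfl
    rw [Fintype.sum_sum_type, Fin.sum_univ_two]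
    simp only [nn, Sum.elim_inl, Sum.elim_inr, tmul_zero, Finset.sum_const_zero,
      add_zero, Matrix.cons_val_zero, Matrix.cons_val_one, tmul_neg]
    rw [← hQt, h2, sub_eq_add_neg]
  obtain ⟨k, a, y, hay, ham⟩ := TensorProduct.vanishesTrivially_of_sum_tmul_eq_zero R hm hsum
  refine ⟨⟨(n, k), a⟩, fun i => s i, y, ?_, ?_, ?_, ?_⟩
  · exact hay (Sum.inl 0)
  · exact hay (Sum.inl 1)
  · intro i
    exact hay (Sum.inr i)
  · intro j
    have := congrArg Subtype.val (ham j)
    simpa [Fintype.sum_sum_type, Fin.sum_univ_two, m] using this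

lemma card_Data [Infinite R] : #(Data R) ≤ #R := by
  have hR : ℵ₀ ≤ #R := Cardinal.aleph0_le_mk R
  unfold Data
  rw [Cardinal.mk_sigma]
  calc Cardinal.sum (fun n : ℕ × ℕ => #((Fin 2 ⊕ Fin n.1) → Fin n.2 → R))
      ≤ Cardinal.sum (fun _ : ℕ × ℕ => #R) := by
        refine Cardinal.sum_le_sum _ _ fun n => ?_
        have e : ((Fin 2 ⊕ Fin n.1) → Fin n.2 → R) ≃ (((Fin 2 ⊕ Fin n.1) × Fin n.2) → R) :=
          (Equiv.curry _ _ _).symm
        rw [Cardinal.mk_congr e, Cardinal.mk_arrow]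
        simp only [Cardinal.mk_fintype, Cardinal.lift_natCast, Cardinal.lift_uzero]
        rw [Cardinal.power_natCast]
        exact Cardinal.power_nat_le hR
    _ = #R := by
        rw [Cardinal.sum_const]
        simp only [Cardinal.mk_eq_aleph0, Cardinal.lift_aleph0, Cardinal.lift_uzero]
        exact Cardinal.aleph0_mul_eq hR

end Helpers

/-- For an infinite source ring: if R → S is an epimorphism of rings with R infinite, then |S| ≤ |R| as
cardinals. (For finite R the published statement also asserts |S| ≤ |R|, but its proof only gives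
that S is countable and omits the rest, so that case is not included.) -/
theorem result (R S : Type u) [CommRing R] [CommRing S] [Algebra R S] [Algebra.IsEpi R S]
    [Infinite R] : Cardinal.mk S ≤ Cardinal.mk R := by
  choose d hd using exists_assoc (R := R) (S := S)
  have hinj : Function.Injective d := fun g g' h =>
    assoc_unique (d g) g g' (hd g) (h ▸ hd g')
  exact (Cardinal.mk_le_of_injective hinj).trans card_Data

end Groth.Agent.S6375
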