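import Mathlib
import Groth.Statements.S6378
import Groth.Agent.Lib.Helper73.TorFirstVar
import Groth.Agent.S11450

set_option autoImplicit false
universe u
open CategoryTheory
open CAlg

namespace Groth.Agent.S6378

open Groth.Agent.Lib.Helper73 MonoidalCategory Limits

/-- Let (R, m, κ) be a local ring and M an R-module with Tor_1^R(κ, M) = 0. Then Tor_1^R(N, M) = 0 for
every finite length R-module N. -/
theorem result (R : Type u) [CommRing R] [IsLocalRing R]
    (M : Type u) [AddCommGroup M] [Module R M]
    (h : Limits.IsZero (((CategoryTheory.Tor (ModuleCat.{u} R) 1).obj (ModuleCat.of R (IsLocalRing.ResidueField R))).obj (ModuleCat.of R M)))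
    (N : Type u) [AddCommGroup N] [Module R N] (hN : IsFiniteLength R N) :
    Limits.IsZero (((CategoryTheory.Tor (ModuleCat.{u} R) 1).obj (ModuleCat.of R N)).obj (ModuleCat.of R M)) := by
  induction hN with
  | of_subsingleton =>
    rename_i N _ _ _
    have : Module.Flat R (ModuleCat.of R N) := by
      change Module.Flat R N
      infer_instance
    exact Groth.Agent.S11450.isZero_tor_of_flat (ModuleCat.of R N) _ 0
  | of_simple_quotient hN' ih =>
    rename_i N _ _ N' hs
    have hS := Groth.Agent.S11450.shortExact_of_linear N'.subtype N'.mkQ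
      (Submodule.injective_subtype _) (Submodule.mkQ_surjective _) (LinearMap.exact_subtype_mkQ N')
    obtain ⟨⟨w₀, hex⟩, -⟩ := tor_les_first hS (ModuleCat.of R M) 1
    refine hex.isZero_of_both_isZero ih ?_
    obtain ⟨I, hI, ⟨e⟩⟩ := isSimpleModule_iff_quot_maximal.mp hs
    have hIm : I = IsLocalRing.maximalIdeal R := IsLocalRing.eq_maximalIdeal hI
    subst hIm
    have e' : ModuleCat.of R (N ⧸ N') ≅ ModuleCat.of R (IsLocalRing.ResidueField R) :=
      e.toModuleIso
    exact IsZero.of_iso h ((((CategoryTheory.Tor (ModuleCat.{u} R) 1).mapIso e').app (ModuleCat.of R M)))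

end Groth.Agent.S6378
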