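import Groth.Statements.S6385
-- import your own Groth.Agent.* helpers here
import Groth.Agent.Lib.Helper55.LocalDimAffine
import Mathlib.RingTheory.Localization.Away.AdjoinRoot

set_option autoImplicit false
universe u
open CAlg

namespace Groth.Agent.S6385

open Groth.Agent.Lib.Helper55

/-- Let k be a field, S a finite type k-algebra, q a prime of S and x the corresponding point of X =
Spec S. Then there is g ∈ S, g ∉ q, such that dim S_g equals dim_x X — the minimum of dim S_{g'}
over all g' ∉ q — and, writing d for this dimension, a finite injective k-algebra map from the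
polynomial ring k[y_1, ..., y_d] to S_g. -/
theorem result (k S : Type u) [Field k] [CommRing S] [Algebra k S]
    [Algebra.FiniteType k S] (q : Ideal S) [q.IsPrime] :
    ∃ (g : S) (d : ℕ), g ∉ q ∧ ringKrullDim (Localization.Away g) = d ∧
      (∀ g' : S, g' ∉ q → ringKrullDim (Localization.Away g) ≤ ringKrullDim (Localization.Away g')) ∧
      ∃ φ : MvPolynomial (Fin d) k →ₐ[k] Localization.Away g, Function.Injective φ ∧ φ.toRingHom.Finite := by
  obtain ⟨g, hgq, hg⟩ := exists_notMem_forall_minimalPrimes k S q
  have hnt : Nontrivial (Localization.Away g) := by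
    have h1 : (⟨q, inferInstance⟩ : PrimeSpectrum S) ∈
        Set.range (PrimeSpectrum.comap (algebraMap S (Localization.Away g))) := by
      rw [PrimeSpectrum.localization_away_comap_range (Localization.Away g) g]
      exact hgq
    obtain ⟨y, -⟩ := h1
    exact y.nontrivial
  obtain ⟨d, φ, hinj, hfin⟩ := exists_finite_inj_algHom_of_fg k (Localization.Away g)
  have hd : ringKrullDim (Localization.Away g) = d := by
    rw [ringKrullDim_eq_of_ringHom_isIntegral_of_injective φ.toRingHom hfin.to_isIntegral hinj,
      MvPolynomial.ringKrullDim_of_isNoetherianRing, ringKrullDim_eq_zero_of_field, zero_add,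
      Nat.card_eq_fintype_card, Fintype.card_fin]
  refine ⟨g, d, hgq, hd, ?_, φ, hinj, hfin⟩
  intro g' hg'
  rw [ringKrullDim_localizationAway_eq g, ringKrullDim_localizationAway_eq g']
  exact (topologicalKrullDim_basicOpen_le k S q g hg).trans
    (ringKrullDim_quotient_add_height_le_topologicalKrullDim k S ⟨q, inferInstance⟩
      (PrimeSpectrum.basicOpen g') hg')

end Groth.Agent.S6385
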