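import Groth.Statements.S6386
import Groth.Agent.Lib.Helper31.FlatSubalg

set_option autoImplicit false
universe u
open CAlg

namespace Groth.Agent.S6386

/-- The key step of its proof: let A be a ring, κ = max(|A|, ℵ₀), and B a flat A-algebra. Then every
A-subalgebra E ⊆ B with at most κ elements lies inside a flat A-subalgebra B' ⊆ B with at most κ
elements. Consequently B is the filtered colimit (union) of its flat A-subalgebras of cardinality at
most κ. -/
theorem result (A B : Type u) [CommRing A] [CommRing B] [Algebra A B]
    [Module.Flat A B] (E : Subalgebra A B) (hE : Cardinal.mk E ≤ max (Cardinal.mk A) Cardinal.aleph0) :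
    ∃ B' : Subalgebra A B, E ≤ B' ∧ Module.Flat A B' ∧ Cardinal.mk B' ≤ max (Cardinal.mk A) Cardinal.aleph0 := by
  exact ⟨Groth.Agent.Lib.Helper31.FlatSubalg.hull E,
    Groth.Agent.Lib.Helper31.FlatSubalg.le_hull E,
    Groth.Agent.Lib.Helper31.FlatSubalg.flat_hull E,
    Groth.Agent.Lib.Helper31.FlatSubalg.mk_hull_le E hE⟩

end Groth.Agent.S6386
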