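import Groth.Statements.S6387
import Groth.Agent.Lib.Helper31.ComplexFlat
import Mathlib.Algebra.Homology.ShortComplex.ModuleCat

set_option autoImplicit false
universe u
open CategoryTheory
open CAlg

namespace Groth.Agent.S6387

/-- Let R and S be Noetherian local rings, R → S a local ring map, and m the maximal ideal of R. Take a
bounded complex F_e → … → F_1 → F_0 of finitely generated S-modules, zero to the left of F_e (a
chain complex C with C_j = 0 for j > e) such that every F_j is flat over R and the complex 0 →
F_e/mF_e → … → F_0/mF_0 (C tensored over S with S/mS) is exact at F_e, …, F_1. Then 0 → F_e → … →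
F_0 is exact at F_e, …, F_1 and the cokernel of F_1 → F_0 (the homology of C in degree 0) is flat
over R. -/
theorem result {R S : Type u} [CommRing R] [CommRing S]
    [IsLocalRing R] [IsLocalRing S] [IsNoetherianRing R] [IsNoetherianRing S] [Algebra R S]
    [IsLocalHom (algebraMap R S)] (C : ChainComplex (ModuleCat.{u} S) ℕ) (e : ℕ)
    (hzero : ∀ j, e < j → Limits.IsZero (C.X j)) (hfin : ∀ j, Module.Finite S (C.X j))
    (hflat : ∀ j, Module.Flat R ((ModuleCat.restrictScalars (algebraMap R S)).obj (C.X j)))
    (hex : ∀ j, 1 ≤ j → j ≤ e →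
      (((MonoidalCategory.tensorLeft
          (ModuleCat.of S (S ⧸ (IsLocalRing.maximalIdeal R).map (algebraMap R S)))).mapHomologicalComplex
          (ComplexShape.down ℕ)).obj C).ExactAt j) :
    (∀ j, 1 ≤ j → j ≤ e → C.ExactAt j) ∧
      Module.Flat R ((ModuleCat.restrictScalars (algebraMap R S)).obj (C.homology 0)) := by
  classical
  let instR : ∀ j, Module R (C.X j) := fun j => Module.compHom (C.X j) (algebraMap R S)
  have instT : ∀ j, IsScalarTower R S (C.X j) :=
    fun j => IsScalarTower.of_algebraMap_smul (fun _ _ => rfl)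
  have : ∀ j, Module.Finite S (C.X j) := hfin
  have : ∀ j, Module.Flat R (C.X j) := hflat
  have main : ∀ i, i + 1 ≤ e →
      Function.Exact (C.d (i + 2) (i + 1)).hom (C.d (i + 1) i).hom ∧
        Module.Flat R (C.X i ⧸ LinearMap.range (C.d (i + 1) i).hom) := by
    intro i hi
    refine Groth.Agent.Lib.Helper31.ComplexFlat.exact_and_flat_of_lTensor_exact
      (C.d (i + 2) (i + 1)).hom (C.d (i + 1) i).hom ?_ ?_
    · ext x
      have := C.d_comp_d (i + 2) (i + 1) i
      exact congrArg (fun f => f.hom x) this
    · have h1 := hex (i + 1) (by omega) hi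
      rw [HomologicalComplex.exactAt_iff' _ (i + 2) (i + 1) i (by simp) (by simp),
        ShortComplex.ShortExact.moduleCat_exact_iff_function_exact] at h1
      exact h1
  constructor
  · intro j hj1 hje
    obtain ⟨i, rfl⟩ : ∃ i, j = i + 1 := ⟨j - 1, by omega⟩
    rw [HomologicalComplex.exactAt_iff' _ (i + 2) (i + 1) i (by simp) (by simp),
      ShortComplex.ShortExact.moduleCat_exact_iff_function_exact]
    exact (main i hje).1
  · have hq : Module.Flat R (C.X 0 ⧸ LinearMap.range (C.d 1 0).hom) := by
      by_cases he : e = 0
      · have hz : Limits.IsZero (C.X 1) := hzero 1 (by omega)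
        have : Subsingleton (C.X 1) := ModuleCat.subsingleton_of_isZero hz
        have hr : LinearMap.range (C.d 1 0).hom = ⊥ := by
          rw [LinearMap.range_eq_bot]
          ext x
          rw [Subsingleton.elim x 0, map_zero, map_zero]
        have e0 : (C.X 0 ⧸ LinearMap.range (C.d 1 0).hom) ≃ₗ[S] C.X 0 :=
          Submodule.quotEquivOfEqBot _ hr
        exact Module.Flat.of_linearEquiv (e0.restrictScalars R)
      · exact (main 0 (by omega)).2
    let e1 : C.homology 0 ≅ ModuleCat.of S (C.X 0 ⧸ LinearMap.range (C.d 1 0).hom) :=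
      C.isoHomologyι₀ ≪≫ Limits.IsColimit.coconePointUniqueUpToIso
        (C.opcyclesIsCokernel 1 0 (by simp)) (ModuleCat.cokernelIsColimit (C.d 1 0))
    let eS : C.homology 0 ≃ₗ[S] (C.X 0 ⧸ LinearMap.range (C.d 1 0).hom) := e1.toLinearEquiv
    let eR : ((ModuleCat.restrictScalars (algebraMap R S)).obj (C.homology 0)) ≃ₗ[R]
        (C.X 0 ⧸ LinearMap.range (C.d 1 0).hom) :=
      { toFun := fun h => eS h
        invFun := fun q => eS.symm q
        map_add' := fun a b => eS.map_add a b
        map_smul' := fun r a => by
          have h := LinearEquiv.map_smul eS (algebraMap R S r) (show ↑(C.homology 0) from a)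
          exact h.trans (algebraMap_smul S r _)
        left_inv := fun a => eS.symm_apply_apply a
        right_inv := fun a => eS.apply_symm_apply a }
    exact Module.Flat.of_linearEquiv eR

end Groth.Agent.S6387
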