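import Groth.Statements.S6391
import Groth.Agent.Lib.Helper36.HensIndEtale

set_option autoImplicit false
universe u
open CAlg

namespace Groth.Agent.S6391

/-- Let R be a ring, S and S' henselian local rings which are filtered colimits of étale R-algebras, and
K a field together with R-algebra maps S → K and S' → K identifying K with the residue field of each
(surjective with kernel the maximal ideal). Then exactly one isomorphism of R-algebras S → S'
commutes with the two maps to K. -/
theorem result (R S S' K : Type u) [CommRing R]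
    [CommRing S] [CommRing S'] [Field K] [HenselianLocalRing S] [HenselianLocalRing S']
    [Algebra R S] [Algebra R S'] [Algebra R K] (hS : EtPBC.IsIndEtale R S) (hS' : EtPBC.IsIndEtale R S')
    (u : S →ₐ[R] K) (u' : S' →ₐ[R] K) (hu : Function.Surjective u) (hu' : Function.Surjective u')
    (hku : RingHom.ker u.toRingHom = IsLocalRing.maximalIdeal S)
    (hku' : RingHom.ker u'.toRingHom = IsLocalRing.maximalIdeal S') :
    ∃! e : S ≃ₐ[R] S', u'.comp (e : S →ₐ[R] S') = u := by
  obtain ⟨φ, hφ, hφu⟩ :=
    Groth.Agent.Lib.Helper36.HensIndEt.existsUnique_algHom_of_isIndEtale u' hu' hku' S hS u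
  obtain ⟨ψ, hψ, -⟩ :=
    Groth.Agent.Lib.Helper36.HensIndEt.existsUnique_algHom_of_isIndEtale u hu hku S' hS' u'
  obtain ⟨i1, -, hi1u⟩ :=
    Groth.Agent.Lib.Helper36.HensIndEt.existsUnique_algHom_of_isIndEtale u hu hku S hS u
  obtain ⟨i2, -, hi2u⟩ :=
    Groth.Agent.Lib.Helper36.HensIndEt.existsUnique_algHom_of_isIndEtale u' hu' hku' S' hS' u'
  have h1 : ψ.comp φ = AlgHom.id R S :=
    (hi1u (ψ.comp φ) (by change u.comp (ψ.comp φ) = u; rw [← AlgHom.comp_assoc, hψ, hφ])).trans
      (hi1u (AlgHom.id R S) (by ext; rfl)).symm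
  have h2 : φ.comp ψ = AlgHom.id R S' :=
    (hi2u (φ.comp ψ) (by change u'.comp (φ.comp ψ) = u'; rw [← AlgHom.comp_assoc, hφ, hψ])).trans
      (hi2u (AlgHom.id R S') (by ext; rfl)).symm
  refine ⟨AlgEquiv.ofAlgHom φ ψ h2 h1, ?_, ?_⟩
  · ext x
    exact congrArg (fun m => m x) hφ
  · intro e he
    ext x
    have := hφu (e : S →ₐ[R] S') he
    exact congrArg (fun m => m x) this

end Groth.Agent.S6391
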