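import Groth.Statements.S6393

set_option autoImplicit false
open CategoryTheory
universe v₂ u₂ v u
open FibCat

namespace Groth.Agent.S6393

open Functor in
/-- Given `p : S ⥤ C`, saying that p is fibred in groupoids is equivalent to saying that p is a fibred
functor whose fibre category over every object of C is a groupoid. -/
theorem result {C : Type u} [Category.{v} C] {S : Type u₂} [Category.{v₂} S] (p : S ⥤ C) :
    FibCat.IsFibGrpd p ↔ (p.IsFibered ∧ ∀ U : C, IsGroupoid (p.Fiber U)) := by
  constructor
  · intro h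
    refine ⟨?_, ?_⟩
    · apply Functor.IsFibered.of_exists_isStronglyCartesian
      intro a R f
      obtain ⟨y, φ, hφ⟩ := h.exists_lift f
      refine ⟨y, φ, ?_⟩
      have h1 := h.isStronglyCartesian φ
      obtain rfl := IsHomLift.domain_eq p f φ
      have : f = p.map φ := IsHomLift.eq_of_isHomLift p f φ
      rw [this]
      exact h1
    · intro U
      constructor
      intro X Y φ
      have h1 := h.isStronglyCartesian φ.1
      have h2 : p.IsHomLift (𝟙 U) φ.1 := φ.2
      have hiso : IsIso (p.map φ.1) := by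
        rw [IsHomLift.fac' p (𝟙 U) φ.1]; infer_instance
      have h3 : IsIso φ.1 := Functor.IsStronglyCartesian.isIso_of_base_isIso p (p.map φ.1) φ.1
      refine ⟨⟨⟨inv φ.1, inferInstance⟩, ?_, ?_⟩⟩
      · apply Fiber.hom_ext
        exact IsIso.hom_inv_id φ.1
      · apply Fiber.hom_ext
        exact IsIso.inv_hom_id φ.1
  · rintro ⟨hfib, hgrpd⟩
    refine ⟨?_, ?_⟩
    · intro x V f
      obtain ⟨y, φ, hφ⟩ := IsPreFibered.exists_isCartesian' (p := p) f
      exact ⟨y, φ, inferInstance⟩
    · intro y x φ
      obtain ⟨y', ψ, hψ⟩ := IsPreFibered.exists_isCartesian' (p := p) (p.map φ)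
      have hψ' : p.IsStronglyCartesian (p.map φ) ψ := inferInstance
      -- factor φ through ψ
      let χ : y ⟶ y' := IsStronglyCartesian.map p (p.map φ) ψ (g := 𝟙 _) (Category.id_comp _).symm φ
      have hχ1 : p.IsHomLift (𝟙 (p.obj y)) χ := inferInstance
      have hχ2 : χ ≫ ψ = φ := IsStronglyCartesian.fac _ _ _ _ _
      -- χ is an isomorphism since the fibre is a groupoid
      have hy' : p.obj y' = p.obj y := IsHomLift.domain_eq p (p.map φ) ψ
      let χ' : (Fiber.mk (p := p) (S := p.obj y) (a := y) rfl) ⟶ (Fiber.mk (p := p) hy') := ⟨χ, hχ1⟩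
      have hiso' : IsIso χ' := (hgrpd (p.obj y)).all_isIso χ'
      have hiso : IsIso χ := by
        have := Functor.map_isIso (Fiber.fiberInclusion (p := p) (S := p.obj y)) χ'
        exact this
      have h4 : p.IsStronglyCartesian (𝟙 (p.obj y)) χ := inferInstance
      have h5 : p.IsStronglyCartesian (𝟙 (p.obj y) ≫ p.map φ) (χ ≫ ψ) := inferInstance
      rw [Category.id_comp, hχ2] at h5
      exact h5

end Groth.Agent.S6393
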