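import Groth.Statements.S6398
import Groth.Agent.Lib.Helper31.FibCatFiber

set_option autoImplicit false
open CategoryTheory
universe v u
open FibCat

namespace Groth.Agent.S6398

/-- A functor `G` over `C` between categories fibred in groupoids is an equivalence of categories if and
only if each induced functor of fibre categories `𝒳_U ⥤ 𝒴_U` is an equivalence of categories. -/
theorem result {C : Type u} [Category.{v} C] {𝒳 𝒴 : BasedCategory.{v, max u v} C} (G : 𝒳 ⥤ᵇ 𝒴) (h𝒳 : FibCat.IsFibGrpd 𝒳.p) (h𝒴 : FibCat.IsFibGrpd 𝒴.p) :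
    G.toFunctor.IsEquivalence ↔ ∀ U : C, (FibCat.fiberFunctor G U).IsEquivalence := by
  constructor
  · intro h U
    have := Groth.Agent.Lib.Helper31.fiberFunctor_full_of_full G U
    have := Groth.Agent.Lib.Helper31.fiberFunctor_faithful_of_faithful G U
    have := Groth.Agent.Lib.Helper31.fiberFunctor_essSurj_of_essSurj G h𝒳 U
    exact { }
  · intro h
    have := Groth.Agent.Lib.Helper31.full_of_fiberFunctor_full G h𝒳 h𝒴 fun U => inferInstance
    have := Groth.Agent.Lib.Helper31.faithful_of_fiberFunctor_faithful G h𝒳 h𝒴 fun U => inferInstance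
    have := Groth.Agent.Lib.Helper31.essSurj_of_fiberFunctor_essSurj G fun U => inferInstance
    exact { }

end Groth.Agent.S6398
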