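import Groth.Statements.S6400
import Groth.Agent.Lib.Helper31.FibCat

set_option autoImplicit false
open CategoryTheory
universe v u
open FibCat

namespace Groth.Agent.S6400

open Functor Groth.Agent.Lib.Helper31 in
/-- For fibred categories `𝒳, 𝒴, 𝒮` over `C` and functors `F : 𝒳 ⟶ 𝒮`, `G : 𝒴 ⟶ 𝒮` over `C` preserving
strongly cartesian morphisms, the 2-fibre product `𝒳 ×_𝒮 𝒴` over `C` is fibred over `C`. (The
published statement also says that this category, with its two projections, is a 2-fibre product in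
the 2-category of fibred categories over `C`; this row states only that it is fibred.) -/
theorem result {C : Type u} [Category.{v} C] {𝒳 𝒴 𝒮 : BasedCategory.{v, max u v} C} (F : 𝒳 ⥤ᵇ 𝒮) (G : 𝒴 ⥤ᵇ 𝒮) [𝒳.p.IsFibered] [𝒴.p.IsFibered] [𝒮.p.IsFibered]
    (hF : ∀ {R S : C} (f : R ⟶ S) {a b : 𝒳.obj} (φ : a ⟶ b), 𝒳.p.IsStronglyCartesian f φ → 𝒮.p.IsStronglyCartesian f (F.map φ))
    (hG : ∀ {R S : C} (f : R ⟶ S) {a b : 𝒴.obj} (φ : a ⟶ b), 𝒴.p.IsStronglyCartesian f φ → 𝒮.p.IsStronglyCartesian f (G.map φ)) :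
    (FibCat.fp F G).p.IsFibered := by
  apply Functor.IsFibered.of_exists_isStronglyCartesian
  intro Y R f₀
  obtain ⟨f, hf⟩ : ∃ f : R ⟶ 𝒳.p.obj Y.obj.fst, f = f₀ := ⟨f₀, rfl⟩
  obtain ⟨x₀, a, ha⟩ := IsPreFibered.exists_isCartesian' (p := 𝒳.p) (a := Y.obj.fst) f
  have ha' : 𝒳.p.IsStronglyCartesian f a := inferInstance
  have hY : 𝒴.p.obj Y.obj.snd = 𝒳.p.obj Y.obj.fst := (FibCat.fpSnd F G).w_obj Y
  obtain ⟨y₀, b, hb⟩ := IsPreFibered.exists_isCartesian 𝒴.p hY f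
  have hb' : 𝒴.p.IsStronglyCartesian f b := inferInstance
  have hV : 𝒳.p.obj x₀ = R := IsHomLift.domain_eq 𝒳.p f a
  subst hV
  have hFa : 𝒮.p.IsStronglyCartesian f (F.map a) := hF f a ha'
  have hGb : 𝒮.p.IsStronglyCartesian f (G.map b) := hG f b hb'
  have hι := fp_iso_isHomLift F G Y
  obtain ⟨ι₀, hι₀, w⟩ := fp_exists_iso F G Y.obj.iso f a b
  let X : (FibCat.fp F G).obj := ⟨⟨x₀, y₀, ι₀⟩, hι₀⟩
  let Φ : X ⟶ Y := ObjectProperty.homMk ⟨a, b, w⟩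
  refine ⟨X, Φ, ?_⟩
  rw [← hf]
  exact fp_isStronglyCartesian F G f Φ (h1 := ha') (h2 := hb') (h3 := hGb)

end Groth.Agent.S6400
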