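import Groth.Statements.S6403
import Groth.Agent.Lib.Helper31.FibCat

set_option autoImplicit false
open CategoryTheory
universe v u
open FibCat

namespace Groth.Agent.S6403

open Functor Groth.Agent.Lib.Helper31 in
/-- For a functor `F : 𝒳 ⟶ 𝒴` of fibred categories over `C` preserving strongly cartesian morphisms, the
relative inertia `I_{𝒳/𝒴}` is a fibred category over `C`. -/
theorem result {C : Type u} [Category.{v} C] {𝒳 𝒴 : BasedCategory.{v, max u v} C} [𝒳.p.IsFibered] [𝒴.p.IsFibered] (F : 𝒳 ⥤ᵇ 𝒴) (hF : FibCat.PreservesStronglyCartesian F) :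
    (FibCat.inertia F).p.IsFibered := by
  apply Functor.IsFibered.of_exists_isStronglyCartesian
  intro B R f₀
  obtain ⟨f, hf⟩ : ∃ f : R ⟶ 𝒳.p.obj B.pt, f = f₀ := ⟨f₀, rfl⟩
  obtain ⟨y, φ, hφ⟩ := IsPreFibered.exists_isCartesian' (p := 𝒳.p) (a := B.pt) f
  have hφ' : 𝒳.p.IsStronglyCartesian f φ := inferInstance
  have hFφ : 𝒴.p.IsStronglyCartesian f (F.map φ) := hF f φ hφ'
  obtain ⟨A, Φ, hA, hΦ⟩ := inertia_exists_lift F B f φ (by
    intro β hβ hcomp
    have h1 : 𝒴.p.IsHomLift (𝟙 R) (F.map β) := inferInstance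
    have h2 : 𝒴.p.IsHomLift (𝟙 R) (𝟙 (F.obj y)) :=
      IsHomLift.id ((F.w_obj y).trans (IsHomLift.domain_eq 𝒳.p f φ))
    apply IsStronglyCartesian.ext 𝒴.p f (F.map φ) (𝟙 R)
    rw [hcomp, Category.id_comp])
  refine ⟨A, Φ, ?_⟩
  rw [← hf]
  exact inertia_isStronglyCartesian F f Φ

end Groth.Agent.S6403
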