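import Groth.Statements.S6408
-- import your own Groth.Agent.* helpers here

set_option autoImplicit false
open CategoryTheory
universe v u
open FibCat

namespace Groth.Agent.S6408

open Functor in
/-- In a category over `C` with discrete fibres, a morphism over an identity is an `eqToHom`. -/
theorem eq_eqToHom_of_isDiscrete_fiber {C : Type u} [Category.{v} C] {𝒴 : BasedCategory.{v, max u v} C}
    (h𝒴 : ∀ U : C, IsDiscrete (𝒴.p.Fiber U)) {U : C} {a b : 𝒴.obj} (φ : a ⟶ b)
    [hφ : 𝒴.p.IsHomLift (𝟙 U) φ] : ∃ h : a = b, φ = eqToHom h := by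
  have ha : 𝒴.p.obj a = U := IsHomLift.domain_eq 𝒴.p (𝟙 U) φ
  have hb : 𝒴.p.obj b = U := IsHomLift.codomain_eq 𝒴.p (𝟙 U) φ
  let φ' : (Fiber.mk ha : 𝒴.p.Fiber U) ⟶ Fiber.mk hb := ⟨φ, hφ⟩
  have := h𝒴 U
  have e : (Fiber.mk ha : 𝒴.p.Fiber U) = Fiber.mk hb := IsDiscrete.eq_of_hom φ'
  have e' : φ' = eqToHom e := Subsingleton.elim _ _
  have hab : a = b := congrArg Subtype.val e
  refine ⟨hab, ?_⟩
  have := congrArg (Fiber.fiberInclusion (p := 𝒴.p) (S := U)).map e'
  rw [eqToHom_map] at this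
  exact this

/-- Between categories fibred in sets over `C` the only 2-morphisms over `C` are identities. -/
theorem result {C : Type u} [Category.{v} C] {𝒳 𝒴 : BasedCategory.{v, max u v} C} (h𝒳 : FibCat.IsFibSet 𝒳.p) (h𝒴 : FibCat.IsFibSet 𝒴.p) {F G : 𝒳 ⥤ᵇ 𝒴} (α : F ⟶ G) :
    ∃ h : F = G, α = eqToHom h := by
  have key : ∀ x : 𝒳.obj, ∃ h : F.obj x = G.obj x, α.toNatTrans.app x = eqToHom h := by
    intro x
    exact eq_eqToHom_of_isDiscrete_fiber h𝒴.2 (U := 𝒳.p.obj x) (α.toNatTrans.app x)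
  have hfun : F.toFunctor = G.toFunctor := by
    refine Functor.ext (fun x => (key x).choose) ?_
    intro x y f
    have nat := α.toNatTrans.naturality f
    rw [(key x).choose_spec, (key y).choose_spec] at nat
    rw [← Category.assoc, ← nat]
    simp
  have hFG : F = G := by
    obtain ⟨F', wF⟩ := F
    obtain ⟨G', wG⟩ := G
    dsimp only at hfun
    subst hfun
    rfl
  refine ⟨hFG, ?_⟩
  subst hFG
  apply BasedNatTrans.ext
  ext x
  rw [(key x).choose_spec]
  simp

end Groth.Agent.S6408
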