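import Groth.Statements.S6413
import Groth.Agent.Lib.Helper31.FibCat
import Groth.Agent.S6401

set_option autoImplicit false
open CategoryTheory
universe v u
open FibCat

namespace Groth.Agent.S6413

open Functor Groth.Agent.Lib.Helper31 in
/-- For `𝒳, 𝒴` fibred in groupoids over `C` and `F : 𝒳 ⟶ 𝒴` over `C`, the projection `𝒳 ×_{F, 𝒴, id} 𝒴 ⟶
𝒴` is a category fibred in groupoids over `𝒴`. -/
theorem result {C : Type u} [Category.{v} C] {𝒳 𝒴 : BasedCategory.{v, max u v} C} (h𝒳 : FibCat.IsFibGrpd 𝒳.p) (h𝒴 : FibCat.IsFibGrpd 𝒴.p) (F : 𝒳 ⥤ᵇ 𝒴) :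
    FibCat.IsFibGrpd (FibCat.fpSnd F (BasedFunctor.id 𝒴)).toFunctor := by
  have hfp : FibCat.IsFibGrpd (FibCat.fp F (BasedFunctor.id 𝒴)).p :=
    Groth.Agent.S6401.result F (BasedFunctor.id 𝒴) h𝒳 h𝒴 h𝒴
  have hcomp : FibCat.IsFibGrpd ((FibCat.fpSnd F (BasedFunctor.id 𝒴)).toFunctor ⋙ 𝒴.p) := by
    rw [(FibCat.fpSnd F (BasedFunctor.id 𝒴)).w]; exact hfp
  refine ⟨?_, ?_⟩
  · intro Y y' g₀
    obtain ⟨g, hg⟩ : ∃ g : y' ⟶ Y.obj.snd, g = g₀ := ⟨g₀, rfl⟩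
    have hy : 𝒴.p.obj Y.obj.snd = 𝒳.p.obj Y.obj.fst := (FibCat.fpSnd F (BasedFunctor.id 𝒴)).w_obj Y
    obtain ⟨V, f, hf⟩ := exists_base_isHomLift 𝒴.p g hy
    obtain ⟨x', a, ha⟩ := h𝒳.exists_lift (x := Y.obj.fst) f
    have hV : 𝒳.p.obj x' = V := IsHomLift.domain_eq 𝒳.p f a
    subst hV
    have hFa : 𝒴.p.IsStronglyCartesian f (F.map a) := isStronglyCartesian_of_isFibGrpd 𝒴.p h𝒴 _ _
    have hGb : 𝒴.p.IsStronglyCartesian f ((BasedFunctor.id 𝒴).map g) :=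
      isStronglyCartesian_of_isFibGrpd 𝒴.p h𝒴 f g
    have hι := fp_iso_isHomLift F (BasedFunctor.id 𝒴) Y
    obtain ⟨ι₀, hι₀, w⟩ := fp_exists_iso F (BasedFunctor.id 𝒴) Y.obj.iso f a g
    let X : (FibCat.fp F (BasedFunctor.id 𝒴)).obj := ⟨⟨x', y', ι₀⟩, hι₀⟩
    let Φ : X ⟶ Y := ObjectProperty.homMk ⟨a, g, w⟩
    refine ⟨X, Φ, ?_⟩
    rw [← hg]
    exact Functor.IsHomLift.map (p := (FibCat.fpSnd F (BasedFunctor.id 𝒴)).toFunctor) Φ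
  · intro X Y Φ
    exact isStronglyCartesian_of_isFibGrpd_comp _ 𝒴.p hcomp h𝒴 Φ

end Groth.Agent.S6413
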