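import Groth.Statements.S6414

set_option autoImplicit false
open CategoryTheory
universe v₁ u₁ v₂ u₂ v₃ u₃
open FibCat

namespace Groth.Agent.S6414

open Functor in
/-- A morphism that is strongly cartesian with respect to `F : 𝒜 ⥤ ℬ` and whose image is strongly
cartesian with respect to `G : ℬ ⥤ 𝒞` is strongly cartesian with respect to `F ⋙ G`. -/
theorem result {𝒜 : Type u₁} [Category.{v₁} 𝒜] {ℬ : Type u₂} [Category.{v₂} ℬ] {𝒞 : Type u₃} [Category.{v₃} 𝒞] (F : 𝒜 ⥤ ℬ) (G : ℬ ⥤ 𝒞) {x y : 𝒜} (φ : x ⟶ y)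
    [F.IsStronglyCartesian (F.map φ) φ] [G.IsStronglyCartesian (G.map (F.map φ)) (F.map φ)] :
    (F ⋙ G).IsStronglyCartesian ((F ⋙ G).map φ) φ := by
  refine { toIsHomLift := inferInstance, universal_property' := ?_ }
  intro a' g φ' hφ'
  have e1 : g ≫ G.map (F.map φ) = G.map (F.map φ') :=
    IsHomLift.eq_of_isHomLift (F ⋙ G) (g ≫ (F ⋙ G).map φ) φ'
  have h1 : G.IsHomLift (g ≫ G.map (F.map φ)) (F.map φ') := by
    rw [e1]; infer_instance
  let χ' : F.obj a' ⟶ F.obj x :=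
    IsStronglyCartesian.map G (G.map (F.map φ)) (F.map φ) (g := g) rfl (F.map φ')
  have hχ'1 : G.IsHomLift g χ' := inferInstance
  have hχ'2 : χ' ≫ F.map φ = F.map φ' := IsStronglyCartesian.fac _ _ _ _ _
  have h2 : F.IsHomLift (χ' ≫ F.map φ) φ' := by
    rw [hχ'2]; infer_instance
  let χ : a' ⟶ x := IsStronglyCartesian.map F (F.map φ) φ (g := χ') rfl φ'
  have hχ1 : F.IsHomLift χ' χ := inferInstance
  have hχ2 : χ ≫ φ = φ' := IsStronglyCartesian.fac _ _ _ _ _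
  have e2 : χ' = F.map χ := IsHomLift.eq_of_isHomLift F χ' χ
  have e3 : g = G.map χ' := IsHomLift.eq_of_isHomLift G g χ'
  refine ⟨χ, ⟨?_, hχ2⟩, ?_⟩
  · have : g = (F ⋙ G).map χ := by rw [e3, e2]; rfl
    rw [this]; infer_instance
  · rintro χ₂ ⟨hχ₂1, hχ₂2⟩
    have e4 : g = G.map (F.map χ₂) := IsHomLift.eq_of_isHomLift (F ⋙ G) g χ₂
    have h3 : G.IsHomLift g (F.map χ₂) := by rw [e4]; infer_instance
    have e5 : F.map χ₂ = χ' :=
      IsStronglyCartesian.map_uniq G (G.map (F.map φ)) (F.map φ) (g := g) rfl (F.map φ') (F.map χ₂)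
        (by rw [← F.map_comp, hχ₂2])
    have h4 : F.IsHomLift χ' χ₂ := by rw [← e5]; infer_instance
    exact IsStronglyCartesian.map_uniq F (F.map φ) φ (g := χ') rfl φ' χ₂ hχ₂2

end Groth.Agent.S6414
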