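import Groth.Statements.S6417
-- import your own Groth.Agent.* helpers here

set_option autoImplicit false
open CategoryTheory CategoryTheory.Limits
universe v₁ u₁ v₂ u₂
open FibCat

namespace Groth.Agent.S6417

open Functor in
/-- General form with an arbitrary pullback square in the base. -/
theorem aux {𝒮 : Type u₁} [Category.{v₁} 𝒮] {C : Type u₂} [Category.{v₂} C] (p : 𝒮 ⥤ C) {x y z w : 𝒮}
    (φ : x ⟶ y) (ψ : z ⟶ y) [p.IsStronglyCartesian (p.map φ) φ] {P : C} (fst : P ⟶ p.obj x)
    (snd : P ⟶ p.obj z) (hP : IsPullback fst snd (p.map φ) (p.map ψ)) (a : w ⟶ z)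
    [ha : p.IsStronglyCartesian snd a] :
    ∃ b : w ⟶ x, p.IsHomLift fst b ∧ IsPullback b a φ ψ := by
  obtain rfl : p.obj w = P := IsHomLift.domain_eq p snd a
  obtain rfl : snd = p.map a := IsHomLift.eq_of_isHomLift p snd a
  have h0 : p.IsHomLift (fst ≫ p.map φ) (a ≫ ψ) := by
    rw [hP.w, ← p.map_comp]; infer_instance
  let b : w ⟶ x := IsStronglyCartesian.map p (p.map φ) φ (g := fst) rfl (a ≫ ψ)
  have hb1 : p.IsHomLift fst b := inferInstance
  have hb2 : b ≫ φ = a ≫ ψ := IsStronglyCartesian.fac _ _ _ _ _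
  have hfst : fst = p.map b := IsHomLift.eq_of_isHomLift p fst b
  refine ⟨b, hb1, ⟨⟨hb2⟩, ⟨PullbackCone.IsLimit.mk _ ?_ ?_ ?_ ?_⟩⟩⟩
  · -- lift
    intro s
    have hw : p.map s.fst ≫ p.map φ = p.map s.snd ≫ p.map ψ := by
      rw [← p.map_comp, ← p.map_comp, s.condition]
    let u : p.obj s.pt ⟶ p.obj w := hP.lift (p.map s.fst) (p.map s.snd) hw
    have hu : p.IsHomLift (u ≫ p.map a) s.snd := by
      rw [hP.lift_snd]; infer_instance
    exact IsStronglyCartesian.map p (p.map a) a (g := u) rfl s.snd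
  · -- fac_left
    intro s
    have hw : p.map s.fst ≫ p.map φ = p.map s.snd ≫ p.map ψ := by
      rw [← p.map_comp, ← p.map_comp, s.condition]
    let u : p.obj s.pt ⟶ p.obj w := hP.lift (p.map s.fst) (p.map s.snd) hw
    have hu : p.IsHomLift (u ≫ p.map a) s.snd := by
      rw [hP.lift_snd]; infer_instance
    let l := IsStronglyCartesian.map p (p.map a) a (g := u) rfl s.snd
    have hl1 : p.IsHomLift u l := inferInstance
    have hl2 : l ≫ a = s.snd := IsStronglyCartesian.fac _ _ _ _ _
    change l ≫ b = s.fst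
    have h1 : p.IsHomLift (p.map s.fst) (l ≫ b) := by
      have : p.map s.fst = u ≫ fst := (hP.lift_fst _ _ hw).symm
      rw [this]; infer_instance
    apply IsStronglyCartesian.ext p (p.map φ) φ (p.map s.fst)
    rw [Category.assoc, hb2, ← Category.assoc, hl2, s.condition]
  · -- fac_right
    intro s
    have hw : p.map s.fst ≫ p.map φ = p.map s.snd ≫ p.map ψ := by
      rw [← p.map_comp, ← p.map_comp, s.condition]
    let u : p.obj s.pt ⟶ p.obj w := hP.lift (p.map s.fst) (p.map s.snd) hw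
    have hu : p.IsHomLift (u ≫ p.map a) s.snd := by
      rw [hP.lift_snd]; infer_instance
    exact IsStronglyCartesian.fac p (p.map a) a (g := u) rfl s.snd
  · -- uniqueness
    intro s m hm1 hm2
    have hw : p.map s.fst ≫ p.map φ = p.map s.snd ≫ p.map ψ := by
      rw [← p.map_comp, ← p.map_comp, s.condition]
    let u : p.obj s.pt ⟶ p.obj w := hP.lift (p.map s.fst) (p.map s.snd) hw
    have hu : p.IsHomLift (u ≫ p.map a) s.snd := by
      rw [hP.lift_snd]; infer_instance
    have hmu : p.map m = u := by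
      apply hP.hom_ext
      · rw [hP.lift_fst, hfst, ← p.map_comp, hm1]
      · rw [hP.lift_snd, ← p.map_comp, hm2]
    have : p.IsHomLift u m := by rw [← hmu]; infer_instance
    exact IsStronglyCartesian.map_uniq p (p.map a) a (g := u) rfl s.snd m hm2

/-- For `p : 𝒮 ⥤ C`, a strongly cartesian `φ : x ⟶ y`, any `ψ : z ⟶ y`, and a strongly cartesian `a : w
⟶ z` lying over the second projection of `p x ×_{p y} p z`, the object `w` is a fibre product `x ×_y
z`: there is `b : w ⟶ x` over the first projection with `(b, a)` a pullback square. -/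
theorem result {𝒮 : Type u₁} [Category.{v₁} 𝒮] {C : Type u₂} [Category.{v₂} C] (p : 𝒮 ⥤ C) {x y z w : 𝒮} (φ : x ⟶ y) (ψ : z ⟶ y)
    [p.IsStronglyCartesian (p.map φ) φ] [HasPullback (p.map φ) (p.map ψ)] (a : w ⟶ z)
    [p.IsStronglyCartesian (pullback.snd (p.map φ) (p.map ψ)) a] :
    ∃ b : w ⟶ x, p.IsHomLift (pullback.fst (p.map φ) (p.map ψ)) b ∧ IsPullback b a φ ψ := by
  exact aux p φ ψ _ _ (IsPullback.of_hasPullback (p.map φ) (p.map ψ)) a

end Groth.Agent.S6417
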