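import Groth.Statements.S6429
import Groth.Agent.Lib.Helper31.Monoidal

set_option autoImplicit false
open CategoryTheory CategoryTheory.MonoidalCategory
universe v u
open MonCat

namespace Groth.Agent.S6429

/-- An object `X` of a monoidal category is invertible (some `X'` has `X ⊗ X' ≅ 𝟙` and `X' ⊗ X ≅ 𝟙`) if
and only if tensoring on the left by `X` is an equivalence, if and only if tensoring on the right by
`X` is an equivalence. -/
theorem result {C : Type u} [Category.{v} C] [MonoidalCategory C] (X : C) :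
    ((tensorLeft X).IsEquivalence ↔ ∃ X' : C, Nonempty (X ⊗ X' ≅ 𝟙_ C) ∧ Nonempty (X' ⊗ X ≅ 𝟙_ C)) ∧
      ((tensorRight X).IsEquivalence ↔ ∃ X' : C, Nonempty (X ⊗ X' ≅ 𝟙_ C) ∧ Nonempty (X' ⊗ X ≅ 𝟙_ C)) := by
  refine ⟨⟨fun h => ?_, ?_⟩, ⟨fun h => ?_, ?_⟩⟩
  · exact Groth.Agent.Lib.Helper31.exists_inverse_of_tensorLeft_isEquivalence X
  · rintro ⟨X', ⟨e1⟩, ⟨e2⟩⟩
    exact Groth.Agent.Lib.Helper31.tensorLeft_isEquivalence_of_inverse X X' e1 e2
  · exact Groth.Agent.Lib.Helper31.exists_inverse_of_tensorRight_isEquivalence X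
  · rintro ⟨X', ⟨e1⟩, ⟨e2⟩⟩
    exact Groth.Agent.Lib.Helper31.tensorRight_isEquivalence_of_inverse X X' e1 e2

end Groth.Agent.S6429
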