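import Groth.Statements.S6430
import Groth.Agent.Lib.Helper31.FibCat

set_option autoImplicit false
open CategoryTheory
universe v₂ u₂ v u
open FibCat

namespace Groth.Agent.S6430

open Functor in
/-- For a fibred category `p : 𝒮 ⥤ C`, the wide subcategory of `𝒮` on the strongly cartesian morphisms
is fibred in groupoids over `C`. -/
theorem result {C : Type u} [Category.{v} C] {𝒮 : Type u₂} [Category.{v₂} 𝒮] (p : 𝒮 ⥤ C) [p.IsFibered] :
    FibCat.IsFibGrpd (FibCat.cartSubProj p) := by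
  refine ⟨?_, ?_⟩
  · intro x V f
    change V ⟶ p.obj x.obj at f
    obtain ⟨y, φ, hφ⟩ := IsPreFibered.exists_isCartesian' (p := p) (a := x.obj) f
    have h1 := @Functor.IsFibered.isStronglyCartesian_of_isCartesian _ _ _ _ p _ _ _ _ _ _ φ hφ
    obtain rfl : p.obj y = V := IsHomLift.domain_eq p f φ
    obtain rfl : f = p.map φ := IsHomLift.eq_of_isHomLift p f φ
    let φ' : (⟨y⟩ : cartSub p) ⟶ x := ⟨φ, h1⟩
    exact ⟨⟨y⟩, φ', inferInstanceAs ((cartSubProj p).IsHomLift ((cartSubProj p).map φ') φ')⟩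
  · intro y x φ
    have hφ : p.IsStronglyCartesian (p.map φ.hom) φ.hom := φ.property
    refine { toIsHomLift := inferInstance, universal_property' := ?_ }
    intro z g₀ ψ hψ
    have hψ' : p.IsStronglyCartesian (p.map ψ.hom) ψ.hom := ψ.property
    have e0 : g₀ ≫ (cartSubProj p).map φ = (cartSubProj p).map ψ :=
      IsHomLift.eq_of_isHomLift (cartSubProj p) (g₀ ≫ (cartSubProj p).map φ) ψ
    obtain ⟨g, hg⟩ : ∃ g : p.obj z.obj ⟶ p.obj y.obj, g = g₀ := ⟨g₀, rfl⟩
    have e1 : g ≫ p.map φ.hom = p.map ψ.hom := by rw [hg]; exact e0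
    have h1 : p.IsHomLift (g ≫ p.map φ.hom) ψ.hom := by rw [e1]; infer_instance
    let χ : z.obj ⟶ y.obj := IsStronglyCartesian.map p (p.map φ.hom) φ.hom (g := g) rfl ψ.hom
    have hχ1 : p.IsHomLift g χ := inferInstance
    have hχ2 : χ ≫ φ.hom = ψ.hom := IsStronglyCartesian.fac _ _ _ _ _
    have h2 : p.IsStronglyCartesian (g ≫ p.map φ.hom) (χ ≫ φ.hom) := by
      rw [hχ2, e1]; exact hψ'
    have h3 : p.IsStronglyCartesian g χ := IsStronglyCartesian.of_comp p (ψ := φ.hom) (g := p.map φ.hom)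
    have e2 : g = p.map χ := IsHomLift.eq_of_isHomLift p g χ
    have h4 : p.IsStronglyCartesian (p.map χ) χ := by rw [← e2]; exact h3
    let χ' : z ⟶ y := ⟨χ, h4⟩
    refine ⟨χ', ⟨?_, ?_⟩, ?_⟩
    · have : g₀ = (cartSubProj p).map χ' := hg.symm.trans e2
      rw [this]; infer_instance
    · exact WideSubcategory.hom_ext _ hχ2
    · rintro χ₂ ⟨hχ₂1, hχ₂2⟩
      apply WideSubcategory.hom_ext
      have e3 : g = p.map χ₂.hom := hg.trans (IsHomLift.eq_of_isHomLift (cartSubProj p) g₀ χ₂)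
      have : p.IsHomLift g χ₂.hom := by rw [e3]; infer_instance
      exact IsStronglyCartesian.map_uniq p (p.map φ.hom) φ.hom (g := g) rfl ψ.hom χ₂.hom
        (congrArg (fun k => k.hom) hχ₂2)

end Groth.Agent.S6430
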