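import Groth.Statements.S6436
-- import your own Groth.Agent.* helpers here

set_option autoImplicit false
open CategoryTheory
universe v₁ u₁ v₂ u₂
open CatLim

namespace Groth.Agent.S6436

/-- For an adjunction `u ⊣ v`, if `v ∘ u` is fully faithful then so is `u`, and if `u ∘ v` is fully
faithful then so is `v`. -/
theorem result {C : Type u₁} [Category.{v₁} C] {D : Type u₂} [Category.{v₂} D] {u : C ⥤ D} {v : D ⥤ C} (adj : u ⊣ v) :
    ((u ⋙ v).Full → (u ⋙ v).Faithful → u.Full ∧ u.Faithful) ∧ ((v ⋙ u).Full → (v ⋙ u).Faithful → v.Full ∧ v.Faithful) := by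
  constructor
  · intro hfull hfaith
    constructor
    · constructor
      intro X Y h
      obtain ⟨f, hf⟩ := (u ⋙ v).map_surjective (v.map h)
      refine ⟨f, ?_⟩
      apply (adj.homEquiv X (u.obj Y)).injective
      rw [adj.homEquiv_unit, adj.homEquiv_unit]
      congr 1
    · constructor
      intro X Y f g hfg
      apply (u ⋙ v).map_injective
      simp only [Functor.comp_map, hfg]
  · intro hfull hfaith
    constructor
    · constructor
      intro X Y h
      obtain ⟨f, hf⟩ := (v ⋙ u).map_surjective (u.map h)
      refine ⟨f, ?_⟩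
      apply (adj.homEquiv (v.obj X) Y).symm.injective
      rw [adj.homEquiv_counit, adj.homEquiv_counit]
      congr 1
    · constructor
      intro X Y f g hfg
      apply (v ⋙ u).map_injective
      simp only [Functor.comp_map, hfg]

end Groth.Agent.S6436
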