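import Groth.Statements.S6442
import Mathlib.CategoryTheory.Sites.LocallyBijective


set_option autoImplicit false
open CategoryTheory CategoryTheory.Limits Opposite
universe u
open SiteMisc

namespace Groth.Agent.S6442

/-- An object `U` of a site is weakly contractible, i.e. for every covering sieve `S` the sheafified map
`(∐_{V → U ∈ S} h_V)^# ⟶ h_U^#` has a section, if and only if taking sections over `U` turns
epimorphisms of sheaves of sets into surjections. (Coverings are taken as covering sieves; the
coproduct is formed in presheaves and then sheafified.) -/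
theorem result {C : Type u} [SmallCategory C] (J : GrothendieckTopology C) (U : C) :
    (∀ S : Sieve U, S ∈ J U →
      IsSplitEpi ((presheafToSheaf J (Type u)).map
        (Sigma.desc (fun i : (Σ V : C, {f : V ⟶ U // S f}) => yoneda.map i.2.1) :
          (∐ fun i : (Σ V : C, {f : V ⟶ U // S f}) => yoneda.obj i.1) ⟶ yoneda.obj U))) ↔
    ∀ (F G : Sheaf J (Type u)) (φ : F ⟶ G), Epi φ → Function.Surjective (φ.hom.app (op U)) := by
  classical
  let adj := sheafificationAdjunction J (Type u)
  constructor
  · intro h F G φ hφ s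
    have hls : Sheaf.IsLocallySurjective φ := (Sheaf.isLocallySurjective_iff_epi φ).2 hφ
    have hS : Presheaf.imageSieve φ.hom s ∈ J U := Presheaf.imageSieve_mem J φ.hom s
    obtain ⟨⟨σ, hσ⟩⟩ := h (Presheaf.imageSieve φ.hom s) hS
    let t : ∀ i : (Σ V : C, {f : V ⟶ U // (Presheaf.imageSieve φ.hom s) f}),
        F.obj.obj (op i.1) := fun i => Presheaf.localPreimage φ.hom s i.2.1 i.2.2
    have ht : ∀ i, φ.hom.app _ (t i) = G.obj.map i.2.1.op s :=
      fun i => Presheaf.app_localPreimage φ.hom s i.2.1 i.2.2
    let a : (∐ fun i : (Σ V : C, {f : V ⟶ U // (Presheaf.imageSieve φ.hom s) f}) =>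
        yoneda.obj i.1) ⟶ F.obj := Sigma.desc (fun i => yonedaEquiv.symm (t i))
    have ha : a ≫ φ.hom = Sigma.desc (fun i : (Σ V : C, {f : V ⟶ U //
        (Presheaf.imageSieve φ.hom s) f}) => yoneda.map i.2.1) ≫ yonedaEquiv.symm s := by
      refine Sigma.hom_ext _ _ (fun i => ?_)
      rw [Sigma.ι_desc_assoc, Sigma.ι_desc_assoc, yonedaEquiv_symm_naturality_right,
        yonedaEquiv_symm_naturality_left, ht]
    have key : (adj.homEquiv _ _).symm (yonedaEquiv.symm s) =
        σ ≫ (adj.homEquiv _ F).symm a ≫ φ := by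
      have h1 : (adj.homEquiv _ F).symm a ≫ φ = (presheafToSheaf J (Type u)).map
          (Sigma.desc (fun i : (Σ V : C, {f : V ⟶ U //
            (Presheaf.imageSieve φ.hom s) f}) => yoneda.map i.2.1)) ≫
          (adj.homEquiv _ G).symm (yonedaEquiv.symm s) := by
        rw [← Adjunction.homEquiv_naturality_right_symm,
          ← Adjunction.homEquiv_naturality_left_symm]
        congr 1
      rw [h1, ← Category.assoc, hσ, Category.id_comp]
    have key2 := congrArg (adj.homEquiv _ _) key
    rw [Equiv.apply_symm_apply, ← Category.assoc, Adjunction.homEquiv_naturality_right] at key2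
    refine ⟨yonedaEquiv (adj.homEquiv _ _ (σ ≫ (adj.homEquiv _ F).symm a)), ?_⟩
    have key3 := congrArg yonedaEquiv key2
    rw [Equiv.apply_symm_apply] at key3
    exact key3.symm
  · intro h S hS
    let d : (∐ fun i : (Σ V : C, {f : V ⟶ U // S f}) => yoneda.obj i.1) ⟶ yoneda.obj U :=
      Sigma.desc (fun i : (Σ V : C, {f : V ⟶ U // S f}) => yoneda.map i.2.1)
    have hd : Presheaf.IsLocallySurjective J d := by
      refine ⟨fun {W} g => ?_⟩
      refine J.superset_covering ?_ (J.pullback_stable (g : W ⟶ U) hS)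
      intro W' k hk
      refine ⟨(Sigma.ι (fun i : (Σ V : C, {f : V ⟶ U // S f}) => yoneda.obj i.1)
        ⟨W', k ≫ g, hk⟩).app (op W') (𝟙 W'), ?_⟩
      have := ConcreteCategory.congr_hom (congr_app (Sigma.ι_desc
        (fun i : (Σ V : C, {f : V ⟶ U // S f}) => yoneda.map i.2.1) ⟨W', k ≫ g, hk⟩)
        (op W')) (𝟙 W')
      simp only [NatTrans.comp_app] at this
      refine this.trans ?_
      simp
    have hls : Sheaf.IsLocallySurjective ((presheafToSheaf J (Type u)).map d) :=
      (Presheaf.isLocallySurjective_presheafToSheaf_map_iff J d).2 hd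
    have hepi : Epi ((presheafToSheaf J (Type u)).map d) := inferInstance
    obtain ⟨t, ht⟩ := h _ _ _ hepi (yonedaEquiv (adj.unit.app (yoneda.obj U)))
    refine ⟨⟨(adj.homEquiv _ _).symm (yonedaEquiv.symm t), ?_⟩⟩
    apply (adj.homEquiv _ _).injective
    rw [Adjunction.homEquiv_naturality_right, Equiv.apply_symm_apply]
    apply yonedaEquiv.injective
    rw [yonedaEquiv_comp, Equiv.apply_symm_apply]
    refine ht.trans ?_
    rw [Adjunction.homEquiv_unit]
    simp

end Groth.Agent.S6442
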