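import Groth.Statements.S6470
-- import your own Groth.Agent.* helpers here
import Groth.Agent.Lib.Helper85.IntMult.SerreFormula
import Groth.Agent.Lib.Helper85.IntMult.SmoothStalk

set_option autoImplicit false
universe u
open CategoryTheory CategoryTheory.Limits AlgebraicGeometry
attribute [local instance] HasDerivedCategory.standard
open IntMult

namespace Groth.Agent.S6470

/-- Let X be a nonsingular variety of dimension n and F, G coherent O_X-modules. Suppose the support of
F has dimension at most r, the support of G has dimension at most s, and the two supports meet in a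
set whose dimension does not exceed r + s − n. Then [F]_r and [G]_s intersect properly and [F]_r ·
[G]_s = Σ_p (−1)^p [Tor_p^{O_X}(F, G)]_{r+s−n}; the right side is written through stalks: its
coefficient at ζ with δ(ζ) = r + s − n is Σ_p (−1)^p length_{O_{X,ζ}} Tor_p^{O_{X,ζ}}(F_ζ, G_ζ)
(IntMult.chi), the stalk of the Tor sheaf being the Tor of the stalks. Support bounds are phrased
through nontrivial stalks. Here X is a nonsingular variety over the algebraically closed field K
(smooth, separated, quasi-compact, integral) with dimension function δ (transcendence degree over K,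
recorded by Cyc.DeltaCompat to Spec K with value 0, together with Cyc.IsSetup) and n = dim X = δ of
the generic point; cycles are coefficient functions X → ℤ, proper intersection is
IntMult.IntersectProperly and α · β is the Tor-formula intersection product on coefficient functions
(IntMult.interProd). -/
theorem result (K : Type u) [Field K] [IsAlgClosed K] (X : Scheme.{u}) (f : X ⟶ Spec (CommRingCat.of K)) [Smooth f] [IsSeparated f] [QuasiCompact f] [IsIntegral X] (δ : X → ℤ) (hX : Cyc.IsSetup X δ) (hδ : Cyc.DeltaCompat f δ (fun _ => 0)) (n : ℤ) (hn : δ (genericPoint X) = n) (F G : X.Modules) (hF : Coh.IsCoh F) (hG : Coh.IsCoh G) (r s : ℤ) (hr : ∀ x : X, Nontrivial (F.presheaf.stalk x) → δ x ≤ r) (hs : ∀ x : X, Nontrivial (G.presheaf.stalk x) → δ x ≤ s) (hrs : ∀ x : X, Nontrivial (F.presheaf.stalk x) → Nontrivial (G.presheaf.stalk x) → δ x ≤ r + s - n) : IntMult.IntersectProperly δ n (Cyc.sheafFun δ r F) (Cyc.sheafFun δ s G) ∧ ∀ ζ : X, IntMult.interProd δ n (Cyc.sheafFun δ r F) (Cyc.sheafFun δ s G) ζ = if δ ζ = r + s - n then IntMult.chi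 ↑(X.presheaf.stalk ζ) ↑(F.presheaf.stalk ζ) ↑(G.presheaf.stalk ζ) else 0 := by
  classical
  obtain ⟨hN, -, hdim⟩ := hX
  have : IsLocallyNoetherian X := hN
  have : F.IsQuasicoherent := hF.1
  have : G.IsQuasicoherent := hG.1
  -- nontriviality of stalks spreads to specializations
  have hspec : ∀ (H : X.Modules) [H.IsQuasicoherent] (ξ ζ : X), ξ ⤳ ζ →
      Nontrivial (H.presheaf.stalk ξ) → Nontrivial (H.presheaf.stalk ζ) := by
    intro H _ ξ ζ hξζ hnt
    obtain ⟨𝔭, rfl⟩ := Groth.Agent.Lib.Helper55.exists_stalkPoint_eq ζ ξ hξζ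
    have h1 := (Groth.Agent.Lib.Helper85.SerreFormula.nontrivial_stalk_iff ζ H 𝔭).mp hnt
    by_contra hcon
    rw [not_nontrivial_iff_subsingleton] at hcon
    rw [Module.mem_support_iff] at h1
    exact not_subsingleton _ (inferInstance :
      Subsingleton (LocalizedModule 𝔭.asIdeal.primeCompl (H.presheaf.stalk ζ)))
  -- nonvanishing coefficients
  have hcoef : ∀ (H : X.Modules) (k : ℤ) (ξ : X), Cyc.sheafFun δ k H ξ ≠ 0 →
      δ ξ = k ∧ Nontrivial (H.presheaf.stalk ξ) := by
    intro H k ξ hne
    have h1 : δ ξ = k := by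
      by_contra h
      exact hne (by unfold Cyc.sheafFun; rw [if_neg h])
    refine ⟨h1, ?_⟩
    by_contra hcon
    rw [not_nontrivial_iff_subsingleton] at hcon
    apply hne
    unfold Cyc.sheafFun
    rw [if_pos h1, Module.length_eq_zero_iff.mpr hcon]
    simp
  refine ⟨?_, ?_⟩
  · intro ξ η ζ hα hβ hξζ hηζ
    obtain ⟨h1, h2⟩ := hcoef F r ξ hα
    obtain ⟨h3, h4⟩ := hcoef G s η hβ
    have := hrs ζ (hspec F ξ ζ hξζ h2) (hspec G η ζ hηζ h4)
    omega
  · intro ζ
    by_cases hζ : δ ζ = r + s - n
    · rw [if_pos hζ]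
      by_cases hnt : Nontrivial (F.presheaf.stalk ζ) ∧ Nontrivial (G.presheaf.stalk ζ)
      · obtain ⟨hntF, hntG⟩ := hnt
        have hζr := hr ζ hntF
        have hζs := hs ζ hntG
        have hreg : IsRegularLocalRing (X.presheaf.stalk ζ) :=
          Groth.Agent.Lib.Helper85.SmoothStalk.isRegularLocalRing_stalk K X f ζ
        have : IsDomain (X.presheaf.stalk ζ) := inferInstance
        -- the dimension of the local ring
        have hA : ringKrullDim (X.presheaf.stalk ζ) =
            (((n - δ ζ).toNat : ℕ) : WithBot ℕ∞) := by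
          set p₀ : PrimeSpectrum (X.presheaf.stalk ζ) := ⟨⊥, Ideal.isPrime_bot⟩ with hp₀
          have h1 := Groth.Agent.Lib.Helper85.SerreFormula.ringKrullDim_quotient_eq δ hdim ζ p₀
          have h2 : Groth.Agent.Lib.Helper55.stalkPoint ζ p₀ = genericPoint X := by
            obtain ⟨𝔭, h𝔭⟩ := Groth.Agent.Lib.Helper55.exists_stalkPoint_eq ζ (genericPoint X)
              (genericPoint_specializes ζ)
            have h3 : Groth.Agent.Lib.Helper55.stalkPoint ζ p₀ ⤳
                Groth.Agent.Lib.Helper55.stalkPoint ζ 𝔭 :=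
              (Groth.Agent.Lib.Helper55.stalkPoint_specializes_iff ζ p₀ 𝔭).mpr
                (show p₀.asIdeal ≤ 𝔭.asIdeal from bot_le)
            rw [h𝔭] at h3
            exact (h3.antisymm (genericPoint_specializes _)).eq
          rw [h2, hn] at h1
          rw [← h1]
          exact (ringKrullDim_eq_of_ringEquiv (RingEquiv.quotientBot (X.presheaf.stalk ζ))).symm
        exact Groth.Agent.Lib.Helper85.SerreFormula.interProd_eq_chi δ hdim ζ F G hF hG n r s
          hr hs hrs hζ hA
          (fun P Q hP hQ hfl hd =>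
            Groth.Agent.Lib.Helper85.SmoothStalk.chi_eq_zero K X f ζ P Q hP.ne_top hQ.ne_top hfl hd)
          hζr hζs
      · -- one of the stalks vanishes: both sides are zero
        have hchi : IntMult.chi (X.presheaf.stalk ζ) (F.presheaf.stalk ζ) (G.presheaf.stalk ζ) = 0 := by
          rw [not_and_or, not_nontrivial_iff_subsingleton, not_nontrivial_iff_subsingleton] at hnt
          rcases hnt with h | h
          · rw [Groth.Agent.Lib.Helper85.IntMultAlg.intMult_chi_symm]
            exact Groth.Agent.Lib.Helper85.ChiAssoc.chi_of_subsingleton_right _ _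
          · exact Groth.Agent.Lib.Helper85.ChiAssoc.chi_of_subsingleton_right _ _
        rw [hchi]
        unfold IntMult.interProd
        refine finsum_eq_zero_of_forall_eq_zero ?_
        rintro ⟨⟨ξ, η⟩, h1, h2, h3⟩
        by_contra hne
        have hα : Cyc.sheafFun δ r F ξ ≠ 0 := fun h => hne (by simp [h])
        have hβ : Cyc.sheafFun δ s G η ≠ 0 := fun h => hne (by simp [h])
        exact hnt ⟨hspec F ξ ζ h1 (hcoef F r ξ hα).2, hspec G η ζ h2 (hcoef G s η hβ).2⟩
    · rw [if_neg hζ]
      unfold IntMult.interProd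
      refine finsum_eq_zero_of_forall_eq_zero ?_
      rintro ⟨⟨ξ, η⟩, h1, h2, h3⟩
      by_contra hne
      have hα : Cyc.sheafFun δ r F ξ ≠ 0 := fun h => hne (by simp [h])
      have hβ : Cyc.sheafFun δ s G η ≠ 0 := fun h => hne (by simp [h])
      have h4 := (hcoef F r ξ hα).1
      have h5 := (hcoef G s η hβ).1
      apply hζ
      simp only at h3
      omega

end Groth.Agent.S6470
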