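import Groth.Statements.S6471
-- import your own Groth.Agent.* helpers here
import Groth.Agent.Lib.Helper85.IntMult.FlatPullGeom
import Groth.Agent.Lib.Helper80.PullbackFiniteType
import Groth.Agent.S6470

set_option autoImplicit false
universe u
open CategoryTheory CategoryTheory.Limits AlgebraicGeometry
attribute [local instance] HasDerivedCategory.standard
open IntMult

namespace Groth.Agent.S6471

/-- For a flat morphism f : X → Y between nonsingular varieties, with e = dim X − dim Y (every fibre
component has dimension e), and coherent O_Y-modules F, G whose supports have dimension at most r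
and s and meet in dimension at most r + s − dim Y, the cycles of the pulled-back modules,
[f^*F]_{r+e} and [f^*G]_{s+e}, meet properly, and pulling back the product [F]_r · [G]_s along f
gives their product: f^*([F]_r · [G]_s) = [f^*F]_{r+e} · [f^*G]_{s+e}, coefficientwise (f^* on
cycles is Cyc.pullFun with relative dimension e, f^* on modules is Mathlib's
Scheme.Modules.pullback). Here X is a nonsingular variety over the algebraically closed field K
(smooth, separated, quasi-compact, integral) with dimension function δ (transcendence degree over K,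
recorded by Cyc.DeltaCompat to Spec K with value 0, together with Cyc.IsSetup) and n = dim X = δ of
the generic point; cycles are coefficient functions X → ℤ, proper intersection is
IntMult.IntersectProperly and α · β is the Tor-formula intersection product on coefficient functions
(IntMult.interProd). The same holds for Y with δY and m = dim Y. -/
theorem result (K : Type u) [Field K] [IsAlgClosed K] (X Y : Scheme.{u}) (f : X ⟶ Y) (gX : X ⟶ Spec (CommRingCat.of K)) (gY : Y ⟶ Spec (CommRingCat.of K)) (hf : f ≫ gY = gX) [Smooth gX] [IsSeparated gX] [QuasiCompact gX] [IsIntegral X] [Smooth gY] [IsSeparated gY] [QuasiCompact gY] [IsIntegral Y] [Flat f] (δX : X → ℤ) (δY : Y → ℤ) (hX : Cyc.IsSetup X δX) (hY : Cyc.IsSetup Y δY) (hδX : Cyc.DeltaCompat gX δX (fun _ => 0)) (hδY : Cyc.DeltaCompat gY δY (fun _ => 0)) (hδ : Cyc.DeltaCompat f δX δY) (n m : ℤ) (hn : δX (genericPoint X) = n) (hm : δY (genericPoint Y) = m) (e : ℕ) (he : (e : ℤ) = n - m) (hrel : Cyc.HasRelDim f e) (F G : Y.Modules) (hF : Coh.IsCoh F) (hG : Coh.IsCoh G) (r s : ℤ) (hr : ∀ y : Y, Nontrivial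 (F.presheaf.stalk y) → δY y ≤ r) (hs : ∀ y : Y, Nontrivial (G.presheaf.stalk y) → δY y ≤ s) (hrs : ∀ y : Y, Nontrivial (F.presheaf.stalk y) → Nontrivial (G.presheaf.stalk y) → δY y ≤ r + s - m) : IntMult.IntersectProperly δX n (Cyc.sheafFun δX (r + e) ((Scheme.Modules.pullback f).obj F)) (Cyc.sheafFun δX (s + e) ((Scheme.Modules.pullback f).obj G)) ∧ Cyc.pullFun f δX δY e (IntMult.interProd δY m (Cyc.sheafFun δY r F) (Cyc.sheafFun δY s G)) = IntMult.interProd δX n (Cyc.sheafFun δX (r + e) ((Scheme.Modules.pullback f).obj F)) (Cyc.sheafFun δX (s + e) ((Scheme.Modules.pullback f).obj G)) := by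
  classical
  have hNY : IsLocallyNoetherian Y := hY.1
  have hlft : LocallyOfFiniteType f := by
    have h1 : LocallyOfFiniteType (f ≫ gY) := by rw [hf]; infer_instance
    exact AlgebraicGeometry.locallyOfFiniteType_of_comp f gY
  have hF' : Coh.IsCoh ((Scheme.Modules.pullback f).obj F) :=
    Groth.Agent.Lib.Helper80.isCoh_pullback f F hF
  have hG' : Coh.IsCoh ((Scheme.Modules.pullback f).obj G) :=
    Groth.Agent.Lib.Helper80.isCoh_pullback f G hG
  have hle := fun x => Groth.Agent.Lib.Helper85.FlatPullGeom.delta_le_add f δX δY hδ e hrel x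
  have hr' : ∀ x : X, Nontrivial (((Scheme.Modules.pullback f).obj F).presheaf.stalk x) →
      δX x ≤ r + e := by
    intro x hx
    have h1 := hr (f x)
      ((Groth.Agent.Lib.Helper85.FlatPullGeom.nontrivial_stalk_pullback_iff f F x).mp hx)
    have h2 := hle x
    omega
  have hs' : ∀ x : X, Nontrivial (((Scheme.Modules.pullback f).obj G).presheaf.stalk x) →
      δX x ≤ s + e := by
    intro x hx
    have h1 := hs (f x)
      ((Groth.Agent.Lib.Helper85.FlatPullGeom.nontrivial_stalk_pullback_iff f G x).mp hx)
    have h2 := hle x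
    omega
  have hrs' : ∀ x : X, Nontrivial (((Scheme.Modules.pullback f).obj F).presheaf.stalk x) →
      Nontrivial (((Scheme.Modules.pullback f).obj G).presheaf.stalk x) →
      δX x ≤ (r + e) + (s + e) - n := by
    intro x hx hx'
    have h1 := hrs (f x)
      ((Groth.Agent.Lib.Helper85.FlatPullGeom.nontrivial_stalk_pullback_iff f F x).mp hx)
      ((Groth.Agent.Lib.Helper85.FlatPullGeom.nontrivial_stalk_pullback_iff f G x).mp hx')
    have h2 := hle x
    omega
  obtain ⟨hprop, hXform⟩ := Groth.Agent.S6470.result K X gX δX hX hδX n hn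
    ((Scheme.Modules.pullback f).obj F) ((Scheme.Modules.pullback f).obj G) hF' hG'
    (r + e) (s + e) hr' hs' hrs'
  obtain ⟨-, hYform⟩ := Groth.Agent.S6470.result K Y gY δY hY hδY m hm F G hF hG r s hr hs hrs
  exact ⟨hprop, Groth.Agent.Lib.Helper85.FlatPullGeom.pullFun_interProd_eq f δX δY hδ n m e he hrel
    F G hG r s hrs hYform hXform⟩

end Groth.Agent.S6471
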