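import Groth.Statements.S6451
-- import your own Groth.Agent.* helpers here
import Groth.Agent.Lib.Helper85.IntMult.PtSheaf
import Groth.Agent.Lib.Helper85.IntMult.PullSheafFun
import Groth.Agent.Lib.Helper85.IntMult.FlatPullGeom
import Groth.Agent.Lib.Helper80.PullbackFiniteType
import Groth.Agent.S6471

set_option autoImplicit false
universe u
open CategoryTheory CategoryTheory.Limits AlgebraicGeometry
attribute [local instance] HasDerivedCategory.standard
open IntMult

namespace Groth.Agent.S6451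

/-- For a flat morphism f : X → Y between nonsingular varieties, with e = dim X − dim Y (every fibre
component has dimension e), and for cycles α ∈ Z_r(Y) and β ∈ Z_s(Y) meeting properly, the flat
pullbacks f^*α and f^*β again meet properly and pulling back commutes with the product: f^*(α · β) =
f^*α · f^*β, coefficientwise (flat pullback is Cyc.pullFun with relative dimension e). Here X is a
nonsingular variety over the algebraically closed field K (smooth, separated, quasi-compact,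
integral) with dimension function δ (transcendence degree over K, recorded by Cyc.DeltaCompat to
Spec K with value 0, together with Cyc.IsSetup) and n = dim X = δ of the generic point; cycles are
Mathlib AlgebraicCycles with Cyc.Zk membership, proper intersection is IntMult.IntersectProperly and
α · β is the Tor-formula intersection product on coefficient functions (IntMult.interProd). The same
holds for Y with δY and m = dim Y. -/
theorem result (K : Type u) [Field K] [IsAlgClosed K] (X Y : Scheme.{u}) (f : X ⟶ Y) (gX : X ⟶ Spec (CommRingCat.of K)) (gY : Y ⟶ Spec (CommRingCat.of K)) (hf : f ≫ gY = gX) [Smooth gX] [IsSeparated gX] [QuasiCompact gX] [IsIntegral X] [Smooth gY] [IsSeparated gY] [QuasiCompact gY] [IsIntegral Y] [Flat f] (δX : X → ℤ) (δY : Y → ℤ) (hX : Cyc.IsSetup X δX) (hY : Cyc.IsSetup Y δY) (hδX : Cyc.DeltaCompat gX δX (fun _ => 0)) (hδY : Cyc.DeltaCompat gY δY (fun _ => 0)) (hδ : Cyc.DeltaCompat f δX δY) (n m : ℤ) (hn : δX (genericPoint X) = n)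 (hm : δY (genericPoint Y) = m) (e : ℕ) (he : (e : ℤ) = n - m) (hrel : Cyc.HasRelDim f e) (r s : ℤ) (α β : AlgebraicCycle Y ℤ) (hα : α ∈ Cyc.Zk Y δY r) (hβ : β ∈ Cyc.Zk Y δY s) (hprop : IntMult.IntersectProperly δY m ⇑α ⇑β) : IntMult.IntersectProperly δX n (Cyc.pullFun f δX δY e ⇑α) (Cyc.pullFun f δX δY e ⇑β) ∧ Cyc.pullFun f δX δY e (IntMult.interProd δY m ⇑α ⇑β) = IntMult.interProd δX n (Cyc.pullFun f δX δY e ⇑α) (Cyc.pullFun f δX δY e ⇑β) := by
  classical
  have hNY : IsLocallyNoetherian Y := hY.1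
  have hNX : IsLocallyNoetherian X := hX.1
  have hdimX : Cyc.IsDimFun X δX := hX.2.2
  have hdimY : Cyc.IsDimFun Y δY := hY.2.2
  have hlft : LocallyOfFiniteType f := by
    have h1 : LocallyOfFiniteType (f ≫ gY) := by rw [hf]; infer_instance
    exact AlgebraicGeometry.locallyOfFiniteType_of_comp f gY
  have hle := fun x => Groth.Agent.Lib.Helper85.FlatPullGeom.delta_le_add f δX δY hδ e hrel x
  -- nonvanishing of a pulled back coefficient
  have hnz : ∀ (γ : Y → ℤ) (x : X), Cyc.pullFun f δX δY e γ x ≠ 0 →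
      γ (f x) ≠ 0 ∧ δX x = δY (f x) + e := by
    intro γ x hx
    rw [Groth.Agent.Lib.Helper85.CycBilin.pullFun_eq_mul] at hx
    refine ⟨fun h => hx (by rw [h, zero_mul]), ?_⟩
    by_contra h
    apply hx
    unfold Groth.Agent.Lib.Helper85.CycBilin.wt
    rw [if_neg h, mul_zero]
  constructor
  · intro ξ' η' ζ' hα' hβ' h1 h2
    obtain ⟨a1, a2⟩ := hnz _ _ hα'
    obtain ⟨b1, b2⟩ := hnz _ _ hβ'
    have h3 := hprop (f ξ') (f η') (f ζ') a1 b1 (h1.map f.continuous) (h2.map f.continuous)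
    have h4 := hle ζ'
    omega
  · funext ζ
    have hfinS := Groth.Agent.Lib.Helper85.CycBilin.finite_generizations α (f ζ)
    have hfinT := Groth.Agent.Lib.Helper85.CycBilin.finite_generizations β (f ζ)
    have hSr : ∀ ξ ∈ hfinS.toFinset, ξ ⤳ f ζ ∧ α ξ ≠ 0 ∧ δY ξ = r := by
      intro ξ hξ
      rw [Set.Finite.mem_toFinset] at hξ
      refine ⟨hξ.1, hξ.2, ?_⟩
      by_contra h
      exact hξ.2 (hα ξ h)
    have hTs : ∀ η ∈ hfinT.toFinset, η ⤳ f ζ ∧ β η ≠ 0 ∧ δY η = s := by
      intro η hη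
      rw [Set.Finite.mem_toFinset] at hη
      refine ⟨hη.1, hη.2, ?_⟩
      by_contra h
      exact hη.2 (hβ η h)
    -- the pullback of an indicator function as the cycle of a sheaf
    have hbound : ∀ (ξ : Y) (k : ℤ), δY ξ = k → ∀ y : Y,
        Nontrivial ((Groth.Agent.Lib.Helper85.PtSheaf.ptSheaf ξ).presheaf.stalk y) → δY y ≤ k := by
      intro ξ k hξ y hy
      rw [← hξ]
      exact Groth.Agent.Lib.Helper85.PtSheaf.delta_le_of_nontrivial_stalk_ptSheaf δY hdimY ξ y hy
    have hpull : ∀ (ξ : Y) (k : ℤ), δY ξ = k →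
        Cyc.pullFun f δX δY e (Groth.Agent.Lib.Helper85.CycBilin.ind ξ) =
          Cyc.sheafFun δX (k + e) ((Scheme.Modules.pullback f).obj
            (Groth.Agent.Lib.Helper85.PtSheaf.ptSheaf ξ)) := by
      intro ξ k hξ
      rw [← Groth.Agent.Lib.Helper85.PtSheaf.sheafFun_ptSheaf δY hdimY ξ k hξ]
      exact Groth.Agent.Lib.Helper85.PullSheafFun.pullFun_sheafFun_eq f δX δY e k _
        (fun x _ => hle x) (hbound ξ k hξ)
    have hcoh : ∀ ξ : Y, Coh.IsCoh ((Scheme.Modules.pullback f).obj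
        (Groth.Agent.Lib.Helper85.PtSheaf.ptSheaf ξ)) := fun ξ =>
      Groth.Agent.Lib.Helper80.isCoh_pullback f _
        (Groth.Agent.Lib.Helper85.PtSheaf.isCoh_ptSheaf ξ)
    have hbound' : ∀ (ξ : Y) (k : ℤ), δY ξ = k → ∀ x : X,
        Nontrivial (((Scheme.Modules.pullback f).obj
          (Groth.Agent.Lib.Helper85.PtSheaf.ptSheaf ξ)).presheaf.stalk x) → δX x ≤ k + e := by
      intro ξ k hξ x hx
      have h1 := hbound ξ k hξ (f x)
        ((Groth.Agent.Lib.Helper85.FlatPullGeom.nontrivial_stalk_pullback_iff f _ x).mp hx)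
      have h2 := hle x
      omega
    have hfin' : ∀ (ξ : Y) (k : ℤ), δY ξ = k →
        {x : X | x ⤳ ζ ∧ Cyc.pullFun f δX δY e (Groth.Agent.Lib.Helper85.CycBilin.ind ξ) x ≠ 0}.Finite := by
      intro ξ k hξ
      rw [hpull ξ k hξ]
      exact Groth.Agent.Lib.Helper85.PtSheaf.finite_sheafFun_generizations δX hdimX _ (hcoh ξ)
        (k + e) (hbound' ξ k hξ) ζ
    have hfinS' : {x : X | x ⤳ ζ ∧ ∃ ξ ∈ hfinS.toFinset,
        Cyc.pullFun f δX δY e (Groth.Agent.Lib.Helper85.CycBilin.ind ξ) x ≠ 0}.Finite := by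
      have hset : {x : X | x ⤳ ζ ∧ ∃ ξ ∈ hfinS.toFinset,
          Cyc.pullFun f δX δY e (Groth.Agent.Lib.Helper85.CycBilin.ind ξ) x ≠ 0} =
          ⋃ ξ ∈ hfinS.toFinset, {x : X | x ⤳ ζ ∧
            Cyc.pullFun f δX δY e (Groth.Agent.Lib.Helper85.CycBilin.ind ξ) x ≠ 0} := by
        ext x
        simp only [Set.mem_setOf_eq, Set.mem_iUnion, exists_prop]
        constructor
        · rintro ⟨h1, ξ, h2, h3⟩
          exact ⟨ξ, h2, h1, h3⟩
        · rintro ⟨ξ, h2, h1, h3⟩
          exact ⟨h1, ξ, h2, h3⟩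
      rw [hset]
      exact Set.Finite.biUnion (Finset.finite_toSet _) (fun ξ hξ => hfin' ξ r (hSr ξ hξ).2.2)
    have hfinT' : {x : X | x ⤳ ζ ∧ ∃ η ∈ hfinT.toFinset,
        Cyc.pullFun f δX δY e (Groth.Agent.Lib.Helper85.CycBilin.ind η) x ≠ 0}.Finite := by
      have hset : {x : X | x ⤳ ζ ∧ ∃ η ∈ hfinT.toFinset,
          Cyc.pullFun f δX δY e (Groth.Agent.Lib.Helper85.CycBilin.ind η) x ≠ 0} =
          ⋃ η ∈ hfinT.toFinset, {x : X | x ⤳ ζ ∧
            Cyc.pullFun f δX δY e (Groth.Agent.Lib.Helper85.CycBilin.ind η) x ≠ 0} := by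
        ext x
        simp only [Set.mem_setOf_eq, Set.mem_iUnion, exists_prop]
        constructor
        · rintro ⟨h1, η, h2, h3⟩
          exact ⟨η, h2, h1, h3⟩
        · rintro ⟨η, h2, h1, h3⟩
          exact ⟨h1, η, h2, h3⟩
      rw [hset]
      exact Set.Finite.biUnion (Finset.finite_toSet _) (fun η hη => hfin' η s (hTs η hη).2.2)
    refine Groth.Agent.Lib.Helper85.CycBilin.pull_interProd_bilin f δX δY e n m ⇑α ⇑β ζ
      hfinS.toFinset hfinT.toFinset hfinS'.toFinset hfinT'.toFinset ?_ ?_ ?_ ?_ ?_ ?_ ?_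
    · intro ξ h1 h2
      rw [Set.Finite.mem_toFinset]
      exact ⟨h1, h2⟩
    · intro η h1 h2
      rw [Set.Finite.mem_toFinset]
      exact ⟨h1, h2⟩
    · intro x hx
      rw [Set.Finite.mem_toFinset] at hx
      exact hx.1
    · intro x hx
      rw [Set.Finite.mem_toFinset] at hx
      exact hx.1
    · intro ξ hξ x h1 h2
      rw [Set.Finite.mem_toFinset]
      exact ⟨h1, ξ, hξ, h2⟩
    · intro η hη x h1 h2
      rw [Set.Finite.mem_toFinset]
      exact ⟨h1, η, hη, h2⟩
    · intro ξ hξ η hη _ _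
      obtain ⟨hξ1, hξ2, hξ3⟩ := hSr ξ hξ
      obtain ⟨hη1, hη2, hη3⟩ := hTs η hη
      have hrs : ∀ y : Y,
          Nontrivial ((Groth.Agent.Lib.Helper85.PtSheaf.ptSheaf ξ).presheaf.stalk y) →
          Nontrivial ((Groth.Agent.Lib.Helper85.PtSheaf.ptSheaf η).presheaf.stalk y) →
          δY y ≤ r + s - m := by
        intro y h1 h2
        have h3 := hprop ξ η y hξ2 hη2
          (Groth.Agent.Lib.Helper85.PtSheaf.specializes_of_nontrivial_stalk ξ y h1)
          (Groth.Agent.Lib.Helper85.PtSheaf.specializes_of_nontrivial_stalk η y h2)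
        omega
      have key := (Groth.Agent.S6471.result K X Y f gX gY hf δX δY hX hY hδX hδY hδ n m hn hm e he
        hrel (Groth.Agent.Lib.Helper85.PtSheaf.ptSheaf ξ)
        (Groth.Agent.Lib.Helper85.PtSheaf.ptSheaf η)
        (Groth.Agent.Lib.Helper85.PtSheaf.isCoh_ptSheaf ξ)
        (Groth.Agent.Lib.Helper85.PtSheaf.isCoh_ptSheaf η) r s
        (hbound ξ r hξ3) (hbound η s hη3) hrs).2
      rw [Groth.Agent.Lib.Helper85.PtSheaf.sheafFun_ptSheaf δY hdimY ξ r hξ3,
        Groth.Agent.Lib.Helper85.PtSheaf.sheafFun_ptSheaf δY hdimY η s hη3,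
        ← hpull ξ r hξ3, ← hpull η s hη3] at key
      exact congrFun key ζ

end Groth.Agent.S6451
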