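import Groth.Statements.S6453
-- import your own Groth.Agent.* helpers here
import Groth.Agent.Lib.Helper85.IntMult.Geom
import Groth.Agent.Lib.Helper85.IntMult.Alg

set_option autoImplicit false
universe u
open CategoryTheory AlgebraicGeometry
attribute [local instance] HasDerivedCategory.standard
open IntMult

namespace Groth.Agent.S6453

/-- Suppose the ideal of V in O_{X,ξ} is generated by a single nonzerodivisor g (c = 1: V is an
effective Cartier divisor at ξ). Then e(X, V·W, Z) = length_{O_{X,ξ}}(O_{W,ξ}/g O_{W,ξ}), i.e. the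
length of O_{X,ξ}/(I_{W,ξ} + (g)). Here X is a nonsingular variety over an algebraically closed
field K (smooth, separated, quasi-compact, integral), V and W are closed subvarieties given by
quasi-coherent ideal sheaves with integral subschemes, of dimensions r and s with dim X = n,
intersecting properly, and ξ is the generic point of an irreducible component Z of V ∩ W (a point of
V ∩ W maximal under specialization); e(X, V·W, Z) = IntMult.mult is the alternating sum of lengths
of Tor over O_{X,ξ}, and O_{W,ξ} = O_{X,ξ}/I_{W,ξ}. -/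
theorem result (K : Type u) [Field K] [IsAlgClosed K] (X : Scheme.{u}) (f : X ⟶ Spec (CommRingCat.of K)) [Smooth f] [IsSeparated f] [QuasiCompact f] [IsIntegral X] (IV IW : X.IdealSheafData) [IsIntegral IV.subscheme] [IsIntegral IW.subscheme] (n r s : ℕ) (hn : topologicalKrullDim X = n) (hr : topologicalKrullDim IV.support = r) (hs : topologicalKrullDim IW.support = s) (hprop : IntMult.ProperInt (IV.support : Set X) (IW.support : Set X) n r s) (ξ : X) (hξV : ξ ∈ IV.support) (hξW : ξ ∈ IW.support) (hmax : ∀ ξ' : X, ξ' ∈ IV.support → ξ' ∈ IW.support → ξ' ⤳ ξ → ξ' = ξ) (g : ↑(X.presheaf.stalk ξ)) (hg : IntMult.stalkIdeal IV ξ = Ideal.span {g}) (hreg : IsSMulRegular (↑(X.presheaf.stalk ξ)) g) : (IntMult.mult IV IW ξ : ℤ) = (Module.length (X.presheaf.stalk ξ) (↑(X.presheaf.stalk ξ) ⧸ (IntMult.stalkIdeal IW ξ ⊔ Ideal.span {g}))).toNat := by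
  have : IsLocallyNoetherian X := LocallyOfFiniteType.isLocallyNoetherian f
  obtain ⟨a, p, q, d, ha, hp, hq, had, hpd, hqd, hle⟩ :=
    Groth.Agent.Lib.Helper85.IntMultGeom.exists_dims f IV IW n r s hn hr hs hprop ξ hξV hξW
  have hQp : (IntMult.stalkIdeal IW ξ).IsPrime := Groth.Agent.Lib.Helper85.IntMultGeom.stalkIdeal_isPrime IW hξW
  -- `g` lies in the maximal ideal
  have hgm : g ∈ IsLocalRing.maximalIdeal (X.presheaf.stalk ξ) := by
    have h1 : IntMult.stalkIdeal IV ξ ≤ IsLocalRing.maximalIdeal (X.presheaf.stalk ξ) :=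
      IsLocalRing.le_maximalIdeal (Groth.Agent.Lib.Helper85.IntMultGeom.stalkIdeal_ne_top hξV)
    apply h1
    rw [hg]
    exact Ideal.mem_span_singleton_self g
  -- dimensions: `p + 1 = a`
  have h1 := ringKrullDim_quotient_span_singleton_succ_eq_ringKrullDim hreg hgm
  rw [← hg, hp, ha] at h1
  have hpa : p + 1 = a := by exact_mod_cast h1
  have hq1 : 1 ≤ q := by omega
  -- `g ∉ Q`
  have hgQ : g ∉ IntMult.stalkIdeal IW ξ := by
    intro hmem
    have hle' : IntMult.stalkIdeal IV ξ ⊔ IntMult.stalkIdeal IW ξ ≤ IntMult.stalkIdeal IW ξ := by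
      refine sup_le ?_ le_rfl
      rw [hg, Ideal.span_singleton_le_iff_mem]
      exact hmem
    have hQm := Groth.Agent.Lib.Helper85.IntMultGeom.eq_maximalIdeal_of_sup_le IV IW ξ hξV hξW hmax (IntMult.stalkIdeal IW ξ) hle'
    have h0 : ringKrullDim (↑(X.presheaf.stalk ξ) ⧸ IntMult.stalkIdeal IW ξ) = 0 := by
      rw [hQm]
      exact ringKrullDim_eq_zero_of_isField
        ((Ideal.Quotient.maximal_ideal_iff_isField_quotient _).mp
          (IsLocalRing.maximalIdeal.isMaximal _))
    rw [hq] at h0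
    have : q = 0 := by exact_mod_cast h0
    omega
  -- regularity on `A/Q`
  have hregQ : IsSMulRegular (↑(X.presheaf.stalk ξ) ⧸ IntMult.stalkIdeal IW ξ) g := by
    intro x y hxy
    have hxy' : Ideal.Quotient.mk (IntMult.stalkIdeal IW ξ) g * x =
        Ideal.Quotient.mk (IntMult.stalkIdeal IW ξ) g * y := hxy
    have hne : Ideal.Quotient.mk (IntMult.stalkIdeal IW ξ) g ≠ 0 := by
      rw [Ne, Ideal.Quotient.eq_zero_iff_mem]
      exact hgQ
    exact mul_left_cancel₀ hne hxy'
  have hofFn : List.ofFn ![g] = [g] := by simp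
  have hrange : Ideal.span (Set.range ![g]) = Ideal.span {g} := by simp
  have hwA : RingTheory.Sequence.IsWeaklyRegular (↑(X.presheaf.stalk ξ)) (List.ofFn ![g]) := by
    rw [hofFn, RingTheory.Sequence.isWeaklyRegular_cons_iff]
    exact ⟨hreg, RingTheory.Sequence.IsWeaklyRegular.nil _ _⟩
  have hwQ : RingTheory.Sequence.IsWeaklyRegular
      (↑(X.presheaf.stalk ξ) ⧸ IntMult.stalkIdeal IW ξ) (List.ofFn ![g]) := by
    rw [hofFn, RingTheory.Sequence.isWeaklyRegular_cons_iff]
    exact ⟨hregQ, RingTheory.Sequence.IsWeaklyRegular.nil _ _⟩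
  have key := Groth.Agent.Lib.Helper85.IntMultAlg.intMult_chi_eq_length ![g] hwA (IntMult.stalkIdeal IW ξ) hwQ
  rw [hrange] at key
  unfold IntMult.mult
  rw [hg]
  exact key

end Groth.Agent.S6453
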