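import Groth.Statements.S6454
-- import your own Groth.Agent.* helpers here
import Groth.Agent.Lib.Helper85.IntMult.C1Tensor

set_option autoImplicit false
universe u
open CategoryTheory AlgebraicGeometry
open Cyc

namespace Groth.Agent.S6454

/-- Let L, N be invertible O_X-modules and α a (k + 1)-cycle on X. Then c_1(L) ∩ α + c_1(N) ∩ α = c_1(L
⊗ N) ∩ α in CH_k(X): for any nonzero rational sections used to compute the three caps (the tensor
product is CohB1.tensorMod), the sum of the first two k-cycles is rationally equivalent to the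
third. Here L(ξ) = L_ξ/𝔪_ξ L_ξ is the space of rational sections of L on the closure of ξ,
div_{L|W}(s) and c_1(L) ∩ α are computed as coefficient functions from chosen nonzero rational
sections (Cyc.secDivFun, Cyc.c1CapFun), and results are compared up to rational equivalence for any
cycles with those coefficients. A pair (X, δ) with Cyc.IsSetup plays the role of a scheme locally of
finite type over the base (S, δ) (X locally Noetherian with universally catenary local rings, δ a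
dimension function). -/
theorem result (X : Scheme.{u}) (δ : X → ℤ) (hX : Cyc.IsSetup X δ) (L N : X.Modules) (hL : PicF.IsInvertible L) (hN : PicF.IsInvertible N) (k : ℤ) (α : AlgebraicCycle X ℤ) (hα : α ∈ Cyc.Zk X δ (k + 1)) (sL : (ξ : X) → Cyc.secFibre L ξ) (hsL : ∀ ξ, sL ξ ≠ 0) (sN : (ξ : X) → Cyc.secFibre N ξ) (hsN : ∀ ξ, sN ξ ≠ 0) (sT : (ξ : X) → Cyc.secFibre (CohB1.tensorMod L N) ξ) (hsT : ∀ ξ, sT ξ ≠ 0) (γL γN γT : AlgebraicCycle X ℤ) (hγL : ⇑γL = Cyc.c1CapFun δ L ⇑α sL) (hγN : ⇑γN = Cyc.c1CapFun δ N ⇑α sN) (hγT : ⇑γT = Cyc.c1CapFun δ (CohB1.tensorMod L N) ⇑α sT) : Cyc.RatEquiv δ k (γL + γN) γT := by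
  classical
  have hbas : ∀ x : X, ∃ (V : X.Opens) (_ : x ∈ V) (τL : Γ(L, V)) (τN : Γ(N, V)),
      Groth.Agent.Lib.Helper45.IsBasisOn L V τL ∧ Groth.Agent.Lib.Helper45.IsBasisOn N V τN := by
    intro x
    obtain ⟨V1, hx1, t1, ht1⟩ := Groth.Agent.Lib.Helper45.exists_isBasisOn_of_isInvertible hL x
    obtain ⟨V2, hx2, t2, ht2⟩ := Groth.Agent.Lib.Helper45.exists_isBasisOn_of_isInvertible hN x
    exact ⟨V1 ⊓ V2, ⟨hx1, hx2⟩, Groth.Agent.Lib.Helper49.mres L inf_le_left t1,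
      Groth.Agent.Lib.Helper49.mres N inf_le_right t2, ht1.mono _, ht2.mono _⟩
  choose V hxV τL τN hτL hτN using hbas
  have hτT : ∀ ξ, Groth.Agent.Lib.Helper45.IsBasisOn (CohB1.tensorMod L N) (V ξ)
      (Groth.Agent.Lib.Helper11.GenLocus.tm L N (V ξ) (τL ξ) (τN ξ)) :=
    fun ξ => Groth.Agent.Lib.Helper11.GenLocus.isBasisOn_tm (hτL ξ) (hτN ξ)
  have hcoL : ∀ ξ, ∃ a : X.presheaf.stalk ξ, sL ξ =
      Submodule.Quotient.mk (a • L.presheaf.germ (V ξ) ξ (hxV ξ) (τL ξ)) :=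
    fun ξ => Groth.Agent.Lib.Helper85.C1Tensor.exists_coord (hτL ξ) ξ (hxV ξ) (sL ξ)
  choose a ha using hcoL
  have hcoN : ∀ ξ, ∃ b : X.presheaf.stalk ξ, sN ξ =
      Submodule.Quotient.mk (b • N.presheaf.germ (V ξ) ξ (hxV ξ) (τN ξ)) :=
    fun ξ => Groth.Agent.Lib.Helper85.C1Tensor.exists_coord (hτN ξ) ξ (hxV ξ) (sN ξ)
  choose b hb using hcoN
  have hcoT : ∀ ξ, ∃ c : X.presheaf.stalk ξ, sT ξ =
      Submodule.Quotient.mk (c • (CohB1.tensorMod L N).presheaf.germ (V ξ) ξ (hxV ξ)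
        (Groth.Agent.Lib.Helper11.GenLocus.tm L N (V ξ) (τL ξ) (τN ξ))) :=
    fun ξ => Groth.Agent.Lib.Helper85.C1Tensor.exists_coord (hτT ξ) ξ (hxV ξ) (sT ξ)
  choose c hc using hcoT
  have hane : ∀ ξ, X.residue ξ (a ξ) ≠ 0 := fun ξ =>
    Groth.Agent.Lib.Helper85.C1Tensor.residue_coord_ne_zero (hτL ξ) ξ (hxV ξ) (a ξ)
      (by rw [← ha ξ]; exact hsL ξ)
  have hbne : ∀ ξ, X.residue ξ (b ξ) ≠ 0 := fun ξ =>
    Groth.Agent.Lib.Helper85.C1Tensor.residue_coord_ne_zero (hτN ξ) ξ (hxV ξ) (b ξ)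
      (by rw [← hb ξ]; exact hsN ξ)
  have hcne : ∀ ξ, X.residue ξ (c ξ) ≠ 0 := fun ξ =>
    Groth.Agent.Lib.Helper85.C1Tensor.residue_coord_ne_zero (hτT ξ) ξ (hxV ξ) (c ξ)
      (by rw [← hc ξ]; exact hsT ξ)
  have hF : ∀ ξ, (X.residue ξ (c ξ) / (X.residue ξ (a ξ) * X.residue ξ (b ξ))) ^ (-1 : ℤ) ≠ 0 :=
    fun ξ => zpow_ne_zero _ (div_ne_zero (hcne ξ) (mul_ne_zero (hane ξ) (hbne ξ)))
  unfold Cyc.RatEquiv
  apply Groth.Agent.Lib.Helper85.C1Tensor.ratEquivZero_of_finsum_divFun δ k α hα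
    (fun ξ => (X.residue ξ (c ξ) / (X.residue ξ (a ξ) * X.residue ξ (b ξ))) ^ (-1 : ℤ)) hF
  intro x
  have e1 : (γL + γN - γT) x = γL x + γN x - γT x := by
    rw [Function.locallyFinsuppWithin.coe_sub, Function.locallyFinsuppWithin.coe_add]
    rfl
  rw [e1, hγL, hγN, hγT]
  unfold Cyc.c1CapFun
  have fL := Groth.Agent.Lib.Helper85.C1Tensor.finite_support_c1Cap δ L α sL x
  have fN := Groth.Agent.Lib.Helper85.C1Tensor.finite_support_c1Cap δ N α sN x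
  have fT := Groth.Agent.Lib.Helper85.C1Tensor.finite_support_c1Cap δ (CohB1.tensorMod L N) α sT x
  rw [← finsum_add_distrib fL fN,
    ← finsum_sub_distrib ((fL.union fN).subset (Function.support_add _ _)) fT]
  apply finsum_congr
  intro ξ
  simp only
  rw [Groth.Agent.Lib.Helper85.SecOrd.divFun_zpow _ _ _
    (div_ne_zero (hcne ξ) (mul_ne_zero (hane ξ) (hbne ξ)))]
  unfold Cyc.secDivFun Cyc.divFun
  by_cases hcnd : ξ ⤳ x ∧ δ x + 1 = δ ξ
  · rw [dif_pos hcnd, dif_pos hcnd, dif_pos hcnd, dif_pos hcnd]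
    have key := Groth.Agent.Lib.Helper85.C1Tensor.secOrdAt_tensor (hτL x) (hτN x) (hτL ξ) (hτN ξ)
      x (hxV x) ξ (hxV ξ) hcnd.1 (a ξ) (b ξ) (c ξ) (hane ξ) (hbne ξ) (hcne ξ)
    rw [← ha ξ, ← hb ξ, ← hc ξ] at key
    rw [key]
    ring
  · rw [dif_neg hcnd, dif_neg hcnd, dif_neg hcnd, dif_neg hcnd]
    ring

end Groth.Agent.S6454
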