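import Groth.Statements.S6455
-- import your own Groth.Agent.* helpers here
import Groth.Agent.Lib.Helper85.IntMult.SecOrd

set_option autoImplicit false
universe u
open CategoryTheory AlgebraicGeometry
open Cyc

namespace Groth.Agent.S6455

/-- c_1(O_X) ∩ α = 0 in CH_k(X) for every (k + 1)-cycle α: computed with any nonzero rational sections
of the structure sheaf, the k-cycle c_1(O_X) ∩ α is rationally equivalent to zero. Here L(ξ) =
L_ξ/𝔪_ξ L_ξ is the space of rational sections of L on the closure of ξ, div_{L|W}(s) and c_1(L) ∩ α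
are computed as coefficient functions from chosen nonzero rational sections (Cyc.secDivFun,
Cyc.c1CapFun), and results are compared up to rational equivalence for any cycles with those
coefficients. A pair (X, δ) with Cyc.IsSetup plays the role of a scheme locally of finite type over
the base (S, δ) (X locally Noetherian with universally catenary local rings, δ a dimension
function). -/
theorem result (X : Scheme.{u}) (δ : X → ℤ) (hX : Cyc.IsSetup X δ) (k : ℤ) (α : AlgebraicCycle X ℤ) (hα : α ∈ Cyc.Zk X δ (k + 1)) (s : (ξ : X) → Cyc.secFibre (Coh.structureModule X) ξ) (hs : ∀ ξ, s ξ ≠ 0) (γ : AlgebraicCycle X ℤ) (hγ : ⇑γ = Cyc.c1CapFun δ (Coh.structureModule X) ⇑α s) : Cyc.RatEquivZero δ k γ := by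
  classical
  have hw : ∀ ξ : X, ∃ w : X.presheaf.stalk ξ,
      s ξ = Submodule.Quotient.mk (w • Groth.Agent.Lib.Helper45.RefHullStalk.oneGerm ξ) := by
    intro ξ
    obtain ⟨z, hz⟩ := Submodule.Quotient.mk_surjective _ (s ξ)
    obtain ⟨w, rfl⟩ := Groth.Agent.Lib.Helper85.SecOrd.exists_eq_smul_oneGerm ξ z
    exact ⟨w, hz.symm⟩
  choose w hw using hw
  have hwne : ∀ ξ, X.residue ξ (w ξ) ≠ 0 := by
    intro ξ h0
    have h1 : w ξ ∈ IsLocalRing.maximalIdeal (X.presheaf.stalk ξ) :=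
      (IsLocalRing.residue_eq_zero_iff _).mp h0
    apply hs ξ
    rw [hw ξ, Submodule.Quotient.mk_eq_zero]
    exact (Groth.Agent.Lib.Helper85.SecOrd.smul_oneGerm_mem_iff ξ (w ξ)).mpr h1
  have hsec : ∀ ξ x, Cyc.secDivFun δ (Coh.structureModule X) ξ (s ξ) x =
      Cyc.divFun δ ξ (X.residue ξ (w ξ)) x := by
    intro ξ x
    unfold Cyc.secDivFun Cyc.divFun
    by_cases hc : ξ ⤳ x ∧ δ x + 1 = δ ξ
    · rw [dif_pos hc, dif_pos hc, hw ξ]
      exact Groth.Agent.Lib.Helper85.SecOrd.secOrdAt_structure ξ x hc.1 (w ξ)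
    · rw [dif_neg hc, dif_neg hc]
  refine ⟨{ξ : X // α ξ ≠ 0}, fun i => i.1, fun i => (X.residue i.1 (w i.1)) ^ (α i.1),
    ?_, ?_, ?_, ?_⟩
  · intro i
    by_contra hne
    exact i.2 (hα i.1 hne)
  · intro i
    exact zpow_ne_zero _ (hwne i.1)
  · intro x
    obtain ⟨t, ht, hfin⟩ := α.supportLocallyFiniteWithinDomain' x (Set.mem_univ x)
    obtain ⟨U, hUt, hUo, hxU⟩ := mem_nhds_iff.mp ht
    refine ⟨U, hUo, hxU, ?_⟩
    apply Set.Finite.of_finite_image (f := Subtype.val) ?_ Subtype.val_injective.injOn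
    apply hfin.subset
    rintro _ ⟨i, ⟨y, hy, hyU⟩, rfl⟩
    have hsp : i.1 ⤳ y := specializes_iff_mem_closure.mpr hy
    exact ⟨hUt (hsp.mem_open hUo hyU), i.2⟩
  · intro x
    rw [hγ]
    unfold Cyc.c1CapFun
    simp only [hsec]
    rw [← Groth.Agent.Lib.Helper85.SecOrd.finsum_subtype_of_support_subset
      (fun ξ => α ξ * Cyc.divFun δ ξ (X.residue ξ (w ξ)) x) (fun ξ => α ξ ≠ 0)
      (fun ξ hne h0 => hne (by rw [h0, zero_mul]))]
    apply finsum_congr
    intro i
    rw [Groth.Agent.Lib.Helper85.SecOrd.divFun_zpow _ _ _ (hwne i.1)]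

end Groth.Agent.S6455
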