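import Groth.Statements.S6459
import Mathlib

set_option autoImplicit false
universe u
open CategoryTheory AlgebraicGeometry
open Cyc

namespace Groth.Agent.S6459

/-- (b) ⇔ (c): let X be integral with generic point η and Z ⊂ X an integral closed subscheme with
generic point ξ. Then Z has codimension 1 in X (the local ring O_{X,ξ} is one-dimensional; Z is a
prime divisor) if and only if dim_δ(Z) = dim_δ(X) − 1. Here a pair (X, δ) with Cyc.IsSetup plays the
role of a scheme locally of finite type over the base (S, δ) (X locally Noetherian with universally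
catenary local rings, δ a dimension function). -/
theorem result (X : Scheme.{u}) [IsIntegral X] (δ : X → ℤ) (hX : Cyc.IsSetup X δ) (ξ : X) : ringKrullDim ↑(X.presheaf.stalk ξ) = 1 ↔ δ ξ = δ (genericPoint X) - 1 := by
  classical
  obtain ⟨-, -, hdim⟩ := hX
  set η := genericPoint X with hη
  set R := X.presheaf.stalk ξ with hR
  let j := X.fromSpecStalk ξ
  have hemb : Topology.IsEmbedding j := (X.fromSpecStalk ξ).isEmbedding
  have hinj : Function.Injective j := hemb.injective
  have hle : ∀ p q : PrimeSpectrum R, p ≤ q ↔ j p ⤳ j q := by
    intro p q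
    rw [PrimeSpectrum.le_iff_specializes]
    exact (hemb.isInducing.specializes_iff).symm
  have hrange : ∀ z : X, z ⤳ ξ ↔ ∃ p : PrimeSpectrum R, j p = z := by
    intro z
    have := Set.ext_iff.mp (Scheme.range_fromSpecStalk (X := X) (x := ξ)) z
    exact this.symm
  have hjξ : ∀ p : PrimeSpectrum R, j p ⤳ ξ := fun p => (hrange _).mpr ⟨p, rfl⟩
  have hgen : ∀ z : X, η ⤳ z := fun z => genericPoint_specializes z
  have hclosed : j (IsLocalRing.closedPoint R) = ξ := Scheme.fromSpecStalk_closedPoint
  obtain ⟨pη, hpη⟩ := (hrange η).mp (hgen ξ)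
  have hkd : ringKrullDim R = Order.krullDim (PrimeSpectrum R) := rfl
  rw [hkd]
  constructor
  · intro h1
    have hge : (1 : WithBot ℕ∞) ≤ Order.krullDim (PrimeSpectrum R) := h1.ge
    have hle1 : Order.krullDim (PrimeSpectrum R) ≤ 1 := h1.le
    rw [Order.one_le_krullDim_iff] at hge
    rw [Order.krullDim_le_one_iff] at hle1
    obtain ⟨p, q, hpq⟩ := hge
    have hne : η ≠ ξ := by
      intro heq
      have hjη : ∀ p : PrimeSpectrum R, j p ⤳ η := fun p => by rw [heq]; exact hjξ p
      have hp : j p = η := ((hjη p).antisymm (hgen _)).eq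
      have hq : j q = η := ((hjη q).antisymm (hgen _)).eq
      have : p = q := hinj (hp.trans hq.symm)
      exact hpq.ne this
    obtain ⟨-, himm⟩ := hdim η ξ (hgen ξ) hne
    have := himm (by
      intro z hz1 hz2
      obtain ⟨pz, hpz⟩ := (hrange z).mp hz2
      rcases hle1 pz with hmin | hmax
      · left
        have h2 : pη ≤ pz := by rw [hle, hpη, hpz]; exact hz1
        have h3 : pz ≤ pη := hmin h2
        rw [hle, hpη, hpz] at h3
        exact (h3.antisymm hz1).eq
      · right
        have h2 : pz ≤ IsLocalRing.closedPoint R := by rw [hle, hclosed, hpz]; exact hz2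
        have h3 : IsLocalRing.closedPoint R ≤ pz := hmax h2
        rw [hle, hclosed, hpz] at h3
        exact (hz2.antisymm h3).eq)
    omega
  · intro hδ
    have hne : η ≠ ξ := by
      intro heq
      rw [← heq] at hδ
      omega
    apply le_antisymm
    · rw [Order.krullDim_le_one_iff]
      intro p
      have hz1 : η ⤳ j p := hgen _
      have hz2 : j p ⤳ ξ := hjξ p
      by_cases h1 : j p = η
      · left
        intro q hq
        have h2 : j q ⤳ j p := (hle q p).mp hq
        rw [h1] at h2
        have h3 : j q = η := (h2.antisymm (hgen _)).eq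
        have : q = p := hinj (h3.trans h1.symm)
        exact this ▸ le_refl _
      · by_cases h2 : j p = ξ
        · right
          intro q hq
          have h3 : j p ⤳ j q := (hle p q).mp hq
          rw [h2] at h3
          have h4 : j q = ξ := ((hjξ q).antisymm h3).eq
          have : q = p := hinj (h4.trans h2.symm)
          exact this ▸ le_refl _
        · exfalso
          have := (hdim η (j p) hz1 (Ne.symm h1)).1
          have := (hdim (j p) ξ hz2 h2).1
          omega
    · rw [Order.one_le_krullDim_iff]
      refine ⟨pη, IsLocalRing.closedPoint R, lt_of_le_of_ne ?_ ?_⟩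
      · rw [hle, hpη, hclosed]; exact hgen ξ
      · intro heq
        apply hne
        rw [← hpη, heq, hclosed]

end Groth.Agent.S6459
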