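import Groth.Statements.S6458
import Mathlib
import Groth.Agent.S6459

set_option autoImplicit false
universe u
open CategoryTheory AlgebraicGeometry
open Cyc

namespace Groth.Agent.S6458

theorem aux {R : Type*} [CommRing R] [IsLocalRing R] [IsNoetherianRing R] [IsDomain R] (g : R)
    (hg0 : g ≠ 0) (hgm : g ∈ IsLocalRing.maximalIdeal R)
    (hdim : ringKrullDim (R ⧸ Ideal.span {g}) = 0) : ringKrullDim R = 1 := by
  classical
  have hK0 : Ring.KrullDimLE 0 (R ⧸ Ideal.span {g}) := by
    rw [Ring.krullDimLE_iff, hdim]; simp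
  have hmin : IsLocalRing.maximalIdeal R ∈ (Ideal.span {g}).minimalPrimes := by
    rw [Ideal.minimalPrimes, Set.mem_ofPred]
    refine ⟨⟨inferInstance, ?_⟩, ?_⟩
    · rw [Ideal.span_singleton_le_iff_mem]; exact hgm
    · rintro p ⟨hp, hgp⟩ -
      have hker : RingHom.ker (Ideal.Quotient.mk (Ideal.span {g})) ≤ p := by
        rw [Ideal.mk_ker]; exact hgp
      have hp' : (p.map (Ideal.Quotient.mk (Ideal.span {g}))).IsPrime :=
        Ideal.map_isPrime_of_surjective Ideal.Quotient.mk_surjective hker
      have hmax : (p.map (Ideal.Quotient.mk (Ideal.span {g}))).IsMaximal :=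
        Ring.krullDimLE_zero_iff.mp hK0 _ hp'
      have hcomap : (p.map (Ideal.Quotient.mk (Ideal.span {g}))).comap
          (Ideal.Quotient.mk (Ideal.span {g})) = p := by
        rw [Ideal.comap_map_of_surjective _ Ideal.Quotient.mk_surjective]
        rw [← RingHom.ker_eq_comap_bot]
        exact sup_eq_left.mpr hker
      have hpmax : p.IsMaximal := by
        rw [← hcomap]
        exact Ideal.comap_isMaximal_of_surjective _ Ideal.Quotient.mk_surjective
      rw [IsLocalRing.eq_maximalIdeal hpmax]
  have hht : (IsLocalRing.maximalIdeal R).height ≤ 1 :=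
    Ideal.height_le_one_of_isPrincipal_of_mem_minimalPrimes (Ideal.span {g}) _ hmin
  apply le_antisymm
  · rw [← IsLocalRing.maximalIdeal_height_eq_ringKrullDim]
    exact_mod_cast hht
  · have hkd : ringKrullDim R = Order.krullDim (PrimeSpectrum R) := rfl
    rw [hkd, Order.one_le_krullDim_iff]
    refine ⟨⟨⊥, Ideal.isPrime_bot⟩, ⟨IsLocalRing.maximalIdeal R, inferInstance⟩, ?_⟩
    rw [← PrimeSpectrum.asIdeal_lt_asIdeal]
    show (⊥ : Ideal R) < IsLocalRing.maximalIdeal R
    rw [bot_lt_iff_ne_bot]
    intro h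
    rw [h] at hgm
    exact hg0 hgm


/-- Let X be integral with generic point η and ξ the generic point of an irreducible component of an
effective Cartier divisor on X; locally: g ∈ 𝔪_ξ ⊂ O_{X,ξ} is nonzero and O_{X,ξ}/(g) is
zero-dimensional. Then dim_δ of the closure of ξ is dim_δ(X) − 1, i.e. δ(ξ) = δ(η) − 1. Here a pair
(X, δ) with Cyc.IsSetup plays the role of a scheme locally of finite type over the base (S, δ) (X
locally Noetherian with universally catenary local rings, δ a dimension function). -/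
theorem result (X : Scheme.{u}) [IsIntegral X] (δ : X → ℤ) (hX : Cyc.IsSetup X δ) (ξ : X) (g : ↑(X.presheaf.stalk ξ)) (hg0 : g ≠ 0) (hgm : g ∈ IsLocalRing.maximalIdeal (X.presheaf.stalk ξ)) (hdim : ringKrullDim (↑(X.presheaf.stalk ξ) ⧸ Ideal.span {g}) = 0) : δ ξ = δ (genericPoint X) - 1 := by
  rw [← Groth.Agent.S6459.result X δ hX ξ]
  have hN : IsLocallyNoetherian X := hX.1
  exact aux g hg0 hgm hdim

end Groth.Agent.S6458
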