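import Groth.Statements.S6460
import Mathlib

set_option autoImplicit false
universe u
open CategoryTheory AlgebraicGeometry
open Cyc

namespace Groth.Agent.S6460

/-- In a Noetherian quasi-sober T0 space, every point `x` has an open neighbourhood `W` such that
every `y ∈ W` has a maximal generization that also generizes `x`. -/
theorem key (α : Type*) [TopologicalSpace α] [QuasiSober α] [T0Space α]
    [TopologicalSpace.NoetherianSpace α] (x : α) :
    ∃ W : Set α, IsOpen W ∧ x ∈ W ∧ ∀ y ∈ W, ∃ ξ : α, (∀ ξ' : α, ξ' ⤳ ξ → ξ' = ξ) ∧ ξ ⤳ y ∧ ξ ⤳ x := by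
  classical
  have hfin : (irreducibleComponents α).Finite :=
    TopologicalSpace.NoetherianSpace.finite_irreducibleComponents
  let S : Set (Set α) := {Z ∈ irreducibleComponents α | x ∉ Z}
  have hSfin : S.Finite := hfin.subset (fun Z hZ => hZ.1)
  have hclosed : IsClosed (⋃₀ S) := by
    rw [Set.sUnion_eq_biUnion]
    exact hSfin.isClosed_biUnion (fun Z hZ => isClosed_of_mem_irreducibleComponents Z hZ.1)
  refine ⟨(⋃₀ S)ᶜ, hclosed.isOpen_compl, ?_, ?_⟩
  · rintro ⟨Z, hZ, hxZ⟩
    exact hZ.2 hxZ
  · intro y hy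
    have hZmem := irreducibleComponent_mem_irreducibleComponents y
    have hyZ : y ∈ irreducibleComponent y := mem_irreducibleComponent
    have hxZ : x ∈ irreducibleComponent y := by
      by_contra hx
      exact hy ⟨irreducibleComponent y, ⟨hZmem, hx⟩, hyZ⟩
    have hirr : IsIrreducible (irreducibleComponent y) := isIrreducible_irreducibleComponent
    have hcl : IsClosed (irreducibleComponent y) := isClosed_irreducibleComponent
    obtain ⟨ξ, hξ⟩ := QuasiSober.sober hirr hcl
    have hξcl : closure {ξ} = irreducibleComponent y := hξ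
    refine ⟨ξ, ?_, ?_, ?_⟩
    · intro ξ' h'
      have h1 : closure {ξ} ⊆ closure {ξ'} := by
        rw [specializes_iff_closure_subset] at h'
        exact h'
      have h2 : IsIrreducible (closure ({ξ'} : Set α)) := isIrreducible_singleton.closure
      have h3 : closure ({ξ'} : Set α) ⊆ irreducibleComponent y := by
        have hmax := hZmem
        rw [irreducibleComponents] at hmax
        exact hmax.2 h2 (hξcl ▸ h1)
      have h4 : ξ ⤳ ξ' := by
        rw [specializes_iff_closure_subset, hξcl]
        exact h3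
      exact (h'.antisymm h4).eq
    · rw [specializes_iff_mem_closure, hξcl]; exact hyZ
    · rw [specializes_iff_mem_closure, hξcl]; exact hxZ


/-- (3) ⇒ (1): suppose that for every x ∈ X there is an integer n_x with δ(ξ) = n_x for every generic
point ξ of an irreducible component of X containing x. Then X decomposes into open and closed
subschemes X_n (n ∈ ℤ) such that every irreducible component of X_n has δ-dimension n; stated as the
existence of a locally constant c : X → ℤ with δ(ξ) = c(ξ) for every point ξ that is maximal under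
specialization. (The converse implications are immediate and not stated.) Here a pair (X, δ) with
Cyc.IsSetup plays the role of a scheme locally of finite type over the base (S, δ) (X locally
Noetherian with universally catenary local rings, δ a dimension function). -/
theorem result (X : Scheme.{u}) (δ : X → ℤ) (hX : Cyc.IsSetup X δ) (h3 : ∀ x : X, ∃ n : ℤ, ∀ ξ : X, (∀ ξ' : X, ξ' ⤳ ξ → ξ' = ξ) → ξ ⤳ x → δ ξ = n) : ∃ c : X → ℤ, IsLocallyConstant c ∧ ∀ ξ : X, (∀ ξ' : X, ξ' ⤳ ξ → ξ' = ξ) → δ ξ = c ξ := by
  classical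
  obtain ⟨hN, -, -⟩ := hX
  choose c hc using h3
  have hmaxc : ∀ ξ : X, (∀ ξ' : X, ξ' ⤳ ξ → ξ' = ξ) → δ ξ = c ξ :=
    fun ξ hξ => hc ξ ξ hξ specializes_rfl
  refine ⟨c, ?_, hmaxc⟩
  rw [IsLocallyConstant.iff_exists_open]
  intro x
  -- an affine open neighbourhood of x, Noetherian as a space
  obtain ⟨U, hU, hxU⟩ : ∃ U : X.Opens, IsAffineOpen U ∧ x ∈ U := by
    obtain ⟨_, ⟨U, hU, rfl⟩, hxU, -⟩ :=
      (X.isBasis_affineOpens).exists_subset_of_mem_open (Set.mem_univ x) isOpen_univ
    exact ⟨U, hU, hxU⟩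
  have : IsNoetherianRing Γ(X, U) := IsLocallyNoetherian.component_noetherian ⟨U, hU⟩
  have hNS : TopologicalSpace.NoetherianSpace (U : Set X) := noetherianSpace_of_isAffineOpen U hU
  have hQS : QuasiSober (U : Set X) := U.isOpen.isOpenEmbedding_subtypeVal.quasiSober
  obtain ⟨W, hWo, hxW, hW⟩ := key (U : Set X) ⟨x, hxU⟩
  refine ⟨Subtype.val '' W, U.isOpen.isOpenMap_subtype_val W hWo, ⟨⟨x, hxU⟩, hxW, rfl⟩, ?_⟩
  rintro _ ⟨y, hy, rfl⟩
  obtain ⟨ξ, hξmax, hξy, hξx⟩ := hW y hy
  have hmax : ∀ ξ' : X, ξ' ⤳ (ξ : X) → ξ' = ξ := by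
    intro ξ' h'
    have hmem : ξ' ∈ U := h'.mem_open U.isOpen ξ.2
    have := hξmax ⟨ξ', hmem⟩ (by rw [subtype_specializes_iff]; exact h')
    exact congrArg Subtype.val this
  have h1 : δ ξ = c y := hc y ξ hmax (hξy.map continuous_subtype_val)
  have h2 : δ ξ = c x := hc x ξ hmax (hξx.map continuous_subtype_val)
  exact h1.symm.trans h2

end Groth.Agent.S6460
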