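import Groth.Statements.S6462
-- import your own Groth.Agent.* helpers here
import Groth.Agent.Lib.Helper89.DimFunJacobson

set_option autoImplicit false
universe u
open CategoryTheory AlgebraicGeometry
open Cyc

namespace Groth.Agent.S6462

/-- Assume in addition that X is Jacobson and δ(x) = 0 for every closed point x. For a point ξ of X with
closure Z (an integral closed subscheme whose generic point is ξ) one then has δ(ξ) = dim Z = dim
O_{Z,z} for every closed point z of Z; here Z is the closure of ξ and O_{Z,z} = O_{X,z}/𝔭_ξ
(Cyc.LocQuot). (The published statement takes X locally of finite type over a Jacobson base with δ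
zero on the base's closed points; this row assumes instead that X is Jacobson and δ vanishes on the
closed points of X, which follows from the published hypotheses.) Here a pair (X, δ) with
Cyc.IsSetup plays the role of a scheme locally of finite type over the base (S, δ) (X locally
Noetherian with universally catenary local rings, δ a dimension function). -/
theorem result (X : Scheme.{u}) [JacobsonSpace X] (δ : X → ℤ) (hX : Cyc.IsSetup X δ) (h0 : ∀ x : X, IsClosed ({x} : Set X) → δ x = 0) (ξ : X) : (topologicalKrullDim ↥(closure ({ξ} : Set X)) = ((δ ξ).toNat : WithBot ℕ∞) ∧ 0 ≤ δ ξ) ∧ ∀ (z : X) (h : ξ ⤳ z), IsClosed ({z} : Set X) → ringKrullDim (Cyc.LocQuot z ξ h) = ((δ ξ).toNat : WithBot ℕ∞) := by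
  obtain ⟨hLN, -, hdim⟩ := hX
  refine ⟨⟨Groth.Agent.Lib.Helper89.DimFunJacobson.topologicalKrullDim_closure_eq X δ hdim h0 ξ,
    Groth.Agent.Lib.Helper89.DimFunJacobson.delta_nonneg X δ hdim h0 ξ⟩, ?_⟩
  intro z h hz
  have := Groth.Agent.Lib.Helper89.DimFunJacobson.ringKrullDim_locQuot X δ hdim h
  rw [h0 z hz, sub_zero] at this
  exact this

end Groth.Agent.S6462
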