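import Groth.Statements.S6463
-- import your own Groth.Agent.* helpers here

set_option autoImplicit false
universe u
open CategoryTheory CategoryTheory.Limits AlgebraicGeometry
open PicF

namespace Groth.Agent.S6463

section Aux

variable {k : Type u} [Field k] {X : Scheme.{u}} (f : X ⟶ Spec (CommRingCat.of k))

/-- A rational point forces the global functions of an integral universally closed `k`-scheme to be `k`. -/
theorem isIso_appTop [IsIntegral X] [UniversallyClosed f]
    (σ : Spec (CommRingCat.of k) ⟶ X) (hσ : σ ≫ f = 𝟙 (Spec (CommRingCat.of k))) :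
    IsIso f.appTop := by
  have hfield : IsField Γ(X, ⊤) := isField_of_universallyClosed k f
  have hcomp : f.appTop ≫ σ.appTop = 𝟙 _ := by
    rw [← Scheme.Hom.comp_appTop, hσ, Scheme.Hom.id_appTop]
  letI := hfield.toField
  have hinj : Function.Injective σ.appTop.hom := RingHom.injective _
  have hsurj : Function.Surjective σ.appTop.hom := by
    intro y
    refine ⟨f.appTop.hom y, ?_⟩
    have := congrArg (fun φ => φ.hom y) hcomp
    simpa using this
  have hiso : IsIso σ.appTop := by
    rw [ConcreteCategory.isIso_iff_bijective]
    exact ⟨hinj, hsurj⟩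
  have : f.appTop = inv σ.appTop := by
    rw [← cancel_mono σ.appTop, hcomp, IsIso.inv_hom_id]
  rw [this]
  infer_instance

end Aux

/-- For a field k and a smooth projective curve X over k that has a k-rational point σ, the conditions
under which the Picard functor is computed through the section are met: f : X → Spec k is flat,
proper and of finite presentation with a section, and O_T → f_{T,*} O_{X_T} is an isomorphism for
every scheme T over k. Only the last assertion is stated (the others are part of the hypotheses or
immediate): for every t : T → Spec k, the sheaf map of the base change X ×_k T → T is an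
isomorphism. Proper replaces projective (they agree for curves over a field). -/
theorem result (k : Type u) [Field k] (X : Scheme.{u}) (f : X ⟶ Spec (CommRingCat.of k)) (hX : Curve.IsSmoothProperCurve k X f) (σ : Spec (CommRingCat.of k) ⟶ X) (hσ : σ ≫ f = 𝟙 (Spec (CommRingCat.of k))) (T : Scheme.{u}) (t : T ⟶ Spec (CommRingCat.of k)) : IsIso (pullback.snd f t).c := by
  obtain ⟨hprop, hsm, hint, hdim⟩ := hX
  haveI := hprop
  haveI := hint
  haveI : IsIso f.appTop := isIso_appTop f σ hσ
  haveI : CompactSpace X := (quasiCompact_iff_compactSpace f).mp inferInstance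
  haveI : QuasiSeparatedSpace X := quasiSeparatedSpace_of_quasiSeparated f
  set g := pullback.snd f t with hg
  -- the sheaf morphism
  let φ : T.sheaf ⟶ (TopCat.Sheaf.pushforward CommRingCat g.base).obj (pullback f t).sheaf := ⟨g.c⟩
  suffices h : IsIso φ by
    exact Functor.map_isIso (TopCat.Sheaf.forget CommRingCat T.toTopCat) φ
  refine TopCat.Sheaf.isIso_iff_isIso_basis (B := fun U : T.affineOpens => (U : T.Opens)) ?_ ?_
  · rw [Subtype.range_coe]
    exact T.isBasis_affineOpens
  · intro U
    change IsIso (g.app U.1)
    have H : IsPullback (pullback.fst f t) (pullback.snd f t) f t := IsPullback.of_hasPullback f t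
    have hUST : (U : T.Opens) ≤ t ⁻¹ᵁ (⊤ : (Spec (CommRingCat.of k)).Opens) := by simp
    have hUSX : (⊤ : X.Opens) ≤ f ⁻¹ᵁ (⊤ : (Spec (CommRingCat.of k)).Opens) := by simp
    have hUY : g ⁻¹ᵁ (U : T.Opens) = pullback.fst f t ⁻¹ᵁ (⊤ : X.Opens) ⊓ pullback.snd f t ⁻¹ᵁ (U : T.Opens) := by
      simp [hg]
    have hiso := isIso_pushoutSection_of_isQuasiSeparated_of_flat_right H hUST hUSX hUY
      (isAffineOpen_top _) U.2 isCompact_univ isQuasiSeparated_univ
    rw [isIso_pushoutSection_iff] at hiso
    have hf1 : IsIso (f.appLE ⊤ ⊤ hUSX) := by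
      have : f.appLE ⊤ ⊤ hUSX = f.appTop := by
        simp [Scheme.Hom.appLE, Scheme.Hom.appTop]
      rw [this]
      infer_instance
    have h2 := hiso.isIso_inr_of_isIso
    have : g.appLE U.1 (g ⁻¹ᵁ U.1) le_rfl = g.app U.1 := by
      simp [Scheme.Hom.appLE]
    rw [← this]
    exact h2

end Groth.Agent.S6463
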