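import Groth.Statements.S6464
import Mathlib

set_option autoImplicit false
universe u v
open CycAlg

namespace Groth.Agent.S6464

theorem length_ker_add_range {R : Type u} [CommRing R] {M N : Type v} [AddCommGroup M] [Module R M]
    [AddCommGroup N] [Module R N] (φ : M →ₗ[R] N) :
    Module.length R M =
      Module.length R (LinearMap.ker φ) + Module.length R (LinearMap.range φ) := by
  refine Module.length_eq_add_of_exact (LinearMap.ker φ).subtype φ.rangeRestrict
    (Submodule.subtype_injective _) φ.surjective_rangeRestrict ?_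
  intro y
  constructor
  · intro hy
    exact ⟨⟨y, by rw [LinearMap.mem_ker]; exact congrArg Subtype.val hy⟩, rfl⟩
  · rintro ⟨⟨z, hz⟩, rfl⟩
    exact Subtype.ext hz

theorem length_ker_eq {R : Type u} [CommRing R] {M N : Type v} [AddCommGroup M] [Module R M]
    [AddCommGroup N] [Module R N] (φ : M →ₗ[R] N) (ψ : N →ₗ[R] M)
    (hle : LinearMap.range ψ ≤ LinearMap.ker φ) :
    Module.length R (LinearMap.ker φ) =
      Module.length R (LinearMap.range ψ) + Module.length R (CycAlg.perH φ ψ) := by
  have h1 := Module.length_eq_add_of_exact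
    ((LinearMap.range ψ).submoduleOf (LinearMap.ker φ)).subtype
    ((LinearMap.range ψ).submoduleOf (LinearMap.ker φ)).mkQ
    (Submodule.subtype_injective _) (Submodule.mkQ_surjective _)
    (LinearMap.exact_subtype_mkQ _)
  rw [h1, (Submodule.submoduleOfEquivOfLe hle).length_eq]


/-- Let (M, N, φ, ψ) be a 2-periodic complex over a ring R with M and N of finite length. Then its
cohomology modules have finite length and e_R(M, N, φ, ψ) = length_R(M) − length_R(N). (The case M =
N, where the conclusion reads e_R(M, φ, ψ) = 0, is the special case and is not restated.) -/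
theorem result {R : Type u} [CommRing R] {M N : Type v} [AddCommGroup M] [Module R M] [AddCommGroup N] [Module R N] (φ : M →ₗ[R] N) (ψ : N →ₗ[R] M) (h : CycAlg.IsPeriodic φ ψ) (hM : Module.length R M < ⊤) (hN : Module.length R N < ⊤) : CycAlg.FinCoh R φ ψ ∧ CycAlg.herbrand R φ ψ = ((Module.length R M).toNat : ℤ) - ((Module.length R N).toNat : ℤ) := by
  obtain ⟨hφψ, hψφ⟩ := h
  have hle1 : LinearMap.range ψ ≤ LinearMap.ker φ := by
    rintro _ ⟨y, rfl⟩
    exact LinearMap.congr_fun hφψ y
  have hle2 : LinearMap.range φ ≤ LinearMap.ker ψ := by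
    rintro _ ⟨y, rfl⟩
    exact LinearMap.congr_fun hψφ y
  have e1 := length_ker_add_range φ
  have e2 := length_ker_add_range ψ
  have e3 := length_ker_eq φ ψ hle1
  have e4 := length_ker_eq ψ φ hle2
  unfold CycAlg.FinCoh CycAlg.herbrand
  generalize Module.length R M = lM at *
  generalize Module.length R N = lN at *
  generalize Module.length R (LinearMap.ker φ) = a at *
  generalize Module.length R (LinearMap.range φ) = b at *
  generalize Module.length R (LinearMap.ker ψ) = c at *
  generalize Module.length R (LinearMap.range ψ) = e at *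
  generalize Module.length R (CycAlg.perH φ ψ) = h0 at *
  generalize Module.length R (CycAlg.perH ψ φ) = h1 at *
  have ha : a ≠ ⊤ := by
    intro h; rw [h, top_add] at e1; exact hM.ne e1
  have hb : b ≠ ⊤ := by
    intro h; rw [h, add_top] at e1; exact hM.ne e1
  have hc : c ≠ ⊤ := by
    intro h; rw [h, top_add] at e2; exact hN.ne e2
  have he : e ≠ ⊤ := by
    intro h; rw [h, add_top] at e2; exact hN.ne e2
  have hh0 : h0 ≠ ⊤ := by
    intro h; rw [h, add_top] at e3; exact ha e3
  have hh1 : h1 ≠ ⊤ := by
    intro h; rw [h, add_top] at e4; exact hc e4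
  lift lM to ℕ using hM.ne
  lift lN to ℕ using hN.ne
  lift a to ℕ using ha
  lift b to ℕ using hb
  lift c to ℕ using hc
  lift e to ℕ using he
  lift h0 to ℕ using hh0
  lift h1 to ℕ using hh1
  refine ⟨⟨ENat.natCast_lt_top _, ENat.natCast_lt_top _⟩, ?_⟩
  simp only [ENat.toNat_natCast]
  norm_cast at e1 e2 e3 e4
  omega

end Groth.Agent.S6464
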