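import Groth.Statements.S6472
-- import your own Groth.Agent.* helpers here
import Groth.Agent.Lib.Helper51.VarietySmoothDim
import Groth.Agent.Lib.Helper51.SectionRegSch

set_option autoImplicit false
universe u
open CategoryTheory CategoryTheory.Limits AlgebraicGeometry
open IntMult

namespace Groth.Agent.S6472

/-- Let X be a nonsingular variety of dimension n over the algebraically closed field K. Then Δ : X → X
×_K X, the diagonal, is regular of codimension n as an immersion (RegImm.IsRegularImmersionOfCodim
of kind regular: an immersion which, around every point, in an affine open where it is closed, is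
cut out by a regular sequence of length n). Nonsingular variety: X → Spec K smooth, separated,
quasi-compact, X integral; n = Krull dimension of X. -/
theorem result (K : Type u) [Field K] [IsAlgClosed K] (X : Scheme.{u}) (f : X ⟶ Spec (CommRingCat.of K)) [Smooth f] [IsSeparated f] [QuasiCompact f] [IsIntegral X] (n : ℕ) (hn : topologicalKrullDim X = n) : RegImm.IsRegularImmersionOfCodim RegImm.Kind.regular n (pullback.diagonal f) := by
  have hsm : SmoothOfRelativeDimension n f :=
    Groth.Agent.Lib.Helper51.VarietySmoothDim.smoothOfRelativeDimension_of_variety K X f n hn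
  have hbc := smoothOfRelativeDimension_isStableUnderBaseChange.{u} n
  have hfst : SmoothOfRelativeDimension n (pullback.fst f f) :=
    MorphismProperty.pullback_fst (P := @SmoothOfRelativeDimension n) f f hsm
  have hσ : pullback.diagonal f ≫ pullback.fst f f = 𝟙 X := pullback.diagonal_fst f
  refine ⟨inferInstance, fun x => ?_⟩
  obtain ⟨U', hxU', fs, hlen, hreg, hI⟩ :=
    Groth.Agent.Lib.Helper51.SectionReg.exists_affine_regular_of_section (pullback.fst f f) n
      (pullback.diagonal f) hσ x
  have hker : RingHom.ker ((pullback.diagonal f).app U'.1).hom = Ideal.ofList fs := by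
    rw [← hI, Scheme.Hom.ker_apply]
  refine ⟨U', hxU', inferInstance, fs, hlen, ⟨hreg, ?_⟩, hker⟩
  rw [smul_eq_mul, Ideal.mul_top, ← hker]
  intro htop
  have h1 : (1 : Γ(pullback f f, U'.1)) ∈ RingHom.ker ((pullback.diagonal f).app U'.1).hom := by
    rw [← htop]
    trivial
  rw [RingHom.mem_ker, map_one] at h1
  have hne : Nonempty ((pullback.diagonal f) ⁻¹ᵁ U'.1 : X.Opens) := ⟨⟨x, hxU'⟩⟩
  have hnt : Nontrivial Γ(X, (pullback.diagonal f) ⁻¹ᵁ U'.1) := Scheme.component_nontrivial X _
  exact one_ne_zero h1

end Groth.Agent.S6472
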