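import Groth.Statements.S6476
import Groth.Agent.Lib.Helper27.FinLenDimOne

set_option autoImplicit false
universe u v
open CycAlg

namespace Groth.Agent.S6476

/-- Let A be a Noetherian local ring, M a finite A-module of dimension 1, and φ, ψ : M → M injective
with φ(ψ(M)) = ψ(φ(M)) (e.g. φ, ψ commute). Then length_A(M/φψM) is finite and (M/φψM, φ, ψ) is an
exact (2, 1)-periodic complex; here φ', ψ' denote the endomorphisms of M/φψM induced by φ and ψ, and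
exactness says both cohomology modules (CycAlg.perH) are trivial. -/
theorem result {A : Type u} [CommRing A] [IsNoetherianRing A] [IsLocalRing A] {M : Type v} [AddCommGroup M] [Module A M] [Module.Finite A M] (hdim : Module.supportDim A M = 1) (φ ψ : M →ₗ[A] M) (hφ : Function.Injective φ) (hψ : Function.Injective ψ) (hcomm : Submodule.map φ (LinearMap.range ψ) = Submodule.map ψ (LinearMap.range φ)) (φ' ψ' : (M ⧸ LinearMap.range (φ ∘ₗ ψ)) →ₗ[A] (M ⧸ LinearMap.range (φ ∘ₗ ψ))) (hφ' : φ' ∘ₗ (LinearMap.range (φ ∘ₗ ψ)).mkQ = (LinearMap.range (φ ∘ₗ ψ)).mkQ ∘ₗ φ) (hψ' : ψ' ∘ₗ (LinearMap.range (φ ∘ₗ ψ)).mkQ = (LinearMap.range (φ ∘ₗ ψ)).mkQ ∘ₗ ψ) : Module.length A (M ⧸ LinearMap.range (φ ∘ₗ ψ)) < ⊤ ∧ CycAlg.IsPeriodic φ' ψ' ∧ Subsingleton (CycAlg.perH φ' ψ') ∧ Subsingleton (CycAlg.perH ψ' φ') := by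
  classical
  have hφ'a : ∀ x : M, φ' ((LinearMap.range (φ ∘ₗ ψ)).mkQ x) = (LinearMap.range (φ ∘ₗ ψ)).mkQ (φ x) := fun x => LinearMap.congr_fun hφ' x
  have hψ'a : ∀ x : M, ψ' ((LinearMap.range (φ ∘ₗ ψ)).mkQ x) = (LinearMap.range (φ ∘ₗ ψ)).mkQ (ψ x) := fun x => LinearMap.congr_fun hψ' x
  have hzero : ∀ x : M, (LinearMap.range (φ ∘ₗ ψ)).mkQ x = 0 ↔ x ∈ LinearMap.range (φ ∘ₗ ψ) := fun x => by
    rw [Submodule.mkQ_apply, Submodule.Quotient.mk_eq_zero]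
  have hRmem : ∀ x : M, x ∈ LinearMap.range (φ ∘ₗ ψ) ↔ ∃ y, φ (ψ y) = x := fun x => by
    rw [LinearMap.mem_range]; rfl
  -- range (φ ∘ ψ) = map φ (range ψ) = map ψ (range φ)
  have hR1 : ∀ x : M, x ∈ LinearMap.range (φ ∘ₗ ψ) ↔ ∃ y, ψ (φ y) = x := by
    intro x
    have h1 : x ∈ LinearMap.range (φ ∘ₗ ψ) ↔ x ∈ Submodule.map φ (LinearMap.range ψ) := by
      rw [hRmem]
      constructor
      · rintro ⟨y, rfl⟩; exact ⟨ψ y, ⟨y, rfl⟩, rfl⟩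
      · rintro ⟨z, ⟨y, rfl⟩, rfl⟩; exact ⟨y, rfl⟩
    rw [h1, hcomm]
    constructor
    · rintro ⟨z, ⟨y, rfl⟩, rfl⟩; exact ⟨y, rfl⟩
    · rintro ⟨y, rfl⟩; exact ⟨φ y, ⟨y, rfl⟩, rfl⟩
  refine ⟨?_, ⟨?_, ?_⟩, ?_, ?_⟩
  · -- finite length
    haveI : IsArtinian A (M ⧸ LinearMap.range (φ ∘ₗ ψ)) :=
      Groth.Agent.Lib.Helper27.isArtinian_quotient_range_of_injective hdim.le (φ ∘ₗ ψ)
        (hφ.comp hψ)
    have hfl : IsFiniteLength A (M ⧸ LinearMap.range (φ ∘ₗ ψ)) :=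
      isFiniteLength_iff_isNoetherian_isArtinian.mpr ⟨inferInstance, inferInstance⟩
    exact lt_top_iff_ne_top.mpr (Module.length_ne_top_iff.mpr hfl)
  · -- φ' ∘ ψ' = 0
    ext x
    simp only [LinearMap.comp_apply, LinearMap.zero_apply]
    rw [hψ'a, hφ'a, hzero, hRmem]
    exact ⟨x, rfl⟩
  · ext x
    simp only [LinearMap.comp_apply, LinearMap.zero_apply]
    rw [hφ'a, hψ'a, hzero, hR1]
    exact ⟨x, rfl⟩
  · -- ker φ' ≤ range ψ'
    rw [Submodule.Quotient.subsingleton_iff]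
    rw [Submodule.submoduleOf_eq_top]
    intro x hx
    obtain ⟨x, rfl⟩ := (LinearMap.range (φ ∘ₗ ψ)).mkQ_surjective x
    rw [LinearMap.mem_ker, hφ'a, hzero, hRmem] at hx
    obtain ⟨y, hy⟩ := hx
    have hxy : x = ψ y := (hφ hy).symm
    exact ⟨(LinearMap.range (φ ∘ₗ ψ)).mkQ y, by rw [hψ'a, hxy]⟩
  · rw [Submodule.Quotient.subsingleton_iff]
    rw [Submodule.submoduleOf_eq_top]
    intro x hx
    obtain ⟨x, rfl⟩ := (LinearMap.range (φ ∘ₗ ψ)).mkQ_surjective x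
    rw [LinearMap.mem_ker, hψ'a, hzero, hR1] at hx
    obtain ⟨y, hy⟩ := hx
    have hxy : x = φ y := (hψ hy).symm
    exact ⟨(LinearMap.range (φ ∘ₗ ψ)).mkQ y, by rw [hφ'a, hxy]⟩

end Groth.Agent.S6476
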