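import Groth.Statements.S6479
-- import your own Groth.Agent.* helpers here
import Groth.Agent.Lib.Helper85.IntMult.PullComp

set_option autoImplicit false
universe u
open CategoryTheory AlgebraicGeometry
open CategoryTheory.Limits
open Cyc

namespace Groth.Agent.S6479

/-- Let p : X' → X and p' : X'' → X' be flat with shifts c and c' on the dimension functions at generic
points of fibre components. Then the composite p' ≫ p has shift c + c' at generic points of its
fibre components, and g^* followed by (g')^* is (g ∘ g')^* on k-cycles: Cyc.pullFun (p' ≫ p) δ'' δ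
(c + c') α = Cyc.pullFun p' δ'' δ' c' (Cyc.pullFun p δ' δ c α). Setting: p : X' → X is flat (not
necessarily of finite type), (X, δ) and (X', δ') satisfy Cyc.IsSetup, and δ'(x') = δ(p x') + c
whenever x' is maximal under generalization inside its fibre p⁻¹(p x'); g^* : Z_k(X) → Z_{k+c}(X')
is the coefficientwise flat pullback Cyc.pullFun p δ' δ c. (The published statement takes both maps
to be base changes along flat S″ → S′ → S of one scheme locally of finite type over S, and has a
third part, the same composition on Chow groups, which follows; this row allows any two flat maps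
with the shift conditions.) -/
theorem result (X X' X'' : Scheme.{u}) (p : X' ⟶ X) (p' : X'' ⟶ X') [Flat p] [Flat p'] (δ : X → ℤ) (δ' : X' → ℤ) (δ'' : X'' → ℤ) (hX : Cyc.IsSetup X δ) (hX' : Cyc.IsSetup X' δ') (hX'' : Cyc.IsSetup X'' δ'') (c c' : ℤ) (hc : ∀ x' : X', (∀ y, p y = p x' → y ⤳ x' → y = x') → δ' x' = δ (p x') + c) (hc' : ∀ x'' : X'', (∀ y, p' y = p' x'' → y ⤳ x'' → y = x'') → δ'' x'' = δ' (p' x'') + c') (k : ℤ) (α : AlgebraicCycle X ℤ) (hα : α ∈ Cyc.Zk X δ k) : (∀ x'' : X'', (∀ y, (p' ≫ p) y = (p' ≫ p) x'' → y ⤳ x'' → y = x'') → δ'' x'' = δ ((p' ≫ p) x'') + (c + c')) ∧ Cyc.pullFun (p' ≫ p) δ'' δ (c + c') ⇑α = Cyc.pullFun p' δ'' δ' c' (Cyc.pullFun p δ' δ c ⇑α) := by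
  refine ⟨?_, ?_⟩
  · intro x'' hmax
    have hA : ∀ y, p' y = p' x'' → y ⤳ x'' → y = x'' := by
      intro y hy hs
      exact hmax y (by show p (p' y) = p (p' x''); rw [hy]) hs
    have h1 := hc' x'' hA
    have hB : ∀ y', p y' = p (p' x'') → y' ⤳ p' x'' → y' = p' x'' := by
      intro y' hy' hs
      obtain ⟨y'', hy''s, hy''⟩ := AlgebraicGeometry.Flat.generalizingMap p' hs
      have h3 := hmax y'' (by show p (p' y'') = p (p' x''); rw [hy'', hy']) hy''s
      rw [← hy'', h3]
    have h2 := hc (p' x'') hB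
    show δ'' x'' = δ (p (p' x'')) + (c + c')
    omega
  · exact Groth.Agent.Lib.Helper85.PullComp.pullFun_comp p p' δ δ' δ'' c c'
      (Groth.Agent.Lib.Helper85.PullComp.delta_le_of_shift p δ δ' hX'.2.2 c hc)
      (Groth.Agent.Lib.Helper85.PullComp.delta_le_of_shift p' δ' δ'' hX''.2.2 c' hc') _

end Groth.Agent.S6479
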