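import Groth.Statements.S6493
import Mathlib

set_option autoImplicit false
universe u
open CategoryTheory AlgebraicGeometry
open Cyc

namespace Groth.Agent.S6493

/-- Suppose Z ⊂ X is a closed subscheme whose δ-dimension is at most k, and pick a point ξ of Z
satisfying δ(ξ) = k. In that case Z has an irreducible component whose generic point is ξ; and at
every generic point ξ' of an irreducible component of Z (every point of Z maximal under
generalization) the length of O_{Z,ξ'} over O_{X,ξ'} (= its length over itself) is finite. Here a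
pair (X, δ) with Cyc.IsSetup plays the role of a scheme locally of finite type over the base (S, δ)
(X locally Noetherian with universally catenary local rings, δ a dimension function). -/
theorem result (X Z : Scheme.{u}) (δ : X → ℤ) (hX : Cyc.IsSetup X δ) (i : Z ⟶ X) [IsClosedImmersion i] (k : ℤ) (hZ : ∀ z : Z, δ (i z) ≤ k) (ξ : Z) (hξ : δ (i ξ) = k) : (∀ z : Z, z ⤳ ξ → z = ξ) ∧ ∀ ξ' : Z, (∀ z : Z, z ⤳ ξ' → z = ξ') → Module.length ↑(Z.presheaf.stalk ξ') ↑(Z.presheaf.stalk ξ') < ⊤ := by
  classical
  obtain ⟨hN, -, hdim⟩ := hX
  have hinj : Function.Injective i := i.isEmbedding.injective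
  refine ⟨?_, ?_⟩
  · intro z hz
    by_contra hne
    have h1 : i z ⤳ i ξ := hz.map i.continuous
    have h2 : i z ≠ i ξ := fun h => hne (hinj h)
    have := (hdim (i z) (i ξ) h1 h2).1
    have := hZ z
    omega
  · intro ξ' hmax
    have hZN : IsLocallyNoetherian Z := LocallyOfFiniteType.isLocallyNoetherian i
    have hNR : IsNoetherianRing (Z.presheaf.stalk ξ') := inferInstance
    -- the spectrum of the stalk is a single point
    have hemb : Topology.IsEmbedding (Z.fromSpecStalk ξ') := (Z.fromSpecStalk ξ').isEmbedding
    have hone : ∀ p : PrimeSpectrum (Z.presheaf.stalk ξ'), Z.fromSpecStalk ξ' p = ξ' := by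
      intro p
      apply hmax
      have : Z.fromSpecStalk ξ' p ∈ Set.range (Z.fromSpecStalk ξ') := ⟨p, rfl⟩
      rw [Scheme.range_fromSpecStalk] at this
      exact this
    have hsub : ∀ p q : PrimeSpectrum (Z.presheaf.stalk ξ'), p = q := fun p q =>
      hemb.injective ((hone p).trans (hone q).symm)
    have hK0 : Ring.KrullDimLE 0 (Z.presheaf.stalk ξ') := by
      rw [Ring.krullDimLE_zero_iff]
      intro I hI
      have := hsub ⟨I, hI⟩ (IsLocalRing.closedPoint _)
      have h2 : I = IsLocalRing.maximalIdeal _ := congrArg PrimeSpectrum.asIdeal this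
      rw [h2]; infer_instance
    have hArt : IsArtinianRing (Z.presheaf.stalk ξ') :=
      IsNoetherianRing.isArtinianRing_of_krullDimLE_zero
    exact lt_top_iff_ne_top.mpr Module.length_ne_top

end Groth.Agent.S6493
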