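import Groth.Statements.S6501
import Mathlib.RingTheory.DividedPowers.Padic
import Mathlib.RingTheory.DividedPowers.RatAlgebra
import Mathlib.RingTheory.Flat.TorsionFree
import Mathlib.RingTheory.DedekindDomain.PID
-- import your own Groth.Agent.* helpers here

set_option autoImplicit false
universe u
open DPow

namespace Groth.Agent.S6501

section helpers
open TensorProduct

variable {A : Type u} [CommRing A] [IsAddTorsionFree A]

private lemma natCast_mul_cancel {n : ℕ} (hn : n ≠ 0) {x y : A} (h : (n : A) * x = (n : A) * y) :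
    x = y := by
  have := IsAddTorsionFree.nsmul_right_injective (M := A) hn
  apply this
  simpa [nsmul_eq_mul] using h

/-- every element of `I = span S` has the factorial divisibility property -/
private lemma pow_mem_of_span (I : Ideal A) (S : Set A) (hS : Ideal.span S = I)
    (h : ∀ x ∈ S, ∀ n : ℕ, 1 ≤ n → x ^ n ∈ Ideal.span {(Nat.factorial n : A)} * I) :
    ∀ x ∈ I, ∀ n : ℕ, 1 ≤ n → x ^ n ∈ Ideal.span {(Nat.factorial n : A)} * I := by
  intro x hx
  rw [← hS] at hx
  induction hx using Submodule.span_induction with
  | mem x hx => exact h x hx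
  | zero =>
    intro n hn
    rw [zero_pow (by omega)]
    exact Ideal.zero_mem _
  | add x y hx hy ihx ihy =>
    intro n hn
    rw [add_pow]
    refine Submodule.sum_mem _ fun k hk => ?_
    have hk' : k ≤ n := Nat.lt_succ_iff.mp (Finset.mem_range.mp hk)
    have hx' : x ∈ I := hS ▸ hx
    have hy' : y ∈ I := hS ▸ hy
    rcases Nat.eq_zero_or_pos k with rfl | hkpos
    · simp only [pow_zero, one_mul, Nat.sub_zero, Nat.choose_zero_right, Nat.cast_one, mul_one]
      exact ihy n hn
    rcases Nat.eq_or_lt_of_le hk' with rfl | hklt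
    · simp only [Nat.sub_self, pow_zero, mul_one, Nat.choose_self, Nat.cast_one]
      exact ihx k hn
    obtain ⟨a, ha, hxa⟩ := Ideal.mem_span_singleton_mul.mp (ihx k hkpos)
    obtain ⟨b, hb, hyb⟩ := Ideal.mem_span_singleton_mul.mp (ihy (n - k) (by omega))
    rw [← hxa, ← hyb]
    refine Ideal.mem_span_singleton_mul.mpr ⟨a * b, Ideal.mul_mem_left _ _ hb, ?_⟩
    have hfac : (n.choose k : A) * (k.factorial : A) * ((n - k).factorial : A) = (n.factorial : A) := by
      rw [← Nat.cast_mul, ← Nat.cast_mul, Nat.choose_mul_factorial_mul_factorial hk']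
    rw [← hfac]; ring
  | smul c x hx ihx =>
    intro n hn
    rw [smul_eq_mul, mul_pow]
    exact Ideal.mul_mem_left _ _ (ihx n hn)

end helpers

/-- Let A be a commutative ring whose additive group is torsion free and I an ideal of A. Then I carries
at most one divided power structure, and it carries one if and only if I is generated by a set S
such that for every x in S and every n ≥ 1 the power x^n lies in the ideal generated by the products
of n! with elements of I. -/
theorem result {A : Type u} [CommRing A] [IsAddTorsionFree A] (I : Ideal A) :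
    Subsingleton (DividedPowers I) ∧
    (Nonempty (DividedPowers I) ↔ ∃ S : Set A, Ideal.span S = I ∧
      ∀ x ∈ S, ∀ n : ℕ, 1 ≤ n → x ^ n ∈ Ideal.span {(Nat.factorial n : A)} * I) := by
  refine ⟨⟨fun γ γ' => ?_⟩, ⟨?_, ?_⟩⟩
  · -- uniqueness
    refine DividedPowers.ext _ _ fun n x hx => ?_
    apply natCast_mul_cancel (Nat.factorial_ne_zero n)
    rw [γ.factorial_mul_dpow_eq_pow hx, γ'.factorial_mul_dpow_eq_pow hx]
  · rintro ⟨γ⟩
    refine ⟨I, Ideal.span_eq I, fun x hx n hn => ?_⟩
    rw [← γ.factorial_mul_dpow_eq_pow hx]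
    exact Ideal.mul_mem_mul (Ideal.mem_span_singleton_self _) (γ.dpow_mem (by omega) hx)
  · rintro ⟨S, hS, h⟩
    have hall := pow_mem_of_span I S hS h
    classical
    let B := TensorProduct ℤ ℚ A
    let f : A →+* B := (Algebra.TensorProduct.includeRight : A →ₐ[ℤ] TensorProduct ℤ ℚ A).toRingHom
    have hf : Function.Injective f :=
      Algebra.TensorProduct.includeRight_injective (R := ℤ) (A := ℚ) (B := A) Int.cast_injective
    let J := I.map f
    let δ := DividedPowers.RatAlgebra.dividedPowers J
    refine ⟨DividedPowers.ofInjective I J f hf δ rfl ?_⟩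
    intro n x hx
    rcases Nat.eq_zero_or_pos n with rfl | hn
    · exact ⟨1, fun h => absurd rfl h, by
        rw [δ.dpow_zero (Ideal.mem_map_of_mem f hx), map_one]⟩
    · obtain ⟨y, hy, hxy⟩ := Ideal.mem_span_singleton_mul.mp (hall x hx n hn)
      refine ⟨y, fun _ => hy, ?_⟩
      have h1 : (n.factorial : B) * f y = (n.factorial : B) * δ.dpow n (f x) := by
        rw [δ.factorial_mul_dpow_eq_pow (Ideal.mem_map_of_mem f hx), ← map_pow, ← hxy, map_mul,
          map_natCast]
      exact (IsUnit.natCast_factorial_of_algebra ℚ n).mul_left_cancel h1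

end Groth.Agent.S6501
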