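import Groth.Statements.S6503
import Groth.Agent.Lib.Helper16.DiagTor.LocalSmooth

set_option autoImplicit false
universe u
open TensorProduct
open LCI

namespace Groth.Agent.S6503

/-- Suppose A and B are Noetherian local rings and A → B is a local homomorphism making B a flat
A-algebra that is essentially of finite type, and regard B as an algebra over B ⊗_A B via the
multiplication map. If B has finite Tor-dimension over B ⊗_A B (the diagonal is a perfect ring map),
then there are a smooth A-algebra C and a prime ideal q of C such that B is an A-algebra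
localization of C at q. -/
theorem result {A B : Type u} [CommRing A] [CommRing B]
    [Algebra A B] [IsNoetherianRing A] [IsNoetherianRing B] [IsLocalRing A] [IsLocalRing B]
    [IsLocalHom (algebraMap A B)] [Module.Flat A B] [Algebra.EssFiniteType A B]
    [Algebra (B ⊗[A] B) B]
    (hmul : ∀ x y : B, algebraMap (B ⊗[A] B) B (x ⊗ₜ[A] y) = x * y)
    (h : DRing.HasFiniteTorDim (B ⊗[A] B) B) :
    ∃ (C : Type u) (_ : CommRing C) (_ : Algebra A C) (_ : Algebra C B) (_ : IsScalarTower A C B)
      (q : Ideal C) (_ : q.IsPrime), Algebra.Smooth A C ∧ IsLocalization.AtPrime B q := by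
  have hfp : Algebra.FinitePresentation A (Algebra.EssFiniteType.subalgebra A B) :=
    Algebra.FinitePresentation.of_finiteType.mp inferInstance
  have hGn : IsNoetherianRing (AlgebraicClosure (IsLocalRing.ResidueField B) ⊗[A] B) :=
    Algebra.EssFiniteType.isNoetherianRing (AlgebraicClosure (IsLocalRing.ResidueField B)) _
  have hG : IsRegularRing (AlgebraicClosure (IsLocalRing.ResidueField B) ⊗[A] B) :=
    Groth.Agent.Lib.Helper16.DiagTor.isRegularRing_fibre_of_diag hmul h
      (AlgebraicClosure (IsLocalRing.ResidueField B))
  have hΩ : ∀ b : B, algebraMap B (AlgebraicClosure (IsLocalRing.ResidueField B)) b = 0 ↔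
      b ∈ IsLocalRing.maximalIdeal B := by
    intro b
    rw [IsScalarTower.algebraMap_apply B (IsLocalRing.ResidueField B)
      (AlgebraicClosure (IsLocalRing.ResidueField B)),
      map_eq_zero_iff _ (algebraMap (IsLocalRing.ResidueField B)
        (AlgebraicClosure (IsLocalRing.ResidueField B))).injective,
      IsLocalRing.ResidueField.algebraMap_eq, IsLocalRing.residue_eq_zero_iff]
  have hsm : Algebra.IsSmoothAt A (Groth.Agent.Lib.Helper16.DiagTor.essPrime A B) :=
    Groth.Agent.Lib.Helper16.DiagTor.isSmoothAt_comap_maximalIdeal_of_isRegularRing_tensor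
      (Ω := AlgebraicClosure (IsLocalRing.ResidueField B))
      (Algebra.EssFiniteType.submonoid A B) hΩ
      (Groth.Agent.Lib.Helper16.DiagTor.essPrime A B) rfl
  obtain ⟨f, hf, hfsm⟩ := Algebra.IsSmoothAt.exists_notMem_smooth A
    (Groth.Agent.Lib.Helper16.DiagTor.essPrime A B)
  have hfunit : IsUnit (algebraMap (Algebra.EssFiniteType.subalgebra A B) B f) :=
    IsLocalRing.notMem_maximalIdeal.mp hf
  let aCB : Algebra (Localization.Away f) B := (IsLocalization.Away.lift f hfunit).toAlgebra
  have t1 : IsScalarTower (Algebra.EssFiniteType.subalgebra A B) (Localization.Away f) B :=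
    IsScalarTower.of_algebraMap_eq (fun x => (IsLocalization.Away.lift_eq f hfunit x).symm)
  have t2 : IsScalarTower A (Localization.Away f) B := IsScalarTower.of_algebraMap_eq (fun a => by
    rw [IsScalarTower.algebraMap_apply A (Algebra.EssFiniteType.subalgebra A B)
      (Localization.Away f),
      ← IsScalarTower.algebraMap_apply (Algebra.EssFiniteType.subalgebra A B)
        (Localization.Away f) B,
      ← IsScalarTower.algebraMap_apply A (Algebra.EssFiniteType.subalgebra A B) B])
  refine ⟨Localization.Away f, inferInstance, inferInstance, aCB, t2,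
    (IsLocalRing.maximalIdeal B).comap (algebraMap (Localization.Away f) B),
    Ideal.comap_isPrime _ _, hfsm, ?_⟩
  have hle : Submonoid.powers f ≤
      (Groth.Agent.Lib.Helper16.DiagTor.essPrime A B).primeCompl := by
    rw [Submonoid.powers_le]
    exact hf
  have h1 : IsLocalization ((Groth.Agent.Lib.Helper16.DiagTor.essPrime A B).primeCompl.map
      (algebraMap (Algebra.EssFiniteType.subalgebra A B) (Localization.Away f))) B :=
    IsLocalization.isLocalization_of_submonoid_le (Localization.Away f) B (Submonoid.powers f)
      (Groth.Agent.Lib.Helper16.DiagTor.essPrime A B).primeCompl hle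
  refine IsLocalization.of_le ((Groth.Agent.Lib.Helper16.DiagTor.essPrime A B).primeCompl.map
      (algebraMap (Algebra.EssFiniteType.subalgebra A B) (Localization.Away f))) _ ?_ ?_
  · rintro _ ⟨x, hx, rfl⟩
    intro hmem
    apply hx
    change algebraMap (Algebra.EssFiniteType.subalgebra A B) B x ∈ IsLocalRing.maximalIdeal B
    rw [IsScalarTower.algebraMap_apply (Algebra.EssFiniteType.subalgebra A B)
      (Localization.Away f) B]
    exact hmem
  · intro r hr
    exact IsLocalRing.notMem_maximalIdeal.mp hr

end Groth.Agent.S6503
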