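import Groth.Statements.S6510
-- import your own Groth.Agent.* helpers here
import Groth.Agent.Lib.Helper32.MVTriangle

set_option autoImplicit false
universe u
open CategoryTheory
attribute [local instance] HasDerivedCategory.standard
open DCoh

namespace Groth.Agent.S6510

open AlgebraicGeometry CategoryTheory.Limits Groth.Agent.Lib.Helper32.KInjDerived
  Groth.Agent.Lib.Helper32.RDerCrit Groth.Agent.Lib.Helper32.OpenKInj
  Groth.Agent.Lib.Helper32.MVOpens Groth.Agent.Lib.Helper32.MVTriangle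

open AlgebraicGeometry CategoryTheory.Limits in
/-- If a scheme X is the union of two opens U and V, then for every E ∈ D(O_X) there is a distinguished
triangle E → Rj_{U,*}(E|_U) ⊕ Rj_{V,*}(E|_V) → Rj_{U∩V,*}(E|_{U∩V}) → E[1] in D(O_X). The objects
are the stated ones; the morphisms of the triangle are only asserted to exist. (The published
statement is for ringed spaces; this row is for schemes.) -/
theorem result {X : Scheme.{u}} (U V : X.Opens) (hUV : U ⊔ V = ⊤)
    [DCoh.HasRpush U.ι] [DCoh.HasRpush V.ι] [DCoh.HasRpush (U ⊓ V).ι]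
    [PreservesFiniteLimits (Scheme.Modules.restrictFunctor U.ι)]
    [PreservesFiniteLimits (Scheme.Modules.restrictFunctor V.ι)]
    [PreservesFiniteLimits (Scheme.Modules.restrictFunctor (U ⊓ V).ι)] (E : DCoh.D X) :
    ∃ (a : E ⟶ ((DCoh.Rpush U.ι).obj ((DCoh.restrictD U.ι).obj E) ⊞ (DCoh.Rpush V.ι).obj ((DCoh.restrictD V.ι).obj E))) (b : ((DCoh.Rpush U.ι).obj ((DCoh.restrictD U.ι).obj E) ⊞ (DCoh.Rpush V.ι).obj ((DCoh.restrictD V.ι).obj E)) ⟶ (DCoh.Rpush (U ⊓ V).ι).obj ((DCoh.restrictD (U ⊓ V).ι).obj E)) (c : (DCoh.Rpush (U ⊓ V).ι).obj ((DCoh.restrictD (U ⊓ V).ι).obj E) ⟶ (E)⟦(1 : ℤ)⟧),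
      Pretriangulated.Triangle.mk a b c ∈ Pretriangulated.distinguishedTriangles := by
  obtain ⟨I, hI, hinj, ⟨eE⟩⟩ := exists_kInj_model E
  have h := exists_mv_triangle U V (𝟭 X.Modules) I hUV hinj
  have e₁ : DerivedCategory.Q.obj (cx (𝟭 X.Modules) I (𝟭 _)) ≅ E := eE.symm
  obtain ⟨eU⟩ := nonempty_ident U (Scheme.Modules.pushforward U.ι) (T U ⋙ 𝟭 X.Modules)
    (Functor.rightUnitor _) I hI E eE
  obtain ⟨eV⟩ := nonempty_ident V (Scheme.Modules.pushforward V.ι) (T V ⋙ 𝟭 X.Modules)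
    (Functor.rightUnitor _) I hI E eE
  obtain ⟨eUV⟩ := nonempty_ident (U ⊓ V) (Scheme.Modules.pushforward (U ⊓ V).ι)
    (T (U ⊓ V) ⋙ 𝟭 X.Modules) (Functor.rightUnitor _) I hI E eE
  exact exists_triangle_of_iso e₁ (biprod.mapIso eU eV) eUV h

end Groth.Agent.S6510
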