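import Groth.Statements.S6511
-- import your own Groth.Agent.* helpers here
import Groth.Agent.Lib.Helper32.MVTriangle

set_option autoImplicit false
universe u
open CategoryTheory
attribute [local instance] HasDerivedCategory.standard
open DCoh

namespace Groth.Agent.S6511

open AlgebraicGeometry CategoryTheory.Limits Groth.Agent.Lib.Helper32.KInjDerived
  Groth.Agent.Lib.Helper32.RDerCrit Groth.Agent.Lib.Helper32.OpenKInj
  Groth.Agent.Lib.Helper32.MVOpens Groth.Agent.Lib.Helper32.MVTriangle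

open AlgebraicGeometry CategoryTheory.Limits in
/-- Let f : X → Y be a morphism of schemes and X = U ∪ V with U, V open; write a, b, c for the
restrictions of f to U, V, U ∩ V. For every E ∈ D(O_X) there is a distinguished triangle Rf_*E →
Ra_*(E|_U) ⊕ Rb_*(E|_V) → Rc_*(E|_{U∩V}) → Rf_*E[1] in D(O_Y). The objects are the stated ones; the
morphisms are only asserted to exist. (The published statement is for ringed spaces; this row is for
schemes.) -/
theorem result {X Y : Scheme.{u}} (f : X ⟶ Y) (U V : X.Opens) (hUV : U ⊔ V = ⊤)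
    [DCoh.HasRpush f] [DCoh.HasRpush (U.ι ≫ f)] [DCoh.HasRpush (V.ι ≫ f)] [DCoh.HasRpush ((U ⊓ V).ι ≫ f)]
    [PreservesFiniteLimits (Scheme.Modules.restrictFunctor U.ι)]
    [PreservesFiniteLimits (Scheme.Modules.restrictFunctor V.ι)]
    [PreservesFiniteLimits (Scheme.Modules.restrictFunctor (U ⊓ V).ι)] (E : DCoh.D X) :
    ∃ (a : (DCoh.Rpush f).obj E ⟶ ((DCoh.Rpush (U.ι ≫ f)).obj ((DCoh.restrictD U.ι).obj E) ⊞ (DCoh.Rpush (V.ι ≫ f)).obj ((DCoh.restrictD V.ι).obj E))) (b : ((DCoh.Rpush (U.ι ≫ f)).obj ((DCoh.restrictD U.ι).obj E) ⊞ (DCoh.Rpush (V.ι ≫ f)).obj ((DCoh.restrictD V.ι).obj E)) ⟶ (DCoh.Rpush ((U ⊓ V).ι ≫ f)).obj ((DCoh.restrictD (U ⊓ V).ι).obj E)) (c : (DCoh.Rpush ((U ⊓ V).ι ≫ f)).obj ((DCoh.restrictD (U ⊓ V).ι).obj E) ⟶ ((DCoh.Rpush f).obj E)⟦(1 : ℤ)⟧),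
      Pretriangulated.Triangle.mk a b c ∈ Pretriangulated.distinguishedTriangles := by
  obtain ⟨I, hI, hinj, ⟨eE⟩⟩ := exists_kInj_model E
  have h := exists_mv_triangle U V (Scheme.Modules.pushforward f) I hUV hinj
  obtain ⟨e₀⟩ := nonempty_rd_iso (Scheme.Modules.pushforward f) (hasKInjRes X) I hI
  have e₁ : DerivedCategory.Q.obj (cx (Scheme.Modules.pushforward f) I (𝟭 _)) ≅
      (DCoh.Rpush f).obj E := e₀ ≪≫ (DCoh.Rpush f).mapIso eE.symm
  obtain ⟨eU⟩ := nonempty_ident U (Scheme.Modules.pushforward (U.ι ≫ f))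
    (T U ⋙ Scheme.Modules.pushforward f)
    (Functor.associator _ _ _ ≪≫
      Functor.isoWhiskerLeft _ (Scheme.Modules.pushforwardComp U.ι f)) I hI E eE
  obtain ⟨eV⟩ := nonempty_ident V (Scheme.Modules.pushforward (V.ι ≫ f))
    (T V ⋙ Scheme.Modules.pushforward f)
    (Functor.associator _ _ _ ≪≫
      Functor.isoWhiskerLeft _ (Scheme.Modules.pushforwardComp V.ι f)) I hI E eE
  obtain ⟨eUV⟩ := nonempty_ident (U ⊓ V) (Scheme.Modules.pushforward ((U ⊓ V).ι ≫ f))
    (T (U ⊓ V) ⋙ Scheme.Modules.pushforward f)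
    (Functor.associator _ _ _ ≪≫
      Functor.isoWhiskerLeft _ (Scheme.Modules.pushforwardComp (U ⊓ V).ι f)) I hI E eE
  exact exists_triangle_of_iso e₁ (biprod.mapIso eU eV) eUV h

end Groth.Agent.S6511
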