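import Groth.Statements.S6512
-- import your own Groth.Agent.* helpers here
import Groth.Agent.Lib.Helper32.MVTriangle

set_option autoImplicit false
universe u
open CategoryTheory
attribute [local instance] HasDerivedCategory.standard
open DCoh

namespace Groth.Agent.S6512

open AlgebraicGeometry CategoryTheory.Limits Groth.Agent.Lib.Helper32.KInjDerived
  Groth.Agent.Lib.Helper32.RDerCrit Groth.Agent.Lib.Helper32.OpenKInj
  Groth.Agent.Lib.Helper32.MVOpens Groth.Agent.Lib.Helper32.MVTriangle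

/-- `Γ(X, j_* M) = Γ(W, M)`. -/
noncomputable def pushGammaIso {X : Scheme.{u}} (W : X.Opens) :
    Scheme.Modules.pushforward W.ι ⋙ DCoh.gammaAb X ≅ DCoh.gammaAb (W : Scheme.{u}) :=
  NatIso.ofComponents (fun M => Iso.refl _) (fun φ => by
    refine (Category.comp_id _).trans (Eq.trans ?_ (Category.id_comp _).symm)
    rfl)

open AlgebraicGeometry CategoryTheory.Limits in
/-- If a scheme X is the union of two opens U and V, then for every E ∈ D(O_X) there is a distinguished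
triangle RΓ(X, E) → RΓ(U, E) ⊕ RΓ(V, E) → RΓ(U ∩ V, E) → RΓ(X, E)[1] in D(Ab), where RΓ(U, E) means
RΓ(U, E|_U). The objects are the stated ones; the morphisms are only asserted to exist (the long
exact cohomology sequence follows by applying the homological functor H^0). (The published statement
is for ringed spaces; this row is for schemes.) -/
theorem result {X : Scheme.{u}} (U V : X.Opens) (hUV : U ⊔ V = ⊤)
    [DCoh.HasRΓ X] [DCoh.HasRΓ (U : Scheme.{u})] [DCoh.HasRΓ (V : Scheme.{u})] [DCoh.HasRΓ (U ⊓ V : X.Opens)]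
    [PreservesFiniteLimits (Scheme.Modules.restrictFunctor U.ι)]
    [PreservesFiniteLimits (Scheme.Modules.restrictFunctor V.ι)]
    [PreservesFiniteLimits (Scheme.Modules.restrictFunctor (U ⊓ V).ι)] (E : DCoh.D X) :
    ∃ (a : (DCoh.RΓ X).obj E ⟶ ((DCoh.RΓ (U : Scheme.{u})).obj ((DCoh.restrictD U.ι).obj E) ⊞ (DCoh.RΓ (V : Scheme.{u})).obj ((DCoh.restrictD V.ι).obj E))) (b : ((DCoh.RΓ (U : Scheme.{u})).obj ((DCoh.restrictD U.ι).obj E) ⊞ (DCoh.RΓ (V : Scheme.{u})).obj ((DCoh.restrictD V.ι).obj E)) ⟶ (DCoh.RΓ (U ⊓ V : X.Opens)).obj ((DCoh.restrictD (U ⊓ V).ι).obj E)) (c : (DCoh.RΓ (U ⊓ V : X.Opens)).obj ((DCoh.restrictD (U ⊓ V).ι).obj E) ⟶ ((DCoh.RΓ X).obj E)⟦(1 : ℤ)⟧),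
      Pretriangulated.Triangle.mk a b c ∈ Pretriangulated.distinguishedTriangles := by
  obtain ⟨I, hI, hinj, ⟨eE⟩⟩ := exists_kInj_model E
  have h := exists_mv_triangle U V (DCoh.gammaAb X) I hUV hinj
  obtain ⟨e₀⟩ := nonempty_rd_iso (DCoh.gammaAb X) (hasKInjRes X) I hI
  have e₁ : DerivedCategory.Q.obj (cx (DCoh.gammaAb X) I (𝟭 _)) ≅
      (DCoh.RΓ X).obj E := e₀ ≪≫ (DCoh.RΓ X).mapIso eE.symm
  obtain ⟨eU⟩ := nonempty_ident U (DCoh.gammaAb (U : Scheme.{u}))
    (T U ⋙ DCoh.gammaAb X)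
    (Functor.associator _ _ _ ≪≫ Functor.isoWhiskerLeft _ (pushGammaIso U)) I hI E eE
  obtain ⟨eV⟩ := nonempty_ident V (DCoh.gammaAb (V : Scheme.{u}))
    (T V ⋙ DCoh.gammaAb X)
    (Functor.associator _ _ _ ≪≫ Functor.isoWhiskerLeft _ (pushGammaIso V)) I hI E eE
  obtain ⟨eUV⟩ := nonempty_ident (U ⊓ V) (DCoh.gammaAb ((U ⊓ V : X.Opens) : Scheme.{u}))
    (T (U ⊓ V) ⋙ DCoh.gammaAb X)
    (Functor.associator _ _ _ ≪≫ Functor.isoWhiskerLeft _ (pushGammaIso (U ⊓ V))) I hI E eE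
  exact exists_triangle_of_iso e₁ (biprod.mapIso eU eV) eUV h

end Groth.Agent.S6512
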