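import Groth.Statements.S6514
-- import your own Groth.Agent.* helpers here
import Groth.Agent.S0481
import Groth.Agent.Lib.Helper28.PullbackFlat
import Groth.Agent.Lib.Helper49.StalkNbhd
import Groth.Agent.Lib.Helper30.ExtZero

set_option autoImplicit false
universe u
open CategoryTheory
open DCoh

namespace Groth.Agent.S6514

open CategoryTheory.Limits AlgebraicGeometry Groth.Agent.Lib.Helper28.SkyMod Groth.Agent.Lib.Helper49
  Groth.Agent.Lib.Helper28.PullbackFlat

lemma extendScalars_map_injective_of_flat {R S : Type u} [CommRing R] [CommRing S] (f : R →+* S)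
    (hf : f.Flat) {M₁ M₂ : ModuleCat.{u} R} (i : M₁ ⟶ M₂) (hi : Function.Injective i.hom) :
    Function.Injective ((ModuleCat.extendScalars f).map i).hom := by
  letI := f.toAlgebra
  have hfl : Module.Flat R S := hf
  have hfl' : Module.Flat R ((ModuleCat.restrictScalars f).obj (ModuleCat.of _ S)) := hfl
  have := Module.Flat.lTensor_preserves_injective_linearMap
    (M := ((ModuleCat.restrictScalars f).obj (ModuleCat.of _ S))) i.hom hi
  exact this

theorem mono_pullback_map_of_flat {X Y : Scheme.{u}} (f : X ⟶ Y) [Flat f] {M N : Y.Modules}
    (φ : M ⟶ N) [Mono φ] : Mono ((Scheme.Modules.pullback f).map φ) := by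
  apply mono_of_stalkMap_injective
  intro x
  rw [← stalkFunctor_map_coe]
  let e := pullbackStalkIso f x
  have hnat := e.hom.naturality φ
  have hinj : Function.Injective ((DerSch.stalkFunctor Y (f.base x) ⋙
      ModuleCat.extendScalars (f.stalkMap x).hom).map φ).hom :=
    extendScalars_map_injective_of_flat _ (Flat.stalkMap f x) ((DerSch.stalkFunctor Y _).map φ)
      (stalkMap_injective_of_mono φ _)
  have h1 : (Scheme.Modules.pullback f ⋙ DerSch.stalkFunctor X x).map φ =
      e.hom.app M ≫ (DerSch.stalkFunctor Y (f.base x) ⋙
        ModuleCat.extendScalars (f.stalkMap x).hom).map φ ≫ e.inv.app N := by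
    rw [← Category.assoc, ← hnat, Category.assoc, Iso.hom_inv_id_app, Category.comp_id]
  change Function.Injective ((Scheme.Modules.pullback f ⋙ DerSch.stalkFunctor X x).map φ).hom
  rw [h1]
  have h2 : Function.Injective (e.hom.app M).hom :=
    (ConcreteCategory.bijective_of_isIso (e.hom.app M)).1
  have h3 : Function.Injective (e.inv.app N).hom :=
    (ConcreteCategory.bijective_of_isIso (e.inv.app N)).1
  exact (h3.comp hinj).comp h2

theorem preservesFiniteLimits_pullback_of_flat {X Y : Scheme.{u}} (f : X ⟶ Y) [Flat f] :
    PreservesFiniteLimits (Scheme.Modules.pullback f) := by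
  haveI : (Scheme.Modules.pullback f).PreservesMonomorphisms :=
    ⟨fun φ _ => mono_pullback_map_of_flat f φ⟩
  haveI : (Scheme.Modules.pullback f).IsLeftAdjoint :=
    (Scheme.Modules.pullbackPushforwardAdjunction f).isLeftAdjoint
  haveI : (Scheme.Modules.pullback f).Additive := inferInstance
  exact Groth.Agent.Lib.Helper30.ExtZero.preservesFiniteLimits_of_preservesMono _

open AlgebraicGeometry in
/-- If f : X → Y is a flat morphism of schemes and I is a K-injective complex of O_X-modules, then f_* I
(direct image applied termwise) is a K-injective complex of O_Y-modules. (The published statement is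
for flat morphisms of ringed spaces; this row is for flat morphisms of schemes.) -/
theorem result {X Y : Scheme.{u}} (f : X ⟶ Y) [Flat f]
    (I : CochainComplex X.Modules ℤ) (hI : I.IsKInjective) :
    CochainComplex.IsKInjective (((Scheme.Modules.pushforward f).mapHomologicalComplex (ComplexShape.up ℤ)).obj I) := by
  haveI := preservesFiniteLimits_pullback_of_flat f
  haveI : (Scheme.Modules.pullback f).IsLeftAdjoint :=
    (Scheme.Modules.pullbackPushforwardAdjunction f).isLeftAdjoint
  exact Groth.Agent.S0481.result (Scheme.Modules.pushforward f) (Scheme.Modules.pullback f)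
    (Scheme.Modules.pullbackPushforwardAdjunction f) I hI

end Groth.Agent.S6514
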