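import Groth.Statements.S6517
import Groth.Agent.Lib.Helper16.FlatPull.Chart
import Groth.Agent.Lib.Helper49.PullbackSections
import Groth.Agent.Lib.Helper49.FinLocFreeSections

set_option autoImplicit false
set_option linter.style.haveILetI false
universe u
open CategoryTheory
open DCoh

namespace Groth.Agent.S6517

open AlgebraicGeometry in
/-- Schemes; bounded finite-locally-free reading of strictly perfect: if f : X → Y is a morphism and F a
strictly perfect complex of O_Y-modules, then f^*F (pullback applied termwise) is a strictly perfect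
complex of O_X-modules. -/
theorem result {X Y : Scheme.{u}} (f : X ⟶ Y) (F : CochainComplex Y.Modules ℤ)
    (hF : DCoh.IsStrictlyPerfect F) :
    DCoh.IsStrictlyPerfect (((Scheme.Modules.pullback f).mapHomologicalComplex (ComplexShape.up ℤ)).obj F) := by
  obtain ⟨⟨a, b, hab⟩, hFf⟩ := hF
  refine ⟨⟨a, b, fun i hi => ?_⟩, fun i => ?_⟩
  · exact (Scheme.Modules.pullback f).map_isZero (hab i hi)
  · change FlatMod.IsFinLocFree ((Scheme.Modules.pullback f).obj (F.X i))
    have hq := Groth.Agent.Lib.Helper49.isQuasicoherent_of_isFinLocFree (F.X i) (hFf i)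
    have hq' := Groth.Agent.Lib.Helper16.FlatPull.isQuasicoherent_pullback f (F.X i)
    refine Groth.Agent.Lib.Helper49.isFinLocFree_of_finite_projective_cover _ fun x => ?_
    obtain ⟨U, W, hU, hW, hWU, hxW⟩ := Groth.Agent.Lib.Helper16.FlatPull.exists_charts f x
    obtain ⟨h1, h2⟩ :=
      Groth.Agent.Lib.Helper49.finite_projective_sections_of_isFinLocFree (F.X i) (hFf i) hU
    letI := (f.appLE U W hWU).hom.toAlgebra
    let e := Groth.Agent.Lib.Helper49.pullbackSectionsEquiv f hU hW hWU (F.X i)
    exact ⟨W, hW, hxW, Module.Finite.equiv e.symm, Module.Projective.of_equiv e.symm⟩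

end Groth.Agent.S6517
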