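import Groth.Statements.S6519
-- import your own Groth.Agent.* helpers here
import Groth.Agent.Lib.Helper32.OpenSupp
import Groth.Agent.Lib.Helper30.PerfRestrict
import Groth.Agent.S6508

set_option autoImplicit false
universe u
open CategoryTheory
attribute [local instance] HasDerivedCategory.standard
open DCoh

namespace Groth.Agent.S6519

open AlgebraicGeometry CategoryTheory.Limits Groth.Agent.Lib.Helper32.KInjDerived
  Groth.Agent.Lib.Helper32.OpenKInj Groth.Agent.Lib.Helper32.MVTriangle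
  Groth.Agent.Lib.Helper32.OpenSupp Groth.Agent.Lib.Helper30.PerfRestrict

lemma isFinLocFree_of_isZero {U : Scheme.{u}} {M : U.Modules} (h : IsZero M) :
    FlatMod.IsFinLocFree M := by
  intro x
  refine ⟨⊤, 0, trivial,
    ⟨(((Scheme.Modules.restrictFunctor (⊤ : U.Opens).ι).map_isZero h).iso ?_)⟩⟩
  exact (IsZero.iff_id_eq_zero _).mpr (Sigma.hom_ext _ _ (fun b => b.elim0))

open ZeroObject in
lemma isStrictlyPerfect_zero {U : Scheme.{u}} :
    DCoh.IsStrictlyPerfect (0 : CochainComplex U.Modules ℤ) :=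
  ⟨⟨0, 0, fun i _ => (HomologicalComplex.eval _ _ i).map_isZero (isZero_zero _)⟩,
    fun i => isFinLocFree_of_isZero ((HomologicalComplex.eval _ _ i).map_isZero (isZero_zero _))⟩

open ZeroObject in
lemma perfObj_of_isZero {U : Scheme.{u}} (L : DCoh.D U) (h : IsZero L) : PerfObj L :=
  ⟨0, isStrictlyPerfect_zero,
    ⟨h.iso (Functor.map_isZero DerivedCategory.Q (isZero_zero _))⟩⟩

open AlgebraicGeometry in
/-- Let j : U → X be the inclusion of an open subscheme, and let T ⊆ U be a closed subset whose image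
j(T) is also closed in X. Suppose E in D(O_U) is perfect and every cohomology sheaf of E has support
contained in T. In that case the derived pushforward Rj_*E is perfect as an object of D(O_X). (The
published statement is for ringed spaces; this row is for schemes.) -/
theorem result {X : Scheme.{u}} (U : X.Opens) [DCoh.HasRpush U.ι]
    (E : DCoh.D (U : Scheme.{u})) (hE : DCoh.IsPerfect E) (T : Set (U : Scheme.{u}))
    (hT : IsClosed T) (hjT : IsClosed ((fun x : (U : Scheme.{u}) => U.ι.base x) '' T))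
    (hsupp : ∀ i : ℤ, CohB1.support (DCoh.HD E i) ⊆ T) :
    DCoh.IsPerfect ((DCoh.Rpush U.ι).obj E) := by
  apply isPerfect_of_openImmersions
  intro x
  by_cases hx : x ∈ U
  · obtain ⟨V', hxV', hP⟩ := (isPerfect_iff E).mp hE ⟨x, hx⟩
    refine ⟨V', V'.ι ≫ U.ι, inferInstance, ⟨⟨⟨x, hx⟩, hxV'⟩, rfl⟩, ?_⟩
    obtain ⟨eU⟩ := nonempty_restrictD_Rpush_iso U E
    exact (hP.of_iso ((rD V'.ι).mapIso eU.symm)).of_iso
      (rDFac V'.ι U.ι (V'.ι ≫ U.ι) rfl ((DCoh.Rpush U.ι).obj E)).symm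
  · let V : X.Opens := ⟨((fun x : (U : Scheme.{u}) => U.ι.base x) '' T)ᶜ, hjT.isOpen_compl⟩
    have hxV : x ∈ V := by
      rintro ⟨y, _, rfl⟩
      exact hx y.2
    refine ⟨V, V.ι, inferInstance, ⟨⟨x, hxV⟩, rfl⟩, ?_⟩
    apply perfObj_of_isZero
    haveI : DCoh.HasRpush (U.ι ∣_ V) :=
      hasRightDerivedFunctor (hasKInjRes ((U.ι ⁻¹ᵁ V : (U : Scheme.{u}).Opens) : Scheme.{u})) _
    obtain ⟨e1⟩ := Groth.Agent.S6508.result U.ι V
    have h1 : IsZero ((DCoh.restrictD (U.ι ⁻¹ᵁ V).ι).obj E) :=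
      isZero_restrictD_of_support (U.ι ⁻¹ᵁ V) E
        (fun i y hy hs => hy ⟨y, hsupp i hs, rfl⟩)
    exact IsZero.of_iso (isZero_rd_obj (hasKInjRes _) (Scheme.Modules.pushforward (U.ι ∣_ V)) _ h1)
      (e1.app E)

end Groth.Agent.S6519
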