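import Groth.Statements.S6523
-- import your own Groth.Agent.* helpers here
import Groth.Agent.S0479

set_option autoImplicit false
universe v u u'
open CategoryTheory
open CohDer

namespace Groth.Agent.S6523

open CategoryTheory.Limits Opposite

section Helper

open CategoryTheory.Pretriangulated CategoryTheory.Pretriangulated.Opposite

universe u''

lemma exists_rep {A : Type u} [Category.{v} A] [Abelian A]
    [IsGrothendieckAbelian.{v} A] [HasDerivedCategory.{v} A]
    {D : Type u''} [Category.{v} D] [Preadditive D] [HasZeroObject D] [HasShift D ℤ]
    [∀ n : ℤ, (shiftFunctor D n).Additive] [Pretriangulated D]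
    (F : DerivedCategory A ⥤ D) [F.CommShift ℤ] [F.IsTriangulated]
    [∀ (ι : Type v), PreservesColimitsOfShape (Discrete ι) F] (Y : D) :
    ∃ G : DerivedCategory A,
      Nonempty (((F.op ⋙ preadditiveYoneda.obj Y) ⋙
        forget AddCommGrpCat.{v}).RepresentableBy G) := by
  haveI : ∀ ι : Type v, PreservesLimitsOfShape (Discrete ι) F.op := fun ι => by
    haveI : PreservesColimitsOfShape (Discrete ι)ᵒᵖ F :=
      preservesColimitsOfShape_of_equiv (Discrete.opposite ι).symm F
    exact preservesLimitsOfShape_op (Discrete ι) F
  haveI : ∀ ι : Type v, PreservesLimitsOfShape (Discrete ι)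
      (F.op ⋙ preadditiveYoneda.obj Y) := fun ι => inferInstance
  exact (Groth.Agent.S0479.result (F.op ⋙ preadditiveYoneda.obj Y)).has_representation

end Helper

open CategoryTheory.Limits CategoryTheory.Pretriangulated in
/-- Let A be a Grothendieck abelian category, D a pretriangulated category whose morphism types live in
the same universe as those of D(A), and F : D(A) → D an exact functor of triangulated categories
which transforms direct sums (small coproducts) into direct sums. Then F has a right adjoint (which
is then exact as well). Stated as: F is a left adjoint. (With morphism types of D in a larger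
universe the assertion fails by a cardinality argument; the published proof applies Brown
representability to the functors W ↦ Hom(F(W), Y), which must take values in small abelian groups.) -/
theorem result {A : Type u} [Category.{v} A] [Abelian A]
    [IsGrothendieckAbelian.{v} A] [HasDerivedCategory.{v} A]
    {D : Type u'} [Category.{v} D] [Preadditive D] [HasZeroObject D] [HasShift D ℤ]
    [∀ n : ℤ, (shiftFunctor D n).Additive] [Pretriangulated D]
    (F : DerivedCategory A ⥤ D) [F.CommShift ℤ] [F.IsTriangulated]
    [∀ (ι : Type v), PreservesColimitsOfShape (Discrete ι) F] :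
    F.IsLeftAdjoint := by
  choose G hG using fun Y => exists_rep F Y
  let rep := fun Y => (hG Y).some
  let e : ∀ (X : DerivedCategory A) (Y : D), (F.obj X ⟶ Y) ≃ (X ⟶ G Y) := fun X Y =>
    ((rep Y).homEquiv (X := X)).symm
  have he : ∀ (X' X : DerivedCategory A) (Y : D) (f : X' ⟶ X) (g : F.obj X ⟶ Y),
      e X' Y (F.map f ≫ g) = f ≫ e X Y g := by
    intro X' X Y f g
    apply ((rep Y).homEquiv (X := X')).injective
    have h1 := (rep Y).homEquiv_comp f (e X Y g)
    rw [h1]
    change (rep Y).homEquiv ((rep Y).homEquiv.symm (F.map f ≫ g)) =
      F.map f ≫ (rep Y).homEquiv ((rep Y).homEquiv.symm g)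
    rw [Equiv.apply_symm_apply, Equiv.apply_symm_apply]
  exact ⟨_, ⟨Adjunction.adjunctionOfEquivRight e he⟩⟩

end Groth.Agent.S6523
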