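import Groth.Statements.S6524
-- import your own Groth.Agent.* helpers here
import Groth.Agent.Lib.Helper4.BaerFamily
import Groth.Agent.Lib.Helper4.FreeSheafSite

set_option autoImplicit false
universe u
open CategoryTheory
open CohSite

namespace Groth.Agent.S6524

open Groth.Agent.Lib.Helper4 Opposite CategoryTheory.Limits

/-- A morphism of abelian sheaves through which every map from a free sheaf `ℤ_U` lifts is an
epimorphism. -/
lemma epi_of_ZU_lift {C : Type u} [SmallCategory C] {J : GrothendieckTopology C}
    {A B : Sheaf J AddCommGrpCat.{u}} (g : A ⟶ B)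
    (h : ∀ (U : C) (ψ : ZU J U ⟶ B), ∃ ψ' : ZU J U ⟶ A, ψ' ≫ g = ψ) : Epi g := by
  apply Preadditive.epi_of_cancel_zero
  intro T k hk
  apply Sheaf.hom_ext
  ext U s
  obtain ⟨ψ, rfl⟩ := (ZUev_bijective U.unop B).2 s
  obtain ⟨ψ', rfl⟩ := h U.unop ψ
  have h1 := ZUev_comp U.unop (ψ' ≫ g) k
  rw [Category.assoc, hk] at h1
  have h2 := ZUev_comp U.unop ψ' (0 : A ⟶ T)
  rw [h2] at h1
  exact h1.symm.trans (by simp)


/-- Let (C, J) be a small site and I an abelian sheaf. Suppose that for every object X of C, every
abelian subsheaf S of the free abelian sheaf Z_X^# on X (given as a monomorphism S → Z_X^#) and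
every morphism S → I, the morphism extends to Z_X^# → I. Then I is an injective abelian sheaf. -/
theorem result {C : Type u} [SmallCategory C]
    (J : GrothendieckTopology C) (I : Sheaf J AddCommGrpCat.{u})
    (h : ∀ (X : C) (S : Sheaf J AddCommGrpCat.{u}) (i : S ⟶ CohCx.freeSheaf J X) [Mono i] (φ : S ⟶ I),
      ∃ ψ : CohCx.freeSheaf J X ⟶ I, i ≫ ψ = φ) :
    Injective I := by
  rcases isEmpty_or_nonempty C with hC | hC
  · have hz : IsZero I := by
      rw [IsZero.iff_id_eq_zero]
      apply Sheaf.hom_ext
      ext U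
      exact (hC.false U.unop).elim
    exact hz.injective
  · refine BaerFamily.injective_of_family.{u} (fun X : C => ZU J X) ?_ I ?_
    · intro A B p _ hp
      have : Epi p := epi_of_ZU_lift p (fun U ψ => hp U ψ)
      exact isIso_of_mono_of_epi p
    · intro X S m _ φ
      exact h X S m φ

end Groth.Agent.S6524
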