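import Groth.Statements.S6528
-- import your own Groth.Agent.* helpers here
import Groth.Agent.Lib.Helper32.OpenSupp
import Groth.Agent.S6508
import Groth.Agent.S6510
import Groth.Agent.S6513

set_option autoImplicit false
universe u
open CategoryTheory
attribute [local instance] HasDerivedCategory.standard
open DCoh

namespace Groth.Agent.S6528

open AlgebraicGeometry CategoryTheory.Limits Groth.Agent.Lib.Helper32.KInjDerived
  Groth.Agent.Lib.Helper32.OpenKInj Groth.Agent.Lib.Helper32.MVTriangle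
  Groth.Agent.Lib.Helper32.OpenSupp Pretriangulated

open AlgebraicGeometry CategoryTheory.Limits in
/-- Let j : U → X be an open subscheme and T ⊆ U a subset which is closed in X. (1) If E ∈ D(O_X) has
cohomology sheaves supported on T, then E ≅ Rj_*(E|_U). (2) If F ∈ D(O_U) has cohomology sheaves
supported on T, then j_!F ≅ Rj_*F. The published statement asserts that the canonical maps are
isomorphisms; this row asserts only that isomorphisms exist. (The published statement is for ringed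
spaces; this row is for schemes.) -/
theorem result {X : Scheme.{u}} (U : X.Opens) [DCoh.HasRpush U.ι]
    [PreservesFiniteLimits (CxOX.extZero U.ι)] (T : Set X) (hT : IsClosed T) (hTU : T ⊆ (U : Set X)) :
    (∀ E : DCoh.D X, (∀ i : ℤ, CohB1.support (DCoh.HD E i) ⊆ T) →
      Nonempty (E ≅ (DCoh.Rpush U.ι).obj ((DCoh.restrictD U.ι).obj E))) ∧
    (∀ F : DCoh.D (U : Scheme.{u}),
      (∀ i : ℤ, (fun x : (U : Scheme.{u}) => U.ι.base x) '' CohB1.support (DCoh.HD F i) ⊆ T) →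
      Nonempty ((CxOX.extZeroD U.ι).obj F ≅ (DCoh.Rpush U.ι).obj F)) := by
  let V : X.Opens := ⟨Tᶜ, hT.isOpen_compl⟩
  have hUV : U ⊔ V = ⊤ := by
    ext x
    simp only [TopologicalSpace.Opens.coe_sup, TopologicalSpace.Opens.coe_top, Set.mem_union,
      SetLike.mem_coe, Set.mem_univ, iff_true]
    by_cases hx : x ∈ T
    · exact Or.inl (hTU hx)
    · exact Or.inr hx
  haveI hRV : DCoh.HasRpush V.ι := hasRightDerivedFunctor (hasKInjRes (V : Scheme.{u})) _
  haveI hRUV : DCoh.HasRpush (U ⊓ V).ι :=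
    hasRightDerivedFunctor (hasKInjRes ((U ⊓ V : X.Opens) : Scheme.{u})) _
  haveI := preservesFiniteLimits_extZero V
  haveI := preservesFiniteLimits_extZero (U ⊓ V)
  refine ⟨?_, ?_⟩
  · intro E hE
    obtain ⟨a, b, c, hTr⟩ := Groth.Agent.S6510.result U V hUV E
    have hV0 : IsZero ((DCoh.restrictD V.ι).obj E) :=
      isZero_restrictD_of_support V E (fun i x hx hsupp => hx (hE i hsupp))
    have hUV0 : IsZero ((DCoh.restrictD (U ⊓ V).ι).obj E) :=
      isZero_restrictD_of_support (U ⊓ V) E (fun i x hx hsupp => hx.2 (hE i hsupp))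
    have hZ₂ : IsZero ((DCoh.Rpush V.ι).obj ((DCoh.restrictD V.ι).obj E)) :=
      isZero_rd_obj (hasKInjRes (V : Scheme.{u})) (Scheme.Modules.pushforward V.ι) _ hV0
    have hZ₃ : IsZero ((DCoh.Rpush (U ⊓ V).ι).obj ((DCoh.restrictD (U ⊓ V).ι).obj E)) :=
      isZero_rd_obj (hasKInjRes ((U ⊓ V : X.Opens) : Scheme.{u}))
        (Scheme.Modules.pushforward (U ⊓ V).ι) _ hUV0
    have ha : IsIso a := (Triangle.isZero₃_iff_isIso₁ _ hTr).mp hZ₃
    exact ⟨asIso a ≪≫ (isoBiprodZero hZ₂).symm⟩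
  · intro F hF
    obtain ⟨a, b, c, hTr⟩ := Groth.Agent.S6513.result U V hUV ((DCoh.Rpush U.ι).obj F)
    haveI : DCoh.HasRpush (U.ι ∣_ V) :=
      hasRightDerivedFunctor (hasKInjRes ((U.ι ⁻¹ᵁ V : (U : Scheme.{u}).Opens) : Scheme.{u})) _
    haveI : DCoh.HasRpush (U.ι ∣_ (U ⊓ V)) :=
      hasRightDerivedFunctor
        (hasKInjRes ((U.ι ⁻¹ᵁ (U ⊓ V) : (U : Scheme.{u}).Opens) : Scheme.{u})) _
    obtain ⟨e1⟩ := Groth.Agent.S6508.result U.ι V
    obtain ⟨e2⟩ := Groth.Agent.S6508.result U.ι (U ⊓ V)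
    have h1 : IsZero ((DCoh.restrictD (U.ι ⁻¹ᵁ V).ι).obj F) :=
      isZero_restrictD_of_support (U.ι ⁻¹ᵁ V) F
        (fun i x hx hsupp => hx (hF i ⟨x, hsupp, rfl⟩))
    have h2 : IsZero ((DCoh.restrictD (U.ι ⁻¹ᵁ (U ⊓ V)).ι).obj F) :=
      isZero_restrictD_of_support (U.ι ⁻¹ᵁ (U ⊓ V)) F
        (fun i x hx hsupp => hx.2 (hF i ⟨x, hsupp, rfl⟩))
    have hV0 : IsZero ((DCoh.restrictD V.ι).obj ((DCoh.Rpush U.ι).obj F)) :=
      IsZero.of_iso (isZero_rd_obj (hasKInjRes _) (Scheme.Modules.pushforward (U.ι ∣_ V)) _ h1)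
        (e1.app F)
    have hUV0 : IsZero ((DCoh.restrictD (U ⊓ V).ι).obj ((DCoh.Rpush U.ι).obj F)) :=
      IsZero.of_iso (isZero_rd_obj (hasKInjRes _)
        (Scheme.Modules.pushforward (U.ι ∣_ (U ⊓ V))) _ h2) (e2.app F)
    obtain ⟨eU⟩ := nonempty_restrictD_Rpush_iso U F
    have hZ₁ : IsZero ((CxOX.extZeroD (U ⊓ V).ι).obj
        ((DCoh.restrictD (U ⊓ V).ι).obj ((DCoh.Rpush U.ι).obj F))) :=
      Functor.map_isZero _ hUV0
    have hZ₂ : IsZero ((CxOX.extZeroD V.ι).obj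
        ((DCoh.restrictD V.ι).obj ((DCoh.Rpush U.ι).obj F))) :=
      Functor.map_isZero _ hV0
    have hb : IsIso b := (Triangle.isZero₁_iff_isIso₂ _ hTr).mp hZ₁
    exact ⟨(CxOX.extZeroD U.ι).mapIso eU.symm ≪≫ isoBiprodZero hZ₂ ≪≫ asIso b⟩

end Groth.Agent.S6528
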