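import Groth.Statements.S6530
import Mathlib

set_option autoImplicit false
universe u
open DPow

namespace Groth.Agent.S6530

section helpers

variable {A : Type u} [CommRing A] {I : Ideal A} (γ : DividedPowers I) (p : ℕ) (t : ℕ)
  (ht : Ideal.span {(p : A)} ^ t ≤ I)

include ht in
/-- continuity of the divided powers for the `p`-adic topology. -/
lemma dpow_sub_mem {a b : A} (ha : a ∈ I) (m k : ℕ)
    (hab : b - a ∈ Ideal.span {(p : A)} ^ (m + t)) :
    γ.dpow k b - γ.dpow k a ∈ Ideal.span {(p : A)} ^ m := by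
  rw [Ideal.span_singleton_pow] at hab ⊢
  obtain ⟨u, hu⟩ := Ideal.mem_span_singleton'.mp hab
  have hc : (p : A) ^ t * u ∈ I := by
    apply ht
    rw [Ideal.span_singleton_pow]
    exact Ideal.mul_mem_right _ _ (Ideal.mem_span_singleton_self _)
  have hb : b = a + (p : A) ^ m * ((p : A) ^ t * u) := by
    have : b = a + (b - a) := by ring
    rw [this, ← hu, pow_add]
    ring
  rw [hb, γ.dpow_add ha (I.mul_mem_left _ hc)]
  rw [← Finset.add_sum_erase _ _ (show (k, 0) ∈ Finset.HasAntidiagonal.antidiagonal k by simp)]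
  simp only
  rw [γ.dpow_zero (I.mul_mem_left _ hc), mul_one, add_sub_cancel_left]
  refine Ideal.sum_mem _ fun ij hij => ?_
  rw [Finset.mem_erase, Finset.HasAntidiagonal.mem_antidiagonal] at hij
  have hj : ij.2 ≠ 0 := by
    intro h0
    apply hij.1
    ext
    · simp only; omega
    · exact h0
  rw [γ.dpow_mul hc]
  obtain ⟨j', hj'⟩ := Nat.exists_eq_succ_of_ne_zero hj
  rw [hj', ← pow_mul, Nat.mul_succ, pow_add]
  apply Ideal.mul_mem_left
  apply Ideal.mul_mem_right
  apply Ideal.mul_mem_left
  exact Ideal.mem_span_singleton_self _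

/-- `a` represents `x` at level `m`. -/
def Lift (x : AdicCompletion (Ideal.span {(p : A)}) A) (m : ℕ) (a : A) : Prop :=
  Ideal.Quotient.mk (Ideal.span {(p : A)} ^ m) a = AdicCompletion.evalₐ (Ideal.span {(p : A)}) m x

/-- a Cauchy sequence representing `x`. -/
noncomputable def rep (x : AdicCompletion (Ideal.span {(p : A)}) A) :
    AdicCompletion.AdicCauchySequence (Ideal.span {(p : A)}) A :=
  (AdicCompletion.mk_surjective (Ideal.span {(p : A)}) A x).choose

lemma mk_rep (x : AdicCompletion (Ideal.span {(p : A)}) A) :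
    AdicCompletion.mk (Ideal.span {(p : A)}) A (rep p x) = x :=
  (AdicCompletion.mk_surjective (Ideal.span {(p : A)}) A x).choose_spec

lemma lift_rep (x : AdicCompletion (Ideal.span {(p : A)}) A) (m : ℕ) :
    Lift p x m ((rep p x) m) := by
  unfold Lift
  conv_rhs => rw [← mk_rep p x]
  rw [AdicCompletion.evalₐ_mk]

lemma rep_cauchy (x : AdicCompletion (Ideal.span {(p : A)}) A) {m n : ℕ} (hmn : m ≤ n) :
    (rep p x) n - (rep p x) m ∈ Ideal.span {(p : A)} ^ m := by
  have h1 := (rep p x).2 hmn
  rw [SModEq.sub_mem] at h1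
  have h2 : (rep p x) n - (rep p x) m = -((rep p x) m - (rep p x) n) := by ring
  rw [h2]
  apply Ideal.neg_mem_iff _ |>.mpr
  simpa using h1

lemma lift_sub {x : AdicCompletion (Ideal.span {(p : A)}) A} {m : ℕ} {a b : A}
    (ha : Lift p x m a) (hb : Lift p x m b) : b - a ∈ Ideal.span {(p : A)} ^ m := by
  unfold Lift at ha hb
  rw [← Ideal.Quotient.eq, hb, ha]

lemma lift_mono {x : AdicCompletion (Ideal.span {(p : A)}) A} {m n : ℕ} {a : A}
    (ha : Lift p x m a) (hnm : n ≤ m) : Lift p x n a := by
  have h1 := lift_sub p (lift_rep p x m) ha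
  have h2 := rep_cauchy p x hnm
  have h3 : a - (rep p x) n ∈ Ideal.span {(p : A)} ^ n := by
    have : a - (rep p x) n = (a - (rep p x) m) + ((rep p x) m - (rep p x) n) := by ring
    rw [this]
    exact Ideal.add_mem _ (Ideal.pow_le_pow_right hnm h1) h2
  have h4 := lift_rep p x n
  unfold Lift at h4 ⊢
  rw [← h4, Ideal.Quotient.eq]
  exact h3


/-- the projection `A^ → A/I`. -/
noncomputable abbrev piMap : AdicCompletion (Ideal.span {(p : A)}) A →+* A ⧸ I :=
  (Ideal.Quotient.factor ht).comp (AdicCompletion.evalₐ (Ideal.span {(p : A)}) t).toRingHom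

lemma piMap_eq {x : AdicCompletion (Ideal.span {(p : A)}) A} {m : ℕ} {a : A}
    (ha : Lift p x m a) (htm : t ≤ m) : piMap p t ht x = Ideal.Quotient.mk I a := by
  have h1 := lift_mono p ha htm
  unfold Lift at h1
  change Ideal.Quotient.factor ht (AdicCompletion.evalₐ (Ideal.span {(p : A)}) t x) = _
  rw [← h1, Ideal.Quotient.factor_mk]

lemma lift_mem {x : AdicCompletion (Ideal.span {(p : A)}) A}
    (hx : x ∈ RingHom.ker (piMap p t ht)) {m : ℕ} {a : A}
    (ha : Lift p x m a) (htm : t ≤ m) : a ∈ I := by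
  rw [RingHom.mem_ker, piMap_eq p t ht ha htm, Ideal.Quotient.eq_zero_iff_mem] at hx
  exact hx

/-- the Cauchy sequence of divided powers. -/
noncomputable def dseq (k : ℕ) (x : AdicCompletion (Ideal.span {(p : A)}) A)
    (hx : x ∈ RingHom.ker (piMap p t ht)) :
    AdicCompletion.AdicCauchySequence (Ideal.span {(p : A)}) A :=
  ⟨fun n => γ.dpow k ((rep p x) (n + t)), by
    intro m n hmn
    rw [SModEq.sub_mem]
    have h1 : (rep p x) (n + t) - (rep p x) (m + t) ∈ Ideal.span {(p : A)} ^ (m + t) :=
      rep_cauchy p x (by omega)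
    have h2 : (rep p x) (m + t) ∈ I := lift_mem p t ht hx (lift_rep p x (m + t)) (by omega)
    have h3 := dpow_sub_mem γ p t ht h2 m k h1
    have h4 : γ.dpow k ((rep p x) (m + t)) - γ.dpow k ((rep p x) (n + t)) =
        -(γ.dpow k ((rep p x) (n + t)) - γ.dpow k ((rep p x) (m + t))) := by ring
    rw [h4]
    apply Submodule.neg_mem
    simpa using h3⟩

open Classical in
/-- the divided powers on the kernel. -/
noncomputable def delta (k : ℕ) (x : AdicCompletion (Ideal.span {(p : A)}) A) :
    AdicCompletion (Ideal.span {(p : A)}) A :=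
  if hx : x ∈ RingHom.ker (piMap p t ht) then
    AdicCompletion.mk (Ideal.span {(p : A)}) A (dseq γ p t ht k x hx) else 0

/-- the characterisation of `delta` by arbitrary representatives. -/
lemma eval_delta (k : ℕ) {x : AdicCompletion (Ideal.span {(p : A)}) A}
    (hx : x ∈ RingHom.ker (piMap p t ht)) (n : ℕ) {a : A} (ha : Lift p x (n + t) a) :
    AdicCompletion.evalₐ (Ideal.span {(p : A)}) n (delta γ p t ht k x) =
      Ideal.Quotient.mk (Ideal.span {(p : A)} ^ n) (γ.dpow k a) := by
  unfold delta
  rw [dif_pos hx, AdicCompletion.evalₐ_mk]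
  change Ideal.Quotient.mk _ (γ.dpow k ((rep p x) (n + t))) = _
  rw [Ideal.Quotient.eq]
  have h1 := lift_sub p ha (lift_rep p x (n + t))
  have h2 : a ∈ I := lift_mem p t ht hx ha (by omega)
  exact dpow_sub_mem γ p t ht h2 n k h1

lemma exists_lift (x : AdicCompletion (Ideal.span {(p : A)}) A) (m : ℕ) : ∃ a, Lift p x m a :=
  ⟨_, lift_rep p x m⟩


lemma lift_add {x y : AdicCompletion (Ideal.span {(p : A)}) A} {m : ℕ} {a b : A}
    (ha : Lift p x m a) (hb : Lift p y m b) : Lift p (x + y) m (a + b) := by
  unfold Lift at *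
  rw [map_add, map_add, ha, hb]

lemma lift_mul {x y : AdicCompletion (Ideal.span {(p : A)}) A} {m : ℕ} {a b : A}
    (ha : Lift p x m a) (hb : Lift p y m b) : Lift p (x * y) m (a * b) := by
  unfold Lift at *
  rw [map_mul, map_mul, ha, hb]

lemma lift_of (a : A) (m : ℕ) :
    Lift p (algebraMap A (AdicCompletion (Ideal.span {(p : A)}) A) a) m a := by
  unfold Lift
  rw [AdicCompletion.algebraMap_apply, AdicCompletion.evalₐ_of]
  rfl

lemma delta_mem {k : ℕ} (hk : k ≠ 0) {x : AdicCompletion (Ideal.span {(p : A)}) A}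
    (hx : x ∈ RingHom.ker (piMap p t ht)) :
    delta γ p t ht k x ∈ RingHom.ker (piMap p t ht) := by
  obtain ⟨a, ha⟩ := exists_lift p x (t + t)
  have h1 := eval_delta γ p t ht k hx t ha
  have h2 : Lift p (delta γ p t ht k x) t (γ.dpow k a) := h1.symm
  rw [RingHom.mem_ker, piMap_eq p t ht h2 le_rfl, Ideal.Quotient.eq_zero_iff_mem]
  exact γ.dpow_mem hk (lift_mem p t ht hx ha (by omega))

/-- the divided power structure on the kernel. -/
noncomputable def deltaDP : DividedPowers (RingHom.ker (piMap p t ht)) where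
  dpow := delta γ p t ht
  dpow_null {n x} hx := by
    unfold delta
    rw [dif_neg hx]
  dpow_zero {x} hx := by
    apply AdicCompletion.ext_evalₐ
    intro n
    obtain ⟨a, ha⟩ := exists_lift p x (n + t)
    rw [eval_delta γ p t ht 0 hx n ha, γ.dpow_zero (lift_mem p t ht hx ha (by omega)), map_one,
      map_one]
  dpow_one {x} hx := by
    apply AdicCompletion.ext_evalₐ
    intro n
    obtain ⟨a, ha⟩ := exists_lift p x (n + t)
    rw [eval_delta γ p t ht 1 hx n ha, γ.dpow_one (lift_mem p t ht hx ha (by omega))]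
    exact lift_mono p ha (by omega)
  dpow_mem {n x} hn hx := delta_mem γ p t ht hn hx
  dpow_add {k x y} hx hy := by
    apply AdicCompletion.ext_evalₐ
    intro n
    obtain ⟨a, ha⟩ := exists_lift p x (n + t)
    obtain ⟨b, hb⟩ := exists_lift p y (n + t)
    have ha' := lift_mem p t ht hx ha (by omega)
    have hb' := lift_mem p t ht hy hb (by omega)
    rw [eval_delta γ p t ht k (Ideal.add_mem _ hx hy) n (lift_add p ha hb), γ.dpow_add ha' hb',
      map_sum, map_sum]
    refine Finset.sum_congr rfl fun ij _ => ?_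
    rw [map_mul, map_mul, eval_delta γ p t ht ij.1 hx n ha, eval_delta γ p t ht ij.2 hy n hb]
  dpow_mul {k r x} hx := by
    apply AdicCompletion.ext_evalₐ
    intro n
    obtain ⟨a, ha⟩ := exists_lift p x (n + t)
    obtain ⟨c, hc⟩ := exists_lift p r (n + t)
    have ha' := lift_mem p t ht hx ha (by omega)
    rw [eval_delta γ p t ht k (Ideal.mul_mem_left _ r hx) n (lift_mul p hc ha), γ.dpow_mul ha',
      map_mul, map_mul, map_pow, map_pow, eval_delta γ p t ht k hx n ha]
    congr 2
    exact lift_mono p hc (by omega)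
  mul_dpow {m n' x} hx := by
    apply AdicCompletion.ext_evalₐ
    intro n
    obtain ⟨a, ha⟩ := exists_lift p x (n + t)
    have ha' := lift_mem p t ht hx ha (by omega)
    rw [map_mul, map_mul, eval_delta γ p t ht m hx n ha, eval_delta γ p t ht n' hx n ha,
      eval_delta γ p t ht (m + n') hx n ha, ← map_mul, γ.mul_dpow ha', map_mul, map_natCast,
      map_natCast]
  dpow_comp {m n' x} hn hx := by
    apply AdicCompletion.ext_evalₐ
    intro j
    obtain ⟨a, ha⟩ := exists_lift p x (j + t + t)
    have ha' := lift_mem p t ht hx ha (by omega)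
    have h1 : Lift p (delta γ p t ht n' x) (j + t) (γ.dpow n' a) :=
      (eval_delta γ p t ht n' hx (j + t) ha).symm
    rw [eval_delta γ p t ht m (delta_mem γ p t ht hn hx) j h1, γ.dpow_comp hn ha', map_mul,
      map_mul, map_natCast, map_natCast,
      eval_delta γ p t ht (m * n') hx j (lift_mono p ha (by omega))]



end helpers

/-- Let (A, I, γ) be a divided power ring and p a prime number with p^t A ⊆ I for some t ≥ 0, so that p
is nilpotent in A/I. Let A^∧ be the p-adic completion of A and π : A^∧ → A/I the composite of the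
evaluation A^∧ → A/p^tA with the projection A/p^tA → A/I. Then π is surjective, and there is a
divided power structure on Ker(π) (this kernel is the p-adic completion of I) such that the
canonical map A → A^∧ is a homomorphism of divided power rings. -/
theorem result {A : Type u} [CommRing A] {I : Ideal A}
    (γ : DividedPowers I) (p : ℕ) [Fact p.Prime] (t : ℕ) (ht : Ideal.span {(p : A)} ^ t ≤ I) :
    Function.Surjective ((Ideal.Quotient.factor ht).comp
      (AdicCompletion.evalₐ (Ideal.span {(p : A)}) t).toRingHom) ∧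
    ∃ δ : DividedPowers (RingHom.ker ((Ideal.Quotient.factor ht).comp
      (AdicCompletion.evalₐ (Ideal.span {(p : A)}) t).toRingHom)),
      γ.IsDPMorphism δ (algebraMap A (AdicCompletion (Ideal.span {(p : A)}) A)) := by
  refine ⟨?_, deltaDP γ p t ht, ?_, ?_⟩
  · exact (Ideal.Quotient.factor_surjective ht).comp
      (AdicCompletion.surjective_evalₐ (Ideal.span {(p : A)}) t)
  · rw [Ideal.map_le_iff_le_comap]
    intro a ha
    rw [Ideal.mem_comap, RingHom.mem_ker, piMap_eq p t ht (lift_of p a t) le_rfl,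
      Ideal.Quotient.eq_zero_iff_mem]
    exact ha
  · intro k a ha
    have hmem : algebraMap A (AdicCompletion (Ideal.span {(p : A)}) A) a ∈
        RingHom.ker (piMap p t ht) := by
      rw [RingHom.mem_ker, piMap_eq p t ht (lift_of p a t) le_rfl, Ideal.Quotient.eq_zero_iff_mem]
      exact ha
    apply AdicCompletion.ext_evalₐ
    intro n
    change AdicCompletion.evalₐ _ n (delta γ p t ht k _) = _
    rw [eval_delta γ p t ht k hmem n (lift_of p a (n + t))]
    exact lift_of p (γ.dpow k a) n


end Groth.Agent.S6530
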