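import Groth.Statements.S6534
-- import your own Groth.Agent.* helpers here
import Groth.Agent.Lib.Helper32.Telescope
import Groth.Agent.Lib.Helper32.KInjRes

set_option autoImplicit false
universe w v u
open CategoryTheory
open CohDer

namespace Groth.Agent.S6534

open CategoryTheory.Limits CochainComplex HomComplex DerivedCategory
open Groth.Agent.Lib.Helper32 Groth.Agent.Lib.Helper32.Telescope

section

lemma ofLE_underlyingIso {C : Type*} [Category C] {X T₁ T₂ : C} (m₁ : T₁ ⟶ X) (m₂ : T₂ ⟶ X)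
    [Mono m₁] [Mono m₂] (k : T₂ ⟶ T₁) (hk : k ≫ m₁ = m₂)
    (h : Subobject.mk m₂ ≤ Subobject.mk m₁) :
    (Subobject.mk m₂).ofLE (Subobject.mk m₁) h ≫ (Subobject.underlyingIso m₁).hom =
      (Subobject.underlyingIso m₂).hom ≫ k := by
  rw [← cancel_mono m₁, Category.assoc, Category.assoc, Subobject.underlyingIso_hom_comp_eq_mk,
    Subobject.ofLE_arrow, hk, Subobject.underlyingIso_hom_comp_eq_mk]

variable {A : Type u} [Category.{v} A] [Abelian A] [HasDerivedCategory.{w} A]

lemma exists_Q_map_eq {X Y : CochainComplex A ℤ} [Y.IsKInjective] (φ : Q.obj X ⟶ Q.obj Y) :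
    ∃ f : X ⟶ Y, Q.map f = φ := by
  obtain ⟨g, hg⟩ := (CochainComplex.IsKInjective.Qh_map_bijective
    ((HomotopyCategory.quotient A (ComplexShape.up ℤ)).obj X) Y).surjective φ
  obtain ⟨g', rfl⟩ := (HomotopyCategory.quotient A (ComplexShape.up ℤ)).map_surjective g
  exact ⟨g', hg⟩

lemma homotopy_of_Q_map_eq {X Y : CochainComplex A ℤ} [Y.IsKInjective] (f g : X ⟶ Y)
    (h : Q.map f = Q.map g) : Nonempty (Homotopy f g) :=
  ⟨HomotopyCategory.homotopyOfEq _ _ ((CochainComplex.IsKInjective.Qh_map_bijective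
    ((HomotopyCategory.quotient A (ComplexShape.up ℤ)).obj X) Y).injective h)⟩

lemma Q_map_fst_inl (W C : CochainComplex A ℤ) (hC : Homotopy (𝟙 C) 0) :
    Q.map (biprod.fst : W ⊞ C ⟶ W) ≫ Q.map (biprod.inl : W ⟶ W ⊞ C) = 𝟙 _ := by
  have h0 : Q.map (𝟙 C) = 0 := by
    rw [DerivedCategory.Q_map_eq_of_homotopy (h := hC), CategoryTheory.Functor.map_zero]
  have h1 : (biprod.fst : W ⊞ C ⟶ W) ≫ biprod.inl =
      𝟙 _ - biprod.snd ≫ 𝟙 C ≫ biprod.inr := by
    rw [Category.id_comp, eq_sub_iff_add_eq, biprod.total]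
  rw [← Q.map_comp, h1, CategoryTheory.Functor.map_sub, Q.map_comp, Q.map_comp, h0,
    zero_comp, comp_zero, sub_zero, Q.map_id]

/-- packaging a family of subcomplexes given by monomorphisms into a filtered complex -/
lemma main_aux (E : DerivedCategory A) (Es : ℤ → DerivedCategory A)
    (t : ∀ i : ℤ, Es (i + 1) ⟶ Es i) (a : ∀ i : ℤ, Es i ⟶ E)
    (X : CochainComplex A ℤ) (T : ℤ → CochainComplex A ℤ) (m : ∀ i, T i ⟶ X) [∀ i, Mono (m i)]
    (inc : ∀ i j : ℤ, i ≤ j → (T j ⟶ T i)) (hinc : ∀ i j h, inc i j h ≫ m i = m j)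
    (e : Q.obj X ≅ E) (ε : ∀ i, Q.obj (T i) ≅ Es i)
    (h1 : ∀ i, Q.map (m i) ≫ e.hom = (ε i).hom ≫ a i)
    (h2 : ∀ i, Q.map (inc i (i + 1) (by lia)) ≫ (ε i).hom = (ε (i + 1)).hom ≫ t i) :
    ∃ (K : SpSeq.FilCx A) (e : DerivedCategory.Q.obj K.obj ≅ E)
      (ei : ∀ i : ℤ, DerivedCategory.Q.obj (K.step i) ≅ Es i),
      (∀ i : ℤ, DerivedCategory.Q.map (K.fil i).arrow ≫ e.hom = (ei i).hom ≫ a i) ∧
      (∀ i : ℤ, DerivedCategory.Q.map (K.stepLE (le_of_lt (Int.lt_succ_self i))) ≫ (ei i).hom =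
        (ei (i + 1)).hom ≫ t i) := by
  have anti : Antitone (fun i => Subobject.mk (m i)) := fun i j hij =>
    Subobject.mk_le_mk_of_comm _ (hinc i j hij)
  refine ⟨⟨X, fun i => Subobject.mk (m i), anti⟩, e,
    fun i => Q.mapIso (Subobject.underlyingIso (m i)) ≪≫ ε i, fun i => ?_, fun i => ?_⟩
  · have key : (Subobject.underlyingIso (m i)).hom ≫ m i = (Subobject.mk (m i)).arrow :=
      Subobject.underlyingIso_hom_comp_eq_mk _
    have e5 := congrArg (fun f => Q.map f ≫ e.hom) key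
    simp only [CategoryTheory.Functor.map_comp, Category.assoc] at e5
    rw [h1] at e5
    simpa only [Iso.trans_hom, CategoryTheory.Functor.mapIso_hom, Category.assoc] using e5.symm
  · have key := ofLE_underlyingIso (m i) (m (i + 1)) (inc i (i + 1) (by lia)) (hinc _ _ _)
      (anti (by lia))
    have e5 := congrArg (fun f => Q.map f ≫ (ε i).hom) key
    simp only [CategoryTheory.Functor.map_comp, Category.assoc] at e5
    rw [h2] at e5
    simp only [Iso.trans_hom, CategoryTheory.Functor.mapIso_hom, Category.assoc]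
    exact e5

end

section

variable {A : Type u} [Category.{v} A] [Abelian A] [IsGrothendieckAbelian.{v} A]
  [HasDerivedCategory.{w} A]

lemma exists_kInj_rep (X : DerivedCategory A) :
    ∃ (I : CochainComplex A ℤ), I.IsKInjective ∧ Nonempty (Q.obj I ≅ X) := by
  obtain ⟨I, f, hI, hf, -, -⟩ := KInjRes.exists_kInjective_resolution (Q.objPreimage X)
  haveI := hf
  exact ⟨I, hI, ⟨(asIso (Q.map f)).symm ≪≫ Q.objObjPreimageIso X⟩⟩

end

open CategoryTheory.Limits in
/-- Let A be a Grothendieck abelian category, E ∈ D(A), and … → E^{i+1} → E^i → … → E an inverse system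
in D(A) over ℤ with compatible maps to E. Then there exists a filtered complex K of A such that K
represents E and F^iK represents E^i, compatibly: there are isomorphisms in D(A) from the images of
K and of the subcomplexes F^iK to E and E^i under which the inclusions F^iK → K and F^{i+1}K → F^iK
correspond to the given maps E^i → E and E^{i+1} → E^i. -/
theorem result {A : Type u} [Category.{v} A] [Abelian A]
    [IsGrothendieckAbelian.{v} A] [HasDerivedCategory.{w} A]
    (E : DerivedCategory A) (Es : ℤ → DerivedCategory A) (t : ∀ i : ℤ, Es (i + 1) ⟶ Es i)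
    (a : ∀ i : ℤ, Es i ⟶ E) (hat : ∀ i : ℤ, t i ≫ a i = a (i + 1)) :
    ∃ (K : SpSeq.FilCx A) (e : DerivedCategory.Q.obj K.obj ≅ E)
      (ei : ∀ i : ℤ, DerivedCategory.Q.obj (K.step i) ≅ Es i),
      (∀ i : ℤ, DerivedCategory.Q.map (K.fil i).arrow ≫ e.hom = (ei i).hom ≫ a i) ∧
      (∀ i : ℤ, DerivedCategory.Q.map (K.stepLE (le_of_lt (Int.lt_succ_self i))) ≫ (ei i).hom =
        (ei (i + 1)).hom ≫ t i) := by
  haveI : ∀ (I : Type), HasColimitsOfShape (Discrete I) A := fun I => by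
    haveI : HasColimitsOfSize.{0, 0} A := hasColimitsOfSizeShrink.{0, 0, v, v} A
    infer_instance
  -- representatives
  have hrep := fun i => exists_kInj_rep (Es i)
  choose J hJ θ' using hrep
  obtain ⟨W, hW, ⟨θ⟩⟩ := exists_kInj_rep E
  have θi : ∀ i, Q.obj (J i) ≅ Es i := fun i => (θ' i).some
  haveI := hJ
  haveI := hW
  have hτ := fun i => exists_Q_map_eq ((θi (i + 1)).hom ≫ t i ≫ (θi i).inv)
  choose τ hτ using hτ
  have hα := fun i => exists_Q_map_eq ((θi i).hom ≫ a i ≫ θ.inv)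
  choose α hα using hα
  have hh : ∀ k, Nonempty (Homotopy (α (k + 1)) (τ k ≫ α k)) := by
    intro k
    apply homotopy_of_Q_map_eq
    rw [Q.map_comp, hα, hα, hτ, ← hat k]
    simp only [Category.assoc, Iso.inv_hom_id_assoc]
  obtain ⟨g, hg⟩ := exists_g J τ α hh
  have hC : Homotopy (𝟙 (mappingCone (𝟙 (Tel J τ PT hPT)))) 0 :=
    mappingCone.homotopyToZeroOfId _
  let e : Q.obj (amb J τ W) ≅ E :=
    { hom := Q.map (biprod.fst : amb J τ W ⟶ W) ≫ θ.hom
      inv := θ.inv ≫ Q.map (biprod.inl : W ⟶ amb J τ W)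
      hom_inv_id := by
        rw [Category.assoc, Iso.hom_inv_id_assoc]
        exact Q_map_fst_inl W _ hC
      inv_hom_id := by
        rw [Category.assoc, ← Q.map_comp_assoc, biprod.inl_fst, Q.map_id,
          Category.id_comp, Iso.inv_hom_id] }
  have hru : ∀ i, Q.map (r J τ i) ≫ Q.map (u J τ i) = 𝟙 _ := by
    intro i
    rw [← cancel_mono (Q.map (r J τ i)), Category.assoc, ← Q.map_comp (u J τ i) (r J τ i), u_r,
      Q.map_id, Category.comp_id, Category.id_comp]
  refine main_aux E Es t a (amb J τ W) (fun i => Tel J τ (Pi i) (hPi i)) (m J τ g)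
    (fun i j hij => incl J τ (P := Pi j) (P' := Pi i) (fun _ hk => le_trans hij hk) (hPi j) (hPi i))
    (fun i j hij => incl_m J τ g hij) e
    (fun i => asIso (Q.map (r J τ i)) ≪≫ θi i) (fun i => ?_) (fun i => ?_)
  · have h2 : Q.map (incl J τ (hPiT i) (hPi i) hPT ≫ g) =
        Q.map (r J τ i) ≫ Q.map (α i) := by
      rw [← u_incl_comp J τ α i hg, Q.map_comp (u J τ i), reassoc_of% (hru i)]
    change Q.map (m J τ g i) ≫ Q.map biprod.fst ≫ θ.hom =
      (Q.map (r J τ i) ≫ (θi i).hom) ≫ a i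
    rw [← Q.map_comp_assoc (m J τ g i), m_fst, h2, hα]
    simp only [Category.assoc, Iso.inv_hom_id, Category.comp_id]
  · change Q.map (incl J τ (hPi_succ i) (hPi (i + 1)) (hPi i)) ≫
      (Q.map (r J τ i) ≫ (θi i).hom) =
      (Q.map (r J τ (i + 1)) ≫ (θi (i + 1)).hom) ≫ t i
    rw [← Q.map_comp_assoc _ (r J τ i), incl_r, Q.map_comp_assoc, hτ]
    simp only [Category.assoc, Iso.inv_hom_id, Category.comp_id]

end Groth.Agent.S6534
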