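import Groth.Statements.S6540
import Groth.Agent.Lib.Helper67.CurveInv2
import Groth.Agent.S1520

set_option autoImplicit false
universe u
open CategoryTheory CategoryTheory.Limits AlgebraicGeometry
open Curves

namespace Groth.Agent.S6540

/-- Let X be a proper curve over the field k (proper, integral, of dimension one) with H^0(X, O_X) = k
and genus 0. Then every invertible O_X-module of degree 0 is trivial, i.e. isomorphic to O_X. -/
theorem result (k : Type u) [Field k] (X : Scheme.{u}) [X.Over (Spec (CommRingCat.of k))]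
    [IsIntegral X] [IsProper (X ↘ (Spec (CommRingCat.of k)))] (hdim : topologicalKrullDim X = 1)
    (h0 : Module.finrank k (Coh.HH X (Coh.structureModule X) 0) = 1) (hg : Curv2.genus k X = 0)
    (L : X.Modules) (hL : PicF.IsInvertible L) (hdeg : Curv2.deg k X L 1 = 0) :
    Nonempty (L ≅ Coh.structureModule X) := by
  have hO1 := Groth.Agent.Lib.Helper67.CurveTors.rank_one_of_isInvertible
    (Groth.Agent.Lib.Helper11.GenLocus.isInvertible_structureModule X)
  have hL1 := Groth.Agent.Lib.Helper67.CurveTors.rank_one_of_isInvertible hL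
  have eL := Groth.Agent.Lib.Helper67.CurveInv.euler_eq_of_coh k X hdim.le L
    (Groth.Agent.Lib.Helper67.CurveDeg.isCoh_of_rank hL1)
  have eO := Groth.Agent.Lib.Helper67.CurveInv.euler_eq_of_coh k X hdim.le (Coh.structureModule X)
    (Groth.Agent.Lib.Helper67.CurveDeg.isCoh_of_rank hO1)
  have hdeg' := hdeg
  unfold Curv2.deg at hdeg'
  unfold Curv2.genus at hg
  rw [eL, eO, h0, hg] at hdeg'
  have hpos : 0 < Module.finrank k (Coh.HH X L 0) := by
    have : (0 : ℤ) < (Module.finrank k (Coh.HH X L 0) : ℤ) := by
      push_cast at hdeg'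
      have h2 : (0 : ℤ) ≤ (Module.finrank k (Coh.HH X L 1) : ℤ) := Int.natCast_nonneg _
      linarith
    exact_mod_cast this
  have hnt : Nontrivial (Coh.HH X L 0) := Module.nontrivial_of_finrank_pos hpos
  obtain ⟨s, hs⟩ := Groth.Agent.Lib.Helper67.CurveInv.exists_hom_ne_zero_of_nontrivial L hnt
  exact Groth.Agent.S1520.result k X hdim L hL s hs hdeg.le

end Groth.Agent.S6540
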