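import Groth.Statements.S6555
import Groth.Agent.Lib.Helper24.KaehlerUniformizer
import Groth.Agent.Lib.Helper24.KaehlerStalk
import Groth.Agent.Lib.Helper24.SmoothStalkFibres
import Groth.Agent.H46.SmoothLocalDim
import Groth.Agent.Lib.Helper85.RegularLocal

set_option autoImplicit false
universe u
open CategoryTheory CategoryTheory.Limits AlgebraicGeometry
attribute [local instance] Curv2.resAlgebra Curv2.stalkAlgebra
open Curves

namespace Groth.Agent.S6555

set_option backward.isDefEq.respectTransparency.types false in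
theorem appLE_ι_comp_germ {X S : Scheme.{u}} (p : X ⟶ S) (U : X.Opens) (V : U.toScheme.Opens)
    (W : S.Opens) (e : V ≤ (U.ι ≫ p) ⁻¹ᵁ W) (x : X) (hxV : x ∈ U.ι ''ᵁ V) (hxW : x ∈ p ⁻¹ᵁ W) :
    (U.ι ≫ p).appLE W V e ≫ X.presheaf.germ (U.ι ''ᵁ V) x hxV =
      p.app W ≫ X.presheaf.germ (p ⁻¹ᵁ W) x hxW := by
  rw [Scheme.Hom.comp_appLE, Category.assoc, Scheme.Opens.ι_appLE]
  congr 1
  exact TopCat.Presheaf.germ_res X.presheaf _ x hxV


/-- Let X be a scheme over the field k and x ∈ X a closed point near which X → Spec k is smooth of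
relative dimension 1 (on some open neighbourhood of x), with κ(x)/k separable. If s is an
irreducible element of the local ring O_{X,x} (a discrete valuation ring, so s generates its maximal
ideal), then Ω_{O_{X,x}/k}, which is the stalk of Ω_{X/k} at x, is free of rank one with basis d s:
the map a ↦ a · d s from O_{X,x} to Ω_{O_{X,x}/k} is bijective. -/
theorem result (k : Type u) [Field k] (X : Scheme.{u}) [X.Over (Spec (CommRingCat.of k))]
    (x : X) (hx : IsClosed ({x} : Set X))
    (hsm : ∃ U : X.Opens, x ∈ U ∧ SmoothOfRelativeDimension 1 (U.ι ≫ (X ↘ (Spec (CommRingCat.of k)))))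
    (hsep : Algebra.IsSeparable k (X.residueField x))
    (s : X.presheaf.stalk x) (hs : Irreducible s) :
    Function.Bijective (fun a : X.presheaf.stalk x => a • KaehlerDifferential.D k (X.presheaf.stalk x) s) := by
  obtain ⟨U, hxU, hU⟩ := hsm
  obtain ⟨V₀, hV₀, V, hV, hzV, e, hss⟩ :=
    SmoothOfRelativeDimension.exists_isStandardSmoothOfRelativeDimension (n := 1)
      (f := U.ι ≫ (X ↘ (Spec (CommRingCat.of k)))) ⟨x, hxU⟩
  have hV₀top : V₀ = ⊤ := by
    ext y
    simp only [TopologicalSpace.Opens.coe_top, Set.mem_univ, iff_true]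
    have hgz : (U.ι ≫ (X ↘ (Spec (CommRingCat.of k)))) ⟨x, hxU⟩ ∈ V₀ := e hzV
    have hsub : Subsingleton (PrimeSpectrum k) := inferInstance
    have : y = (U.ι ≫ (X ↘ (Spec (CommRingCat.of k)))) ⟨x, hxU⟩ := hsub.elim _ _
    rw [this]; exact hgz
  subst hV₀top
  let eR : k ≃+* Γ(Spec (CommRingCat.of k), ⊤) :=
    (Scheme.ΓSpecIso (CommRingCat.of k)).symm.commRingCatIsoToRingEquiv
  have hV' : IsAffineOpen (U.ι ''ᵁ V) := hV.image_of_isOpenImmersion U.ι
  have hxV' : x ∈ U.ι ''ᵁ V := ⟨⟨x, hxU⟩, hzV, rfl⟩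
  let φ : k →+* Γ(X, U.ι ''ᵁ V) :=
    ((U.ι ≫ (X ↘ (Spec (CommRingCat.of k)))).appLE ⊤ V e).hom.comp eR.toRingHom
  have hφ : φ.IsStandardSmoothOfRelativeDimension 1 :=
    (RingHom.isStandardSmoothOfRelativeDimension_respectsIso (n := 1)).2 _ eR hss
  let algB : Algebra k Γ(X, U.ι ''ᵁ V) := φ.toAlgebra
  let algBT : Algebra Γ(X, U.ι ''ᵁ V) (X.presheaf.stalk x) :=
    X.presheaf.algebra_section_stalk ⟨x, hxV'⟩
  have hA : Algebra.IsStandardSmoothOfRelativeDimension 1 k Γ(X, U.ι ''ᵁ V) := hφ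
  have tower : IsScalarTower k Γ(X, U.ι ''ᵁ V) (X.presheaf.stalk x) := by
    have key : (U.ι ≫ (X ↘ (Spec (CommRingCat.of k)))).appLE ⊤ V e ≫
        X.presheaf.germ (U.ι ''ᵁ V) x hxV' =
        (X ↘ (Spec (CommRingCat.of k))).appTop ≫ X.presheaf.germ ⊤ x trivial :=
      appLE_ι_comp_germ (X ↘ (Spec (CommRingCat.of k))) U V ⊤ e x hxV' trivial
    refine IsScalarTower.of_algebraMap_eq' ?_
    ext a
    have h1 := congr($key (eR a))
    exact h1.symm
  -- localization
  have locT : IsLocalization.AtPrime (X.presheaf.stalk x)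
      (hV'.primeIdealOf ⟨x, hxV'⟩).asIdeal := hV'.isLocalization_stalk ⟨x, hxV'⟩
  have hmax : (hV'.primeIdealOf ⟨x, hxV'⟩).asIdeal.IsMaximal :=
    hV'.primeIdealOf_isMaximal_of_isClosed ⟨x, hxV'⟩ hx
  have hht : (hV'.primeIdealOf ⟨x, hxV'⟩).asIdeal.height = 1 := by
    have := Groth.Agent.H46.SmoothLocalDim.height_of_isMaximal k 1 Γ(X, U.ι ''ᵁ V)
      (hV'.primeIdealOf ⟨x, hxV'⟩).asIdeal
    simpa using this
  have hdim : ringKrullDim (X.presheaf.stalk x) = 1 := by
    rw [IsLocalization.AtPrime.ringKrullDim_eq_height (hV'.primeIdealOf ⟨x, hxV'⟩).asIdeal, hht]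
    rfl
  have feT : Algebra.FormallyEtale Γ(X, U.ι ''ᵁ V) (X.presheaf.stalk x) :=
    Algebra.FormallyEtale.of_isLocalization (hV'.primeIdealOf ⟨x, hxV'⟩).asIdeal.primeCompl
  -- Kähler differentials are free of rank one
  obtain ⟨hfree, hfin, hrk⟩ := Groth.Agent.Lib.Helper24.kaehler_free_finrank_of_chart
    k Γ(X, U.ι ''ᵁ V) k (X.presheaf.stalk x) 1
  -- the stalk is a regular local ring
  have hss' : Algebra.IsStandardSmooth k Γ(X, U.ι ''ᵁ V) :=
    Algebra.IsStandardSmoothOfRelativeDimension.isStandardSmooth 1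
  have hNB : IsNoetherianRing Γ(X, U.ι ''ᵁ V) := Algebra.FiniteType.isNoetherianRing k _
  have hNT : IsNoetherianRing (X.presheaf.stalk x) :=
    IsLocalization.isNoetherianRing (hV'.primeIdealOf ⟨x, hxV'⟩).asIdeal.primeCompl _ hNB
  have hfsB : Algebra.FormallySmooth k Γ(X, U.ι ''ᵁ V) := inferInstance
  have hfsT : Algebra.FormallySmooth k (X.presheaf.stalk x) :=
    Algebra.FormallySmooth.comp k Γ(X, U.ι ''ᵁ V) (X.presheaf.stalk x)
  have hreg : IsRegularLocalRing (X.presheaf.stalk x) :=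
    Groth.Agent.Lib.Helper90.SmoothRegular.regular_of_smooth_general (k := k)
      (Groth.Agent.Lib.Helper24.isAdicFormallySmooth_of_formallySmooth _ _ _)
  have hdom : IsDomain (X.presheaf.stalk x) :=
    Groth.Agent.Lib.Helper85.isDomain_of_isRegularLocalRing _
  have hdvr : IsDiscreteValuationRing (X.presheaf.stalk x) := by
    have h3 := (IsRegularLocalRing.iff_finrank_cotangentSpace _).mp hreg
    rw [hdim] at h3
    exact IsLocalRing.finrank_CotangentSpace_eq_one_iff.mp (by exact_mod_cast h3)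
  have hsm : IsLocalRing.maximalIdeal (X.presheaf.stalk x) = Ideal.span {s} :=
    (IsDiscreteValuationRing.irreducible_iff_uniformizer s).mp hs
  -- the residue field is formally unramified over `k`
  have hunr : Algebra.FormallyUnramified k (IsLocalRing.ResidueField (X.presheaf.stalk x)) := by
    have h1 : Algebra.FormallyEtale k (X.residueField x) := Algebra.FormallyEtale.of_isSeparable k _
    have h2 : (Curv2.resMap k X x).FormallyUnramified := by
      have : Algebra.FormallyUnramified k (X.residueField x) := inferInstance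
      exact this
    have h3 : Curv2.resMap k X x =
        algebraMap k (IsLocalRing.ResidueField (X.presheaf.stalk x)) := rfl
    rw [h3] at h2
    exact RingHom.formallyUnramified_algebraMap.mp h2
  exact Groth.Agent.Lib.Helper24.bijective_smul_D_uniformizer k (X.presheaf.stalk x) hrk s hsm

end Groth.Agent.S6555
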