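import Groth.Statements.S6556
import Groth.Agent.Lib.Helper24.BCFibre
import Groth.Agent.Lib.Helper24.InsepLength2
import Groth.Agent.Lib.Helper24.RamIdxLocal

set_option autoImplicit false
universe u
open CategoryTheory CategoryTheory.Limits AlgebraicGeometry
attribute [local instance] Curv2.resAlgebra
open Curves

namespace Groth.Agent.S6556

/-- Let X be a smooth curve over the field k (integral, separated, of finite type and smooth over k, of
dimension one), k̄ an algebraic closure of k, x̄ ∈ X_{k̄} a closed point and x ∈ X its image. Then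
the ramification index of the extension of discrete valuation rings O_{X,x} → O_{X_{k̄}, x̄} (the
length of O_{X_{k̄},x̄} modulo the ideal generated by the maximal ideal of O_{X,x}) equals the
inseparable degree [κ(x) : k]_i. -/
theorem result (k : Type u) [Field k] (X : Scheme.{u}) [X.Over (Spec (CommRingCat.of k))]
    [IsIntegral X] [IsSeparated (X ↘ (Spec (CommRingCat.of k)))] [LocallyOfFiniteType (X ↘ (Spec (CommRingCat.of k)))] [QuasiCompact (X ↘ (Spec (CommRingCat.of k)))] (hdX : topologicalKrullDim X = 1) [Smooth (X ↘ (Spec (CommRingCat.of k)))]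
    (xb : Curv2.bc k X (AlgebraicClosure k)) (hxb : IsClosed ({xb} : Set (Curv2.bc k X (AlgebraicClosure k)))) :
    letI := ((Curv2.bcFst k X (AlgebraicClosure k)).stalkMap xb).hom.toAlgebra
    Ideal.ramificationIdx (IsLocalRing.maximalIdeal ((Curv2.bc k X (AlgebraicClosure k)).presheaf.stalk xb))
        (X.presheaf.stalk (Curv2.bcFst k X (AlgebraicClosure k) xb)) =
      Field.finInsepDegree k (X.residueField (Curv2.bcFst k X (AlgebraicClosure k) xb)) := by
  let algBB' : Algebra (X.presheaf.stalk (Curv2.bcFst k X (AlgebraicClosure k) xb))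
      ((Curv2.bc k X (AlgebraicClosure k)).presheaf.stalk xb) :=
    ((Curv2.bcFst k X (AlgebraicClosure k)).stalkMap xb).hom.toAlgebra
  have hx : IsClosed ({Curv2.bcFst k X (AlgebraicClosure k) xb} : Set X) :=
    Groth.Agent.Lib.Helper24.isClosed_singleton_bcFst k X (AlgebraicClosure k) xb hxb
  have hfin : Module.Finite k (X.residueField (Curv2.bcFst k X (AlgebraicClosure k) xb)) :=
    Groth.Agent.Lib.Helper24.finite_residueField_of_isClosed k X _ hx
  have hlh : IsLocalHom (algebraMap (X.presheaf.stalk (Curv2.bcFst k X (AlgebraicClosure k) xb))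
      ((Curv2.bc k X (AlgebraicClosure k)).presheaf.stalk xb)) := by
    show IsLocalHom ((Curv2.bcFst k X (AlgebraicClosure k)).stalkMap xb).hom
    infer_instance
  rw [Groth.Agent.Lib.Helper24.ramificationIdx_maximalIdeal_eq_length]
  obtain ⟨𝔮, h𝔮, ⟨e⟩⟩ :=
    Groth.Agent.Lib.Helper24.nonempty_quot_ringEquiv_localization_tensor k X (AlgebraicClosure k) xb
  have h1 := Groth.Agent.Lib.Helper24.length_self_eq_of_ringEquiv e
  have h2 := Groth.Agent.Lib.Helper24.length_localization_tensor_eq_finInsepDegree k
    (X.residueField (Curv2.bcFst k X (AlgebraicClosure k) xb)) (AlgebraicClosure k) 𝔮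
  have h3 : Module.length
      (↑((Curv2.bc k X (AlgebraicClosure k)).presheaf.stalk xb) ⧸
        (IsLocalRing.maximalIdeal ↑(X.presheaf.stalk (Curv2.bcFst k X (AlgebraicClosure k) xb))).map
          (algebraMap ↑(X.presheaf.stalk (Curv2.bcFst k X (AlgebraicClosure k) xb))
            ↑((Curv2.bc k X (AlgebraicClosure k)).presheaf.stalk xb)))
      (↑((Curv2.bc k X (AlgebraicClosure k)).presheaf.stalk xb) ⧸
        (IsLocalRing.maximalIdeal ↑(X.presheaf.stalk (Curv2.bcFst k X (AlgebraicClosure k) xb))).map
          (algebraMap ↑(X.presheaf.stalk (Curv2.bcFst k X (AlgebraicClosure k) xb))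
            ↑((Curv2.bc k X (AlgebraicClosure k)).presheaf.stalk xb))) =
      (Field.finInsepDegree k (X.residueField (Curv2.bcFst k X (AlgebraicClosure k) xb)) : ℕ∞) :=
    h1.trans h2
  rw [h3]
  exact ENat.toNat_natCast _

end Groth.Agent.S6556
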