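import Groth.Statements.S6557
import Mathlib
import Groth.Agent.S2805
import Groth.Agent.Lib.Helper38.NormSch

set_option autoImplicit false
universe u
open CategoryTheory CategoryTheory.Limits AlgebraicGeometry
open Curves

namespace Groth.Agent.S6557

/-- Let k be a field and f : X → Y a surjective morphism over k of curves over k (integral, separated,
of finite type over k, of dimension one). If X is smooth over k and every local ring of Y is an
integrally closed domain, then Y is also smooth over k. -/
theorem result (k : Type u) [Field k]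
    (X Y : Scheme.{u}) [X.Over (Spec (CommRingCat.of k))] [Y.Over (Spec (CommRingCat.of k))]
    [IsIntegral X] [IsSeparated (X ↘ (Spec (CommRingCat.of k)))] [LocallyOfFiniteType (X ↘ (Spec (CommRingCat.of k)))] [QuasiCompact (X ↘ (Spec (CommRingCat.of k)))] (hdX : topologicalKrullDim X = 1) [IsIntegral Y] [IsSeparated (Y ↘ (Spec (CommRingCat.of k)))] [LocallyOfFiniteType (Y ↘ (Spec (CommRingCat.of k)))] [QuasiCompact (Y ↘ (Spec (CommRingCat.of k)))] (hdY : topologicalKrullDim Y = 1)
    (f : X ⟶ Y) (hf : f ≫ (Y ↘ (Spec (CommRingCat.of k))) = X ↘ (Spec (CommRingCat.of k))) [Surjective f]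
    [Smooth (X ↘ (Spec (CommRingCat.of k)))] (hY : Pi1.IsNormalScheme Y) :
    Smooth (Y ↘ (Spec (CommRingCat.of k))) := by
  have hnk : IsLocallyNoetherian (Spec (CommRingCat.of k)) := inferInstance
  have hYN : IsLocallyNoetherian Y :=
    LocallyOfFiniteType.isLocallyNoetherian (Y ↘ (Spec (CommRingCat.of k)))
  have hYfp : LocallyOfFinitePresentation (Y ↘ (Spec (CommRingCat.of k))) := inferInstance
  have hXfp : LocallyOfFinitePresentation (X ↘ (Spec (CommRingCat.of k))) := inferInstance
  -- injectivity of `f.app` on affine opens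
  have happ : ∀ (U : Y.Opens) (g : Γ(Y, U)), f.app U g = 0 → g = 0 := by
    intro U g hg
    have h1 : f ⁻¹ᵁ Y.basicOpen g = X.basicOpen (f.app U g) := Scheme.preimage_basicOpen f g
    rw [hg, Scheme.basicOpen_zero] at h1
    have h2 : Y.basicOpen g = ⊥ := by
      rw [eq_bot_iff]
      intro y hy
      obtain ⟨x, rfl⟩ := f.surjective y
      have : x ∈ f ⁻¹ᵁ Y.basicOpen g := hy
      rw [h1] at this
      exact this
    exact (basicOpen_eq_bot_iff g).mp h2
  -- the stalk maps are flat
  have hflat : ∀ x : X, (f.stalkMap x).hom.Flat := by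
    intro x
    obtain ⟨hdom, hic⟩ := hY (f.base x)
    have hinj : Function.Injective (f.stalkMap x) := by
      obtain ⟨_, ⟨U, hU, rfl⟩, hxU, -⟩ :=
        Y.isBasis_affineOpens.exists_subset_of_mem_open (Set.mem_univ (f.base x)) isOpen_univ
      refine hU.stalkMap_injective f x hxU ?_
      intro g hg
      have h1 : f.stalkMap x (Y.presheaf.germ U (f x) hxU g) =
          X.presheaf.germ (f ⁻¹ᵁ U) x hxU (f.app U g) := by
        have h2 := Scheme.Hom.germ_stalkMap f U x hxU
        exact congr($h2 g)
      rw [h1] at hg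
      have h3 : f.app U g = 0 := by
        apply germ_injective_of_isIntegral X x hxU
        rw [hg, map_zero]
      rw [happ U g h3, map_zero]
    let _ : Algebra (Y.presheaf.stalk (f.base x)) (X.presheaf.stalk x) := (f.stalkMap x).hom.toAlgebra
    have hdimle : Ring.KrullDimLE 1 (Y.presheaf.stalk (f.base x)) :=
      Groth.Agent.Lib.Helper38.NormSch.krullDimLE_one_stalk Y hdY (f.base x)
    have hdim1 : Ring.DimensionLEOne (Y.presheaf.stalk (f.base x)) :=
      ⟨fun {p} hp0 hp => Ring.krullDimLE_one_iff_of_noZeroDivisors.mp hdimle p hp0 hp⟩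
    have hded : IsDedekindDomain (Y.presheaf.stalk (f.base x)) :=
      { toIsDomain := hdom
        toIsDedekindRing :=
          { toIsNoetherian := inferInstanceAs (IsNoetherianRing (Y.presheaf.stalk (f.base x)))
            toDimensionLEOne := hdim1
            toIsIntegralClosure := hic } }
    have hXdom : IsDomain (X.presheaf.stalk x) := inferInstance
    have htf : Module.IsTorsionFree (Y.presheaf.stalk (f.base x)) (X.presheaf.stalk x) := by
      refine ⟨fun r hr => ?_⟩
      intro b₁ b₂ hb
      have hr0 : r ≠ 0 := hr.ne_zero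
      have hr1 : algebraMap (Y.presheaf.stalk (f.base x)) (X.presheaf.stalk x) r ≠ 0 := by
        intro h0
        apply hr0
        apply hinj
        rw [map_zero]
        exact h0
      have hb' : algebraMap (Y.presheaf.stalk (f.base x)) (X.presheaf.stalk x) r * b₁ =
          algebraMap (Y.presheaf.stalk (f.base x)) (X.presheaf.stalk x) r * b₂ := by
        simpa [Algebra.smul_def] using hb
      exact mul_left_cancel₀ hr1 hb'
    exact (inferInstance : Module.Flat (Y.presheaf.stalk (f.base x)) (X.presheaf.stalk x))
  -- descend smoothness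
  have hloc : ∀ x : X, ∃ V : Y.Opens, f.base x ∈ V ∧ Smooth (V.ι ≫ (Y ↘ (Spec (CommRingCat.of k)))) := by
    intro x
    refine Groth.Agent.S2805.result (Y ↘ (Spec (CommRingCat.of k))) (X ↘ (Spec (CommRingCat.of k))) f hf x
      (hflat x) ⟨⊤, trivial, ?_⟩
    infer_instance
  choose V hxV hV using hloc
  have hcover : (⨆ x : X, V x) = ⊤ := by
    rw [eq_top_iff]
    intro y _
    obtain ⟨x, rfl⟩ := f.surjective y
    exact TopologicalSpace.Opens.mem_iSup.mpr ⟨x, hxV x⟩
  exact IsZariskiLocalAtSource.of_iSup_eq_top (P := @Smooth) V hcover hV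

end Groth.Agent.S6557
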