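import Groth.Statements.S6580
-- import your own Groth.Agent.* helpers here
import Mathlib.Tactic.NoncommRing

set_option autoImplicit false
universe v u
open CategoryTheory CategoryTheory.Limits
open CohDer

namespace Groth.Agent.S6580

/-- idempotent lifting in a (noncommutative) ring: if `d = x*x - x` squares to zero then
`3x² - 2x³` is idempotent. -/
theorem idem_of_sq_zero {R : Type*} [Ring R] (x : R) (h : (x * x - x) * (x * x - x) = 0) :
    ((3 : ℕ) • (x * x) - (2 : ℕ) • (x * x * x)) * ((3 : ℕ) • (x * x) - (2 : ℕ) • (x * x * x)) =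
      (3 : ℕ) • (x * x) - (2 : ℕ) • (x * x * x) := by
  have key : ((3 : ℕ) • (x * x) - (2 : ℕ) • (x * x * x)) * ((3 : ℕ) • (x * x) - (2 : ℕ) • (x * x * x)) -
      ((3 : ℕ) • (x * x) - (2 : ℕ) • (x * x * x)) =
      (4 * (x * x) - 4 * x - 3) * ((x * x - x) * (x * x - x)) := by
    noncomm_ring
  rw [h, mul_zero, sub_eq_zero] at key
  exact key

open CategoryTheory.Pretriangulated CategoryTheory.Category in
set_option backward.defeqAttrib.useBackward true in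
set_option backward.isDefEq.respectTransparency false in
theorem aux {D : Type u} [Category.{v} D] [Preadditive D] [HasZeroObject D] [HasShift D ℤ]
    [∀ n : ℤ, (shiftFunctor D n).Additive] [Pretriangulated D]
    (T : Triangle D) (hT : T ∈ distinguishedTriangles) (a : T.obj₁ ⟶ T.obj₁) (c : T.obj₃ ⟶ T.obj₃)
    (ha : a ≫ a = a) (hc : c ≫ c = c) (comm : T.mor₃ ≫ (shiftFunctor D (1 : ℤ)).map a = c ≫ T.mor₃) :
    ∃ b : T.obj₂ ⟶ T.obj₂, b ≫ b = b ∧ T.mor₁ ≫ b = a ≫ T.mor₁ ∧ T.mor₂ ≫ c = b ≫ T.mor₂ := by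
  obtain ⟨b', h₁, h₂⟩ := complete_distinguished_triangle_morphism₂ T T hT hT a c comm
  have hd₁ : T.mor₁ ≫ (b' ≫ b' - b') = 0 := by
    rw [Preadditive.comp_sub, reassoc_of% h₁, h₁, reassoc_of% ha, sub_self]
  have hd₂ : (b' ≫ b' - b') ≫ T.mor₂ = 0 := by
    rw [Preadditive.sub_comp, assoc, ← h₂, ← reassoc_of% h₂, hc, sub_self]
  obtain ⟨d', hd'⟩ := Triangle.coyoneda_exact₂ T hT _ hd₂
  have hdd : (b' ≫ b' - b') ≫ (b' ≫ b' - b') = 0 := by
    conv_lhs => rw [hd']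
    rw [assoc, ← hd', hd₁, comp_zero]
  let β : End T.obj₂ := b'
  have hβ : (β * β - β) * (β * β - β) = 0 := hdd
  have hb := idem_of_sq_zero β hβ
  refine ⟨(3 : ℕ) • (b' ≫ b') - (2 : ℕ) • (b' ≫ b' ≫ b'), hb, ?_, ?_⟩
  · have e1 : T.mor₁ ≫ b' ≫ b' = a ≫ T.mor₁ := by
      rw [reassoc_of% h₁, h₁, reassoc_of% ha]
    have e2 : T.mor₁ ≫ b' ≫ b' ≫ b' = a ≫ T.mor₁ := by
      rw [reassoc_of% h₁, e1, reassoc_of% ha]
    rw [Preadditive.comp_sub, Preadditive.comp_nsmul, Preadditive.comp_nsmul, e1, e2]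
    abel
  · have e1 : b' ≫ b' ≫ T.mor₂ = T.mor₂ ≫ c := by
      rw [← h₂, ← reassoc_of% h₂, hc]
    have e2 : b' ≫ b' ≫ b' ≫ T.mor₂ = T.mor₂ ≫ c := by
      rw [e1, ← reassoc_of% h₂, hc]
    rw [Preadditive.sub_comp, Preadditive.nsmul_comp, Preadditive.nsmul_comp, assoc, assoc, assoc,
      e2, e1]
    abel

open CategoryTheory.Pretriangulated in
/-- Let (X, Y, Z, f, g, h) be a distinguished triangle of a pretriangulated category, and let a : X ⟶ X
and c : Z ⟶ Z be idempotents with h ≫ a⟦1⟧ = c ≫ h. Then there is an idempotent b : Y ⟶ Y such that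
(a, b, c) is an endomorphism of the triangle. -/
theorem result {D : Type u} [Category.{v} D] [Preadditive D] [HasZeroObject D] [HasShift D ℤ]
    [∀ n : ℤ, (shiftFunctor D n).Additive] [Pretriangulated D]
    (T : Triangle D) (hT : T ∈ distinguishedTriangles) (a : T.obj₁ ⟶ T.obj₁) (c : T.obj₃ ⟶ T.obj₃)
    (ha : a ≫ a = a) (hc : c ≫ c = c) (comm : T.mor₃ ≫ (shiftFunctor D (1 : ℤ)).map a = c ≫ T.mor₃) :
    ∃ b : T.obj₂ ⟶ T.obj₂, b ≫ b = b ∧ T.mor₁ ≫ b = a ≫ T.mor₁ ∧ T.mor₂ ≫ c = b ≫ T.mor₂ := by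
  exact aux T hT a c ha hc comm

end Groth.Agent.S6580
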