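import Groth.Statements.S6581
-- import your own Groth.Agent.* helpers here
import Groth.Agent.Lib.Helper32.TriangRetract

set_option autoImplicit false
universe v u
open CategoryTheory CategoryTheory.Limits
open CohDer

namespace Groth.Agent.S6581

open CategoryTheory.Pretriangulated CategoryTheory.Category in
set_option backward.defeqAttrib.useBackward true in
set_option backward.isDefEq.respectTransparency false in
theorem mor₃_fst {D : Type u} [Category.{v} D] [Preadditive D] [HasZeroObject D] [HasShift D ℤ]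
    [∀ n : ℤ, (shiftFunctor D n).Additive] [Pretriangulated D]
    (T T' : Triangle D) :
    biprod.desc (T.mor₃ ≫ (shiftFunctor D (1 : ℤ)).map biprod.inl)
      (T'.mor₃ ≫ (shiftFunctor D (1 : ℤ)).map biprod.inr) ≫
        (shiftFunctor D (1 : ℤ)).map (biprod.fst : T.obj₁ ⊞ T'.obj₁ ⟶ _) = biprod.fst ≫ T.mor₃ := by
  ext
  · simp [← Functor.map_comp]
  · simp [← Functor.map_comp]

open CategoryTheory.Pretriangulated CategoryTheory.Category in
set_option backward.defeqAttrib.useBackward true in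
set_option backward.isDefEq.respectTransparency false in
theorem mor₃_snd {D : Type u} [Category.{v} D] [Preadditive D] [HasZeroObject D] [HasShift D ℤ]
    [∀ n : ℤ, (shiftFunctor D n).Additive] [Pretriangulated D]
    (T T' : Triangle D) :
    biprod.desc (T.mor₃ ≫ (shiftFunctor D (1 : ℤ)).map biprod.inl)
      (T'.mor₃ ≫ (shiftFunctor D (1 : ℤ)).map biprod.inr) ≫
        (shiftFunctor D (1 : ℤ)).map (biprod.snd : T.obj₁ ⊞ T'.obj₁ ⟶ _) = biprod.snd ≫ T'.mor₃ := by
  ext
  · simp [← Functor.map_comp]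
  · simp [← Functor.map_comp]

open CategoryTheory.Pretriangulated CategoryTheory.Category in
set_option backward.defeqAttrib.useBackward true in
set_option backward.isDefEq.respectTransparency false in
theorem left_of_sum {D : Type u} [Category.{v} D] [Preadditive D] [HasZeroObject D] [HasShift D ℤ]
    [∀ n : ℤ, (shiftFunctor D n).Additive] [Pretriangulated D]
    (T T' : Triangle D)
    (h : Triangle.mk (biprod.map T.mor₁ T'.mor₁) (biprod.map T.mor₂ T'.mor₂)
        (biprod.desc (T.mor₃ ≫ (shiftFunctor D (1 : ℤ)).map biprod.inl) (T'.mor₃ ≫ (shiftFunctor D (1 : ℤ)).map biprod.inr)) ∈ distinguishedTriangles) :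
    T ∈ distinguishedTriangles := by
  refine Groth.Agent.Lib.Helper32.distinguished_of_retract T _ h
    { hom₁ := biprod.inl, hom₂ := biprod.inl, hom₃ := biprod.inl }
    { hom₁ := biprod.fst, hom₂ := biprod.fst, hom₃ := biprod.fst, comm₃ := mor₃_fst T T' } ?_
  ext <;> simp

open CategoryTheory.Pretriangulated CategoryTheory.Category in
set_option backward.defeqAttrib.useBackward true in
set_option backward.isDefEq.respectTransparency false in
theorem right_of_sum {D : Type u} [Category.{v} D] [Preadditive D] [HasZeroObject D] [HasShift D ℤ]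
    [∀ n : ℤ, (shiftFunctor D n).Additive] [Pretriangulated D]
    (T T' : Triangle D)
    (h : Triangle.mk (biprod.map T.mor₁ T'.mor₁) (biprod.map T.mor₂ T'.mor₂)
        (biprod.desc (T.mor₃ ≫ (shiftFunctor D (1 : ℤ)).map biprod.inl) (T'.mor₃ ≫ (shiftFunctor D (1 : ℤ)).map biprod.inr)) ∈ distinguishedTriangles) :
    T' ∈ distinguishedTriangles := by
  refine Groth.Agent.Lib.Helper32.distinguished_of_retract T' _ h
    { hom₁ := biprod.inr, hom₂ := biprod.inr, hom₃ := biprod.inr }
    { hom₁ := biprod.snd, hom₂ := biprod.snd, hom₃ := biprod.snd, comm₃ := mor₃_snd T T' } ?_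
  ext <;> simp

open CategoryTheory.Pretriangulated CategoryTheory.Category in
set_option backward.defeqAttrib.useBackward true in
set_option backward.isDefEq.respectTransparency false in
theorem sum_distinguished {D : Type u} [Category.{v} D] [Preadditive D] [HasZeroObject D] [HasShift D ℤ]
    [∀ n : ℤ, (shiftFunctor D n).Additive] [Pretriangulated D]
    (T T' : Triangle D) (hT : T ∈ distinguishedTriangles) (hT' : T' ∈ distinguishedTriangles) :
    Triangle.mk (biprod.map T.mor₁ T'.mor₁) (biprod.map T.mor₂ T'.mor₂)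
        (biprod.desc (T.mor₃ ≫ (shiftFunctor D (1 : ℤ)).map biprod.inl) (T'.mor₃ ≫ (shiftFunctor D (1 : ℤ)).map biprod.inr)) ∈ distinguishedTriangles := by
  obtain ⟨Q, g₀, h₀, hS₀⟩ := distinguished_cocone_triangle (biprod.map T.mor₁ T'.mor₁)
  obtain ⟨c, hc₂, hc₃⟩ := complete_distinguished_triangle_morphism _ T hS₀ hT biprod.fst biprod.fst
    (by simp)
  obtain ⟨c', hc₂', hc₃'⟩ := complete_distinguished_triangle_morphism _ T' hS₀ hT' biprod.snd biprod.snd
    (by simp)
  dsimp at c hc₂ hc₃ c' hc₂' hc₃'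
  set m₃ := biprod.desc (T.mor₃ ≫ (shiftFunctor D (1 : ℤ)).map biprod.inl)
    (T'.mor₃ ≫ (shiftFunctor D (1 : ℤ)).map biprod.inr) with hm₃
  let e : Q ⟶ T.obj₃ ⊞ T'.obj₃ := biprod.lift c c'
  have he₂ : g₀ ≫ e = biprod.map T.mor₂ T'.mor₂ := by
    apply biprod.hom_ext
    · simp [e, hc₂]
    · simp [e, hc₂']
  have he₃ : e ≫ m₃ = h₀ := by
    rw [hm₃, biprod.lift_desc, ← reassoc_of% hc₃, ← reassoc_of% hc₃', ← Functor.map_comp,
      ← Functor.map_comp, ← Preadditive.comp_add, ← Functor.map_add, biprod.total,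
      CategoryTheory.Functor.map_id, comp_id]
  have hm₃f : m₃ ≫ (shiftFunctor D (1 : ℤ)).map (biprod.map T.mor₁ T'.mor₁) = 0 := by
    rw [hm₃]
    apply biprod.hom_ext'
    · rw [biprod.inl_desc_assoc, assoc, ← Functor.map_comp, biprod.inl_map, Functor.map_comp,
        comp_distTriang_mor_zero₃₁_assoc _ hT, zero_comp, comp_zero]
    · rw [biprod.inr_desc_assoc, assoc, ← Functor.map_comp, biprod.inr_map, Functor.map_comp,
        comp_distTriang_mor_zero₃₁_assoc _ hT', zero_comp, comp_zero]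
  suffices IsIso e by
    refine isomorphic_distinguished _ hS₀ _ ?_
    exact Triangle.isoMk _ _ (Iso.refl _) (Iso.refl _) (asIso e).symm (by simp)
      (by simp [← he₂]) (by simp [← he₃])
  refine isIso_of_yoneda_map_bijective _ (fun W => ⟨?_, ?_⟩)
  · suffices Mono e by
      intro a₁ a₂ ha
      simpa only [← cancel_mono e] using ha
    rw [Preadditive.mono_iff_cancel_zero]
    intro W φ hφ
    have h1 : φ ≫ (Triangle.mk (biprod.map T.mor₁ T'.mor₁) g₀ h₀).mor₃ = 0 := by
      dsimp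
      rw [← he₃, reassoc_of% hφ, zero_comp]
    obtain ⟨(ψ : W ⟶ T.obj₂ ⊞ T'.obj₂), hψ⟩ := Triangle.coyoneda_exact₃ _ hS₀ _ h1
    dsimp at hψ
    have h2 : ψ ≫ biprod.map T.mor₂ T'.mor₂ = 0 := by
      rw [← he₂, ← reassoc_of% hψ, hφ]
    have h3 : (ψ ≫ biprod.fst) ≫ T.mor₂ = 0 := by
      rw [assoc, ← biprod.map_fst, reassoc_of% h2, zero_comp]
    have h3' : (ψ ≫ biprod.snd) ≫ T'.mor₂ = 0 := by
      rw [assoc, ← biprod.map_snd, reassoc_of% h2, zero_comp]
    obtain ⟨χ, hχ⟩ := Triangle.coyoneda_exact₂ _ hT _ h3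
    obtain ⟨χ', hχ'⟩ := Triangle.coyoneda_exact₂ _ hT' _ h3'
    have h4 : ψ = biprod.lift χ χ' ≫ biprod.map T.mor₁ T'.mor₁ := by
      apply biprod.hom_ext
      · simp [hχ]
      · simp [hχ']
    have h12 := comp_distTriang_mor_zero₁₂ _ hS₀
    dsimp at h12
    rw [hψ, h4, assoc, h12, comp_zero]
  · intro q
    dsimp at q ⊢
    have h1 : (q ≫ m₃) ≫ (shiftFunctor D (1 : ℤ)).map
        (Triangle.mk (biprod.map T.mor₁ T'.mor₁) g₀ h₀).mor₁ = 0 := by
      dsimp
      rw [assoc, hm₃f, comp_zero]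
    obtain ⟨(z : W ⟶ Q), hz⟩ := Triangle.coyoneda_exact₁ _ hS₀ _ h1
    dsimp at hz
    have h2 : (q - z ≫ e) ≫ m₃ = 0 := by
      rw [Preadditive.sub_comp, assoc, he₃, hz, sub_self]
    have h3 : ((q - z ≫ e) ≫ biprod.fst) ≫ T.mor₃ = 0 := by
      rw [assoc, ← mor₃_fst T T', reassoc_of% h2, zero_comp]
    have h3' : ((q - z ≫ e) ≫ biprod.snd) ≫ T'.mor₃ = 0 := by
      rw [assoc, ← mor₃_snd T T', reassoc_of% h2, zero_comp]
    obtain ⟨y, hy⟩ := Triangle.coyoneda_exact₃ _ hT _ h3
    obtain ⟨y', hy'⟩ := Triangle.coyoneda_exact₃ _ hT' _ h3'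
    have h4 : q - z ≫ e = biprod.lift y y' ≫ biprod.map T.mor₂ T'.mor₂ := by
      apply biprod.hom_ext
      · rw [assoc, biprod.map_fst, biprod.lift_fst_assoc, ← hy]
      · rw [assoc, biprod.map_snd, biprod.lift_snd_assoc, ← hy']
    refine ⟨z + biprod.lift y y' ≫ g₀, ?_⟩
    rw [Preadditive.add_comp, assoc, he₂, ← h4, add_sub_cancel]

open CategoryTheory.Pretriangulated in
/-- Let T = (X, Y, Z, f, g, h) and T' = (X', Y', Z', f', g', h') be triangles in a pretriangulated
category. The direct sum triangle (X ⊞ X', Y ⊞ Y', Z ⊞ Z', f ⊕ f', g ⊕ g', h ⊕ h') (whose third map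
Z ⊞ Z' ⟶ (X ⊞ X')⟦1⟧ has components h ≫ inl⟦1⟧ and h' ≫ inr⟦1⟧) is distinguished if and only if T
and T' are both distinguished. -/
theorem result {D : Type u} [Category.{v} D] [Preadditive D] [HasZeroObject D] [HasShift D ℤ]
    [∀ n : ℤ, (shiftFunctor D n).Additive] [Pretriangulated D]
    (T T' : Triangle D) :
    Triangle.mk (biprod.map T.mor₁ T'.mor₁) (biprod.map T.mor₂ T'.mor₂)
        (biprod.desc (T.mor₃ ≫ (shiftFunctor D (1 : ℤ)).map biprod.inl) (T'.mor₃ ≫ (shiftFunctor D (1 : ℤ)).map biprod.inr)) ∈ distinguishedTriangles ↔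
      (T ∈ distinguishedTriangles ∧ T' ∈ distinguishedTriangles) := by
  exact ⟨fun h => ⟨left_of_sum T T' h, right_of_sum T T' h⟩, fun h => sum_distinguished T T' h.1 h.2⟩

end Groth.Agent.S6581
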