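import Groth.Statements.S6585
-- import your own Groth.Agent.* helpers here
import Mathlib.CategoryTheory.Triangulated.Orthogonal

set_option autoImplicit false
universe v u
open CategoryTheory CategoryTheory.Limits
open CohDer

namespace Groth.Agent.S6585

open CategoryTheory.Pretriangulated CategoryTheory.Category in
set_option backward.defeqAttrib.useBackward true in
set_option backward.isDefEq.respectTransparency false in
theorem aux {D : Type u} [Category.{v} D] [Preadditive D] [HasZeroObject D] [HasShift D ℤ]
    [∀ n : ℤ, (shiftFunctor D n).Additive] [Pretriangulated D] [IsTriangulated D]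
    (E K : D) :
    (∀ (i : ℤ) (f : E ⟶ (shiftFunctor D i).obj K), f = 0) ↔
      ∀ (E' : D), (ObjectProperty.singleton E).triangEnvelope E' → ∀ f : E' ⟶ K, f = 0 := by
  let P' : ObjectProperty D := (ObjectProperty.singleton K).shiftClosure ℤ
  let Q : ObjectProperty D := P'.leftOrthogonal
  have hQr : Q.IsStableUnderRetracts := ⟨fun {X Y} r hY Z f hZ => by
    have := hY (r.r ≫ f) hZ
    rw [← id_comp f, ← r.retract, assoc, this, comp_zero]⟩
  constructor
  · intro h E' hE' f
    have hEQ : ObjectProperty.singleton E ≤ Q := by
      rw [ObjectProperty.singleton_le_iff]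
      rintro Y f ⟨Z, a, e, hZ⟩
      rw [ObjectProperty.singleton_iff] at hZ
      subst hZ
      rw [← cancel_mono e.hom, zero_comp]
      exact h a _
    have := (ObjectProperty.triangEnvelope_le_iff (P := ObjectProperty.singleton E) (Q := Q)).2 hEQ
    exact this _ hE' f (ObjectProperty.le_shiftClosure _ _ (by simp))
  · intro h i f
    have hE : (ObjectProperty.singleton E).triangEnvelope E :=
      ObjectProperty.le_triangEnvelope _ _ (by simp)
    have hE' : (ObjectProperty.singleton E).triangEnvelope (E⟦-i⟧) :=
      (ObjectProperty.singleton E).triangEnvelope.le_shift (-i) _ hE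
    have h0 := h _ hE' (f⟦-i⟧' ≫ (shiftFunctorCompIsoId D i (-i) (by simp)).hom.app K)
    rw [← cancel_mono ((shiftFunctorCompIsoId D i (-i) (by simp)).inv.app K), assoc, zero_comp,
      Iso.hom_inv_id_app] at h0
    erw [comp_id] at h0
    exact (shiftFunctor D (-i)).map_injective (by simpa using h0)

open CategoryTheory.Pretriangulated in
/-- Let D be a triangulated category and E, K objects of D. Then Hom(E, K⟦i⟧) = 0 for all integers i if
and only if Hom(E', K) = 0 for every E' in ⟨E⟩, the smallest strictly full saturated triangulated
subcategory of D containing E (the objects obtained from E by shifts, finite direct sums, direct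
summands and extensions). -/
theorem result {D : Type u} [Category.{v} D] [Preadditive D] [HasZeroObject D] [HasShift D ℤ]
    [∀ n : ℤ, (shiftFunctor D n).Additive] [Pretriangulated D] [IsTriangulated D]
    (E K : D) :
    (∀ (i : ℤ) (f : E ⟶ (shiftFunctor D i).obj K), f = 0) ↔
      ∀ (E' : D), (ObjectProperty.singleton E).triangEnvelope E' → ∀ f : E' ⟶ K, f = 0 := by
  exact aux E K

end Groth.Agent.S6585
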