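import Groth.Statements.S6586
-- import your own Groth.Agent.* helpers here
import Mathlib.CategoryTheory.Triangulated.Orthogonal

set_option autoImplicit false
universe v u
open CategoryTheory CategoryTheory.Limits
open CohDer

namespace Groth.Agent.S6586

theorem aux {D : Type u} [Category.{v} D] [Preadditive D] [HasZeroObject D] [HasShift D ℤ]
    [∀ n : ℤ, (shiftFunctor D n).Additive] [Pretriangulated D] [IsTriangulated D]
    (E : D) (hE : (ObjectProperty.singleton E).IsClassicalTriangulatedGenerator) :
    CohDer.Generates (fun _ : PUnit.{1} => E) := by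
  intro K hK
  let R : ObjectProperty D := (ObjectProperty.singleton K).shiftClosure ℤ
  let Q : ObjectProperty D := R.leftOrthogonal
  have : Q.IsStableUnderRetracts := ⟨fun {X Y} r hY Z f hZ => by
    have h0 : r.r ≫ f = 0 := hY (r.r ≫ f) hZ
    calc f = r.i ≫ r.r ≫ f := by rw [r.retract_assoc]
      _ = 0 := by rw [h0, comp_zero]⟩
  have hPQ : ObjectProperty.singleton E ≤ Q := by
    intro X hX Z f hZ
    obtain rfl : E = X := by simpa using hX
    obtain ⟨Y, n, e, hY⟩ := hZ
    obtain rfl : K = Y := by simpa using hY
    rw [← cancel_mono e.hom, zero_comp]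
    exact hK PUnit.unit n _
  have hQ : (ObjectProperty.singleton E).triangEnvelope ≤ Q :=
    (ObjectProperty.triangEnvelope_le_iff _).2 hPQ
  rw [hE] at hQ
  have hKQ : Q K := hQ K trivial
  have hKR : R K := ObjectProperty.le_shiftClosure (ObjectProperty.singleton K) K (by simp)
  rw [IsZero.iff_id_eq_zero]
  exact hKQ (𝟙 K) hKR

/-- Fix a triangulated category D together with an object E in it. Suppose E classically generates D,
i.e. ⟨E⟩ = D; then E is a generator of D: an object K with Hom(E, K⟦n⟧) = 0 for all n is zero. -/
theorem result {D : Type u} [Category.{v} D] [Preadditive D] [HasZeroObject D] [HasShift D ℤ]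
    [∀ n : ℤ, (shiftFunctor D n).Additive] [Pretriangulated D] [IsTriangulated D]
    (E : D) (hE : (ObjectProperty.singleton E).IsClassicalTriangulatedGenerator) :
    CohDer.Generates (fun _ : PUnit.{1} => E) := by
  exact aux E hE

end Groth.Agent.S6586
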