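import Groth.Statements.S6587
-- import your own Groth.Agent.* helpers here

set_option autoImplicit false
universe v u
open CategoryTheory CategoryTheory.Limits Opposite
open CohDer

namespace Groth.Agent.S6587

open CategoryTheory.Pretriangulated in
theorem aux {D : Type u} [Category.{v} D] [Preadditive D] [HasZeroObject D] [HasShift D ℤ]
    [∀ n : ℤ, (shiftFunctor D n).Additive] [Pretriangulated D]
    (X Y Z : ARSys.PS D) (f : X ⟶ Y) (g : Y ⟶ Z) (h : Z ⟶ X ⋙ shiftFunctor D (1 : ℤ))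
    (hT : ∀ n : ℕ, Triangle.mk (f.app (op n)) (g.app (op n)) (h.app (op n)) ∈ distinguishedTriangles)
    (hZ : DerCA.IsProZero Z) :
    DerCA.IsProIso f := by
  have natf : ∀ {a b : ℕ} (hab : a ≤ b),
      ARSys.tr X hab ≫ f.app (op a) = f.app (op b) ≫ ARSys.tr Y hab :=
    fun hab => f.naturality (homOfLE hab).op
  have natg : ∀ {a b : ℕ} (hab : a ≤ b),
      ARSys.tr Y hab ≫ g.app (op a) = g.app (op b) ≫ ARSys.tr Z hab :=
    fun hab => g.naturality (homOfLE hab).op
  have nath : ∀ {a b : ℕ} (hab : a ≤ b),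
      ARSys.tr Z hab ≫ h.app (op a) = h.app (op b) ≫ (shiftFunctor D (1 : ℤ)).map (ARSys.tr X hab) :=
    fun hab => h.naturality (homOfLE hab).op
  intro n
  obtain ⟨p, hnp, hp⟩ := hZ n
  obtain ⟨m, hpm, hm⟩ := hZ p
  have hnm : n ≤ m := hnp.trans hpm
  have trX : ARSys.tr X hpm ≫ ARSys.tr X hnp = ARSys.tr X hnm := by
    rw [← X.map_comp]; congr 1
  have trY : ARSys.tr Y hpm ≫ ARSys.tr Y hnp = ARSys.tr Y hnm := by
    rw [← Y.map_comp]; congr 1
  -- factor tr Y (p ≤ m) through f_p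
  obtain ⟨b₁, hb₁⟩ : ∃ b₁ : Y.obj (op m) ⟶ X.obj (op p), ARSys.tr Y hpm = b₁ ≫ f.app (op p) :=
    Triangle.coyoneda_exact₂ _ (hT p) (ARSys.tr Y hpm) (by
      change ARSys.tr Y hpm ≫ g.app (op p) = 0
      rw [natg, hm, comp_zero])
  refine ⟨m, hnm, b₁ ≫ ARSys.tr X hnp, ?_, ?_⟩
  · -- f_m ≫ b = tr X
    have he : (f.app (op m) ≫ b₁ - ARSys.tr X hpm) ≫ f.app (op p) = 0 := by
      rw [Preadditive.sub_comp, Category.assoc, ← hb₁, natf, sub_self]
    have he' : (shiftFunctor D (1 : ℤ)).map (f.app (op m) ≫ b₁ - ARSys.tr X hpm) ≫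
        (shiftFunctor D (1 : ℤ)).map (f.app (op p)) = 0 := by
      rw [← Functor.map_comp, he, Functor.map_zero]
    obtain ⟨c, hc⟩ : ∃ c : (shiftFunctor D (1 : ℤ)).obj (X.obj (op m)) ⟶ Z.obj (op p),
        (shiftFunctor D (1 : ℤ)).map (f.app (op m) ≫ b₁ - ARSys.tr X hpm) = c ≫ h.app (op p) :=
      Triangle.coyoneda_exact₁ _ (hT p) _ he'
    have h0 : (f.app (op m) ≫ b₁ - ARSys.tr X hpm) ≫ ARSys.tr X hnp = 0 := by
      apply (shiftFunctor D (1 : ℤ)).map_injective
      rw [Functor.map_comp, hc, Functor.map_zero, Category.assoc, ← nath, hp, zero_comp, comp_zero]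
    rw [Preadditive.sub_comp, sub_eq_zero, trX, Category.assoc] at h0
    exact h0
  · rw [Category.assoc, natf, ← Category.assoc, ← hb₁, trY]

open CategoryTheory.Pretriangulated in
/-- Let D be a triangulated category and let X_n → Y_n → Z_n → X_n⟦1⟧ be an inverse system of
distinguished triangles of D indexed by ℕ (levelwise maps f, g, h of inverse systems, each level
distinguished). If the inverse system (Z_n) is pro-zero, then the levelwise map f : (X_n) → (Y_n) is
a pro-isomorphism. -/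
theorem result {D : Type u} [Category.{v} D] [Preadditive D] [HasZeroObject D] [HasShift D ℤ]
    [∀ n : ℤ, (shiftFunctor D n).Additive] [Pretriangulated D] [IsTriangulated D]
    (X Y Z : ARSys.PS D) (f : X ⟶ Y) (g : Y ⟶ Z) (h : Z ⟶ X ⋙ shiftFunctor D (1 : ℤ))
    (hT : ∀ n : ℕ, Triangle.mk (f.app (op n)) (g.app (op n)) (h.app (op n)) ∈ distinguishedTriangles)
    (hZ : DerCA.IsProZero Z) :
    DerCA.IsProIso f := by
  exact aux X Y Z f g h hT hZ

end Groth.Agent.S6587
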