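import Groth.Statements.S6593
-- import your own Groth.Agent.* helpers here
import Mathlib.CategoryTheory.Adjunction.Limits

set_option autoImplicit false
universe w v u
open CategoryTheory CategoryTheory.Limits
open CohDer

namespace Groth.Agent.S6593

open CategoryTheory.Category in
theorem shift_sigma_hom_ext {D : Type u} [Category.{v} D] [HasShift D ℤ] {J : Type w}
    {X : J → D} [HasCoproduct X] {A : D} (u v : (shiftFunctor D (1 : ℤ)).obj (∐ X) ⟶ A)
    (h : ∀ j, (shiftFunctor D (1 : ℤ)).map (Sigma.ι X j) ≫ u =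
      (shiftFunctor D (1 : ℤ)).map (Sigma.ι X j) ≫ v) : u = v :=
  (isColimitOfPreserves (shiftFunctor D (1 : ℤ)) (coproductIsCoproduct X)).hom_ext
    (fun ⟨j⟩ => h j)

open CategoryTheory.Category in
theorem shift_sigma_desc {D : Type u} [Category.{v} D] [HasShift D ℤ] {J : Type w}
    {X : J → D} [HasCoproduct X] {A : D} (β : ∀ j, (shiftFunctor D (1 : ℤ)).obj (X j) ⟶ A) :
    ∃ b : (shiftFunctor D (1 : ℤ)).obj (∐ X) ⟶ A,
      ∀ j, (shiftFunctor D (1 : ℤ)).map (Sigma.ι X j) ≫ b = β j := by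
  let hc := isColimitOfPreserves (shiftFunctor D (1 : ℤ)) (coproductIsCoproduct X)
  let c : Cocone (Discrete.functor X ⋙ shiftFunctor D (1 : ℤ)) :=
    { pt := A, ι := Discrete.natTrans (fun ⟨j⟩ => β j) }
  exact ⟨hc.desc c, fun j => hc.fac c ⟨j⟩⟩

open CategoryTheory.Pretriangulated CategoryTheory.Category in
set_option backward.defeqAttrib.useBackward true in
set_option backward.isDefEq.respectTransparency false in
theorem aux {D : Type u} [Category.{v} D] [Preadditive D] [HasZeroObject D] [HasShift D ℤ]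
    [∀ n : ℤ, (shiftFunctor D n).Additive] [Pretriangulated D]
    {J : Type w} (T : J → Triangle D) (hT : ∀ j, T j ∈ distinguishedTriangles)
    [HasCoproduct (fun j => (T j).obj₁)] [HasCoproduct (fun j => (T j).obj₂)] [HasCoproduct (fun j => (T j).obj₃)] :
    Triangle.mk (Limits.Sigma.map (fun j => (T j).mor₁)) (Limits.Sigma.map (fun j => (T j).mor₂))
      (Sigma.desc (fun j => (T j).mor₃ ≫ (shiftFunctor D (1 : ℤ)).map (Sigma.ι (fun j => (T j).obj₁) j))) ∈ distinguishedTriangles := by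
  set f₁ := Limits.Sigma.map (fun j => (T j).mor₁) with hf₁
  set s₂ := Limits.Sigma.map (fun j => (T j).mor₂) with hs₂
  set s₃ := Sigma.desc (fun j => (T j).mor₃ ≫ (shiftFunctor D (1 : ℤ)).map (Sigma.ι (fun j => (T j).obj₁) j)) with hs₃
  obtain ⟨Q, f₂, f₃, hT'⟩ := distinguished_cocone_triangle f₁
  have hφ : ∀ j, ∃ (c : (T j).obj₃ ⟶ Q), (T j).mor₂ ≫ c = Sigma.ι (fun j => (T j).obj₂) j ≫ f₂ ∧
      (T j).mor₃ ≫ (shiftFunctor D (1 : ℤ)).map (Sigma.ι (fun j => (T j).obj₁) j) = c ≫ f₃ := fun j =>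
    complete_distinguished_triangle_morphism (T j) (Triangle.mk f₁ f₂ f₃) (hT j) hT'
      (Sigma.ι (fun j => (T j).obj₁) j) (Sigma.ι (fun j => (T j).obj₂) j)
      (by simp [hf₁])
  choose c hc₂ hc₃ using hφ
  let e : (∐ fun j => (T j).obj₃) ⟶ Q := Sigma.desc c
  have he₂ : s₂ ≫ e = f₂ := by
    apply Sigma.hom_ext
    intro j
    simp [hs₂, e, hc₂]
  have he₃ : s₃ = e ≫ f₃ := by
    apply Sigma.hom_ext
    intro j
    simp [hs₃, e, hc₃]
  have zero₁₂ : f₁ ≫ s₂ = 0 := by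
    apply Sigma.hom_ext
    intro j
    simp only [hf₁, hs₂, Sigma.ι_map_assoc, Sigma.ι_map, comp_zero]
    rw [comp_distTriang_mor_zero₁₂_assoc _ (hT j), zero_comp]
  have h31 := comp_distTriang_mor_zero₃₁ _ hT'
  dsimp at h31
  -- injectivity of `e ≫ -`
  have hinj : ∀ {A : D} (a : Q ⟶ A), e ≫ a = 0 → a = 0 := by
    intro A a ha
    have h1 : (Triangle.mk f₁ f₂ f₃).mor₂ ≫ a = 0 := by
      dsimp
      rw [← he₂, assoc, ha, comp_zero]
    obtain ⟨b, hb⟩ := Triangle.yoneda_exact₃ _ hT' a h1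
    dsimp at b hb
    have h2 : ∀ j, (T j).mor₃ ≫
        ((shiftFunctor D (1 : ℤ)).map (Sigma.ι (fun j => (T j).obj₁) j) ≫ b) = 0 := by
      intro j
      rw [reassoc_of% (hc₃ j), ← hb, ← Sigma.ι_desc c j, assoc, ha, comp_zero]
    have h3 : ∀ j, ∃ β : (shiftFunctor D (1 : ℤ)).obj (T j).obj₂ ⟶ A,
        (shiftFunctor D (1 : ℤ)).map (Sigma.ι (fun j => (T j).obj₁) j) ≫ b =
          (-(shiftFunctor D (1 : ℤ)).map (T j).mor₁) ≫ β :=
      fun j => Triangle.yoneda_exact₂ (T j).rotate.rotate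
        (rot_of_distTriang _ (rot_of_distTriang _ (hT j))) _ (h2 j)
    choose β hβ using h3
    obtain ⟨β', hβ'⟩ := shift_sigma_desc (X := fun j => (T j).obj₂) (fun j => - β j)
    have h4 : b = (shiftFunctor D (1 : ℤ)).map f₁ ≫ β' := by
      apply shift_sigma_hom_ext
      intro j
      rw [hβ j, ← Functor.map_comp_assoc, hf₁, Sigma.ι_map, Functor.map_comp_assoc, hβ']
      simp
    rw [hb, h4, reassoc_of% h31, zero_comp]
  have hsurj : ∀ {A : D} (a : (∐ fun j => (T j).obj₃) ⟶ A), ∃ q : Q ⟶ A, e ≫ q = a := by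
    intro A a
    have h1 : (Triangle.mk f₁ f₂ f₃).mor₁ ≫ (s₂ ≫ a) = 0 := by
      dsimp
      rw [reassoc_of% zero₁₂, zero_comp]
    obtain ⟨a', ha'⟩ := Triangle.yoneda_exact₂ _ hT' _ h1
    dsimp at a' ha'
    have h2 : s₂ ≫ (a - e ≫ a') = 0 := by
      rw [Preadditive.comp_sub, reassoc_of% he₂, ha', sub_self]
    have h3 : ∀ j, (T j).mor₂ ≫ (Sigma.ι (fun j => (T j).obj₃) j ≫ (a - e ≫ a')) = 0 := by
      intro j
      have := Sigma.ι_map (fun j => (T j).mor₂) j
      rw [← hs₂] at this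
      rw [← reassoc_of% this, h2, comp_zero]
    have h4 := fun j => Triangle.yoneda_exact₃ _ (hT j) _ (h3 j)
    choose b hb using h4
    obtain ⟨b', hb'⟩ := shift_sigma_desc (X := fun j => (T j).obj₁) b
    have h5 : a - e ≫ a' = s₃ ≫ b' := by
      apply Sigma.hom_ext
      intro j
      rw [hb j, hs₃, Sigma.ι_desc_assoc, assoc, hb']
    refine ⟨a' + f₃ ≫ b', ?_⟩
    rw [Preadditive.comp_add, ← reassoc_of% he₃, ← h5, add_sub_cancel]
  obtain ⟨g, hg⟩ := hsurj (𝟙 _)
  have hge : g ≫ e = 𝟙 Q := by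
    have := hinj (g ≫ e - 𝟙 Q) (by rw [Preadditive.comp_sub, reassoc_of% hg, comp_id, sub_self])
    rwa [sub_eq_zero] at this
  have : IsIso e := ⟨g, hg, hge⟩
  refine isomorphic_distinguished _ hT' _ ?_
  exact Triangle.isoMk _ _ (Iso.refl _) (Iso.refl _) (asIso e) (by simp) (by simp [he₂])
    (by simp [he₃])

open CategoryTheory.Pretriangulated in
/-- Let D be a pretriangulated category and (X_i → Y_i → Z_i → X_i⟦1⟧)_{i ∈ I} a family of distinguished
triangles. If the direct sums ⨁ X_i, ⨁ Y_i, ⨁ Z_i exist, then ⨁ X_i → ⨁ Y_i → ⨁ Z_i → (⨁ X_i)⟦1⟧ is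
a distinguished triangle (the last map is induced by the composites Z_i → X_i⟦1⟧ → (⨁ X_i)⟦1⟧). -/
theorem result {D : Type u} [Category.{v} D] [Preadditive D] [HasZeroObject D] [HasShift D ℤ]
    [∀ n : ℤ, (shiftFunctor D n).Additive] [Pretriangulated D]
    {J : Type w} (T : J → Triangle D) (hT : ∀ j, T j ∈ distinguishedTriangles)
    [HasCoproduct (fun j => (T j).obj₁)] [HasCoproduct (fun j => (T j).obj₂)] [HasCoproduct (fun j => (T j).obj₃)] :
    Triangle.mk (Limits.Sigma.map (fun j => (T j).mor₁)) (Limits.Sigma.map (fun j => (T j).mor₂))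
      (Sigma.desc (fun j => (T j).mor₃ ≫ (shiftFunctor D (1 : ℤ)).map (Sigma.ι (fun j => (T j).obj₁) j))) ∈ distinguishedTriangles := by
  exact aux T hT

end Groth.Agent.S6593
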