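import Groth.Statements.S6594
-- import your own Groth.Agent.* helpers here

set_option autoImplicit false
universe v u
open CategoryTheory CategoryTheory.Limits
open CohDer

namespace Groth.Agent.S6594

open CategoryTheory.Pretriangulated CategoryTheory.Category in
set_option backward.defeqAttrib.useBackward true in
set_option backward.isDefEq.respectTransparency false in
theorem exists_iso_biprod_of_mono {D : Type u} [Category.{v} D] [Preadditive D] [HasZeroObject D] [HasShift D ℤ]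
    [∀ n : ℤ, (shiftFunctor D n).Additive] [Pretriangulated D]
    {A B : D} (m : A ⟶ B) [Mono m] : ∃ (C : D) (e : B ≅ A ⊞ C), m ≫ e.hom = biprod.inl := by
  obtain ⟨C, g, h, hT⟩ := distinguished_cocone_triangle m
  have h0 : (Triangle.mk m g h).mor₃ = 0 := Triangle.mor₃_eq_zero_of_mono₁ _ hT (by dsimp; infer_instance)
  obtain ⟨e, he, -⟩ := exists_iso_binaryBiproduct_of_distTriang _ hT h0
  exact ⟨C, e, he⟩

open CategoryTheory.Pretriangulated CategoryTheory.Category in
set_option backward.defeqAttrib.useBackward true in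
set_option backward.isDefEq.respectTransparency false in
theorem aux {D : Type u} [Category.{v} D] [Preadditive D] [HasZeroObject D] [HasShift D ℤ]
    [∀ n : ℤ, (shiftFunctor D n).Additive] [Pretriangulated D]
    {X Y : D} (f : X ⟶ Y) :
    HasKernel f ↔ ∃ (K Z Q : D) (e₁ : X ≅ K ⊞ Z) (e₂ : Y ≅ Z ⊞ Q),
      f = e₁.hom ≫ biprod.snd ≫ biprod.inl ≫ e₂.inv := by
  constructor
  · intro hf
    obtain ⟨Z, e₁, he₁⟩ := exists_iso_biprod_of_mono (kernel.ι f)
    have hι : biprod.inl ≫ e₁.inv = kernel.ι f := by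
      rw [← he₁, assoc, Iso.hom_inv_id, comp_id]
    have hmono : Mono (biprod.inr ≫ e₁.inv ≫ f) := by
      rw [Preadditive.mono_iff_cancel_zero]
      intro W u hu
      have h1 : (u ≫ biprod.inr ≫ e₁.inv) ≫ f = 0 := by simpa using hu
      have h2 : u ≫ biprod.inr = kernel.lift f _ h1 ≫ biprod.inl := by
        rw [← cancel_mono e₁.inv, assoc, assoc, hι, kernel.lift_ι]
      have h3 := congrArg (· ≫ (biprod.snd : kernel f ⊞ Z ⟶ Z)) h2
      simpa using h3
    obtain ⟨Q, e₂, he₂⟩ := exists_iso_biprod_of_mono (biprod.inr ≫ e₁.inv ≫ f)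
    refine ⟨kernel f, Z, Q, e₁, e₂, ?_⟩
    have h4 : biprod.inl ≫ e₂.inv = biprod.inr ≫ e₁.inv ≫ f := by
      rw [← he₂, assoc, Iso.hom_inv_id, comp_id]
    rw [h4]
    rw [← cancel_epi e₁.inv, Iso.inv_hom_id_assoc]
    apply biprod.hom_ext'
    · rw [reassoc_of% hι, kernel.condition]
      simp
    · simp
  · rintro ⟨K, Z, Q, e₁, e₂, rfl⟩
    have hm : Mono (biprod.inl ≫ e₂.inv : Z ⟶ Y) := inferInstance
    have w : (biprod.inl ≫ e₁.inv : K ⟶ X) ≫ (e₁.hom ≫ biprod.snd ≫ biprod.inl ≫ e₂.inv) = 0 := by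
      simp
    refine ⟨⟨⟨KernelFork.ofι _ w, ?_⟩⟩⟩
    refine KernelFork.IsLimit.ofι _ _ (fun {W} k _ => k ≫ e₁.hom ≫ biprod.fst) ?_ ?_
    · intro W k hk
      have h1 : (k ≫ e₁.hom ≫ biprod.snd) ≫ (biprod.inl ≫ e₂.inv) = 0 := by simpa using hk
      have h2 : k ≫ e₁.hom ≫ biprod.snd = 0 := by
        rw [← cancel_mono (biprod.inl ≫ e₂.inv : Z ⟶ Y), h1, zero_comp]
      rw [← cancel_mono e₁.hom]
      apply biprod.hom_ext
      · simp
      · simp [h2]
    · intro W k hk m hm'
      rw [← hm']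
      simp

open CategoryTheory.Pretriangulated in
/-- (1) ⇔ (3): let D be a pretriangulated category and f : X ⟶ Y a morphism. Then f has a kernel if and
only if f is isomorphic to a composite K ⊞ Z → Z → Z ⊞ Q of a projection and a coprojection for some
objects K, Z, Q. -/
theorem result {D : Type u} [Category.{v} D] [Preadditive D] [HasZeroObject D] [HasShift D ℤ]
    [∀ n : ℤ, (shiftFunctor D n).Additive] [Pretriangulated D]
    {X Y : D} (f : X ⟶ Y) :
    HasKernel f ↔ ∃ (K Z Q : D) (e₁ : X ≅ K ⊞ Z) (e₂ : Y ≅ Z ⊞ Q),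
      f = e₁.hom ≫ biprod.snd ≫ biprod.inl ≫ e₂.inv := by
  exact aux f

end Groth.Agent.S6594
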