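import Groth.Statements.S6596
-- import your own Groth.Agent.* helpers here
import Groth.Agent.S6595
import Groth.Agent.Lib.Helper32.Postnikov

set_option autoImplicit false
universe v u
open CategoryTheory CategoryTheory.Limits
open CohDer

namespace Groth.Agent.S6596

open CategoryTheory.Pretriangulated Groth.Agent.Lib.Helper32 in
theorem step {D : Type u} [Category.{v} D] [Preadditive D] [HasZeroObject D] [HasShift D ℤ]
    [∀ n : ℤ, (shiftFunctor D n).Additive] [Pretriangulated D]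
    (X X' : ChainComplex D ℕ) (φ : X ⟶ X') (k : ℕ) {Yk Yk1 Zk Zk1 : D}
    (a1 : Yk1 ⟶ X.X (k + 1)) (b : X.X (k + 1) ⟶ Yk) (c : Yk ⟶ (shiftFunctor D (1 : ℤ)).obj Yk1)
    (a0 : Yk ⟶ X.X k) (hT : Triangle.mk a1 b c ∈ distinguishedTriangles) (hd : b ≫ a0 = X.d (k + 1) k)
    (qa1 : Zk1 ⟶ X'.X (k + 1)) (qb : X'.X (k + 1) ⟶ Zk) (qc : Zk ⟶ (shiftFunctor D (1 : ℤ)).obj Zk1)
    (qa0 : Zk ⟶ X'.X k) (qhT : Triangle.mk qa1 qb qc ∈ distinguishedTriangles)
    (qhd : qb ≫ qa0 = X'.d (k + 1) k)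
    (y : Yk ⟶ Zk) (hy : y ≫ qa0 = a0 ≫ φ.f k)
    (hinj : ∀ δ : X.X (k + 1) ⟶ Zk, δ ≫ qa0 = 0 → δ = 0) :
    ∃ y' : Yk1 ⟶ Zk1, y' ≫ qa1 = a1 ≫ φ.f (k + 1) ∧ b ≫ y = φ.f (k + 1) ≫ qb ∧
      c ≫ (shiftFunctor D (1 : ℤ)).map y' = y ≫ qc := by
  have hsq : b ≫ y = φ.f (k + 1) ≫ qb := by
    rw [← sub_eq_zero]
    apply hinj
    rw [Preadditive.sub_comp, Category.assoc, Category.assoc, hy, qhd, reassoc_of% hd, φ.comm, sub_self]
  obtain ⟨y', h1, h2⟩ := complete_distinguished_triangle_morphism₁ _ _ hT qhT (φ.f (k + 1)) y hsq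
  exact ⟨y', h1.symm, hsq, h2⟩

open CategoryTheory.Pretriangulated Groth.Agent.Lib.Helper32 in
theorem aux {D : Type u} [Category.{v} D] [Preadditive D] [HasZeroObject D] [HasShift D ℤ]
    [∀ n : ℤ, (shiftFunctor D n).Additive] [Pretriangulated D] [IsTriangulated D]
    (X X' : ChainComplex D ℕ) (φ : X ⟶ X')
    (Y : ℕ → D) (a : ∀ k, Y k ⟶ X.X k) (b : ∀ k, X.X (k + 1) ⟶ Y k)
    (c : ∀ k, Y k ⟶ (shiftFunctor D (1 : ℤ)).obj (Y (k + 1)))
    (h0 : IsIso (a 0))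
    (qY : ℕ → D) (qa : ∀ k, qY k ⟶ X'.X k) (qb : ∀ k, X'.X (k + 1) ⟶ qY k)
    (qc : ∀ k, qY k ⟶ (shiftFunctor D (1 : ℤ)).obj (qY (k + 1)))
    (qh0 : IsIso (qa 0)) (n : ℕ) :
    (∀ k, k < n → Triangle.mk (a (k + 1)) (b k) (c k) ∈ distinguishedTriangles ∧ b k ≫ a k = X.d (k + 1) k) →
    (∀ k, k < n → Triangle.mk (qa (k + 1)) (qb k) (qc k) ∈ distinguishedTriangles ∧ qb k ≫ qa k = X'.d (k + 1) k) →
    (∀ i j : ℕ, j + 1 < i → i ≤ n → ∀ ψ : (shiftFunctor D ((i : ℤ) - j - 1)).obj (X.X i) ⟶ X'.X j, ψ = 0) →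
    ∃ y : ∀ k, Y k ⟶ qY k,
      (∀ k, k ≤ n → y k ≫ qa k = a k ≫ φ.f k) ∧
      (∀ k, k < n → b k ≫ y k = φ.f (k + 1) ≫ qb k ∧ c k ≫ (shiftFunctor D (1 : ℤ)).map (y (k + 1)) = y k ≫ qc k) := by
  induction n with
  | zero =>
    intro _ _ _
    refine ⟨Function.update (fun k => (0 : Y k ⟶ qY k)) 0 (a 0 ≫ φ.f 0 ≫ inv (qa 0)), ?_, ?_⟩
    · intro k hk
      obtain rfl : k = 0 := by lia
      simp
    · intro k hk
      lia
  | succ n ih =>
    intro hP qhP hX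
    obtain ⟨y, hy1, hy2⟩ := ih (fun k hk => hP k (by lia)) (fun k hk => qhP k (by lia))
      (fun i j hij hi => hX i j hij (by lia))
    have hinj : ∀ δ : X.X (n + 1) ⟶ qY n, δ ≫ qa n = 0 → δ = 0 := by
      intro δ hδ
      cases n with
      | zero => rwa [← cancel_mono (qa 0), zero_comp]
      | succ j =>
        refine eq_zero_of_comp_mor₁ _ (qhP j (by lia)).1 δ hδ ?_
        refine homs_zero_of_shift_eq ?_
          (Groth.Agent.S6595.result X X' (j + 1 + 1) qY qa qb qc qh0 qhP hX (j + 1 + 1) j (by lia) (by lia))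
        push_cast
        lia
    obtain ⟨ynew, h1, h2, h3⟩ := step X X' φ n (a (n + 1)) (b n) (c n) (a n) (hP n (by lia)).1
      (hP n (by lia)).2 (qa (n + 1)) (qb n) (qc n) (qa n) (qhP n (by lia)).1 (qhP n (by lia)).2
      (y n) (hy1 n le_rfl) hinj
    refine ⟨Function.update y (n + 1) ynew, ?_, ?_⟩
    · intro k hk
      by_cases hkn : k = n + 1
      · subst hkn
        simpa using h1
      · rw [Function.update_of_ne hkn]
        exact hy1 k (by lia)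
    · intro k hk
      by_cases hkn : k = n
      · subst hkn
        rw [Function.update_self, Function.update_of_ne (by lia)]
        exact ⟨h2, h3⟩
      · rw [Function.update_of_ne (by lia), Function.update_of_ne (by lia)]
        exact hy2 k (by lia)

open CategoryTheory.Pretriangulated in
/-- Let D be a triangulated category and φ : X ⟶ X' a morphism of chain complexes in D considered in
degrees ≤ n, where a Postnikov system for the complex X_n → … → X_0 consists of objects Y_k, an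
isomorphism Y_0 ⟶ X_0, and for 0 ≤ k < n distinguished triangles Y_{k+1} ⟶ X_{k+1} ⟶ Y_k ⟶
Y_{k+1}⟦1⟧ with X_{k+1} ⟶ Y_k ⟶ X_k the differential. Suppose X and X' carry Postnikov systems (Y,
a, b, c) and (Y', a', b', c'). If Hom(X_i⟦i - j - 1⟧, X'_j) = 0 for all j + 1 < i ≤ n, then φ
extends to a morphism of Postnikov systems: morphisms y_k : Y_k ⟶ Y'_k for k ≤ n forming, with the
φ_k, morphisms of the distinguished triangles and compatible with Y_0 ⟶ X_0 and Y'_0 ⟶ X'_0. -/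
theorem result {D : Type u} [Category.{v} D] [Preadditive D] [HasZeroObject D] [HasShift D ℤ]
    [∀ n : ℤ, (shiftFunctor D n).Additive] [Pretriangulated D] [IsTriangulated D]
    (X X' : ChainComplex D ℕ) (φ : X ⟶ X') (n : ℕ)
    (Y : ℕ → D) (a : ∀ k, Y k ⟶ X.X k) (b : ∀ k, X.X (k + 1) ⟶ Y k)
    (c : ∀ k, Y k ⟶ (shiftFunctor D (1 : ℤ)).obj (Y (k + 1)))
    (h0 : IsIso (a 0))
    (hP : ∀ k, k < n → Triangle.mk (a (k + 1)) (b k) (c k) ∈ distinguishedTriangles ∧ b k ≫ a k = X.d (k + 1) k)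
    (qY : ℕ → D) (qa : ∀ k, qY k ⟶ X'.X k) (qb : ∀ k, X'.X (k + 1) ⟶ qY k)
    (qc : ∀ k, qY k ⟶ (shiftFunctor D (1 : ℤ)).obj (qY (k + 1)))
    (qh0 : IsIso (qa 0))
    (qhP : ∀ k, k < n → Triangle.mk (qa (k + 1)) (qb k) (qc k) ∈ distinguishedTriangles ∧ qb k ≫ qa k = X'.d (k + 1) k)
    (hX : ∀ i j : ℕ, j + 1 < i → i ≤ n → ∀ ψ : (shiftFunctor D ((i : ℤ) - j - 1)).obj (X.X i) ⟶ X'.X j, ψ = 0) :
    ∃ y : ∀ k, Y k ⟶ qY k,
      (∀ k, k ≤ n → y k ≫ qa k = a k ≫ φ.f k) ∧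
      (∀ k, k < n → b k ≫ y k = φ.f (k + 1) ≫ qb k ∧ c k ≫ (shiftFunctor D (1 : ℤ)).map (y (k + 1)) = y k ≫ qc k) := by
  exact aux X X' φ Y a b c h0 qY qa qb qc qh0 n hP qhP hX

end Groth.Agent.S6596
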