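import Groth.Statements.S6600
-- import your own Groth.Agent.* helpers here
import Mathlib.CategoryTheory.Triangulated.Orthogonal

set_option autoImplicit false
universe v u
open CategoryTheory CategoryTheory.Limits
open CohDer

namespace Groth.Agent.S6600

open CategoryTheory.Pretriangulated ZeroObject in
set_option backward.defeqAttrib.useBackward true in
set_option backward.isDefEq.respectTransparency false in
theorem aux {D : Type u} [Category.{v} D] [Preadditive D] [HasZeroObject D] [HasShift D ℤ]
    [∀ n : ℤ, (shiftFunctor D n).Additive] [Pretriangulated D] [IsTriangulated D]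
    (P : ObjectProperty D) [P.IsStableUnderShift ℤ] (T : Triangle D) (hT : T ∈ distinguishedTriangles) :
    P.rightOrthogonal T.obj₃ ↔ ∀ A : D, P A → Function.Bijective (fun u : A ⟶ T.obj₁ => u ≫ T.mor₁) := by
  constructor
  · intro hZ A hA
    constructor
    · intro u₁ u₂ h
      dsimp at h
      have h0 : (u₁ - u₂) ≫ T.invRotate.mor₂ = 0 := by
        simp [Preadditive.sub_comp, h]
      obtain ⟨v, hv⟩ := Triangle.coyoneda_exact₂ _ (inv_rot_of_distTriang _ hT) (u₁ - u₂) h0
      have hZ' : P.rightOrthogonal (T.obj₃⟦(-1 : ℤ)⟧) := P.rightOrthogonal.le_shift (-1 : ℤ) _ hZ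
      have : v = 0 := hZ' v hA
      rw [this, zero_comp, sub_eq_zero] at hv
      exact hv
    · intro w
      obtain ⟨u, hu⟩ := Triangle.coyoneda_exact₂ T hT w (hZ _ hA)
      exact ⟨u, hu.symm⟩
  · intro H A φ hA
    have h1 : φ ≫ T.mor₃ = 0 := by
      have hA' : P (A⟦(-1 : ℤ)⟧) := P.le_shift (-1 : ℤ) _ hA
      let e : (A⟦(-1 : ℤ)⟧)⟦(1 : ℤ)⟧ ≅ A := (shiftFunctorCompIsoId D (-1 : ℤ) 1 (by simp)).app A
      obtain ⟨ψ, hψ⟩ := (shiftFunctor D (1 : ℤ)).map_surjective (e.hom ≫ φ ≫ T.mor₃)
      have h2 : ψ ≫ T.mor₁ = 0 := by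
        apply (shiftFunctor D (1 : ℤ)).map_injective
        rw [Functor.map_comp, hψ, Functor.map_zero, Category.assoc, Category.assoc,
          comp_distTriang_mor_zero₃₁ _ hT, comp_zero, comp_zero]
      have h3 : ψ = 0 := (H _ hA').1 (by simpa using h2)
      rw [h3, Functor.map_zero] at hψ
      rw [← cancel_epi e.hom, comp_zero, ← hψ]
    obtain ⟨w, hw⟩ := Triangle.coyoneda_exact₃ T hT φ h1
    obtain ⟨u, hu⟩ := (H _ hA).2 w
    dsimp at hu
    rw [hw, ← hu, Category.assoc, comp_distTriang_mor_zero₁₂ _ hT, comp_zero]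

open CategoryTheory.Pretriangulated in
/-- Let D be a triangulated category, A ⊂ D a full subcategory invariant under all shifts, and X → Y → Z
→ X⟦1⟧ a distinguished triangle. Then Z lies in the right orthogonal A^⊥ if and only if Hom(A, X) →
Hom(A, Y) is bijective for every object A of A. -/
theorem result {D : Type u} [Category.{v} D] [Preadditive D] [HasZeroObject D] [HasShift D ℤ]
    [∀ n : ℤ, (shiftFunctor D n).Additive] [Pretriangulated D] [IsTriangulated D]
    (P : ObjectProperty D) [P.IsStableUnderShift ℤ] (T : Triangle D) (hT : T ∈ distinguishedTriangles) :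
    P.rightOrthogonal T.obj₃ ↔ ∀ A : D, P A → Function.Bijective (fun u : A ⟶ T.obj₁ => u ≫ T.mor₁) := by
  exact aux P T hT

end Groth.Agent.S6600
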