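import Groth.Statements.S6601
-- import your own Groth.Agent.* helpers here
import Mathlib.CategoryTheory.Triangulated.Orthogonal

set_option autoImplicit false
universe v u
open CategoryTheory CategoryTheory.Limits
open CohDer

namespace Groth.Agent.S6601

open CategoryTheory.Pretriangulated ZeroObject in
set_option backward.defeqAttrib.useBackward true in
set_option backward.isDefEq.respectTransparency false in
theorem aux {D : Type u} [Category.{v} D] [Preadditive D] [HasZeroObject D] [HasShift D ℤ]
    [∀ n : ℤ, (shiftFunctor D n).Additive] [Pretriangulated D] [IsTriangulated D]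
    (P : ObjectProperty D) [P.IsStableUnderShift ℤ] (T : Triangle D) (hT : T ∈ distinguishedTriangles) :
    P.leftOrthogonal T.obj₁ ↔ ∀ B : D, P B → Function.Bijective (fun u : T.obj₃ ⟶ B => T.mor₂ ≫ u) := by
  constructor
  · intro hX B hB
    constructor
    · intro u₁ u₂ h
      dsimp at h
      have h0 : T.rotate.mor₁ ≫ (u₁ - u₂) = 0 := by
        simp [Preadditive.comp_sub, h]
      obtain ⟨v, hv⟩ := Triangle.yoneda_exact₂ _ (rot_of_distTriang _ hT) (u₁ - u₂) h0
      have hX' : P.leftOrthogonal (T.obj₁⟦(1 : ℤ)⟧) := P.leftOrthogonal.le_shift (1 : ℤ) _ hX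
      have : v = 0 := hX' v hB
      rw [this, comp_zero, sub_eq_zero] at hv
      exact hv
    · intro w
      obtain ⟨u, hu⟩ := Triangle.yoneda_exact₂ T hT w (hX _ hB)
      exact ⟨u, hu.symm⟩
  · intro H B φ hB
    have hB' : P (B⟦(1 : ℤ)⟧) := P.le_shift (1 : ℤ) _ hB
    have h1 : T.mor₃ ≫ φ⟦(1 : ℤ)⟧' = 0 := by
      apply (H _ hB').1
      dsimp
      rw [comp_distTriang_mor_zero₂₃_assoc _ hT, zero_comp, comp_zero]
    obtain ⟨w', hw'⟩ := Triangle.yoneda_exact₃ _ (rot_of_distTriang _ hT) (φ⟦(1 : ℤ)⟧') h1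
    obtain ⟨w, rfl⟩ := (shiftFunctor D (1 : ℤ)).map_surjective w'
    obtain ⟨u, hu⟩ := (H _ hB).2 w
    dsimp at hu hw'
    apply (shiftFunctor D (1 : ℤ)).map_injective
    rw [hw', ← hu, Functor.map_zero, Functor.map_comp, Preadditive.neg_comp, ← Functor.map_comp_assoc,
      comp_distTriang_mor_zero₁₂ _ hT, Functor.map_zero, zero_comp, neg_zero]

open CategoryTheory.Pretriangulated in
/-- Let D be a triangulated category, B ⊂ D a full subcategory invariant under all shifts, and X → Y → Z
→ X⟦1⟧ a distinguished triangle. Then X lies in the left orthogonal ^⊥B if and only if Hom(Z, B) →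
Hom(Y, B) is bijective for every object B of B. -/
theorem result {D : Type u} [Category.{v} D] [Preadditive D] [HasZeroObject D] [HasShift D ℤ]
    [∀ n : ℤ, (shiftFunctor D n).Additive] [Pretriangulated D] [IsTriangulated D]
    (P : ObjectProperty D) [P.IsStableUnderShift ℤ] (T : Triangle D) (hT : T ∈ distinguishedTriangles) :
    P.leftOrthogonal T.obj₁ ↔ ∀ B : D, P B → Function.Bijective (fun u : T.obj₃ ⟶ B => T.mor₂ ≫ u) := by
  exact aux P T hT

end Groth.Agent.S6601
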