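import Groth.Statements.S6602
-- import your own Groth.Agent.* helpers here
import Groth.Agent.S6601

set_option autoImplicit false
universe v u
open CategoryTheory CategoryTheory.Limits
open CohDer

namespace Groth.Agent.S6602

open CategoryTheory.Pretriangulated CategoryTheory.Category ZeroObject ObjectProperty in
set_option backward.defeqAttrib.useBackward true in
set_option backward.isDefEq.respectTransparency false in
theorem aux {D : Type u} [Category.{v} D] [Preadditive D] [HasZeroObject D] [HasShift D ℤ]
    [∀ n : ℤ, (shiftFunctor D n).Additive] [Pretriangulated D] [IsTriangulated D]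
    (P : ObjectProperty D) [P.IsTriangulated] :
    P.ι.IsRightAdjoint ↔ ∀ X : D, ∃ (A B : D) (f : A ⟶ X) (g : X ⟶ B) (h : B ⟶ (shiftFunctor D (1 : ℤ)).obj A),
      Triangle.mk f g h ∈ distinguishedTriangles ∧ P B ∧ P.leftOrthogonal A := by
  constructor
  · intro hadj X
    let F := P.ι.leftAdjoint
    let adj : F ⊣ P.ι := Adjunction.ofIsRightAdjoint P.ι
    obtain ⟨A, f, h, hT⟩ := distinguished_cocone_triangle₁ (adj.unit.app X)
    refine ⟨A, (F.obj X).obj, f, adj.unit.app X, h, hT, (F.obj X).property, ?_⟩
    refine (Groth.Agent.S6601.result P _ hT).2 ?_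
    intro B hB
    dsimp
    have hbij := (adj.homEquiv X ⟨B, hB⟩).bijective
    have heq : (fun u : (F.obj X).obj ⟶ B => adj.unit.app X ≫ u) =
        (adj.homEquiv X ⟨B, hB⟩) ∘ (fun u => (ObjectProperty.homMk u : F.obj X ⟶ ⟨B, hB⟩)) := by
      funext u
      rw [Function.comp_apply, Adjunction.homEquiv_unit]
      rfl
    rw [heq]
    refine hbij.comp ⟨?_, ObjectProperty.homMk_surjective⟩
    intro u v huv
    exact congrArg InducedCategory.Hom.hom huv
  · intro H
    choose A B f g h hT hB hA using H
    have hbij : ∀ (X : D) (Y : P.FullSubcategory),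
        Function.Bijective (fun u : B X ⟶ Y.obj => g X ≫ u) := fun X Y =>
      (Groth.Agent.S6601.result P _ (hT X)).1 (hA X) Y.obj Y.property
    let e : ∀ (X : D) (Y : P.FullSubcategory),
        ((⟨B X, hB X⟩ : P.FullSubcategory) ⟶ Y) ≃ (X ⟶ P.ι.obj Y) := fun X Y =>
      { toFun := fun u => g X ≫ u.hom
        invFun := fun w => ObjectProperty.homMk ((Equiv.ofBijective _ (hbij X Y)).symm w)
        left_inv := fun u => by
          apply ObjectProperty.hom_ext
          exact (Equiv.ofBijective _ (hbij X Y)).symm_apply_apply u.hom
        right_inv := fun w => (Equiv.ofBijective _ (hbij X Y)).apply_symm_apply w }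
    exact ⟨_, ⟨Adjunction.adjunctionOfEquivLeft e (fun X Y Y' g' h' => by simp [e])⟩⟩

open CategoryTheory.Pretriangulated in
/-- (1) ⇔ (2): let D be a triangulated category and B a full triangulated subcategory. The inclusion
functor B → D has a left adjoint if and only if for every X in D there is a distinguished triangle A
→ X → B → A⟦1⟧ with B in B and A in the left orthogonal ^⊥B. (The published statement further
asserts that B is then saturated and, when strictly full, equals the right orthogonal of its left
orthogonal; this row asserts only the equivalence.) -/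
theorem result {D : Type u} [Category.{v} D] [Preadditive D] [HasZeroObject D] [HasShift D ℤ]
    [∀ n : ℤ, (shiftFunctor D n).Additive] [Pretriangulated D] [IsTriangulated D]
    (P : ObjectProperty D) [P.IsTriangulated] :
    P.ι.IsRightAdjoint ↔ ∀ X : D, ∃ (A B : D) (f : A ⟶ X) (g : X ⟶ B) (h : B ⟶ (shiftFunctor D (1 : ℤ)).obj A),
      Triangle.mk f g h ∈ distinguishedTriangles ∧ P B ∧ P.leftOrthogonal A := by
  exact aux P

end Groth.Agent.S6602
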