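import Groth.Statements.S6604
-- import your own Groth.Agent.* helpers here
import Groth.Agent.Lib.Helper32.TriangLoc

set_option autoImplicit false
universe v u v' u'
open CategoryTheory CategoryTheory.Limits
open CohDer

namespace Groth.Agent.S6604

open CategoryTheory.Pretriangulated CategoryTheory.Category Groth.Agent.Lib.Helper32 ZeroObject in
set_option backward.defeqAttrib.useBackward true in
set_option backward.isDefEq.respectTransparency false in
theorem aux {D : Type u} [Category.{v} D] [Preadditive D] [HasZeroObject D] [HasShift D ℤ]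
    [∀ n : ℤ, (shiftFunctor D n).Additive] [Pretriangulated D] [IsTriangulated D]
    (B : ObjectProperty D) [B.IsTriangulated]
    {E : Type u'} [Category.{v'} E] (Q : D ⥤ E) [Q.IsLocalization B.trW] (Z : D) :
    IsZero (Q.obj Z) ↔ ∃ (Z' Y : D), B Y ∧ Nonempty (Z ⊞ Z' ≅ Y) := by
  constructor
  · intro h
    obtain ⟨W, C, g, k, hT, hC⟩ := (isZero_obj_iff_exists_zero_to B.trW Q Z).1 h
    have hT' := zero_inl_snd_distinguished W Z
    let e := isoTriangleOfIso₁₂ _ _ hT' hT (Iso.refl _) (Iso.refl _) (by simp)
    exact ⟨(shiftFunctor D (1 : ℤ)).obj W, C, hC, ⟨Triangle.π₃.mapIso e⟩⟩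
  · rintro ⟨Z', Y, hY, ⟨e⟩⟩
    have h1 : B.trW (0 : (0 : D) ⟶ Y) :=
      ObjectProperty.trW.mk B (contractible_distinguished₁ Y) hY
    have h2 : IsZero (Q.obj Y) := (isZero_obj_iff_exists_zero_to B.trW Q Y).2 ⟨_, h1⟩
    have h3 : IsZero (Q.obj (Z ⊞ Z')) := h2.of_iso (Q.mapIso e)
    exact (isZero_obj_of_isZero_obj_biprod Q Z Z' h3).1

/-- Let D be a triangulated category, B a full triangulated subcategory and Q : D → D/B the quotient
functor. Q sends an object Z of D to zero (Q(Z) = 0, i.e. Z belongs to the kernel of Q) exactly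
when, for a suitable object Z' of D, the direct sum Z ⊞ Z' is isomorphic to some object lying in B;
put differently, the kernel is the smallest saturated, strictly full triangulated subcategory that
contains B. -/
theorem result {D : Type u} [Category.{v} D] [Preadditive D] [HasZeroObject D] [HasShift D ℤ]
    [∀ n : ℤ, (shiftFunctor D n).Additive] [Pretriangulated D] [IsTriangulated D]
    (B : ObjectProperty D) [B.IsTriangulated]
    {E : Type u'} [Category.{v'} E] (Q : D ⥤ E) [Q.IsLocalization B.trW] (Z : D) :
    IsZero (Q.obj Z) ↔ ∃ (Z' Y : D), B Y ∧ Nonempty (Z ⊞ Z' ≅ Y) := by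
  exact aux B Q Z

end Groth.Agent.S6604
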