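import Groth.Statements.S6606
-- import your own Groth.Agent.* helpers here
import Mathlib.Algebra.Homology.HomotopyCategory.KProjective
import Mathlib.Algebra.Homology.Embedding.CochainComplex

set_option autoImplicit false
universe v u
open CategoryTheory CategoryTheory.Limits
open CohDer

namespace Groth.Agent.S6606

open CochainComplex HomComplex in
theorem quotient_map_eq_zero_of_isLE {A : Type u} [Category.{v} A] [Abelian A]
    (P C : CochainComplex A ℤ) [P.IsKProjective] (n m : ℤ) (hnm : m < n)
    [P.IsStrictlyGE n] [C.IsLE m] (f : P ⟶ C) :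
    (HomotopyCategory.quotient A (.up ℤ)).map f = 0 := by
  have hP := IsKProjective.leftOrthogonal P
  rw [← ObjectProperty.isColocal_trW, ← HomotopyCategory.quasiIso_eq_trW_subcategoryAcyclic] at hP
  have hι : HomotopyCategory.quasiIso A (.up ℤ)
      ((HomotopyCategory.quotient A (.up ℤ)).map (C.ιTruncLE m)) := by
    rw [HomotopyCategory.quotient_map_mem_quasiIso_iff, HomologicalComplex.mem_quasiIso_iff]
    exact (C.quasiIso_ιTruncLE_iff m).2 inferInstance
  obtain ⟨g, hg⟩ := (hP _ hι).2 ((HomotopyCategory.quotient A (.up ℤ)).map f)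
  obtain ⟨g, rfl⟩ := (HomotopyCategory.quotient A (.up ℤ)).map_surjective g
  have : g = 0 := by
    ext i
    by_cases hi : i < n
    · exact (P.isZero_of_isStrictlyGE n i hi).eq_of_src _ _
    · exact ((C.truncLE m).isZero_of_isStrictlyLE m i (by lia)).eq_of_tgt _ _
  subst this
  simpa using hg.symm

open CochainComplex HomComplex in
theorem mappingCone_isLE {A : Type u} [Category.{v} A] [Abelian A]
    {E L : CochainComplex A ℤ} (α : E ⟶ L) (n : ℤ)
    (hiso : ∀ i : ℤ, n < i → IsIso (HomologicalComplex.homologyMap α i))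
    (hepi : Epi (HomologicalComplex.homologyMap α n)) :
    (mappingCone α).IsLE (n - 1) := by
  rw [isLE_iff]
  intro i hi
  rw [HomologicalComplex.exactAt_iff_isZero_homology]
  have hT := HomotopyCategory.mappingCone_triangleh_distinguished α
  let F := HomotopyCategory.homologyFunctor A (ComplexShape.up ℤ) 0
  have h₁ := (F.homologySequence_exact₃ _ hT i _ rfl).isZero_X₂_iff
  have h₂ := F.homologySequence_mono_shift_map_mor₁_iff _ hT i _ rfl
  have h₃ := F.homologySequence_epi_shift_map_mor₁_iff _ hT i
  dsimp at h₁ h₂ h₃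
  have e := HomotopyCategory.homologyFunctorFactors A (ComplexShape.up ℤ)
  have key : ∀ j : ℤ, (HomotopyCategory.homologyFunctor A (ComplexShape.up ℤ) j).map ((HomotopyCategory.quotient _ _).map α) =
      (e j).hom.app E ≫ (HomologicalComplex.homologyFunctor A (ComplexShape.up ℤ) j).map α ≫ (e j).inv.app L := by
    intro j
    have := (e j).hom.naturality α
    dsimp at this
    rw [← reassoc_of% this]
    simp
  have i1 : ∀ j : ℤ, IsIso ((e j).hom.app E) := fun j => (inferInstance : IsIso ((e j).app E).hom)
  have i2 : ∀ j : ℤ, IsIso ((e j).inv.app L) := fun j => (inferInstance : IsIso ((e j).app L).inv)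
  have hmono : Mono ((F.shift (i + 1)).map (mappingCone.triangleh α).mor₁) := by
    have : IsIso ((HomologicalComplex.homologyFunctor A (ComplexShape.up ℤ) (i + 1)).map α) :=
      hiso (i + 1) (by lia)
    change Mono ((HomotopyCategory.homologyFunctor A (ComplexShape.up ℤ) (i + 1)).map ((HomotopyCategory.quotient _ _).map α))
    rw [key]
    exact mono_comp _ _
  have hepi' : Epi ((F.shift i).map (mappingCone.triangleh α).mor₁) := by
    change Epi ((HomotopyCategory.homologyFunctor A (ComplexShape.up ℤ) i).map ((HomotopyCategory.quotient _ _).map α))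
    rw [key]
    have : Epi ((HomologicalComplex.homologyFunctor A (ComplexShape.up ℤ) i).map α) := by
      change Epi (HomologicalComplex.homologyMap α i)
      by_cases h : i = n
      · subst h; exact hepi
      · have := hiso i (by lia)
        infer_instance
    have : Epi ((HomologicalComplex.homologyFunctor A (ComplexShape.up ℤ) i).map α ≫ (e i).inv.app L) := epi_comp _ _
    exact epi_comp _ _
  exact ((e i).app (mappingCone α)).isZero_iff.1 (h₁.2 ⟨h₃.1 hepi', h₂.1 hmono⟩)

open CochainComplex HomComplex in
theorem aux {A : Type u} [Category.{v} A] [Abelian A]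
    (P E L : CochainComplex A ℤ) (β : P ⟶ L) (α : E ⟶ L) (n b : ℤ) [P.IsStrictlyGE n] [P.IsStrictlyLE b]
    (hP : ∀ i : ℤ, Projective (P.X i))
    (hiso : ∀ i : ℤ, n < i → IsIso (HomologicalComplex.homologyMap α i)) (hepi : Epi (HomologicalComplex.homologyMap α n)) :
    ∃ γ : P ⟶ E, Nonempty (Homotopy (γ ≫ α) β) := by
  have : P.IsKProjective := isKProjective_of_projective P b
  have := mappingCone_isLE α n hiso hepi
  have h0 := quotient_map_eq_zero_of_isLE P (mappingCone α) n (n-1) (by lia) (β ≫ mappingCone.inr α)
  have hT := HomotopyCategory.mappingCone_triangleh_distinguished α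
  obtain ⟨g, hg⟩ := Pretriangulated.Triangle.coyoneda_exact₂ _ hT
    ((HomotopyCategory.quotient _ _).map β) (by rw [Functor.map_comp] at h0; exact h0)
  obtain ⟨γ, rfl⟩ := (HomotopyCategory.quotient _ _).map_surjective g
  refine ⟨γ, ⟨HomotopyCategory.homotopyOfEq _ _ ?_⟩⟩
  rw [Functor.map_comp]; exact hg.symm

/-- Let A be an abelian category, β : P ⟶ L and α : E ⟶ L morphisms of cochain complexes and n an
integer. Assume P is a bounded complex of projective objects with Pⁱ = 0 for i < n, and that Hⁱ(α)
is an isomorphism for i > n and an epimorphism for i = n. Then there is γ : P ⟶ E such that γ ≫ α is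
homotopic to β. -/
theorem result {A : Type u} [Category.{v} A] [Abelian A]
    (P E L : CochainComplex A ℤ) (β : P ⟶ L) (α : E ⟶ L) (n b : ℤ) [P.IsStrictlyGE n] [P.IsStrictlyLE b]
    (hP : ∀ i : ℤ, Projective (P.X i))
    (hiso : ∀ i : ℤ, n < i → IsIso (HomologicalComplex.homologyMap α i)) (hepi : Epi (HomologicalComplex.homologyMap α n)) :
    ∃ γ : P ⟶ E, Nonempty (Homotopy (γ ≫ α) β) := by
  exact aux P E L β α n b hP hiso hepi

end Groth.Agent.S6606
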