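import Groth.Statements.S6607
-- import your own Groth.Agent.* helpers here
import Mathlib.CategoryTheory.Triangulated.Orthogonal

set_option autoImplicit false
universe v u
open CategoryTheory CategoryTheory.Limits
open CohDer

namespace Groth.Agent.S6607

open CategoryTheory.Pretriangulated CategoryTheory.Category ZeroObject ObjectProperty in
set_option backward.defeqAttrib.useBackward true in
set_option backward.isDefEq.respectTransparency false in
theorem swap_le {D : Type u} [Category.{v} D] [Preadditive D] [HasZeroObject D] [HasShift D ℤ]
    [∀ n : ℤ, (shiftFunctor D n).Additive] [Pretriangulated D] [IsTriangulated D]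
    (B : ObjectProperty D) [B.IsTriangulated] :
    extensionProduct B B.leftOrthogonal ≤ extensionProduct B.leftOrthogonal B := by
  rintro X ⟨Y, Z, f, g, h, hT, hY, hZ⟩
  have h0 : h = 0 := hZ h (B.le_shift (1 : ℤ) _ hY)
  obtain ⟨e, he₁, he₂⟩ := exists_iso_binaryBiproduct_of_distTriang _ hT h0
  dsimp at e he₁ he₂
  have hT' := binaryBiproductTriangle_distinguished Z Y
  refine (extensionProduct B.leftOrthogonal B).prop_of_iso (e ≪≫ biprod.braiding Y Z).symm ?_
  exact ⟨Z, Y, _, _, _, hT', hZ, hY⟩

open CategoryTheory.Pretriangulated CategoryTheory.Category ZeroObject ObjectProperty in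
set_option backward.defeqAttrib.useBackward true in
set_option backward.isDefEq.respectTransparency false in
theorem ext_le {D : Type u} [Category.{v} D] [Preadditive D] [HasZeroObject D] [HasShift D ℤ]
    [∀ n : ℤ, (shiftFunctor D n).Additive] [Pretriangulated D] [IsTriangulated D]
    (B : ObjectProperty D) [B.IsTriangulated] :
    extensionProduct (extensionProduct B.leftOrthogonal B) (extensionProduct B.leftOrthogonal B) ≤
      extensionProduct B.leftOrthogonal B := by
  set L := B.leftOrthogonal with hL
  calc extensionProduct (extensionProduct L B) (extensionProduct L B)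
      = extensionProduct L (extensionProduct (extensionProduct B L) B) := by
        rw [extensionProduct_assoc, extensionProduct_assoc]
    _ ≤ extensionProduct L (extensionProduct (extensionProduct L B) B) :=
        monotone_extensionProduct_right _ (monotone_extensionProduct_left _ (swap_le B))
    _ = extensionProduct (extensionProduct L L) (extensionProduct B B) := by
        rw [extensionProduct_assoc, extensionProduct_assoc]
    _ ≤ extensionProduct L.isoClosure B.isoClosure :=
        (monotone_extensionProduct_left _
          (extensionProduct_le_of_isTriangulatedClosed₂' le_rfl le_rfl)).trans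
        (monotone_extensionProduct_right _
          (extensionProduct_le_of_isTriangulatedClosed₂' le_rfl le_rfl))
    _ = extensionProduct L B := by
        rw [extensionProduct_isoClosure_left, extensionProduct_isoClosure_right]

open CategoryTheory.Pretriangulated CategoryTheory.Category ZeroObject ObjectProperty in
set_option backward.defeqAttrib.useBackward true in
set_option backward.isDefEq.respectTransparency false in
theorem isTriangulated_extensionProduct {D : Type u} [Category.{v} D] [Preadditive D] [HasZeroObject D] [HasShift D ℤ]
    [∀ n : ℤ, (shiftFunctor D n).Additive] [Pretriangulated D] [IsTriangulated D]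
    (B : ObjectProperty D) [B.IsTriangulated] :
    (extensionProduct B.leftOrthogonal B).IsTriangulated :=
  { exists_zero := by
      obtain ⟨Z, hZ, hB⟩ := B.exists_prop_of_containsZero
      exact ⟨Z, hZ, le_extensionProduct_right _ _ hB⟩
    ext₂' := fun T hT h₁ h₃ =>
      le_isoClosure _ _ (ext_le B _ ⟨_, _, _, _, _, hT, h₁, h₃⟩) }

open CategoryTheory.Pretriangulated CategoryTheory.Category ZeroObject ObjectProperty in
set_option backward.defeqAttrib.useBackward true in
set_option backward.isDefEq.respectTransparency false in
theorem aux {D : Type u} [Category.{v} D] [Preadditive D] [HasZeroObject D] [HasShift D ℤ]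
    [∀ n : ℤ, (shiftFunctor D n).Additive] [Pretriangulated D] [IsTriangulated D]
    (B : ObjectProperty D) [B.IsTriangulated] :
    ObjectProperty.IsTriangulated (fun X : D => ∃ (A Y : D) (f : A ⟶ X) (g : X ⟶ Y) (h : Y ⟶ (shiftFunctor D (1 : ℤ)).obj A),
      Triangle.mk f g h ∈ distinguishedTriangles ∧ B Y ∧ B.leftOrthogonal A) := by
  have : (fun X : D => ∃ (A Y : D) (f : A ⟶ X) (g : X ⟶ Y) (h : Y ⟶ (shiftFunctor D (1 : ℤ)).obj A),
      Triangle.mk f g h ∈ distinguishedTriangles ∧ B Y ∧ B.leftOrthogonal A) =
      extensionProduct B.leftOrthogonal B := by
    funext X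
    apply propext
    constructor
    · rintro ⟨A, Y, f, g, h, hT, hY, hA⟩
      exact ⟨A, Y, f, g, h, hT, hA, hY⟩
    · rintro ⟨A, Y, f, g, h, hT, hA, hY⟩
      exact ⟨A, Y, f, g, h, hT, hY, hA⟩
  rw [this]
  exact isTriangulated_extensionProduct B

open CategoryTheory.Pretriangulated in
/-- Let D be a triangulated category and B a full triangulated subcategory. Let P(X) be the property:
there is a distinguished triangle A → X → B → A⟦1⟧ with B in B and A in ^⊥B. Then P satisfies
two-out-of-three in distinguished triangles, i.e. it is stable under all shifts and closed under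
extensions (a triangulated object property). -/
theorem result {D : Type u} [Category.{v} D] [Preadditive D] [HasZeroObject D] [HasShift D ℤ]
    [∀ n : ℤ, (shiftFunctor D n).Additive] [Pretriangulated D] [IsTriangulated D]
    (B : ObjectProperty D) [B.IsTriangulated] :
    ObjectProperty.IsTriangulated (fun X : D => ∃ (A Y : D) (f : A ⟶ X) (g : X ⟶ Y) (h : Y ⟶ (shiftFunctor D (1 : ℤ)).obj A),
      Triangle.mk f g h ∈ distinguishedTriangles ∧ B Y ∧ B.leftOrthogonal A) := by
  exact aux B

end Groth.Agent.S6607
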