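import Groth.Statements.S6610
-- import your own Groth.Agent.* helpers here
import Groth.Agent.Lib.Helper32.RelResLeft
import Mathlib.Algebra.Homology.HomologySequenceLemmas

set_option autoImplicit false
universe v u
open CategoryTheory CategoryTheory.Limits
open CohDer

namespace Groth.Agent.S6610

open Groth.Agent.Lib.Helper32 ZeroObject

theorem aux {A : Type u} [Category.{v} A] [Abelian A] [EnoughProjectives A]
    (S : ShortComplex (CochainComplex A ℤ)) (hS : S.ShortExact) (n : ℤ)
    [S.X₁.IsStrictlyLE n] [S.X₂.IsStrictlyLE n] [S.X₃.IsStrictlyLE n] :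
    ∃ (T : ShortComplex (CochainComplex A ℤ)) (φ : T ⟶ S), T.ShortExact ∧
      T.X₁.IsStrictlyLE n ∧ T.X₂.IsStrictlyLE n ∧ T.X₃.IsStrictlyLE n ∧
      (∀ k : ℤ, Projective (T.X₁.X k) ∧ Projective (T.X₂.X k) ∧ Projective (T.X₃.X k)) ∧
      QuasiIso φ.τ₁ ∧ QuasiIso φ.τ₂ ∧ QuasiIso φ.τ₃ := by
  let P : ObjectProperty A := fun X => Projective X
  haveI : P.IsClosedUnderIsomorphisms := ⟨fun e h => Projective.of_iso e h⟩
  have hP0 : ∃ Z : A, IsZero Z ∧ P Z := ⟨0, isZero_zero _, (inferInstance : Projective (0 : A))⟩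
  have hPsum : ∀ X Y : A, P X → P Y → P (X ⊞ Y) := fun X Y hX hY => by
    haveI : Projective X := hX
    haveI : Projective Y := hY
    exact (inferInstance : Projective (X ⊞ Y))
  have hP : ∀ X : A, ∃ (Y : A) (π : Y ⟶ X), P Y ∧ Epi π := fun X =>
    ⟨Projective.over X, Projective.π X, (inferInstance : Projective (Projective.over X)), inferInstance⟩
  obtain ⟨PA, πA, hPA, hPPA, hπAepi, hπA⟩ := LeftRes.exists_of_isStrictlyLE P hP hP0 S.X₁ n
  obtain ⟨PB, γ, j, hjγ, hγ, hγepi, hPB, hPPB, hj⟩ :=
    RelResLeft.exists_relative_left P hP0 hPsum hP (πA ≫ S.f) n hPPA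
  have hjmono : Mono j := HomologicalComplex.mono_of_mono_f j (fun i => by
    obtain ⟨⟨r, hr⟩, _⟩ := hj i
    exact mono_of_mono_fac hr)
  let T : ShortComplex (CochainComplex A ℤ) := ShortComplex.mk j (cokernel.π j) (cokernel.condition j)
  have hT : T.ShortExact :=
    { exact := ShortComplex.exact_of_g_is_cokernel _ (cokernelIsCokernel j)
      mono_f := hjmono
      epi_g := (inferInstance : Epi (cokernel.π j)) }
  let τ₃ : cokernel j ⟶ S.X₃ := cokernel.desc j (γ ≫ S.g) (by
    rw [← Category.assoc, hjγ, Category.assoc, S.zero, comp_zero])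
  let φ : T ⟶ S :=
    { τ₁ := πA
      τ₂ := γ
      τ₃ := τ₃
      comm₁₂ := by simp [T, hjγ]
      comm₂₃ := by simp [T, τ₃] }
  have hcoker (k : ℤ) : (cokernel j).X k ≅ cokernel (j.f k) :=
    PreservesCokernel.iso (HomologicalComplex.eval A (ComplexShape.up ℤ) k) j
  have hepiπ (k : ℤ) : Epi ((cokernel.π j).f k) := inferInstance
  refine ⟨T, φ, hT, hPA, hPB, ?_, ?_, hπA, hγ, ?_⟩
  · change (cokernel j).IsStrictlyLE n
    rw [CochainComplex.isStrictlyLE_iff]
    intro i hi
    exact IsZero.of_epi ((cokernel.π j).f i) (PB.isZero_of_isStrictlyLE n i hi)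
  · intro k
    exact ⟨hPPA k, hPPB k, Projective.of_iso (hcoker k).symm (hj k).2⟩
  · exact HomologicalComplex.HomologySequence.quasiIso_τ₃ φ hT hS hπA hγ

/-- Let A be an abelian category with enough projectives and S : 0 → A• → B• → C• → 0 a short exact
sequence of cochain complexes all vanishing above degree n. Then there are a short exact sequence T
: 0 → P₁ → P₂ → P₃ → 0 of complexes of projective objects vanishing above degree n and a morphism of
short exact sequences T ⟶ S whose three components are quasi-isomorphisms (projective resolutions).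
(The published statement is phrased for bounded below complexes; projective resolutions are bounded
above by definition and exist only for complexes with cohomology bounded above, so the statement is
given here for bounded above complexes, the case dual to the injective one.) -/
theorem result {A : Type u} [Category.{v} A] [Abelian A] [EnoughProjectives A]
    (S : ShortComplex (CochainComplex A ℤ)) (hS : S.ShortExact) (n : ℤ)
    [S.X₁.IsStrictlyLE n] [S.X₂.IsStrictlyLE n] [S.X₃.IsStrictlyLE n] :
    ∃ (T : ShortComplex (CochainComplex A ℤ)) (φ : T ⟶ S), T.ShortExact ∧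
      T.X₁.IsStrictlyLE n ∧ T.X₂.IsStrictlyLE n ∧ T.X₃.IsStrictlyLE n ∧
      (∀ k : ℤ, Projective (T.X₁.X k) ∧ Projective (T.X₂.X k) ∧ Projective (T.X₃.X k)) ∧
      QuasiIso φ.τ₁ ∧ QuasiIso φ.τ₂ ∧ QuasiIso φ.τ₃ := by
  exact aux S hS n

end Groth.Agent.S6610
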