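import Groth.Statements.S6611
-- import your own Groth.Agent.* helpers here
import Mathlib.Algebra.Homology.HomotopyCategory.KInjective
import Mathlib.Algebra.Homology.HomologySequenceLemmas

set_option autoImplicit false
universe v u
open CategoryTheory CategoryTheory.Limits
open CohDer

namespace Groth.Agent.S6611

open CochainComplex HomComplex in
theorem aux {A : Type u} [Category.{v} A] [Abelian A]
    (K L I : CochainComplex A ℤ) (α : K ⟶ L) [QuasiIso α] (hα : ∀ n : ℤ, Mono (α.f n))
    (a : ℤ) [I.IsStrictlyGE a] (hI : ∀ n : ℤ, Injective (I.X n)) (γ : K ⟶ I) :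
    ∃ β : L ⟶ I, α ≫ β = γ := by
  have : Mono α := HomologicalComplex.mono_of_mono_f α hα
  let S : ShortComplex (CochainComplex A ℤ) := ShortComplex.mk α (cokernel.π α) (cokernel.condition α)
  have hS : S.ShortExact :=
    { exact := ShortComplex.exact_cokernel α, mono_f := this, epi_g := inferInstanceAs (Epi (cokernel.π α)) }
  have hQ : S.X₃.Acyclic := hS.acyclic_X₃ (inferInstanceAs (QuasiIso α))
  have : I.IsKInjective := isKInjective_of_injective I a
  have hSp : ∀ p : ℤ, (S.map (HomologicalComplex.eval A (ComplexShape.up ℤ) p)).ShortExact :=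
    fun p => hS.map_of_exact _
  have hepi : ∀ p, Epi ((cokernel.π α).f p) := fun p => (hSp p).epi_g
  let β₀ : Cochain L I 0 := Cochain.ofHoms (fun n => Injective.factorThru (γ.f n) (α.f n))
  have hβ₀ : (Cochain.ofHom α).comp β₀ (add_zero 0) = Cochain.ofHom γ := by
    ext p
    simp [β₀]
  have h1 : (Cochain.ofHom α).comp (δ 0 1 β₀) (zero_add 1) = 0 := by
    rw [← δ_ofHom_comp, hβ₀, δ_ofHom]
  let z : Cochain S.X₃ I 1 := Cochain.mk (fun p q hpq =>
    haveI := (hSp p).epi_g
    (hSp p).exact.desc ((δ 0 1 β₀).v p q hpq) (by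
      have := Cochain.congr_v h1 p q hpq
      rw [Cochain.zero_cochain_comp_v, Cochain.ofHom_v, Cochain.zero_v] at this
      exact this))
  have hz : (Cochain.ofHom (cokernel.π α)).comp z (zero_add 1) = δ 0 1 β₀ := by
    ext p q hpq
    simp only [Cochain.zero_cochain_comp_v, Cochain.ofHom_v, z, Cochain.mk_v]
    have := (hSp p).epi_g
    exact (hSp p).exact.g_desc _ _
  have hz' : δ 1 2 z = 0 := by
    have h2 : (Cochain.ofHom (cokernel.π α)).comp (δ 1 2 z) (zero_add 2) = 0 := by
      rw [← δ_ofHom_comp, hz, δ_δ]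
    ext p q hpq
    have := Cochain.congr_v h2 p q hpq
    rw [← cancel_epi ((cokernel.π α).f p)]
    simpa using this
  obtain ⟨h, hh⟩ := IsKInjective.eq_δ_of_cocycle (Cocycle.mk z 2 (by lia) hz') hQ 0 (zero_add 1)
  let β₁ : Cochain L I 0 := β₀ - (Cochain.ofHom (cokernel.π α)).comp h (add_zero 0)
  have hβ₁ : δ 0 1 β₁ = 0 := by
    simp only [β₁, δ_sub, δ_ofHom_comp, hh]
    change δ 0 1 β₀ - (Cochain.ofHom (cokernel.π α)).comp z (zero_add 1) = 0
    rw [hz, sub_self]
  refine ⟨Cocycle.homOf (Cocycle.mk β₁ 1 (zero_add 1) hβ₁), ?_⟩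
  ext p
  simp [β₁, β₀]
  rw [← HomologicalComplex.comp_f_assoc, cokernel.condition]
  simp

/-- Let A be an abelian category, α : K ⟶ L a quasi-isomorphism of cochain complexes which is injective
in every degree, I a bounded below complex of injective objects and γ : K ⟶ I a morphism. Then there
is a morphism β : L ⟶ I with α ≫ β = γ. -/
theorem result {A : Type u} [Category.{v} A] [Abelian A]
    (K L I : CochainComplex A ℤ) (α : K ⟶ L) [QuasiIso α] (hα : ∀ n : ℤ, Mono (α.f n))
    (a : ℤ) [I.IsStrictlyGE a] (hI : ∀ n : ℤ, Injective (I.X n)) (γ : K ⟶ I) :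
    ∃ β : L ⟶ I, α ≫ β = γ := by
  exact aux K L I α hα a hI γ

end Groth.Agent.S6611
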