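import Groth.Statements.S6612
-- import your own Groth.Agent.* helpers here

set_option autoImplicit false
universe v u
open CategoryTheory CategoryTheory.Limits
open CohDer

namespace Groth.Agent.S6612

open CategoryTheory.Category in
set_option backward.defeqAttrib.useBackward true in
set_option backward.isDefEq.respectTransparency false in
theorem aux {V : Type u} [Category.{v} V] [Preadditive V] [HasBinaryBiproducts V]
    (S : ShortComplex (CochainComplex V ℤ))
    (σ : ∀ n : ℤ, (S.map (HomologicalComplex.eval V (ComplexShape.up ℤ) n)).Splitting)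
    {B₁ B₃ : CochainComplex V ℤ} (b : B₁ ⟶ S.X₂) (b' : S.X₂ ⟶ B₃)
    (hb : Nonempty (Homotopy (b ≫ S.g) 0)) (hb' : Nonempty (Homotopy (S.f ≫ b') 0)) :
    Nonempty (Homotopy (b ≫ b') 0) := by
  obtain ⟨hb⟩ := hb
  obtain ⟨hb'⟩ := hb'
  have r_f := fun n => (σ n).r_f
  have s_g := fun n => (σ n).s_g
  have f_r := fun n => (σ n).f_r
  dsimp at r_f s_g f_r
  let N : B₁ ⟶ S.X₂ := Homotopy.nullHomotopicMap' (fun i j _ => hb.hom i j ≫ (σ j).s)
  have hN : N ≫ S.g = b ≫ S.g := by
    ext n
    have h1 : (ComplexShape.up ℤ).Rel (n - 1) n := by simp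
    have h2 : (ComplexShape.up ℤ).Rel n (n + 1) := by simp
    have := hb.comm n
    rw [dNext_eq hb.hom h2, prevD_eq hb.hom h1, HomologicalComplex.zero_f, add_zero] at this
    rw [this, Homotopy.nullHomotopicMap'_comp, Homotopy.nullHomotopicMap'_f h1 h2]
    simp only [assoc, s_g, comp_id]
  -- the chain map `a` with `a ≫ S.f = b - N`
  have hzero : (b - N) ≫ S.g = 0 := by rw [Preadditive.sub_comp, hN, sub_self]
  have hzero' : ∀ n, (b - N).f n ≫ S.g.f n = 0 := fun n => by
    rw [← HomologicalComplex.comp_f, hzero, HomologicalComplex.zero_f]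
  let r' : ∀ n, S.X₂.X n ⟶ S.X₁.X n := fun n => (σ n).r
  have hfac : ∀ n, (b - N).f n ≫ r' n ≫ S.f.f n = (b - N).f n := fun n => by
    rw [r_f, Preadditive.comp_sub, comp_id, reassoc_of% (hzero' n), zero_comp, sub_zero]
  have hmono : ∀ n, Mono (S.f.f n) := fun n => mono_of_mono_fac (f_r n)
  let a : B₁ ⟶ S.X₁ :=
    { f := fun n => (b - N).f n ≫ r' n
      comm' := fun i j _ => by
        rw [← cancel_mono (S.f.f j), assoc, assoc, assoc, assoc, hfac, ← S.f.comm,
          reassoc_of% (hfac i), HomologicalComplex.Hom.comm] }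
  have ha : a ≫ S.f = b - N := by
    ext n
    dsimp [a]
    rw [assoc]
    exact hfac n
  have hbb : b ≫ b' = a ≫ (S.f ≫ b') + N ≫ b' := by
    rw [← assoc, ha, Preadditive.sub_comp, sub_add_cancel]
  have H1 : Homotopy (a ≫ (S.f ≫ b')) 0 := (hb'.compLeft a).trans (Homotopy.ofEq comp_zero)
  have H2 : Homotopy (N ≫ b') 0 :=
    ((Homotopy.nullHomotopy' _).compRight b').trans (Homotopy.ofEq zero_comp)
  exact ⟨(Homotopy.ofEq hbb).trans ((H1.add H2).trans (Homotopy.ofEq (add_zero 0)))⟩

/-- Let A be an additive category and 0 → A₂ → B₂ → C₂ → 0 a termwise split exact sequence of complexes.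
Given a chain map b from a complex B₁ into B₂ and a chain map b' from B₂ into a complex B₃, suppose
that both composites b ≫ (B₂ → C₂) and (A₂ → B₂) ≫ b' are null-homotopic. Then b ≫ b' is homotopic
to zero. (The published statement has three termwise split sequences Aᵢ → Bᵢ → Cᵢ and asks both
squares of each diagram to commute up to homotopy; this row keeps only the middle sequence and the
two conditions at B₂ that the argument uses, so it is more general.) -/
theorem result {V : Type u} [Category.{v} V] [Preadditive V] [HasBinaryBiproducts V]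
    (S : ShortComplex (CochainComplex V ℤ))
    (σ : ∀ n : ℤ, (S.map (HomologicalComplex.eval V (ComplexShape.up ℤ) n)).Splitting)
    {B₁ B₃ : CochainComplex V ℤ} (b : B₁ ⟶ S.X₂) (b' : S.X₂ ⟶ B₃)
    (hb : Nonempty (Homotopy (b ≫ S.g) 0)) (hb' : Nonempty (Homotopy (S.f ≫ b') 0)) :
    Nonempty (Homotopy (b ≫ b') 0) := by
  exact aux S σ b b' hb hb'

end Groth.Agent.S6612
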