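import Groth.Statements.S6613
-- import your own Groth.Agent.* helpers here
import Mathlib.CategoryTheory.Localization.LocalizerMorphism

set_option autoImplicit false
universe v u v' u'
open CategoryTheory CategoryTheory.Limits
open CohDer

namespace Groth.Agent.S6613

theorem hasRightCalc {D : Type u} [Category.{v} D] (P : ObjectProperty D)
    (S : MorphismProperty D) [S.HasRightCalculusOfFractions]
    (hP : ∀ X : D, ∃ (X' : D) (s : X' ⟶ X), P X' ∧ S s) :
    (S.inverseImage P.ι).HasRightCalculusOfFractions where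
  exists_rightFraction X Y φ := by
    obtain ⟨ψ, hψ⟩ := (MorphismProperty.LeftFraction.mk (W := S) φ.f.hom φ.s.hom φ.hs).exists_rightFraction
    obtain ⟨X'', t, hX'', ht⟩ := hP ψ.X'
    refine ⟨{ X' := ⟨X'', hX''⟩, s := P.homMk (t ≫ ψ.s), hs := S.comp_mem _ _ ht ψ.hs,
              f := P.homMk (t ≫ ψ.f) }, ?_⟩
    ext
    simpa using t ≫= hψ
  ext X Y Y' f₁ f₂ s hs h := by
    obtain ⟨X', t, ht, fac⟩ := MorphismProperty.HasRightCalculusOfFractions.ext f₁.hom f₂.hom s.hom hs
      (by simpa using congrArg (fun f => f.hom) h)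
    obtain ⟨X'', u, hX'', hu⟩ := hP X'
    refine ⟨⟨X'', hX''⟩, P.homMk (u ≫ t), S.comp_mem _ _ hu ht, ?_⟩
    ext
    simpa using u ≫= fac

/-- The inclusion of a full subcategory as a localizer morphism. -/
def locMor {D : Type u} [Category.{v} D] (P : ObjectProperty D) (S : MorphismProperty D) :
    LocalizerMorphism (S.inverseImage P.ι) S where
  functor := P.ι
  map := fun _ _ _ hf => hf

/-- A right fraction in the subcategory, viewed in the ambient category. -/
def toS {D : Type u} [Category.{v} D] {P : ObjectProperty D} {S : MorphismProperty D}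
    {X₁ X₂ : P.FullSubcategory} (φ : (S.inverseImage P.ι).RightFraction X₁ X₂) :
    S.RightFraction X₁.obj X₂.obj :=
  { X' := φ.X'.obj, s := φ.s.hom, hs := φ.hs, f := φ.f.hom }

theorem fullFaithful {D : Type u} [Category.{v} D] (P : ObjectProperty D)
    (S : MorphismProperty D) [S.HasRightCalculusOfFractions]
    [(S.inverseImage P.ι).HasRightCalculusOfFractions]
    {E : Type u'} [Category.{v'} E] (Q : D ⥤ E) [Q.IsLocalization S]
    (hP : ∀ X : D, ∃ (X' : D) (s : X' ⟶ X), P X' ∧ S s)
    {D₁ : Type*} [Category* D₁] (L₁ : P.FullSubcategory ⥤ D₁) [L₁.IsLocalization (S.inverseImage P.ι)] :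
    ((locMor P S).localizedFunctor L₁ Q).Full ∧ ((locMor P S).localizedFunctor L₁ Q).Faithful := by
  let G := (locMor P S).localizedFunctor L₁ Q
  let e : P.ι ⋙ Q ≅ L₁ ⋙ G := CatCommSq.iso (locMor P S).functor L₁ Q G
  have hmap : ∀ {X₁ X₂ : P.FullSubcategory} (h : X₁ ⟶ X₂),
      G.map (L₁.map h) = e.inv.app X₁ ≫ Q.map h.hom ≫ e.hom.app X₂ := by
    intro X₁ X₂ h
    have := e.hom.naturality h
    dsimp at this
    rw [this, Iso.inv_hom_id_app_assoc]
  have hfrac : ∀ {X₁ X₂ : P.FullSubcategory} (φ : (S.inverseImage P.ι).RightFraction X₁ X₂),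
      G.map (φ.map L₁ (Localization.inverts _ _)) =
        e.inv.app X₁ ≫ (toS φ).map Q (Localization.inverts _ _) ≫ e.hom.app X₂ := by
    intro X₁ X₂ φ
    have := Localization.inverts L₁ (S.inverseImage P.ι) _ φ.hs
    rw [← cancel_epi (G.map (L₁.map φ.s)), ← Functor.map_comp,
      MorphismProperty.RightFraction.map_s_comp_map, hmap, hmap]
    have h2 := (toS φ).map_s_comp_map Q (Localization.inverts _ _)
    dsimp [toS] at h2 ⊢
    simp only [Category.assoc, Iso.hom_inv_id_app_assoc]
    rw [reassoc_of% h2]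
  have : L₁.EssSurj := Localization.essSurj L₁ (S.inverseImage P.ι)
  constructor
  · refine G.full_of_comp_essSurj L₁ (fun X₁ X₂ φ ↦ ?_)
    obtain ⟨f, hf⟩ := Localization.exists_rightFraction Q S (e.hom.app X₁ ≫ φ ≫ e.inv.app X₂)
    obtain ⟨X'', t, hX'', ht⟩ := hP f.X'
    let g : (S.inverseImage P.ι).RightFraction X₁ X₂ :=
      { X' := ⟨X'', hX''⟩
        s := P.homMk (t ≫ f.s)
        hs := S.comp_mem _ _ ht f.hs
        f := P.homMk (t ≫ f.f) }
    refine ⟨g.map L₁ (Localization.inverts _ _), ?_⟩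
    have hφ : φ = e.inv.app X₁ ≫ (f.map Q (Localization.inverts _ _)) ≫ e.hom.app X₂ := by
      rw [← hf]; simp
    rw [hfrac, hφ]
    congr 2
    rw [MorphismProperty.RightFraction.map_eq_iff]
    refine ⟨X'', 𝟙 _, t, ?_, ?_, ?_⟩
    · simp [toS, g]
    · simp [toS, g]
    · simpa [toS, g] using S.comp_mem _ _ ht f.hs
  · refine G.faithful_of_comp_essSurj L₁ (fun X₁ X₂ f₁ f₂ h ↦ ?_)
    obtain ⟨φ, rfl⟩ := Localization.exists_rightFraction L₁ (S.inverseImage P.ι) f₁
    obtain ⟨ψ, rfl⟩ := Localization.exists_rightFraction L₁ (S.inverseImage P.ι) f₂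
    rw [MorphismProperty.RightFraction.map_eq_iff]
    have key : (toS φ).map Q (Localization.inverts _ _) = (toS ψ).map Q (Localization.inverts _ _) := by
      have := h
      rw [hfrac, hfrac] at this
      simpa only [cancel_epi, cancel_mono] using this
    rw [MorphismProperty.RightFraction.map_eq_iff] at key
    obtain ⟨Z, t₁, t₂, hst, hft, ht⟩ := key
    obtain ⟨Z', u, hZ', hu⟩ := hP Z
    refine ⟨⟨Z', hZ'⟩, P.homMk (u ≫ t₁), P.homMk (u ≫ t₂), ?_, ?_, ?_⟩
    · ext; simpa [toS] using u ≫= hst
    · ext; simpa [toS] using u ≫= hft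
    · change S ((u ≫ t₁) ≫ φ.s.hom)
      rw [Category.assoc]
      exact S.comp_mem _ _ hu ht

theorem aux {D : Type u} [Category.{v} D] (P : ObjectProperty D)
    (S : MorphismProperty D) [S.HasRightCalculusOfFractions]
    {E : Type u'} [Category.{v'} E] (Q : D ⥤ E) [Q.IsLocalization S]
    (hP : ∀ X : D, ∃ (X' : D) (s : X' ⟶ X), P X' ∧ S s) :
    (P.ι ⋙ Q).IsLocalization (S.inverseImage P.ι) := by
  have := hasRightCalc P S hP
  obtain ⟨h1, h2⟩ := fullFaithful P S Q hP (S.inverseImage P.ι).Q
  have : (locMor P S).IsLocalizedFullyFaithful :=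
    LocalizerMorphism.IsLocalizedFullyFaithful.mk' (locMor P S) (S.inverseImage P.ι).Q Q
      ((locMor P S).localizedFunctor (S.inverseImage P.ι).Q Q)
      (Functor.FullyFaithful.ofFullyFaithful _)
  have : (P.ι ⋙ Q).EssSurj := by
    constructor
    intro Y
    have := Localization.essSurj Q S
    obtain ⟨X', s, hX', hs⟩ := hP (Q.objPreimage Y)
    have := Localization.inverts Q S s hs
    exact ⟨⟨X', hX'⟩, ⟨asIso (Q.map s) ≪≫ Q.objObjPreimageIso Y⟩⟩
  exact (locMor P S).isLocalization_of_isLocalizedFullyFaithful (L₂ := Q) (L₁ := P.ι ⋙ Q) (F := 𝟭 E)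
    (Functor.rightUnitor _).symm

/-- Let D be a pretriangulated category, D' ⊂ D a full pretriangulated subcategory, S a saturated
multiplicative system of D compatible with the triangulated structure and Q : D → S⁻¹D the
localization. Assume every X in D admits some s : X' ⟶ X in S with X' in D'. Then, with S' = S ∩
Arrows(D'), the functor (S')⁻¹D' → S⁻¹D is an equivalence; equivalently the composite D' → D → S⁻¹D
is a localization of D' at S'. (The published result additionally claims that the intersection S' =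
S ∩ Arrows(D') forms a multiplicative system on D' which is saturated and respects the triangulated
structure of D'; this row asserts only the localization property.) -/
theorem result {D : Type u} [Category.{v} D] [Preadditive D] [HasZeroObject D] [HasShift D ℤ]
    [∀ n : ℤ, (shiftFunctor D n).Additive] [Pretriangulated D]
    (P : ObjectProperty D) [P.IsTriangulated]
    (S : MorphismProperty D) [S.HasLeftCalculusOfFractions] [S.HasRightCalculusOfFractions] [S.IsCompatibleWithTriangulation]
    {E : Type u'} [Category.{v'} E] (Q : D ⥤ E) [Q.IsLocalization S]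
    (hsat : ∀ {X Y : D} (f : X ⟶ Y), IsIso (Q.map f) → S f)
    (hP : ∀ X : D, ∃ (X' : D) (s : X' ⟶ X), P X' ∧ S s) :
    (P.ι ⋙ Q).IsLocalization (S.inverseImage P.ι) := by
  exact aux P S Q hP

end Groth.Agent.S6613
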