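import Groth.Statements.S6614
-- import your own Groth.Agent.* helpers here
import Groth.Agent.Lib.Helper32.SplitTri

set_option autoImplicit false
universe v u
open CategoryTheory CategoryTheory.Limits Opposite
open CohDer

namespace Groth.Agent.S6614

open Groth.Agent.Lib.Helper32 in
theorem aux {D : Type u} [Category.{v} D] [Preadditive D] [HasZeroObject D] [HasShift D ℤ]
    [∀ n : ℤ, (shiftFunctor D n).Additive] [Pretriangulated D]
    (X : ARSys.PS D) (A : D) (c : (Functor.const ℕᵒᵖ).obj A ⟶ X) (hX : DerCA.IsEssConstant X A c) :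
    ∃ (i : ℕ) (Z : ℕ → D) (e : ∀ j : ℕ, X.obj (op (i + j)) ≅ A ⊞ Z j) (z : ∀ j k : ℕ, j ≤ k → (Z k ⟶ Z j)),
      (∀ j : ℕ, c.app (op (i + j)) ≫ (e j).hom = biprod.inl) ∧
      (∀ (j k : ℕ) (hjk : j ≤ k), (e k).inv ≫ ARSys.tr X (Nat.add_le_add_left hjk i) = biprod.map (𝟙 A) (z j k hjk) ≫ (e j).inv) ∧
      (∀ j : ℕ, ∃ (k : ℕ) (hjk : j ≤ k), z j k hjk = 0) := by
  obtain ⟨i, s, hs, hess⟩ := hX
  have natc : ∀ {a b : ℕ} (hab : a ≤ b), c.app (op b) ≫ ARSys.tr X hab = c.app (op a) := by
    intro a b hab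
    have := c.naturality (homOfLE hab).op
    simpa using this.symm
  have trtr : ∀ {a b d : ℕ} (hab : a ≤ b) (hbd : b ≤ d),
      ARSys.tr X hbd ≫ ARSys.tr X hab = ARSys.tr X (hab.trans hbd) := by
    intro a b d hab hbd
    rw [← X.map_comp]; congr 1
  -- retractions
  let r : ∀ j : ℕ, X.obj (op (i + j)) ⟶ A := fun j => ARSys.tr X (Nat.le_add_right i j) ≫ s
  have hcr : ∀ j, c.app (op (i + j)) ≫ r j = 𝟙 A := by
    intro j
    simp only [r]
    rw [← Category.assoc, natc, hs]
  have hrr : ∀ (j k : ℕ) (hjk : j ≤ k), ARSys.tr X (Nat.add_le_add_left hjk i) ≫ r j = r k := by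
    intro j k hjk
    simp only [r]
    rw [← Category.assoc, trtr]
  choose Z q jj hcq hjr hjq htot using fun j => exists_complement_of_retraction (c.app (op (i + j))) (r j) (hcr j)
  refine ⟨i, Z, fun j => ⟨biprod.lift (r j) (q j), biprod.desc (c.app (op (i + j))) (jj j), ?_, ?_⟩,
    fun j k hjk => jj k ≫ ARSys.tr X (Nat.add_le_add_left hjk i) ≫ q j, ?_, ?_, ?_⟩
  · rw [biprod.lift_desc, htot]
  · apply biprod.hom_ext' <;> apply biprod.hom_ext <;> simp [hcr, hcq, hjr, hjq]
  · intro j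
    apply biprod.hom_ext <;> simp [hcr, hcq]
  · intro j k hjk
    apply biprod.hom_ext'
    · simp [natc]
    · simp only [biprod.inr_desc_assoc, biprod.inr_map_assoc, biprod.inr_desc, Category.assoc]
      have h1 : q j ≫ jj j = 𝟙 _ - r j ≫ c.app (op (i + j)) := by
        rw [← htot j]; abel
      rw [h1, Preadditive.comp_sub, Preadditive.comp_sub, Category.comp_id, ← Category.assoc (ARSys.tr X _),
        hrr j k hjk, reassoc_of% (hjr k), zero_comp, sub_zero]
  · intro j
    obtain ⟨k', hik', hjk', hk'⟩ := hess (i + j)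
    obtain ⟨k, rfl⟩ := Nat.exists_eq_add_of_le hik'
    have hjk : j ≤ k := by lia
    refine ⟨k, hjk, ?_⟩
    have : ARSys.tr X (Nat.add_le_add_left hjk i) = r k ≫ c.app (op (i + j)) := by
      simp only [r, Category.assoc]
      exact hk'
    change jj k ≫ ARSys.tr X (Nat.add_le_add_left hjk i) ≫ q j = 0
    rw [this, Category.assoc, hcq, comp_zero, comp_zero]

/-- Let D be a triangulated category and (A_n) an ℕ-indexed inverse system of D which is essentially
constant with value A relative to the cone c. Then there are an index i and direct sum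
decompositions A_{i+j} ≅ A ⊞ Z_j (j ≥ 0) such that (a) c_{i+j} is the inclusion of the summand A and
the transition maps A_{i+k} → A_{i+j} are 𝟙_A ⊕ (Z_k → Z_j), and (b) for every j there is k ≥ j with
Z_k → Z_j zero. (The published statement is an equivalence whose converse is given without proof;
this row states only the forward implication.) -/
theorem result {D : Type u} [Category.{v} D] [Preadditive D] [HasZeroObject D] [HasShift D ℤ]
    [∀ n : ℤ, (shiftFunctor D n).Additive] [Pretriangulated D] [IsTriangulated D]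
    (X : ARSys.PS D) (A : D) (c : (Functor.const ℕᵒᵖ).obj A ⟶ X) (hX : DerCA.IsEssConstant X A c) :
    ∃ (i : ℕ) (Z : ℕ → D) (e : ∀ j : ℕ, X.obj (op (i + j)) ≅ A ⊞ Z j) (z : ∀ j k : ℕ, j ≤ k → (Z k ⟶ Z j)),
      (∀ j : ℕ, c.app (op (i + j)) ≫ (e j).hom = biprod.inl) ∧
      (∀ (j k : ℕ) (hjk : j ≤ k), (e k).inv ≫ ARSys.tr X (Nat.add_le_add_left hjk i) = biprod.map (𝟙 A) (z j k hjk) ≫ (e j).inv) ∧
      (∀ j : ℕ, ∃ (k : ℕ) (hjk : j ≤ k), z j k hjk = 0) := by
  exact aux X A c hX

end Groth.Agent.S6614
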