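import Groth.Statements.S6616
-- import your own Groth.Agent.* helpers here
import Groth.Agent.Lib.Helper32.RelRes

set_option autoImplicit false
universe v u
open CategoryTheory CategoryTheory.Limits
open CohDer

namespace Groth.Agent.S6616

open Groth.Agent.Lib.Helper32
section tower
variable {A : Type u} [Category.{v} A] [Abelian A] (I : ObjectProperty A) (K : CochainComplex A ℤ)

/-- transition map between truncations -/
noncomputable def truncTrans (a b : ℤ) (hab : a ≤ b) : K.truncGE a ⟶ K.truncGE b :=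
  haveI : (K.truncGE b).IsStrictlyGE a := (K.truncGE b).isStrictlyGE_of_ge a b hab
  CochainComplex.truncGEMap (K.πTruncGE b) a ≫ inv ((K.truncGE b).πTruncGE a)

@[reassoc]
lemma π_truncTrans (a b : ℤ) (hab : a ≤ b) : K.πTruncGE a ≫ truncTrans K a b hab = K.πTruncGE b := by
  haveI : (K.truncGE b).IsStrictlyGE a := (K.truncGE b).isStrictlyGE_of_ge a b hab
  dsimp only [truncTrans]
  rw [CochainComplex.πTruncGE_naturality_assoc, IsIso.hom_inv_id, Category.comp_id]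

structure TStage (n : ℕ) where
  Q : CochainComplex A ℤ
  π : K.truncGE (-(n : ℤ)) ⟶ Q
  qis : QuasiIso π
  mono : ∀ i, Mono (π.f i)
  bdd : ∃ a : ℤ, Q.IsStrictlyGE a
  prop : ∀ i, I (Q.X i)

variable {I K}
variable [I.IsClosedUnderIsomorphisms]
    (hI0 : ∃ Z : A, IsZero Z ∧ I Z) (hIprod : ∀ X Y : A, I X → I Y → I (X ⊞ Y))
    (hI : ∀ X : A, ∃ (Y : A) (ι : X ⟶ Y), I Y ∧ Mono ι)

include hI0 hIprod hI in
lemma exists_next {n : ℕ} (st : TStage I K n) :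
    ∃ (st' : TStage I K (n + 1)) (p : st'.Q ⟶ st.Q),
      (∀ i, (∃ s : st.Q.X i ⟶ st'.Q.X i, s ≫ p.f i = 𝟙 _) ∧ I (kernel (p.f i))) ∧
      K.πTruncGE (-((n + 1 : ℕ) : ℤ)) ≫ st'.π ≫ p = K.πTruncGE (-(n : ℤ)) ≫ st.π := by
  obtain ⟨b, hb⟩ := st.bdd
  let a : ℤ := min b (-((n + 1 : ℕ) : ℤ))
  haveI : st.Q.IsStrictlyGE a := st.Q.isStrictlyGE_of_ge a b (min_le_left _ _)
  haveI : (K.truncGE (-((n + 1 : ℕ) : ℤ))).IsStrictlyGE a :=
    (K.truncGE (-((n + 1 : ℕ) : ℤ))).isStrictlyGE_of_ge a _ (min_le_right _ _)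
  let β : K.truncGE (-((n + 1 : ℕ) : ℤ)) ⟶ st.Q :=
    truncTrans K (-((n + 1 : ℕ) : ℤ)) (-(n : ℤ)) (by push_cast; lia) ≫ st.π
  obtain ⟨M, γ, p, hγp, hγ, hγmono, hM, hIM, hp⟩ :=
    RelRes.exists_relative I hI0 hIprod hI β a st.prop
  refine ⟨⟨M, γ, hγ, hγmono, ⟨a, hM⟩, hIM⟩, p, hp, ?_⟩
  dsimp only
  rw [hγp, π_truncTrans_assoc]

include hI0 hI in
lemma nonempty_stage0 : Nonempty (TStage I K 0) := by
  obtain ⟨L, α, hL, hIL, hmono, hqi⟩ :=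
    RightRes.exists_of_isStrictlyGE (I := I) hI hI0 (K.truncGE (-((0 : ℕ) : ℤ))) (-((0 : ℕ) : ℤ))
  exact ⟨⟨L, α, hqi, hmono, ⟨_, hL⟩, hIL⟩⟩

variable (K) in
noncomputable def tseq : (n : ℕ) → TStage I K n
  | 0 => Classical.choice (nonempty_stage0 hI0 hI)
  | n + 1 => (exists_next hI0 hIprod hI (tseq n)).choose

variable (K) in
noncomputable def tp (n : ℕ) : (tseq K hI0 hIprod hI (n + 1)).Q ⟶ (tseq K hI0 hIprod hI n).Q :=
  (exists_next hI0 hIprod hI (tseq K hI0 hIprod hI n)).choose_spec.choose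

variable (K) in
lemma tp_spec (n : ℕ) :
    (∀ i, (∃ s : (tseq K hI0 hIprod hI n).Q.X i ⟶ (tseq K hI0 hIprod hI (n + 1)).Q.X i,
      s ≫ (tp K hI0 hIprod hI n).f i = 𝟙 _) ∧ I (kernel ((tp K hI0 hIprod hI n).f i))) ∧
      K.πTruncGE (-((n + 1 : ℕ) : ℤ)) ≫ (tseq K hI0 hIprod hI (n + 1)).π ≫ tp K hI0 hIprod hI n =
        K.πTruncGE (-(n : ℤ)) ≫ (tseq K hI0 hIprod hI n).π :=
  (exists_next hI0 hIprod hI (tseq K hI0 hIprod hI n)).choose_spec.choose_spec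

end tower

theorem aux {A : Type u} [Category.{v} A] [Abelian A] (I : ObjectProperty A) [I.IsClosedUnderIsomorphisms]
    (hI0 : ∃ Z : A, IsZero Z ∧ I Z) (hIprod : ∀ X Y : A, I X → I Y → I (X ⊞ Y))
    (hI : ∀ X : A, ∃ (Y : A) (ι : X ⟶ Y), I Y ∧ Mono ι) (K : CochainComplex A ℤ) :
    ∃ (Q : ℕ → CochainComplex A ℤ) (p : ∀ n, Q (n + 1) ⟶ Q n) (π : ∀ n : ℕ, K.truncGE (-(n : ℤ)) ⟶ Q n),
      (∀ n, QuasiIso (π n) ∧ ∀ i, Mono ((π n).f i)) ∧
      (∀ n, ∃ a : ℤ, (Q n).IsStrictlyGE a) ∧ (∀ n i, I ((Q n).X i)) ∧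
      (∀ n i, (∃ s : (Q n).X i ⟶ (Q (n + 1)).X i, s ≫ (p n).f i = 𝟙 _) ∧ I (kernel ((p n).f i))) ∧
      (∀ n : ℕ, K.πTruncGE (-((n + 1 : ℕ) : ℤ)) ≫ π (n + 1) ≫ p n = K.πTruncGE (-(n : ℤ)) ≫ π n) := by
  refine ⟨fun n => (tseq K hI0 hIprod hI n).Q, fun n => tp K hI0 hIprod hI n,
    fun n => (tseq K hI0 hIprod hI n).π, ?_, ?_, ?_, ?_, ?_⟩
  · intro n
    exact ⟨(tseq K hI0 hIprod hI n).qis, (tseq K hI0 hIprod hI n).mono⟩
  · intro n
    exact (tseq K hI0 hIprod hI n).bdd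
  · intro n i
    exact (tseq K hI0 hIprod hI n).prop i
  · intro n i
    exact (tp_spec K hI0 hIprod hI n).1 i
  · intro n
    exact (tp_spec K hI0 hIprod hI n).2

/-- Let I be a class of objects of an abelian category, closed under isomorphisms, containing 0, closed
under binary products, and such that every object is a subobject of an object of I. For any cochain
complex K there are bounded below complexes Iₙ (n ≥ 0) with terms in I, termwise injective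
quasi-isomorphisms πₙ : τ_{≥ -n}K ⟶ Iₙ and termwise split surjections pₙ : Iₙ₊₁ ⟶ Iₙ with termwise
kernels in I, such that K ⟶ τ_{≥ -(n+1)}K ⟶ Iₙ₊₁ ⟶ Iₙ equals K ⟶ τ_{≥ -n}K ⟶ Iₙ. (The published
system starts at τ_{≥ -1}K; this row starts at n = 0 with τ_{≥ 0}K. Closure of I under isomorphisms
is assumed so that closure under binary products has a meaning for a class of objects.) -/
theorem result {A : Type u} [Category.{v} A] [Abelian A] (I : ObjectProperty A) [I.IsClosedUnderIsomorphisms]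
    (hI0 : ∃ Z : A, IsZero Z ∧ I Z) (hIprod : ∀ X Y : A, I X → I Y → I (X ⊞ Y))
    (hI : ∀ X : A, ∃ (Y : A) (ι : X ⟶ Y), I Y ∧ Mono ι) (K : CochainComplex A ℤ) :
    ∃ (Q : ℕ → CochainComplex A ℤ) (p : ∀ n, Q (n + 1) ⟶ Q n) (π : ∀ n : ℕ, K.truncGE (-(n : ℤ)) ⟶ Q n),
      (∀ n, QuasiIso (π n) ∧ ∀ i, Mono ((π n).f i)) ∧
      (∀ n, ∃ a : ℤ, (Q n).IsStrictlyGE a) ∧ (∀ n i, I ((Q n).X i)) ∧
      (∀ n i, (∃ s : (Q n).X i ⟶ (Q (n + 1)).X i, s ≫ (p n).f i = 𝟙 _) ∧ I (kernel ((p n).f i))) ∧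
      (∀ n : ℕ, K.πTruncGE (-((n + 1 : ℕ) : ℤ)) ≫ π (n + 1) ≫ p n = K.πTruncGE (-(n : ℤ)) ≫ π n) := by
  exact aux I hI0 hIprod hI K

end Groth.Agent.S6616
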