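import Groth.Statements.S6617
-- import your own Groth.Agent.* helpers here
import Groth.Agent.Lib.Helper32.CylFactor

set_option autoImplicit false
universe v u
open CategoryTheory CategoryTheory.Limits
open CohDer

namespace Groth.Agent.S6617

theorem step {V : Type u} [Category.{v} V] [Preadditive V] [HasBinaryBiproducts V] [HasZeroObject V]
    {B X X' : CochainComplex V ℤ} (e : HomotopyEquiv B X) (a : X ⟶ X') :
    ∃ (B' : CochainComplex V ℤ) (e' : HomotopyEquiv B' X') (b : B ⟶ B'),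
      b ≫ e'.hom = e.hom ≫ a ∧
      (∀ n : ℤ, ∃ (C : V) (ε : B'.X n ≅ B.X n ⊞ C), b.f n ≫ ε.hom = biprod.inl) ∧
      ((∃ m : ℤ, B.IsStrictlyGE m) → (∃ m : ℤ, X'.IsStrictlyGE m) → ∃ m : ℤ, B'.IsStrictlyGE m) ∧
      ((∃ m : ℤ, B.IsStrictlyLE m) → (∃ m : ℤ, X'.IsStrictlyLE m) → ∃ m : ℤ, B'.IsStrictlyLE m) := by
  obtain ⟨L', α', π, s, h1, h2, ⟨h3⟩, h4, h5, h6⟩ :=
    Groth.Agent.Lib.Helper32.exists_split_injective_factorization B X' (e.hom ≫ a)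
  refine ⟨L', ⟨π, s, h3, Homotopy.ofEq h2⟩, α', h1, h4, ?_, ?_⟩
  · rintro ⟨m₁, hm₁⟩ ⟨m₂, hm₂⟩
    exact ⟨min m₁ m₂ - 1, h5 (min m₁ m₂) (B.isStrictlyGE_of_ge _ m₁ (min_le_left _ _))
      (X'.isStrictlyGE_of_ge _ m₂ (min_le_right _ _))⟩
  · rintro ⟨m₁, hm₁⟩ ⟨m₂, hm₂⟩
    exact ⟨max m₁ m₂, h6 (max m₁ m₂) (B.isStrictlyLE_of_le m₁ _ (le_max_left _ _))
      (X'.isStrictlyLE_of_le m₂ _ (le_max_right _ _))⟩

theorem aux {V : Type u} [Category.{v} V] [Preadditive V] [HasBinaryBiproducts V] [HasZeroObject V]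
    (X : ℕ → CochainComplex V ℤ) (a : ∀ i, X i ⟶ X (i + 1)) :
    ∃ (B : ℕ → CochainComplex V ℤ) (b : ∀ i, B i ⟶ B (i + 1)) (e : ∀ i, HomotopyEquiv (B i) (X i)),
      (∀ i, b i ≫ (e (i + 1)).hom = (e i).hom ≫ a i) ∧
      (∀ (i : ℕ) (n : ℤ), ∃ (C : V) (ε : (B (i + 1)).X n ≅ (B i).X n ⊞ C), (b i).f n ≫ ε.hom = biprod.inl) ∧
      ((∀ i, ∃ m : ℤ, (X i).IsStrictlyGE m) → ∀ i, ∃ m : ℤ, (B i).IsStrictlyGE m) ∧
      ((∀ i, ∃ m : ℤ, (X i).IsStrictlyLE m) → ∀ i, ∃ m : ℤ, (B i).IsStrictlyLE m) := by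
  have hstep : ∀ (i : ℕ) (p : Σ B : CochainComplex V ℤ, HomotopyEquiv B (X i)),
      ∃ (q : Σ B : CochainComplex V ℤ, HomotopyEquiv B (X (i + 1))) (b : p.1 ⟶ q.1),
        b ≫ q.2.hom = p.2.hom ≫ a i ∧
        (∀ n : ℤ, ∃ (C : V) (ε : q.1.X n ≅ p.1.X n ⊞ C), b.f n ≫ ε.hom = biprod.inl) ∧
        ((∃ m : ℤ, p.1.IsStrictlyGE m) → (∃ m : ℤ, (X (i + 1)).IsStrictlyGE m) →
          ∃ m : ℤ, q.1.IsStrictlyGE m) ∧
        ((∃ m : ℤ, p.1.IsStrictlyLE m) → (∃ m : ℤ, (X (i + 1)).IsStrictlyLE m) →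
          ∃ m : ℤ, q.1.IsStrictlyLE m) := by
    rintro i ⟨B, e⟩
    obtain ⟨B', e', b, h⟩ := step e (a i)
    exact ⟨⟨B', e'⟩, b, h⟩
  choose next b hb1 hb2 hb3 hb4 using hstep
  let seq : ∀ i : ℕ, Σ B : CochainComplex V ℤ, HomotopyEquiv B (X i) := fun i =>
    Nat.rec (motive := fun i => Σ B : CochainComplex V ℤ, HomotopyEquiv B (X i))
      ⟨X 0, HomotopyEquiv.refl _⟩ (fun i p => next i p) i
  refine ⟨fun i => (seq i).1, fun i => b i (seq i), fun i => (seq i).2,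
    fun i => hb1 i (seq i), fun i n => hb2 i (seq i) n, ?_, ?_⟩
  · intro hX i
    induction i with
    | zero => exact hX 0
    | succ i ih => exact hb3 i (seq i) ih (hX (i + 1))
  · intro hX i
    induction i with
    | zero => exact hX 0
    | succ i ih => exact hb4 i (seq i) ih (hX (i + 1))

/-- Let A be an additive category and A₀ → A₁ → A₂ → … a sequence of composable morphisms of complexes.
There are complexes Bᵢ, homotopy equivalences Bᵢ ⟶ Aᵢ and termwise split injections Bᵢ ⟶ Bᵢ₊₁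
forming a commutative ladder over the given sequence. Moreover if all Aᵢ are bounded below, resp.
bounded above, then the Bᵢ may be chosen bounded below, resp. bounded above. (The published
statement is for finite sequences A₁ → … → A_n; this row takes a sequence indexed by ℕ, built by the
same step-by-step construction.) -/
theorem result {V : Type u} [Category.{v} V] [Preadditive V] [HasBinaryBiproducts V] [HasZeroObject V]
    (X : ℕ → CochainComplex V ℤ) (a : ∀ i, X i ⟶ X (i + 1)) :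
    ∃ (B : ℕ → CochainComplex V ℤ) (b : ∀ i, B i ⟶ B (i + 1)) (e : ∀ i, HomotopyEquiv (B i) (X i)),
      (∀ i, b i ≫ (e (i + 1)).hom = (e i).hom ≫ a i) ∧
      (∀ (i : ℕ) (n : ℤ), ∃ (C : V) (ε : (B (i + 1)).X n ≅ (B i).X n ⊞ C), (b i).f n ≫ ε.hom = biprod.inl) ∧
      ((∀ i, ∃ m : ℤ, (X i).IsStrictlyGE m) → ∀ i, ∃ m : ℤ, (B i).IsStrictlyGE m) ∧
      ((∀ i, ∃ m : ℤ, (X i).IsStrictlyLE m) → ∀ i, ∃ m : ℤ, (B i).IsStrictlyLE m) := by
  exact aux X a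

end Groth.Agent.S6617
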