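import Groth.Statements.S6618
import Groth.Agent.Lib.Helper83.DerivedLES
import Mathlib.Algebra.Homology.ShortComplex.ExactFunctor

set_option autoImplicit false
universe v v' u u'
open CategoryTheory CategoryTheory.Limits
open CohDer

namespace Groth.Agent.S6618

open Groth.Agent.Lib.Helper83

/-- `R⁰F` sends the first map of a short exact sequence to a monomorphism -/
theorem mono_rightDerived_zero_map {A : Type u} [Category.{v} A] [Abelian A] [HasInjectiveResolutions A]
    {B : Type u'} [Category.{v'} B] [Abelian B] (F : A ⥤ B) [F.Additive]
    (S : ShortComplex A) (hS : S.ShortExact) : Mono ((F.rightDerived 0).map S.f) := by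
  obtain ⟨T⟩ := nonempty_sesRes hS
  have h := hom_nat_f F T 0
  have hm : Mono ((T.cx.map (F.mapHomologicalComplex (ComplexShape.up ℕ))).f) :=
    (T.map_shortExact F).mono_f
  have hm0 : Mono (((F.mapHomologicalComplex (ComplexShape.up ℕ)).map T.f).f 0) := by
    have : Mono ((HomologicalComplex.eval B (ComplexShape.up ℕ) 0).map
        ((F.mapHomologicalComplex (ComplexShape.up ℕ)).map T.f)) := by
      have := hm
      exact inferInstanceAs (Mono ((HomologicalComplex.eval B (ComplexShape.up ℕ) 0).map
        (T.cx.map (F.mapHomologicalComplex (ComplexShape.up ℕ))).f))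
    exact this
  have hm1 : Mono (HomologicalComplex.homologyMap
      ((F.mapHomologicalComplex (ComplexShape.up ℕ)).map T.f) 0) :=
    HomologicalComplex.mono_homologyMap_of_mono_of_not_rel _ 0 (by
      intro i hi
      simp at hi)
  have h2 : Mono ((F.rightDerived 0).map S.f ≫ (T.I₂.isoRightDerivedObj F 0).hom) := by
    rw [h]
    exact mono_comp' inferInstance hm1
  exact mono_of_mono _ (T.I₂.isoRightDerivedObj F 0).hom

theorem preservesFiniteLimits_rightDerived_zero {A : Type u} [Category.{v} A] [Abelian A]
    [HasInjectiveResolutions A]
    {B : Type u'} [Category.{v'} B] [Abelian B] (F : A ⥤ B) [F.Additive] :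
    PreservesFiniteLimits (F.rightDerived 0) := by
  rw [Functor.preservesFiniteLimits_iff_forall_exact_map_and_mono]
  intro S hS
  exact ⟨(derivedLES F).exact₂ S hS 0, mono_rightDerived_zero_map F S hS⟩

/-- Part (2): (3), in the case where A has enough injectives: let F : A ⥤ B be an additive functor
between abelian categories, A with enough injectives. Then R⁰F is left exact; moreover, F itself is
left exact exactly when the canonical comparison morphism from F to R⁰F is invertible. -/
theorem result {A : Type u} [Category.{v} A] [Abelian A] [EnoughInjectives A]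
    {B : Type u'} [Category.{v'} B] [Abelian B] (F : A ⥤ B) [F.Additive] :
    PreservesFiniteLimits (F.rightDerived 0) ∧ (IsIso F.toRightDerivedZero ↔ PreservesFiniteLimits F) := by
  refine ⟨preservesFiniteLimits_rightDerived_zero F, ⟨fun h => ?_, fun h => inferInstance⟩⟩
  have := preservesFiniteLimits_rightDerived_zero F
  exact preservesFiniteLimits_of_natIso (asIso F.toRightDerivedZero).symm

end Groth.Agent.S6618
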