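import Groth.Statements.S6620
-- import your own Groth.Agent.* helpers here

set_option autoImplicit false
universe w w' v v' u u'
open CategoryTheory CategoryTheory.Limits
open CohDer

namespace Groth.Agent.S6620

theorem aux {A : Type u} [Category.{v} A] [Abelian A] [HasDerivedCategory.{w} A] [EnoughInjectives A]
    {B : Type u'} [Category.{v'} B] [Abelian B] [HasDerivedCategory.{w'} B]
    (F : A ⥤ B) [F.Additive] (K : DerivedCategory.Plus A) (a : ℤ) [K.IsGE a] :
    (F.rightDerivedFunctorPlus.obj K).IsGE a := by
  obtain ⟨L, hL, ⟨e⟩⟩ := DerivedCategory.Plus.exists_injective_nonempty_iso K a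
  let L₀ := (InjectiveObject.ι A).mapCochainComplexPlus.obj L
  have h1 : IsIso (F.rightDerivedFunctorPlusUnit.app ((HomotopyCategory.Plus.quotient A).obj L₀)) := by
    infer_instance
  let e1 := asIso (F.rightDerivedFunctorPlusUnit.app ((HomotopyCategory.Plus.quotient A).obj L₀))
  let e2 : F.rightDerivedFunctorPlus.obj (DerivedCategory.Plus.Q.obj L₀) ≅ F.rightDerivedFunctorPlus.obj K :=
    F.rightDerivedFunctorPlus.mapIso e
  let M : CochainComplex B ℤ := (F.mapHomologicalComplex (ComplexShape.up ℤ)).obj L₀.obj
  have hL₀ : L₀.obj.IsStrictlyGE a := by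
    change CochainComplex.IsStrictlyGE (((InjectiveObject.ι A).mapHomologicalComplex (ComplexShape.up ℤ)).obj L.obj) a
    rw [CochainComplex.isStrictlyGE_mapHomologicalComplex_obj_iff]
    exact hL
  have hM : M.IsStrictlyGE a := by
    dsimp [M]
    infer_instance
  have hM' : (DerivedCategory.Q.obj M).IsGE a := inferInstance
  have h3 : ((F.mapHomotopyCategoryPlus ⋙ DerivedCategory.Plus.Qh).obj
      ((HomotopyCategory.Plus.quotient A).obj L₀)).IsGE a := by
    rw [← DerivedCategory.Plus.isGE_ι_obj_iff]
    exact DerivedCategory.TStructure.t.isGE_of_iso ((DerivedCategory.quotientCompQhIso B).symm.app M) a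
  exact DerivedCategory.Plus.TStructure.t.isGE_of_iso (e1 ≪≫ e2) a

/-- Part (1): in the case where A has enough injectives (so that RF is defined on all of D⁺(A)): let F :
A ⥤ B be an additive functor between abelian categories, A with enough injectives, and K ∈ D⁺(A)
with Hⁱ(K) = 0 for i < a. Then Hⁱ(RF(K)) = 0 for i < a. -/
theorem result {A : Type u} [Category.{v} A] [Abelian A] [HasDerivedCategory.{w} A] [EnoughInjectives A]
    {B : Type u'} [Category.{v'} B] [Abelian B] [HasDerivedCategory.{w'} B]
    (F : A ⥤ B) [F.Additive] (K : DerivedCategory.Plus A) (a : ℤ) [K.IsGE a] :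
    (F.rightDerivedFunctorPlus.obj K).IsGE a := by
  exact aux F K a

end Groth.Agent.S6620
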