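import Groth.Statements.S6623
-- import your own Groth.Agent.* helpers here
import Groth.Agent.Lib.Helper32.Postnikov

set_option autoImplicit false
universe v u
open CategoryTheory CategoryTheory.Limits
open CohDer

namespace Groth.Agent.S6623

open CategoryTheory.Pretriangulated Groth.Agent.Lib.Helper32 in
/-- Vanishing (I): maps out of `Y m`. -/
theorem vanI {D : Type u} [Category.{v} D] [Preadditive D] [HasZeroObject D] [HasShift D ℤ]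
    [∀ n : ℤ, (shiftFunctor D n).Additive] [Pretriangulated D]
    (X : ChainComplex D ℕ) (n : ℕ)
    (Y : ℕ → D) (a : ∀ k, Y k ⟶ X.X k) (b : ∀ k, X.X (k + 1) ⟶ Y k)
    (c : ∀ k, Y k ⟶ (shiftFunctor D (1 : ℤ)).obj (Y (k + 1)))
    (h0 : IsIso (a 0))
    (hP : ∀ k, k < n → Triangle.mk (a (k + 1)) (b k) (c k) ∈ distinguishedTriangles)
    (m : ℕ) : m ≤ n → ∀ (Z : D),
      (∀ p s : ℕ, p + s = m → ∀ ψ : X.X p ⟶ (shiftFunctor D (s : ℤ)).obj Z, ψ = 0) →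
      ∀ ψ : Y m ⟶ Z, ψ = 0 := by
  induction m with
  | zero =>
    intro _ Z hZ ψ
    have h : ∀ g : X.X 0 ⟶ Z, g = 0 :=
      homs_zero_of_shift_zero' (homs_zero_of_shift_eq' (by simp) (hZ 0 0 rfl))
    rw [← cancel_epi (inv (a 0)), h (inv (a 0) ≫ ψ), comp_zero]
  | succ m ih =>
    intro hm Z hZ ψ
    have h1 := ih (by lia) ((shiftFunctor D (1 : ℤ)).obj Z)
      (fun p s hps => homs_zero_shift_shift' (p := 1) (q := (s : ℤ)) (m' := ((s + 1 : ℕ) : ℤ))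
        (by push_cast; lia) (hZ p (s + 1) (by lia)))
      (c m ≫ (shiftFunctor D (1 : ℤ)).map ψ)
    refine eq_zero_of_mor₃_comp_shift _ (hP m (by lia)) ψ h1 ?_
    exact homs_zero_of_shift_zero' (homs_zero_of_shift_eq' (by simp) (hZ (m + 1) 0 rfl))

open CategoryTheory.Pretriangulated Groth.Agent.Lib.Helper32 in
/-- Vanishing (II): maps into `qY m`. -/
theorem vanII {D : Type u} [Category.{v} D] [Preadditive D] [HasZeroObject D] [HasShift D ℤ]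
    [∀ n : ℤ, (shiftFunctor D n).Additive] [Pretriangulated D]
    (X' : ChainComplex D ℕ) (n : ℕ)
    (qY : ℕ → D) (qa : ∀ k, qY k ⟶ X'.X k) (qb : ∀ k, X'.X (k + 1) ⟶ qY k)
    (qc : ∀ k, qY k ⟶ (shiftFunctor D (1 : ℤ)).obj (qY (k + 1)))
    (qh0 : IsIso (qa 0))
    (qhP : ∀ k, k < n → Triangle.mk (qa (k + 1)) (qb k) (qc k) ∈ distinguishedTriangles)
    (m : ℕ) : m ≤ n → ∀ (W : D),
      (∀ p s : ℕ, p + s = m → ∀ ψ : (shiftFunctor D (s : ℤ)).obj W ⟶ X'.X p, ψ = 0) →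
      ∀ ψ : W ⟶ qY m, ψ = 0 := by
  induction m with
  | zero =>
    intro _ W hW ψ
    have h : ∀ g : W ⟶ X'.X 0, g = 0 :=
      homs_zero_of_shift_zero (homs_zero_of_shift_eq (by simp) (hW 0 0 rfl))
    rw [← cancel_mono (qa 0), h (ψ ≫ qa 0), zero_comp]
  | succ m ih =>
    intro hm W hW ψ
    have h : ∀ g : W ⟶ X'.X (m + 1), g = 0 :=
      homs_zero_of_shift_zero (homs_zero_of_shift_eq (by simp) (hW (m + 1) 0 rfl))
    refine eq_zero_of_comp_mor₁ _ (qhP m (by lia)) ψ (h _) ?_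
    exact ih (by lia) ((shiftFunctor D (1 : ℤ)).obj W)
      (fun p s hps => homs_zero_shift_shift (p := 1) (q := (s : ℤ)) (m' := ((s + 1 : ℕ) : ℤ))
        (by push_cast; lia) (hW p (s + 1) (by lia)))

open CategoryTheory.Pretriangulated Groth.Agent.Lib.Helper32 in
theorem aux {D : Type u} [Category.{v} D] [Preadditive D] [HasZeroObject D] [HasShift D ℤ]
    [∀ n : ℤ, (shiftFunctor D n).Additive] [Pretriangulated D] [IsTriangulated D]
    (X X' : ChainComplex D ℕ) (φ : X ⟶ X') (n : ℕ)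
    (Y : ℕ → D) (a : ∀ k, Y k ⟶ X.X k) (b : ∀ k, X.X (k + 1) ⟶ Y k)
    (c : ∀ k, Y k ⟶ (shiftFunctor D (1 : ℤ)).obj (Y (k + 1)))
    (h0 : IsIso (a 0))
    (hP : ∀ k, k < n → Triangle.mk (a (k + 1)) (b k) (c k) ∈ distinguishedTriangles ∧ b k ≫ a k = X.d (k + 1) k)
    (qY : ℕ → D) (qa : ∀ k, qY k ⟶ X'.X k) (qb : ∀ k, X'.X (k + 1) ⟶ qY k)
    (qc : ∀ k, qY k ⟶ (shiftFunctor D (1 : ℤ)).obj (qY (k + 1)))
    (qh0 : IsIso (qa 0))
    (qhP : ∀ k, k < n → Triangle.mk (qa (k + 1)) (qb k) (qc k) ∈ distinguishedTriangles ∧ qb k ≫ qa k = X'.d (k + 1) k)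
    (hv : ∀ i j : ℕ, 0 < i → i ≤ j → j ≤ n →
      (∀ ψ : (shiftFunctor D (1 - (i : ℤ))).obj (X.X (j - i)) ⟶ X'.X j, ψ = 0) ∧
      (∀ ψ : X.X j ⟶ (shiftFunctor D (-(i : ℤ))).obj (X'.X (j - i)), ψ = 0))
    (w : ∀ k, Y k ⟶ qY k)
    (hw1 : ∀ k, k ≤ n → w k ≫ qa k = 0)
    (hw2 : ∀ k, k < n → c k ≫ (shiftFunctor D (1 : ℤ)).map (w (k + 1)) = w k ≫ qc k)
    (k : ℕ) : k ≤ n → w k = 0 := by
  induction k with
  | zero =>
    intro _
    rw [← cancel_mono (qa 0), zero_comp]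
    exact hw1 0 (by lia)
  | succ k ih =>
    intro hk
    have hwk : w k = 0 := ih (by lia)
    have h1 : c k ≫ (shiftFunctor D (1 : ℤ)).map (w (k + 1)) = 0 := by
      rw [hw2 k (by lia), hwk, zero_comp]
    obtain ⟨θ, hθ⟩ := exists_factor_of_mor₃_comp_shift _ (hP k (by lia)).1 (w (k + 1)) h1
    change X.X (k + 1) ⟶ qY (k + 1) at θ
    change w (k + 1) = a (k + 1) ≫ θ at hθ
    have h2 : a (k + 1) ≫ (θ ≫ qa (k + 1)) = 0 := by
      rw [← Category.assoc, ← hθ]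
      exact hw1 (k + 1) hk
    obtain ⟨μ, hμ⟩ := Triangle.yoneda_exact₂ _ (hP k (by lia)).1 (θ ≫ qa (k + 1)) h2
    change Y k ⟶ X'.X (k + 1) at μ
    change θ ≫ qa (k + 1) = b k ≫ μ at hμ
    have hμ0 : μ = 0 := by
      refine vanI X n Y a b c h0 (fun k hk => (hP k hk).1) k (by lia) (X'.X (k + 1)) ?_ μ
      intro p s hps
      obtain rfl : p = k + 1 - (s + 1) := by lia
      refine homs_zero_of_shift_zero (homs_zero_shift (p := (s : ℤ)) (m' := 0) ?_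
        (hv (s + 1) (k + 1) (by lia) (by lia) hk).1)
      push_cast
      lia
    have hθ0 : θ = 0 := by
      refine eq_zero_of_comp_mor₁ _ (qhP k (by lia)).1 θ (by change θ ≫ qa (k + 1) = 0; rw [hμ, hμ0, comp_zero]) ?_
      refine vanII X' n qY qa qb qc qh0 (fun k hk => (qhP k hk).1) k (by lia) _ ?_
      intro p s hps
      obtain rfl : p = k + 1 - (s + 1) := by lia
      refine homs_zero_shift_shift (p := 1) (q := (s : ℤ)) (m' := ((s + 1 : ℕ) : ℤ)) (by push_cast; lia) ?_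
      refine homs_zero_of_shift_zero' (homs_zero_shift' (p := ((s + 1 : ℕ) : ℤ)) (m' := 0) ?_
        (hv (s + 1) (k + 1) (by lia) (by lia) hk).2)
      lia
    rw [hθ, hθ0, comp_zero]

open CategoryTheory.Pretriangulated in
theorem aux2 {D : Type u} [Category.{v} D] [Preadditive D] [HasZeroObject D] [HasShift D ℤ]
    [∀ n : ℤ, (shiftFunctor D n).Additive] [Pretriangulated D] [IsTriangulated D]
    (X X' : ChainComplex D ℕ) (φ : X ⟶ X') (n : ℕ)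
    (Y : ℕ → D) (a : ∀ k, Y k ⟶ X.X k) (b : ∀ k, X.X (k + 1) ⟶ Y k)
    (c : ∀ k, Y k ⟶ (shiftFunctor D (1 : ℤ)).obj (Y (k + 1)))
    (h0 : IsIso (a 0))
    (hP : ∀ k, k < n → Triangle.mk (a (k + 1)) (b k) (c k) ∈ distinguishedTriangles ∧ b k ≫ a k = X.d (k + 1) k)
    (qY : ℕ → D) (qa : ∀ k, qY k ⟶ X'.X k) (qb : ∀ k, X'.X (k + 1) ⟶ qY k)
    (qc : ∀ k, qY k ⟶ (shiftFunctor D (1 : ℤ)).obj (qY (k + 1)))
    (qh0 : IsIso (qa 0))
    (qhP : ∀ k, k < n → Triangle.mk (qa (k + 1)) (qb k) (qc k) ∈ distinguishedTriangles ∧ qb k ≫ qa k = X'.d (k + 1) k)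
    (hv : ∀ i j : ℕ, 0 < i → i ≤ j → j ≤ n →
      (∀ ψ : (shiftFunctor D (1 - (i : ℤ))).obj (X.X (j - i)) ⟶ X'.X j, ψ = 0) ∧
      (∀ ψ : X.X j ⟶ (shiftFunctor D (-(i : ℤ))).obj (X'.X (j - i)), ψ = 0))
    (y z : ∀ k, Y k ⟶ qY k)
    (hy : (∀ k, k ≤ n → y k ≫ qa k = a k ≫ φ.f k) ∧
      (∀ k, k < n → b k ≫ y k = φ.f (k + 1) ≫ qb k ∧ c k ≫ (shiftFunctor D (1 : ℤ)).map (y (k + 1)) = y k ≫ qc k))
    (hz : (∀ k, k ≤ n → z k ≫ qa k = a k ≫ φ.f k) ∧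
      (∀ k, k < n → b k ≫ z k = φ.f (k + 1) ≫ qb k ∧ c k ≫ (shiftFunctor D (1 : ℤ)).map (z (k + 1)) = z k ≫ qc k))
    (k : ℕ) (hk : k ≤ n) :
    y k = z k := by
  have key := aux X X' φ n Y a b c h0 hP qY qa qb qc qh0 qhP hv (fun k => y k - z k)
    (fun k hk => by rw [Preadditive.sub_comp, hy.1 k hk, hz.1 k hk, sub_self])
    (fun k hk => by
      rw [Functor.map_sub, Preadditive.comp_sub, Preadditive.sub_comp, (hy.2 k hk).2, (hz.2 k hk).2])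
    k hk
  exact sub_eq_zero.1 key

open CategoryTheory.Pretriangulated in
/-- Let D be a triangulated category, φ : X ⟶ X' a morphism of chain complexes in D considered in
degrees ≤ n, where a Postnikov system for the complex X_n → … → X_0 consists of objects Y_k, an
isomorphism Y_0 ⟶ X_0, and for 0 ≤ k < n distinguished triangles Y_{k+1} ⟶ X_{k+1} ⟶ Y_k ⟶
Y_{k+1}⟦1⟧ with X_{k+1} ⟶ Y_k ⟶ X_k the differential; let (Y, a, b, c) and (Y', a', b', c') be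
Postnikov systems for X and X'. If Hom(X_{j-i}⟦1-i⟧, X'_j) = 0 and Hom(X_j, X'_{j-i}⟦-i⟧) = 0 for
all 0 < i ≤ j ≤ n, then there is at most one morphism of Postnikov systems extending φ: two such
morphisms agree on Y_k for every k ≤ n. -/
theorem result {D : Type u} [Category.{v} D] [Preadditive D] [HasZeroObject D] [HasShift D ℤ]
    [∀ n : ℤ, (shiftFunctor D n).Additive] [Pretriangulated D] [IsTriangulated D]
    (X X' : ChainComplex D ℕ) (φ : X ⟶ X') (n : ℕ)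
    (Y : ℕ → D) (a : ∀ k, Y k ⟶ X.X k) (b : ∀ k, X.X (k + 1) ⟶ Y k)
    (c : ∀ k, Y k ⟶ (shiftFunctor D (1 : ℤ)).obj (Y (k + 1)))
    (h0 : IsIso (a 0))
    (hP : ∀ k, k < n → Triangle.mk (a (k + 1)) (b k) (c k) ∈ distinguishedTriangles ∧ b k ≫ a k = X.d (k + 1) k)
    (qY : ℕ → D) (qa : ∀ k, qY k ⟶ X'.X k) (qb : ∀ k, X'.X (k + 1) ⟶ qY k)
    (qc : ∀ k, qY k ⟶ (shiftFunctor D (1 : ℤ)).obj (qY (k + 1)))
    (qh0 : IsIso (qa 0))
    (qhP : ∀ k, k < n → Triangle.mk (qa (k + 1)) (qb k) (qc k) ∈ distinguishedTriangles ∧ qb k ≫ qa k = X'.d (k + 1) k)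
    (hv : ∀ i j : ℕ, 0 < i → i ≤ j → j ≤ n →
      (∀ ψ : (shiftFunctor D (1 - (i : ℤ))).obj (X.X (j - i)) ⟶ X'.X j, ψ = 0) ∧
      (∀ ψ : X.X j ⟶ (shiftFunctor D (-(i : ℤ))).obj (X'.X (j - i)), ψ = 0))
    (y z : ∀ k, Y k ⟶ qY k)
    (hy : (∀ k, k ≤ n → y k ≫ qa k = a k ≫ φ.f k) ∧
      (∀ k, k < n → b k ≫ y k = φ.f (k + 1) ≫ qb k ∧ c k ≫ (shiftFunctor D (1 : ℤ)).map (y (k + 1)) = y k ≫ qc k))
    (hz : (∀ k, k ≤ n → z k ≫ qa k = a k ≫ φ.f k) ∧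
      (∀ k, k < n → b k ≫ z k = φ.f (k + 1) ≫ qb k ∧ c k ≫ (shiftFunctor D (1 : ℤ)).map (z (k + 1)) = z k ≫ qc k))
    (k : ℕ) (hk : k ≤ n) :
    y k = z k := by
  exact aux2 X X' φ n Y a b c h0 hP qY qa qb qc qh0 qhP hv y z hy hz k hk

end Groth.Agent.S6623
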