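import Groth.Statements.S6625
-- import your own Groth.Agent.* helpers here
import Groth.Agent.Lib.Helper32.RDPlus
import Groth.Agent.Lib.Helper32.RightRes
import Mathlib.CategoryTheory.Abelian.Injective.Extend
import Mathlib.CategoryTheory.Abelian.Injective.Ext
import Mathlib.CategoryTheory.Abelian.Injective.Resolution

set_option autoImplicit false
universe w w' v v' u u'
open CategoryTheory CategoryTheory.Limits
open CohDer

namespace Groth.Agent.S6625

open Groth.Agent.Lib.Helper32 CochainComplex ZeroObject

theorem aux {A : Type u} [Category.{v} A] [Abelian A] [HasDerivedCategory.{w} A] [EnoughInjectives A]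
    {B : Type u'} [Category.{v'} B] [Abelian B] [HasDerivedCategory.{w'} B]
    (F : A ⥤ B) [F.Additive] (I : ObjectProperty A)
    (h1 : ∀ X : A, ∃ (Y : A) (ι : X ⟶ Y), I Y ∧ Mono ι)
    (h2 : ∀ S : ShortComplex A, S.ShortExact → I S.X₁ → I S.X₂ → I S.X₃ ∧ (S.map F).ShortExact)
    (X : A) (hX : I X) :
    IsIso (F.rightDerivedFunctorPlusUnit.app ((HomotopyCategory.Plus.singleFunctor A 0).obj X)) := by
  -- zero objects are in `I`
  have hZ : ∀ Z : A, IsZero Z → I Z := by
    intro Z hZ
    obtain ⟨Y, -, hY, -⟩ := h1 X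
    let S : ShortComplex A := ShortComplex.mk (𝟙 Y) (0 : Y ⟶ Z) (by simp)
    have hS : S.ShortExact :=
      { exact := (S.exact_iff_epi (by rfl)).2 (inferInstance : Epi (𝟙 Y))
        mono_f := (inferInstance : Mono (𝟙 Y))
        epi_g := ⟨fun _ _ _ => hZ.eq_of_src _ _⟩ }
    exact (h2 S hS hY hY).1
  -- `I` is closed under isomorphisms
  have hiso : ∀ {X X' : A} (e : X ≅ X'), I X → I X' := by
    intro X X' e hX
    let S : ShortComplex A := ShortComplex.mk (0 : (0 : A) ⟶ X) e.hom (by simp)
    have hS : S.ShortExact :=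
      { exact := (S.exact_iff_mono (by rfl)).2 (inferInstance : Mono e.hom)
        mono_f := ⟨fun _ _ _ => (isZero_zero A).eq_of_tgt _ _⟩
        epi_g := (inferInstance : Epi e.hom) }
    exact (h2 S hS (hZ _ (isZero_zero A)) hX).1
  let R : InjectiveResolution X := injectiveResolution X
  let L := R.cochainComplex
  let KX : CochainComplex.Plus A := ⟨(CochainComplex.singleFunctor A 0).obj X, ⟨0, inferInstance⟩⟩
  let LP : CochainComplex.Plus A := ⟨L, ⟨0, inferInstance⟩⟩
  let iP : KX ⟶ LP := ObjectProperty.homMk R.ι'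
  haveI : ∀ n, Injective (LP.obj.X n) := fun n => (inferInstance : Injective (R.cochainComplex.X n))
  haveI : QuasiIso iP.hom := (inferInstance : QuasiIso R.ι')
  change IsIso (F.rightDerivedFunctorPlusUnit.app ((HomotopyCategory.Plus.quotient A).obj KX))
  rw [RDPlus.isIso_unit_app_iff F KX LP iP]
  change QuasiIso ((F.mapHomologicalComplex _).map R.ι')
  obtain ⟨J, j, hJ, hIJ, -, hj⟩ := RightRes.exists_of_isStrictlyGE (I := I) h1
    ⟨0, isZero_zero A, hZ _ (isZero_zero A)⟩ L 0
  apply Retract.quasiIso_map_of_comp F R.ι' j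
  rw [ConeAcyclic.quasiIso_map_iff_acyclic_map_mappingCone]
  haveI : (mappingCone (R.ι' ≫ j)).IsStrictlyGE (-1) := isStrictlyGE_mappingCone _ 0 0 (-1)
  refine Adapted.acyclic_map F I h2 _ (-1) ?_ ?_ hZ
  · rw [← ConeAcyclic.quasiIso_iff_acyclic_mappingCone]
    infer_instance
  · intro k
    have hid := mappingCone.id_X (R.ι' ≫ j) k (k + 1) rfl
    by_cases hk : k = -1
    · subst hk
      have hz : IsZero (J.X (-1)) := J.isZero_of_isStrictlyGE 0 (-1) (by lia)
      have h0 : (mappingCone.snd (R.ι' ≫ j)).v (-1) (-1) (add_zero _) = 0 := hz.eq_of_tgt _ _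
      rw [h0, zero_comp, add_zero] at hid
      let e : (mappingCone (R.ι' ≫ j)).X (-1) ≅ ((CochainComplex.singleFunctor A 0).obj X).X (-1 + 1) :=
        { hom := (mappingCone.fst (R.ι' ≫ j)).1.v (-1) (-1 + 1) rfl
          inv := (mappingCone.inl (R.ι' ≫ j)).v (-1 + 1) (-1) (by lia)
          hom_inv_id := hid
          inv_hom_id := mappingCone.inl_v_fst_v _ _ _ _ }
      have e' : ((CochainComplex.singleFunctor A 0).obj X).X (-1 + 1) ≅ X :=
        HomologicalComplex.singleObjXSelf (ComplexShape.up ℤ) 0 X
      exact hiso (e ≪≫ e').symm hX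
    · have hz : IsZero (((CochainComplex.singleFunctor A 0).obj X).X (k + 1)) :=
        HomologicalComplex.isZero_single_obj_X (ComplexShape.up ℤ) 0 X (k + 1) (by lia)
      have h0 : (mappingCone.fst (R.ι' ≫ j)).1.v k (k + 1) rfl = 0 := hz.eq_of_tgt _ _
      rw [h0, zero_comp, zero_add] at hid
      let e : (mappingCone (R.ι' ≫ j)).X k ≅ J.X k :=
        { hom := (mappingCone.snd (R.ι' ≫ j)).v k k (add_zero _)
          inv := (mappingCone.inr (R.ι' ≫ j)).f k
          hom_inv_id := hid
          inv_hom_id := mappingCone.inr_f_snd_v _ _ }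
      exact hiso e.symm (hIJ k)

/-- In the case where A has enough injectives: let F : A ⥤ B be an additive functor between abelian
categories, A with enough injectives, and I a class of objects of A such that (1) each object of A
embeds by a monomorphism into some object of I, and (2) whenever 0 → P → Q → R → 0 is a short exact
sequence whose terms P and Q lie in I, the third term R also lies in I, and applying F to the
sequence yields a short exact sequence in B. Under these assumptions, each X belonging to I is right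
acyclic for F, meaning the map F(X)[0] ⟶ RF(X[0]) is an isomorphism. -/
theorem result {A : Type u} [Category.{v} A] [Abelian A] [HasDerivedCategory.{w} A] [EnoughInjectives A]
    {B : Type u'} [Category.{v'} B] [Abelian B] [HasDerivedCategory.{w'} B]
    (F : A ⥤ B) [F.Additive] (I : ObjectProperty A)
    (h1 : ∀ X : A, ∃ (Y : A) (ι : X ⟶ Y), I Y ∧ Mono ι)
    (h2 : ∀ S : ShortComplex A, S.ShortExact → I S.X₁ → I S.X₂ → I S.X₃ ∧ (S.map F).ShortExact)
    (X : A) (hX : I X) :
    IsIso (F.rightDerivedFunctorPlusUnit.app ((HomotopyCategory.Plus.singleFunctor A 0).obj X)) := by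
  exact aux F I h1 h2 X hX

end Groth.Agent.S6625
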