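import Groth.Statements.S6629
import Mathlib
import Groth.Agent.Lib.Helper43.DisjGlue
import Groth.Agent.S0100

set_option autoImplicit false
open CategoryTheory CategoryTheory.Limits AlgebraicGeometry Opposite
universe u
open EtDesc

namespace Groth.Agent.S6629

open Groth.Agent.Lib.Helper43 Groth.Agent.Lib.Helper43.ClopenExt

section Helpers

variable {X Y : Scheme.{u}} (f : X ⟶ Y) {VL : Scheme.{u}} (v : VL ⟶ Y) [Etale v]

/-- `X ×_Y V` (in the order of condition (B)) as an étale `X`-scheme -/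
noncomputable abbrev pb : X.Etale := Scheme.Etale.mk (pullback.fst f v)

/-- the symmetry morphism to the base change -/
noncomputable def symmHom : pb f v ⟶ (EtCoh.bc f).obj (Scheme.Etale.mk v) :=
  MorphismProperty.Over.homMk (pullbackSymmetry f v).hom (pullbackSymmetry_hom_comp_snd f v)

/-- the symmetry morphism from the base change -/
noncomputable def symmInv : (EtCoh.bc f).obj (Scheme.Etale.mk v) ⟶ pb f v :=
  MorphismProperty.Over.homMk (pullbackSymmetry f v).inv (pullbackSymmetry_inv_comp_fst f v)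

lemma symmInv_hom : symmInv f v ≫ symmHom f v = 𝟙 _ := by
  apply MorphismProperty.Over.Hom.ext
  exact (pullbackSymmetry f v).inv_hom_id

end Helpers

/-- lifting a section over one member of the answering covering -/
lemma lift_piece {X Y : Scheme.{u}} (f : X ⟶ Y) {F F' : EtDesc.Sh X} (φ : F ⟶ F')
    {VL WL : Scheme.{u}} (v : VL ⟶ Y) [Etale v] (w : WL ⟶ VL) [Etale w]
    (s' : F'.obj.obj (op ((EtCoh.bc f).obj (Scheme.Etale.mk v))))
    {μ : Type u} (W : μ → (pullback f (w ≫ v)).Opens)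
    (hdisj : ∀ a b, a ≠ b → Disjoint (W a) (W b)) (hcov : (⨆ a, W a) = ⊤)
    (g : Scheme.Etale.mk (w ≫ v) ⟶ Scheme.Etale.mk v)
    (hfac : ∀ a, ∃ (U : X.Etale) (k : U ⟶ (EtCoh.bc f).obj (Scheme.Etale.mk v))
        (t : F.obj.obj (op U)) (h : sub (pullback.fst f (w ≫ v)) (W a) ⟶ U),
        φ.hom.app (op U) t = F'.obj.map k.op s' ∧
        h ≫ k = subι (pullback.fst f (w ≫ v)) (W a) ≫ symmHom f (w ≫ v) ≫ (EtCoh.bc f).map g) :
    ∃ t' : F.obj.obj (op ((EtCoh.bc f).obj (Scheme.Etale.mk (w ≫ v)))),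
      φ.hom.app (op ((EtCoh.bc f).obj (Scheme.Etale.mk (w ≫ v)))) t' =
        F'.obj.map ((EtCoh.bc f).map g).op s' := by
  choose U k t h ht hh using hfac
  let th : pullback f (w ≫ v) ⟶ X := pullback.fst f (w ≫ v)
  let ta : ∀ a, F.obj.obj (op (sub th (W a))) := fun a => F.obj.map (h a).op (t a)
  obtain ⟨s, hs⟩ := DisjGlue.glue_disjoint th F W hdisj hcov ta
  refine ⟨F.obj.map (symmInv f (w ≫ v)).op s, ?_⟩
  have key : φ.hom.app (op (pb f (w ≫ v))) s =
      F'.obj.map (symmHom f (w ≫ v) ≫ (EtCoh.bc f).map g).op s' := by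
    refine DisjGlue.ext_of_cover th F' W hcov _ _ (fun a => ?_)
    calc F'.obj.map (subι th (W a)).op (φ.hom.app (op (pb f (w ≫ v))) s)
        = φ.hom.app _ (F.obj.map (subι th (W a)).op s) :=
          (NatTrans.naturality_apply φ.hom (subι th (W a)).op s).symm
      _ = φ.hom.app _ (F.obj.map (h a).op (t a)) := by rw [hs a]
      _ = F'.obj.map (h a).op (φ.hom.app _ (t a)) :=
          NatTrans.naturality_apply φ.hom (h a).op (t a)
      _ = F'.obj.map (h a).op (F'.obj.map (k a).op s') := by rw [ht a]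
      _ = F'.obj.map ((h a) ≫ (k a)).op s' := by
          rw [op_comp, Functor.map_comp_apply]
      _ = F'.obj.map (subι th (W a) ≫ symmHom f (w ≫ v) ≫ (EtCoh.bc f).map g).op s' := by
          rw [hh a]
      _ = _ := by
          rw [op_comp, Functor.map_comp_apply]
  calc φ.hom.app _ (F.obj.map (symmInv f (w ≫ v)).op s)
      = F'.obj.map (symmInv f (w ≫ v)).op (φ.hom.app _ s) :=
        NatTrans.naturality_apply φ.hom (symmInv f (w ≫ v)).op s
    _ = F'.obj.map (symmInv f (w ≫ v)).op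
          (F'.obj.map (symmHom f (w ≫ v) ≫ (EtCoh.bc f).map g).op s') := by rw [key]
    _ = F'.obj.map (symmInv f (w ≫ v) ≫ symmHom f (w ≫ v) ≫ (EtCoh.bc f).map g).op s' := by
        rw [op_comp (f := symmInv f (w ≫ v)), Functor.map_comp_apply]
    _ = _ := by
        rw [← Category.assoc, symmInv_hom, Category.id_comp]

lemma pmap_symm {X Y : Scheme.{u}} (f : X ⟶ Y) {VL WL : Scheme.{u}} (v : VL ⟶ Y) [Etale v]
    (w : WL ⟶ VL) [Etale w] (g : Scheme.Etale.mk (w ≫ v) ⟶ Scheme.Etale.mk v) (hg : g.left = w)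
    (e1 : f ≫ 𝟙 Y = 𝟙 X ≫ f) (e2 : (w ≫ v) ≫ 𝟙 Y = w ≫ v) :
    pullback.map f (w ≫ v) f v (𝟙 X) w (𝟙 Y) e1 e2 ≫ (pullbackSymmetry f v).hom =
      (pullbackSymmetry f (w ≫ v)).hom ≫ ((EtCoh.bc f).map g).left := by
  let bl : pullback (w ≫ v) f ⟶ pullback v f := ((EtCoh.bc f).map g).left
  have b1 : bl ≫ pullback.fst v f = pullback.fst (w ≫ v) f ≫ w := by
    have := S0100.bc_map_left_fst f g
    rw [hg] at this
    exact this
  have b2 : bl ≫ pullback.snd v f = pullback.snd (w ≫ v) f :=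
    S0100.bc_map_left_snd f g
  change _ = (pullbackSymmetry f (w ≫ v)).hom ≫ bl
  apply pullback.hom_ext
  · rw [Category.assoc, pullbackSymmetry_hom_comp_fst, pullback.lift_snd,
      Category.assoc, b1, ← Category.assoc, pullbackSymmetry_hom_comp_fst]
  · rw [Category.assoc, pullbackSymmetry_hom_comp_snd, pullback.lift_fst,
      Category.assoc, b2, pullbackSymmetry_hom_comp_snd, Category.comp_id]


/-- Let f : X ⟶ Y be a morphism of schemes satisfying condition (B) (for every etale V ⟶ Y and every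
etale covering of X ×_Y V there is an etale covering of V by schemes V_j such that each X ×_Y V_j is
a disjoint union of open subschemes each mapping into X ×_Y V through a member of the given
covering). Then the direct image of sheaves of sets on the small etale sites along f sends
epimorphisms to epimorphisms. -/
theorem result {X Y : Scheme.{u}} (f : X ⟶ Y) (hB : BigSite.PropB f) :
    (EtDesc.pushSh f).PreservesEpimorphisms := by
  constructor
  intro F F' φ he
  have hls : Sheaf.IsLocallySurjective φ := (Sheaf.isLocallySurjective_iff_epi _).2 he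
  suffices Sheaf.IsLocallySurjective ((EtDesc.pushSh f).map φ) from inferInstance
  constructor
  intro V s'
  obtain ⟨VL, v, hv, rfl⟩ : ∃ (VL : Scheme.{u}) (v : VL ⟶ Y) (hv : Etale v),
      V = @Scheme.Etale.mk _ _ v hv := ⟨V.left, V.hom, inferInstance, rfl⟩
  let s'' : F'.obj.obj (op ((EtCoh.bc f).obj (Scheme.Etale.mk v))) := s'
  have h0 : Presheaf.imageSieve φ.hom s'' ∈
      X.smallEtaleTopology ((EtCoh.bc f).obj (Scheme.Etale.mk v)) :=
    Presheaf.imageSieve_mem _ _ _
  rw [EtOpenSub.mem_smallEtaleTopology_iff'] at h0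
  choose U a y hay using h0
  choose t ht using (fun x => (hay x).1)
  have hy := fun x => (hay x).2
  let σ : pullback f v ≅ pullback v f := pullbackSymmetry f v
  -- the family for condition (B)
  let UL : ↥(pullback f v) → Scheme.{u} := fun x => (U (σ.hom.base x)).left
  let gg : ∀ x : ↥(pullback f v), UL x ⟶ pullback f v :=
    fun x => (a (σ.hom.base x) ≫ symmInv f v).left
  have hgg_et : ∀ x, Etale (gg x) := fun x =>
    inferInstanceAs (Etale (a (σ.hom.base x) ≫ symmInv f v).left)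
  have hgg_cov : ∀ x : ↥(pullback f v), ∃ i, x ∈ Set.range (gg i).base := by
    intro x
    refine ⟨x, y (σ.hom.base x), ?_⟩
    let al : UL x ⟶ pullback v f := (a (σ.hom.base x)).left
    change (al ≫ σ.inv).base (y (σ.hom.base x)) = x
    have h1 : al.base (y (σ.hom.base x)) = σ.hom.base x := hy (σ.hom.base x)
    change σ.inv.base (al.base (y (σ.hom.base x))) = x
    rw [h1]
    change (σ.hom ≫ σ.inv).base x = x
    rw [σ.hom_inv_id]
    rfl
  obtain ⟨κ, V', v', hv'et, hv'cov, hW⟩ := hB VL v _ UL gg hgg_et hgg_cov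
  rw [EtOpenSub.mem_smallEtaleTopology_iff']
  intro z
  obtain ⟨j, p, hp⟩ := hv'cov z
  have := hv'et j
  let gj : Scheme.Etale.mk (v' j ≫ v) ⟶ Scheme.Etale.mk v :=
    MorphismProperty.Over.homMk (v' j) rfl
  refine ⟨Scheme.Etale.mk (v' j ≫ v), gj, p, ?_, hp⟩
  obtain ⟨μ, W, hdisj, hcov, hfac⟩ := hW j
  refine lift_piece f φ v (v' j) s'' W hdisj hcov gj (fun b => ?_)
  obtain ⟨i, h, hh⟩ := hfac b
  let i' := σ.hom.base i
  let al : UL i ⟶ pullback v f := (a i').left
  have hal : al ≫ pullback.snd v f = (U i').hom := EtOpenSub.hom_left_eq (a i')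
  have hgg : gg i = al ≫ σ.inv := rfl
  let σ' : pullback f (v' j ≫ v) ≅ pullback (v' j ≫ v) f := pullbackSymmetry f (v' j ≫ v)
  let bl : pullback (v' j ≫ v) f ⟶ pullback v f := ((EtCoh.bc f).map gj).left
  have hpm := pmap_symm f v (v' j) gj rfl (by simp) (by simp)
  -- `h ≫ al = W.ι ≫ σ'.hom ≫ bl`
  have e1 : h ≫ al = (W b).ι ≫ σ'.hom ≫ bl := by
    have e2 : (h ≫ al) ≫ σ.inv = ((W b).ι ≫ σ'.hom ≫ bl) ≫ σ.inv := by
      rw [Category.assoc, ← hgg, hh]
      have : σ'.hom ≫ bl = _ := hpm.symm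
      rw [this]
      have hσ : (pullbackSymmetry f v).hom ≫ σ.inv = 𝟙 _ := σ.hom_inv_id
      simp only [Category.assoc]
      rw [hσ, Category.comp_id]
    exact (cancel_mono σ.inv).1 e2
  have b2 : bl ≫ pullback.snd v f = pullback.snd (v' j ≫ v) f :=
    S0100.bc_map_left_snd f gj
  have hc : h ≫ (U i').hom = (W b).ι ≫ pullback.fst f (v' j ≫ v) := by
    rw [← hal, ← Category.assoc, e1]
    simp only [Category.assoc]
    rw [b2]
    congr 1
    exact pullbackSymmetry_hom_comp_snd _ _
  let h' : sub (pullback.fst f (v' j ≫ v)) (W b) ⟶ U i' := MorphismProperty.Over.homMk h hc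
  refine ⟨U i', a i', t i', h', ht i', ?_⟩
  apply MorphismProperty.Over.Hom.ext
  exact e1

end Groth.Agent.S6629
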