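import Groth.Statements.S6632
import Mathlib
import Groth.Agent.Lib.Helper43.EtOpenSub
import Groth.Agent.S0100

set_option autoImplicit false
open CategoryTheory CategoryTheory.Limits AlgebraicGeometry Opposite
universe u
open EtCore

namespace Groth.Agent.S6632

open Groth.Agent.Lib.Helper43

/-- an étale scheme with empty total space is covered by the empty sieve -/
lemma bot_mem_of_isEmpty {X : Scheme.{u}} (U : X.Etale) (h : IsEmpty U.left) :
    (⊥ : Sieve U) ∈ X.smallEtaleTopology U := by
  rw [EtOpenSub.mem_smallEtaleTopology_iff']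
  intro x
  exact (h.false x).elim

/-- the key step: a point of `V` in the image of `X ×_Y V` is in the image of some `V'` whose base
change maps into the given covering sieve -/
lemma exists_good {X Y : Scheme.{u}} (f : X ⟶ Y) (V : Y.Etale)
    (hC : BigSite.PropC (pullback.snd f V.hom))
    (R : Sieve ((EtCoh.bc f).obj V)) (hR : R ∈ X.smallEtaleTopology ((EtCoh.bc f).obj V))
    (x : ((EtCoh.bc f).obj V).left) :
    ∃ (V' : Y.Etale) (g : V' ⟶ V) (p : V'.left), R ((EtCoh.bc f).map g) ∧
      g.left p = (pullback.fst V.hom f) x := by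
  rw [EtOpenSub.mem_smallEtaleTopology_iff'] at hR
  obtain ⟨U, a, u, hRa, hau⟩ := hR x
  let VL : Scheme.{u} := V.left
  let v : VL ⟶ Y := V.hom
  let UL : Scheme.{u} := U.left
  let uh : UL ⟶ X := U.hom
  let al : UL ⟶ pullback v f := a.left
  have hal : al ≫ pullback.snd v f = uh := EtOpenSub.hom_left_eq a
  have hal_et : Etale al := inferInstanceAs (Etale a.left)
  let σ : pullback v f ≅ pullback f v := pullbackSymmetry v f
  have hσ1 : σ.hom ≫ pullback.fst f v = pullback.snd v f := pullbackSymmetry_hom_comp_fst v f
  have hσ2 : σ.hom ≫ pullback.snd f v = pullback.fst v f := pullbackSymmetry_hom_comp_snd v f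
  let g' : UL ⟶ pullback f v := al ≫ σ.hom
  have hg'_et : Etale g' := inferInstanceAs (Etale (al ≫ σ.hom))
  obtain ⟨W, w, hw, h, hh, hs⟩ := hC UL g'
  let V' : Y.Etale := Scheme.Etale.mk (w ≫ v)
  let g : V' ⟶ V := MorphismProperty.Over.homMk w rfl
  -- the comparison `X ×_Y V' ⟶ (X ×_Y V) ×_V V'`
  let τ : pullback (w ≫ v) f ⟶ pullback (pullback.snd f v) w :=
    pullback.lift (pullback.lift (pullback.snd (w ≫ v) f) (pullback.fst (w ≫ v) f ≫ w)
      (by rw [Category.assoc]; exact pullback.condition.symm)) (pullback.fst (w ≫ v) f)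
      (by rw [pullback.lift_snd])
  have hτ1 : τ ≫ pullback.fst (pullback.snd f v) w =
      pullback.lift (pullback.snd (w ≫ v) f) (pullback.fst (w ≫ v) f ≫ w)
      (by rw [Category.assoc]; exact pullback.condition.symm) := pullback.lift_fst _ _ _
  have hc : (τ ≫ h) ≫ uh = pullback.snd (w ≫ v) f := by
    rw [← hal, ← hσ1]
    have e1 : h ≫ al ≫ σ.hom = pullback.fst (pullback.snd f v) w := hh
    calc (τ ≫ h) ≫ al ≫ σ.hom ≫ pullback.fst f v
        = τ ≫ (h ≫ al ≫ σ.hom) ≫ pullback.fst f v := by simp only [Category.assoc]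
      _ = τ ≫ pullback.fst (pullback.snd f v) w ≫ pullback.fst f v := by rw [e1]
      _ = pullback.snd (w ≫ v) f := by
        rw [← Category.assoc, hτ1, pullback.lift_fst]
  let k : (EtCoh.bc f).obj V' ⟶ U := MorphismProperty.Over.homMk (τ ≫ h) hc
  have hk : (EtCoh.bc f).map g = k ≫ a := by
    apply MorphismProperty.Over.Hom.ext
    let bl : pullback (w ≫ v) f ⟶ pullback v f := ((EtCoh.bc f).map g).left
    change bl = (τ ≫ h) ≫ al
    have b1 : bl ≫ pullback.fst v f = pullback.fst (w ≫ v) f ≫ w :=
      S0100.bc_map_left_fst f g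
    have b2 : bl ≫ pullback.snd v f = pullback.snd (w ≫ v) f :=
      S0100.bc_map_left_snd f g
    have e1 : h ≫ al ≫ σ.hom = pullback.fst (pullback.snd f v) w := hh
    have e2 : ((τ ≫ h) ≫ al) ≫ σ.hom = τ ≫ pullback.fst (pullback.snd f v) w := by
      rw [← e1]; simp only [Category.assoc]
    have key : bl ≫ σ.hom = ((τ ≫ h) ≫ al) ≫ σ.hom := by
      rw [e2, hτ1]
      apply pullback.hom_ext
      · rw [Category.assoc, hσ1, b2, pullback.lift_fst]
      · rw [Category.assoc, hσ2, b1, pullback.lift_snd]
    exact (cancel_mono σ.hom).1 key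
  refine ⟨V', g, ?_⟩
  obtain ⟨p, hp⟩ := hs.surj u
  refine ⟨(pullback.snd (pullback.snd f v) w).base p, ?_, ?_⟩
  · rw [hk]
    exact R.downward_closed hRa k
  · change w.base ((pullback.snd (pullback.snd f v) w).base p) = (pullback.fst v f).base x
    have c1 : (pullback.snd (pullback.snd f v) w ≫ w).base p =
        (pullback.fst (pullback.snd f v) w ≫ pullback.snd f v).base p := by
      rw [pullback.condition]
    have e1 : h ≫ al ≫ σ.hom = pullback.fst (pullback.snd f v) w := hh
    have c2 : (pullback.fst (pullback.snd f v) w ≫ pullback.snd f v).base p =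
        (pullback.fst v f).base (al.base (h.base p)) := by
      rw [← e1]
      simp only [Category.assoc, hσ2]
      rfl
    have c3 : al.base (h.base p) = x := by
      rw [hp]; exact hau
    calc w.base ((pullback.snd (pullback.snd f v) w).base p)
        = (pullback.snd (pullback.snd f v) w ≫ w).base p := rfl
      _ = _ := c1
      _ = _ := c2
      _ = _ := by rw [c3]


/-- Let f : X ⟶ Y be a morphism of schemes such that, for every etale V ⟶ Y, the base change X ×_Y V ⟶ V
satisfies condition (C) (for every etale U ⟶ X ×_Y V there are an etale V' ⟶ V and a surjective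
morphism from the base change of V' to U over X ×_Y V) and is closed as a map of topological spaces.
Then the base change functor V ↦ X ×_Y V from the small etale site of Y to that of X is almost
cocontinuous: every covering sieve of X ×_Y V contains the images of the members of some covering
sieve of V, except for members V' for which X ×_Y V' is covered by the empty sieve. -/
theorem result {X Y : Scheme.{u}} (f : X ⟶ Y)
    (hC : ∀ (V : Scheme.{u}) (v : V ⟶ Y) [Etale v], BigSite.PropC (pullback.snd f v))
    (hcl : ∀ (V : Scheme.{u}) (v : V ⟶ Y) [Etale v], IsClosedMap (pullback.snd f v).base) :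
    BigSite.IsAlmostCocontinuous (EtCoh.bc f) Y.smallEtaleTopology X.smallEtaleTopology := by
  intro V R hR
  let R' : Sieve V :=
    { arrows := fun V' g => (⊥ : Sieve ((EtCoh.bc f).obj V')) ∈
          X.smallEtaleTopology ((EtCoh.bc f).obj V') ∨ R ((EtCoh.bc f).map g)
      downward_closed := by
        intro V₁ V₂ g hg k
        rcases hg with h0 | h1
        · left
          have h2 := X.smallEtaleTopology.pullback_stable ((EtCoh.bc f).map k) h0
          have h3 : Sieve.pullback ((EtCoh.bc f).map k) (⊥ : Sieve ((EtCoh.bc f).obj V₁)) = ⊥ := by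
            ext T a
            simp
          rw [h3] at h2
          exact h2
        · right
          rw [Functor.map_comp]
          exact R.downward_closed h1 _ }
  refine ⟨R', ?_, fun V' g hg => hg⟩
  rw [EtOpenSub.mem_smallEtaleTopology_iff']
  intro y
  let VL : Scheme.{u} := V.left
  let v : VL ⟶ Y := V.hom
  by_cases hy : y ∈ Set.range (pullback.fst v f).base
  · obtain ⟨x, hx⟩ := hy
    obtain ⟨V', g, p, hRg, hp⟩ := exists_good f V (hC V.left V.hom) R hR x
    exact ⟨V', g, p, Or.inr hRg, hp.trans hx⟩
  · have hclosed : IsClosed (Set.range (pullback.fst v f).base) := by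
      have h1 : pullback.fst v f = (pullbackSymmetry v f).hom ≫ pullback.snd f v :=
        (pullbackSymmetry_hom_comp_snd v f).symm
      have h2 : IsClosedMap (pullback.fst v f).base := by
        rw [h1]
        exact (hcl VL v).comp (pullbackSymmetry v f).hom.homeomorph.isClosedMap
      exact h2.isClosed_range
    let V₀ : VL.Opens := ⟨(Set.range (pullback.fst v f).base)ᶜ, hclosed.isOpen_compl⟩
    let V' : Y.Etale := Scheme.Etale.mk (V₀.ι ≫ v)
    let g : V' ⟶ V := MorphismProperty.Over.homMk V₀.ι rfl
    have hemp : IsEmpty ((EtCoh.bc f).obj V').left := by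
      constructor
      intro q
      let bl : pullback (V₀.ι ≫ v) f ⟶ pullback v f := ((EtCoh.bc f).map g).left
      have b1 : bl ≫ pullback.fst v f = pullback.fst (V₀.ι ≫ v) f ≫ V₀.ι :=
        S0100.bc_map_left_fst f g
      have h1 : (pullback.fst v f).base (bl.base q) =
          V₀.ι.base ((pullback.fst (V₀.ι ≫ v) f).base q) :=
        congrArg (fun m => m.base q) b1
      have h2 : V₀.ι.base ((pullback.fst (V₀.ι ≫ v) f).base q) ∈
          (Set.range (pullback.fst v f).base)ᶜ :=
        ((pullback.fst (V₀.ι ≫ v) f).base q).2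
      exact h2 ⟨_, h1⟩
    exact ⟨V', g, (⟨y, hy⟩ : V₀), Or.inl (bot_mem_of_isEmpty _ hemp), rfl⟩

end Groth.Agent.S6632
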