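import Groth.Statements.S8604
import Mathlib
import Groth.Agent.Lib.Helper96.SigmaLinDecomp
import Groth.Agent.Lib.Helper96.SigmaLinWitt

set_option autoImplicit false
universe u
open CAlg

namespace Groth.Agent.S8604.Aux

open Groth.Agent.Lib.Helper96 Groth.Agent.Lib.Helper96.SigmaLin


section
variable (p : ℕ) [Fact p.Prime] (k : Type u) [Field k] [IsAlgClosed k] [CharP k p]
  (V : Type u) [AddCommGroup V] [Module k V]

/-- package `F` as a Frobenius-semilinear map -/
def mkT (F : V →+ V) (hF : ∀ (a : k) (v : V), F (a • v) = a ^ p • F v) :
    V →ₛₗ[frobenius k p] V where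
  toFun := F
  map_add' := F.map_add
  map_smul' a v := by rw [hF]; rfl

variable [FiniteDimensional k V]

theorem part1 (F : V →+ V) (hF : ∀ (a : k) (v : V), F (a • v) = a ^ p • F v) :
    IsCompl (Submodule.span k {v : V | F v = v})
        (Submodule.span k {v : V | ∃ m : ℕ, (⇑F)^[m] v = 0}) := by
  set T := mkT p k V F hF with hT
  have hTF : ∀ v, T v = F v := fun v => rfl
  have hiter : ∀ (m : ℕ) (v : V), (⇑T)^[m] v = (⇑F)^[m] v := by
    intro m v
    have : (⇑T) = (⇑F) := rfl
    rw [this]
  have hσ : Function.Surjective (frobenius k p) := surjective_frobenius k p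
  have e1 : Submodule.span k {v : V | ∃ m : ℕ, (⇑F)^[m] v = 0} = kerInf T := by
    apply le_antisymm
    · rw [Submodule.span_le]
      rintro v ⟨m, hm⟩
      exact (mem_kerInf_iff T v).mpr ⟨m, by rw [hiter]; exact hm⟩
    · intro v hv
      obtain ⟨m, hm⟩ := (mem_kerInf_iff T v).mp hv
      exact Submodule.subset_span ⟨m, by rw [← hiter]; exact hm⟩
  have e2 : Submodule.span k {v : V | F v = v} = Winf T := by
    apply le_antisymm
    · rw [Submodule.span_le]
      intro v (hv : F v = v)
      show v ∈ Winf T
      rw [Winf, Submodule.mem_iInf]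
      intro n
      have : (⇑T)^[n] v = v := by
        rw [hiter]
        exact Function.iterate_fixed hv n
      rw [← this]
      exact Submodule.subset_span ⟨v, rfl⟩
    · obtain ⟨b, hb⟩ := exists_basis_fixed_Winf T (hyp2_frobenius p k) (hyp3_frobenius p k)
      intro v hv
      have h1 : (⟨v, hv⟩ : Winf T) ∈ Submodule.span k (Set.range b) := by
        rw [b.span_eq]; trivial
      have h2 : Submodule.span k (Set.range b) ≤
          (Submodule.span k {v : V | F v = v}).comap (Winf T).subtype := by
        rw [Submodule.span_le]
        rintro _ ⟨i, rfl⟩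
        exact Submodule.subset_span (hb i)
      exact h2 h1
  rw [e1, e2]
  exact (isCompl_kerInf_Winf hσ T).symm

theorem key (F : V →+ V) (hF : ∀ (a : k) (v : V), F (a • v) = a ^ p • F v)
    (s : Finset V) (hs : ∀ v ∈ s, F v = v)
    (hind : ∀ c : V → ℤ, (∑ v ∈ s, c v • v) = 0 → ∀ v ∈ s, (p : ℤ) ∣ c v) :
    ∀ a : V → k, (∑ v ∈ s, a v • v) = 0 → ∀ v ∈ s, a v = 0 := by
  classical
  induction s using Finset.induction_on with
  | empty => intro a _ v hv; simp at hv
  | insert v t hvt ih =>
    have hst : ∀ w ∈ t, F w = w := fun w hw => hs w (Finset.mem_insert_of_mem hw)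
    have hindt : ∀ c : V → ℤ, (∑ w ∈ t, c w • w) = 0 → ∀ w ∈ t, (p : ℤ) ∣ c w := by
      intro c hc w hw
      have hne : w ≠ v := fun h => hvt (h ▸ hw)
      have := hind (fun x => if x = v then 0 else c x) (by
        rw [Finset.sum_insert hvt]
        simp only [if_true, zero_smul, zero_add]
        rw [← hc]
        apply Finset.sum_congr rfl
        intro x hx
        have : x ≠ v := fun h => hvt (h ▸ hx)
        simp [this]) w (Finset.mem_insert_of_mem hw)
      simpa [hne] using this
    have iht := ih hst hindt
    intro a ha
    rw [Finset.sum_insert hvt] at ha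
    by_cases hav : a v = 0
    · rw [hav, zero_smul, zero_add] at ha
      intro w hw
      rcases Finset.mem_insert.mp hw with rfl | hw
      · exact hav
      · exact iht a ha w hw
    · exfalso
      -- v = ∑ b w • w
      set b : V → k := fun w => -(a w / a v) with hb
      have hv : v = ∑ w ∈ t, b w • w := by
        have h1 : a v • v = -∑ w ∈ t, a w • w := eq_neg_of_add_eq_zero_left ha
        have h2 : v = (a v)⁻¹ • (a v • v) := by rw [smul_smul, inv_mul_cancel₀ hav, one_smul]
        rw [h2, h1, smul_neg, Finset.smul_sum, ← Finset.sum_neg_distrib]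
        apply Finset.sum_congr rfl
        intro w _
        rw [smul_smul, hb, ← neg_smul]
        congr 1
        field_simp
      have hFv : v = ∑ w ∈ t, (b w) ^ p • w := by
        have h1 : F v = v := hs v (Finset.mem_insert_self v t)
        conv_lhs => rw [← h1, hv]
        rw [map_sum]
        apply Finset.sum_congr rfl
        intro w hw
        rw [hF, hst w hw]
      have hdiff : ∑ w ∈ t, ((b w) ^ p - b w) • w = 0 := by
        simp_rw [sub_smul]
        rw [Finset.sum_sub_distrib, ← hFv, ← hv, sub_self]
      have hbp : ∀ w ∈ t, (b w) ^ p = b w := fun w hw =>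
        sub_eq_zero.mp (iht (fun w => (b w) ^ p - b w) hdiff w hw)
      have hbn : ∀ w ∈ t, ∃ n : ℤ, (n : k) = b w := fun w hw =>
        (mem_bot_iff_intCast p k).mp ((Subfield.mem_bot_iff_pow_eq_self k p).mpr (hbp w hw))
      choose! n hn using hbn
      have := hind (fun x => if x = v then -1 else n x) (by
        rw [Finset.sum_insert hvt]
        simp only [if_true, neg_smul, one_smul]
        have : ∑ x ∈ t, (if x = v then (-1 : ℤ) else n x) • x = ∑ w ∈ t, b w • w := by
          apply Finset.sum_congr rfl
          intro x hx
          have hxv : x ≠ v := fun h => hvt (h ▸ hx)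
          rw [if_neg hxv, ← hn x hx, Int.cast_smul_eq_zsmul]
        rw [this, ← hv, neg_add_cancel]) v (Finset.mem_insert_self v t)
      simp only [if_true] at this
      have hp : p.Prime := Fact.out
      have h1 : (p : ℤ) ∣ 1 := by
        have := this
        rwa [Int.dvd_neg] at this
      have := Int.eq_one_of_dvd_one (by positivity) h1
      have : p = 1 := by exact_mod_cast this
      exact hp.one_lt.ne' this

theorem part2 (F : V →+ V) (hF : ∀ (a : k) (v : V), F (a • v) = a ^ p • F v)
    (s : Finset V) (hs : ∀ v ∈ s, F v = v)
    (hind : ∀ c : s → ℤ, (∑ v : s, c v • (v : V)) = 0 → ∀ v : s, (p : ℤ) ∣ c v) :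
    LinearIndependent k (fun v : s => (v : V)) := by
  change LinearIndepOn k id (s : Set V)
  rw [linearIndepOn_finset_iff]
  apply key p k V F hF s hs
  intro c hc v hv
  have := hind (fun v => c v) (by
    rw [← hc]
    exact Finset.sum_coe_sort s (fun v => c v • v)) ⟨v, hv⟩
  exact this

theorem main (F : V →+ V) (hF : ∀ (a : k) (v : V), F (a • v) = a ^ p • F v) :
    IsCompl (Submodule.span k {v : V | F v = v})
        (Submodule.span k {v : V | ∃ m : ℕ, (⇑F)^[m] v = 0}) ∧
      ∀ (s : Finset V), (∀ v ∈ s, F v = v) →
        (∀ c : s → ℤ, (∑ v : s, c v • (v : V)) = 0 → ∀ v : s, (p : ℤ) ∣ c v) →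
          LinearIndependent k (fun v : s => (v : V)) :=
  ⟨part1 p k V F hF, fun s hs hind => part2 p k V F hF s hs hind⟩

end

end Groth.Agent.S8604.Aux

namespace Groth.Agent.S8604

/-- Over an algebraically closed field: let k be an algebraically closed field of characteristic p > 0,
V a finite-dimensional k-vector space and F : V -> V a p-linear endomorphism (additive with F(a·v) =
a^p·F(v)). Let V^F be the set of vectors fixed by F (an F_p-subspace), V_0 the k-span of V^F and V_n
the k-span of the vectors killed by some iterate of F (these already form an F-stable subspace on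
which F is nilpotent). Then V = V_0 ⊕ V_n, and V^F ⊗ k -> V_0 is bijective in the sense that any
finitely many F-fixed vectors linearly independent over Z/p (every vanishing integer combination has
all coefficients divisible by p) are linearly independent over k. (The published statement asserts
this decomposition, with V^F ⊗ k ≅ V_0, for every PERFECT field k; that is false when k is not
separably closed — for k = Z/3, V = k and F = multiplication by 2 there are no nonzero fixed vectors
although F is bijective — and the decomposition is stated here over an algebraically closed field,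
the case in which it holds.) -/
theorem result (p : ℕ) [Fact p.Prime] (k : Type u) [Field k]
    [IsAlgClosed k] [CharP k p] (V : Type u) [AddCommGroup V] [Module k V] [FiniteDimensional k V]
    (F : V →+ V) (hF : ∀ (a : k) (v : V), F (a • v) = a ^ p • F v) :
    IsCompl (Submodule.span k {v : V | F v = v})
        (Submodule.span k {v : V | ∃ m : ℕ, (⇑F)^[m] v = 0}) ∧
      ∀ (s : Finset V), (∀ v ∈ s, F v = v) →
        (∀ c : s → ℤ, (∑ v : s, c v • (v : V)) = 0 → ∀ v : s, (p : ℤ) ∣ c v) →
          LinearIndependent k (fun v : s => (v : V)) := by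
  exact Aux.main p k V F hF

end Groth.Agent.S8604
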