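import Groth.Statements.S6639
import Mathlib
import Groth.Agent.S8604

set_option autoImplicit false
universe u
open scoped TensorProduct
open EtBase

namespace Groth.Agent.S6639.Aux

open Groth.Agent.Lib.Helper96 Groth.Agent.Lib.Helper96.SigmaLin
open scoped TensorProduct


section
variable {k k' V : Type u} [Field k] [IsAlgClosed k] [Field k']
    [IsAlgClosed k'] [Algebra k k'] (p : ℕ) [Fact p.Prime] [CharP k p]
    [AddCommGroup V] [Module k V] [FiniteDimensional k V] (F : V →+ V)
    (hF : ∀ (c : k) (v : V), F (c • v) = c ^ p • F v)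
    (F' : k' ⊗[k] V →+ k' ⊗[k] V) (hF' : ∀ (c : k') (v : V), F' (c ⊗ₜ[k] v) = (c ^ p) ⊗ₜ[k] F v)

include hF' in
theorem iter_tmul (N : ℕ) (c : k') (v : V) :
    (⇑F')^[N] (c ⊗ₜ[k] v) = (c ^ (p ^ N)) ⊗ₜ[k] (⇑F)^[N] v := by
  induction N generalizing c v with
  | zero => simp
  | succ N ih =>
    rw [Function.iterate_succ_apply, hF', ih, Function.iterate_succ_apply, ← pow_mul, pow_succ',]

set_option backward.isDefEq.respectTransparency false in
include hF hF' in
theorem main :
    Set.BijOn (fun v : V => (1 : k') ⊗ₜ[k] v) {v : V | F v = v} {w : k' ⊗[k] V | F' w = w} := by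
  classical
  have hinj : Function.Injective (fun v : V => (1 : k') ⊗ₜ[k] v) :=
    Module.Flat.tensorProduct_mk_injective (R := k) (S := k') (M := V)
  have : CharP k' p := charP_of_injective_algebraMap (algebraMap k k').injective p
  set T := Groth.Agent.S8604.Aux.mkT p k V F hF with hT
  have hiter : ∀ (m : ℕ) (v : V), (⇑T)^[m] v = (⇑F)^[m] v := by
    intro m v
    have : (⇑T) = (⇑F) := rfl
    rw [this]
  obtain ⟨N, hN⟩ := exists_Winf_eq T
  obtain ⟨b, hb⟩ := exists_basis_fixed_Winf T (hyp2_frobenius p k) (hyp3_frobenius p k)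
  let e : Fin (Module.finrank k (Winf T)) → V := fun i => (b i : V)
  have he : ∀ i, F (e i) = e i := fun i => hb i
  have heli : LinearIndependent k e :=
    b.linearIndependent.map' (Winf T).subtype (Submodule.ker_subtype _)
  have heli' : LinearIndependent k' (fun i => (1 : k') ⊗ₜ[k] e i) :=
    Module.Flat.linearIndependent_one_tmul heli
  -- the k'-linear map c ↦ ∑ c i ⊗ e i
  let S : Submodule k' (k' ⊗[k] V) := Submodule.span k' (Set.range fun i => (1 : k') ⊗ₜ[k] e i)
  have hS : ∀ w, (⇑F')^[N] w ∈ S := by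
    intro w
    induction w using TensorProduct.induction_on with
    | zero =>
      rw [iterate_map_zero]; exact S.zero_mem
    | tmul c v =>
      rw [iter_tmul p F F' hF' N c v]
      have hv : (⇑F)^[N] v ∈ Winf T := by
        rw [← hN N le_rfl, ← hiter]
        exact Submodule.subset_span ⟨v, rfl⟩
      have hv' : (⇑F)^[N] v = ∑ i, (b.repr ⟨_, hv⟩ i) • e i := by
        have h2 : ((∑ i, b.repr ⟨_, hv⟩ i • b i : Winf T) : V) = (⇑F)^[N] v :=
          congrArg Subtype.val (b.sum_repr ⟨_, hv⟩)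
        rw [Submodule.coe_sum] at h2
        simp only [Submodule.coe_smul] at h2
        exact h2.symm
      rw [hv', TensorProduct.tmul_sum]
      refine S.sum_mem fun i _ => ?_
      rw [TensorProduct.tmul_smul, TensorProduct.smul_tmul']
      have : (b.repr ⟨_, hv⟩ i • c ^ p ^ N) ⊗ₜ[k] e i =
          (b.repr ⟨_, hv⟩ i • c ^ p ^ N) • ((1 : k') ⊗ₜ[k] e i) := by
        rw [TensorProduct.smul_tmul', smul_eq_mul, mul_one]
      rw [this]
      exact S.smul_mem _ (Submodule.subset_span ⟨i, rfl⟩)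
    | add x y hx hy =>
      rw [iterate_map_add]; exact S.add_mem hx hy
  refine ⟨?_, hinj.injOn, ?_⟩
  · intro v (hv : F v = v)
    show F' ((1 : k') ⊗ₜ[k] v) = (1 : k') ⊗ₜ[k] v
    rw [hF', one_pow, hv]
  · intro w (hw : F' w = w)
    have hwS : w ∈ S := by
      have := hS w
      rwa [Function.iterate_fixed hw N] at this
    obtain ⟨c, hc⟩ := (Submodule.mem_span_range_iff_exists_fun k').mp hwS
    -- apply F'
    have hF'w : F' w = ∑ i, (c i) ^ p • ((1 : k') ⊗ₜ[k] e i) := by
      rw [← hc, map_sum]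
      apply Finset.sum_congr rfl
      intro i _
      rw [TensorProduct.smul_tmul', smul_eq_mul, mul_one, hF', he i, TensorProduct.smul_tmul',
        smul_eq_mul, mul_one]
    have hzero : ∑ i, ((c i) ^ p - c i) • ((1 : k') ⊗ₜ[k] e i) = 0 := by
      have : ∀ i, ((c i) ^ p - c i) • ((1 : k') ⊗ₜ[k] e i) =
          (c i) ^ p • ((1 : k') ⊗ₜ[k] e i) - c i • ((1 : k') ⊗ₜ[k] e i) := fun i => sub_smul (c i ^ p) (c i) ((1 : k') ⊗ₜ[k] e i)
      rw [Finset.sum_congr rfl (fun i _ => this i), Finset.sum_sub_distrib, ← hF'w, hc, hw, sub_self]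
    have hcp : ∀ i, (c i) ^ p = c i := fun i =>
      sub_eq_zero.mp (Fintype.linearIndependent_iff.mp heli' _ hzero i)
    have hcn : ∀ i, ∃ n : ℤ, (n : k') = c i := fun i =>
      (mem_bot_iff_intCast p k').mp ((Subfield.mem_bot_iff_pow_eq_self k' p).mpr (hcp i))
    choose n hn using hcn
    let v : V := ∑ i, (n i : k) • e i
    have hvw : (1 : k') ⊗ₜ[k] v = w := by
      rw [← hc, TensorProduct.tmul_sum]
      apply Finset.sum_congr rfl
      intro i _
      have h1 : ((n i : k) • (1 : k')) = ((n i : ℤ) : k') := by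
        rw [Algebra.smul_def, mul_one, map_intCast]
      rw [TensorProduct.tmul_smul, TensorProduct.smul_tmul', h1, hn i, TensorProduct.smul_tmul',
        smul_eq_mul, mul_one]
    refine ⟨v, ?_, hvw⟩
    show F v = v
    apply hinj
    show (1 : k') ⊗ₜ[k] F v = (1 : k') ⊗ₜ[k] v
    have := hF' 1 v
    rw [one_pow] at this
    rw [← this, hvw, hw]

end

end Groth.Agent.S6639.Aux

namespace Groth.Agent.S6639

/-- Let k ⟶ k' be a homomorphism of algebraically closed fields of characteristic p > 0 (an extension of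
algebraically closed fields), V a finite-dimensional k-vector space, F : V ⟶ V additive with F(c •
v) = c^p • F(v), and F' the additive endomorphism of V' = k' ⊗_k V satisfying F'(c ⊗ v) = c^p ⊗
F(v). Then v ↦ 1 ⊗ v maps the fixed vectors of F bijectively onto the fixed vectors of F'. -/
theorem result {k k' V : Type u} [Field k] [IsAlgClosed k] [Field k']
    [IsAlgClosed k'] [Algebra k k'] (p : ℕ) [Fact p.Prime] [CharP k p]
    [AddCommGroup V] [Module k V] [FiniteDimensional k V] (F : V →+ V)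
    (hF : ∀ (c : k) (v : V), F (c • v) = c ^ p • F v)
    (F' : k' ⊗[k] V →+ k' ⊗[k] V) (hF' : ∀ (c : k') (v : V), F' (c ⊗ₜ[k] v) = (c ^ p) ⊗ₜ[k] F v) :
    Set.BijOn (fun v : V => (1 : k') ⊗ₜ[k] v) {v : V | F v = v} {w : k' ⊗[k] V | F' w = w} := by
  exact Aux.main p F hF F' hF'

end Groth.Agent.S6639
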