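import Groth.Statements.S6640
import Mathlib
import Groth.Agent.Lib.Helper43.ConstSheaf
import Groth.Agent.Lib.Helper43.EtOpenSub
import Groth.Agent.Lib.Helper43.EtStalk

set_option autoImplicit false
open CategoryTheory CategoryTheory.Limits AlgebraicGeometry Opposite
universe u
open EtCore

namespace Groth.Agent.S6640

open Groth.Agent.Lib.Helper43 Groth.Agent.Lib.Helper43.ConstSheaf Groth.Agent.Lib.Helper43.EtStalk

section Helpers

variable {X : Scheme.{u}}

/-- a nonempty étale scheme has no empty covering sieve -/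
lemma exists_arrow_of_nonempty (W : X.Etale) (hW : Nonempty W.left) (S : Sieve W)
    (hS : S ∈ X.smallEtaleTopology W) : ∃ (W' : X.Etale) (f : W' ⟶ W), S f ∧ Nonempty W'.left := by
  obtain ⟨x⟩ := hW
  obtain ⟨V, f, y, hf, -⟩ := (EtOpenSub.mem_smallEtaleTopology_iff' W S).1 hS x
  exact ⟨V, f, hf, ⟨y⟩⟩

lemma cst_injective_of_nonempty (M : AddCommGrpCat.{u + 1}) (W : X.Etale) (hW : Nonempty W.left) :
    Function.Injective (cst.{u + 1} X.smallEtaleTopology M W) := by
  apply cst_injective.{u + 1}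
  intro S hS
  obtain ⟨W', f, hf, -⟩ := exists_arrow_of_nonempty W hW S hS
  exact ⟨W', f, hf⟩

/-- sections of a mono of sheaves are injective -/
lemma injective_of_mono {G H : EtCoh.Ab X} (b : G ⟶ H) [Mono b] (W : X.Etale) :
    Function.Injective (b.hom.app (op W)) := by
  have h2 : Mono ((sheafToPresheaf X.smallEtaleTopology AddCommGrpCat.{u + 1}).map b) :=
    inferInstance
  have h3 : Mono (b.hom.app (op W)) := by
    have := (NatTrans.mono_iff_mono_app _).1 h2 (op W)
    exact this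
  exact (AddCommGrpCat.mono_iff_injective _).1 h3

/-- a nonempty étale scheme over an irreducible scheme carries a lift of the generic geometric
point -/
lemma exists_lift_generic [IrreducibleSpace ↥X] {Ω : Type u} [Field Ω] [IsSepClosed Ω]
    (ξ : Spec (CommRingCat.of Ω) ⟶ X) (hξ : ξ.base default = genericPoint ↥X)
    (W : X.Etale) (hW : Nonempty W.left) :
    Nonempty ((Scheme.pointSmallEtale ξ).fiber.obj W) := by
  obtain ⟨w⟩ := hW
  have hopen : IsOpen (Set.range W.hom.base) := W.hom.isOpenMap.isOpen_range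
  have hgen : genericPoint ↥X ∈ Set.range W.hom.base := by
    rw [(genericPoint_spec (α := ↥X)).mem_open_set_iff hopen]
    exact ⟨W.hom.base w, trivial, ⟨w, rfl⟩⟩
  obtain ⟨w₀, hw₀⟩ := hgen
  obtain ⟨l, hl, -⟩ := Scheme.exists_fac_of_etale_of_isSepClosed W.hom ξ w₀ (hw₀.trans hξ.symm)
  exact ⟨Over.homMk l hl⟩

section Main

variable [IrreducibleSpace ↥X] {Ω : Type u} [Field Ω] [IsSepClosed Ω]
  (ξ : Spec (CommRingCat.of Ω) ⟶ X) (hξ : ξ.base default = genericPoint ↥X)
  (MA' MA : AddCommGrpCat.{u + 1}) (incl : MA' ⟶ MA) (G : EtCoh.Ab X)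
  (a : K.{u + 1} X.smallEtaleTopology MA' ⟶ G) (b : G ⟶ K.{u + 1} X.smallEtaleTopology MA)
  (hab : a ≫ b = (constantSheaf X.smallEtaleTopology AddCommGrpCat.{u + 1}).map incl)
  (hst : Function.Surjective ((Scheme.pointSmallEtale ξ).presheafFiber.map a.hom))

omit [IrreducibleSpace ↥X] in
include hab in
lemma b_a_app (W : X.Etale) (t : (K.{u + 1} X.smallEtaleTopology MA').obj.obj (op W)) :
    b.hom.app (op W) (a.hom.app (op W) t) =
      ((constantSheaf X.smallEtaleTopology AddCommGrpCat.{u + 1}).map incl).hom.app (op W) t :=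
  congrArg (fun m => m.hom.app (op W) t) hab

include hξ hab hst in
lemma key (W : X.Etale) (hW : Nonempty W.left) (s : G.obj.obj (op W)) (c : MA)
    (hc : b.hom.app (op W) s = cst.{u + 1} X.smallEtaleTopology MA W c) : ∃ c' : MA', incl c' = c := by
  let J := X.smallEtaleTopology
  let Φ := Scheme.pointSmallEtale ξ
  obtain ⟨z⟩ := exists_lift_generic ξ hξ W hW
  obtain ⟨e, he⟩ := hst (Φ.toPresheafFiber W z G.obj s)
  obtain ⟨W₁, z₁, t₁, rfl⟩ := Φ.toPresheafFiber_jointly_surjective (P := (K.{u + 1} J MA').obj) e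
  rw [Φ.toPresheafFiber_naturality_apply] at he
  -- common refinement
  let E₁ : Φ.fiber.Elements := ⟨W₁, z₁⟩
  let E : Φ.fiber.Elements := ⟨W, z⟩
  let E₂ := IsCofiltered.min E₁ E
  let f₁ : E₂ ⟶ E₁ := IsCofiltered.minToLeft _ _
  let f : E₂ ⟶ E := IsCofiltered.minToRight _ _
  have h1 : Φ.toPresheafFiber W₁ z₁ G.obj (a.hom.app (op W₁) t₁) =
      Φ.toPresheafFiber E₂.1 E₂.2 G.obj (G.obj.map f₁.1.op (a.hom.app (op W₁) t₁)) := by
    rw [Φ.toPresheafFiber_w_apply]
    exact congrArg (fun y => Φ.toPresheafFiber W₁ y G.obj (a.hom.app (op W₁) t₁)) f₁.2.symm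
  have h2 : Φ.toPresheafFiber W z G.obj s =
      Φ.toPresheafFiber E₂.1 E₂.2 G.obj (G.obj.map f.1.op s) := by
    rw [Φ.toPresheafFiber_w_apply]
    exact congrArg (fun y => Φ.toPresheafFiber W y G.obj s) f.2.symm
  rw [h1, h2] at he
  obtain ⟨W₃, k, z₃, -, hk⟩ := (Φ.toPresheafFiber_eq_iff' _ _ _ _).1 he
  have hW₃ : Nonempty W₃.left :=
    ⟨(z₃.left : Spec (CommRingCat.of Ω) ⟶ W₃.left).base (default : Spec (CommRingCat.of Ω))⟩
  let p₁ : W₃ ⟶ W₁ := k ≫ f₁.1
  let p : W₃ ⟶ W := k ≫ f.1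
  have hk' : G.obj.map p₁.op (a.hom.app (op W₁) t₁) = G.obj.map p.op s := by
    have e1 : G.obj.map p₁.op (a.hom.app (op W₁) t₁) =
        G.obj.map k.op (G.obj.map f₁.1.op (a.hom.app (op W₁) t₁)) := by
      change G.obj.map (k ≫ f₁.1).op _ = _
      rw [op_comp, G.obj.map_comp]
      rfl
    have e2 : G.obj.map p.op s = G.obj.map k.op (G.obj.map f.1.op s) := by
      change G.obj.map (k ≫ f.1).op _ = _
      rw [op_comp, G.obj.map_comp]
      rfl
    rw [e1, e2]
    exact hk
  let t₃ : (K.{u + 1} J MA').obj.obj (op W₃) := (K.{u + 1} J MA').obj.map p₁.op t₁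
  have ha3 : a.hom.app (op W₃) t₃ = G.obj.map p.op s := by
    have := congrArg (fun m => m.hom t₁) (a.hom.naturality p₁.op)
    exact this.trans hk'
  have hb3 : ((constantSheaf J AddCommGrpCat.{u + 1}).map incl).hom.app (op W₃) t₃ =
      cst.{u + 1} J MA W₃ c := by
    rw [← b_a_app MA' MA incl G a b hab W₃ t₃, ha3]
    have := congrArg (fun m => m.hom s) (b.hom.naturality p.op)
    refine this.trans ?_
    change (K.{u + 1} J MA).obj.map p.op (b.hom.app (op W) s) = _
    rw [hc]
    exact cst_map.{u + 1} J MA p c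
  obtain ⟨S₃, hS₃, hloc⟩ := locally_cst.{u + 1} J MA' t₃
  obtain ⟨W₄, k₄, hk₄, hW₄⟩ := exists_arrow_of_nonempty W₃ hW₃ S₃ hS₃
  obtain ⟨c', hc'⟩ := hloc k₄ hk₄
  refine ⟨c', ?_⟩
  apply cst_injective_of_nonempty MA W₄ hW₄
  rw [← constantSheaf_map_cst.{u + 1} J incl W₄ c', ← hc']
  have := congrArg (fun m => m.hom t₃)
    (((constantSheaf J AddCommGrpCat.{u + 1}).map incl).hom.naturality k₄.op)
  refine this.trans ?_
  change (K.{u + 1} J MA).obj.map k₄.op (((constantSheaf J AddCommGrpCat.{u + 1}).map incl).hom.app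
    (op W₃) t₃) = _
  rw [hb3]
  exact cst_map.{u + 1} J MA k₄ c

include hξ hab hst in
lemma locSurj [Mono b] : Presheaf.IsLocallySurjective X.smallEtaleTopology a.hom := by
  let J := X.smallEtaleTopology
  constructor
  intro V s
  refine (EtOpenSub.mem_smallEtaleTopology_iff' V _).2 (fun x => ?_)
  obtain ⟨S, hS, hloc⟩ := locally_cst.{u + 1} J MA (b.hom.app (op V) s)
  obtain ⟨W, g, y, hg, hy⟩ := (EtOpenSub.mem_smallEtaleTopology_iff' V S).1 hS x
  obtain ⟨c, hc⟩ := hloc g hg
  have hc' : b.hom.app (op W) (G.obj.map g.op s) = cst.{u + 1} J MA W c := by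
    have := congrArg (fun m => m.hom s) (b.hom.naturality g.op)
    exact this.trans hc
  obtain ⟨c', hc'c⟩ := key ξ hξ MA' MA incl G a b hab hst W ⟨y⟩ (G.obj.map g.op s) c hc'
  refine ⟨W, g, y, ?_, hy⟩
  refine ⟨cst.{u + 1} J MA' W c', ?_⟩
  apply injective_of_mono b W
  rw [hc', ← hc'c, b_a_app MA' MA incl G a b hab]
  exact constantSheaf_map_cst.{u + 1} J incl W c'

end Main

end Helpers


/-- Let X be an irreducible scheme, ξ a geometric point over its generic point, A' an additive subgroup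
of an abelian group A, and G an abelian sheaf on the small etale site of X with monomorphisms a :
const A' ⟶ G and b : G ⟶ const A whose composite is the map of constant sheaves induced by the
inclusion. If the stalk of a at ξ is an isomorphism, then a is an isomorphism. -/
theorem result {X : Scheme.{u}} [IrreducibleSpace ↥X]
    {Ω : Type u} [Field Ω] [IsSepClosed Ω] (ξ : Spec (CommRingCat.of Ω) ⟶ X)
    (hξ : ξ.base default = genericPoint ↥X)
    (A : Type) [AddCommGroup A] (A' : AddSubgroup A) (G : EtCoh.Ab X)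
    (a : EtCoh.const X ↥A' ⟶ G) (b : G ⟶ EtCoh.const X A) [Mono a] [Mono b]
    (hab : a ≫ b = (constantSheaf X.smallEtaleTopology AddCommGrpCat.{u + 1}).map
      (AddCommGrpCat.ofHom (AddEquiv.ulift.symm.toAddMonoidHom.comp (A'.subtype.comp AddEquiv.ulift.toAddMonoidHom))))
    (hst : IsIso ((EtCoh.stalk ξ).map a)) : IsIso a := by
  have hsurj : Function.Surjective ((Scheme.pointSmallEtale ξ).presheafFiber.map a.hom) := by
    have := (ConcreteCategory.isIso_iff_bijective _).1 hst
    exact this.2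
  have hls : Presheaf.IsLocallySurjective X.smallEtaleTopology a.hom :=
    locSurj ξ hξ _ _ _ G a b hab hsurj
  have hls' : Sheaf.IsLocallySurjective a := hls
  have hepi : Epi a := Sheaf.epi_of_isLocallySurjective a
  exact isIso_of_mono_of_epi a

end Groth.Agent.S6640
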