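import Groth.Statements.S6641
-- import your own Groth.Agent.* helpers here
import Groth.Agent.S0073
import Groth.Agent.Lib.Helper4.EtClosedPush

set_option autoImplicit false
open CategoryTheory CategoryTheory.Limits AlgebraicGeometry Opposite
universe u
open Curves

namespace Groth.Agent.S6641

/-- Let X be a smooth curve over an algebraically closed field k (here: X integral of dimension one,
smooth, separated and of finite type over k), and for a closed point x let i_x : Spec κ(x) ⟶ X be
its inclusion. Then H^q of the direct sum, over all closed points x, of the sheaves (i_x)_* Z (given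
here as any colimit cofan of that family) vanishes for every q ≥ 1. -/
theorem result (k : Type u) [Field k] [IsAlgClosed k] (X : Scheme.{u})
    (f : X ⟶ Spec (CommRingCat.of k)) [Smooth f] [IsSeparated f] [LocallyOfFiniteType f] [QuasiCompact f] [IsIntegral X]
    (hdim : topologicalKrullDim ↥X = 1)
    (c : Cofan fun x : {x : ↥X // IsClosed ({x} : Set ↥X)} =>
      (EtCoh.push (X.fromSpecResidueField x.1)).obj (EtCoh.const (Spec (X.residueField x.1)) ℤ))
    (hc : IsColimit c) (q : ℕ) (hq : 1 ≤ q) :
    Subsingleton (EtCoh.H X c.pt q) := by
  have : CompactSpace X := QuasiCompact.compactSpace_of_compactSpace f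
  have : QuasiSeparatedSpace X := quasiSeparatedSpace_of_quasiSeparated f
  have hz : IsZero ((EtCoh.HF X q).obj c.pt) := by
    refine Groth.Agent.Lib.Helper4.EtClosedPush.isZero_HF_coprod X q _ c hc (fun x => ?_)
    have hx : IsClosed ({x.1} : Set ↥X) := x.2
    have : IsClosedImmersion (X.fromSpecResidueField x.1) :=
      isClosed_singleton_iff_isClosedImmersion.1 hx
    have e : X.residueField x.1 ≅ CommRingCat.of k := residueFieldIsoBase f x.1 hx
    have : IsAlgClosed (X.residueField x.1) :=
      IsAlgClosed.of_ringEquiv (k := k) _ e.symm.commRingCatIsoToRingEquiv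
    let e' : X.residueField x.1 ≃+* IsLocalRing.ResidueField (X.residueField x.1) :=
      RingEquiv.ofBijective (IsLocalRing.residue (X.residueField x.1))
        ⟨(IsLocalRing.residue (X.residueField x.1)).injective, Ideal.Quotient.mk_surjective⟩
    have : IsAlgClosed (IsLocalRing.ResidueField (X.residueField x.1)) :=
      IsAlgClosed.of_ringEquiv (k := X.residueField x.1) _ e'
    have hsub : Subsingleton (EtCoh.H (Spec (X.residueField x.1))
        (EtCoh.const (Spec (X.residueField x.1)) ℤ) q) :=
      Groth.Agent.S0073.result (X.residueField x.1) (EtCoh.const _ ℤ) q hq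
    have h2 := Groth.Agent.Lib.Helper4.EtClosedPush.subsingleton_H_push
      (X.fromSpecResidueField x.1) _ q hsub
    exact @AddCommGrpCat.isZero_of_subsingleton _ h2
  exact AddCommGrpCat.subsingleton_of_isZero hz

end Groth.Agent.S6641
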