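import Groth.Statements.S6643
import Mathlib
import Groth.Agent.Lib.Helper43.EtFTLCSerre
import Groth.Agent.Lib.Helper43.TensorSheafify

set_option autoImplicit false
open CategoryTheory CategoryTheory.Limits AlgebraicGeometry Opposite
universe u
open EtModW

namespace Groth.Agent.S6643

open Groth.Agent.Lib.Helper43 Groth.Agent.Lib.Helper43.LCHom Groth.Agent.Lib.Helper43.EtLCHom
  Groth.Agent.Lib.Helper43.TensorSheafify
open MonoidalCategory MonoidalClosed Enriched.FunctorCategory

variable {Λ : Type (u + 1)} [CommRing Λ] {X : Scheme.{u}}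

noncomputable def tensor_local (F G : EtModW.Mod Λ X) (W : X.Etale) (M N : ModuleCat.{u + 1} Λ)
    (α : EtModW.restr Λ F W ≅ (constantSheaf (X.smallEtaleTopology.over W) (ModuleCat.{u + 1} Λ)).obj M)
    (β : EtModW.restr Λ G W ≅ (constantSheaf (X.smallEtaleTopology.over W) (ModuleCat.{u + 1} Λ)).obj N) :
    EtModW.restr Λ (((EtModD.tensorBi Λ X).obj F).obj G) W ≅
      (constantSheaf (X.smallEtaleTopology.over W) (ModuleCat.{u + 1} Λ)).obj (M ⊗ N) :=
  tensorConstIso (X.smallEtaleTopology.over W) X.smallEtaleTopology (Over.forget W) F G M N α β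


/-- On the small etale site of a scheme X, the tensor product over Λ of two finite type locally constant
sheaves of Λ-modules is finite type locally constant. (The published statement covers all locally
constant sheaves of Λ-modules; this row treats the finite type ones.) -/
theorem result (Λ : Type (u + 1)) [CommRing Λ] {X : Scheme.{u}} (F G : EtModW.Mod Λ X)
    (hF : EtModW.IsFTLocConst Λ F) (hG : EtModW.IsFTLocConst Λ G) :
    EtModW.IsFTLocConst Λ (((EtModD.tensorBi Λ X).obj F).obj G) := by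
  obtain ⟨ι₁, U₁, hcov₁, hU₁⟩ := hF
  obtain ⟨ι₃, U₃, hcov₃, hU₃⟩ := hG
  have key : ∀ x : X, ∃ (W : X.Etale) (z : W.left), W.hom z = x ∧
      (∃ (M : Type (u + 1)) (_ : AddCommGroup M) (_ : Module Λ M) (_ : Module.Finite Λ M),
        Nonempty (EtModW.restr Λ (((EtModD.tensorBi Λ X).obj F).obj G) W ≅
          (constantSheaf (X.smallEtaleTopology.over W) (ModuleCat.{u + 1} Λ)).obj
            (ModuleCat.of Λ M))) := by
    intro x
    obtain ⟨i₁, y₁, hy₁⟩ := hcov₁ x
    obtain ⟨i₃, y₃, hy₃⟩ := hcov₃ x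
    obtain ⟨M, iM, mM, fM, ⟨α₁⟩⟩ := hU₁ i₁
    obtain ⟨N, iN, mN, fN, ⟨α₃⟩⟩ := hU₃ i₃
    obtain ⟨W, p₁, p₃, z, hz⟩ := EtOpenSub.exists_refinement (U₁ i₁) (U₃ i₃) y₁ y₃ (hy₃.trans hy₁.symm)
    refine ⟨W, z, ?_, TensorProduct Λ M N, inferInstance, inferInstance, inferInstance,
      ⟨tensor_local F G W (ModuleCat.of Λ M) (ModuleCat.of Λ N)
        (transport X.smallEtaleTopology (ModuleCat.{u + 1} Λ) F p₁ _ α₁)
        (transport X.smallEtaleTopology (ModuleCat.{u + 1} Λ) G p₃ _ α₃)⟩⟩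
    rw [← hom_comp_apply p₁ z, hz]
    exact hy₁
  choose W z hz hW using key
  exact ⟨X, W, fun x => ⟨x, z x, hz x⟩, hW⟩

end Groth.Agent.S6643
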