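import Groth.Statements.S6645
import Mathlib
import Groth.Agent.Lib.Helper43.EtFLCSerre

set_option autoImplicit false
open CategoryTheory CategoryTheory.Limits AlgebraicGeometry Opposite
universe u
open EtCore

namespace Groth.Agent.S6645

open Groth.Agent.Lib.Helper43.EtFLCSerre

open Groth.Agent.Lib.Helper43.EtFLCSerre


/-- On the small etale site of a scheme, kernels and cokernels of maps between finite locally constant
abelian sheaves are finite locally constant, and the property of being finite locally constant is
closed under extensions (a weak Serre subcategory). -/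
theorem result (X : Scheme.{u}) :
    (∀ (F G : EtCoh.Ab X) (φ : F ⟶ G), EtCoh.IsFiniteLocallyConstant F → EtCoh.IsFiniteLocallyConstant G →
      EtCoh.IsFiniteLocallyConstant (kernel φ) ∧ EtCoh.IsFiniteLocallyConstant (cokernel φ)) ∧
    ObjectProperty.IsClosedUnderExtensions (fun F : EtCoh.Ab X => EtCoh.IsFiniteLocallyConstant F) := by
  refine ⟨fun F G φ hF hG => isFLC_kernel_cokernel F G φ hF hG, ⟨?_⟩⟩
  intro S hS h₁ h₃
  exact isFLC_extension S hS h₁ h₃

end Groth.Agent.S6645
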