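import Groth.Statements.S6648
import Mathlib

set_option autoImplicit false
open CategoryTheory CategoryTheory.Limits AlgebraicGeometry Opposite
universe u
open EtCore

namespace Groth.Agent.S6648




/-- For a sheaf of (commutative) rings O on the small etale site of a scheme S, the set of points s of S
over which some geometric stalk of O is a nonzero ring is closed in S. (Rings are taken in the
universe of the schemes, as for the structure presheaf of the prelude.) -/
theorem result {S : Scheme.{u}} (O : Sheaf S.smallEtaleTopology CommRingCat.{u}) :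
    IsClosed {s : ↥S | ∃ (Ω : Type u) (_ : Field Ω) (_ : IsSepClosed Ω) (ξ : Spec (CommRingCat.of Ω) ⟶ S),
      ξ.base default = s ∧ Nontrivial ↑((Scheme.pointSmallEtale ξ).presheafFiber.obj O.obj)} := by
  rw [← isOpen_compl_iff, isOpen_iff_forall_mem_open]
  intro s hs
  simp only [Set.mem_compl_iff, Set.mem_ofPred_eq, not_exists, not_and] at hs
  -- a geometric point over `s`
  let Ω₀ : Type u := SeparableClosure (S.residueField s)
  let ξ₀ : Spec (CommRingCat.of Ω₀) ⟶ S :=
    Spec.map (CommRingCat.ofHom (algebraMap (S.residueField s) Ω₀)) ≫ S.fromSpecResidueField s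
  have hξ₀ : ξ₀.base default = s := by
    simp only [ξ₀, Scheme.Hom.comp_apply]
    exact Scheme.fromSpecResidueField_apply _ _
  have h0 := hs Ω₀ inferInstance inferInstance ξ₀ hξ₀
  rw [not_nontrivial_iff_subsingleton] at h0
  let Φ₀ := Scheme.pointSmallEtale ξ₀
  let T : S.Etale := Scheme.Etale.mk (𝟙 S)
  let z₀ : Φ₀.fiber.obj T := Over.homMk ξ₀ (Category.comp_id _)
  have h1 : Φ₀.toPresheafFiber T z₀ O.obj 1 = Φ₀.toPresheafFiber T z₀ O.obj 0 :=
    Subsingleton.elim _ _
  obtain ⟨W, g, z, hz, h10⟩ := (Φ₀.toPresheafFiber_eq_iff' _ _ _ _).1 h1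
  rw [map_one, map_zero] at h10
  let zl : Spec (CommRingCat.of Ω₀) ⟶ W.left := z.left
  refine ⟨Set.range W.hom.base, ?_, W.hom.isOpenMap.isOpen_range, ⟨zl.base default, ?_⟩⟩
  · rintro _ ⟨w, rfl⟩
    simp only [Set.mem_compl_iff, Set.mem_ofPred_eq, not_exists, not_and]
    intro Ω _ _ ξ hξ
    rw [not_nontrivial_iff_subsingleton]
    obtain ⟨l, hl₁, hl₂⟩ := Scheme.exists_fac_of_etale_of_isSepClosed W.hom ξ w hξ.symm
    let Φ := Scheme.pointSmallEtale ξ
    let z' : Φ.fiber.obj W := Over.homMk l hl₁
    have h2 : (1 : ↑(Φ.presheafFiber.obj O.obj)) = 0 := by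
      rw [← map_one (Φ.toPresheafFiber W z' O.obj).hom, h10, map_zero]
    exact subsingleton_of_zero_eq_one h2.symm
  · have h3 : zl ≫ W.hom = ξ₀ := Over.w z
    have h4 : (zl ≫ W.hom).base default = s := by
      rw [h3]
      exact hξ₀
    exact h4

end Groth.Agent.S6648
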