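import Groth.Statements.S6649
import Groth.Agent.S0212
import Groth.Agent.Lib.Helper97.VarTrdeg
import Groth.Agent.Lib.Helper1.CSA.ReducedNorm
import Groth.Agent.Lib.Helper1.CSA.CrTools

set_option autoImplicit false
open CategoryTheory CategoryTheory.Limits AlgebraicGeometry Opposite
universe u
open Curves

namespace Groth.Agent.S6649

attribute [local instance] Curv2.resAlgebra

/-- For a curve C over an algebraically closed field k (C integral of dimension one, separated and of
finite type over k) the Brauer group of the function field of C is zero: every finite-dimensional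
central division algebra over the function field has dimension one. -/
theorem result (k : Type u) [Field k] [IsAlgClosed k] (C : Scheme.{u})
    (f : C ⟶ Spec (CommRingCat.of k)) [IsSeparated f] [LocallyOfFiniteType f] [QuasiCompact f] [IsIntegral C]
    (hdim : topologicalKrullDim ↥C = 1)
    (D : Type u) [DivisionRing D] [Algebra ↑C.functionField D] [Algebra.IsCentral ↑C.functionField D]
    [FiniteDimensional ↑C.functionField D] : Module.finrank ↑C.functionField D = 1 := by
  let _ : C.Over (Spec (CommRingCat.of k)) := ⟨f⟩
  have hlft : LocallyOfFiniteType (C ↘ Spec (CommRingCat.of k)) := ‹LocallyOfFiniteType f›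
  obtain ⟨s, hs1, hs2⟩ := Groth.Agent.Lib.Helper97.VarTrdeg.exists_dim_closure_eq_trdeg k C (genericPoint C)
  have hcl : closure ({genericPoint C} : Set C) = Set.univ := genericPoint_spec C
  have hs : s = 1 := by
    have h1 : topologicalKrullDim ↥(closure ({genericPoint C} : Set C)) = topologicalKrullDim C := by
      rw [hcl]
      exact IsHomeomorph.topologicalKrullDim_eq _ (Homeomorph.Set.univ C).isHomeomorph
    rw [h1, hdim] at hs1
    exact_mod_cast hs1.symm
  subst hs
  have hCi : Curves.IsCi (C.residueField (genericPoint C)) 1 :=
    Groth.Agent.S0212.result k (C.residueField (genericPoint C)) 1 hs2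
  -- the function field is the residue field at the generic point
  have hbij : Function.Bijective (C.residue (genericPoint C)).hom := by
    refine ⟨RingHom.injective _, ?_⟩
    exact IsLocalRing.residue_surjective
  let e : C.functionField ≃+* C.residueField (genericPoint C) :=
    RingEquiv.ofBijective (C.residue (genericPoint C)).hom hbij
  have hCr : Curves.IsCr C.functionField 1 := Groth.Agent.Lib.Helper1.isCr_of_ringEquiv e.symm (Groth.Agent.Lib.Helper1.isCr_of_isCi hCi)
  exact Groth.Agent.Lib.Helper1.finrank_eq_one_of_isCr_one _ hCr D

end Groth.Agent.S6649
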