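import Groth.Statements.S6703
-- import your own Groth.Agent.* helpers here

set_option autoImplicit false
universe v v' u u'
open CategoryTheory
open DEquiv

namespace Groth.Agent.S6703

section

open CategoryTheory.Limits CategoryTheory.Pretriangulated

variable {D : Type u} [Category.{v} D] [Preadditive D] [HasShift D ℤ]
    [∀ n : ℤ, (shiftFunctor D n).Additive]
    {D' : Type u'} [Category.{v'} D'] [Preadditive D'] [HasShift D' ℤ]
    [∀ n : ℤ, (shiftFunctor D' n).Additive]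
    (F : D ⥤ D') [F.CommShift ℤ]

/-- `F` is bijective on `Hom(X, Y)`. -/
def BijOn (X Y : D) : Prop := Function.Bijective (fun f : X ⟶ Y => F.map f)

variable {F}

omit [Preadditive D] [HasShift D ℤ] [∀ n : ℤ, (shiftFunctor D n).Additive] [Preadditive D']
  [HasShift D' ℤ] [∀ n : ℤ, (shiftFunctor D' n).Additive] [F.CommShift ℤ] in
lemma bijOn_of_iso {X X' Y Y' : D} (e₁ : X ≅ X') (e₂ : Y ≅ Y') (h : BijOn F X Y) :
    BijOn F X' Y' := by
  constructor
  · intro f g hfg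
    have : e₁.hom ≫ f ≫ e₂.inv = e₁.hom ≫ g ≫ e₂.inv := by
      apply h.1
      change F.map (e₁.hom ≫ f ≫ e₂.inv) = F.map (e₁.hom ≫ g ≫ e₂.inv)
      rw [F.map_comp, F.map_comp, F.map_comp, F.map_comp]
      change F.map f = F.map g at hfg
      rw [hfg]
    rw [cancel_epi, cancel_mono] at this
    exact this
  · intro φ
    obtain ⟨f, hf⟩ := h.2 (F.map e₁.hom ≫ φ ≫ F.map e₂.inv)
    change F.map f = _ at hf
    refine ⟨e₁.inv ≫ f ≫ e₂.hom, ?_⟩
    change F.map (e₁.inv ≫ f ≫ e₂.hom) = φ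
    rw [F.map_comp, F.map_comp, hf]
    simp only [Category.assoc, ← F.map_comp, Iso.inv_hom_id, F.map_id, Category.comp_id]
    rw [← Category.assoc, ← F.map_comp, Iso.inv_hom_id, F.map_id, Category.id_comp]

omit [Preadditive D] [∀ n : ℤ, (shiftFunctor D n).Additive] [Preadditive D']
  [∀ n : ℤ, (shiftFunctor D' n).Additive] in
lemma bijOn_shift {X Y : D} (m : ℤ) (h : BijOn F X Y) : BijOn F (X⟦m⟧) (Y⟦m⟧) := by
  have key : ∀ t : X ⟶ Y, F.map (t⟦m⟧') = (F.commShiftIso m).hom.app X ≫ (F.map t)⟦m⟧' ≫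
      (F.commShiftIso m).inv.app Y := by
    intro t
    have := (F.commShiftIso m).hom.naturality t
    simp only [Functor.comp_map] at this
    rw [← Category.assoc, ← this, Category.assoc, Iso.hom_inv_id_app, Category.comp_id]
  constructor
  · intro f g hfg
    obtain ⟨f₀, rfl⟩ := (shiftFunctor D m).map_surjective f
    obtain ⟨g₀, rfl⟩ := (shiftFunctor D m).map_surjective g
    change F.map (f₀⟦m⟧') = F.map (g₀⟦m⟧') at hfg
    rw [key, key, cancel_epi, cancel_mono] at hfg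
    have := (shiftFunctor D' m).map_injective hfg
    rw [h.1 this]
  · intro φ
    obtain ⟨φ₀, hφ₀⟩ := (shiftFunctor D' m).map_surjective
      ((F.commShiftIso m).inv.app X ≫ φ ≫ (F.commShiftIso m).hom.app Y)
    obtain ⟨f₀, hf₀⟩ := h.2 φ₀
    change F.map f₀ = φ₀ at hf₀
    refine ⟨f₀⟦m⟧', ?_⟩
    change F.map (f₀⟦m⟧') = φ
    rw [key, hf₀, hφ₀]
    simp

/-- The class of shifts of objects of `S`, up to isomorphism. -/
def InP (S : Set D) (P : D) : Prop := ∃ E ∈ S, ∃ m : ℤ, Nonempty (P ≅ E⟦m⟧)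

omit [Preadditive D] [∀ n : ℤ, (shiftFunctor D n).Additive] in
lemma inP_unshift {S : Set D} {P : D} (hP : InP S P) :
    ∃ P₀, InP S P₀ ∧ Nonempty (P ≅ P₀⟦(1 : ℤ)⟧) := by
  obtain ⟨E, hE, m, ⟨i⟩⟩ := hP
  refine ⟨E⟦m - 1⟧, ⟨E, hE, m - 1, ⟨Iso.refl _⟩⟩, ⟨i ≪≫ ?_⟩⟩
  exact (shiftFunctorAdd' D (m - 1) 1 m (by omega)).app E

omit [Preadditive D] [∀ n : ℤ, (shiftFunctor D n).Additive] [Preadditive D']
  [∀ n : ℤ, (shiftFunctor D' n).Additive] in
lemma bijOn_inP {S : Set D}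
    (h4 : ∀ E ∈ S, ∀ E' ∈ S, ∀ i : ℤ,
      Function.Bijective (fun f : E ⟶ (shiftFunctor D i).obj E' => F.map f))
    {P W : D} (hP : InP S P) (hW : InP S W) : BijOn F P W := by
  obtain ⟨E, hE, m, ⟨i⟩⟩ := hP
  obtain ⟨E', hE', n, ⟨j⟩⟩ := hW
  have h := bijOn_shift m (h4 E hE E' hE' (n - m))
  refine bijOn_of_iso i.symm (?_ ≪≫ j.symm) h
  exact ((shiftFunctorAdd' D (n - m) m n (by omega)).app E').symm

end

section

open CategoryTheory.Limits CategoryTheory.Pretriangulated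

variable {D : Type u} [Category.{v} D] [Preadditive D] [HasZeroObject D] [HasShift D ℤ]
    [∀ n : ℤ, (shiftFunctor D n).Additive] [Pretriangulated D]
    {D' : Type u'} [Category.{v'} D'] [Preadditive D'] [HasShift D' ℤ]
    [∀ n : ℤ, (shiftFunctor D' n).Additive]
    {F : D ⥤ D'} [F.CommShift ℤ] {G H : D' ⥤ D} (adjG : G ⊣ F) (adjH : F ⊣ H)
    (S : Set D)
    (h2 : ∀ K : D, (∀ E ∈ S, ∀ (i : ℤ) (f : E ⟶ (shiftFunctor D i).obj K), f = 0) → IsZero K)
    (h3 : ∀ K : D, (∀ E ∈ S, ∀ (i : ℤ) (f : K ⟶ (shiftFunctor D i).obj E), f = 0) → IsZero K)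
    (h4 : ∀ E ∈ S, ∀ E' ∈ S, ∀ i : ℤ,
      Function.Bijective (fun f : E ⟶ (shiftFunctor D i).obj E' => F.map f))

omit [Preadditive D] [HasZeroObject D] [HasShift D ℤ] [∀ n : ℤ, (shiftFunctor D n).Additive]
  [Pretriangulated D] [Preadditive D'] [HasShift D' ℤ] [∀ n : ℤ, (shiftFunctor D' n).Additive]
  [F.CommShift ℤ] in
lemma counit_comp {P W : D} (t : P ⟶ W) :
    adjG.counit.app P ≫ t = (adjG.homEquiv (F.obj P) W).symm (F.map t) := by
  rw [Adjunction.homEquiv_counit, adjG.counit_naturality]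

omit [Preadditive D'] [∀ n : ℤ, (shiftFunctor D' n).Additive] in
include h3 h4 in
lemma counit_isIso {P : D} (hP : InP S P) : IsIso (adjG.counit.app P) := by
  obtain ⟨K, α, β, mem⟩ := distinguished_cocone_triangle (adjG.counit.app P)
  have pre_inj : ∀ {W : D}, InP S W → ∀ t t' : P ⟶ W,
      adjG.counit.app P ≫ t = adjG.counit.app P ≫ t' → t = t' := by
    intro W hW t t' h
    rw [counit_comp, counit_comp] at h
    exact (bijOn_inP h4 hP hW).1 ((adjG.homEquiv _ _).symm.injective h)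
  have pre_surj : ∀ {W : D}, InP S W → ∀ g : G.obj (F.obj P) ⟶ W,
      ∃ t : P ⟶ W, adjG.counit.app P ≫ t = g := by
    intro W hW g
    obtain ⟨t, ht⟩ := (bijOn_inP h4 hP hW).2 (adjG.homEquiv _ _ g)
    change F.map t = _ at ht
    exact ⟨t, by rw [counit_comp, ht, Equiv.symm_apply_apply]⟩
  have hK : IsZero K := by
    apply h3
    intro E' hE' i s
    have hW : InP S (E'⟦i⟧) := ⟨E', hE', i, ⟨Iso.refl _⟩⟩
    have h0 : α ≫ s = 0 := by
      apply pre_inj hW
      rw [← Category.assoc]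
      have : adjG.counit.app P ≫ α = 0 := comp_distTriang_mor_zero₁₂ _ mem
      rw [this, zero_comp, comp_zero]
    obtain ⟨s', hs'⟩ : ∃ s' : (G.obj (F.obj P))⟦(1 : ℤ)⟧ ⟶ E'⟦i⟧, s = β ≫ s' :=
      Triangle.yoneda_exact₃ _ mem s h0
    obtain ⟨W₀, hW₀, ⟨j⟩⟩ := inP_unshift hW
    obtain ⟨s₀, hs₀⟩ := (shiftFunctor D (1 : ℤ)).map_surjective (s' ≫ j.hom)
    obtain ⟨t₀, ht₀⟩ := pre_surj hW₀ s₀
    have hz : β ≫ (adjG.counit.app P)⟦(1 : ℤ)⟧' = 0 := comp_distTriang_mor_zero₃₁ _ mem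
    rw [← cancel_mono j.hom, zero_comp, hs', Category.assoc, ← hs₀, ← ht₀, Functor.map_comp,
      ← Category.assoc, hz, zero_comp]
  exact (Triangle.isZero₃_iff_isIso₁ _ mem).1 hK

omit [Preadditive D] [HasZeroObject D] [HasShift D ℤ] [∀ n : ℤ, (shiftFunctor D n).Additive]
  [Pretriangulated D] [Preadditive D'] [HasShift D' ℤ] [∀ n : ℤ, (shiftFunctor D' n).Additive]
  [F.CommShift ℤ] in
lemma comp_unit {P A : D} (t : P ⟶ A) :
    t ≫ adjH.unit.app A = adjH.homEquiv P (F.obj A) (F.map t) := by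
  rw [Adjunction.homEquiv_unit, adjH.unit_naturality]

omit [Preadditive D'] [∀ n : ℤ, (shiftFunctor D' n).Additive] in
include adjG h3 h4 in
lemma bijOn_all {P : D} (hP : InP S P) (A : D) : BijOn F P A := by
  have := counit_isIso adjG S h3 h4 hP
  constructor
  · intro t t' h
    change F.map t = F.map t' at h
    rw [← cancel_epi (adjG.counit.app P), counit_comp, counit_comp, h]
  · intro g
    refine ⟨inv (adjG.counit.app P) ≫ (adjG.homEquiv _ _).symm g, ?_⟩
    apply (adjG.homEquiv _ _).symm.injective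
    change (adjG.homEquiv _ _).symm (F.map _) = _
    rw [← counit_comp, IsIso.hom_inv_id_assoc]

omit [Preadditive D'] [∀ n : ℤ, (shiftFunctor D' n).Additive] in
include adjG h2 h3 h4 in
lemma unit_isIso (A : D) : IsIso (adjH.unit.app A) := by
  obtain ⟨K, α, β, mem⟩ := distinguished_cocone_triangle (adjH.unit.app A)
  have post_inj : ∀ {P : D}, InP S P → ∀ t t' : P ⟶ A,
      t ≫ adjH.unit.app A = t' ≫ adjH.unit.app A → t = t' := by
    intro P hP t t' h
    rw [comp_unit, comp_unit] at h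
    exact (bijOn_all adjG S h3 h4 hP A).1 ((adjH.homEquiv _ _).injective h)
  have post_surj : ∀ {P : D}, InP S P → ∀ g : P ⟶ H.obj (F.obj A),
      ∃ t : P ⟶ A, t ≫ adjH.unit.app A = g := by
    intro P hP g
    obtain ⟨t, ht⟩ := (bijOn_all adjG S h3 h4 hP A).2 ((adjH.homEquiv _ _).symm g)
    change F.map t = _ at ht
    exact ⟨t, by rw [comp_unit, ht, Equiv.apply_symm_apply]⟩
  have hPK : ∀ {P : D}, InP S P → ∀ s : P ⟶ K, s = 0 := by
    intro P hP s
    obtain ⟨P₀, hP₀, ⟨j⟩⟩ := inP_unshift hP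
    have hz : β ≫ (adjH.unit.app A)⟦(1 : ℤ)⟧' = 0 := comp_distTriang_mor_zero₃₁ _ mem
    obtain ⟨u, hu⟩ := (shiftFunctor D (1 : ℤ)).map_surjective (j.inv ≫ s ≫ β)
    have hu0 : u = 0 := by
      apply post_inj hP₀
      apply (shiftFunctor D (1 : ℤ)).map_injective
      rw [Functor.map_comp, hu, Category.assoc, Category.assoc, hz, comp_zero, comp_zero,
        zero_comp, Functor.map_zero]
    have hsβ : s ≫ β = 0 := by
      rw [← cancel_epi j.inv, comp_zero, ← hu, hu0, Functor.map_zero]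
    obtain ⟨s', hs'⟩ : ∃ s' : P ⟶ H.obj (F.obj A), s = s' ≫ α :=
      Triangle.coyoneda_exact₃ _ mem s hsβ
    obtain ⟨t, ht⟩ := post_surj hP s'
    have hz' : adjH.unit.app A ≫ α = 0 := comp_distTriang_mor_zero₁₂ _ mem
    rw [hs', ← ht, Category.assoc, hz', comp_zero]
  have hK : IsZero K := by
    apply h2
    intro E hE i f
    have hP : InP S (E⟦-i⟧) := ⟨E, hE, -i, ⟨Iso.refl _⟩⟩
    have h0 := hPK hP (f⟦-i⟧' ≫ (shiftFunctorCompIsoId D i (-i) (by omega)).hom.app K)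
    apply (shiftFunctor D (-i)).map_injective
    rw [Functor.map_zero]
    rw [← cancel_mono ((shiftFunctorCompIsoId D i (-i) (by omega)).hom.app K), zero_comp]
    exact h0
  exact (Triangle.isZero₃_iff_isIso₁ _ mem).1 hK

end


open CategoryTheory.Limits CategoryTheory.Pretriangulated in
/-- Let F : D ⥤ D' be an exact functor of triangulated categories admitting both a left and a right
adjoint, and let S be a set of objects of D such that an object K of D is zero as soon as Hom(E,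
K⟦i⟧) = 0 for all E ∈ S and i ∈ ℤ, and also as soon as Hom(K, E⟦i⟧) = 0 for all E ∈ S and i ∈ ℤ. If
for all E, E' ∈ S and i ∈ ℤ the map Hom(E, E'⟦i⟧) → Hom(F E, F (E'⟦i⟧)) given by F is bijective,
then F is full and faithful. -/
theorem result
    {D : Type u} [Category.{v} D] [Preadditive D] [HasZeroObject D] [HasShift D ℤ]
    [∀ n : ℤ, (shiftFunctor D n).Additive] [Pretriangulated D] [IsTriangulated D]
    {D' : Type u'} [Category.{v'} D'] [Preadditive D'] [HasZeroObject D'] [HasShift D' ℤ]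
    [∀ n : ℤ, (shiftFunctor D' n).Additive] [Pretriangulated D'] [IsTriangulated D']
    (F : D ⥤ D') [F.CommShift ℤ] [F.IsTriangulated] [F.IsLeftAdjoint] [F.IsRightAdjoint]
    (S : Set D)
    (h2 : ∀ K : D, (∀ E ∈ S, ∀ (i : ℤ) (f : E ⟶ (shiftFunctor D i).obj K), f = 0) → IsZero K)
    (h3 : ∀ K : D, (∀ E ∈ S, ∀ (i : ℤ) (f : K ⟶ (shiftFunctor D i).obj E), f = 0) → IsZero K)
    (h4 : ∀ E ∈ S, ∀ E' ∈ S, ∀ i : ℤ,
      Function.Bijective (fun f : E ⟶ (shiftFunctor D i).obj E' => F.map f)) :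
    F.Full ∧ F.Faithful := by
  let adjG := Adjunction.ofIsRightAdjoint F
  let adjH := Adjunction.ofIsLeftAdjoint F
  have : ∀ A, IsIso (adjH.unit.app A) := fun A => unit_isIso adjG adjH S h2 h3 h4 A
  have : IsIso adjH.unit := NatIso.isIso_of_isIso_app _
  exact ⟨adjH.fullyFaithfulLOfIsIsoUnit.full, adjH.fullyFaithfulLOfIsIsoUnit.faithful⟩

end Groth.Agent.S6703
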