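import Groth.Statements.S6705
-- import your own Groth.Agent.* helpers here
import Groth.Agent.Lib.Helper32.BoundedDb

set_option autoImplicit false
universe w v u v' u'
open CategoryTheory
open DEquiv

namespace Groth.Agent.S6705



open CategoryTheory.Limits CategoryTheory.Pretriangulated in
/-- Let A be an abelian category, D a triangulated category, and F, F' : D^b(A) ⥤ D exact functors of
triangulated categories which are siblings: their restrictions to A (objects in degree 0) are
isomorphic functors and F K ≅ F' K for every K. If F is fully faithful, then F' is fully faithful.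
(That essential surjectivity likewise passes from F to F' is immediate from the second sibling
condition and is not stated.) -/
theorem result
    {A : Type u} [Category.{v} A] [Abelian A] [HasDerivedCategory.{w} A]
    {D : Type u'} [Category.{v'} D] [Preadditive D] [HasZeroObject D] [HasShift D ℤ]
    [∀ n : ℤ, (shiftFunctor D n).Additive] [Pretriangulated D] [IsTriangulated D]
    (F F' : DerivedCategory.Bounded A ⥤ D) [F.CommShift ℤ] [F.IsTriangulated]
    [F'.CommShift ℤ] [F'.IsTriangulated]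
    (h1 : Nonempty (DEquiv.singleB A ⋙ F ≅ DEquiv.singleB A ⋙ F'))
    (h2 : ∀ K : DerivedCategory.Bounded A, Nonempty (F.obj K ≅ F'.obj K))
    [F.Full] [F.Faithful] : F'.Full ∧ F'.Faithful := by
  classical
  obtain ⟨α⟩ := h1
  let θ : ∀ K : DerivedCategory.Bounded A, F.obj K ≅ F'.obj K := fun K => (h2 K).some
  have hα : ∀ {X Y : A} (g : X ⟶ Y), F'.map ((DEquiv.singleB A).map g) =
      α.inv.app X ≫ F.map ((DEquiv.singleB A).map g) ≫ α.hom.app Y := by
    intro X Y g
    have h := α.hom.naturality g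
    have h' : F.map ((DEquiv.singleB A).map g) ≫ α.hom.app Y =
        α.hom.app X ≫ F'.map ((DEquiv.singleB A).map g) := h
    rw [h', Iso.inv_hom_id_app_assoc]
  have hzero : ∀ K L : DerivedCategory.Bounded A, (∀ f : K ⟶ L, f = 0) →
      ∀ w : F'.obj K ⟶ F'.obj L, w = 0 := by
    intro K L h w
    obtain ⟨w', hw'⟩ := F.map_surjective ((θ K).hom ≫ w ≫ (θ L).inv)
    rw [h w', F.map_zero] at hw'
    have h3 : w = (θ K).inv ≫ ((θ K).hom ≫ w ≫ (θ L).inv) ≫ (θ L).hom := by simp
    rw [h3, ← hw', zero_comp, comp_zero]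
  have S0 : ∀ X Y : A, Groth.Agent.Lib.Helper32.Beilinson.Psi F' ((DEquiv.singleB A).obj X)
      ((DEquiv.singleB A).obj Y) := by
    intro X Y
    constructor
    · intro φ₁ φ₂ (h : F'.map φ₁ = F'.map φ₂)
      obtain ⟨g₁, rfl⟩ := (DEquiv.singleB A).map_surjective φ₁
      obtain ⟨g₂, rfl⟩ := (DEquiv.singleB A).map_surjective φ₂
      rw [hα, hα] at h
      have h' : F.map ((DEquiv.singleB A).map g₁) = F.map ((DEquiv.singleB A).map g₂) := by
        have h4 := congrArg (fun x => α.hom.app X ≫ x ≫ α.inv.app Y) h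
        simpa using h4
      rw [F.map_injective h']
    · intro ψ
      obtain ⟨φ, hφ⟩ := F.map_surjective (α.hom.app X ≫ ψ ≫ α.inv.app Y)
      obtain ⟨g, rfl⟩ := (DEquiv.singleB A).map_surjective φ
      refine ⟨(DEquiv.singleB A).map g, ?_⟩
      change F'.map ((DEquiv.singleB A).map g) = ψ
      rw [hα, hφ]
      simp
  have Sneg : ∀ (q : ℤ), q < 0 → ∀ X Y : A,
      Groth.Agent.Lib.Helper32.Beilinson.Psi F' ((DEquiv.singleB A).obj X)
        (((DEquiv.singleB A).obj Y)⟦q⟧) := by
    intro q hq X Y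
    have hv : ∀ f : (DEquiv.singleB A).obj X ⟶ ((DEquiv.singleB A).obj Y)⟦q⟧, f = 0 := fun f =>
      Groth.Agent.Lib.Helper32.BoundedDb.hom_eq_zero 0 (-q) (by omega)
        (inferInstanceAs (((DerivedCategory.singleFunctor A 0).obj X).IsLE 0))
        (Groth.Agent.Lib.Helper32.BoundedDb.isGE_singleB_shift Y q) f
    exact ⟨fun φ₁ φ₂ _ => (hv φ₁).trans (hv φ₂).symm,
      fun ψ => ⟨0, (F'.map_zero _ _).trans (hzero _ _ hv ψ).symm⟩⟩
  have Spos : ∀ (n : ℕ) (X Y : A),
      Groth.Agent.Lib.Helper32.Beilinson.Psi F' ((DEquiv.singleB A).obj X)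
        (((DEquiv.singleB A).obj Y)⟦(n : ℤ)⟧) := by
    intro n
    induction n with
    | zero =>
      intro X Y
      exact (S0 X Y).of_iso (Iso.refl _)
        ((shiftFunctorZero (DerivedCategory.Bounded A) ℤ).app _).symm
    | succ n ih =>
      intro X Y
      have hsh : ∀ X'' : A, Groth.Agent.Lib.Helper32.Beilinson.Psi F'
          (((DEquiv.singleB A).obj X'')⟦(1 : ℤ)⟧)
          (((DEquiv.singleB A).obj Y)⟦((n + 1 : ℕ) : ℤ)⟧) := fun X'' =>
        ((ih X'' Y).shift 1).of_iso (Iso.refl _)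
          ((shiftFunctorAdd' (DerivedCategory.Bounded A) (n : ℤ) 1 ((n + 1 : ℕ) : ℤ)
            (by push_cast; ring)).app ((DEquiv.singleB A).obj Y)).symm
      have efface := Groth.Agent.Lib.Helper32.BoundedDb.exists_epi_comp_eq_zero X Y
        ((n + 1 : ℕ) : ℤ) (by push_cast; omega)
      constructor
      · intro ξ₁ ξ₂ (hξ : F'.map ξ₁ = F'.map ξ₂)
        have h0 : F'.map (ξ₁ - ξ₂) = 0 := by rw [F'.map_sub, hξ, sub_self]
        suffices ξ₁ - ξ₂ = 0 from sub_eq_zero.1 this
        obtain ⟨X', p, hp, hpξ⟩ := efface (ξ₁ - ξ₂)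
        haveI := hp
        obtain ⟨K, i, δ, hT⟩ := Groth.Agent.Lib.Helper32.BoundedDb.exists_triangle_of_epi p
        exact Groth.Agent.Lib.Helper32.Beilinson.inj_of_efface _ hT _ (hsh K).1 (hsh X').2
          (ξ₁ - ξ₂) hpξ h0
      · intro t
        obtain ⟨ξ, hξ⟩ := F.map_surjective (α.hom.app X ≫ t ≫ (θ _).inv)
        obtain ⟨X', p, hp, hpξ⟩ := efface ξ
        haveI := hp
        obtain ⟨K, i, δ, hT⟩ := Groth.Agent.Lib.Helper32.BoundedDb.exists_triangle_of_epi p
        have ht : F'.map ((DEquiv.singleB A).map p) ≫ t = 0 := by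
          have h3 : α.hom.app X ≫ t = F.map ξ ≫ (θ _).hom := by
            rw [hξ]
            simp
          rw [hα p]
          simp only [Category.assoc]
          rw [h3, ← F.map_comp_assoc, hpξ, F.map_zero, zero_comp, comp_zero]
        exact Groth.Agent.Lib.Helper32.Beilinson.surj_of_efface _ hT _ (hsh K).2 t ht
  have Sall : ∀ (q : ℤ) (X Y : A),
      Groth.Agent.Lib.Helper32.Beilinson.Psi F' ((DEquiv.singleB A).obj X)
        (((DEquiv.singleB A).obj Y)⟦q⟧) := by
    intro q X Y
    rcases lt_or_ge q 0 with h | h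
    · exact Sneg q h X Y
    · obtain ⟨n, rfl⟩ := Int.eq_ofNat_of_zero_le h
      exact Spos n X Y
  have hPhiS : ∀ X Y : A, Groth.Agent.Lib.Helper32.Beilinson.Phi F'
      ((DEquiv.singleB A).obj X) ((DEquiv.singleB A).obj Y) := fun X Y =>
    Groth.Agent.Lib.Helper32.Beilinson.Phi.of_forall_shift (fun n => Sall n X Y)
  have hPhi1 : ∀ (X : A) (L : DerivedCategory.Bounded A),
      Groth.Agent.Lib.Helper32.Beilinson.Phi F' ((DEquiv.singleB A).obj X) L := by
    intro X
    exact Groth.Agent.Lib.Helper32.BoundedDb.prop_of_boundedB _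
      (fun e h => h.of_iso (Iso.refl _) e)
      (fun Z hZ => Groth.Agent.Lib.Helper32.Beilinson.Phi.of_isZero_right _ hZ)
      (fun T hT h₁ h₃ => Groth.Agent.Lib.Helper32.Beilinson.Phi.ext₂_right T hT _ h₁ h₃)
      (fun M q => (hPhiS X M).shift_right q)
  have hPhi : ∀ (L K : DerivedCategory.Bounded A),
      Groth.Agent.Lib.Helper32.Beilinson.Phi F' K L := by
    intro L
    exact Groth.Agent.Lib.Helper32.BoundedDb.prop_of_boundedB _
      (fun e h => h.of_iso e (Iso.refl _))
      (fun Z hZ => Groth.Agent.Lib.Helper32.Beilinson.Phi.of_isZero_left hZ _)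
      (fun T hT h₁ h₃ => Groth.Agent.Lib.Helper32.Beilinson.Phi.ext₂_left T hT _ h₁ h₃)
      (fun M q => (hPhi1 M L).shift_left q)
  exact ⟨⟨fun {X Y} => (hPhi Y X).psi.2⟩, ⟨fun {X Y} => (hPhi Y X).psi.1⟩⟩

end Groth.Agent.S6705
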