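import Groth.Statements.S6707
import Mathlib.Algebra.Homology.DerivedCategory.TStructure
import Mathlib.Algebra.Homology.DerivedCategory.HomologySequence
import Mathlib.Algebra.Homology.Refinements

set_option autoImplicit false
universe w v u
open CategoryTheory
open DEquiv

namespace Groth.Agent.S6707

section Helpers

open CategoryTheory.Limits

variable {A : Type u} [Category.{v} A] [Abelian A]

/-- A chain map from a complex concentrated in degree `b` which is an epimorphism in degree `b`
induces an epimorphism on `H^b`. -/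
lemma epi_homologyMap_of_single (b : ℤ) (N : A) (M : CochainComplex A ℤ)
    (ψ : (HomologicalComplex.single A (ComplexShape.up ℤ) b).obj N ⟶ M) (hψ : Epi (ψ.f b)) :
    Epi (HomologicalComplex.homologyMap ψ b) := by
  rw [HomologicalComplex.epi_homologyMap_iff_up_to_refinements ψ (b - 1) b (b + 1)
    (by simp) (by simp)]
  intro T y hy
  obtain ⟨T', π, hπ, x, hx⟩ := surjective_up_to_refinements_of_epi (ψ.f b) y
  refine ⟨T', π, hπ, x, by simp, 0, ?_⟩
  rw [hx, zero_comp, add_zero]

end Helpers

open CategoryTheory.Limits in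
/-- Let A be an abelian category in which every object X is the target of an epimorphism N ⟶ X with
Hom(X, N) = 0. Let f : X ⟶ X' be a morphism between bounded objects of D(A) and b an integer with
H^i(X) = 0 for i > b and H^i(X') = 0 for i ≥ b. Then there exist an object N of A and a morphism
N⟦-b⟧ ⟶ X (N placed in degree b) inducing an epimorphism N ⟶ H^b(X), with Hom(H^b(X), N) = 0, and
whose composite with f is zero. -/
theorem result
    {A : Type u} [Category.{v} A] [Abelian A] [HasDerivedCategory.{w} A]
    (hneg : ∀ X : A, ∃ (N : A) (p : N ⟶ X), Epi p ∧ ∀ f : X ⟶ N, f = 0)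
    (X X' : DerivedCategory A) (f : X ⟶ X') (a b a' : ℤ) [X.IsGE a] [X.IsLE b] [X'.IsGE a']
    [X'.IsLE (b - 1)] :
    ∃ (N : A) (g : (DerivedCategory.singleFunctor A b).obj N ⟶ X),
      Epi ((DerivedCategory.homologyFunctor A b).map g) ∧
        (∀ φ : (DerivedCategory.homologyFunctor A b).obj X ⟶ N, φ = 0) ∧ g ≫ f = 0 := by
  -- the fibre of `f`
  obtain ⟨F, i, δ, hT⟩ := Pretriangulated.distinguished_cocone_triangle₁ f
  have hF : F.IsLE b := by
    rw [DerivedCategory.isLE_iff]
    intro k hk
    exact (DerivedCategory.HomologySequence.exact₁ _ hT (k - 1) k (by omega)).isZero_X₂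
      (IsZero.eq_of_src (X'.isZero_of_isLE (b - 1) (k - 1) (by omega)) _ _)
      (IsZero.eq_of_tgt (X.isZero_of_isLE b k hk) _ _)
  have hi : Epi ((DerivedCategory.homologyFunctor A b).map i) :=
    (DerivedCategory.HomologySequence.exact₂ _ hT b).epi_f
      (IsZero.eq_of_tgt (X'.isZero_of_isLE (b - 1) b (by omega)) _ _)
  obtain ⟨L, hL, ⟨e⟩⟩ := F.exists_iso_Q_obj_of_isLE b
  -- the inclusion of the top term of `L`
  let φ : (HomologicalComplex.single A (ComplexShape.up ℤ) b).obj (L.X b) ⟶ L :=
    HomologicalComplex.mkHomFromSingle (𝟙 _) (fun k hk =>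
      IsZero.eq_of_tgt (L.isZero_of_isStrictlyLE b k (by
        have : b + 1 = k := hk
        omega)) _ _)
  obtain ⟨N, p, hp, hN⟩ := hneg (L.X b ⊞ (DerivedCategory.homologyFunctor A b).obj X)
  let ψ : (HomologicalComplex.single A (ComplexShape.up ℤ) b).obj N ⟶ L :=
    (HomologicalComplex.single A (ComplexShape.up ℤ) b).map (p ≫ biprod.fst) ≫ φ
  have hψ : Epi (ψ.f b) := by
    have e1 : ψ.f b = (HomologicalComplex.singleObjXSelf (ComplexShape.up ℤ) b N).hom ≫
        (p ≫ biprod.fst) := by
      dsimp [ψ, φ]
      rw [HomologicalComplex.single_map_f_self, HomologicalComplex.mkHomFromSingle_f]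
      simp
    rw [e1]
    infer_instance
  have hψ' : Epi ((DerivedCategory.homologyFunctor A b).map (DerivedCategory.Q.map ψ)) := by
    have h1 := epi_homologyMap_of_single b N L ψ hψ
    have h2 := (DerivedCategory.homologyFunctorFactors A b).hom.naturality ψ
    have h1' : Epi ((HomologicalComplex.homologyFunctor A (ComplexShape.up ℤ) b).map ψ) := h1
    have h3 : (DerivedCategory.homologyFunctor A b).map (DerivedCategory.Q.map ψ) =
        ((DerivedCategory.homologyFunctorFactors A b).hom.app _ ≫
          (HomologicalComplex.homologyFunctor A (ComplexShape.up ℤ) b).map ψ) ≫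
            (DerivedCategory.homologyFunctorFactors A b).inv.app L := by
      rw [← h2, Category.assoc, Iso.hom_inv_id_app, Category.comp_id]
      rfl
    rw [h3]
    infer_instance
  let g₀ : (DerivedCategory.singleFunctor A b).obj N ⟶ F := DerivedCategory.Q.map ψ ≫ e.inv
  refine ⟨N, g₀ ≫ i, ?_, ?_, ?_⟩
  · have e1 : (DerivedCategory.homologyFunctor A b).map (g₀ ≫ i) =
        (DerivedCategory.homologyFunctor A b).map (DerivedCategory.Q.map ψ) ≫
          (DerivedCategory.homologyFunctor A b).map e.inv ≫
            (DerivedCategory.homologyFunctor A b).map i := by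
      rw [← Functor.map_comp, ← Functor.map_comp]
      exact congrArg _ (Category.assoc _ _ _)
    rw [e1]
    have h4 : Epi ((DerivedCategory.homologyFunctor A b).map e.inv ≫
        (DerivedCategory.homologyFunctor A b).map i) := epi_comp _ _
    exact epi_comp' hψ' h4
  · intro θ
    have := hN (biprod.snd ≫ θ)
    rw [← cancel_epi (biprod.snd : L.X b ⊞ (DerivedCategory.homologyFunctor A b).obj X ⟶ _),
      this, comp_zero]
  · rw [Category.assoc]
    have : i ≫ f = 0 := Pretriangulated.comp_distTriang_mor_zero₁₂ _ hT
    rw [this, comp_zero]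

end Groth.Agent.S6707
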