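import Groth.Statements.S6708

set_option autoImplicit false
universe v u
open CategoryTheory
open DEquiv

namespace Groth.Agent.S6708

open CategoryTheory.Limits CategoryTheory.Pretriangulated in
/-- Let D be a pretriangulated category, D' ⊆ D a full triangulated subcategory (given as a property of
objects that is triangulated in Mathlib's sense) and X an object of D. Then the category of arrows E
⟶ X with E in D' is filtered. -/
theorem result
    {D : Type u} [Category.{v} D] [Preadditive D] [HasZeroObject D] [HasShift D ℤ]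
    [∀ n : ℤ, (shiftFunctor D n).Additive] [Pretriangulated D]
    (P : ObjectProperty D) [P.IsTriangulated] (X : D) :
    IsFiltered (CostructuredArrow P.ι X) := by
  -- a convenient constructor for objects
  let mkObj : ∀ (E : D) (_ : P E) (_ : E ⟶ X), CostructuredArrow P.ι X := fun E hE a =>
    CostructuredArrow.mk (Y := (⟨E, hE⟩ : P.FullSubcategory)) a
  have : Nonempty (CostructuredArrow P.ι X) := by
    obtain ⟨Z, hZ, hPZ⟩ := P.exists_prop_of_containsZero
    exact ⟨mkObj Z hPZ 0⟩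
  refine { cocone_objs := ?_, cocone_maps := ?_ }
  · rintro ⟨⟨E₁, h₁⟩, ⟨⟨⟩⟩, a₁⟩ ⟨⟨E₂, h₂⟩, ⟨⟨⟩⟩, a₂⟩
    dsimp at a₁ a₂
    obtain ⟨Y, hY, ⟨e'⟩⟩ := P.ext_of_isTriangulatedClosed₂' _
      (binaryBiproductTriangle_distinguished E₁ E₂) h₁ h₂
    let e : E₁ ⊞ E₂ ≅ Y := e'
    refine ⟨mkObj Y hY (e.inv ≫ biprod.desc a₁ a₂),
      CostructuredArrow.homMk (ObjectProperty.homMk (biprod.inl ≫ e.hom)) ?_,
      CostructuredArrow.homMk (ObjectProperty.homMk (biprod.inr ≫ e.hom)) ?_, trivial⟩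
    · change (biprod.inl ≫ e.hom) ≫ e.inv ≫ biprod.desc a₁ a₂ = a₁
      rw [Category.assoc, e.hom_inv_id_assoc, biprod.inl_desc]
    · change (biprod.inr ≫ e.hom) ≫ e.inv ≫ biprod.desc a₁ a₂ = a₂
      rw [Category.assoc, e.hom_inv_id_assoc, biprod.inr_desc]
  · rintro ⟨⟨E₁, h₁⟩, ⟨⟨⟩⟩, a₁⟩ ⟨⟨E₂, h₂⟩, ⟨⟨⟩⟩, a₂⟩ f g
    dsimp at a₁ a₂
    have hf : f.left.hom ≫ a₂ = a₁ := CostructuredArrow.w f
    have hg : g.left.hom ≫ a₂ = a₁ := CostructuredArrow.w g
    obtain ⟨C, hC, b, c, hT⟩ := P.distinguished_cocone_triangle (f.left.hom - g.left.hom) h₁ h₂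
    have hzero : (f.left.hom - g.left.hom) ≫ a₂ = 0 := by
      rw [Preadditive.sub_comp, hf, hg, sub_self]
    obtain ⟨a₃, ha₃⟩ := Triangle.yoneda_exact₂ _ hT a₂ hzero
    refine ⟨mkObj C hC a₃, CostructuredArrow.homMk (ObjectProperty.homMk b) ha₃.symm, ?_⟩
    apply CostructuredArrow.hom_ext
    apply ObjectProperty.hom_ext
    change f.left.hom ≫ b = g.left.hom ≫ b
    have : (f.left.hom - g.left.hom) ≫ b = 0 := comp_distTriang_mor_zero₁₂ _ hT
    rw [Preadditive.sub_comp, sub_eq_zero] at this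
    exact this

end Groth.Agent.S6708
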