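import Groth.Statements.S6709
import Groth.Agent.Lib.Helper83.BvdB
import Mathlib
-- import your own Groth.Agent.* helpers here

set_option autoImplicit false
universe w v u
open CategoryTheory
open DEquiv

namespace Groth.Agent.S6709

open CategoryTheory.Limits CategoryTheory.Pretriangulated Opposite
  Groth.Agent.Lib.Helper83.BvdB

/-- In a finite dimensional vector space, a system of linear equations is solvable as soon as all
its finite subsystems are. -/
lemma exists_solution_of_finite {k V : Type*} [Field k] [AddCommGroup V] [Module k V]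
    [FiniteDimensional k V]
    {I : Type*} {W : I → Type*} [∀ i, AddCommGroup (W i)] [∀ i, Module k (W i)]
    (L : ∀ i, V →ₗ[k] W i) (w : ∀ i, W i)
    (hfin : ∀ F : Finset I, ∃ y, ∀ i ∈ F, L i y = w i) : ∃ y, ∀ i, L i y = w i := by
  classical
  let Kf : Finset I → Submodule k V := fun F => ⨅ i ∈ F, LinearMap.ker (L i)
  obtain ⟨n, ⟨F₀, rfl⟩, hmin⟩ := wellFounded_lt.has_min
    (Set.range (fun F => Module.finrank k (Kf F))) ⟨_, ⟨∅, rfl⟩⟩
  obtain ⟨y₀, hy₀⟩ := hfin F₀
  refine ⟨y₀, fun j => ?_⟩
  obtain ⟨y₁, hy₁⟩ := hfin (insert j F₀)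
  have hle : Kf (insert j F₀) ≤ Kf F₀ := by
    intro x hx
    simp only [Kf, Submodule.mem_iInf] at hx ⊢
    exact fun i hi => hx i (Finset.mem_insert_of_mem hi)
  have heq : Kf (insert j F₀) = Kf F₀ :=
    Submodule.eq_of_le_of_finrank_le hle (not_lt.mp (hmin _ ⟨_, rfl⟩))
  have hmem : y₁ - y₀ ∈ Kf F₀ := by
    simp only [Kf, Submodule.mem_iInf, LinearMap.mem_ker]
    intro i hi
    rw [map_sub, hy₁ i (Finset.mem_insert_of_mem hi), hy₀ i hi, sub_self]
  rw [← heq] at hmem
  have h2 : L j (y₁ - y₀) = 0 := by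
    simp only [Kf, Submodule.mem_iInf, LinearMap.mem_ker] at hmem
    exact hmem j (Finset.mem_insert_self j F₀)
  rw [map_sub, hy₁ j (Finset.mem_insert_self j F₀), sub_eq_zero] at h2
  exact h2.symm


open CategoryTheory.Limits CategoryTheory.Pretriangulated Opposite in
/-- Let k be a field and D a k-linear triangulated category with arbitrary direct sums which is
compactly generated; write D_c for the full subcategory of compact objects. Let H be a contravariant
k-linear functor from D_c to k-vector spaces which is cohomological (for every distinguished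
triangle X ⟶ Y ⟶ Z of D with X, Y, Z compact, H(Z) ⟶ H(Y) ⟶ H(X) is exact) and such that every H(X)
is finite-dimensional. One can then find an object Y of D for which H becomes isomorphic to X ↦
Hom(X, Y), the functor represented by Y on compact objects (existence of such Y and of an
isomorphism of functors). -/
theorem result
    {k : Type w} [Field k]
    {D : Type u} [Category.{v} D] [Preadditive D] [Linear k D] [HasZeroObject D] [HasShift D ℤ]
    [∀ n : ℤ, (shiftFunctor D n).Additive] [∀ n : ℤ, (shiftFunctor D n).Linear k]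
    [Pretriangulated D] [IsTriangulated D] [HasCoproducts.{v} D]
    (hD : CohDer.IsCompactlyGenerated D)
    (H : (ObjectProperty.FullSubcategory (fun K : D => CohDer.IsCompactObject K))ᵒᵖ ⥤ ModuleCat.{v} k)
    [H.Additive]
    (hlin : ∀ (X Y : ObjectProperty.FullSubcategory (fun K : D => CohDer.IsCompactObject K))
      (r : k) (f : X ⟶ Y), H.map (r • f).op = r • H.map f.op)
    (hcoh : ∀ T ∈ distTriang D, ∀ (h₁ : CohDer.IsCompactObject T.obj₁)
      (h₂ : CohDer.IsCompactObject T.obj₂) (h₃ : CohDer.IsCompactObject T.obj₃)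
      (y : H.obj (op ⟨T.obj₂, h₂⟩)),
      H.map (ObjectProperty.homMk T.mor₁ : (⟨T.obj₁, h₁⟩ : ObjectProperty.FullSubcategory
          (fun K : D => CohDer.IsCompactObject K)) ⟶ ⟨T.obj₂, h₂⟩).op y = 0 →
        ∃ z : H.obj (op ⟨T.obj₃, h₃⟩),
          H.map (ObjectProperty.homMk T.mor₂ : (⟨T.obj₂, h₂⟩ : ObjectProperty.FullSubcategory
            (fun K : D => CohDer.IsCompactObject K)) ⟶ ⟨T.obj₃, h₃⟩).op z = y)
    (hfin : ∀ X, Module.Finite k (H.obj X)) :
    ∃ Y : D, Nonempty (H ≅ (ObjectProperty.ι _).op ⋙ (linearYoneda k D).obj Y) := by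

  classical
  let K : CptFun D :=
    { h := fun C => H.obj (op C)
      grp := fun C => inferInstance
      res := fun {C C'} a => (H.map (ObjectProperty.homMk a : C' ⟶ C).op).hom.toAddMonoidHom
      res_id := fun C y => by
        have h1 : (ObjectProperty.homMk (𝟙 C.obj) : C ⟶ C) = 𝟙 C := rfl
        change (H.map (ObjectProperty.homMk (𝟙 C.obj) : C ⟶ C).op).hom y = y
        rw [h1, op_id, H.map_id]
        rfl
      res_comp := fun {C C' C''} a b y => by
        have h1 : (ObjectProperty.homMk (a ≫ b) : C'' ⟶ C) =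
            (ObjectProperty.homMk a : C'' ⟶ C') ≫ (ObjectProperty.homMk b : C' ⟶ C) := rfl
        change (H.map (ObjectProperty.homMk (a ≫ b) : C'' ⟶ C).op).hom y = _
        rw [h1, op_comp, H.map_comp]
        rfl
      res_sub := fun {C C'} a b y => by
        have h1 : (ObjectProperty.homMk (a - b) : C' ⟶ C) =
            (ObjectProperty.homMk a : C' ⟶ C) - (ObjectProperty.homMk b : C' ⟶ C) := rfl
        change (H.map (ObjectProperty.homMk (a - b) : C' ⟶ C).op).hom y = _
        rw [h1, op_sub, H.map_sub]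
        rfl
      exact := fun T hT h₁ h₂ h₃ y hy => hcoh T hT h₁ h₂ h₃ y hy
      lc := fun C₀ I Ci a y hfinite => by
        have := hfin (op C₀)
        exact exists_solution_of_finite (k := k) (V := H.obj (op C₀))
          (W := fun i => H.obj (op (Ci i)))
          (fun i => (H.map (ObjectProperty.homMk (a i) : Ci i ⟶ C₀).op).hom) y hfinite }
  obtain ⟨Y, α, hα⟩ := exists_rep K hD
  -- the linear equivalences
  have hsmul : ∀ (C : Dc D) (r : k) (g : C.obj ⟶ Y), α.app C (r • g) = r • α.app C g := by
    intro C r g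
    have h1 : r • g = (r • 𝟙 C.obj) ≫ g := by rw [Linear.smul_comp, Category.id_comp]
    have h2 : (ObjectProperty.homMk (r • 𝟙 C.obj) : C ⟶ C) = r • 𝟙 C := rfl
    rw [h1, α.nat]
    change (H.map (ObjectProperty.homMk (r • 𝟙 C.obj) : C ⟶ C).op).hom (α.app C g) = _
    rw [h2, hlin C C r (𝟙 C), op_id, H.map_id]
    rfl
  let e : ∀ C : Dc D, (C.obj ⟶ Y) ≃ₗ[k] H.obj (op C) := fun C =>
    LinearEquiv.ofBijective
      { toFun := fun g => α.app C g
        map_add' := fun g g' => map_add _ g g'
        map_smul' := fun r g => hsmul C r g } (hα C)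
  refine ⟨Y, ⟨(NatIso.ofComponents (fun X => (e X.unop).toModuleIso) ?_).symm⟩⟩
  intro X X' f
  ext g
  exact α.nat (C := X.unop) (C' := X'.unop) f.unop.hom g
end Groth.Agent.S6709
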