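import Groth.Statements.S6710
import Mathlib.RingTheory.LocalRing.Module
import Mathlib.RingTheory.Ideal.MinimalPrime.Localization
import Mathlib.RingTheory.Spectrum.Prime.Module
import Mathlib.RingTheory.Nilpotent.Lemmas
import Mathlib.RingTheory.Finiteness.Ideal
import Mathlib.LinearAlgebra.FiniteDimensional.Basic
-- import your own Groth.Agent.* helpers here

set_option autoImplicit false
universe u v
open CategoryTheory
open FunMor

namespace Groth.Agent.S6710

open TensorProduct

section core
variable {B : Type*} [CommRing B] [IsLocalRing B]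

/-- Over a local ring, a nonzero f.p. module `P` has a nonzero map to any module `Q` having an
element `y ≠ 0` killed by a power of each element of the maximal ideal. -/
lemma core {P : Type*} [AddCommGroup P] [Module B P] [Module.FinitePresentation B P] [Nontrivial P]
    {Q : Type*} [AddCommGroup Q] [Module B Q] (y : Q) (hy : y ≠ 0)
    (hnil : ∀ a ∈ IsLocalRing.maximalIdeal B, ∃ k : ℕ, a ^ k • y = 0) :
    ∃ φ : P →ₗ[B] Q, φ ≠ 0 := by
  classical
  let k := IsLocalRing.ResidueField B
  let V := k ⊗[B] P
  haveI : Module.Finite B P := inferInstance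
  haveI : Nontrivial V := by
    rw [← not_subsingleton_iff_nontrivial, IsLocalRing.subsingleton_tensorProduct]
    exact not_subsingleton P
  let n := Module.finrank k V
  have hn : 0 < n := Module.finrank_pos
  let b : Module.Basis (Fin n) k V := Module.finBasis k V
  have hsurj : Function.Surjective (TensorProduct.mk B k P 1) := fun z => by
    obtain ⟨p, hp⟩ := TensorProduct.mk_surjective B P k Ideal.Quotient.mk_surjective z
    exact ⟨p, hp⟩
  choose f hf using fun i => hsurj (b i)
  have hspan : Submodule.span B (Set.range f) = ⊤ :=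
    IsLocalRing.span_eq_top_of_tmul_eq_basis f b hf
  let π : (Fin n → B) →ₗ[B] P := Fintype.linearCombination B f
  have hπ : Function.Surjective π := by
    rw [← LinearMap.range_eq_top, Fintype.range_linearCombination, hspan]
  let K := LinearMap.ker π
  have hKfg : K.FG := Module.FinitePresentation.fg_ker π hπ
  -- relations have coefficients in the maximal ideal
  have hKm : ∀ v ∈ K, ∀ i, v i ∈ IsLocalRing.maximalIdeal B := by
    intro v hv i
    have h0 : π v = 0 := hv
    have h1 : (TensorProduct.mk B k P 1) (π v) = 0 := by rw [h0, map_zero]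
    have h2 : (TensorProduct.mk B k P 1) (π v) = ∑ j, (IsLocalRing.residue B (v j)) • b j := by
      simp only [π, Fintype.linearCombination_apply, map_sum, map_smul, TensorProduct.mk_apply]
      refine Finset.sum_congr rfl fun j _ => ?_
      rw [← hf j, TensorProduct.mk_apply, TensorProduct.smul_tmul', TensorProduct.smul_tmul']
      congr 1
    rw [h2] at h1
    have h3 := (Fintype.linearIndependent_iff.mp b.linearIndependent) _ h1 i
    rwa [IsLocalRing.residue_eq_zero_iff] at h3
  obtain ⟨S, hS⟩ := hKfg
  let T : Set B := ⋃ g ∈ S, Set.range g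
  have hTfin : T.Finite := S.finite_toSet.biUnion fun g _ => Set.finite_range g
  let J : Ideal B := Ideal.span T
  have hJfg : J.FG := ⟨hTfin.toFinset, by simp [J]⟩
  have hKJ : ∀ v ∈ K, ∀ i, v i ∈ J := by
    intro v hv
    rw [← hS] at hv
    induction hv using Submodule.span_induction with
    | mem g hg => exact fun i => Ideal.subset_span (Set.mem_biUnion hg ⟨i, rfl⟩)
    | zero => exact fun i => J.zero_mem
    | add x z _ _ hx hz => exact fun i => J.add_mem (hx i) (hz i)
    | smul a x _ hx => exact fun i => J.mul_mem_left a (hx i)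
  have hTm : T ⊆ IsLocalRing.maximalIdeal B := by
    intro a ha
    obtain ⟨g, hg, i, rfl⟩ := Set.mem_iUnion₂.mp ha
    exact hKm g (hS ▸ Submodule.subset_span hg) i
  let Ann : Ideal B := LinearMap.ker (LinearMap.toSpanSingleton B Q y)
  have hAnn : ∀ c, c ∈ Ann ↔ c • y = 0 := fun c => by
    simp [Ann, LinearMap.mem_ker, LinearMap.toSpanSingleton_apply]
  have hJrad : J ≤ Ann.radical := by
    rw [Ideal.span_le]
    intro a ha
    obtain ⟨m, hm⟩ := hnil a (hTm ha)
    exact ⟨m, (hAnn _).mpr hm⟩
  have hex : ∃ r, J ^ r ≤ Ann := Ideal.exists_pow_le_of_le_radical_of_fg hJrad hJfg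
  have hr0 : Nat.find hex ≠ 0 := by
    intro h0
    have := Nat.find_spec hex
    rw [h0, pow_zero, Ideal.one_eq_top] at this
    exact hy (by simpa using (hAnn 1).mp (this trivial))
  obtain ⟨r', hr'⟩ := Nat.exists_eq_succ_of_ne_zero hr0
  have hnot : ¬ J ^ r' ≤ Ann := Nat.find_min hex (by omega)
  obtain ⟨c, hcJ, hcA⟩ := SetLike.not_le_iff_exists.mp hnot
  have hcy : c • y ≠ 0 := fun h => hcA ((hAnn c).mpr h)
  have hJc : ∀ a ∈ J, (a * c) • y = 0 := by
    intro a ha
    apply (hAnn _).mp
    apply Nat.find_spec hex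
    rw [hr', pow_succ']
    exact Ideal.mul_mem_mul ha hcJ
  let i₀ : Fin n := ⟨0, hn⟩
  let φ₀ : (Fin n → B) →ₗ[B] Q := (LinearMap.toSpanSingleton B Q (c • y)) ∘ₗ (LinearMap.proj i₀)
  have hφ₀ : K ≤ LinearMap.ker φ₀ := by
    intro v hv
    simp only [φ₀, LinearMap.mem_ker, LinearMap.coe_comp, Function.comp_apply, LinearMap.proj_apply,
      LinearMap.toSpanSingleton_apply, smul_smul]
    exact hJc _ (hKJ v hv i₀)
  let e := π.quotKerEquivOfSurjective hπ
  let φ : P →ₗ[B] Q := (K.liftQ φ₀ hφ₀) ∘ₗ e.symm.toLinearMap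
  refine ⟨φ, fun h => hcy ?_⟩
  have h1 : φ (π (Pi.single i₀ 1)) = c • y := by
    have : e.symm (π (Pi.single i₀ 1)) = K.mkQ (Pi.single i₀ 1) := by
      rw [LinearEquiv.symm_apply_eq]; rfl
    simp only [φ, LinearMap.coe_comp, LinearEquiv.coe_coe, Function.comp_apply, this,
      Submodule.mkQ_apply, Submodule.liftQ_apply, φ₀, LinearMap.proj_apply, Pi.single_eq_same,
      LinearMap.toSpanSingleton_apply, one_smul]
  rw [← h1, h, LinearMap.zero_apply]

end core

section main
variable (A : Type u) [CommRing A] (M : Type v) [AddCommGroup M] [Module A M]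
    [Module.FinitePresentation A M] (N : Type v) [AddCommGroup N] [Module A N] [Nontrivial N]

lemma main (h : Module.support A N ⊆ Module.support A M) : Nontrivial (M →ₗ[A] N) := by
  obtain ⟨x, hx⟩ := exists_ne (0 : N)
  let I : Ideal A := LinearMap.ker (LinearMap.toSpanSingleton A N x)
  have hI : ∀ a, a ∈ I ↔ a • x = 0 := fun a => by
    simp [I, LinearMap.mem_ker, LinearMap.toSpanSingleton_apply]
  have hItop : I ≠ ⊤ := fun htop => hx (by simpa using (hI 1).mp (htop ▸ trivial))
  obtain ⟨⟨p, hp⟩⟩ := Ideal.nonempty_minimalPrimes hItop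
  haveI : p.IsPrime := hp.1.1
  have hIp : I ≤ p := hp.1.2
  let Ap := Localization.AtPrime p
  let Mp := LocalizedModule p.primeCompl M
  let Np := LocalizedModule p.primeCompl N
  let y : Np := LocalizedModule.mkLinearMap p.primeCompl N x
  have hy : y ≠ 0 := by
    intro h0
    obtain ⟨s, hs⟩ := (IsLocalizedModule.eq_zero_iff p.primeCompl
      (LocalizedModule.mkLinearMap p.primeCompl N)).mp h0
    exact s.2 (hIp ((hI s).mpr hs))
  -- p is in the support of N hence of M
  have hpN : (⟨p, inferInstance⟩ : PrimeSpectrum A) ∈ Module.support A N := by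
    rw [Module.mem_support_iff]
    exact ⟨⟨y, 0, hy⟩⟩
  have hpM := h hpN
  rw [Module.mem_support_iff] at hpM
  haveI : Nontrivial Mp := hpM
  -- nilpotency
  have hnil : ∀ a ∈ IsLocalRing.maximalIdeal Ap, ∃ k : ℕ, a ^ k • y = 0 := by
    intro a ha
    have hrad := IsLocalization.AtPrime.radical_map_of_mem_minimalPrimes (A := Ap) p I hp
    rw [IsLocalization.AtPrime.map_eq_maximalIdeal p Ap] at hrad
    rw [← hrad] at ha
    obtain ⟨k, hk⟩ := ha
    refine ⟨k, ?_⟩
    let AnnY : Ideal Ap := LinearMap.ker (LinearMap.toSpanSingleton Ap Np y)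
    have hle : I.map (algebraMap A Ap) ≤ AnnY := by
      rw [Ideal.map_le_iff_le_comap]
      intro i hi
      simp only [AnnY, Ideal.mem_comap, LinearMap.mem_ker, LinearMap.toSpanSingleton_apply]
      rw [algebraMap_smul, ← map_smul, (hI i).mp hi, map_zero]
    have := hle hk
    simpa [AnnY, LinearMap.mem_ker, LinearMap.toSpanSingleton_apply] using this
  obtain ⟨ψ, hψ⟩ := core (B := Ap) (P := Mp) (Q := Np) y hy hnil
  let g : M →ₗ[A] Np := (ψ.restrictScalars A) ∘ₗ (LocalizedModule.mkLinearMap p.primeCompl M)
  have hg : g ≠ 0 := by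
    intro h0
    apply hψ
    have h1 : ψ.restrictScalars A = (0 : Mp →ₗ[A] Np) :=
      IsLocalizedModule.ext p.primeCompl (LocalizedModule.mkLinearMap p.primeCompl M)
        (IsLocalizedModule.map_units (LocalizedModule.mkLinearMap p.primeCompl N))
        (by rw [LinearMap.zero_comp]; exact h0)
    ext z
    exact LinearMap.congr_fun h1 z
  obtain ⟨φ, s, hφ⟩ := Module.FinitePresentation.exists_lift_of_isLocalizedModule p.primeCompl
    (LocalizedModule.mkLinearMap p.primeCompl N) g
  refine ⟨⟨φ, 0, fun h0 => hg ?_⟩⟩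
  have hs : s • g = 0 := by rw [← hφ, h0, LinearMap.comp_zero]
  ext m
  have := LinearMap.congr_fun hs m
  simp only [LinearMap.smul_apply, LinearMap.zero_apply] at this ⊢
  have hu := IsLocalizedModule.map_units (LocalizedModule.mkLinearMap p.primeCompl N) s
  apply ((Module.End.isUnit_iff _).mp hu).1
  rw [map_zero]
  exact this

end main


/-- The statement for an affine scheme written in terms of modules: let A be a commutative ring, M a
finitely presented A-module and N a nonzero A-module with Supp(N) ⊆ Supp(M). Then Hom_A(M, N) is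
nonzero. -/
theorem result
    (A : Type u) [CommRing A] (M : Type v) [AddCommGroup M] [Module A M]
    [Module.FinitePresentation A M] (N : Type v) [AddCommGroup N] [Module A N] [Nontrivial N]
    (h : Module.support A N ⊆ Module.support A M) : Nontrivial (M →ₗ[A] N) := by
  exact main A M N h

end Groth.Agent.S6710
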