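import Groth.Statements.S6712
import Groth.Agent.Lib.Helper14.FibreIso

set_option autoImplicit false
universe u
open CategoryTheory AlgebraicGeometry
open DEquiv

namespace Groth.Agent.S6712

open CategoryTheory.Limits in
/-- Let S be a Noetherian scheme, s ∈ S, and p : X ⟶ Y a morphism over S where X ⟶ S and Y ⟶ S are
proper and X ⟶ S is flat. If the fibre X_s ⟶ Y_s of p is an isomorphism, then there is an open
neighbourhood U of s such that the base change X_U ⟶ Y_U of p is an isomorphism. -/
theorem result
    {S X Y : Scheme.{u}} [IsNoetherian S] (s : S) (g : X ⟶ S) (h : Y ⟶ S) (p : X ⟶ Y)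
    (w : p ≫ h = g) [IsProper g] [IsProper h] [Flat g]
    (hs : IsIso (pullback.map g (S.fromSpecResidueField s) h (S.fromSpecResidueField s) p (𝟙 _)
      (𝟙 _) ((Category.comp_id g).trans w.symm)
      ((Category.comp_id _).trans (Category.id_comp _).symm))) :
    ∃ U : S.Opens, s ∈ U ∧
      IsIso (pullback.map g U.ι h U.ι p (𝟙 _) (𝟙 _) ((Category.comp_id g).trans w.symm)
        ((Category.comp_id _).trans (Category.id_comp _).symm)) := by
  subst w
  have hprop : IsProper p := IsProper.of_comp p h
  have hYN : IsLocallyNoetherian Y := LocallyOfFiniteType.isLocallyNoetherian h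
  have hlfp : LocallyOfFinitePresentation p :=
    Groth.Agent.Lib.Helper66.LfpNoeth.locallyOfFinitePresentation_of_isLocallyNoetherian p
  obtain ⟨U, hsU, hU⟩ := Groth.Agent.Lib.Helper14.FibreIso.exists_opens_isIso_restrict p h s
    (Limits.pullback.map (p ≫ h) (S.fromSpecResidueField s) h (S.fromSpecResidueField s) p (𝟙 _)
      (𝟙 _) ((Category.comp_id (p ≫ h)).trans rfl)
      ((Category.comp_id _).trans (Category.id_comp _).symm))
    (Limits.pullback.lift_fst _ _ _)
    ((Limits.pullback.lift_snd _ _ _).trans (Category.comp_id _))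
  refine ⟨U, hsU, ?_⟩
  exact Groth.Agent.Lib.Helper14.FibreIso.isIso_of_isIso_restrict_preimage p h U _
    (Limits.pullback.lift_fst _ _ _)
    ((Limits.pullback.lift_snd _ _ _).trans (Category.comp_id _))

end Groth.Agent.S6712
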