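import Groth.Statements.S6718
import Mathlib.LinearAlgebra.Dual.Lemmas

set_option autoImplicit false
universe w v u
open CategoryTheory
open DEquiv

namespace Groth.Agent.S6718

section

variable {k : Type w} [Field k] {T : Type u} [Category.{v} T] [Preadditive T] [Linear k T]
  [∀ X Y : T, Module.Finite k (X ⟶ Y)]
  (So : T → T) (e : ∀ X Y : T, (Y ⟶ So X) ≃ₗ[k] Module.Dual k (X ⟶ Y))

/-- The trace functional. -/
def tr (X : T) : Module.Dual k (X ⟶ So X) := e X (So X) (𝟙 _)

variable {So e}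
  (he : ∀ (X Y Y' : T) (g : Y' ⟶ Y) (f : Y ⟶ So X),
      e X Y' (g ≫ f) = (e X Y f) ∘ₗ Linear.rightComp k X g)

omit [∀ X Y : T, Module.Finite k (X ⟶ Y)] in
include he in
lemma e_apply {X Y : T} (f : Y ⟶ So X) (h : X ⟶ Y) : e X Y f h = tr So e X (h ≫ f) := by
  have := he X (So X) Y f (𝟙 _)
  rw [Category.comp_id] at this
  rw [this]
  rfl

omit [∀ X Y : T, Module.Finite k (X ⟶ Y)] in
include he in
lemma nondeg {X Y : T} (ψ₁ ψ₂ : Y ⟶ So X)
    (h : ∀ g : X ⟶ Y, tr So e X (g ≫ ψ₁) = tr So e X (g ≫ ψ₂)) : ψ₁ = ψ₂ := by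
  apply (e X Y).injective
  ext g
  rw [e_apply he, e_apply he, h]

omit [∀ X Y : T, Module.Finite k (X ⟶ Y)] in
include he in
lemma repr {X Y : T} (μ : Module.Dual k (X ⟶ Y)) :
    ∃ ψ : Y ⟶ So X, ∀ g : X ⟶ Y, tr So e X (g ≫ ψ) = μ g := by
  refine ⟨(e X Y).symm μ, fun g => ?_⟩
  rw [← e_apply he, LinearEquiv.apply_symm_apply]

variable (So e) in
/-- The action of the Serre functor on morphisms. -/
noncomputable def Smap {X X' : T} (a : X ⟶ X') : So X ⟶ So X' :=
  (e X' (So X)).symm (tr So e X ∘ₗ Linear.leftComp k (So X) a)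

omit [∀ X Y : T, Module.Finite k (X ⟶ Y)] in
include he in
lemma Smap_spec {X X' : T} (a : X ⟶ X') (h : X' ⟶ So X) :
    tr So e X' (h ≫ Smap So e a) = tr So e X (a ≫ h) := by
  rw [← e_apply he, Smap, LinearEquiv.apply_symm_apply]
  rfl

variable (So e) in
/-- The Serre functor. -/
noncomputable def SF : T ⥤ T where
  obj := So
  map a := Smap So e a
  map_id X := by
    apply nondeg he
    intro g
    rw [Smap_spec he, Category.id_comp, Category.comp_id]
  map_comp {X Y Z} a b := by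
    apply nondeg he
    intro g
    rw [Smap_spec he, ← Category.assoc, Smap_spec he, Category.assoc, ← Category.assoc b,
      Smap_spec he]


omit [∀ X Y : T, Module.Finite k (X ⟶ Y)] in
lemma SF_additive : (SF So e he).Additive where
  map_add {X Y a b} := by
    change Smap So e (a + b) = Smap So e a + Smap So e b
    apply nondeg he
    intro g
    rw [Smap_spec he, Preadditive.comp_add, map_add, Smap_spec he, Smap_spec he,
      Preadditive.add_comp, map_add]

omit [∀ X Y : T, Module.Finite k (X ⟶ Y)] in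
lemma SF_linear : letI := SF_additive he; (SF So e he).Linear k :=
  letI := SF_additive he
  { map_smul := fun {X Y} a r => by
      change Smap So e (r • a) = r • Smap So e a
      apply nondeg he
      intro g
      rw [Smap_spec he, Linear.comp_smul, map_smul, Smap_spec he, Linear.smul_comp, map_smul] }

variable (So e) in
/-- The Serre duality pairing. -/
noncomputable def cc (X Y : T) : (X ⟶ Y) ≃ₗ[k] Module.Dual k (Y ⟶ So X) :=
  (Module.evalEquiv k (X ⟶ Y)).trans (e X Y).dualMap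

include he in
lemma cc_apply {X Y : T} (g : X ⟶ Y) (f : Y ⟶ So X) : cc So e X Y g f = tr So e X (g ≫ f) := by
  rw [← e_apply he]
  rfl

include he in
lemma SF_faithful : (SF So e he).Faithful where
  map_injective {X Y} a b hab := by
    apply (cc So e X Y).injective
    ext g
    change Smap So e a = Smap So e b at hab
    rw [cc_apply he, cc_apply he, ← Smap_spec he a g, ← Smap_spec he b g, hab]

include he in
lemma SF_full : (SF So e he).Full where
  map_surjective {X Y} := by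
    let _ := SF_additive he
    let _ := SF_linear he
    let L : (X ⟶ Y) →ₗ[k] (So X ⟶ So Y) := (SF So e he).mapLinearMap k
    have hrank : Module.finrank k (X ⟶ Y) = Module.finrank k (So X ⟶ So Y) := by
      rw [(e Y (So X)).finrank_eq, Subspace.dual_finrank_eq, (e X Y).finrank_eq,
        Subspace.dual_finrank_eq]
    have hinj : Function.Injective L := by
      have := SF_faithful he
      exact (SF So e he).map_injective
    exact (LinearMap.injective_iff_surjective_of_finrank_eq_finrank hrank).1 hinj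

variable (Ro : T → T) (e' : ∀ X Y : T, (Ro X ⟶ Y) ≃ₗ[k] Module.Dual k (Y ⟶ X))

/-- The trace functional on the left-adjoint side. -/
def tr' (X : T) : Module.Dual k (Ro X ⟶ X) := e' X (Ro X) (𝟙 _)

variable {Ro e'}
  (he' : ∀ (X Y Y' : T) (g : Y ⟶ Y') (f : Ro X ⟶ Y),
      e' X Y' (f ≫ g) = (e' X Y f) ∘ₗ Linear.leftComp k X g)

omit [∀ X Y : T, Module.Finite k (X ⟶ Y)] in
include he' in
lemma e'_apply {X Y : T} (f : Ro X ⟶ Y) (h : Y ⟶ X) : e' X Y f h = tr' Ro e' X (f ≫ h) := by
  have := he' X (Ro X) Y f (𝟙 _)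
  rw [Category.id_comp] at this
  rw [this]
  rfl

omit [∀ X Y : T, Module.Finite k (X ⟶ Y)] in
include he' in
lemma nondeg' {X Y : T} (h₁ h₂ : Y ⟶ X)
    (h : ∀ f : Ro X ⟶ Y, tr' Ro e' X (f ≫ h₁) = tr' Ro e' X (f ≫ h₂)) : h₁ = h₂ := by
  rw [← sub_eq_zero, ← Module.forall_dual_apply_eq_zero_iff k]
  intro μ
  obtain ⟨f, rfl⟩ := (e' X Y).surjective μ
  rw [map_sub, e'_apply he', e'_apply he', h f, sub_self]

include he' in
lemma repr' {X Y : T} (μ : Module.Dual k (Ro X ⟶ Y)) :
    ∃ h : Y ⟶ X, ∀ f : Ro X ⟶ Y, tr' Ro e' X (f ≫ h) = μ f := by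
  let Φ : (Y ⟶ X) ≃ₗ[k] Module.Dual k (Ro X ⟶ Y) :=
    (Module.evalEquiv k (Y ⟶ X)).trans (e' X Y).dualMap
  refine ⟨Φ.symm μ, fun f => ?_⟩
  have h1 : Φ (Φ.symm μ) f = μ f := by rw [LinearEquiv.apply_symm_apply]
  rw [← h1, ← e'_apply he']
  rfl

include he he' in
lemma SF_essSurj : (SF So e he).EssSurj where
  mem_essImage X := by
    obtain ⟨ψ, hψ⟩ := repr he (tr' Ro e' X)
    obtain ⟨φ, hφ⟩ := repr' he' (tr So e (Ro X))
    have h1 : φ ≫ ψ = 𝟙 (So (Ro X)) := by
      apply nondeg he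
      intro g
      rw [← Category.assoc, hψ, hφ, Category.comp_id]
    have h2 : ψ ≫ φ = 𝟙 X := by
      apply nondeg' he'
      intro g
      rw [← Category.assoc, hφ, hψ, Category.comp_id]
    exact ⟨Ro X, ⟨⟨φ, ψ, h1, h2⟩⟩⟩

end


open CategoryTheory.Limits CategoryTheory.Pretriangulated in
/-- Let k be a field and T a k-linear (pre)triangulated category with dim_k Hom(X, Y) < ∞ for all X, Y.
The following are equivalent: (1) there are a k-linear equivalence S : T ⥤ T and k-linear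
isomorphisms c_{X,Y} : Hom(X, Y) ≅ Hom(Y, S X)^∨ natural in X and in Y; (2) for every object X the
functor Y ↦ Hom(X, Y)^∨ is representable and the functor Y ↦ Hom(Y, X)^∨ is corepresentable, by
k-linear isomorphisms natural in Y. (Here V^∨ is the k-linear dual.) -/
theorem result
    {k : Type w} [Field k]
    {T : Type u} [Category.{v} T] [Preadditive T] [Linear k T] [HasZeroObject T] [HasShift T ℤ]
    [∀ n : ℤ, (shiftFunctor T n).Additive] [∀ n : ℤ, (shiftFunctor T n).Linear k] [Pretriangulated T]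
    [∀ X Y : T, Module.Finite k (X ⟶ Y)] :
    (∃ (S : T ≌ T) (_ : S.functor.Additive) (_ : S.functor.Linear k)
        (c : ∀ X Y : T, (X ⟶ Y) ≃ₗ[k] Module.Dual k (Y ⟶ S.functor.obj X)),
        (∀ (X Y Y' : T) (f : X ⟶ Y) (g : Y ⟶ Y'),
          c X Y' (f ≫ g) = (c X Y f) ∘ₗ Linear.leftComp k (S.functor.obj X) g) ∧
        (∀ (X' X Y : T) (a : X' ⟶ X) (f : X ⟶ Y),
          c X' Y (a ≫ f) = (c X Y f) ∘ₗ Linear.rightComp k Y (S.functor.map a))) ↔
    ((∀ X : T, ∃ (SX : T) (e : ∀ Y : T, (Y ⟶ SX) ≃ₗ[k] Module.Dual k (X ⟶ Y)),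
        ∀ (Y Y' : T) (g : Y' ⟶ Y) (f : Y ⟶ SX),
          e Y' (g ≫ f) = (e Y f) ∘ₗ Linear.rightComp k X g) ∧
      (∀ X : T, ∃ (RX : T) (e : ∀ Y : T, (RX ⟶ Y) ≃ₗ[k] Module.Dual k (Y ⟶ X)),
        ∀ (Y Y' : T) (g : Y ⟶ Y') (f : RX ⟶ Y),
          e Y' (f ≫ g) = (e Y f) ∘ₗ Linear.leftComp k X g)) := by
  constructor
  · rintro ⟨S, _, _, c, hc₁, hc₂⟩
    have hc₁' : ∀ {X Y Y' : T} (f : X ⟶ Y) (g : Y ⟶ Y') (h : Y' ⟶ S.functor.obj X),
        c X Y' (f ≫ g) h = c X Y f (g ≫ h) := fun f g h => by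
      rw [hc₁]; rfl
    refine ⟨fun X => ⟨S.functor.obj X,
      fun Y => (Module.evalEquiv k (Y ⟶ S.functor.obj X)).trans (c X Y).dualMap, ?_⟩,
      fun X => ⟨S.inverse.obj X, fun Y => (c (S.inverse.obj X) Y).trans
        (Linear.homCongr k (Iso.refl Y) (S.counitIso.app X).symm).dualMap, ?_⟩⟩
    · intro Y Y' g f
      ext h
      change c X Y' h (g ≫ f) = c X Y (h ≫ g) f
      rw [hc₁']
    · intro Y Y' g f
      ext h
      change c (S.inverse.obj X) Y' (f ≫ g)
          (Linear.homCongr k (Iso.refl Y') (S.counitIso.app X).symm h) =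
        c (S.inverse.obj X) Y f
          (Linear.homCongr k (Iso.refl Y) (S.counitIso.app X).symm (g ≫ h))
      rw [hc₁', Linear.homCongr_apply, Linear.homCongr_apply]
      simp
  · rintro ⟨hS, hR⟩
    choose So e he using hS
    choose Ro e' he' using hR
    have : (SF So e he).IsEquivalence :=
      { faithful := SF_faithful he, full := SF_full he, essSurj := SF_essSurj he he' }
    have H1 : ∀ (X Y Y' : T) (f : X ⟶ Y) (g : Y ⟶ Y'),
        cc So e X Y' (f ≫ g) = (cc So e X Y f) ∘ₗ Linear.leftComp k (So X) g := by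
      intro X Y Y' f g
      ext h
      change cc So e X Y' (f ≫ g) h = cc So e X Y f (g ≫ h)
      rw [cc_apply he, cc_apply he, Category.assoc]
    have H2 : ∀ (X' X Y : T) (a : X' ⟶ X) (f : X ⟶ Y),
        cc So e X' Y (a ≫ f) = (cc So e X Y f) ∘ₗ Linear.rightComp k Y (Smap So e a) := by
      intro X' X Y a f
      ext h
      change cc So e X' Y (a ≫ f) h = cc So e X Y f (h ≫ Smap So e a)
      rw [cc_apply he, cc_apply he, ← Category.assoc, Smap_spec he, Category.assoc]
    exact ⟨(SF So e he).asEquivalence, SF_additive he, SF_linear he, cc So e, H1, H2⟩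

end Groth.Agent.S6718
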