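import Groth.Statements.S6731
import Mathlib.LinearAlgebra.Dual.Lemmas

set_option autoImplicit false
universe w v u
open CategoryTheory
open DEquiv

namespace Groth.Agent.S6731

section

variable {k : Type w} [Field k] {T : Type u} [Category.{v} T] [Preadditive T] [Linear k T]
  [∀ X Y : T, Module.Finite k (X ⟶ Y)]
  (F : T ⥤ T) (c : ∀ X Y : T, (X ⟶ Y) ≃ₗ[k] Module.Dual k (Y ⟶ F.obj X))

/-- The trace functional. -/
def tr (X : T) : Module.Dual k (X ⟶ F.obj X) := c X X (𝟙 X)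

variable {F c}
  (hc₁ : ∀ (X Y Y' : T) (f : X ⟶ Y) (g : Y ⟶ Y'),
      c X Y' (f ≫ g) = (c X Y f) ∘ₗ Linear.leftComp k (F.obj X) g)
  (hc₂ : ∀ (X' X Y : T) (a : X' ⟶ X) (f : X ⟶ Y),
      c X' Y (a ≫ f) = (c X Y f) ∘ₗ Linear.rightComp k Y (F.map a))

omit [∀ X Y : T, Module.Finite k (X ⟶ Y)] in
include hc₁ in
lemma c_apply {X Y : T} (g : X ⟶ Y) (h : Y ⟶ F.obj X) : c X Y g h = tr F c X (g ≫ h) := by
  have := hc₁ X X Y (𝟙 X) g
  rw [Category.id_comp] at this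
  rw [this]
  rfl

omit [∀ X Y : T, Module.Finite k (X ⟶ Y)] in
include hc₁ hc₂ in
lemma tr_nat {X' X : T} (a : X' ⟶ X) (h : X ⟶ F.obj X') :
    tr F c X' (a ≫ h) = tr F c X (h ≫ F.map a) := by
  have := hc₂ X' X X a (𝟙 X)
  rw [Category.comp_id] at this
  rw [← c_apply hc₁, this]
  rfl

include hc₁ in
lemma nondeg {X Y : T} (ψ₁ ψ₂ : Y ⟶ F.obj X)
    (h : ∀ g : X ⟶ Y, tr F c X (g ≫ ψ₁) = tr F c X (g ≫ ψ₂)) : ψ₁ = ψ₂ := by
  rw [← sub_eq_zero, ← Module.forall_dual_apply_eq_zero_iff k]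
  intro μ
  obtain ⟨g, rfl⟩ := (c X Y).surjective μ
  rw [map_sub, c_apply hc₁, c_apply hc₁, h g, sub_self]

include hc₁ in
lemma repr {X Y : T} (μ : Module.Dual k (X ⟶ Y)) :
    ∃ ψ : Y ⟶ F.obj X, ∀ g : X ⟶ Y, tr F c X (g ≫ ψ) = μ g := by
  let Φ : (Y ⟶ F.obj X) ≃ₗ[k] Module.Dual k (X ⟶ Y) :=
    (Module.evalEquiv k (Y ⟶ F.obj X)).trans (c X Y).dualMap
  refine ⟨Φ.symm μ, fun g => ?_⟩
  have h1 : Φ (Φ.symm μ) g = μ g := by rw [LinearEquiv.apply_symm_apply]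
  rw [← h1, ← c_apply hc₁]
  rfl

end

open CategoryTheory.Limits CategoryTheory.Pretriangulated in
/-- Let k be a field and T a k-linear triangulated category with dim_k Hom(X, Y) < ∞ for all X, Y. Let
(S, c) and (S', c') be Serre functors: k-linear equivalences T ⥤ T with k-linear isomorphisms
c_{X,Y} : Hom(X, Y) ≅ Hom(Y, S X)^∨ natural in X and Y (likewise c'). Then there is a unique
isomorphism of functors φ : S ≅ S' compatible with c and c', i.e. c_{X,Y}(f) is c'_{X,Y}(f) composed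
with postcomposition by φ_X. -/
theorem result
    {k : Type w} [Field k]
    {T : Type u} [Category.{v} T] [Preadditive T] [Linear k T] [HasZeroObject T] [HasShift T ℤ]
    [∀ n : ℤ, (shiftFunctor T n).Additive] [∀ n : ℤ, (shiftFunctor T n).Linear k] [Pretriangulated T]
    [IsTriangulated T] [∀ X Y : T, Module.Finite k (X ⟶ Y)]
    (S : T ≌ T) [S.functor.Additive] [S.functor.Linear k]
    (c : ∀ X Y : T, (X ⟶ Y) ≃ₗ[k] Module.Dual k (Y ⟶ S.functor.obj X))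
    (hc₁ : ∀ (X Y Y' : T) (f : X ⟶ Y) (g : Y ⟶ Y'),
      c X Y' (f ≫ g) = (c X Y f) ∘ₗ Linear.leftComp k (S.functor.obj X) g)
    (hc₂ : ∀ (X' X Y : T) (a : X' ⟶ X) (f : X ⟶ Y),
      c X' Y (a ≫ f) = (c X Y f) ∘ₗ Linear.rightComp k Y (S.functor.map a))
    (S' : T ≌ T) [S'.functor.Additive] [S'.functor.Linear k]
    (c' : ∀ X Y : T, (X ⟶ Y) ≃ₗ[k] Module.Dual k (Y ⟶ S'.functor.obj X))
    (hc'₁ : ∀ (X Y Y' : T) (f : X ⟶ Y) (g : Y ⟶ Y'),
      c' X Y' (f ≫ g) = (c' X Y f) ∘ₗ Linear.leftComp k (S'.functor.obj X) g)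
    (hc'₂ : ∀ (X' X Y : T) (a : X' ⟶ X) (f : X ⟶ Y),
      c' X' Y (a ≫ f) = (c' X Y f) ∘ₗ Linear.rightComp k Y (S'.functor.map a)) :
    ∃! φ : S.functor ≅ S'.functor, ∀ (X Y : T) (f : X ⟶ Y),
      c X Y f = (c' X Y f) ∘ₗ Linear.rightComp k Y (φ.hom.app X) := by
  have hφ : ∀ X, ∃ ψ : S.functor.obj X ⟶ S'.functor.obj X, ∀ g : X ⟶ S.functor.obj X,
      tr S'.functor c' X (g ≫ ψ) = tr S.functor c X g :=
    fun X => repr hc'₁ (tr S.functor c X)
  have hψ : ∀ X, ∃ ψ : S'.functor.obj X ⟶ S.functor.obj X, ∀ g : X ⟶ S'.functor.obj X,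
      tr S.functor c X (g ≫ ψ) = tr S'.functor c' X g :=
    fun X => repr hc₁ (tr S'.functor c' X)
  choose φ hφ using hφ
  choose ψ hψ using hψ
  have h1 : ∀ X, φ X ≫ ψ X = 𝟙 _ := by
    intro X
    apply nondeg hc₁
    intro g
    rw [← Category.assoc, hψ, hφ, Category.comp_id]
  have h2 : ∀ X, ψ X ≫ φ X = 𝟙 _ := by
    intro X
    apply nondeg hc'₁
    intro g
    rw [← Category.assoc, hφ, hψ, Category.comp_id]
  have hnat : ∀ {X' X : T} (a : X' ⟶ X),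
      S.functor.map a ≫ φ X = φ X' ≫ S'.functor.map a := by
    intro X' X a
    apply nondeg hc'₁
    intro h
    rw [← Category.assoc, hφ, ← tr_nat hc₁ hc₂, ← Category.assoc h, ← tr_nat hc'₁ hc'₂,
      ← Category.assoc, hφ]
  refine ⟨NatIso.ofComponents (fun X => ⟨φ X, ψ X, h1 X, h2 X⟩) (fun a => hnat a), ?_, ?_⟩
  · intro X Y f
    ext g
    simp only [LinearMap.comp_apply, Linear.rightComp_apply, NatIso.ofComponents_hom_app]
    rw [c_apply hc₁, c_apply hc'₁, ← Category.assoc]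
    exact (hφ X (f ≫ g)).symm
  · intro Φ' hΦ'
    ext X
    apply nondeg hc'₁
    intro g
    have := LinearMap.congr_fun (hΦ' X X (𝟙 X)) g
    simp only [LinearMap.comp_apply, Linear.rightComp_apply] at this
    simp only [NatIso.ofComponents_hom_app]
    rw [hφ]
    exact this.symm

end Groth.Agent.S6731
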