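import Groth.Statements.S6732
import Groth.Agent.S6731

set_option autoImplicit false
universe w v u
open CategoryTheory
open DEquiv

namespace Groth.Agent.S6732

open Groth.Agent.S6731 (tr c_apply tr_nat nondeg repr)

section

open CategoryTheory.Limits CategoryTheory.Pretriangulated

variable {k : Type w} [Field k]
    {T : Type u} [Category.{v} T] [Preadditive T] [Linear k T] [HasShift T ℤ]
    [∀ n : ℤ, (shiftFunctor T n).Additive] [∀ n : ℤ, (shiftFunctor T n).Linear k]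
    [∀ X Y : T, Module.Finite k (X ⟶ Y)]
    (F : T ⥤ T) (c : ∀ X Y : T, (X ⟶ Y) ≃ₗ[k] Module.Dual k (Y ⟶ F.obj X))

/-- The shift by one as a linear equivalence on morphism spaces. -/
noncomputable def shE (X Z : T) : (X ⟶ Z) ≃ₗ[k] (X⟦(1 : ℤ)⟧ ⟶ Z⟦(1 : ℤ)⟧) :=
  LinearEquiv.ofBijective ((shiftFunctor T (1 : ℤ)).mapLinearMap k)
    ⟨(shiftFunctor T (1 : ℤ)).map_injective, (shiftFunctor T (1 : ℤ)).map_surjective⟩

omit [∀ X Y : T, Module.Finite k (X ⟶ Y)] in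
lemma shE_apply {X Z : T} (g : X ⟶ Z) : shE (k := k) X Z g = g⟦(1 : ℤ)⟧' := rfl

/-- The shifted trace. -/
noncomputable def tr' (X : T) : Module.Dual k (X⟦(1 : ℤ)⟧ ⟶ (F.obj X)⟦(1 : ℤ)⟧) :=
  (tr F c X) ∘ₗ (shE X (F.obj X)).symm.toLinearMap

omit [∀ X Y : T, Module.Finite k (X ⟶ Y)] in
lemma tr'_shift {X : T} (g : X ⟶ F.obj X) : tr' F c X (g⟦(1 : ℤ)⟧') = tr F c X g := by
  change tr F c X ((shE (k := k) X (F.obj X)).symm (shE (k := k) X (F.obj X) g)) = _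
  rw [LinearEquiv.symm_apply_apply]

variable {F c}
  (hc₁ : ∀ (X Y Y' : T) (f : X ⟶ Y) (g : Y ⟶ Y'),
      c X Y' (f ≫ g) = (c X Y f) ∘ₗ Linear.leftComp k (F.obj X) g)
  (hc₂ : ∀ (X' X Y : T) (a : X' ⟶ X) (f : X ⟶ Y),
      c X' Y (a ≫ f) = (c X Y f) ∘ₗ Linear.rightComp k Y (F.map a))

omit [∀ X Y : T, Module.Finite k (X ⟶ Y)] in
include hc₁ hc₂ in
lemma tr'_nat {X' X : T} (a : X' ⟶ X) (h : X⟦(1 : ℤ)⟧ ⟶ (F.obj X')⟦(1 : ℤ)⟧) :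
    tr' F c X' (a⟦(1 : ℤ)⟧' ≫ h) = tr' F c X (h ≫ (F.map a)⟦(1 : ℤ)⟧') := by
  obtain ⟨h₀, rfl⟩ := (shiftFunctor T (1 : ℤ)).map_surjective h
  rw [← Functor.map_comp, ← Functor.map_comp, tr'_shift, tr'_shift, tr_nat hc₁ hc₂]

include hc₁ in
lemma nondeg' {X Y : T} (ψ₁ ψ₂ : Y ⟶ (F.obj X)⟦(1 : ℤ)⟧)
    (h : ∀ r : X⟦(1 : ℤ)⟧ ⟶ Y, tr' F c X (r ≫ ψ₁) = tr' F c X (r ≫ ψ₂)) : ψ₁ = ψ₂ := by
  let j : (Y⟦(-1 : ℤ)⟧)⟦(1 : ℤ)⟧ ≅ Y := (shiftEquiv T (1 : ℤ)).counitIso.app Y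
  rw [← cancel_epi j.hom]
  obtain ⟨ψ₁', hψ₁⟩ := (shiftFunctor T (1 : ℤ)).map_surjective (j.hom ≫ ψ₁)
  obtain ⟨ψ₂', hψ₂⟩ := (shiftFunctor T (1 : ℤ)).map_surjective (j.hom ≫ ψ₂)
  rw [← hψ₁, ← hψ₂]
  congr 1
  apply nondeg hc₁
  intro g
  have := h (g⟦(1 : ℤ)⟧' ≫ j.hom)
  rw [Category.assoc, Category.assoc, ← hψ₁, ← hψ₂, ← Functor.map_comp, ← Functor.map_comp,
    tr'_shift, tr'_shift] at this
  exact this

include hc₁ in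
lemma repr' {X Y : T} (μ : Module.Dual k (X⟦(1 : ℤ)⟧ ⟶ Y)) :
    ∃ ψ : Y ⟶ (F.obj X)⟦(1 : ℤ)⟧, ∀ r : X⟦(1 : ℤ)⟧ ⟶ Y, tr' F c X (r ≫ ψ) = μ r := by
  let j : (Y⟦(-1 : ℤ)⟧)⟦(1 : ℤ)⟧ ≅ Y := (shiftEquiv T (1 : ℤ)).counitIso.app Y
  -- the functional on `Hom(X, Y⟦-1⟧)`
  let μ' : Module.Dual k (X ⟶ Y⟦(-1 : ℤ)⟧) :=
    μ ∘ₗ (Linear.rightComp k _ j.hom) ∘ₗ (shE X (Y⟦(-1 : ℤ)⟧)).toLinearMap
  obtain ⟨ψ', hψ'⟩ := repr hc₁ μ'
  refine ⟨j.inv ≫ ψ'⟦(1 : ℤ)⟧', fun r => ?_⟩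
  obtain ⟨r', hr'⟩ := (shiftFunctor T (1 : ℤ)).map_surjective (r ≫ j.inv)
  have hr : r = r'⟦(1 : ℤ)⟧' ≫ j.hom := by
    rw [hr', Category.assoc, Iso.inv_hom_id, Category.comp_id]
  rw [hr, Category.assoc, Iso.hom_inv_id_assoc, ← Functor.map_comp, tr'_shift, hψ']
  rfl

include hc₁ in
lemma exists_e (X : T) : ∃ e : F.obj (X⟦(1 : ℤ)⟧) ≅ (F.obj X)⟦(1 : ℤ)⟧,
    ∀ g : X⟦(1 : ℤ)⟧ ⟶ F.obj (X⟦(1 : ℤ)⟧),
      tr' F c X (g ≫ e.hom) = - tr F c (X⟦(1 : ℤ)⟧) g := by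
  obtain ⟨e₁, he₁⟩ := repr' hc₁ (X := X) (Y := F.obj (X⟦(1 : ℤ)⟧)) (- tr F c (X⟦(1 : ℤ)⟧))
  obtain ⟨e₂, he₂⟩ := repr hc₁ (X := X⟦(1 : ℤ)⟧) (Y := (F.obj X)⟦(1 : ℤ)⟧) (- tr' F c X)
  refine ⟨⟨e₁, e₂, ?_, ?_⟩, he₁⟩
  · apply nondeg hc₁
    intro g
    rw [← Category.assoc, he₂, LinearMap.neg_apply, he₁, LinearMap.neg_apply, neg_neg,
      Category.comp_id]
  · apply nondeg' hc₁
    intro r
    rw [← Category.assoc, he₁, LinearMap.neg_apply, he₂, LinearMap.neg_apply, neg_neg,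
      Category.comp_id]

/-- The components of the commutation isomorphism of the Serre functor with the shift. -/
noncomputable def e (X : T) : F.obj (X⟦(1 : ℤ)⟧) ≅ (F.obj X)⟦(1 : ℤ)⟧ := (exists_e hc₁ X).choose

lemma e_spec (X : T) (g : X⟦(1 : ℤ)⟧ ⟶ F.obj (X⟦(1 : ℤ)⟧)) :
    tr' F c X (g ≫ (e hc₁ X).hom) = - tr F c (X⟦(1 : ℤ)⟧) g :=
  (exists_e hc₁ X).choose_spec g

include hc₂ in
lemma e_nat {X' X : T} (a : X' ⟶ X) :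
    F.map (a⟦(1 : ℤ)⟧') ≫ (e hc₁ X).hom = (e hc₁ X').hom ≫ (F.map a)⟦(1 : ℤ)⟧' := by
  apply nondeg' hc₁
  intro r
  rw [← Category.assoc, e_spec, ← tr_nat hc₁ hc₂, ← Category.assoc, ← tr'_nat hc₁ hc₂,
    ← Category.assoc, e_spec]

end

section

open CategoryTheory.Limits CategoryTheory.Pretriangulated

variable {k : Type w} [Field k]
    {T : Type u} [Category.{v} T] [Preadditive T] [Linear k T] [HasZeroObject T] [HasShift T ℤ]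
    [∀ n : ℤ, (shiftFunctor T n).Additive] [∀ n : ℤ, (shiftFunctor T n).Linear k] [Pretriangulated T]
    [∀ X Y : T, Module.Finite k (X ⟶ Y)]
    {F : T ⥤ T} [F.IsEquivalence] [F.Additive]
    {c : ∀ X Y : T, (X ⟶ Y) ≃ₗ[k] Module.Dual k (Y ⟶ F.obj X)}
    (hc₁ : ∀ (X Y Y' : T) (f : X ⟶ Y) (g : Y ⟶ Y'),
      c X Y' (f ≫ g) = (c X Y f) ∘ₗ Linear.leftComp k (F.obj X) g)
    (hc₂ : ∀ (X' X Y : T) (a : X' ⟶ X) (f : X ⟶ Y),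
      c X' Y (a ≫ f) = (c X Y f) ∘ₗ Linear.rightComp k Y (F.map a))

omit [Preadditive T] [Linear k T] [HasZeroObject T] [HasShift T ℤ]
  [∀ n : ℤ, (shiftFunctor T n).Additive] [∀ n : ℤ, (shiftFunctor T n).Linear k] [Pretriangulated T]
  [∀ X Y : T, Module.Finite k (X ⟶ Y)] [F.Additive] [Field k] in
lemma factor {Y Z : T} (φ' : Y ⟶ F.obj Z) :
    ∃ (Y' : T) (i : Y ≅ F.obj Y') (φ'' : Y' ⟶ Z), φ' = i.hom ≫ F.map φ'' :=
  ⟨F.objPreimage Y, (F.objObjPreimageIso Y).symm,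
    F.preimage ((F.objObjPreimageIso Y).hom ≫ φ'), by simp⟩

include hc₁ hc₂ in
theorem key (T' : Triangle T) (hT' : T' ∈ distTriang T) :
    Triangle.mk (F.map T'.mor₁) (F.map T'.mor₂) (F.map T'.mor₃ ≫ (e hc₁ T'.obj₁).hom) ∈
      distTriang T := by
  obtain ⟨D, ϕ, ψ, mem⟩ := distinguished_cocone_triangle (F.map T'.mor₁)
  let L₁ : (T'.obj₃ ⟶ F.obj T'.obj₂) →ₗ[k] (T'.obj₃ ⟶ D) := Linear.rightComp k T'.obj₃ ϕ
  let L₂ : (T'.obj₁⟦(1 : ℤ)⟧ ⟶ D) →ₗ[k] (T'.obj₃ ⟶ D) := Linear.leftComp k D T'.mor₃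
  let μ₁ : Module.Dual k (T'.obj₃ ⟶ F.obj T'.obj₂) :=
    tr F c T'.obj₂ ∘ₗ Linear.leftComp k (F.obj T'.obj₂) T'.mor₂
  let μ₂ : Module.Dual k (T'.obj₁⟦(1 : ℤ)⟧ ⟶ D) :=
    - (tr' F c T'.obj₁ ∘ₗ Linear.rightComp k (T'.obj₁⟦(1 : ℤ)⟧) ψ)
  let L := L₁.coprod L₂
  let μ := μ₁.coprod μ₂
  have hμ : μ ∈ LinearMap.range L.dualMap := by
    rw [LinearMap.range_dualMap_eq_dualAnnihilator_ker, Submodule.mem_dualAnnihilator]
    rintro ⟨s, r⟩ hx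
    have hsr : s ≫ ϕ + T'.mor₃ ≫ r = 0 := by
      simpa [L, L₁, L₂] using hx
    obtain ⟨a, ha₁', ha₂'⟩ : ∃ a : T'.obj₂ ⟶ F.obj T'.obj₁,
        T'.mor₂ ≫ s = a ≫ F.map T'.mor₁ ∧
        (-(T'.mor₁⟦(1 : ℤ)⟧')) ≫ a⟦(1 : ℤ)⟧' = (-r) ≫ ψ :=
      complete_distinguished_triangle_morphism₁ T'.rotate
      (Triangle.mk (F.map T'.mor₁) ϕ ψ) (rot_of_distTriang _ hT') mem s (-r) (by
        change T'.mor₃ ≫ (-r) = s ≫ ϕ
        rw [Preadditive.comp_neg, eq_comm, ← add_eq_zero_iff_eq_neg]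
        exact hsr)
    rw [Preadditive.neg_comp, Preadditive.neg_comp, neg_inj, ← Functor.map_comp] at ha₂'
    change tr F c T'.obj₂ (T'.mor₂ ≫ s) + - tr' F c T'.obj₁ (r ≫ ψ) = 0
    rw [ha₁', ← tr_nat hc₁ hc₂, ← ha₂', tr'_shift, add_neg_cancel]
  obtain ⟨lam, hlam⟩ := hμ
  have hlam₁ : ∀ s : T'.obj₃ ⟶ F.obj T'.obj₂, lam (s ≫ ϕ) = tr F c T'.obj₂ (T'.mor₂ ≫ s) := by
    intro s
    have := LinearMap.congr_fun hlam (s, 0)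
    simpa [L, L₁, L₂, μ, μ₁, μ₂] using this
  have hlam₂ : ∀ r : T'.obj₁⟦(1 : ℤ)⟧ ⟶ D, lam (T'.mor₃ ≫ r) = - tr' F c T'.obj₁ (r ≫ ψ) := by
    intro r
    have := LinearMap.congr_fun hlam (0, r)
    simpa [L, L₁, L₂, μ, μ₁, μ₂] using this
  obtain ⟨χ, hχ⟩ := repr hc₁ lam
  have h1 : ϕ ≫ χ = F.map T'.mor₂ := by
    apply nondeg hc₁
    intro s
    rw [← Category.assoc, hχ, hlam₁, tr_nat hc₁ hc₂]
  have h2 : χ ≫ F.map T'.mor₃ ≫ (e hc₁ T'.obj₁).hom = ψ := by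
    apply nondeg' hc₁
    intro r
    rw [← Category.assoc, ← Category.assoc, e_spec, ← tr_nat hc₁ hc₂,
      ← Category.assoc, hχ, hlam₂, neg_neg]
  have hFzero : ∀ {Y Z : T} (x : Y ⟶ Z), F.map x = 0 → x = 0 := fun x hx =>
    F.map_injective (hx.trans (F.map_zero _ _).symm)
  have hinj : ∀ (Y : T) (φ : Y ⟶ D), φ ≫ χ = 0 → φ = 0 := by
    intro Y φ hφ
    have hφψ : φ ≫ ψ = 0 := by
      rw [← h2, ← Category.assoc, hφ, zero_comp]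
    obtain ⟨φ', hφ'⟩ : ∃ φ' : Y ⟶ F.obj T'.obj₂, φ = φ' ≫ ϕ :=
      Triangle.coyoneda_exact₃ _ mem φ hφψ
    rw [hφ'] at hφ ⊢
    have hφ'v : φ' ≫ F.map T'.mor₂ = 0 := by
      rw [← h1, ← Category.assoc]; exact hφ
    obtain ⟨Y', i, φ'', rfl⟩ := factor φ'
    have h0 : φ'' ≫ T'.mor₂ = 0 := by
      apply hFzero
      rw [Functor.map_comp, ← cancel_epi i.hom, comp_zero, ← Category.assoc]
      exact hφ'v
    obtain ⟨α, hα⟩ := Triangle.coyoneda_exact₂ _ hT' φ'' h0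
    have hz : F.map T'.mor₁ ≫ ϕ = 0 := comp_distTriang_mor_zero₁₂ _ mem
    rw [hα, Functor.map_comp, Category.assoc, Category.assoc, hz, comp_zero, comp_zero]
  have hsurj : ∀ (Y : T) (φ : Y ⟶ F.obj T'.obj₃), ∃ φ₀ : Y ⟶ D, φ₀ ≫ χ = φ := by
    intro Y φ
    have hz : (φ ≫ F.map T'.mor₃ ≫ (e hc₁ T'.obj₁).hom) ≫ (F.map T'.mor₁)⟦(1 : ℤ)⟧' = 0 := by
      rw [Category.assoc, Category.assoc, ← e_nat hc₁ hc₂, ← Functor.map_comp_assoc,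
        comp_distTriang_mor_zero₃₁ _ hT', F.map_zero, zero_comp, comp_zero]
    obtain ⟨ψ', hψ''⟩ : ∃ ψ' : Y ⟶ D,
        φ ≫ F.map T'.mor₃ ≫ (e hc₁ T'.obj₁).hom = ψ' ≫ ψ :=
      Triangle.coyoneda_exact₁ _ mem _ hz
    have hα : (φ - ψ' ≫ χ) ≫ F.map T'.mor₃ = 0 := by
      rw [← cancel_mono (e hc₁ T'.obj₁).hom, zero_comp, Category.assoc, Preadditive.sub_comp]
      rw [Category.assoc ψ', h2, hψ'', sub_self]
    obtain ⟨Y', i, α₀, hα₀⟩ := factor (φ - ψ' ≫ χ)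
    have h0 : α₀ ≫ T'.mor₃ = 0 := by
      apply hFzero
      rw [Functor.map_comp, ← cancel_epi i.hom, comp_zero, ← Category.assoc, ← hα₀]
      exact hα
    obtain ⟨β, hβ⟩ := Triangle.coyoneda_exact₃ _ hT' α₀ h0
    refine ⟨ψ' + i.hom ≫ F.map β ≫ ϕ, ?_⟩
    rw [Preadditive.add_comp, Category.assoc, Category.assoc, h1, ← Functor.map_comp, ← hβ,
      ← hα₀, add_sub_cancel]
  have hiso : IsIso χ := isIso_of_yoneda_map_bijective χ (fun Y => by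
    constructor
    · intro φ₁ φ₂ hφ
      have : (φ₁ - φ₂) ≫ χ = 0 := by
        rw [Preadditive.sub_comp]; exact sub_eq_zero.2 hφ
      exact sub_eq_zero.1 (hinj Y _ this)
    · intro φ
      exact hsurj Y φ)
  let iso₃ : D ≅ F.obj T'.obj₃ := asIso χ
  refine isomorphic_distinguished _ mem _ (Iso.symm ?_)
  exact Triangle.isoMk (Triangle.mk (F.map T'.mor₁) ϕ ψ)
    (Triangle.mk (F.map T'.mor₁) (F.map T'.mor₂) (F.map T'.mor₃ ≫ (e hc₁ T'.obj₁).hom))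
    (Iso.refl (F.obj T'.obj₁)) (Iso.refl (F.obj T'.obj₂)) iso₃
    (by
      change F.map T'.mor₁ ≫ 𝟙 _ = 𝟙 _ ≫ F.map T'.mor₁
      rw [Category.comp_id, Category.id_comp])
    (by
      change ϕ ≫ χ = 𝟙 _ ≫ F.map T'.mor₂
      rw [h1, Category.id_comp])
    (by
      change ψ ≫ (𝟙 (F.obj T'.obj₁))⟦(1 : ℤ)⟧' = χ ≫ F.map T'.mor₃ ≫ (e hc₁ T'.obj₁).hom
      rw [CategoryTheory.Functor.map_id, Category.comp_id, h2])

end


open CategoryTheory.Limits CategoryTheory.Pretriangulated in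
/-- Let k be a field and T a k-linear triangulated category with dim_k Hom(X, Y) < ∞ for all X, Y, and
let (S, c) be a Serre functor: a k-linear equivalence T ⥤ T with k-linear isomorphisms c_{X,Y} :
Hom(X, Y) ≅ Hom(Y, S X)^∨ natural in X and Y. Then S is an exact functor of triangulated categories:
there is an isomorphism of functors S ∘ ⟦1⟧ ≅ ⟦1⟧ ∘ S such that for every distinguished triangle (A,
B, C, f, g, h) the triangle (S A, S B, S C, S f, S g, S h followed by that isomorphism at A) is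
distinguished. -/
theorem result
    {k : Type w} [Field k]
    {T : Type u} [Category.{v} T] [Preadditive T] [Linear k T] [HasZeroObject T] [HasShift T ℤ]
    [∀ n : ℤ, (shiftFunctor T n).Additive] [∀ n : ℤ, (shiftFunctor T n).Linear k] [Pretriangulated T]
    [IsTriangulated T] [∀ X Y : T, Module.Finite k (X ⟶ Y)]
    (S : T ≌ T) [S.functor.Additive] [S.functor.Linear k]
    (c : ∀ X Y : T, (X ⟶ Y) ≃ₗ[k] Module.Dual k (Y ⟶ S.functor.obj X))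
    (hc₁ : ∀ (X Y Y' : T) (f : X ⟶ Y) (g : Y ⟶ Y'),
      c X Y' (f ≫ g) = (c X Y f) ∘ₗ Linear.leftComp k (S.functor.obj X) g)
    (hc₂ : ∀ (X' X Y : T) (a : X' ⟶ X) (f : X ⟶ Y),
      c X' Y (a ≫ f) = (c X Y f) ∘ₗ Linear.rightComp k Y (S.functor.map a)) :
    ∃ e : shiftFunctor T (1 : ℤ) ⋙ S.functor ≅ S.functor ⋙ shiftFunctor T (1 : ℤ),
      ∀ T' ∈ distTriang T,
        Triangle.mk (S.functor.map T'.mor₁) (S.functor.map T'.mor₂)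
          (S.functor.map T'.mor₃ ≫ e.hom.app T'.obj₁) ∈ distTriang T := by
  refine ⟨NatIso.ofComponents (fun X => e hc₁ X) (fun a => e_nat hc₁ hc₂ a), fun T' hT' => ?_⟩
  exact key hc₁ hc₂ T' hT'

end Groth.Agent.S6732
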