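import Groth.Statements.S6769
import Groth.Agent.Lib.Helper20.EWHetero

set_option autoImplicit false
universe u
open CategoryTheory CategoryTheory.Limits TensorProduct
open scoped ModuleCat.Algebra
open FunMor

namespace Groth.Agent.S6769

open Groth.Agent.Lib.Helper20 Groth.Agent.Lib.Helper20.EW

section

variable {A B : Type u} [CommRing A] [CommRing B]
  (F F' : ModuleCat.{u} A ⥤ ModuleCat.{u} B) [F.Additive] [F'.Additive]

/-- A `B`-linear map `F(A) → F'(A)` commuting with the `A`-actions, as an `A`-linear map. -/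
noncomputable def φA (φ : F.obj (ModuleCat.of A A) ⟶ F'.obj (ModuleCat.of A A))
    (hφ : ∀ a : A, F.map (a • 𝟙 (ModuleCat.of A A)) ≫ φ = φ ≫ F'.map (a • 𝟙 (ModuleCat.of A A))) :
    EWH.KF F →ₗ[A] EWH.KF F' where
  toFun y := φ.hom y
  map_add' y y' := map_add φ.hom y y'
  map_smul' a y := by
    have h := congrArg (fun f => f.hom y) (hφ a)
    exact h

lemma φA_apply (φ : F.obj (ModuleCat.of A A) ⟶ F'.obj (ModuleCat.of A A))
    (hφ : ∀ a : A, F.map (a • 𝟙 (ModuleCat.of A A)) ≫ φ = φ ≫ F'.map (a • 𝟙 (ModuleCat.of A A)))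
    (y : EWH.KF F) : φA F F' φ hφ y = φ.hom y := rfl

lemma rTensor_smul (φ : F.obj (ModuleCat.of A A) ⟶ F'.obj (ModuleCat.of A A))
    (hφ : ∀ a : A, F.map (a • 𝟙 (ModuleCat.of A A)) ≫ φ = φ ≫ F'.map (a • 𝟙 (ModuleCat.of A A)))
    (M : ModuleCat.{u} A) (b : B) (z : EWH.KF F ⊗[A] M) :
    LinearMap.rTensor M (φA F F' φ hφ) (b • z) = b • LinearMap.rTensor M (φA F F' φ hφ) z := by
  induction z using TensorProduct.induction_on with
  | zero => simp
  | tmul y x =>
    rw [TensorProduct.smul_tmul', LinearMap.rTensor_tmul, LinearMap.rTensor_tmul,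
      TensorProduct.smul_tmul', φA_apply, φA_apply]
    congr 1
    exact map_smul φ.hom b y
  | add z w hz hw => rw [smul_add, map_add, hz, hw, map_add, smul_add]

variable [PreservesFiniteColimits F] [∀ J : Type u, PreservesColimitsOfShape (Discrete J) F]
  [PreservesFiniteColimits F'] [∀ J : Type u, PreservesColimitsOfShape (Discrete J) F']

theorem natTrans_ext (t t' : F ⟶ F')
    (h : t.app (ModuleCat.of A A) = t'.app (ModuleCat.of A A)) : t = t' := by
  ext M w
  obtain ⟨z, rfl⟩ := (EWH.tMap_bijective F M).2 w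
  induction z using TensorProduct.induction_on with
  | zero => simp
  | tmul y x =>
    rw [EWH.tMap_tmul]
    have h1 := congrArg (fun f => f.hom y) (t.naturality (ModuleCat.ofHom (θ M x)))
    have h2 := congrArg (fun f => f.hom y) (t'.naturality (ModuleCat.ofHom (θ M x)))
    simp only [ModuleCat.hom_comp, LinearMap.comp_apply] at h1 h2
    rw [h1, h2, h]
  | add z w hz hw => rw [map_add, map_add, map_add, hz, hw]

/-- The natural transformation induced by `φ`. -/
noncomputable def natTransOf (φ : F.obj (ModuleCat.of A A) ⟶ F'.obj (ModuleCat.of A A))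
    (hφ : ∀ a : A, F.map (a • 𝟙 (ModuleCat.of A A)) ≫ φ = φ ≫ F'.map (a • 𝟙 (ModuleCat.of A A))) :
    F ⟶ F' where
  app M := ModuleCat.ofHom
    { toFun := fun w => EWH.tMap F' M
        (LinearMap.rTensor M (φA F F' φ hφ) ((EWH.tEquiv F M).symm w))
      map_add' := fun w w' => by rw [map_add, map_add, map_add]
      map_smul' := fun b w => by
        rw [map_smul, rTensor_smul, map_smul]
        rfl }
  naturality M N g := by
    ext w
    obtain ⟨z, rfl⟩ := (EWH.tMap_bijective F M).2 w
    change EWH.tMap F' N (LinearMap.rTensor N (φA F F' φ hφ)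
        ((EWH.tEquiv F N).symm ((F.map g).hom (EWH.tMap F M z)))) =
      (F'.map g).hom (EWH.tMap F' M (LinearMap.rTensor M (φA F F' φ hφ)
        ((EWH.tEquiv F M).symm (EWH.tMap F M z))))
    rw [EWH.tMap_naturality F g z, EWH.tMap_naturality F' g]
    have e1 : (EWH.tEquiv F N).symm (EWH.tMap F N (LinearMap.lTensor _ g.hom z)) =
        LinearMap.lTensor _ g.hom z := (EWH.tEquiv F N).symm_apply_apply _
    have e2 : (EWH.tEquiv F M).symm (EWH.tMap F M z) = z := (EWH.tEquiv F M).symm_apply_apply _
    rw [e1, e2, ← LinearMap.comp_apply, ← LinearMap.comp_apply, LinearMap.rTensor_comp_lTensor,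
      LinearMap.lTensor_comp_rTensor]

lemma natTransOf_app_self (φ : F.obj (ModuleCat.of A A) ⟶ F'.obj (ModuleCat.of A A))
    (hφ : ∀ a : A, F.map (a • 𝟙 (ModuleCat.of A A)) ≫ φ = φ ≫ F'.map (a • 𝟙 (ModuleCat.of A A))) :
    (natTransOf F F' φ hφ).app (ModuleCat.of A A) = φ := by
  ext y
  let y' : EWH.KF F := y
  change EWH.tMap F' (ModuleCat.of A A) (LinearMap.rTensor _ (φA F F' φ hφ)
      ((EWH.tEquiv F (ModuleCat.of A A)).symm y')) = φ.hom y'
  have e1 : (EWH.tEquiv F (ModuleCat.of A A)).symm y' = y' ⊗ₜ[A] (1 : A) := by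
    rw [LinearEquiv.symm_apply_eq]
    exact (EWH.tMap_self_tmul_one F y').symm
  rw [e1, LinearMap.rTensor_tmul, EWH.tMap_self_tmul_one]
  rfl

end

theorem map_algebraMap_smul_id (R : Type u) [CommRing R] (A B : Type u) [CommRing A] [CommRing B]
    [Algebra R A] [Algebra R B]
    (F : ModuleCat.{u} A ⥤ ModuleCat.{u} B) [F.Additive] [F.Linear R] (r : R) (X : ModuleCat.{u} A)
    (x : F.obj X) :
    (F.map ((algebraMap R A r) • 𝟙 X)).hom x = algebraMap R B r • x := by
  have h1 : (algebraMap R A r) • 𝟙 X = r • 𝟙 X := by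
    apply ModuleCat.hom_ext
    apply LinearMap.ext
    intro y
    rfl
  have h := F.map_smul r (𝟙 X)
  rw [F.map_id] at h
  rw [h1, h]
  rfl

/-- Let R be a commutative ring and A, B commutative R-algebras; Mod_A and Mod_B are R-linear
categories. Suppose F, F' : Mod_A ⥤ Mod_B are R-linear functors, each of which preserves finite
colimits (so is right exact) and also preserves direct sums indexed by any set. Then: (i) there is
an A ⊗_R B-module K — a module over A and over B with commuting actions on which the two R-actions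
agree — and B-linear isomorphisms K ⊗_A M ≅ F(M) natural in the A-module M; (ii) a natural
transformation F ⟶ F' is determined by its component at A, and a B-linear map φ : F(A) ⟶ F'(A) is
the component at A of some natural transformation F ⟶ F' if and only if it commutes with the
A-actions, i.e. F(a · id_A) ≫ φ = φ ≫ F'(a · id_A) for all a ∈ A. (Together: K ↦ (- ⊗_A K) is an
equivalence from Mod_{A ⊗_R B} onto the category of such functors.) -/
theorem result
    (R : Type u) [CommRing R] (A B : Type u) [CommRing A] [CommRing B] [Algebra R A] [Algebra R B]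
    (F F' : ModuleCat.{u} A ⥤ ModuleCat.{u} B) [F.Additive] [F.Linear R] [F'.Additive] [F'.Linear R]
    [PreservesFiniteColimits F] [∀ J : Type u, PreservesColimitsOfShape (Discrete J) F]
    [PreservesFiniteColimits F'] [∀ J : Type u, PreservesColimitsOfShape (Discrete J) F'] :
    (∃ (K : Type u) (_ : AddCommGroup K) (_ : Module A K) (_ : Module B K) (_ : SMulCommClass A B K),
      (∀ (r : R) (x : K), algebraMap R A r • x = algebraMap R B r • x) ∧
      ∃ η : ∀ M : ModuleCat.{u} A, (K ⊗[A] M) ≃ₗ[B] F.obj M,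
        ∀ (M N : ModuleCat.{u} A) (f : M ⟶ N) (x : K ⊗[A] M),
          η N (LinearMap.lTensor K f.hom x) = F.map f (η M x)) ∧
    (∀ t t' : F ⟶ F', t.app (ModuleCat.of A A) = t'.app (ModuleCat.of A A) → t = t') ∧
    (∀ φ : F.obj (ModuleCat.of A A) ⟶ F'.obj (ModuleCat.of A A),
      (∃ t : F ⟶ F', t.app (ModuleCat.of A A) = φ) ↔
        ∀ a : A, F.map (a • 𝟙 (ModuleCat.of A A)) ≫ φ = φ ≫ F'.map (a • 𝟙 (ModuleCat.of A A))) := by
  refine ⟨?_, natTrans_ext F F', ?_⟩
  · refine ⟨EWH.KF F, inferInstance, inferInstance, inferInstance, inferInstance, ?_,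
      fun M => EWH.tEquiv F M, ?_⟩
    · intro r x
      rw [EWH.smul_def]
      exact map_algebraMap_smul_id R A B F r (ModuleCat.of A A) x
    · intro M N f x
      exact (EWH.tMap_naturality F f x).symm
  · intro φ
    constructor
    · rintro ⟨t, rfl⟩ a
      exact t.naturality _
    · intro hφ
      exact ⟨natTransOf F F' φ hφ, natTransOf_app_self F F' φ hφ⟩


end Groth.Agent.S6769
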