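import Groth.Statements.S6775
import Mathlib.CategoryTheory.Abelian.CommSq

set_option autoImplicit false
open CategoryTheory CategoryTheory.Limits
universe v u
open CategoryTheory CategoryTheory.Abelian

namespace Groth.Agent.S6775

set_option backward.isDefEq.respectTransparency false in
/-- In an abelian category a cartesian square whose bottom arrow `k` is an epimorphism is also
cocartesian, and the arrow `f` opposite to `k` is an epimorphism. -/
theorem result {A : Type u} [Category.{v} A] [Abelian A] {w x y z : A} (f : w ⟶ y) (g : w ⟶ x) (h : y ⟶ z) (k : x ⟶ z) (sq : IsPullback f g h k) [Epi k] : IsPushout f g h k ∧ Epi f := by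
  have hf : Epi f := Abelian.epi_fst_of_isLimit h k sq.isLimit
  refine ⟨?_, hf⟩
  -- the short complex `w ⟶ y ⊞ x ⟶ z` is short exact
  have hex : sq.shortComplex'.Exact := sq.exact_shortComplex'
  have hepi : Epi sq.shortComplex'.g := by
    have hk : Epi (-k) := by
      rw [Preadditive.epi_iff_cancel_zero]
      intro P b hb
      rw [Preadditive.neg_comp, neg_eq_zero] at hb
      exact (cancel_epi k).1 (by rw [hb, comp_zero])
    have : Epi (biprod.inr ≫ sq.shortComplex'.g) := by
      simp only [CommSq.shortComplex'_g, biprod.inr_desc]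
      exact hk
    exact epi_of_epi biprod.inr sq.shortComplex'.g
  -- so `z` is the cokernel of `w ⟶ y ⊞ x`
  have hcok : IsColimit (CokernelCofork.ofπ sq.shortComplex'.g sq.shortComplex'.zero) :=
    hex.gIsCokernel
  have hzero : ∀ s : PushoutCocone f g,
      sq.shortComplex'.f ≫ biprod.desc s.inl (-s.inr) = 0 := by
    intro s
    simp only [CommSq.shortComplex'_f, biprod.lift_desc, Preadditive.comp_neg, s.condition,
      add_neg_cancel]
  have hfac : ∀ s : PushoutCocone f g,
      sq.shortComplex'.g ≫ hcok.desc (CokernelCofork.ofπ (biprod.desc s.inl (-s.inr)) (hzero s)) =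
        biprod.desc s.inl (-s.inr) := fun s ↦
    hcok.fac (CokernelCofork.ofπ (biprod.desc s.inl (-s.inr)) (hzero s)) .one
  refine ⟨sq.toCommSq, ⟨?_⟩⟩
  refine PushoutCocone.IsColimit.mk _
    (fun s ↦ hcok.desc (CokernelCofork.ofπ (biprod.desc s.inl (-s.inr)) (hzero s))) ?_ ?_ ?_
  · intro s
    simpa using biprod.inl ≫= hfac s
  · intro s
    simpa using biprod.inr ≫= hfac s
  · intro s m hm₁ hm₂
    apply Cofork.IsColimit.hom_ext hcok
    refine Eq.trans ?_ (hfac s).symm
    dsimp
    apply biprod.hom_ext'
    · simpa using hm₁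
    · simpa using hm₂

end Groth.Agent.S6775
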