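import Groth.Statements.S6776
import Mathlib.CategoryTheory.Abelian.CommSq

set_option autoImplicit false
open CategoryTheory CategoryTheory.Limits
universe v u
open CategoryTheory CategoryTheory.Abelian

namespace Groth.Agent.S6776

set_option backward.isDefEq.respectTransparency false in
/-- In an abelian category a cocartesian square whose left arrow `g` is a monomorphism is also
cartesian, and the arrow `h` opposite to `g` is a monomorphism. -/
theorem result {A : Type u} [Category.{v} A] [Abelian A] {w x y z : A} (f : w ⟶ y) (g : w ⟶ x) (h : y ⟶ z) (k : x ⟶ z) (sq : IsPushout f g h k) [Mono g] : IsPullback f g h k ∧ Mono h := by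
  have hh : Mono h := Abelian.mono_inl_of_isColimit f g sq.isColimit
  refine ⟨?_, hh⟩
  have hex : sq.shortComplex.Exact := sq.exact_shortComplex
  have hmono : Mono sq.shortComplex.f := by
    have hg : Mono (-g) := by
      rw [Preadditive.mono_iff_cancel_zero]
      intro P b hb
      rw [Preadditive.comp_neg, neg_eq_zero] at hb
      exact (cancel_mono g).1 (by rw [hb, zero_comp])
    have : Mono (sq.shortComplex.f ≫ biprod.snd) := by
      simp only [CommSq.shortComplex_f, biprod.lift_snd]
      exact hg
    exact mono_of_mono sq.shortComplex.f biprod.snd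
  have hker : IsLimit (KernelFork.ofι sq.shortComplex.f sq.shortComplex.zero) :=
    hex.fIsKernel
  have hzero : ∀ s : PullbackCone h k,
      biprod.lift s.fst (-s.snd) ≫ sq.shortComplex.g = 0 := by
    intro s
    simp only [CommSq.shortComplex_g, biprod.lift_desc, Preadditive.neg_comp, s.condition,
      add_neg_cancel]
  have hfac : ∀ s : PullbackCone h k,
      hker.lift (KernelFork.ofι (biprod.lift s.fst (-s.snd)) (hzero s)) ≫ sq.shortComplex.f =
        biprod.lift s.fst (-s.snd) := fun s ↦
    hker.fac (KernelFork.ofι (biprod.lift s.fst (-s.snd)) (hzero s)) .zero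
  refine ⟨sq.toCommSq, ⟨?_⟩⟩
  refine PullbackCone.IsLimit.mk _
    (fun s ↦ hker.lift (KernelFork.ofι (biprod.lift s.fst (-s.snd)) (hzero s))) ?_ ?_ ?_
  · intro s
    simpa using hfac s =≫ biprod.fst
  · intro s
    simpa using hfac s =≫ biprod.snd
  · intro s m hm₁ hm₂
    apply Fork.IsLimit.hom_ext hker
    refine Eq.trans ?_ (hfac s).symm
    dsimp
    apply biprod.hom_ext
    · simpa using hm₁
    · simpa using hm₂

end Groth.Agent.S6776
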