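import Groth.Statements.S6779
import Groth.Agent.Lib.Helper33.Moore

set_option autoImplicit false
open CategoryTheory
universe u
open SSet

namespace Groth.Agent.S6779

open Groth.Agent.Lib.Helper33 Simplicial in
/-- The underlying simplicial set of a simplicial group is a Kan complex. -/
theorem result (X : SimplicialObject GrpCat.{u}) : SSet.KanComplex (X ⋙ forget GrpCat.{u}) := by
  rw [SSet.KanComplex.iff]
  intro n i f hf
  let D := SGrp.ofGrp X
  let x : Fin (n + 2) → D.G n := fun j => if h : j ≠ i then yonedaEquiv (f j h) else 1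
  have hx : ∀ j (h : j ≠ i), x j = yonedaEquiv (f j h) := fun j h => dif_pos h
  have key : ∃ w : D.G (n + 1), ∀ j, j ≠ i → D.d j w = x j := by
    obtain _ | m := n
    · exact D.moore_zero i x
    · apply SGrp.moore_succ
      intro j l hj hl hjl
      rw [hx j hj, hx l hl]
      have := hf j l hj hl hjl
      have := congrArg yonedaEquiv this
      rw [stdSimplex.yonedaEquiv_δ_comp, stdSimplex.yonedaEquiv_δ_comp] at this
      exact this
  obtain ⟨w, hw⟩ := key
  let w' : (X ⋙ forget GrpCat.{u}) _⦋n + 1⦌ := w
  refine ⟨yonedaEquiv.symm w', fun j hj => ?_⟩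
  rw [stdSimplex.δ_comp_yonedaEquiv_symm]
  apply yonedaEquiv.injective
  rw [Equiv.apply_symm_apply]
  exact (hw j hj).trans (hx j hj)

end Groth.Agent.S6779
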