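import Groth.Statements.S6780
import Groth.Agent.Lib.Helper33.Moore

set_option autoImplicit false
open CategoryTheory
universe u
open SSet

namespace Groth.Agent.S6780

open Groth.Agent.Lib.Helper33 Simplicial Opposite in
lemma lifting {X Y : SimplicialObject AddCommGrpCat.{u}} (f : X ⟶ Y)
    (hf : ∀ n : SimplexCategoryᵒᵖ, Function.Surjective (f.app n)) (n : ℕ) (k : Fin (n + 2)) :
    HasLiftingProperty Λ[n + 1, k].ι
      (Functor.whiskerRight f (forget AddCommGrpCat.{u}) :
        X ⋙ forget AddCommGrpCat.{u} ⟶ Y ⋙ forget AddCommGrpCat.{u}) := by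
  refine ⟨fun {t b} sq => ?_⟩
  -- the data
  let xs : Fin (n + 2) → X _⦋n⦌ := fun j =>
    if h : j ≠ k then SSet.yonedaEquiv (horn.ι k j h ≫ t) else 0
  have hxs : ∀ j (h : j ≠ k), xs j = SSet.yonedaEquiv (horn.ι k j h ≫ t) := fun j h => dif_pos h
  let y : Y _⦋n + 1⦌ := SSet.yonedaEquiv b
  have hxy : ∀ j, j ≠ k → (f.app (op ⦋n⦌)).hom (xs j) = (Y.δ j).hom y := by
    intro j hj
    rw [hxs j hj]
    have h1 := congrArg SSet.yonedaEquiv (horn.ι k j hj ≫= sq.w)
    rw [← Category.assoc, yonedaEquiv_comp, horn.ι_ι_assoc, stdSimplex.yonedaEquiv_δ_comp] at h1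
    exact h1
  have key : ∃ x : X _⦋n + 1⦌, (f.app (op ⦋n + 1⦌)).hom x = y ∧
      ∀ j, j ≠ k → (X.δ j).hom x = xs j := by
    obtain _ | m := n
    · exact SGrp.exists_filler_zero (hf _) k xs y hxy
    · refine SGrp.exists_filler_succ (hf _) k xs y hxy ?_
      intro j l hj hl hjl
      rw [hxs j hj, hxs l hl]
      have := horn.IsCompatible.of_hom t j l hj hl hjl
      have := congrArg SSet.yonedaEquiv this
      rw [stdSimplex.yonedaEquiv_δ_comp, stdSimplex.yonedaEquiv_δ_comp] at this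
      exact this
  obtain ⟨x, hx1, hx2⟩ := key
  let x' : (X ⋙ forget AddCommGrpCat.{u}) _⦋n + 1⦌ := x
  refine ⟨⟨{ l := SSet.yonedaEquiv.symm x', fac_left := ?_, fac_right := ?_ }⟩⟩
  · apply horn.hom_ext'
    intro j hj
    rw [horn.ι_ι_assoc, stdSimplex.δ_comp_yonedaEquiv_symm]
    apply SSet.yonedaEquiv.injective
    rw [Equiv.apply_symm_apply]
    exact (hx2 j hj).trans (hxs j hj)
  · apply SSet.yonedaEquiv.injective
    rw [yonedaEquiv_symm_comp, Equiv.apply_symm_apply]
    exact hx1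


/-- A degreewise surjective homomorphism of simplicial abelian groups is a Kan fibration of the
underlying simplicial sets. -/
theorem result {X Y : SimplicialObject AddCommGrpCat.{u}} (f : X ⟶ Y) (hf : ∀ n : SimplexCategoryᵒᵖ, Function.Surjective (f.app n)) : SSet.modelCategoryQuillen.J.rlp (X := X ⋙ forget AddCommGrpCat.{u}) (Y := Y ⋙ forget AddCommGrpCat.{u}) (Functor.whiskerRight f (forget AddCommGrpCat.{u})) := by
  intro A B ι hι
  simp only [modelCategoryQuillen.J, MorphismProperty.iSup_iff] at hι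
  obtain ⟨n, ⟨k⟩⟩ := hι
  exact lifting f hf n k

end Groth.Agent.S6780
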