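import Groth.Statements.S6781
import Groth.Agent.Lib.Helper33.SphereFill

set_option autoImplicit false
open CategoryTheory
universe u
open SSet

namespace Groth.Agent.S6781

open Groth.Agent.Lib.Helper33 Simplicial Opposite in
lemma lifting {X Y : SimplicialObject AddCommGrpCat.{u}} (f : X ⟶ Y)
    (hf : ∀ n : SimplexCategoryᵒᵖ, Function.Surjective (f.app n))
    (hq : QuasiIso ((AlgebraicTopology.alternatingFaceMapComplex AddCommGrpCat.{u}).map f))
    (n : ℕ) :
    HasLiftingProperty ∂Δ[n].ι
      (Functor.whiskerRight f (forget AddCommGrpCat.{u}) :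
        X ⋙ forget AddCommGrpCat.{u} ⟶ Y ⋙ forget AddCommGrpCat.{u}) := by
  have : QuasiIso (AlgebraicTopology.AlternatingFaceMapComplex.map f) := hq
  have hf' : ∀ n : ℕ, Function.Surjective (f.app (op ⦋n⦌)).hom := fun n => hf _
  refine ⟨fun {t b} sq => ?_⟩
  obtain _ | m := n
  · obtain ⟨x, hx⟩ := hf' 0 (SSet.yonedaEquiv b)
    let x' : (X ⋙ forget AddCommGrpCat.{u}) _⦋0⦌ := x
    refine ⟨⟨{ l := SSet.yonedaEquiv.symm x', fac_left := by ext, fac_right := ?_ }⟩⟩
    apply SSet.yonedaEquiv.injective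
    rw [yonedaEquiv_symm_comp, Equiv.apply_symm_apply]
    exact hx
  · let xs : Fin (m + 2) → X _⦋m⦌ := fun j => SSet.yonedaEquiv (boundary.ι j ≫ t)
    let y : Y _⦋m + 1⦌ := SSet.yonedaEquiv b
    have hxy : ∀ j, (f.app (op ⦋m⦌)).hom (xs j) = (Y.δ j).hom y := by
      intro j
      have h1 := congrArg SSet.yonedaEquiv (boundary.ι j ≫= sq.w)
      rw [← Category.assoc, yonedaEquiv_comp, boundary.ι_ι_assoc,
        stdSimplex.yonedaEquiv_δ_comp] at h1
      exact h1
    have key : ∃ x : X _⦋m + 1⦌, (f.app (op ⦋m + 1⦌)).hom x = y ∧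
        ∀ j, (X.δ j).hom x = xs j := by
      obtain _ | m' := m
      · exact exists_sphere_filler_zero f hf' xs y hxy
      · refine exists_sphere_filler_succ f hf' m' xs y hxy ?_
        intro j l hjl
        have h1 : stdSimplex.δ (l.pred (Fin.ne_zero_of_lt hjl)) ≫ boundary.ι j ≫ t =
            stdSimplex.δ (j.castPred (Fin.ne_last_of_lt hjl)) ≫ boundary.ι l ≫ t := by
          simp only [← Category.assoc]
          congr 1
          obtain ⟨j, rfl⟩ := j.eq_castSucc_of_ne_last (Fin.ne_last_of_lt hjl)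
          obtain ⟨l, rfl⟩ := l.eq_succ_of_ne_zero (Fin.ne_zero_of_lt hjl)
          rw [← cancel_mono (Subcomplex.ι _), Category.assoc, Category.assoc, boundary.ι_ι,
            boundary.ι_ι, Fin.pred_succ, Fin.castPred_castSucc, stdSimplex.δ_comp_δ (by grind)]
        have := congrArg SSet.yonedaEquiv h1
        rw [stdSimplex.yonedaEquiv_δ_comp, stdSimplex.yonedaEquiv_δ_comp] at this
        exact this
    obtain ⟨x, hx1, hx2⟩ := key
    let x' : (X ⋙ forget AddCommGrpCat.{u}) _⦋m + 1⦌ := x
    refine ⟨⟨{ l := SSet.yonedaEquiv.symm x', fac_left := ?_, fac_right := ?_ }⟩⟩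
    · apply boundary.hom_ext
      intro j
      rw [boundary.ι_ι_assoc, stdSimplex.δ_comp_yonedaEquiv_symm]
      apply SSet.yonedaEquiv.injective
      rw [Equiv.apply_symm_apply]
      exact hx2 j
    · apply SSet.yonedaEquiv.injective
      rw [yonedaEquiv_symm_comp, Equiv.apply_symm_apply]
      exact hx1


/-- A degreewise surjective homomorphism of simplicial abelian groups inducing a quasi-isomorphism of
the associated chain complexes is a trivial Kan fibration of the underlying simplicial sets. -/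
theorem result {X Y : SimplicialObject AddCommGrpCat.{u}} (f : X ⟶ Y) (hf : ∀ n : SimplexCategoryᵒᵖ, Function.Surjective (f.app n)) (hq : QuasiIso ((AlgebraicTopology.alternatingFaceMapComplex AddCommGrpCat.{u}).map f)) : SSet.modelCategoryQuillen.I.rlp (X := X ⋙ forget AddCommGrpCat.{u}) (Y := Y ⋙ forget AddCommGrpCat.{u}) (Functor.whiskerRight f (forget AddCommGrpCat.{u})) := by
  intro A B ι hι
  obtain ⟨n⟩ := hι
  exact lifting f hf hq n

end Groth.Agent.S6781
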