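import Groth.Statements.S6782

set_option autoImplicit false
open CategoryTheory Opposite
universe u
open SSet
open Simplicial SimplexCategory

namespace Groth.Agent.S6782

lemma face_mem (m : ℕ) (i : Fin (m + 2)) :
    (stdSimplex.objEquiv.symm (SimplexCategory.δ i) : (Δ[m + 1] : SSet.{u}) _⦋m⦌) ∈
      (∂Δ[m + 1] : (Δ[m + 1] : SSet.{u}).Subcomplex).obj (op ⦋m⦌) := by
  rw [boundary_obj_eq_univ m (m + 1)]
  exact Set.mem_univ _

lemma boundary_hom_ext {W : SSet.{u}} {m : ℕ} (g₁ g₂ : (∂Δ[m + 1] : SSet.{u}) ⟶ W)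
    (h : ∀ i : Fin (m + 2), g₁.app (op ⦋m⦌) ⟨_, face_mem m i⟩ = g₂.app (op ⦋m⦌) ⟨_, face_mem m i⟩) :
    g₁ = g₂ := by
  ext k ⟨s, hs⟩
  induction k using Opposite.rec with | _ k
  obtain ⟨θ, rfl⟩ := stdSimplex.objEquiv.symm.surjective s
  have hθ : ¬ Function.Surjective θ.toOrderHom := hs
  obtain ⟨i, θ', rfl⟩ := SimplexCategory.eq_comp_δ_of_not_surjective θ hθ
  have e : (⟨stdSimplex.objEquiv.symm (θ' ≫ SimplexCategory.δ i), hs⟩ :
      (∂Δ[m + 1] : SSet.{u}).obj (op k)) =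
      (∂Δ[m + 1] : SSet.{u}).map θ'.op ⟨_, face_mem m i⟩ := by
    apply Subtype.ext
    rfl
  rw [e]
  have n1 := NatTrans.naturality_apply g₁ θ'.op ⟨_, face_mem m i⟩
  have n2 := NatTrans.naturality_apply g₂ θ'.op ⟨_, face_mem m i⟩
  exact n1.trans ((congrArg _ (h i)).trans n2.symm)

lemma lift_low {U V : SSet.{u}} (f : V ⟶ U) (m : ℕ)
    (hsurj : Function.Surjective (f.app (op ⦋m⦌)))
    (hinj : ∀ k, k + 1 = m → Function.Injective (f.app (op ⦋k⦌)))
    (t : (∂Δ[m] : SSet.{u}) ⟶ V) (b : Δ[m] ⟶ U) (sq : CommSq t ∂Δ[m].ι f b) : sq.HasLift := by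
  obtain ⟨v, hv⟩ := hsurj (yonedaEquiv b)
  have fac_right : yonedaEquiv.symm v ≫ f = b := by
    rw [SSet.yonedaEquiv_symm_comp, hv, Equiv.symm_apply_apply]
  refine ⟨⟨{ l := yonedaEquiv.symm v, fac_left := ?_, fac_right := fac_right }⟩⟩
  cases m with
  | zero =>
    ext
  | succ m =>
    apply boundary_hom_ext
    intro i
    apply hinj m rfl
    have h1 := ConcreteCategory.congr_hom (congr_app sq.w (op ⦋m⦌)) ⟨_, face_mem m i⟩
    have h2 := ConcreteCategory.congr_hom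
      (congr_app ((∂Δ[m + 1] : (Δ[m + 1] : SSet.{u}).Subcomplex).ι ≫= fac_right) (op ⦋m⦌))
      ⟨_, face_mem m i⟩
    exact h2.trans h1.symm

lemma lift_high {U V : SSet.{u}} (f : V ⟶ U) (n m : ℕ) (hnm : n < m)
    [SimplicialObject.IsCoskeletal U n] [SimplicialObject.IsCoskeletal V n]
    (t : (∂Δ[m] : SSet.{u}) ⟶ V) (b : Δ[m] ⟶ U) (sq : CommSq t ∂Δ[m].ι f b) : sq.HasLift := by
  have hmem : ∀ (k : (SimplexCategory.Truncated n)ᵒᵖ)
      (x : (Δ[m] : SSet.{u}).obj (op k.unop.obj)),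
      x ∈ (∂Δ[m] : (Δ[m] : SSet.{u}).Subcomplex).obj (op k.unop.obj) := by
    intro k x
    have h1 := boundary_obj_eq_univ.{u} k.unop.obj.len m (lt_of_le_of_lt k.unop.property hnm)
    have h2 : x ∈ (∂Δ[m] : (Δ[m] : SSet.{u}).Subcomplex).obj (op ⦋k.unop.obj.len⦌) := by
      rw [h1]; exact Set.mem_univ _
    exact h2
  let β : (Truncated.inclusion n).op ⋙ (Δ[m] : SSet.{u}) ⟶ (Truncated.inclusion n).op ⋙ V :=
    { app := fun k => ↾fun x => t.app _ ⟨x, hmem k x⟩
      naturality := fun k k' θ => by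
        ext x
        exact NatTrans.naturality_apply t ((Truncated.inclusion n).op.map θ) ⟨x, hmem k x⟩ }
  have hl : Functor.whiskerLeft (Truncated.inclusion n).op
      (V.liftOfIsRightKanExtension (𝟙 ((Truncated.inclusion n).op ⋙ V)) Δ[m] β) ≫ 𝟙 _ = β :=
    V.liftOfIsRightKanExtension_fac (𝟙 ((Truncated.inclusion n).op ⋙ V)) _ _
  refine ⟨⟨{ l := V.liftOfIsRightKanExtension (𝟙 ((Truncated.inclusion n).op ⋙ V)) Δ[m] β,
             fac_left := ?_, fac_right := ?_ }⟩⟩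
  · apply V.hom_ext_of_isRightKanExtension (𝟙 ((Truncated.inclusion n).op ⋙ V))
    rw [Functor.whiskerLeft_comp, Category.assoc, hl]
    ext k ⟨x, hx⟩
    rfl
  · apply U.hom_ext_of_isRightKanExtension (𝟙 ((Truncated.inclusion n).op ⋙ U))
    rw [Category.comp_id] at hl
    rw [Functor.whiskerLeft_comp, hl]
    ext k x
    exact ConcreteCategory.congr_hom (congr_app sq.w ((Truncated.inclusion n).op.obj k))
      ⟨x, hmem k x⟩

/-- A map of `n`-coskeletal simplicial sets which is bijective on simplices of dimension `< n` and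
surjective on `n`-simplices is a trivial Kan fibration. -/
theorem result {U V : SSet.{u}} (f : V ⟶ U) (n : ℕ) (h1 : ∀ i : ℕ, i < n → Function.Bijective (f.app (op (SimplexCategory.mk i)))) (h2 : Function.Surjective (f.app (op (SimplexCategory.mk n)))) [SimplicialObject.IsCoskeletal U n] [SimplicialObject.IsCoskeletal V n] : SSet.modelCategoryQuillen.I.rlp f := by
  intro _ _ i hi
  obtain ⟨m⟩ := hi
  constructor
  intro t b sq
  rcases Nat.lt_or_ge n m with hnm | hmn
  · exact lift_high f n m hnm t b sq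
  · apply lift_low f m _ _ t b sq
    · rcases Nat.lt_or_eq_of_le hmn with h | h
      · exact (h1 m h).surjective
      · rw [h]; exact h2
    · intro k hk
      exact (h1 k (by omega)).injective

end Groth.Agent.S6782
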