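import Groth.Statements.S6783
import Mathlib.CategoryTheory.Limits.Shapes.ConcreteCategory
import Mathlib.CategoryTheory.Limits.Types.Limits

set_option autoImplicit false
open CategoryTheory
universe u
open SSet
open Simplicial Opposite Limits

namespace Groth.Agent.S6783

variable {A B : Type u} (f : A ⟶ B)

/-- The Čech nerve as a simplicial set. -/
noncomputable abbrev Cech : SSet.{u} := (Arrow.mk f).cechNerve

/-- Projections from the Čech nerve. -/
noncomputable def proj {m : SimplexCategoryᵒᵖ} (i : Fin (m.unop.len + 1)) (x : (Cech f).obj m) : A :=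
  WidePullback.π (fun _ : Fin (m.unop.len + 1) => (Arrow.mk f).hom) i x

/-- Base map from the Čech nerve. -/
noncomputable def base {m : SimplexCategoryᵒᵖ} (x : (Cech f).obj m) : B :=
  WidePullback.base (fun _ : Fin (m.unop.len + 1) => (Arrow.mk f).hom) x

lemma f_proj {m : SimplexCategoryᵒᵖ} (i : Fin (m.unop.len + 1)) (x : (Cech f).obj m) :
    f (proj f i x) = base f x :=
  ConcreteCategory.congr_hom
    (WidePullback.π_arrow (fun _ : Fin (m.unop.len + 1) => (Arrow.mk f).hom) i) x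

lemma proj_map {m m' : SimplexCategoryᵒᵖ} (g : m ⟶ m') (i : Fin (m'.unop.len + 1))
    (x : (Cech f).obj m) :
    proj f i ((Cech f).map g x) = proj f (g.unop.toOrderHom i) x :=
  ConcreteCategory.congr_hom
    (WidePullback.lift_π (fun _ : Fin (m'.unop.len + 1) => (Arrow.mk f).hom) _ _ _ i) x

lemma base_map {m m' : SimplexCategoryᵒᵖ} (g : m ⟶ m')
    (x : (Cech f).obj m) :
    base f ((Cech f).map g x) = base f x :=
  ConcreteCategory.congr_hom
    (WidePullback.lift_base (fun _ : Fin (m'.unop.len + 1) => (Arrow.mk f).hom) _ _ _) x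

lemma cech_ext {m : SimplexCategoryᵒᵖ} (x y : (Cech f).obj m)
    (h : ∀ i, proj f i x = proj f i y) : x = y :=
  Concrete.widePullback_ext' (fun _ : Fin (m.unop.len + 1) => (Arrow.mk f).hom) x y h

lemma cech_mk {m : SimplexCategoryᵒᵖ} (a : Fin (m.unop.len + 1) → A) (b₀ : B)
    (h : ∀ i, f (a i) = b₀) : ∃ x : (Cech f).obj m, ∀ i, proj f i x = a i := by
  let l : (PUnit : Type u) ⟶ (Cech f).obj m :=
    WidePullback.lift (arrows := fun _ : Fin (m.unop.len + 1) => (Arrow.mk f).hom)
      (↾fun _ => b₀) (fun i => ↾fun _ => a i) (by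
        intro i
        ext
        exact h i)
  refine ⟨l PUnit.unit, fun i => ?_⟩
  exact ConcreteCategory.congr_hom
    (WidePullback.lift_π (fun _ : Fin (m.unop.len + 1) => (Arrow.mk f).hom) _ _ _ i) PUnit.unit


/-- For a surjective map of sets `f : A → B`, the augmentation from the Čech nerve of `f` (with
`n`-simplices the `(n+1)`-fold fibre product of `A` over `B`) to the constant simplicial set `B` is
a trivial Kan fibration. -/
theorem result {A B : Type u} (f : A ⟶ B) (hf : Function.Surjective f) : SSet.modelCategoryQuillen.I.rlp (Arrow.mk f).augmentedCechNerve.hom := by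
  classical
  intro _ _ i hi
  obtain ⟨n⟩ := hi
  constructor
  intro t b sq
  let b₀ : B := b.app (op ⦋n⦌) (stdSimplex.objEquiv.symm (𝟙 _))
  have hb : ∀ (m : SimplexCategoryᵒᵖ) (s : (Δ[n] : SSet.{u}).obj m), b.app m s = b₀ := by
    intro m s
    have h1 : (Δ[n] : SSet.{u}).map (stdSimplex.objEquiv s).op
        (stdSimplex.objEquiv.symm (𝟙 _)) = s := by
      rw [stdSimplex.map_apply]
      apply stdSimplex.objEquiv.injective
      simp
    have h2 := NatTrans.naturality_apply b (stdSimplex.objEquiv s).op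
      (stdSimplex.objEquiv.symm (𝟙 _))
    rw [h1] at h2
    exact h2
  let v : Fin (n + 1) → (Δ[n] : SSet.{u}).obj (op ⦋0⦌) := fun j => stdSimplex.const n j (op ⦋0⦌)
  let a : Fin (n + 1) → A := fun j =>
    if hj : v j ∈ (∂Δ[n] : (Δ[n] : SSet.{u}).Subcomplex).obj (op ⦋0⦌) then
      proj f (m := op ⦋0⦌) 0 (t.app (op ⦋0⦌) ⟨v j, hj⟩)
    else Classical.choose (hf b₀)
  have ha : ∀ j, f (a j) = b₀ := by
    intro j
    by_cases hj : v j ∈ (∂Δ[n] : (Δ[n] : SSet.{u}).Subcomplex).obj (op ⦋0⦌)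
    · simp only [a, dif_pos hj]
      refine (f_proj f (m := op ⦋0⦌) _ _).trans ?_
      have := ConcreteCategory.congr_hom (congr_app sq.w (op ⦋0⦌)) ⟨v j, hj⟩
      exact this.trans (hb _ _)
    · simp only [a, dif_neg hj]
      exact Classical.choose_spec (hf b₀)
  obtain ⟨x, hx⟩ := cech_mk f (m := op ⦋n⦌) a b₀ ha
  refine ⟨⟨{ l := yonedaEquiv.symm x, fac_left := ?_, fac_right := ?_ }⟩⟩
  · ext m ⟨s, hs⟩
    change (Cech f).map (stdSimplex.objEquiv s).op x = t.app m ⟨s, hs⟩
    apply cech_ext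
    intro i
    rw [proj_map, hx]
    let c : ⦋0⦌ ⟶ m.unop := SimplexCategory.const _ _ i
    have h3 : proj f (m := op ⦋0⦌) 0 ((Cech f).map c.op (t.app m ⟨s, hs⟩)) =
        proj f i (t.app m ⟨s, hs⟩) := proj_map f c.op 0 (t.app m ⟨s, hs⟩)
    have h4 : t.app (op ⦋0⦌) ((∂Δ[n] : (Δ[n] : SSet.{u}).Subcomplex).toSSet.map c.op ⟨s, hs⟩) =
        (Cech f).map c.op (t.app m ⟨s, hs⟩) := NatTrans.naturality_apply t c.op ⟨s, hs⟩
    refine Eq.trans ?_ h3
    refine Eq.trans ?_ (congrArg (proj f (m := op ⦋0⦌) 0) h4)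
    have hj : v ((stdSimplex.objEquiv s).toOrderHom i) ∈
        (∂Δ[n] : (Δ[n] : SSet.{u}).Subcomplex).obj (op ⦋0⦌) :=
      ((∂Δ[n] : (Δ[n] : SSet.{u}).Subcomplex).toSSet.map c.op ⟨s, hs⟩).2
    exact (dif_pos hj).trans rfl
  · ext m s
    refine Eq.trans ?_ (hb m s).symm
    change base f ((Cech f).map (stdSimplex.objEquiv s).op x) = b₀
    rw [base_map, ← f_proj f 0 x, hx, ha]

end Groth.Agent.S6783
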