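import Groth.Statements.S6784

set_option autoImplicit false
open CategoryTheory
universe u
open SSet
open Simplicial SimplexCategory Truncated Opposite Category Functor Limits StructuredArrow

namespace Groth.Agent.S6784

/-- A morphism in `SimplexCategory` with domain `⦋0⦌` or `⦋1⦌` defines a structured arrow. -/
abbrev strArrowMk₁ {i : ℕ} {m : ℕ} (φ : ⦋i⦌ ⟶ ⦋m⦌) (hi : i ≤ 1 := by lia) :
    StructuredArrow (op ⦋m⦌) (Truncated.inclusion 1).op :=
  StructuredArrow.mk (Y := op ⦋i⦌₁) φ.op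

variable {n : ℕ}

/-- The component of a cone, as a simplex of `Δ[n]`. -/
noncomputable def comp {m : ℕ}
    (s : Cone (proj (op ⦋m⦌) (Truncated.inclusion 1).op ⋙
      (Truncated.inclusion 1).op ⋙ (Δ[n] : SSet.{u}))) (x : s.pt) {i : ℕ} (hi : i ≤ 1)
    (f : ⦋i⦌ ⟶ ⦋m⦌) : (Δ[n] : SSet.{u}) _⦋i⦌ :=
  s.π.app (strArrowMk₁ f hi) x

/-- The vertex function. -/
noncomputable def vert {m : ℕ}
    (s : Cone (proj (op ⦋m⦌) (Truncated.inclusion 1).op ⋙
      (Truncated.inclusion 1).op ⋙ (Δ[n] : SSet.{u}))) (x : s.pt) (i : Fin (m + 1)) : Fin (n + 1) :=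
  comp s x (by lia) (SimplexCategory.const ⦋0⦌ ⦋m⦌ i) 0

lemma comp_apply {m : ℕ}
    (s : Cone (proj (op ⦋m⦌) (Truncated.inclusion 1).op ⋙
      (Truncated.inclusion 1).op ⋙ (Δ[n] : SSet.{u}))) (x : s.pt) {i : ℕ} (hi : i ≤ 1)
    (f : ⦋i⦌ ⟶ ⦋m⦌) (k : Fin (i + 1)) :
    comp s x hi f k = vert s x (f.toOrderHom k) := by
  let α : strArrowMk₁ f hi ⟶ strArrowMk₁ (SimplexCategory.const ⦋0⦌ ⦋m⦌ (f.toOrderHom k)) :=
    StructuredArrow.homMk ((Hom.tr (SimplexCategory.const ⦋0⦌ ⦋i⦌ k)).op) (by simp; rfl)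
  have := ConcreteCategory.congr_hom (s.w α) x
  unfold vert comp
  rw [← this]
  rfl

lemma vert_monotone {m : ℕ}
    (s : Cone (proj (op ⦋m⦌) (Truncated.inclusion 1).op ⋙
      (Truncated.inclusion 1).op ⋙ (Δ[n] : SSet.{u}))) (x : s.pt) : Monotone (vert s x) := by
  intro i j hij
  have h := stdSimplex.monotone_apply (comp s x le_rfl (mkOfLe i j hij))
    (show (0 : Fin 2) ≤ 1 by decide)
  beta_reduce at h
  rw [comp_apply, comp_apply] at h
  exact h

/-- The lift. -/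
noncomputable def lift {m : ℕ}
    (s : Cone (proj (op ⦋m⦌) (Truncated.inclusion 1).op ⋙
      (Truncated.inclusion 1).op ⋙ (Δ[n] : SSet.{u}))) (x : s.pt) : (Δ[n] : SSet.{u}) _⦋m⦌ :=
  stdSimplex.objMk ⟨vert s x, vert_monotone s x⟩

open SSet.Truncated in
/-- The cone exhibiting `Δ[n] _⦋m⦌` as a limit over the `1`-truncated structured arrows. -/
noncomputable def isPointwiseRightKanExtensionAt (m : ℕ) :
    (rightExtensionInclusion (Δ[n] : SSet.{u}) 1).IsPointwiseRightKanExtensionAt ⟨⦋m⦌⟩ where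
  lift s := ↾fun x ↦ lift s x
  fac s j := by
    ext x
    obtain ⟨⟨i, hi⟩, ⟨f : _ ⟶ _⟩, rfl⟩ := j.mk_surjective
    obtain ⟨i, rfl⟩ : ∃ j, ⦋j⦌ = i := ⟨_, i.mk_len⟩
    dsimp at hi ⊢
    let y : (Δ[n] : SSet.{u}) _⦋i⦌ := (Δ[n] : SSet.{u}).map f.op (lift s x)
    have key : y = comp s x hi f := by
      ext k : 1
      rw [comp_apply]
      rfl
    exact key
  uniq s m' hm := by
    ext x
    let y : (Δ[n] : SSet.{u}) _⦋m⦌ := (ConcreteCategory.hom m') x
    change y = lift s x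
    ext k : 1
    have := ConcreteCategory.congr_hom (hm (strArrowMk₁ (SimplexCategory.const ⦋0⦌ ⦋m⦌ k))) x
    change _ = vert s x k
    unfold vert comp
    rw [← this]
    rfl

open SSet.Truncated in
/-- The standard simplex `Δ[n]` is `1`-coskeletal, i.e. it is the right Kan extension of its
`1`-truncation. -/
theorem result (n : ℕ) : SimplicialObject.IsCoskeletal (SSet.stdSimplex.{u}.obj (SimplexCategory.mk n)) 1 where
  isRightKanExtension :=
    RightExtension.IsPointwiseRightKanExtension.isRightKanExtension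
      (E := rightExtensionInclusion (Δ[n] : SSet.{u}) 1)
      (fun Δ => isPointwiseRightKanExtensionAt Δ.unop.len)

end Groth.Agent.S6784
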