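import Groth.Statements.S6785
import Mathlib.AlgebraicTopology.SimplicialSet.CategoryWithFibrations

set_option autoImplicit false
open CategoryTheory
universe u
open SSet
open Simplicial MonoidalCategory CartesianMonoidalCategory Opposite

namespace Groth.Agent.S6785

/-- The subcomplex `X × ∂Δ[1]` of `X × Δ[1]`. -/
noncomputable abbrev ends (X : SSet.{u}) : (X ⊗ Δ[1]).Subcomplex :=
  (∂Δ[1]).preimage (snd X Δ[1])

lemma const_of_mem_boundary {n : SimplexCategoryᵒᵖ} (s : (Δ[1] : SSet.{u}).obj n)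
    (hs : s ∈ (∂Δ[1] : (Δ[1] : SSet.{u}).Subcomplex).obj n) (i j : Fin (n.unop.len + 1)) :
    stdSimplex.asOrderHom s i = stdSimplex.asOrderHom s j := by
  have h : ¬ Function.Surjective (stdSimplex.asOrderHom s) := hs
  by_contra hne
  apply h
  intro k
  have : ∀ a b : Fin 2, a ≠ b → ∀ k : Fin 2, k = a ∨ k = b := by decide
  rcases this _ _ hne k with h1 | h1
  · exact ⟨i, h1.symm⟩
  · exact ⟨j, h1.symm⟩

noncomputable def endsDesc {X : SSet.{u}} (a b : X ⟶ X) : (ends X : SSet) ⟶ X where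
  app n := ↾fun z => if stdSimplex.asOrderHom (z.1.2) 0 = 0 then a.app n z.1.1 else b.app n z.1.1
  naturality n m θ := by
    ext z
    have hz : z.1.2 ∈ (∂Δ[1] : (Δ[1] : SSet.{u}).Subcomplex).obj n := z.2
    have key : stdSimplex.asOrderHom (((ends X : SSet).map θ z).1.2) 0
        = stdSimplex.asOrderHom (z.1.2) 0 := by
      change stdSimplex.asOrderHom (z.1.2) (θ.unop.toOrderHom 0) = _
      exact const_of_mem_boundary _ hz _ _
    change (if stdSimplex.asOrderHom (((ends X : SSet).map θ z).1.2) 0 = 0 then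
        a.app m ((ends X : SSet).map θ z).1.1 else b.app m ((ends X : SSet).map θ z).1.1) =
      X.map θ (if stdSimplex.asOrderHom (z.1.2) 0 = 0 then a.app n z.1.1 else b.app n z.1.1)
    rw [key]
    split_ifs
    · exact NatTrans.naturality_apply a θ z.1.1
    · exact NatTrans.naturality_apply b θ z.1.1

lemma ι₀_mem {X : SSet.{u}} {n : SimplexCategoryᵒᵖ} (x : X.obj n) :
    (ι₀ : X ⟶ X ⊗ Δ[1]).app n x ∈ (ends X).obj n := by
  change ¬ Function.Surjective _
  intro h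
  obtain ⟨k, hk⟩ := h 1
  have hk' : (0 : Fin 2) = 1 := hk
  exact absurd hk' (by decide)

lemma ι₁_mem {X : SSet.{u}} {n : SimplexCategoryᵒᵖ} (x : X.obj n) :
    (ι₁ : X ⟶ X ⊗ Δ[1]).app n x ∈ (ends X).obj n := by
  change ¬ Function.Surjective _
  intro h
  obtain ⟨k, hk⟩ := h 0
  have hk' : (1 : Fin 2) = 0 := hk
  exact absurd hk' (by decide)

lemma endsDesc_ι₀ {X : SSet.{u}} (a b : X ⟶ X) {n : SimplexCategoryᵒᵖ} (x : X.obj n) :
    (endsDesc a b).app n ⟨(ι₀ : X ⟶ X ⊗ Δ[1]).app n x, ι₀_mem x⟩ = a.app n x := by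
  have h0 : stdSimplex.asOrderHom (((ι₀ : X ⟶ X ⊗ Δ[1]).app n x).2) 0 = 0 := rfl
  change (if stdSimplex.asOrderHom (((ι₀ : X ⟶ X ⊗ Δ[1]).app n x).2) 0 = 0 then
    a.app n ((ι₀ : X ⟶ X ⊗ Δ[1]).app n x).1 else b.app n ((ι₀ : X ⟶ X ⊗ Δ[1]).app n x).1) = _
  rw [if_pos h0]
  rfl

lemma endsDesc_ι₁ {X : SSet.{u}} (a b : X ⟶ X) {n : SimplexCategoryᵒᵖ} (x : X.obj n) :
    (endsDesc a b).app n ⟨(ι₁ : X ⟶ X ⊗ Δ[1]).app n x, ι₁_mem x⟩ = b.app n x := by
  have h0 : ¬ (stdSimplex.asOrderHom (((ι₁ : X ⟶ X ⊗ Δ[1]).app n x).2) 0 = 0) := by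
    change ¬ ((1 : Fin 2) = 0)
    decide
  change (if stdSimplex.asOrderHom (((ι₁ : X ⟶ X ⊗ Δ[1]).app n x).2) 0 = 0 then
    a.app n ((ι₁ : X ⟶ X ⊗ Δ[1]).app n x).1 else b.app n ((ι₁ : X ⟶ X ⊗ Δ[1]).app n x).1) = _
  rw [if_neg h0]
  rfl


lemma exists_homotopy {X Y : SSet.{u}} (f : X ⟶ Y)
    (hf' : (MorphismProperty.monomorphisms SSet.{u}).rlp f) (a b : X ⟶ X)
    (ha : a ≫ f = f) (hb : b ≫ f = f) : Nonempty (SSet.Homotopy a b) := by
  have sq : CommSq (endsDesc a b) (ends X).ι f (fst X Δ[1] ≫ f) := ⟨by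
    ext n z
    change f.app n (if stdSimplex.asOrderHom (z.1.2) 0 = 0 then a.app n z.1.1 else b.app n z.1.1)
      = f.app n z.1.1
    split_ifs
    · exact ConcreteCategory.congr_hom (congr_app ha n) z.1.1
    · exact ConcreteCategory.congr_hom (congr_app hb n) z.1.1⟩
  have : HasLiftingProperty (ends X).ι f :=
    hf' _ (MorphismProperty.monomorphisms.infer_property _)
  refine ⟨{ h := sq.lift, h₀ := ?_, h₁ := ?_, rel := ?_ }⟩
  · ext n x
    have := ConcreteCategory.congr_hom (congr_app sq.fac_left n) ⟨ι₀.app n x, ι₀_mem x⟩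
    rw [endsDesc_ι₀] at this
    exact this
  · ext n x
    have := ConcreteCategory.congr_hom (congr_app sq.fac_left n) ⟨ι₁.app n x, ι₁_mem x⟩
    rw [endsDesc_ι₁] at this
    exact this
  · ext n ⟨⟨x, hx⟩, _⟩
    exact hx.elim

/-- A trivial Kan fibration `f : X ⟶ Y` of simplicial sets is a homotopy equivalence; more precisely it
has a section `g`, and `g ∘ f` is homotopic to the identity of `X` by a single homotopy in each
direction. (The published statement only asserts a homotopy equivalence; the section and the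
one-step homotopies are what its proof constructs.) -/
theorem result {X Y : SSet.{u}} (f : X ⟶ Y) (hf : SSet.modelCategoryQuillen.I.rlp f) : ∃ g : Y ⟶ X, g ≫ f = 𝟙 Y ∧ Nonempty (SSet.Homotopy (𝟙 X) (f ≫ g)) ∧ Nonempty (SSet.Homotopy (f ≫ g) (𝟙 X)) := by
  have hf' : (MorphismProperty.monomorphisms SSet.{u}).rlp f := by
    rw [rlp_monomorphisms]; exact hf
  have sq₀ : CommSq (Subcomplex.isInitialBot.to X) (⊥ : Y.Subcomplex).ι f (𝟙 Y) :=
    ⟨Subcomplex.isInitialBot.hom_ext _ _⟩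
  have : HasLiftingProperty (⊥ : Y.Subcomplex).ι f :=
    hf' _ (MorphismProperty.monomorphisms.infer_property _)
  have hg : sq₀.lift ≫ f = 𝟙 Y := sq₀.fac_right
  have h1 : (f ≫ sq₀.lift) ≫ f = f := by rw [Category.assoc, hg, Category.comp_id]
  exact ⟨sq₀.lift, hg, exists_homotopy f hf' _ _ (Category.id_comp f) h1,
    exists_homotopy f hf' _ _ h1 (Category.id_comp f)⟩

end Groth.Agent.S6785
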