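import Groth.Statements.S6789
import Mathlib.Order.Fin.Basic
import Mathlib.Data.Fin.SuccPred
import Mathlib.Tactic

set_option autoImplicit false
open CategoryTheory CategoryTheory.Limits
universe v u
open CategoryTheory CategoryTheory.SimplicialObject
open Simplicial Opposite

namespace Groth.Agent.S6789

/-- The indicator deciding where `e` is applied. -/
def hε (c : Bool) {n : ℕ} (i : Fin (n + 1)) (k : Fin (n + 2)) : Bool :=
  xor (decide (i.castSucc < k)) c

lemma hε_congr (c : Bool) {n m : ℕ} (i : Fin (n + 1)) (k : Fin (n + 2)) (i' : Fin (m + 1))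
    (k' : Fin (m + 2)) (h : (i : ℕ) < k ↔ (i' : ℕ) < k') : hε c i k = hε c i' k' := by
  unfold hε
  congr 1
  rw [decide_eq_decide]
  simpa [Fin.lt_def] using h

lemma hε_1 (c : Bool) (n : ℕ) (k : Fin (n + 1)) : hε c (0 : Fin (n + 1)) (Fin.succAbove 0 k) = !c := by
  simp [hε, Fin.lt_def]

lemma hε_2 (c : Bool) (n : ℕ) (k : Fin (n + 1)) :
    hε c (Fin.last n) (Fin.succAbove (Fin.last (n + 1)) k) = c := by
  have : ¬ (n < (k : ℕ)) := by omega
  simp [hε, Fin.lt_def, this]

lemma hε_3 (c : Bool) {n : ℕ} (i : Fin (n + 2)) (j : Fin (n + 1)) (hij : i ≤ j.castSucc)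
    (k : Fin (n + 2)) : hε c j.succ (Fin.succAbove i.castSucc k) = hε c j k := by
  apply hε_congr
  simp only [Fin.succAbove, Fin.lt_def, Fin.le_def] at *
  split_ifs <;> simp at * <;> omega

lemma hε_4 (c : Bool) {n : ℕ} (j : Fin (n + 1)) (k : Fin (n + 2)) :
    hε c j.succ (Fin.succAbove j.castSucc.succ k) =
      hε c j.castSucc (Fin.succAbove j.castSucc.succ k) := by
  apply hε_congr
  simp only [Fin.succAbove, Fin.lt_def, Fin.le_def] at *
  split_ifs <;> simp at * <;> omega

lemma hε_5 (c : Bool) {n : ℕ} (i : Fin (n + 2)) (j : Fin (n + 1)) (hji : j.castSucc < i)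
    (k : Fin (n + 2)) : hε c j.castSucc (Fin.succAbove i.succ k) = hε c j k := by
  apply hε_congr
  simp only [Fin.succAbove, Fin.lt_def, Fin.le_def] at *
  split_ifs <;> simp at * <;> omega

lemma hε_6 (c : Bool) {n : ℕ} (i j : Fin (n + 1)) (hij : i ≤ j) (k : Fin (n + 3)) :
    hε c j (Fin.predAbove i.castSucc k) = hε c j.succ k := by
  apply hε_congr
  by_cases h : i.castSucc.castSucc < k
  · have h' : (i : ℕ) < (k : ℕ) := h
    rw [Fin.predAbove_of_castSucc_lt _ _ h]
    simp only [Fin.le_def, Fin.val_castSucc, Fin.val_succ, Fin.val_pred] at *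
    omega
  · have h' : ¬ ((i : ℕ) < (k : ℕ)) := h
    rw [Fin.predAbove_of_le_castSucc _ _ (not_lt.mp h)]
    simp only [Fin.le_def, Fin.val_castSucc, Fin.val_succ, Fin.coe_castPred] at *
    omega

lemma hε_7 (c : Bool) {n : ℕ} (i j : Fin (n + 1)) (hji : j ≤ i) (k : Fin (n + 3)) :
    hε c j (Fin.predAbove i.succ k) = hε c j.castSucc k := by
  apply hε_congr
  by_cases h : i.succ.castSucc < k
  · have h' : (i : ℕ) + 1 < (k : ℕ) := h
    rw [Fin.predAbove_of_castSucc_lt _ _ h]
    simp only [Fin.le_def, Fin.val_castSucc, Fin.val_succ, Fin.val_pred] at *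
    omega
  · have h' : ¬ ((i : ℕ) + 1 < (k : ℕ)) := h
    rw [Fin.predAbove_of_le_castSucc _ _ (not_lt.mp h)]
    simp only [Fin.le_def, Fin.val_castSucc, Fin.val_succ, Fin.coe_castPred] at *
    try omega


variable {C : Type u} [Category.{v} C] (F : Arrow C)
  [∀ n : ℕ, HasWidePullback F.right (fun _ : Fin (n + 1) => F.left) (fun _ => F.hom)]
  (e : F.left ⟶ F.left)

/-- `e` or the identity. -/
def pw (b : Bool) : F.left ⟶ F.left := if b then e else 𝟙 _

variable {F e}

omit [∀ n : ℕ, HasWidePullback F.right (fun _ : Fin (n + 1) => F.left) (fun _ => F.hom)] in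
lemma pw_comp_hom (he : e ≫ F.hom = F.hom) (b : Bool) : pw F e b ≫ F.hom = F.hom := by
  cases b <;> simp [pw, he]

omit [∀ n : ℕ, HasWidePullback F.right (fun _ : Fin (n + 1) => F.left) (fun _ => F.hom)] in
lemma pw_comp_pw (hee : e ≫ e = e) (b b' : Bool) : pw F e b ≫ pw F e b' = pw F e (b || b') := by
  cases b <;> cases b' <;> simp [pw, hee]

variable (F e)

/-- The general operator on the Čech nerve: reindex along `θ` and apply `e` where `ε` is true. -/
noncomputable def T (he : e ≫ F.hom = F.hom) {n m : ℕ} (θ : Fin (m + 1) → Fin (n + 1))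
    (ε : Fin (m + 1) → Bool) : F.cechNerve.obj (op ⦋n⦌) ⟶ F.cechNerve.obj (op ⦋m⦌) :=
  WidePullback.lift (WidePullback.base _) (fun k => WidePullback.π _ (θ k) ≫ pw F e (ε k))
    (fun k => by rw [Category.assoc, pw_comp_hom he, WidePullback.π_arrow])

variable {F e}

lemma T_comp (he : e ≫ F.hom = F.hom) (hee : e ≫ e = e) {n m l : ℕ}
    (θ : Fin (m + 1) → Fin (n + 1)) (ε : Fin (m + 1) → Bool)
    (θ' : Fin (l + 1) → Fin (m + 1)) (ε' : Fin (l + 1) → Bool) :
    T F e he θ ε ≫ T F e he θ' ε' = T F e he (θ ∘ θ') (fun k => ε (θ' k) || ε' k) := by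
  apply WidePullback.hom_ext
  · intro k
    simp only [T, Category.assoc, WidePullback.lift_π, WidePullback.lift_π_assoc, Function.comp]
    rw [pw_comp_pw hee]
  · simp only [T, Category.assoc, WidePullback.lift_base]

lemma T_congr (he : e ≫ F.hom = F.hom) {n m : ℕ}
    {θ θ' : Fin (m + 1) → Fin (n + 1)} {ε ε' : Fin (m + 1) → Bool}
    (hθ : ∀ k, θ k = θ' k) (hε : ∀ k, ε k = ε' k) : T F e he θ ε = T F e he θ' ε' := by
  obtain rfl : θ = θ' := funext hθ
  obtain rfl : ε = ε' := funext hε
  rfl

lemma map_eq_T (he : e ≫ F.hom = F.hom) {n m : ℕ} (g : (⦋m⦌ : SimplexCategory) ⟶ ⦋n⦌) :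
    F.cechNerve.map g.op = T F e he g.toOrderHom (fun _ => false) := by
  apply WidePullback.hom_ext
  · intro k
    simp [T, pw]
  · simp only [T, Arrow.cechNerve_map, WidePullback.lift_base]

/-- The homotopy. -/
noncomputable def homotopy (he : e ≫ F.hom = F.hom) (hee : e ≫ e = e) (c : Bool)
    (f g : F.cechNerve ⟶ F.cechNerve)
    (hf : ∀ n : ℕ, f.app (op ⦋n⦌) = T F e he id (fun _ => c))
    (hg : ∀ n : ℕ, g.app (op ⦋n⦌) = T F e he id (fun _ => !c)) : Homotopy f g where
  h i := T F e he (Fin.predAbove i) (hε c i)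
  h_zero_comp_δ_zero n := by
    rw [hg]
    change _ ≫ F.cechNerve.map (SimplexCategory.δ 0).op = _
    rw [map_eq_T he, T_comp he hee]
    apply T_congr
    · intro k
      exact congrArg (fun g => g.toOrderHom k) (SimplexCategory.δ_comp_σ_self (i := (0 : Fin (n + 1))))
    · intro k
      simp only [Bool.or_false, Bool.false_or]
      exact hε_1 c n k
  h_last_comp_δ_last n := by
    rw [hf]
    change _ ≫ F.cechNerve.map (SimplexCategory.δ (Fin.last (n + 1))).op = _
    rw [map_eq_T he, T_comp he hee]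
    apply T_congr
    · intro k
      exact congrArg (fun g => g.toOrderHom k) (SimplexCategory.δ_comp_σ_succ (i := Fin.last n))
    · intro k
      simp only [Bool.or_false, Bool.false_or]
      exact hε_2 c n k
  h_succ_comp_δ_castSucc_of_lt {n} i j hij := by
    change _ ≫ F.cechNerve.map (SimplexCategory.δ i.castSucc).op =
      F.cechNerve.map (SimplexCategory.δ i).op ≫ _
    rw [map_eq_T he, map_eq_T he, T_comp he hee, T_comp he hee]
    apply T_congr
    · intro k
      exact congrArg (fun g => g.toOrderHom k) (SimplexCategory.δ_comp_σ_of_le hij)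
    · intro k
      simp only [Bool.or_false, Bool.false_or]
      exact hε_3 c i j hij k
  h_succ_comp_δ_castSucc_succ {n} j := by
    change _ ≫ F.cechNerve.map (SimplexCategory.δ j.castSucc.succ).op =
      _ ≫ F.cechNerve.map (SimplexCategory.δ j.castSucc.succ).op
    rw [map_eq_T he, T_comp he hee, T_comp he hee]
    apply T_congr
    · intro k
      have h1 := congrArg (fun g => g.toOrderHom k) (SimplexCategory.δ_comp_σ_self (i := j.succ))
      have h2 := congrArg (fun g => g.toOrderHom k) (SimplexCategory.δ_comp_σ_succ (i := j.castSucc))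
      exact h1.trans h2.symm
    · intro k
      simp only [Bool.or_false, Bool.false_or]
      exact hε_4 c j k
  h_castSucc_comp_δ_succ_of_lt {n} i j hji := by
    change _ ≫ F.cechNerve.map (SimplexCategory.δ i.succ).op =
      F.cechNerve.map (SimplexCategory.δ i).op ≫ _
    rw [map_eq_T he, map_eq_T he, T_comp he hee, T_comp he hee]
    apply T_congr
    · intro k
      exact congrArg (fun g => g.toOrderHom k) (SimplexCategory.δ_comp_σ_of_gt hji)
    · intro k
      simp only [Bool.or_false, Bool.false_or]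
      exact hε_5 c i j hji k
  h_comp_σ_castSucc_of_le {n} i j hij := by
    change _ ≫ F.cechNerve.map (SimplexCategory.σ i.castSucc).op =
      F.cechNerve.map (SimplexCategory.σ i).op ≫ _
    rw [map_eq_T he, map_eq_T he, T_comp he hee, T_comp he hee]
    apply T_congr
    · intro k
      exact congrArg (fun g => g.toOrderHom k) (SimplexCategory.σ_comp_σ hij)
    · intro k
      simp only [Bool.or_false, Bool.false_or]
      exact hε_6 c i j hij k
  h_comp_σ_succ_of_lt {n} i j hji := by
    change _ ≫ F.cechNerve.map (SimplexCategory.σ i.succ).op =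
      F.cechNerve.map (SimplexCategory.σ i).op ≫ _
    rw [map_eq_T he, map_eq_T he, T_comp he hee, T_comp he hee]
    apply T_congr
    · intro k
      exact (congrArg (fun g => g.toOrderHom k) (SimplexCategory.σ_comp_σ hji)).symm
    · intro k
      simp only [Bool.or_false, Bool.false_or]
      exact hε_7 c i j hji k

set_option backward.isDefEq.respectTransparency false in
lemma id_app_eq_T (he : e ≫ F.hom = F.hom) (n : ℕ) :
    (𝟙 F.cechNerve : _ ⟶ _).app (op ⦋n⦌) = T F e he id (fun _ => false) := by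
  apply WidePullback.hom_ext
  · intro k
    simp [T, pw]
  · simp [T]

set_option backward.isDefEq.respectTransparency false in
lemma mapCechNerve_app_eq_T (φ : F ⟶ F) (hr : φ.right = 𝟙 _) (he : φ.left ≫ F.hom = F.hom)
    (n : ℕ) :
    (Arrow.mapCechNerve φ).app (op ⦋n⦌) = T F φ.left he id (fun _ => true) := by
  apply WidePullback.hom_ext
  · intro k
    simp [T, pw]
  · simp [T, hr]

/-- For a morphism `f : Y ⟶ X` with a section `s`, the endomorphism of the Čech nerve of `f` (the
simplicial object of iterated fibre products of `Y` over `X`) that applies `s ∘ f` factorwise admits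
simplicial homotopies to and from the identity: the published formula gives one direction and its
mirror image (exchange the roles of the identity and `s ∘ f`) gives the other. -/
theorem result {C : Type u} [Category.{v} C] {Y X : C} (f : Y ⟶ X) (s : X ⟶ Y) (hs : s ≫ f = 𝟙 X) [∀ n : ℕ, HasWidePullback (Arrow.mk f).right (fun _ : Fin (n + 1) => (Arrow.mk f).left) (fun _ => (Arrow.mk f).hom)] (φ : Arrow.mk f ⟶ Arrow.mk f) (hφl : φ.left = f ≫ s) (hφr : φ.right = 𝟙 X) : Nonempty (SimplicialObject.Homotopy (𝟙 (Arrow.mk f).cechNerve) (Arrow.mapCechNerve φ)) ∧ Nonempty (SimplicialObject.Homotopy (Arrow.mapCechNerve φ) (𝟙 (Arrow.mk f).cechNerve)) := by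
  have he : φ.left ≫ (Arrow.mk f).hom = (Arrow.mk f).hom := by
    rw [hφl]
    change (f ≫ s) ≫ f = f
    rw [Category.assoc, hs, Category.comp_id]
  have hee : φ.left ≫ φ.left = φ.left := by
    rw [hφl]
    change (f ≫ s) ≫ (f ≫ s) = f ≫ s
    rw [Category.assoc, ← Category.assoc s, hs, Category.id_comp]
  have h1 : ∀ n : ℕ, (𝟙 (Arrow.mk f).cechNerve : _ ⟶ _).app (op ⦋n⦌) =
      T (Arrow.mk f) φ.left he id (fun _ => false) := id_app_eq_T he
  have h2 : ∀ n : ℕ, (Arrow.mapCechNerve φ).app (op ⦋n⦌) =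
      T (Arrow.mk f) φ.left he id (fun _ => true) := mapCechNerve_app_eq_T φ hφr he
  exact ⟨⟨homotopy he hee false _ _ h1 h2⟩, ⟨homotopy he hee true _ _ h2 h1⟩⟩

end Groth.Agent.S6789
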