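import Groth.Statements.S6790
import Mathlib.Tactic.CategoryTheory.Monoidal.Basic

set_option autoImplicit false
open CategoryTheory CategoryTheory.Limits MonoidalCategory
universe v u
open CategoryTheory CategoryTheory.Monoidal

namespace Groth.Agent.S6790

open ExactPairing in
/-- A retract of an object with a right dual, whose dual idempotent splits, has a right dual. -/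
noncomputable def exactPairingOfRetract {A : Type u} [Category.{v} A] [MonoidalCategory A]
    {X X₁ : A} (i : X₁ ⟶ X) (p : X ⟶ X₁) (hip : i ≫ p = 𝟙 X₁) [HasRightDual X]
    {Y₁ : A} (j : Y₁ ⟶ Xᘁ) (q : Xᘁ ⟶ Y₁) (hjq : j ≫ q = 𝟙 Y₁) (hqj : q ≫ j = (p ≫ i)ᘁ) :
    ExactPairing X₁ Y₁ where
  coevaluation' := η_ X (Xᘁ) ≫ p ▷ (Xᘁ) ≫ X₁ ◁ q
  evaluation' := j ▷ X₁ ≫ (Xᘁ) ◁ i ≫ ε_ X (Xᘁ)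
  evaluation_coevaluation' := by
    have hie : i ≫ p ≫ i = i := by rw [← Category.assoc, hip, Category.id_comp]
    calc
      _ = η_ X (Xᘁ) ▷ X₁ ⊗≫ p ▷ (Xᘁ) ▷ X₁ ⊗≫ X₁ ◁ (q ≫ j) ▷ X₁ ⊗≫ X₁ ◁ (Xᘁ) ◁ i ⊗≫
          X₁ ◁ ε_ X (Xᘁ) := by
        monoidal
      _ = η_ X (Xᘁ) ▷ X₁ ⊗≫ p ▷ (Xᘁ) ▷ X₁ ⊗≫ X₁ ◁ ((p ≫ i)ᘁ ▷ X₁ ≫ (Xᘁ) ◁ i) ⊗≫
          X₁ ◁ ε_ X (Xᘁ) := by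
        rw [hqj]; monoidal
      _ = η_ X (Xᘁ) ▷ X₁ ⊗≫ p ▷ (Xᘁ) ▷ X₁ ⊗≫ X₁ ◁ (Xᘁ) ◁ i ⊗≫
          X₁ ◁ ((p ≫ i)ᘁ ▷ X ≫ ε_ X (Xᘁ)) := by
        rw [← whisker_exchange]; monoidal
      _ = η_ X (Xᘁ) ▷ X₁ ⊗≫ p ▷ (Xᘁ) ▷ X₁ ⊗≫ X₁ ◁ (Xᘁ) ◁ (i ≫ p ≫ i) ⊗≫
          X₁ ◁ ε_ X (Xᘁ) := by
        rw [rightAdjointMate_comp_evaluation]; monoidal
      _ = η_ X (Xᘁ) ▷ X₁ ⊗≫ (p ▷ ((Xᘁ) ⊗ X₁) ≫ X₁ ◁ ((Xᘁ) ◁ i)) ⊗≫ X₁ ◁ ε_ X (Xᘁ) := by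
        rw [hie]; monoidal
      _ = 𝟙 _ ⊗≫ (η_ X (Xᘁ) ▷ X₁ ≫ (X ⊗ (Xᘁ)) ◁ i) ⊗≫
          (p ▷ ((Xᘁ) ⊗ X) ≫ X₁ ◁ ε_ X (Xᘁ)) ⊗≫ 𝟙 _ := by
        rw [← whisker_exchange]; monoidal
      _ = 𝟙 _ ⊗≫ i ⊗≫ (η_ X (Xᘁ) ▷ X ⊗≫ X ◁ ε_ X (Xᘁ)) ⊗≫ p ⊗≫ 𝟙 _ := by
        rw [← whisker_exchange, ← whisker_exchange]; monoidal
      _ = 𝟙 _ ⊗≫ (i ≫ p) ⊗≫ 𝟙 _ := by
        rw [evaluation_coevaluation'']; monoidal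
      _ = (λ_ X₁).hom ≫ (ρ_ X₁).inv := by
        rw [hip]
        monoidal
  coevaluation_evaluation' := by
    have hmate : 𝟙 _ ⊗≫ ((Xᘁ : A) ◁ η_ X (Xᘁ) ⊗≫ (Xᘁ : A) ◁ (p ≫ i) ▷ (Xᘁ) ⊗≫ ε_ X (Xᘁ) ▷ (Xᘁ)) ⊗≫ 𝟙 _
        = (p ≫ i)ᘁ := by
      dsimp only [rightAdjointMate]; monoidal
    calc
      _ = Y₁ ◁ η_ X (Xᘁ) ⊗≫ Y₁ ◁ p ▷ (Xᘁ) ⊗≫ (Y₁ ◁ (X₁ ◁ q) ≫ j ▷ (X₁ ⊗ Y₁)) ⊗≫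
          ((Xᘁ) ◁ i) ▷ Y₁ ⊗≫ ε_ X (Xᘁ) ▷ Y₁ := by
        monoidal
      _ = (Y₁ ◁ η_ X (Xᘁ) ≫ Y₁ ◁ p ▷ (Xᘁ) ≫ j ▷ (X₁ ⊗ (Xᘁ))) ⊗≫
          ((Xᘁ : A) ◁ (X₁ ◁ q) ⊗≫ ((Xᘁ) ◁ i) ▷ Y₁ ⊗≫ ε_ X (Xᘁ) ▷ Y₁) := by
        rw [whisker_exchange]; monoidal
      _ = (Y₁ ◁ η_ X (Xᘁ) ≫ j ▷ (X ⊗ (Xᘁ))) ⊗≫ (Xᘁ : A) ◁ p ▷ (Xᘁ) ⊗≫
          (((Xᘁ : A) ⊗ X₁) ◁ q ≫ ((Xᘁ) ◁ i) ▷ Y₁) ⊗≫ ε_ X (Xᘁ) ▷ Y₁ := by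
        rw [whisker_exchange]; monoidal
      _ = 𝟙 _ ⊗≫ j ⊗≫ (Xᘁ : A) ◁ η_ X (Xᘁ) ⊗≫ (Xᘁ : A) ◁ p ▷ (Xᘁ) ⊗≫ ((Xᘁ : A) ◁ i) ▷ (Xᘁ) ⊗≫
          (((Xᘁ : A) ⊗ X) ◁ q ≫ ε_ X (Xᘁ) ▷ Y₁) := by
        rw [whisker_exchange, whisker_exchange]; monoidal
      _ = 𝟙 _ ⊗≫ j ⊗≫ ((Xᘁ : A) ◁ η_ X (Xᘁ) ⊗≫ (Xᘁ : A) ◁ (p ≫ i) ▷ (Xᘁ) ⊗≫ ε_ X (Xᘁ) ▷ (Xᘁ)) ⊗≫
          q ⊗≫ 𝟙 _ := by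
        rw [whisker_exchange]; monoidal
      _ = 𝟙 _ ⊗≫ (j ≫ (p ≫ i)ᘁ ≫ q) ⊗≫ 𝟙 _ := by
        rw [← hmate]; monoidal
      _ = (ρ_ Y₁).hom ≫ (λ_ Y₁).inv := by
        rw [← hqj, Category.assoc, reassoc_of% hjq, hjq]
        monoidal

/-- In an idempotent-complete additive monoidal category, a direct summand of an object admitting a dual
(with coevaluation `𝟙_ A ⟶ X ⊗ Y` and evaluation `Y ⊗ X ⟶ 𝟙_ A`) again admits such a dual. -/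
theorem result {A : Type u} [Category.{v} A] [Preadditive A] [HasFiniteBiproducts A] [MonoidalCategory A] [MonoidalPreadditive A] [IsIdempotentComplete A] {X X₁ : A} (i : X₁ ⟶ X) (p : X ⟶ X₁) (hip : i ≫ p = 𝟙 X₁) [HasRightDual X] : Nonempty (HasRightDual X₁) := by
  have he : (p ≫ i) ≫ (p ≫ i) = p ≫ i := by
    rw [Category.assoc, ← Category.assoc i, hip, Category.id_comp]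
  have hE : (p ≫ i)ᘁ ≫ (p ≫ i)ᘁ = (p ≫ i)ᘁ := by
    rw [← comp_rightAdjointMate, he]
  obtain ⟨Y₁, j, q, hjq, hqj⟩ := IsIdempotentComplete.idempotents_split (Xᘁ) ((p ≫ i)ᘁ) hE
  exact ⟨{ rightDual := Y₁, exact := exactPairingOfRetract i p hip j q hjq hqj }⟩

end Groth.Agent.S6790
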