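import Groth.Statements.S6792
import Mathlib.Order.Interval.Finset.Defs
import Mathlib.Data.Set.Finite.Basic
import Mathlib.Order.Interval.Finset.Basic
import Mathlib.Data.Int.Interval

set_option autoImplicit false
open CategoryTheory
universe v u
open SpSeq SpSeq.FilCx

namespace Groth.Agent.S6792

section Helpers

open CategoryTheory.Limits

section General

variable {A : Type u} [Category.{v} A] [Abelian A]

lemma isZero_subquot_of_le {X : A} (Z B : Subobject X) (h : B ≤ Z) (h' : Z ≤ B) :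
    IsZero (subquot Z B h) := by
  have : B.ofLE Z h = (Subobject.isoOfEq _ _ (le_antisymm h h')).hom := rfl
  have hiso : IsIso (B.ofLE Z h) := by rw [this]; infer_instance
  unfold subquot
  exact isZero_cokernel_of_epi _

lemma pullback_bot {X Y : A} (f : X ⟶ Y) :
    (Subobject.pullback f).obj ⊥ = kernelSubobject f := by
  apply le_antisymm
  · apply le_kernelSubobject
    rw [Subobject.pullback_obj]
    have h1 : (Subobject.mk (pullback.snd (⊥ : Subobject Y).arrow f)).arrow =
        (Subobject.underlyingIso _).hom ≫ pullback.snd (⊥ : Subobject Y).arrow f :=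
      (Subobject.underlyingIso_hom_comp_eq_mk _).symm
    have h2 : pullback.fst (⊥ : Subobject Y).arrow f ≫ (⊥ : Subobject Y).arrow = 0 :=
      (congrArg (fun z => pullback.fst (⊥ : Subobject Y).arrow f ≫ z) Subobject.bot_arrow).trans
        comp_zero
    rw [h1, Category.assoc, ← pullback.condition, h2, comp_zero]
  · exact kernelSubobject_le_pullback f ⊥

lemma imageSubobject_top_arrow_comp {X Y : A} (f : X ⟶ Y) :
    imageSubobject ((⊤ : Subobject X).arrow ≫ f) = imageSubobject f :=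
  imageSubobject_iso_comp _ f

lemma imageSubobject_eq_bot_of_eq_zero {X Y : A} {f : X ⟶ Y} (h : f = 0) :
    imageSubobject f = ⊥ := by
  subst h
  exact imageSubobject_zero

lemma imageSubobject_eq_top_of_isIso {X Y : A} (f : X ⟶ Y) [IsIso f] :
    imageSubobject f = ⊤ := by
  have : IsSplitEpi (imageSubobject f).arrow :=
    ⟨⟨inv f ≫ factorThruImageSubobject f, by simp⟩⟩
  have : IsIso (imageSubobject f).arrow := isIso_of_mono_of_isSplitEpi _
  exact Subobject.eq_top_of_isIso_arrow _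

lemma imageSubobject_arrow_comp_of_eq_top {X Y : A} (S : Subobject X) (hS : S = ⊤) (f : X ⟶ Y) :
    imageSubobject (S.arrow ≫ f) = imageSubobject f := by
  subst hS
  exact imageSubobject_top_arrow_comp f

lemma isIso_cokernel_π_of_eq_bot {X : A} (S : Subobject X) (hS : S = ⊥) :
    IsIso (cokernel.π S.arrow) := by
  subst hS
  exact cokernel.π_of_zero Subobject.bot_arrow

lemma isSeparated_of_isFinite (L : SpSeq.FilObj A) (h : L.IsFinite) : L.IsSeparated := by
  obtain ⟨_, ⟨b, hb⟩⟩ := h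
  refine ⟨fun _ _ => bot_le, fun S hS => ?_⟩
  rw [← hb]
  exact hS ⟨b, rfl⟩

lemma isExhaustive_of_isFinite (L : SpSeq.FilObj A) (h : L.IsFinite) : L.IsExhaustive := by
  obtain ⟨⟨a, ha⟩, _⟩ := h
  refine ⟨fun _ _ => le_top, fun S hS => ?_⟩
  rw [← ha]
  exact hS ⟨a, rfl⟩

lemma π_quotMap (L : SpSeq.FilObj A) {p q : ℤ} (h : p ≤ q) :
    cokernel.π (L.fil q).arrow ≫ L.quotMap h = cokernel.π (L.fil p).arrow := by
  unfold SpSeq.FilObj.quotMap
  exact cokernel.π_desc _ _ _

lemma isComplete_of_isFinite (L : SpSeq.FilObj A) (h : L.IsFinite) : L.IsComplete := by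
  obtain ⟨_, ⟨b, hb⟩⟩ := h
  intro T f hf
  have hiso : ∀ p, b ≤ p → IsIso (cokernel.π (L.fil p).arrow) := fun p hp =>
    isIso_cokernel_π_of_eq_bot _ (le_bot_iff.1 (hb ▸ L.anti hp))
  have := hiso b le_rfl
  refine ⟨f b ≫ inv (cokernel.π (L.fil b).arrow), fun p => ?_⟩
  rcases le_total p b with hp | hp
  · rw [← π_quotMap L hp, Category.assoc, IsIso.inv_hom_id_assoc, hf p b hp]
  · have := hiso p hp
    rw [← cancel_mono (inv (cokernel.π (L.fil p).arrow)), Category.assoc, Category.assoc,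
      IsIso.hom_inv_id, Category.comp_id, ← hf b p hp, Category.assoc]
    congr 1
    rw [← cancel_epi (cokernel.π (L.fil p).arrow), IsIso.hom_inv_id, ← Category.assoc,
      π_quotMap L hp, IsIso.hom_inv_id]

end General

section

variable {A : Type u} [Category.{v} A] [Abelian A] (K : SpSeq.FilCx A)

lemma filX_top_of_le {a p n : ℤ} (h : K.filX a n = ⊤) (hp : p ≤ a) : K.filX p n = ⊤ :=
  top_le_iff.1 (h ▸ K.filX_anti n hp)

lemma filX_bot_of_ge {b p n : ℤ} (h : K.filX b n = ⊥) (hp : b ≤ p) : K.filX p n = ⊥ :=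
  le_bot_iff.1 (h ▸ K.filX_anti n hp)

lemma filH_bot {b n : ℤ} (hb : K.filX b n = ⊥) : K.filH b n = ⊥ := by
  unfold filH
  have h0 : (K.fil b).arrow.f n = 0 := Subobject.mk_eq_bot_iff_zero.1 hb
  have hz : IsZero ((K.fil b : CochainComplex A ℤ).X n) := IsZero.of_mono_eq_zero _ h0
  have hz' : IsZero ((K.fil b : CochainComplex A ℤ).homology n) :=
    ShortComplex.isZero_homology_of_isZero_X₂ _ hz
  exact imageSubobject_eq_bot_of_eq_zero (hz'.eq_of_src _ _)

lemma filH_top {a n : ℤ} (h1 : K.filX a (n - 1) = ⊤) (h2 : K.filX a n = ⊤)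
    (h3 : K.filX a (n + 1) = ⊤) : K.filH a n = ⊤ := by
  unfold filH
  have hi : ∀ m, K.filX a m = ⊤ → IsIso ((K.fil a).arrow.f m) := fun m hm =>
    (Subobject.isIso_iff_mk_eq_top _).2 hm
  have i1 : IsIso ((K.fil a).arrow.f ((ComplexShape.up ℤ).prev n)) := by
    rw [CochainComplex.prev]; exact hi _ h1
  have i2 : IsIso ((K.fil a).arrow.f n) := hi _ h2
  have i3 : IsIso ((K.fil a).arrow.f ((ComplexShape.up ℤ).next n)) := by
    rw [CochainComplex.next]; exact hi _ h3
  have : IsIso (HomologicalComplex.homologyMap (K.fil a).arrow n) := by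
    unfold HomologicalComplex.homologyMap
    exact ShortComplex.isIso_homologyMap_of_epi_of_isIso_of_mono' _
      (by change Epi ((K.fil a).arrow.f _); infer_instance)
      (by change IsIso ((K.fil a).arrow.f _); infer_instance)
      (by change Mono ((K.fil a).arrow.f _); infer_instance)
  exact imageSubobject_eq_top_of_isIso _

variable (hK : ∀ n : ℤ, (K.XFil n).IsFinite)

include hK in
lemma isBounded_zero : K.IsBounded 0 := by
  intro n
  obtain ⟨⟨a, ha⟩, ⟨b, hb⟩⟩ := hK n
  change K.filX a n = ⊤ at ha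
  change K.filX b n = ⊥ at hb
  apply Set.Finite.subset (Set.finite_Icc a b)
  intro p hp
  by_contra hmem
  apply hp
  rw [Set.mem_Icc, not_and_or, not_le, not_le] at hmem
  rcases hmem with h | h
  · -- `p < a` : both are `⊤`
    have h1 : K.filX (p + 1) n = ⊤ := filX_top_of_le K ha (by omega)
    apply isZero_subquot_of_le
    unfold ZSub BSub
    rw [h1, sup_top_eq, sup_top_eq]
  · -- `b < p` : the numerator is `⊥`
    have h0 : K.filX p n = ⊥ := filX_bot_of_ge K hb (by omega)
    have h1 : K.filX (p + 1) n = ⊥ := filX_bot_of_ge K hb (by omega)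
    apply isZero_subquot_of_le
    unfold ZSub
    rw [h0, h1, bot_inf_eq, bot_sup_eq]
    exact bot_le

include hK in
lemma hFil_isFinite (n : ℤ) : (K.HFil n).IsFinite := by
  obtain ⟨⟨a₁, ha₁⟩, _⟩ := hK (n - 1)
  obtain ⟨⟨a₂, ha₂⟩, ⟨b, hb⟩⟩ := hK n
  obtain ⟨⟨a₃, ha₃⟩, _⟩ := hK (n + 1)
  change K.filX a₁ (n - 1) = ⊤ at ha₁
  change K.filX a₂ n = ⊤ at ha₂
  change K.filX a₃ (n + 1) = ⊤ at ha₃
  change K.filX b n = ⊥ at hb
  refine ⟨⟨min a₁ (min a₂ a₃), ?_⟩, ⟨b, filH_bot K hb⟩⟩
  exact filH_top K (filX_top_of_le K ha₁ (min_le_left _ _))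
    (filX_top_of_le K ha₂ ((min_le_right _ _).trans (min_le_left _ _)))
    (filX_top_of_le K ha₃ ((min_le_right _ _).trans (min_le_right _ _)))

include hK in
lemma zSub_eq_zTop (p n : ℤ) : ∃ r₀ : ℕ, ∀ r : ℕ, r₀ ≤ r → K.ZSub r p n = K.ZTop p n := by
  obtain ⟨_, ⟨b, hb⟩⟩ := hK (n + 1)
  change K.filX b (n + 1) = ⊥ at hb
  refine ⟨(b - p).toNat, fun r hr => ?_⟩
  have h0 : K.filX (p + r) (n + 1) = ⊥ := filX_bot_of_ge K hb (by
    have := Int.self_le_toNat (b - p)
    have : ((b - p).toNat : ℤ) ≤ r := by exact_mod_cast hr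
    omega)
  unfold ZSub ZTop
  rw [h0, pullback_bot]

include hK in
lemma bSub_eq_bBot (p n : ℤ) : ∃ r₀ : ℕ, ∀ r : ℕ, r₀ ≤ r → K.BSub r p n = K.BBot p n := by
  obtain ⟨⟨a, ha⟩, _⟩ := hK (n - 1)
  change K.filX a (n - 1) = ⊤ at ha
  refine ⟨(p + 1 - a).toNat, fun r hr => ?_⟩
  have h0 : K.filX (p - r + 1) (n - 1) = ⊤ := filX_top_of_le K ha (by
    have := Int.self_le_toNat (p + 1 - a)
    have : ((p + 1 - a).toNat : ℤ) ≤ r := by exact_mod_cast hr
    omega)
  unfold BSub BBot
  rw [imageSubobject_arrow_comp_of_eq_top _ h0]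

lemma zTop_le_zSub (r : ℕ) (p n : ℤ) : K.ZTop p n ≤ K.ZSub r p n :=
  sup_le_sup_right (inf_le_inf_left _ (kernelSubobject_le_pullback _ _)) _

lemma bSub_le_bBot (r : ℕ) (p n : ℤ) : K.BSub r p n ≤ K.BBot p n :=
  sup_le_sup_right (inf_le_inf_left _ (imageSubobject_comp_le _ _)) _

include hK in
lemma weaklyConverges : K.WeaklyConverges := by
  intro p n
  constructor
  · obtain ⟨r₀, hr₀⟩ := zSub_eq_zTop K hK p n
    constructor
    · rintro _ ⟨r, rfl⟩
      exact zTop_le_zSub K r p n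
    · intro S hS
      rw [← hr₀ r₀ le_rfl]
      exact hS ⟨r₀, rfl⟩
  · obtain ⟨r₀, hr₀⟩ := bSub_eq_bBot K hK p n
    constructor
    · rintro _ ⟨r, rfl⟩
      exact bSub_le_bBot K r p n
    · intro S hS
      rw [← hr₀ r₀ le_rfl]
      exact hS ⟨r₀, rfl⟩

include hK in
lemma isRegular : K.IsRegular := by
  intro p n
  obtain ⟨r₀, hr₀⟩ := zSub_eq_zTop K hK p n
  exact ⟨r₀, fun r hr => (hr₀ r hr).trans (hr₀ r₀ le_rfl).symm⟩

end

end Helpers


/-- For a filtered complex whose filtration is finite in each degree, the associated spectral sequence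
is bounded (from page `0` on), the induced filtration on each cohomology object is finite, and the
spectral sequence converges to the cohomology. -/
theorem result {A : Type u} [Category.{v} A] [Abelian A] (K : SpSeq.FilCx A) (hK : ∀ n : ℤ, (K.XFil n).IsFinite) : K.IsBounded 0 ∧ (∀ n : ℤ, (K.HFil n).IsFinite) ∧ K.Converges := by
  refine ⟨isBounded_zero K hK, hFil_isFinite K hK, isRegular K hK,
    ⟨weaklyConverges K hK, fun n => ⟨isSeparated_of_isFinite _ (hFil_isFinite K hK n),
      isExhaustive_of_isFinite _ (hFil_isFinite K hK n)⟩⟩,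
    fun n => isComplete_of_isFinite _ (hFil_isFinite K hK n)⟩

end Groth.Agent.S6792
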