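import Groth.Statements.S6794
import Groth.Agent.S6792
import Groth.Agent.Lib.Helper33.SubobjectElem
import Mathlib.Algebra.Homology.Refinements

set_option autoImplicit false
open CategoryTheory CategoryTheory.Limits
universe v u
open SpSeq SpSeq.FilCx

namespace Groth.Agent.S6794

section Helpers

open Groth.Agent.Lib.Helper33

variable {A : Type u} [Category.{v} A] [Abelian A] (K : SpSeq.FilCx A)

/-- The `p`-th step of the filtration, as a complex. -/
noncomputable abbrev L (p : ℤ) : CochainComplex A ℤ := (K.fil p : CochainComplex A ℤ)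

/-- The inclusion of the `p`-th step. -/
noncomputable abbrev ι (p : ℤ) : L K p ⟶ K.obj := (K.fil p).arrow

lemma filX_factors_iff {p n : ℤ} {T : A} (x : T ⟶ K.obj.X n) :
    (K.filX p n).Factors x ↔ ∃ y : T ⟶ (L K p).X n, y ≫ (ι K p).f n = x :=
  mk_factors_iff' _ x

@[reassoc]
lemma stepLE_ι {p q : ℤ} (h : p ≤ q) (n : ℤ) :
    (K.stepLE h).f n ≫ (ι K p).f n = (ι K q).f n := by
  rw [← HomologicalComplex.comp_f, Subobject.ofLE_arrow]

lemma ι_d (p n m : ℤ) : (ι K p).f n ≫ K.obj.d n m = (L K p).d n m ≫ (ι K p).f m :=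
  (ι K p).comm n m

lemma cycle_of_comp {p n m : ℤ} {T : A} (y : T ⟶ (L K p).X n)
    (h : (y ≫ (ι K p).f n) ≫ K.obj.d n m = 0) : y ≫ (L K p).d n m = 0 := by
  rw [← cancel_mono ((ι K p).f m), zero_comp, Category.assoc, ← ι_d, ← Category.assoc]
  exact h

lemma exact_elem {p n m l : ℤ} (hnm : n + 1 = m) (hml : m + 1 = l)
    (hz : IsZero ((L K p).homology m)) {T : A}
    (z : T ⟶ (L K p).X m) (hz' : z ≫ (L K p).d m l = 0) :
    ∃ (T' : A) (π : T' ⟶ T) (_ : Epi π) (y : T' ⟶ (L K p).X n),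
      π ≫ z = y ≫ (L K p).d n m := by
  rw [← HomologicalComplex.exactAt_iff_isZero_homology,
    HomologicalComplex.exactAt_iff_exact_up_to_refinements _ n m l
      ((ComplexShape.up ℤ).prev_eq' hnm) ((ComplexShape.up ℤ).next_eq' hml)] at hz
  exact hz z hz'

lemma mono_elem {p n m l : ℤ} (hnm : n + 1 = m) (hml : m + 1 = l)
    (hm : Mono (HomologicalComplex.homologyMap (ι K p) m)) {T : A}
    (z : T ⟶ (L K p).X m) (hz : z ≫ (L K p).d m l = 0) (k : T ⟶ K.obj.X n)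
    (hk : z ≫ (ι K p).f m = k ≫ K.obj.d n m) :
    ∃ (T' : A) (π : T' ⟶ T) (_ : Epi π) (y : T' ⟶ (L K p).X n),
      π ≫ z = y ≫ (L K p).d n m := by
  rw [HomologicalComplex.mono_homologyMap_iff_up_to_refinements _ n m l
      ((ComplexShape.up ℤ).prev_eq' hnm) ((ComplexShape.up ℤ).next_eq' hml)] at hm
  exact hm z hz k hk

lemma epi_elem {p n m l : ℤ} (hnm : n + 1 = m) (hml : m + 1 = l)
    (he : Epi (HomologicalComplex.homologyMap (ι K p) m)) {T : A}
    (c : T ⟶ K.obj.X m) (hc : c ≫ K.obj.d m l = 0) :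
    ∃ (T' : A) (π : T' ⟶ T) (_ : Epi π) (u : T' ⟶ (L K p).X m)
      (_ : u ≫ (L K p).d m l = 0) (k : T' ⟶ K.obj.X n),
      π ≫ c = u ≫ (ι K p).f m + k ≫ K.obj.d n m := by
  rw [HomologicalComplex.epi_homologyMap_iff_up_to_refinements _ n m l
      ((ComplexShape.up ℤ).prev_eq' hnm) ((ComplexShape.up ℤ).next_eq' hml)] at he
  exact he c hc

lemma image_factors {p n₀ n : ℤ} {T : A} (v : T ⟶ (L K p).X n₀) :
    (imageSubobject ((K.filX p n₀).arrow ≫ K.obj.d n₀ n)).Factors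
      ((v ≫ (L K p).d n₀ n) ≫ (ι K p).f n) := by
  unfold filX
  have : (v ≫ (L K p).d n₀ n) ≫ (ι K p).f n =
      (v ≫ (Subobject.underlyingIso ((ι K p).f n₀)).inv) ≫
        ((Subobject.mk ((ι K p).f n₀)).arrow ≫ K.obj.d n₀ n) := by
    rw [Category.assoc, ← ι_d, Category.assoc, Subobject.underlyingIso_arrow_assoc]
  rw [this]
  exact imageSubobject_factors_comp_self _ _

lemma stepLE_d {p q : ℤ} (h : p ≤ q) (n m : ℤ) :
    (K.stepLE h).f n ≫ (L K p).d n m = (L K q).d n m ≫ (K.stepLE h).f m :=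
  (K.stepLE h).comm n m

lemma zpart_le_of_exact {p q : ℤ} (hpq : p ≤ q) {n₀ n n₁ n₂ : ℤ} (h₀ : n₀ + 1 = n)
    (h₁ : n + 1 = n₁) (h₂ : n₁ + 1 = n₂)
    (hz1 : IsZero ((L K q).homology n₁)) (hz2 : IsZero ((L K p).homology n)) :
    K.filX p n ⊓ (Subobject.pullback (K.obj.d n n₁)).obj (K.filX q n₁) ≤
      (K.filX p n ⊓ imageSubobject ((K.filX p n₀).arrow ≫ K.obj.d n₀ n)) ⊔ K.filX q n := by
  rw [le_iff_forall_factors]
  intro T x hx
  rw [Subobject.inf_factors, CategoryTheory.Limits.pullback_factors_iff, filX_factors_iff,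
    filX_factors_iff] at hx
  obtain ⟨⟨x', hx'⟩, ⟨z, hz⟩⟩ := hx
  have hzc : z ≫ (L K q).d n₁ n₂ = 0 := cycle_of_comp K z (by
    rw [hz, Category.assoc, K.obj.d_comp_d, comp_zero])
  obtain ⟨T₁, π₁, hπ₁, y, hy⟩ := exact_elem K h₁ h₂ hz1 z hzc
  have hw : (π₁ ≫ x' - y ≫ (K.stepLE hpq).f n) ≫ (L K p).d n n₁ = 0 := cycle_of_comp K _ (by
    rw [Preadditive.sub_comp, Category.assoc, Category.assoc, hx', stepLE_ι, Preadditive.sub_comp,
      Category.assoc, ← hz, ← Category.assoc, hy, Category.assoc, Category.assoc, ι_d, sub_self])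
  obtain ⟨T₂, π₂, hπ₂, v, hv⟩ := exact_elem K h₀ h₁ hz2 _ hw
  rw [sup_factors_iff]
  refine ⟨T₂, π₂ ≫ π₁, inferInstance, (v ≫ (L K p).d n₀ n) ≫ (ι K p).f n,
    (π₂ ≫ y) ≫ (ι K q).f n, ?_, ?_, ?_⟩
  · rw [Subobject.inf_factors]
    exact ⟨(filX_factors_iff K _).2 ⟨_, rfl⟩, image_factors K v⟩
  · exact (filX_factors_iff K _).2 ⟨_, rfl⟩
  · rw [← hv, ← hx', Preadditive.comp_sub, Preadditive.sub_comp, Category.assoc, Category.assoc,
      Category.assoc, Category.assoc, Category.assoc, stepLE_ι, Category.assoc, sub_add_cancel]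

lemma zpart_le_of_iso {p q : ℤ} (hpq : p ≤ q) {n₀ n n₁ n₂ : ℤ} (h₀ : n₀ + 1 = n)
    (h₁ : n + 1 = n₁) (h₂ : n₁ + 1 = n₂)
    (hm1 : Mono (HomologicalComplex.homologyMap (ι K q) n₁))
    (he : Epi (HomologicalComplex.homologyMap (ι K q) n))
    (hm : Mono (HomologicalComplex.homologyMap (ι K p) n)) :
    K.filX p n ⊓ (Subobject.pullback (K.obj.d n n₁)).obj (K.filX q n₁) ≤
      (K.filX p n ⊓ imageSubobject ((K.filX p n₀).arrow ≫ K.obj.d n₀ n)) ⊔ K.filX q n := by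
  rw [le_iff_forall_factors]
  intro T x hx
  rw [Subobject.inf_factors, CategoryTheory.Limits.pullback_factors_iff, filX_factors_iff,
    filX_factors_iff] at hx
  obtain ⟨⟨x', hx'⟩, ⟨z, hz⟩⟩ := hx
  have hzc : z ≫ (L K q).d n₁ n₂ = 0 := cycle_of_comp K z (by
    rw [hz, Category.assoc, K.obj.d_comp_d, comp_zero])
  obtain ⟨T₁, π₁, hπ₁, y, hy⟩ := mono_elem K h₁ h₂ hm1 z hzc x hz
  have hw : (π₁ ≫ x' - y ≫ (K.stepLE hpq).f n) ≫ (L K p).d n n₁ = 0 := cycle_of_comp K _ (by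
    rw [Preadditive.sub_comp, Category.assoc, Category.assoc, hx', stepLE_ι, Preadditive.sub_comp,
      Category.assoc, ← hz, ← Category.assoc, hy, Category.assoc, Category.assoc, ι_d, sub_self])
  have hc : ((π₁ ≫ x' - y ≫ (K.stepLE hpq).f n) ≫ (ι K p).f n) ≫ K.obj.d n n₁ = 0 := by
    rw [Category.assoc, ι_d, ← Category.assoc, hw, zero_comp]
  obtain ⟨T₂, π₂, hπ₂, u, hu, k, hk⟩ := epi_elem K h₀ h₁ he _ hc
  have hc' : (π₂ ≫ (π₁ ≫ x' - y ≫ (K.stepLE hpq).f n) - u ≫ (K.stepLE hpq).f n) ≫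
      (L K p).d n n₁ = 0 := by
    rw [Preadditive.sub_comp, Category.assoc, hw, comp_zero, Category.assoc, stepLE_d,
      ← Category.assoc, hu, zero_comp, sub_self]
  have hk' : (π₂ ≫ (π₁ ≫ x' - y ≫ (K.stepLE hpq).f n) - u ≫ (K.stepLE hpq).f n) ≫
      (ι K p).f n = k ≫ K.obj.d n₀ n := by
    rw [Preadditive.sub_comp, Category.assoc, hk, Category.assoc, stepLE_ι, add_sub_cancel_left]
  obtain ⟨T₃, π₃, hπ₃, v, hv⟩ := mono_elem K h₀ h₁ hm _ hc' k hk'
  rw [sup_factors_iff]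
  refine ⟨T₃, π₃ ≫ π₂ ≫ π₁, inferInstance, (v ≫ (L K p).d n₀ n) ≫ (ι K p).f n,
    (π₃ ≫ u + π₃ ≫ π₂ ≫ y) ≫ (ι K q).f n, ?_, ?_, ?_⟩
  · rw [Subobject.inf_factors]
    exact ⟨(filX_factors_iff K _).2 ⟨_, rfl⟩, image_factors K v⟩
  · exact (filX_factors_iff K _).2 ⟨_, rfl⟩
  · rw [← hv, ← hx']
    simp only [Preadditive.comp_sub, Preadditive.sub_comp, Preadditive.add_comp, Category.assoc,
      stepLE_ι]
    abel

lemma zpart_le_ztop {p q : ℤ} (hpq : p + 1 ≤ q) {n n₁ n₂ : ℤ}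
    (h₁ : n + 1 = n₁) (h₂ : n₁ + 1 = n₂) (hz1 : IsZero ((L K q).homology n₁)) :
    K.filX p n ⊓ (Subobject.pullback (K.obj.d n n₁)).obj (K.filX q n₁) ≤
      (K.filX p n ⊓ kernelSubobject (K.obj.d n n₁)) ⊔ K.filX (p + 1) n := by
  rw [le_iff_forall_factors]
  intro T x hx
  rw [Subobject.inf_factors, CategoryTheory.Limits.pullback_factors_iff, filX_factors_iff,
    filX_factors_iff] at hx
  obtain ⟨⟨x', hx'⟩, ⟨z, hz⟩⟩ := hx
  have hzc : z ≫ (L K q).d n₁ n₂ = 0 := cycle_of_comp K z (by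
    rw [hz, Category.assoc, K.obj.d_comp_d, comp_zero])
  obtain ⟨T₁, π₁, hπ₁, y, hy⟩ := exact_elem K h₁ h₂ hz1 z hzc
  have hpq' : p ≤ q := by omega
  rw [sup_factors_iff]
  refine ⟨T₁, π₁, hπ₁, (π₁ ≫ x' - y ≫ (K.stepLE hpq').f n) ≫ (ι K p).f n,
    (y ≫ (K.stepLE hpq).f n) ≫ (ι K (p + 1)).f n, ?_, ?_, ?_⟩
  · rw [Subobject.inf_factors, kernelSubobject_factors_iff]
    refine ⟨(filX_factors_iff K _).2 ⟨_, rfl⟩, ?_⟩
    rw [Preadditive.sub_comp, Category.assoc, Category.assoc, hx', stepLE_ι, Preadditive.sub_comp,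
      Category.assoc, ← hz, ← Category.assoc, hy, Category.assoc, Category.assoc, ι_d, sub_self]
  · exact (filX_factors_iff K _).2 ⟨_, rfl⟩
  · rw [← hx']
    simp only [Preadditive.sub_comp, Category.assoc, stepLE_ι]
    abel

lemma bpart_le {p q : ℤ} (hqp : q ≤ p) {n₀ n n₁ : ℤ} (h₀ : n₀ + 1 = n) (h₁ : n + 1 = n₁)
    (hm : Mono (HomologicalComplex.homologyMap (ι K q) n)) :
    K.filX p n ⊓ imageSubobject (K.obj.d n₀ n) ≤
      K.filX p n ⊓ imageSubobject ((K.filX q n₀).arrow ≫ K.obj.d n₀ n) := by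
  rw [le_iff_forall_factors]
  intro T x hx
  rw [Subobject.inf_factors, filX_factors_iff, imageSubobject_factors_iff] at hx
  obtain ⟨⟨x', hx'⟩, ⟨T', π, hπ, k, hk⟩⟩ := hx
  have hz : (π ≫ x' ≫ (K.stepLE hqp).f n) ≫ (L K q).d n n₁ = 0 := cycle_of_comp K _ (by
    simp only [Category.assoc, stepLE_ι_assoc]
    rw [reassoc_of% hx', reassoc_of% hk, K.obj.d_comp_d, comp_zero])
  have hk' : (π ≫ x' ≫ (K.stepLE hqp).f n) ≫ (ι K q).f n = k ≫ K.obj.d n₀ n := by
    simp only [Category.assoc, stepLE_ι]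
    rw [hx', hk]
  obtain ⟨T₂, π₂, hπ₂, v, hv⟩ := mono_elem K h₀ h₁ hm _ hz k hk'
  rw [Subobject.inf_factors]
  refine ⟨(filX_factors_iff K _).2 ⟨x', hx'⟩, ?_⟩
  apply factors_of_epi_comp _ (π₂ ≫ π)
  have : (π₂ ≫ π) ≫ x = (v ≫ (L K q).d n₀ n) ≫ (ι K q).f n := by
    rw [← hv, ← hx']
    simp only [Category.assoc, stepLE_ι]
  rw [this]
  exact image_factors K v

lemma zSub_eq (r : ℕ) (p n q : ℤ) (hq : p + r = q) :
    K.ZSub r p n = (K.filX p n ⊓ (Subobject.pullback (K.obj.d n (n + 1))).obj (K.filX q (n + 1))) ⊔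
      K.filX (p + 1) n := by
  subst hq; rfl

lemma bSub_eq (r : ℕ) (p n q : ℤ) (hq : p - r + 1 = q) :
    K.BSub r p n = (K.filX p n ⊓ imageSubobject ((K.filX q (n - 1)).arrow ≫ K.obj.d (n - 1) n)) ⊔
      K.filX (p + 1) n := by
  subst hq; rfl

variable (h0 : ∀ n : ℤ, ∃ p₀ : ℤ, ∀ p : ℤ, p₀ ≤ p →
    IsZero ((K.fil p : CochainComplex A ℤ).homology n))
  (h1 : ∀ n : ℤ, ∃ p₁ : ℤ, ∀ p : ℤ, p ≤ p₁ →
    IsIso (HomologicalComplex.homologyMap (K.fil p).arrow n))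

include h0 h1 in
lemma isBounded_one : K.IsBounded 1 := by
  intro n
  obtain ⟨a₀, ha₀⟩ := h0 n
  obtain ⟨a₁, ha₁⟩ := h0 (n + 1)
  obtain ⟨b₀, hb₀⟩ := h1 n
  obtain ⟨b₁, hb₁⟩ := h1 (n + 1)
  apply Set.Finite.subset (Set.finite_Icc (min b₀ b₁ - 1) (max a₀ a₁))
  intro p hp
  by_contra hmem
  apply hp
  rw [Set.mem_Icc, not_and_or, not_le, not_le] at hmem
  apply S6792.isZero_subquot_of_le
  rw [zSub_eq K 1 p n (p + 1) (by norm_num), bSub_eq K 1 p n p (by norm_num)]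
  refine sup_le ?_ le_sup_right
  rcases hmem with h | h
  · have hi1 : IsIso (HomologicalComplex.homologyMap (ι K (p + 1)) (n + 1)) :=
      hb₁ _ (by have := min_le_right b₀ b₁; omega)
    have hi2 : IsIso (HomologicalComplex.homologyMap (ι K (p + 1)) n) :=
      hb₀ _ (by have := min_le_left b₀ b₁; omega)
    have hi3 : IsIso (HomologicalComplex.homologyMap (ι K p) n) :=
      hb₀ _ (by have := min_le_left b₀ b₁; omega)
    exact zpart_le_of_iso K (by omega) (by omega) rfl rfl inferInstance inferInstance inferInstance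
  · exact zpart_le_of_exact K (by omega) (by omega) rfl rfl
      (ha₁ _ (by have := le_max_right a₀ a₁; omega)) (ha₀ _ (by have := le_max_left a₀ a₁; omega))

include h0 h1 in
lemma hFil_isFinite (n : ℤ) : (K.HFil n).IsFinite := by
  obtain ⟨a₀, ha₀⟩ := h0 n
  obtain ⟨b₀, hb₀⟩ := h1 n
  refine ⟨⟨b₀, ?_⟩, ⟨a₀, ?_⟩⟩
  · have := hb₀ b₀ le_rfl
    exact S6792.imageSubobject_eq_top_of_isIso _
  · exact S6792.imageSubobject_eq_bot_of_eq_zero ((ha₀ a₀ le_rfl).eq_of_src _ _)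

include h0 in
lemma zSub_eq_zTop (p n : ℤ) : ∃ r₀ : ℕ, ∀ r : ℕ, r₀ ≤ r → K.ZSub r p n = K.ZTop p n := by
  obtain ⟨a₁, ha₁⟩ := h0 (n + 1)
  refine ⟨max 1 (a₁ - p).toNat, fun r hr => ?_⟩
  have hr1 : (1 : ℤ) ≤ r := by
    have : 1 ≤ r := (le_max_left _ _).trans hr
    exact_mod_cast this
  have hr2 : a₁ ≤ p + r := by
    have h1 := Int.self_le_toNat (a₁ - p)
    have h2 : ((a₁ - p).toNat : ℤ) ≤ r := by exact_mod_cast (le_max_right _ _).trans hr
    omega
  apply le_antisymm _ (S6792.zTop_le_zSub K r p n)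
  unfold ZSub ZTop
  refine sup_le ?_ le_sup_right
  exact zpart_le_ztop K (by omega) rfl rfl (ha₁ _ hr2)

include h1 in
lemma bSub_eq_bBot (p n : ℤ) : ∃ r₀ : ℕ, ∀ r : ℕ, r₀ ≤ r → K.BSub r p n = K.BBot p n := by
  obtain ⟨b₀, hb₀⟩ := h1 n
  refine ⟨(p + 1 - min p b₀).toNat, fun r hr => ?_⟩
  have hr2 : p - r + 1 ≤ min p b₀ := by
    have h1 := Int.self_le_toNat (p + 1 - min p b₀)
    have h2 : ((p + 1 - min p b₀).toNat : ℤ) ≤ r := by exact_mod_cast hr
    omega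
  apply le_antisymm (S6792.bSub_le_bBot K r p n)
  unfold BSub BBot
  refine sup_le ?_ le_sup_right
  have hi : IsIso (HomologicalComplex.homologyMap (ι K (p - r + 1)) n) :=
    hb₀ _ (hr2.trans (min_le_right _ _))
  exact (bpart_le K (hr2.trans (min_le_left _ _)) (by omega) rfl inferInstance).trans le_sup_left

include h0 h1 in
lemma weaklyConverges : K.WeaklyConverges := by
  intro p n
  constructor
  · obtain ⟨r₀, hr₀⟩ := zSub_eq_zTop K h0 p n
    constructor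
    · rintro _ ⟨r, rfl⟩
      exact S6792.zTop_le_zSub K r p n
    · intro S hS
      rw [← hr₀ r₀ le_rfl]
      exact hS ⟨r₀, rfl⟩
  · obtain ⟨r₀, hr₀⟩ := bSub_eq_bBot K h1 p n
    constructor
    · rintro _ ⟨r, rfl⟩
      exact S6792.bSub_le_bBot K r p n
    · intro S hS
      rw [← hr₀ r₀ le_rfl]
      exact hS ⟨r₀, rfl⟩

include h0 in
lemma isRegular : K.IsRegular := by
  intro p n
  obtain ⟨r₀, hr₀⟩ := zSub_eq_zTop K h0 p n
  exact ⟨r₀, fun r hr => (hr₀ r hr).trans (hr₀ r₀ le_rfl).symm⟩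

end Helpers

/-- If the cohomology of the filtration steps of a filtered complex vanishes in each degree for large
filtration index and maps isomorphically to the cohomology of the whole complex for small filtration
index, then the spectral sequence is bounded from page `1` on, the induced filtrations on cohomology
are finite, and the spectral sequence converges. (The published statement asserts boundedness
without naming a page, which read from page `0` fails for an acyclic complex with an infinite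
filtration by acyclic subcomplexes; this row asserts boundedness from page `1`, which is what the
published proof shows.) -/
theorem result {A : Type u} [Category.{v} A] [Abelian A] (K : SpSeq.FilCx A) (h0 : ∀ n : ℤ, ∃ p₀ : ℤ, ∀ p : ℤ, p₀ ≤ p → IsZero ((K.fil p : CochainComplex A ℤ).homology n)) (h1 : ∀ n : ℤ, ∃ p₁ : ℤ, ∀ p : ℤ, p ≤ p₁ → IsIso (HomologicalComplex.homologyMap (K.fil p).arrow n)) : K.IsBounded 1 ∧ (∀ n : ℤ, (K.HFil n).IsFinite) ∧ K.Converges := by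
  refine ⟨isBounded_one K h0 h1, hFil_isFinite K h0 h1, isRegular K h0,
    ⟨weaklyConverges K h0 h1, fun n => ⟨S6792.isSeparated_of_isFinite _ (hFil_isFinite K h0 h1 n),
      S6792.isExhaustive_of_isFinite _ (hFil_isFinite K h0 h1 n)⟩⟩,
    fun n => S6792.isComplete_of_isFinite _ (hFil_isFinite K h0 h1 n)⟩

end Groth.Agent.S6794
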