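import Groth.Statements.S6793
import Groth.Agent.S6792
import Groth.Agent.S6794
import Groth.Agent.Lib.Helper33.Subquot
import Mathlib.Algebra.Homology.ImageToKernel
import Mathlib.Algebra.Homology.ShortComplex.HomologicalComplex

set_option autoImplicit false
open CategoryTheory CategoryTheory.Limits
universe v u
open SpSeq SpSeq.FilCx

namespace Groth.Agent.S6793

section Helpers

open Groth.Agent.Lib.Helper33

variable {A : Type u} [Category.{v} A] [Abelian A]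

/-- Generalized elements of the image of a subobject. -/
lemma image_arrow_factors_iff {X Y T : A} (S : Subobject X) (φ : X ⟶ Y) (x : T ⟶ Y) :
    (imageSubobject (S.arrow ≫ φ)).Factors x ↔
      ∃ (T' : A) (π : T' ⟶ T) (_ : Epi π) (y : T' ⟶ X), S.Factors y ∧ π ≫ x = y ≫ φ := by
  rw [imageSubobject_factors_iff]
  constructor
  · rintro ⟨T', π, hπ, y, hy⟩
    exact ⟨T', π, hπ, y ≫ S.arrow, Subobject.factors_comp_arrow y, by rw [hy, Category.assoc]⟩
  · rintro ⟨T', π, hπ, y, hy, e⟩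
    refine ⟨T', π, hπ, S.factorThru y hy, ?_⟩
    rw [e, ← Category.assoc, Subobject.factorThru_arrow]

variable (K : SpSeq.FilCx A)

lemma filX_d {p n m : ℤ} {T : A} (x : T ⟶ K.obj.X n) (hx : (K.filX p n).Factors x) :
    (K.filX p m).Factors (x ≫ K.obj.d n m) := by
  rw [S6794.filX_factors_iff] at hx ⊢
  obtain ⟨y, rfl⟩ := hx
  exact ⟨y ≫ (S6794.L K p).d n m, by rw [Category.assoc, Category.assoc, S6794.ι_d]⟩

lemma filX_of_le {p q n : ℤ} (h : p ≤ q) {T : A} (x : T ⟶ K.obj.X n)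
    (hx : (K.filX q n).Factors x) : (K.filX p n).Factors x :=
  Subobject.factors_of_le _ (K.filX_anti n h) hx

/-- `F^p K^n ⊓ d⁻¹ F^q K^{n₁}`. -/
noncomputable def Zc (p q n n₁ : ℤ) : Subobject (K.obj.X n) :=
  K.filX p n ⊓ (Subobject.pullback (K.obj.d n n₁)).obj (K.filX q n₁)

/-- `F^p K^n ⊓ d (F^{q'} K^{n₀})`. -/
noncomputable def Bc (p q' n₀ n : ℤ) : Subobject (K.obj.X n) :=
  K.filX p n ⊓ imageSubobject ((K.filX q' n₀).arrow ≫ K.obj.d n₀ n)

/-- General-index version of `ZSub`. -/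
noncomputable def zS (p q n n₁ : ℤ) : Subobject (K.obj.X n) := Zc K p q n n₁ ⊔ K.filX (p + 1) n

/-- General-index version of `BSub`. -/
noncomputable def bS (p q' n₀ n : ℤ) : Subobject (K.obj.X n) := Bc K p q' n₀ n ⊔ K.filX (p + 1) n

variable {K}

lemma Zc_factors_iff {p q n n₁ : ℤ} {T : A} (x : T ⟶ K.obj.X n) :
    (Zc K p q n n₁).Factors x ↔
      (K.filX p n).Factors x ∧ (K.filX q n₁).Factors (x ≫ K.obj.d n n₁) := by
  unfold Zc
  rw [Subobject.inf_factors, Groth.Agent.Lib.Helper33.pullback_factors_iff]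

lemma Bc_factors_iff {p q' n₀ n : ℤ} {T : A} (x : T ⟶ K.obj.X n) :
    (Bc K p q' n₀ n).Factors x ↔ (K.filX p n).Factors x ∧
      ∃ (T' : A) (π : T' ⟶ T) (_ : Epi π) (y : T' ⟶ K.obj.X n₀),
        (K.filX q' n₀).Factors y ∧ π ≫ x = y ≫ K.obj.d n₀ n := by
  unfold Bc
  rw [Subobject.inf_factors, image_arrow_factors_iff]

lemma Bc_d {p q' n₀ n n₁ : ℤ} {T : A} (x : T ⟶ K.obj.X n) (hx : (Bc K p q' n₀ n).Factors x) :
    x ≫ K.obj.d n n₁ = 0 := by
  obtain ⟨-, T', π, hπ, y, -, e⟩ := (Bc_factors_iff x).1 hx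
  rw [← cancel_epi π, comp_zero, ← Category.assoc, e, Category.assoc, K.obj.d_comp_d, comp_zero]

lemma zS_factors_iff {p q n n₁ : ℤ} {T : A} (x : T ⟶ K.obj.X n) :
    (zS K p q n n₁).Factors x ↔ ∃ (T' : A) (π : T' ⟶ T) (_ : Epi π) (a b : T' ⟶ K.obj.X n),
      (Zc K p q n n₁).Factors a ∧ (K.filX (p + 1) n).Factors b ∧ π ≫ x = a + b := by
  unfold zS
  rw [sup_factors_iff]

lemma bS_factors_iff {p q' n₀ n : ℤ} {T : A} (x : T ⟶ K.obj.X n) :
    (bS K p q' n₀ n).Factors x ↔ ∃ (T' : A) (π : T' ⟶ T) (_ : Epi π) (a b : T' ⟶ K.obj.X n),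
      (Bc K p q' n₀ n).Factors a ∧ (K.filX (p + 1) n).Factors b ∧ π ≫ x = a + b := by
  unfold bS
  rw [sup_factors_iff]

lemma Bc_le_Zc (p q q' n₀ n n₁ : ℤ) : Bc K p q' n₀ n ≤ Zc K p q n n₁ := by
  rw [le_iff_forall_factors]
  intro T x hx
  rw [Zc_factors_iff]
  refine ⟨((Bc_factors_iff x).1 hx).1, ?_⟩
  rw [Bc_d x hx]
  exact Subobject.factors_zero

lemma bS_le_zS (p q q' n₀ n n₁ : ℤ) : bS K p q' n₀ n ≤ zS K p q n n₁ :=
  sup_le_sup_right (Bc_le_Zc p q q' n₀ n n₁) _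

lemma Zc_anti {p q₁ q₂ n n₁ : ℤ} (h : q₁ ≤ q₂) : Zc K p q₂ n n₁ ≤ Zc K p q₁ n n₁ :=
  inf_le_inf_left _ ((Subobject.pullback _).monotone (K.filX_anti n₁ h))

lemma Bc_anti {p q₁ q₂ n₀ n : ℤ} (h : q₁ ≤ q₂) : Bc K p q₂ n₀ n ≤ Bc K p q₁ n₀ n := by
  rw [le_iff_forall_factors]
  intro T x hx
  rw [Bc_factors_iff] at hx ⊢
  obtain ⟨h1, T', π, hπ, y, hy, e⟩ := hx
  exact ⟨h1, T', π, hπ, y, filX_of_le K h y hy, e⟩

/-- (K1) `d` maps `Zc` into cycles in `F^q`. -/
lemma Zc_d_mem {p q q₂ n n₁ n₂ : ℤ} {T : A} (x : T ⟶ K.obj.X n)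
    (hx : (Zc K p q n n₁).Factors x) : (Zc K q q₂ n₁ n₂).Factors (x ≫ K.obj.d n n₁) := by
  rw [Zc_factors_iff] at hx ⊢
  refine ⟨hx.2, ?_⟩
  rw [Category.assoc, K.obj.d_comp_d, comp_zero]
  exact Subobject.factors_zero

/-- (K2) `d` maps `Zc ⊓ bS` into `Bc`. -/
lemma Zc_bS_d_mem {p q q' n₀ n n₁ : ℤ} {T : A} (x : T ⟶ K.obj.X n)
    (hx : (Zc K p q n n₁).Factors x) (hx' : (bS K p q' n₀ n).Factors x) :
    (Bc K q (p + 1) n n₁).Factors (x ≫ K.obj.d n n₁) := by
  obtain ⟨T', π, hπ, b, f, hb, hf, e⟩ := (bS_factors_iff x).1 hx'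
  apply factors_of_epi_comp _ π
  rw [Bc_factors_iff]
  refine ⟨Subobject.factors_of_factors_right _ ((Zc_factors_iff x).1 hx).2, T', 𝟙 _, inferInstance,
    f, hf, ?_⟩
  rw [Category.id_comp, ← Category.assoc, e, Preadditive.add_comp, Bc_d b hb, zero_add]

/-- (K3) -/
lemma mem_zS_succ {p q n n₁ : ℤ} {T : A} (x : T ⟶ K.obj.X n)
    (hx : (Zc K p q n n₁).Factors x) (hx' : (bS K q (p + 1) n n₁).Factors (x ≫ K.obj.d n n₁)) :
    (zS K p (q + 1) n n₁).Factors x := by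
  obtain ⟨T₁, π₁, hπ₁, b, w, hb, hw, e⟩ := (bS_factors_iff _).1 hx'
  obtain ⟨-, T₂, π₂, hπ₂, y, hy, e₂⟩ := (Bc_factors_iff b).1 hb
  apply factors_of_epi_comp _ (π₂ ≫ π₁)
  rw [zS_factors_iff]
  refine ⟨T₂, 𝟙 _, inferInstance, (π₂ ≫ π₁) ≫ x - y, y, ?_, hy, by rw [Category.id_comp]; abel⟩
  rw [Zc_factors_iff]
  refine ⟨factors_sub' _ _ _ (Subobject.factors_of_factors_right _ ((Zc_factors_iff x).1 hx).1)
    (filX_of_le K (by omega) y hy), ?_⟩
  have : ((π₂ ≫ π₁) ≫ x - y) ≫ K.obj.d n n₁ = π₂ ≫ w := by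
    rw [Preadditive.sub_comp, Category.assoc, Category.assoc, e, Preadditive.comp_add, e₂]
    abel
  rw [this]
  exact Subobject.factors_of_factors_right _ hw

/-- (K4) -/
lemma Zc_succ_mem {p q n n₁ : ℤ} {T : A} (x : T ⟶ K.obj.X n)
    (hx : (Zc K p (q + 1) n n₁).Factors x) :
    (Zc K p q n n₁).Factors x ∧ (bS K q (p + 1) n n₁).Factors (x ≫ K.obj.d n n₁) := by
  refine ⟨Subobject.factors_of_le _ (Zc_anti (by omega)) hx, ?_⟩
  unfold bS
  exact Subobject.factors_of_le _ le_sup_right ((Zc_factors_iff x).1 hx).2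

/-- (K5) -/
lemma exact_W {pm p q q' n₀ n n₁ : ℤ} {T : A} (x : T ⟶ K.obj.X n)
    (hx : (Zc K p q n n₁).Factors x) (hx' : (bS K p pm n₀ n).Factors x) :
    ∃ (T' : A) (π : T' ⟶ T) (_ : Epi π) (y : T' ⟶ K.obj.X n₀), (Zc K pm p n₀ n).Factors y ∧
      (Zc K p q n n₁ ⊓ bS K p q' n₀ n).Factors (π ≫ x - y ≫ K.obj.d n₀ n) := by
  obtain ⟨T₁, π₁, hπ₁, b, f, hb, hf, e⟩ := (bS_factors_iff x).1 hx'
  obtain ⟨hb1, T₂, π₂, hπ₂, y, hy, e₂⟩ := (Bc_factors_iff b).1 hb
  refine ⟨T₂, π₂ ≫ π₁, inferInstance, y, ?_, ?_⟩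
  · rw [Zc_factors_iff]
    refine ⟨hy, ?_⟩
    rw [← e₂]
    exact Subobject.factors_of_factors_right _ hb1
  · have : (π₂ ≫ π₁) ≫ x - y ≫ K.obj.d n₀ n = π₂ ≫ f := by
      rw [Category.assoc, e, Preadditive.comp_add, e₂]
      abel
    rw [this, Subobject.inf_factors]
    constructor
    · rw [Zc_factors_iff]
      refine ⟨Subobject.factors_of_factors_right _ (filX_of_le K (by omega) f hf), ?_⟩
      have : (π₂ ≫ f) ≫ K.obj.d n n₁ = (π₂ ≫ π₁) ≫ x ≫ K.obj.d n n₁ := by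
        have e3 : π₁ ≫ x ≫ K.obj.d n n₁ = f ≫ K.obj.d n n₁ := by
          rw [← Category.assoc, e, Preadditive.add_comp, Bc_d b hb, zero_add]
        rw [Category.assoc, Category.assoc, e3]
      rw [this]
      exact Subobject.factors_of_factors_right _ ((Zc_factors_iff x).1 hx).2
    · unfold bS
      exact Subobject.factors_of_le _ le_sup_right (Subobject.factors_of_factors_right _ hf)

/-- (K6) -/
lemma Zc_d_mem' {pm p q n₀ n n₁ : ℤ} {T : A} (y : T ⟶ K.obj.X n₀)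
    (hy : (Zc K pm p n₀ n).Factors y) (S : Subobject (K.obj.X n₁)) :
    (Zc K p q n n₁ ⊓ (Subobject.pullback (K.obj.d n n₁)).obj S).Factors (y ≫ K.obj.d n₀ n) := by
  rw [Subobject.inf_factors, Groth.Agent.Lib.Helper33.pullback_factors_iff]
  refine ⟨Zc_d_mem y hy, ?_⟩
  rw [Category.assoc, K.obj.d_comp_d, comp_zero]
  exact Subobject.factors_zero

/-- The image of `Zc` under `d` lies in `Bc`. -/
lemma Zc_d_mem_Bc {pm p n₀ n : ℤ} {T : A} (y : T ⟶ K.obj.X n₀)
    (hy : (Zc K pm p n₀ n).Factors y) : (Bc K p pm n₀ n).Factors (y ≫ K.obj.d n₀ n) := by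
  rw [Bc_factors_iff]
  exact ⟨((Zc_factors_iff y).1 hy).2, T, 𝟙 _, inferInstance, y, ((Zc_factors_iff y).1 hy).1,
    Category.id_comp _⟩

section Step

variable (P : ObjectProperty A) [P.IsClosedUnderIsomorphisms]
  (h0 : ∃ Z : A, IsZero Z ∧ P Z)
  (hP : ∀ S : ComposableArrows A 4, S.Exact → P (S.obj 0) → P (S.obj 1) → P (S.obj 3) →
    P (S.obj 4) → P (S.obj 2))

include h0 hP in
/-- The passage from one page to the next, with free indices. -/
lemma step_general (pm p q q₂ pmm' n₀₀ n₀ n n₁ n₂ : ℤ)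
    (h₁ : P (subquot (zS K p q n n₁) (bS K p (pm + 1) n₀ n) (bS_le_zS _ _ _ _ _ _)))
    (h₂ : P (subquot (zS K q q₂ n₁ n₂) (bS K q (p + 1) n n₁) (bS_le_zS _ _ _ _ _ _)))
    (h₃ : P (subquot (zS K pm p n₀ n) (bS K pm pmm' n₀₀ n₀) (bS_le_zS _ _ _ _ _ _))) :
    P (subquot (zS K p (q + 1) n n₁) (bS K p pm n₀ n) (bS_le_zS _ _ _ _ _ _)) := by
  -- `E₁° ≅ E₁`
  have hZc_le : Zc K p q n n₁ ≤ zS K p q n n₁ := le_sup_left
  have h₁' : P (subquot (Zc K p q n n₁) (Zc K p q n n₁ ⊓ bS K p (pm + 1) n₀ n) inf_le_left) := by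
    have := sqMapId_isIso (Zc K p q n n₁) (Zc K p q n n₁ ⊓ bS K p (pm + 1) n₀ n) inf_le_left
      (zS K p q n n₁) (bS K p (pm + 1) n₀ n) (bS_le_zS _ _ _ _ _ _) hZc_le inf_le_right le_rfl
      (sup_le le_sup_left (le_sup_of_le_right le_sup_right))
    exact P.prop_of_iso (asIso (sqMapId _ _ _ _ _ _ hZc_le inf_le_right)).symm h₁
  -- `E₃° ≅ E₃`
  have hZc_le' : Zc K pm p n₀ n ≤ zS K pm p n₀ n := le_sup_left
  have h₃' : P (subquot (Zc K pm p n₀ n) (Zc K pm p n₀ n ⊓ bS K pm pmm' n₀₀ n₀) inf_le_left) := by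
    have := sqMapId_isIso (Zc K pm p n₀ n) (Zc K pm p n₀ n ⊓ bS K pm pmm' n₀₀ n₀) inf_le_left
      (zS K pm p n₀ n) (bS K pm pmm' n₀₀ n₀) (bS_le_zS _ _ _ _ _ _) hZc_le' inf_le_right le_rfl
      (sup_le le_sup_left (le_sup_of_le_right le_sup_right))
    exact P.prop_of_iso (asIso (sqMapId _ _ _ _ _ _ hZc_le' inf_le_right)).symm h₃
  -- the kernel of the differential
  set Y : Subobject (K.obj.X n) :=
    Zc K p q n n₁ ⊓ (Subobject.pullback (K.obj.d n n₁)).obj (bS K q (p + 1) n n₁) with hY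
  have hBY : Zc K p q n n₁ ⊓ bS K p (pm + 1) n₀ n ≤ Y := by
    refine le_inf inf_le_left ?_
    rw [le_iff_forall_factors]
    intro T x hx
    rw [Subobject.inf_factors] at hx
    rw [Groth.Agent.Lib.Helper33.pullback_factors_iff]
    unfold bS
    exact Subobject.factors_of_le _ le_sup_left (Zc_bS_d_mem x hx.1 hx.2)
  have hW : P (subquot Y (Zc K p q n n₁ ⊓ bS K p (pm + 1) n₀ n) hBY) := by
    have hmono := sqMapId_mono Y (Zc K p q n n₁ ⊓ bS K p (pm + 1) n₀ n) hBY (Zc K p q n n₁)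
      (Zc K p q n n₁ ⊓ bS K p (pm + 1) n₀ n) inf_le_left inf_le_left le_rfl inf_le_right
    have hZd : ∀ (T : A) (x : T ⟶ K.obj.X n), (Zc K p q n n₁).Factors x →
        (zS K q q₂ n₁ n₂).Factors (x ≫ K.obj.d n n₁) := fun T x hx => by
      unfold zS
      exact Subobject.factors_of_le _ le_sup_left (Zc_d_mem x hx)
    have hBd : ∀ (T : A) (x : T ⟶ K.obj.X n),
        (Zc K p q n n₁ ⊓ bS K p (pm + 1) n₀ n).Factors x →
        (bS K q (p + 1) n n₁).Factors (x ≫ K.obj.d n n₁) := fun T x hx => by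
      rw [Subobject.inf_factors] at hx
      unfold bS
      exact Subobject.factors_of_le _ le_sup_left (Zc_bS_d_mem x hx.1 hx.2)
    have hex := sqMap_exact (𝟙 _) (K.obj.d n n₁) Y (Zc K p q n n₁ ⊓ bS K p (pm + 1) n₀ n) hBY
      (Zc K p q n n₁) (Zc K p q n n₁ ⊓ bS K p (pm + 1) n₀ n) inf_le_left
      (zS K q q₂ n₁ n₂) (bS K q (p + 1) n n₁) (bS_le_zS _ _ _ _ _ _)
      (factors_comp_id_of_le inf_le_left) (factors_comp_id_of_le le_rfl) hZd hBd
      (fun T x hx => by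
        rw [Category.comp_id, ← Groth.Agent.Lib.Helper33.pullback_factors_iff]
        exact ((Subobject.inf_factors _).1 hx).2)
      (fun T x hx hx' => by
        refine ⟨T, 𝟙 T, inferInstance, x, ?_, ?_⟩
        · rw [hY, Subobject.inf_factors, Groth.Agent.Lib.Helper33.pullback_factors_iff]
          exact ⟨hx, hx'⟩
        · rw [Category.id_comp, Category.comp_id, sub_self]
          exact Subobject.factors_zero)
    exact weakSerre_of_mono_exact P h0 hP _ _ _ hex h₁' h₂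
  -- the next page as a cokernel
  have hYZ : Y ≤ zS K p (q + 1) n n₁ := by
    rw [le_iff_forall_factors]
    intro T x hx
    rw [hY, Subobject.inf_factors, Groth.Agent.Lib.Helper33.pullback_factors_iff] at hx
    exact mem_zS_succ x hx.1 hx.2
  have hBB : Zc K p q n n₁ ⊓ bS K p (pm + 1) n₀ n ≤ bS K p pm n₀ n :=
    inf_le_right.trans (sup_le_sup_right (Bc_anti (by omega)) _)
  have hepi := sqMapId_epi Y (Zc K p q n n₁ ⊓ bS K p (pm + 1) n₀ n) hBY
    (zS K p (q + 1) n n₁) (bS K p pm n₀ n) (bS_le_zS _ _ _ _ _ _) hYZ hBB (by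
      refine sup_le (le_sup_of_le_left ?_) (le_sup_of_le_right le_sup_right)
      rw [le_iff_forall_factors]
      intro T x hx
      rw [hY, Subobject.inf_factors, Groth.Agent.Lib.Helper33.pullback_factors_iff]
      exact Zc_succ_mem x hx)
  have hZd : ∀ (T : A) (y : T ⟶ K.obj.X n₀), (Zc K pm p n₀ n).Factors y →
      Y.Factors (y ≫ K.obj.d n₀ n) := fun T y hy => Zc_d_mem' y hy _
  have hBd : ∀ (T : A) (y : T ⟶ K.obj.X n₀),
      (Zc K pm p n₀ n ⊓ bS K pm pmm' n₀₀ n₀).Factors y →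
      (Zc K p q n n₁ ⊓ bS K p (pm + 1) n₀ n).Factors (y ≫ K.obj.d n₀ n) := fun T y hy => by
    rw [Subobject.inf_factors] at hy ⊢
    refine ⟨Zc_d_mem y hy.1, ?_⟩
    unfold bS
    exact Subobject.factors_of_le _ le_sup_left (Zc_bS_d_mem y hy.1 hy.2)
  have hex := sqMap_exact (K.obj.d n₀ n) (𝟙 _) (Zc K pm p n₀ n)
    (Zc K pm p n₀ n ⊓ bS K pm pmm' n₀₀ n₀) inf_le_left
    Y (Zc K p q n n₁ ⊓ bS K p (pm + 1) n₀ n) hBY
    (zS K p (q + 1) n n₁) (bS K p pm n₀ n) (bS_le_zS _ _ _ _ _ _)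
    hZd hBd (factors_comp_id_of_le hYZ) (factors_comp_id_of_le hBB)
    (fun T y hy => by
      rw [Category.comp_id]
      unfold bS
      exact Subobject.factors_of_le _ le_sup_left (Zc_d_mem_Bc y hy))
    (fun T x hx hx' => by
      rw [Category.comp_id] at hx'
      rw [hY, Subobject.inf_factors] at hx
      exact exact_W x hx.1 hx')
  exact weakSerre_of_exact_epi P h0 hP _ _ _ hex h₃' hW

end Step

/-- The left homology data of a short complex given by the kernel and image subobjects. -/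
noncomputable def lhd (S : ShortComplex A) : S.LeftHomologyData where
  K := (kernelSubobject S.g : A)
  H := subquot (kernelSubobject S.g) (imageSubobject S.f) (image_le_kernel S.f S.g S.zero)
  i := (kernelSubobject S.g).arrow
  π := sqπ _ _ _
  wi := kernelSubobject_arrow_comp _
  hi := KernelFork.IsLimit.ofι _ _ (fun g' hg' => factorThruKernelSubobject S.g g' hg')
    (fun _ _ => factorThruKernelSubobject_comp_arrow _ _ _)
    (fun g' hg' m hm => by
      rw [← cancel_mono (kernelSubobject S.g).arrow, hm, factorThruKernelSubobject_comp_arrow])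
  wπ := by
    have e : factorThruKernelSubobject S.g S.f S.zero = factorThruImageSubobject S.f ≫
        (imageSubobject S.f).ofLE (kernelSubobject S.g) (image_le_kernel S.f S.g S.zero) := by
      rw [← cancel_mono (kernelSubobject S.g).arrow]
      simp
    change factorThruKernelSubobject S.g S.f S.zero ≫ _ = 0
    rw [e, Category.assoc, sqπ_condition, comp_zero]
  hπ := by
    have e : factorThruKernelSubobject S.g S.f S.zero = factorThruImageSubobject S.f ≫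
        (imageSubobject S.f).ofLE (kernelSubobject S.g) (image_le_kernel S.f S.g S.zero) := by
      rw [← cancel_mono (kernelSubobject S.g).arrow]
      simp
    exact isCokernelEpiComp (cokernelIsCokernel ((imageSubobject S.f).ofLE (kernelSubobject S.g)
      (image_le_kernel S.f S.g S.zero))) (factorThruImageSubobject S.f) e

lemma homology_iso_subquot (K : CochainComplex A ℤ) (n : ℤ) :
    Nonempty (K.homology n ≅ subquot (kernelSubobject (K.d n (n + 1)))
      (imageSubobject (K.d (n - 1) n)) (image_le_kernel _ _ (K.d_comp_d _ _ _))) := by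
  have e1 := K.homologyIsoSc' (n - 1) n (n + 1) (by simp) (by simp)
  exact ⟨e1 ≪≫ (lhd (K.sc' (n - 1) n (n + 1))).homologyIso⟩

section Main

variable (P : ObjectProperty A) [P.IsClosedUnderIsomorphisms]
  (h0 : ∃ Z : A, IsZero Z ∧ P Z)
  (hP : ∀ S : ComposableArrows A 4, S.Exact → P (S.obj 0) → P (S.obj 1) → P (S.obj 3) →
    P (S.obj 4) → P (S.obj 2))

variable (K)

/-- The terms `E` of the prelude in the free-index form. -/
lemma E_iso (s : ℕ) (p n q q' n₀ n₁ : ℤ) (hq : p + s = q) (hq' : p - s + 1 = q')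
    (hn₀ : n - 1 = n₀) (hn₁ : n + 1 = n₁) :
    Nonempty (K.E s p n ≅ subquot (zS K p q n n₁) (bS K p q' n₀ n) (bS_le_zS _ _ _ _ _ _)) := by
  subst hq hq' hn₀ hn₁
  exact ⟨Iso.refl _⟩

include h0 hP in
lemma P_E_succ (s : ℕ) (hs : ∀ p n : ℤ, P (K.E s p n)) (p n : ℤ) : P (K.E (s + 1) p n) := by
  obtain ⟨e₁⟩ := E_iso K s p n (p + s) (p - s + 1) (n - 1) (n + 1) rfl rfl rfl rfl
  obtain ⟨e₂⟩ := E_iso K s (p + s) (n + 1) (p + s + s) (p + 1) n (n + 1 + 1) rfl (by omega)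
    (by omega) rfl
  obtain ⟨e₃⟩ := E_iso K s (p - s) (n - 1) p (p - s - s + 1) (n - 1 - 1) n (by omega) rfl rfl
    (by omega)
  obtain ⟨e₄⟩ := E_iso K (s + 1) p n (p + s + 1) (p - s) (n - 1) (n + 1) (by push_cast; omega)
    (by push_cast; omega) rfl rfl
  have := step_general P h0 hP (p - s) p (p + s) (p + s + s) (p - s - s + 1) (n - 1 - 1) (n - 1) n
    (n + 1) (n + 1 + 1) (P.prop_of_iso e₁ (hs _ _)) (P.prop_of_iso e₂ (hs _ _))
    (P.prop_of_iso e₃ (hs _ _))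
  exact P.prop_of_iso e₄.symm this

include h0 hP in
lemma P_E_add (r : ℕ) (hr : ∀ p n : ℤ, P (K.E r p n)) (k : ℕ) : ∀ p n : ℤ, P (K.E (r + k) p n) := by
  induction k with
  | zero => exact hr
  | succ k ih => exact fun p n => P_E_succ K P h0 hP (r + k) ih p n

lemma bBot_le_zTop (p n : ℤ) : K.BBot p n ≤ K.ZTop p n :=
  sup_le_sup_right (inf_le_inf_left _ (image_le_kernel _ _ (K.obj.d_comp_d _ _ _))) _

variable (hK : ∀ n : ℤ, (K.XFil n).IsFinite)

include h0 hP hK in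
lemma P_EInfty (r : ℕ) (hr : ∀ p n : ℤ, P (K.E r p n)) (p n : ℤ) :
    P (subquot (K.ZTop p n) (K.BBot p n) (bBot_le_zTop K p n)) := by
  obtain ⟨r₁, h₁⟩ := S6792.zSub_eq_zTop K hK p n
  obtain ⟨r₂, h₂⟩ := S6792.bSub_eq_bBot K hK p n
  have h := P_E_add K P h0 hP r hr (max r₁ r₂) p n
  exact P.prop_of_iso (subquotCongr (K.BSub_le_ZSub _ p n) (bBot_le_zTop K p n)
    (h₁ _ (le_trans (le_max_left _ _) (Nat.le_add_left _ _)))
    (h₂ _ (le_trans (le_max_right _ _) (Nat.le_add_left _ _)))) h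

/-- The chain of subobjects of `K^n` between the boundaries and the cycles induced by the
filtration. -/
noncomputable def Sch (p n : ℤ) : Subobject (K.obj.X n) :=
  (kernelSubobject (K.obj.d n (n + 1)) ⊓ K.filX p n) ⊔ imageSubobject (K.obj.d (n - 1) n)

lemma Sch_anti (p n : ℤ) : Sch K (p + 1) n ≤ Sch K p n :=
  sup_le_sup_right (inf_le_inf_left _ (K.filX_anti n (by omega))) _

lemma Sch_factors_iff {p n : ℤ} {T : A} (x : T ⟶ K.obj.X n) :
    (Sch K p n).Factors x ↔ ∃ (T' : A) (π : T' ⟶ T) (_ : Epi π) (z b : T' ⟶ K.obj.X n),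
      ((kernelSubobject (K.obj.d n (n + 1))).Factors z ∧ (K.filX p n).Factors z) ∧
        (imageSubobject (K.obj.d (n - 1) n)).Factors b ∧ π ≫ x = z + b := by
  unfold Sch
  rw [sup_factors_iff]
  simp only [Subobject.inf_factors]

lemma zTop_bBot_factors_iff {p n : ℤ} {T : A} (x : T ⟶ K.obj.X n) :
    (K.BBot p n).Factors x ↔ ∃ (T' : A) (π : T' ⟶ T) (_ : Epi π) (b f : T' ⟶ K.obj.X n),
      ((K.filX p n).Factors b ∧ (imageSubobject (K.obj.d (n - 1) n)).Factors b) ∧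
        (K.filX (p + 1) n).Factors f ∧ π ≫ x = b + f := by
  unfold BBot
  rw [sup_factors_iff]
  simp only [Subobject.inf_factors]

include h0 hP hK in
lemma P_gr (r : ℕ) (hr : ∀ p n : ℤ, P (K.E r p n)) (p n : ℤ) :
    P (subquot (Sch K p n) (Sch K (p + 1) n) (Sch_anti K p n)) := by
  have hBZ : imageSubobject (K.obj.d (n - 1) n) ≤ kernelSubobject (K.obj.d n (n + 1)) :=
    image_le_kernel _ _ (K.obj.d_comp_d _ _ _)
  set G : Subobject (K.obj.X n) := K.filX p n ⊓ kernelSubobject (K.obj.d n (n + 1)) with hG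
  have hG1 : G ≤ K.ZTop p n := le_sup_left
  have i1 := sqMapId_isIso G (G ⊓ K.BBot p n) inf_le_left (K.ZTop p n) (K.BBot p n)
    (bBot_le_zTop K p n) hG1 inf_le_right le_rfl
    (sup_le le_sup_left (le_sup_of_le_right le_sup_right))
  have hPG : P (subquot G (G ⊓ K.BBot p n) inf_le_left) :=
    P.prop_of_iso (asIso (sqMapId _ _ _ _ _ _ hG1 inf_le_right)).symm
      (P_EInfty K P h0 hP hK r hr p n)
  have hG2 : G ≤ Sch K p n := by
    unfold Sch
    rw [hG, inf_comm]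
    exact le_sup_left
  have hB2 : G ⊓ K.BBot p n ≤ Sch K (p + 1) n := by
    rw [le_iff_forall_factors]
    intro T x hx
    rw [Subobject.inf_factors, hG, Subobject.inf_factors, zTop_bBot_factors_iff] at hx
    obtain ⟨⟨hx1, hx2⟩, T', π, hπ, b, f, ⟨hb1, hb2⟩, hf, e⟩ := hx
    apply factors_of_epi_comp _ π
    rw [Sch_factors_iff]
    refine ⟨T', 𝟙 _, inferInstance, f, b, ⟨?_, hf⟩, hb2, by rw [Category.id_comp, e, add_comm]⟩
    have : f = π ≫ x - b := by rw [e]; abel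
    rw [this]
    exact factors_sub' _ _ _ (Subobject.factors_of_factors_right _ hx2)
      (Subobject.factors_of_le _ hBZ hb2)
  have hm : G ⊓ Sch K (p + 1) n ≤ G ⊓ K.BBot p n := by
    refine le_inf inf_le_left ?_
    rw [le_iff_forall_factors]
    intro T x hx
    rw [Subobject.inf_factors, hG, Subobject.inf_factors, Sch_factors_iff] at hx
    obtain ⟨⟨hx1, hx2⟩, T', π, hπ, z, b, ⟨hz1, hz2⟩, hb, e⟩ := hx
    apply factors_of_epi_comp _ π
    rw [zTop_bBot_factors_iff]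
    refine ⟨T', 𝟙 _, inferInstance, b, z, ⟨?_, hb⟩, hz2, by rw [Category.id_comp, e, add_comm]⟩
    have : b = π ≫ x - z := by rw [e]; abel
    rw [this]
    exact factors_sub' _ _ _ (Subobject.factors_of_factors_right _ hx1)
      (filX_of_le K (by omega) z hz2)
  have he : Sch K p n ≤ G ⊔ Sch K (p + 1) n := by
    unfold Sch
    refine sup_le (le_sup_of_le_left ?_) (le_sup_of_le_right le_sup_right)
    rw [hG, inf_comm]
  have i2 := sqMapId_isIso G (G ⊓ K.BBot p n) inf_le_left (Sch K p n) (Sch K (p + 1) n)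
    (Sch_anti K p n) hG2 hB2 hm he
  exact P.prop_of_iso (asIso (sqMapId _ _ _ _ _ _ hG2 hB2)) hPG

include h0 hP hK in
lemma P_Sch (r : ℕ) (hr : ∀ p n : ℤ, P (K.E r p n)) (n b : ℤ) (hb : K.filX b n = ⊥) (k : ℕ) :
    ∀ p : ℤ, p + k = b → P (subquot (Sch K p n) (imageSubobject (K.obj.d (n - 1) n))
      le_sup_right) := by
  induction k with
  | zero =>
    intro p hp
    have hp' : p = b := by simpa using hp
    subst hp'
    apply weakSerre_of_isZero P h0
    apply S6792.isZero_subquot_of_le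
    unfold Sch
    rw [hb, inf_bot_eq, bot_sup_eq]
  | succ k ih =>
    intro p hp
    have h1 := ih (p + 1) (by push_cast at hp; omega)
    have h2 := P_gr K P h0 hP hK r hr p n
    obtain ⟨f, g, hf, hg, w, hex⟩ := sq_third_iso (imageSubobject (K.obj.d (n - 1) n))
      (Sch K (p + 1) n) (Sch K p n) le_sup_right (Sch_anti K p n)
    exact weakSerre_of_ext P h0 hP f g w hex h1 h2

end Main


end Helpers

/-- For a filtered complex with degreewise finite filtration, if all terms of some page of its spectral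
sequence lie in a weak Serre class `P`, then so does each cohomology object. -/
theorem result {A : Type u} [Category.{v} A] [Abelian A] (K : SpSeq.FilCx A) (hK : ∀ n : ℤ, (K.XFil n).IsFinite) (P : ObjectProperty A) [P.IsClosedUnderIsomorphisms] (h0 : ∃ Z : A, IsZero Z ∧ P Z) (hP : ∀ S : ComposableArrows A 4, S.Exact → P (S.obj 0) → P (S.obj 1) → P (S.obj 3) → P (S.obj 4) → P (S.obj 2)) (r : ℕ) (hr : ∀ p n : ℤ, P (K.E r p n)) (n : ℤ) : P (K.obj.homology n) := by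
  obtain ⟨⟨a, ha⟩, ⟨b, hb⟩⟩ := hK n
  change K.filX a n = ⊤ at ha
  change K.filX b n = ⊥ at hb
  have hp : K.filX (min a b) n = ⊤ := S6792.filX_top_of_le K ha (min_le_left _ _)
  have h1 := P_Sch K P h0 hP hK r hr n b hb (b - min a b).toNat (min a b)
    (by have := min_le_right a b; omega)
  have hS : Sch K (min a b) n = kernelSubobject (K.obj.d n (n + 1)) := by
    unfold Sch
    rw [hp, inf_top_eq]
    exact sup_eq_left.2 (image_le_kernel _ _ (K.obj.d_comp_d _ _ _))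
  obtain ⟨e⟩ := homology_iso_subquot K.obj n
  exact P.prop_of_iso ((Groth.Agent.Lib.Helper33.subquotCongr _ _ hS rfl) ≪≫ e.symm) h1

end Groth.Agent.S6793
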