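import Groth.Statements.S6795

set_option autoImplicit false
open CategoryTheory CategoryTheory.Limits
universe v u
open CategoryTheory CategoryTheory.Preadditive

namespace Groth.Agent.S6795

/-- A preadditive category with countable products in which split epimorphisms have kernels is
idempotent complete (Karoubian). -/
theorem result {D : Type u} [Category.{v} D] [Preadditive D] [HasCountableProducts D] (hk : ∀ ⦃X Y : D⦄ (f : X ⟶ Y), IsSplitEpi f → HasKernel f) : IsIdempotentComplete D := by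
  rw [Idempotents.isIdempotentComplete_iff_idempotents_have_kernels]
  intro X e he
  -- the countable power of `X`
  let P : D := ∏ᶜ fun _ : ℕ => X
  let π : ∀ n : ℕ, P ⟶ X := fun n => Pi.π (fun _ : ℕ => X) n
  have hext : ∀ {Z : D} (a b : Z ⟶ P), (∀ n, a ≫ π n = b ≫ π n) → a = b :=
    fun a b h => Pi.hom_ext _ _ h
  have he1 : e ≫ (𝟙 X - e) = 0 := by
    rw [Preadditive.comp_sub, Category.comp_id, he, sub_self]
  have he2 : (𝟙 X - e) ≫ e = 0 := by
    rw [Preadditive.sub_comp, Category.id_comp, he, sub_self]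
  have he3 : (𝟙 X - e) ≫ (𝟙 X - e) = 𝟙 X - e := Idempotents.idem_of_id_sub_idem e he
  let Φ : P ⟶ P := Pi.lift fun n => π n ≫ e + π (n + 1) ≫ (𝟙 X - e)
  have hΦ : ∀ n, Φ ≫ π n = π n ≫ e + π (n + 1) ≫ (𝟙 X - e) := fun n => Pi.lift_π _ n
  let Ψ : P ⟶ P := Pi.lift fun n =>
    Nat.casesOn n (π 0) (fun m => π m ≫ (𝟙 X - e) + π (m + 1) ≫ e)
  have hΨ0 : Ψ ≫ π 0 = π 0 := Pi.lift_π _ 0
  have hΨs : ∀ m, Ψ ≫ π (m + 1) = π m ≫ (𝟙 X - e) + π (m + 1) ≫ e := fun m => Pi.lift_π _ (m + 1)
  have hΨΦ : Ψ ≫ Φ = 𝟙 P := by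
    apply hext
    intro n
    rw [Category.assoc, hΦ, Preadditive.comp_add, ← Category.assoc, ← Category.assoc Ψ, hΨs,
      Category.id_comp]
    cases n with
    | zero =>
      rw [hΨ0, Preadditive.add_comp, Category.assoc, Category.assoc, he3, he1, comp_zero, add_zero,
        ← Preadditive.comp_add, add_sub_cancel, Category.comp_id]
    | succ m =>
      rw [hΨs, Preadditive.add_comp, Preadditive.add_comp, Category.assoc, Category.assoc,
        Category.assoc, Category.assoc, he2, he, he3, he1, comp_zero, comp_zero, zero_add, add_zero,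
        ← Preadditive.comp_add, add_sub_cancel, Category.comp_id]
  have hsplit : IsSplitEpi Φ := ⟨⟨⟨Ψ, hΨΦ⟩⟩⟩
  have : HasKernel Φ := hk Φ hsplit
  let κ : kernel Φ ⟶ P := kernel.ι Φ
  have hκ : ∀ n, κ ≫ π n ≫ e + κ ≫ π (n + 1) ≫ (𝟙 X - e) = 0 := by
    intro n
    have : κ ≫ Φ ≫ π n = 0 := by rw [← Category.assoc, kernel.condition, zero_comp]
    rw [hΦ, Preadditive.comp_add] at this
    exact this
  have hκe : ∀ n, κ ≫ π n ≫ e = 0 := by
    intro n
    have := congrArg (fun t => t ≫ e) (hκ n)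
    simp only [Preadditive.add_comp, Category.assoc, he, he2, comp_zero, add_zero, zero_comp] at this
    exact this
  have hκ1 : ∀ n, κ ≫ π (n + 1) ≫ (𝟙 X - e) = 0 := by
    intro n
    have := hκ n
    rw [hκe n, zero_add] at this
    exact this
  have hκs : ∀ n, κ ≫ π (n + 1) = 0 := by
    intro n
    have := hκ1 n
    rw [Preadditive.comp_sub, Preadditive.comp_sub, Category.comp_id, hκe (n + 1), sub_zero] at this
    exact this
  have hcond : (κ ≫ π 0) ≫ e = 0 := by rw [Category.assoc]; exact hκe 0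
  refine ⟨⟨KernelFork.ofι (κ ≫ π 0) hcond, ?_⟩⟩
  -- lifting
  let G : ∀ {Z : D} (_ : Z ⟶ X), Z ⟶ P := fun {Z} g =>
    Pi.lift fun n : ℕ => (Nat.casesOn n g (fun _ => (0 : Z ⟶ X)) : Z ⟶ X)
  have hG0 : ∀ {Z : D} (g : Z ⟶ X), G g ≫ π 0 = g := fun g => Pi.lift_π _ 0
  have hGs : ∀ {Z : D} (g : Z ⟶ X) (m : ℕ), G g ≫ π (m + 1) = 0 := fun g m => Pi.lift_π _ (m + 1)
  have hG : ∀ {Z : D} (g : Z ⟶ X), g ≫ e = 0 → G g ≫ Φ = 0 := by
    intro Z g hg
    apply hext
    intro n
    rw [Category.assoc, hΦ, Preadditive.comp_add, ← Category.assoc, ← Category.assoc,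
      zero_comp, hGs, zero_comp, add_zero]
    cases n with
    | zero => rw [hG0, hg]
    | succ m => rw [hGs, zero_comp]
  refine KernelFork.IsLimit.ofι (κ ≫ π 0) hcond
    (fun {Z} g hg => kernel.lift Φ (G g) (hG g hg)) ?_ ?_
  · intro Z g hg
    rw [← Category.assoc]
    have : kernel.lift Φ (G g) (hG g hg) ≫ κ = G g := kernel.lift_ι Φ _ (hG g hg)
    rw [this, hG0]
  · intro Z g hg b hb
    apply (cancel_mono κ).1
    have : kernel.lift Φ (G g) (hG g hg) ≫ κ = G g := kernel.lift_ι Φ _ (hG g hg)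
    rw [this]
    apply hext
    intro n
    cases n with
    | zero => rw [Category.assoc, hb, hG0]
    | succ m => rw [Category.assoc, hκs m, comp_zero, hGs]

end Groth.Agent.S6795
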