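import Groth.Statements.S6796

set_option autoImplicit false
open CategoryTheory CategoryTheory.Limits
universe v u
open CategoryTheory CategoryTheory.Preadditive

namespace Groth.Agent.S6796

/-- A preadditive category with countable coproducts in which split monomorphisms have cokernels is
idempotent complete (Karoubian). -/
theorem result {D : Type u} [Category.{v} D] [Preadditive D] [HasCountableCoproducts D] (hk : ∀ ⦃X Y : D⦄ (f : X ⟶ Y), IsSplitMono f → HasCokernel f) : IsIdempotentComplete D := by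
  -- it suffices to show that idempotents have cokernels
  suffices hcok : ∀ (X : D) (e : X ⟶ X), e ≫ e = e → HasCokernel e by
    refine ⟨fun X p hp => ?_⟩
    have hq : (𝟙 X - p) ≫ (𝟙 X - p) = 𝟙 X - p := Idempotents.idem_of_id_sub_idem p hp
    have : HasCokernel (𝟙 X - p) := hcok X (𝟙 X - p) hq
    have hqp : (𝟙 X - p) ≫ p = 0 := by
      rw [Preadditive.sub_comp, Category.id_comp, hp, sub_self]
    refine ⟨cokernel (𝟙 X - p), cokernel.desc (𝟙 X - p) p hqp, cokernel.π (𝟙 X - p), ?_, ?_⟩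
    · apply (cancel_epi (cokernel.π (𝟙 X - p))).1
      rw [← Category.assoc, cokernel.π_desc, Category.comp_id]
      have h1 : (𝟙 X - (𝟙 X - p)) ≫ cokernel.π (𝟙 X - p) = cokernel.π (𝟙 X - p) := by
        rw [Preadditive.sub_comp, cokernel.condition, sub_zero, Category.id_comp]
      rw [sub_sub_cancel] at h1
      exact h1
    · rw [cokernel.π_desc]
  intro X e he
  let P : D := ∐ fun _ : ℕ => X
  let ι : ∀ n : ℕ, X ⟶ P := fun n => Sigma.ι (fun _ : ℕ => X) n
  have hext : ∀ {Z : D} (a b : P ⟶ Z), (∀ n, ι n ≫ a = ι n ≫ b) → a = b :=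
    fun a b h => Sigma.hom_ext _ _ h
  have he1 : e ≫ (𝟙 X - e) = 0 := by
    rw [Preadditive.comp_sub, Category.comp_id, he, sub_self]
  have he2 : (𝟙 X - e) ≫ e = 0 := by
    rw [Preadditive.sub_comp, Category.id_comp, he, sub_self]
  have he3 : (𝟙 X - e) ≫ (𝟙 X - e) = 𝟙 X - e := Idempotents.idem_of_id_sub_idem e he
  let Φ : P ⟶ P := Sigma.desc fun n => e ≫ ι n + (𝟙 X - e) ≫ ι (n + 1)
  have hΦ : ∀ n, ι n ≫ Φ = e ≫ ι n + (𝟙 X - e) ≫ ι (n + 1) := fun n => Sigma.ι_desc _ n
  let Ψ : P ⟶ P := Sigma.desc fun n =>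
    Nat.casesOn n (ι 0) (fun m => (𝟙 X - e) ≫ ι m + e ≫ ι (m + 1))
  have hΨ0 : ι 0 ≫ Ψ = ι 0 := Sigma.ι_desc _ 0
  have hΨs : ∀ m, ι (m + 1) ≫ Ψ = (𝟙 X - e) ≫ ι m + e ≫ ι (m + 1) :=
    fun m => Sigma.ι_desc _ (m + 1)
  have hΦΨ : Φ ≫ Ψ = 𝟙 P := by
    apply hext
    intro n
    rw [← Category.assoc, hΦ, Preadditive.add_comp, Category.assoc, Category.assoc, hΨs,
      Category.comp_id]
    cases n with
    | zero =>
      rw [hΨ0, Preadditive.comp_add, ← Category.assoc, ← Category.assoc, he3, he2, zero_comp,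
        add_zero, ← Preadditive.add_comp, add_sub_cancel, Category.id_comp]
    | succ m =>
      rw [hΨs, Preadditive.comp_add, Preadditive.comp_add, ← Category.assoc, ← Category.assoc,
        ← Category.assoc, ← Category.assoc, he1, he, he3, he2, zero_comp, zero_comp, zero_add,
        add_zero, ← Preadditive.add_comp, add_sub_cancel, Category.id_comp]
  have hsplit : IsSplitMono Φ := ⟨⟨⟨Ψ, hΦΨ⟩⟩⟩
  have : HasCokernel Φ := hk Φ hsplit
  let c : P ⟶ cokernel Φ := cokernel.π Φ
  have hc : ∀ n, e ≫ ι n ≫ c + (𝟙 X - e) ≫ ι (n + 1) ≫ c = 0 := by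
    intro n
    have : (ι n ≫ Φ) ≫ c = 0 := by rw [Category.assoc, cokernel.condition, comp_zero]
    rw [hΦ, Preadditive.add_comp, Category.assoc, Category.assoc] at this
    exact this
  have hce : ∀ n, e ≫ ι n ≫ c = 0 := by
    intro n
    have := congrArg (fun t => e ≫ t) (hc n)
    simp only [Preadditive.comp_add, ← Category.assoc, he, he1, zero_comp, add_zero,
      comp_zero] at this
    simpa only [Category.assoc] using this
  have hc1 : ∀ n, (𝟙 X - e) ≫ ι (n + 1) ≫ c = 0 := by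
    intro n
    have := hc n
    rw [hce n, zero_add] at this
    exact this
  have hcs : ∀ n, ι (n + 1) ≫ c = 0 := by
    intro n
    have := hc1 n
    rw [Preadditive.sub_comp, Category.id_comp, hce (n + 1), sub_zero] at this
    exact this
  have hcond : e ≫ (ι 0 ≫ c) = 0 := hce 0
  refine ⟨⟨CokernelCofork.ofπ (ι 0 ≫ c) hcond, ?_⟩⟩
  let G : ∀ {Z : D} (_ : X ⟶ Z), P ⟶ Z := fun {Z} g =>
    Sigma.desc fun n : ℕ => (Nat.casesOn n g (fun _ => (0 : X ⟶ Z)) : X ⟶ Z)
  have hG0 : ∀ {Z : D} (g : X ⟶ Z), ι 0 ≫ G g = g := fun g => Sigma.ι_desc _ 0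
  have hGs : ∀ {Z : D} (g : X ⟶ Z) (m : ℕ), ι (m + 1) ≫ G g = 0 :=
    fun g m => Sigma.ι_desc _ (m + 1)
  have hG : ∀ {Z : D} (g : X ⟶ Z), e ≫ g = 0 → Φ ≫ G g = 0 := by
    intro Z g hg
    apply hext
    intro n
    rw [← Category.assoc, hΦ, Preadditive.add_comp, Category.assoc, Category.assoc,
      comp_zero, hGs, comp_zero, add_zero]
    cases n with
    | zero => rw [hG0, hg]
    | succ m => rw [hGs, comp_zero]
  refine CokernelCofork.IsColimit.ofπ (ι 0 ≫ c) hcond
    (fun {Z} g hg => cokernel.desc Φ (G g) (hG g hg)) ?_ ?_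
  · intro Z g hg
    rw [Category.assoc]
    have : c ≫ cokernel.desc Φ (G g) (hG g hg) = G g := cokernel.π_desc Φ _ (hG g hg)
    rw [this, hG0]
  · intro Z g hg b hb
    apply (cancel_epi c).1
    have : c ≫ cokernel.desc Φ (G g) (hG g hg) = G g := cokernel.π_desc Φ _ (hG g hg)
    rw [this]
    apply hext
    intro n
    cases n with
    | zero => rw [← Category.assoc, hb, hG0]
    | succ m => rw [← Category.assoc, hcs m, zero_comp, hGs]

end Groth.Agent.S6796
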