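import Groth.Statements.S6799

set_option autoImplicit false
open CategoryTheory Opposite
universe u
open SSet
open Simplicial MonoidalCategory CartesianMonoidalCategory SimplexCategory

namespace Groth.Agent.S6799

lemma map_eq_of_not_surjective {U V : SSet.{u}} (f₀ f₁ : V ⟶ U) (n : ℕ)
    (h : ∀ i : ℕ, i < n → f₀.app (op (SimplexCategory.mk i)) = f₁.app (op (SimplexCategory.mk i)))
    {a b : SimplexCategory} (ha : a.len ≤ n) (θ : b ⟶ a)
    (hθ : ¬ Function.Surjective θ.toOrderHom) (v : V.obj (op a)) :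
    U.map θ.op (f₀.app (op a) v) = U.map θ.op (f₁.app (op a) v) := by
  induction a using SimplexCategory.rec with | _ k
  cases k with
  | zero =>
    exfalso
    apply hθ
    intro y
    have : Subsingleton (Fin ((⦋0⦌ : SimplexCategory).len + 1)) :=
      inferInstanceAs (Subsingleton (Fin 1))
    exact ⟨0, Subsingleton.elim _ _⟩
  | succ m =>
    obtain ⟨i, θ', rfl⟩ := eq_comp_δ_of_not_surjective θ hθ
    have hm : m < n := ha
    have e0 : U.map (SimplexCategory.δ i).op (f₀.app _ v) =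
        f₀.app (op ⦋m⦌) (V.map (SimplexCategory.δ i).op v) :=
      (NatTrans.naturality_apply f₀ (SimplexCategory.δ i).op v).symm
    have e1 : U.map (SimplexCategory.δ i).op (f₁.app _ v) =
        f₁.app (op ⦋m⦌) (V.map (SimplexCategory.δ i).op v) :=
      (NatTrans.naturality_apply f₁ (SimplexCategory.δ i).op v).symm
    rw [op_comp, Functor.map_comp_apply, Functor.map_comp_apply, e0, e1, h m hm]

/-- The homotopy on the `n`-truncation. -/
noncomputable def β {U V : SSet.{u}} (f₀ f₁ : V ⟶ U) (n : ℕ)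
    (h : ∀ i : ℕ, i < n → f₀.app (op (SimplexCategory.mk i)) = f₁.app (op (SimplexCategory.mk i))) :
    (Truncated.inclusion n).op ⋙ (V ⊗ Δ[1]) ⟶ (Truncated.inclusion n).op ⋙ U where
  app k := ↾fun z => if stdSimplex.asOrderHom z.2 0 = 0 then f₀.app _ z.1 else f₁.app _ z.1
  naturality k k' θ := by
    ext z
    let τ : k'.unop.obj ⟶ k.unop.obj := (Truncated.inclusion n).map θ.unop
    have hk : k.unop.obj.len ≤ n := k.unop.property
    change (if stdSimplex.asOrderHom ((Δ[1] : SSet.{u}).map τ.op z.2) 0 = 0 then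
        f₀.app _ (V.map τ.op z.1) else f₁.app _ (V.map τ.op z.1)) =
      U.map τ.op (if stdSimplex.asOrderHom z.2 0 = 0 then f₀.app _ z.1 else f₁.app _ z.1)
    have e0 : f₀.app _ (V.map τ.op z.1) = U.map τ.op (f₀.app _ z.1) :=
      NatTrans.naturality_apply f₀ τ.op z.1
    have e1 : f₁.app _ (V.map τ.op z.1) = U.map τ.op (f₁.app _ z.1) :=
      NatTrans.naturality_apply f₁ τ.op z.1
    have e2 : stdSimplex.asOrderHom ((Δ[1] : SSet.{u}).map τ.op z.2) 0 =
        stdSimplex.asOrderHom z.2 (τ.toOrderHom 0) := rfl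
    rw [e0, e1, e2]
    by_cases hτ : τ.toOrderHom 0 = 0
    · rw [hτ]
      split_ifs <;> rfl
    · have hns : ¬ Function.Surjective τ.toOrderHom := by
        intro hs
        obtain ⟨x, hx⟩ := hs 0
        apply hτ
        have := τ.toOrderHom.monotone (Fin.zero_le x)
        rw [hx] at this
        exact le_antisymm this (Fin.zero_le _)
      have key := map_eq_of_not_surjective f₀ f₁ n h hk τ hns z.1
      split_ifs <;> first | rfl | exact key | exact key.symm

/-- Two maps between `n`-coskeletal simplicial sets which agree on simplices of dimension `< n` are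
homotopic, by a single homotopy. -/
theorem result {U V : SSet.{u}} (f₀ f₁ : V ⟶ U) (n : ℕ) (h : ∀ i : ℕ, i < n → f₀.app (op (SimplexCategory.mk i)) = f₁.app (op (SimplexCategory.mk i))) [SimplicialObject.IsCoskeletal U n] [SimplicialObject.IsCoskeletal V n] : Nonempty (SSet.Homotopy f₀ f₁) := by
  let H : V ⊗ Δ[1] ⟶ U :=
    U.liftOfIsRightKanExtension (𝟙 ((Truncated.inclusion n).op ⋙ U)) (V ⊗ Δ[1]) (β f₀ f₁ n h)
  have hH : Functor.whiskerLeft (Truncated.inclusion n).op H ≫ 𝟙 _ = β f₀ f₁ n h :=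
    U.liftOfIsRightKanExtension_fac (𝟙 ((Truncated.inclusion n).op ⋙ U)) _ _
  refine ⟨{ h := H, h₀ := ?_, h₁ := ?_, rel := ?_ }⟩
  · apply U.hom_ext_of_isRightKanExtension (𝟙 ((Truncated.inclusion n).op ⋙ U))
    rw [Functor.whiskerLeft_comp, Category.assoc, hH]
    ext k v
    have h0 : stdSimplex.asOrderHom
        (((ι₀ : V ⟶ V ⊗ Δ[1]).app ((Truncated.inclusion n).op.obj k) v).2) 0 = 0 := rfl
    change (if stdSimplex.asOrderHom
        (((ι₀ : V ⟶ V ⊗ Δ[1]).app ((Truncated.inclusion n).op.obj k) v).2) 0 = 0 then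
        f₀.app _ ((ι₀ : V ⟶ V ⊗ Δ[1]).app _ v).1 else f₁.app _ ((ι₀ : V ⟶ V ⊗ Δ[1]).app _ v).1) = _
    rw [if_pos h0]
    rfl
  · apply U.hom_ext_of_isRightKanExtension (𝟙 ((Truncated.inclusion n).op ⋙ U))
    rw [Functor.whiskerLeft_comp, Category.assoc, hH]
    ext k v
    have h0 : ¬ (stdSimplex.asOrderHom
        (((ι₁ : V ⟶ V ⊗ Δ[1]).app ((Truncated.inclusion n).op.obj k) v).2) 0 = 0) := by
      change ¬ ((1 : Fin 2) = 0)
      decide
    change (if stdSimplex.asOrderHom
        (((ι₁ : V ⟶ V ⊗ Δ[1]).app ((Truncated.inclusion n).op.obj k) v).2) 0 = 0 then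
        f₀.app _ ((ι₁ : V ⟶ V ⊗ Δ[1]).app _ v).1 else f₁.app _ ((ι₁ : V ⟶ V ⊗ Δ[1]).app _ v).1) = _
    rw [if_neg h0]
    rfl
  · ext m ⟨⟨x, hx⟩, _⟩
    exact hx.elim

end Groth.Agent.S6799
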