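import Groth.Statements.S6801
import Groth.Agent.Lib.Helper33.SubobjectElem

set_option autoImplicit false
universe v u
open CategoryTheory
open SpSeq SpSeq.FilObj

namespace Groth.Agent.S6801

open CategoryTheory.Limits Groth.Agent.Lib.Helper33

/-- The image of `F p` under a morphism of filtered objects lies in the image and in `F p`. -/
theorem image_le {A : Type u} [Category.{v} A] [Abelian A] {K M : SpSeq.FilObj A} (h : K ⟶ M)
    (p : ℤ) : imageSubobject ((K.fil p).arrow ≫ h.hom) ≤ imageSubobject h.hom ⊓ M.fil p := by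
  refine le_inf (imageSubobject_comp_le _ _) ?_
  have hc := h.compat p
  rw [subobject_le_iff_factors, Limits.pullback_factors_iff] at hc
  exact imageSubobject_le _ ((M.fil p).factorThru _ hc) (by simp)

/-- The composite of two strict morphisms of filtered objects is strict when the second one is a
monomorphism. (In general a composite of strict morphisms is not strict.) -/
theorem result {A : Type u} [Category.{v} A] [Abelian A] {K L M : SpSeq.FilObj A} (f : K ⟶ L) (g : L ⟶ M) (hf : SpSeq.FilObj.IsStrict f) (hg : SpSeq.FilObj.IsStrict g) [Mono g.hom] : SpSeq.FilObj.IsStrict (f ≫ g) := by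
  intro p
  apply le_antisymm (image_le (f ≫ g) p)
  change imageSubobject (f.hom ≫ g.hom) ⊓ M.fil p ≤
    imageSubobject ((K.fil p).arrow ≫ f.hom ≫ g.hom)
  rw [subobject_le_iff_factors]
  set S := imageSubobject (f.hom ≫ g.hom) ⊓ M.fil p with hS
  have h1 : (imageSubobject (f.hom ≫ g.hom)).Factors S.arrow :=
    Subobject.inf_arrow_factors_left _ _
  have h2 : (M.fil p).Factors S.arrow := Subobject.inf_arrow_factors_right _ _
  obtain ⟨T₁, π₁, hπ₁, y, hy⟩ := (imageSubobject_factors_iff _ _).1 h1
  -- `z = y ≫ f` is an element of `L` whose image in `M` lies in `M_p`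
  have h3 : (imageSubobject g.hom ⊓ M.fil p).Factors ((y ≫ f.hom) ≫ g.hom) := by
    rw [Subobject.inf_factors]
    refine ⟨imageSubobject_factors_comp_self _ _, ?_⟩
    rw [Category.assoc, ← hy]
    exact Subobject.factors_of_factors_right π₁ h2
  rw [← hg p] at h3
  obtain ⟨T₂, π₂, hπ₂, w, hw⟩ := (imageSubobject_factors_iff _ _).1 h3
  have hw' : π₂ ≫ y ≫ f.hom = w ≫ (L.fil p).arrow := by
    apply (cancel_mono g.hom).1
    simpa using hw
  have h4 : (imageSubobject f.hom ⊓ L.fil p).Factors ((π₂ ≫ y) ≫ f.hom) := by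
    rw [Subobject.inf_factors]
    refine ⟨imageSubobject_factors_comp_self _ _, ?_⟩
    rw [Category.assoc, hw']
    exact Subobject.factors_comp_arrow w
  rw [← hf p] at h4
  obtain ⟨T₃, π₃, hπ₃, v, hv⟩ := (imageSubobject_factors_iff _ _).1 h4
  rw [imageSubobject_factors_iff]
  refine ⟨T₃, π₃ ≫ π₂ ≫ π₁, inferInstance, v, ?_⟩
  have : π₃ ≫ π₂ ≫ y ≫ f.hom = v ≫ (K.fil p).arrow ≫ f.hom := by simpa using hv
  rw [Category.assoc, Category.assoc, hy]
  have := congrArg (fun t => t ≫ g.hom) this
  simpa using this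

end Groth.Agent.S6801
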