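import Groth.Statements.S6802
import Groth.Agent.S6801

set_option autoImplicit false
universe v u
open CategoryTheory
open SpSeq SpSeq.FilObj

namespace Groth.Agent.S6802

open CategoryTheory.Limits Groth.Agent.Lib.Helper33

/-- The composite of two strict morphisms of filtered objects is strict when the first one is an
epimorphism. -/
theorem result {A : Type u} [Category.{v} A] [Abelian A] {K L M : SpSeq.FilObj A} (f : K ⟶ L) (g : L ⟶ M) (hf : SpSeq.FilObj.IsStrict f) (hg : SpSeq.FilObj.IsStrict g) [Epi f.hom] : SpSeq.FilObj.IsStrict (f ≫ g) := by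
  intro p
  apply le_antisymm (Groth.Agent.S6801.image_le (f ≫ g) p)
  change imageSubobject (f.hom ≫ g.hom) ⊓ M.fil p ≤
    imageSubobject ((K.fil p).arrow ≫ f.hom ≫ g.hom)
  rw [subobject_le_iff_factors]
  set S := imageSubobject (f.hom ≫ g.hom) ⊓ M.fil p with hS
  have h1 : (imageSubobject (f.hom ≫ g.hom)).Factors S.arrow :=
    Subobject.inf_arrow_factors_left _ _
  have h2 : (M.fil p).Factors S.arrow := Subobject.inf_arrow_factors_right _ _
  obtain ⟨T₁, π₁, hπ₁, y, hy⟩ := (imageSubobject_factors_iff _ _).1 h1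
  have h3 : (imageSubobject g.hom ⊓ M.fil p).Factors ((y ≫ f.hom) ≫ g.hom) := by
    rw [Subobject.inf_factors]
    refine ⟨imageSubobject_factors_comp_self _ _, ?_⟩
    rw [Category.assoc, ← hy]
    exact Subobject.factors_of_factors_right π₁ h2
  rw [← hg p] at h3
  obtain ⟨T₂, π₂, hπ₂, w, hw⟩ := (imageSubobject_factors_iff _ _).1 h3
  -- lift `w ≫ L_p.arrow` along the epimorphism `f`
  obtain ⟨T₃, π₃, hπ₃, u, hu⟩ := surjective_up_to_refinements_of_epi f.hom (w ≫ (L.fil p).arrow)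
  have h4 : (imageSubobject f.hom ⊓ L.fil p).Factors (u ≫ f.hom) := by
    rw [Subobject.inf_factors]
    refine ⟨imageSubobject_factors_comp_self _ _, ?_⟩
    rw [← hu, ← Category.assoc]
    exact Subobject.factors_comp_arrow (π₃ ≫ w)
  rw [← hf p] at h4
  obtain ⟨T₄, π₄, hπ₄, v, hv⟩ := (imageSubobject_factors_iff _ _).1 h4
  rw [imageSubobject_factors_iff]
  refine ⟨T₄, π₄ ≫ π₃ ≫ π₂ ≫ π₁, inferInstance, v, ?_⟩
  have e1 : π₄ ≫ π₃ ≫ w ≫ (L.fil p).arrow = v ≫ (K.fil p).arrow ≫ f.hom := by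
    rw [hu]; simpa using hv
  have e2 : π₂ ≫ π₁ ≫ S.arrow = w ≫ (L.fil p).arrow ≫ g.hom := by
    rw [hy]; simpa using hw
  calc (π₄ ≫ π₃ ≫ π₂ ≫ π₁) ≫ S.arrow = π₄ ≫ π₃ ≫ (π₂ ≫ π₁ ≫ S.arrow) := by simp
    _ = (π₄ ≫ π₃ ≫ w ≫ (L.fil p).arrow) ≫ g.hom := by rw [e2]; simp
    _ = v ≫ (K.fil p).arrow ≫ f.hom ≫ g.hom := by rw [e1]; simp

end Groth.Agent.S6802
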