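import Groth.Statements.S6804
import Groth.Agent.Lib.Helper33.SubobjectElem

set_option autoImplicit false
open CategoryTheory CategoryTheory.Limits
universe v u
open SpSeq SpSeq.FilObj

namespace Groth.Agent.S6804

section Helpers

open Groth.Agent.Lib.Helper33

variable {A : Type u} [Category.{v} A] [Abelian A]

lemma image_le_iff {X Y : A} (S : Subobject X) (h : X ⟶ Y) (T : Subobject Y) :
    imageSubobject (S.arrow ≫ h) ≤ T ↔ S ≤ (Subobject.pullback h).obj T := by
  constructor
  · intro hle
    rw [subobject_le_iff_factors, Groth.Agent.Lib.Helper33.pullback_factors_iff]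
    refine Subobject.factors_of_le _ hle ?_
    have := imageSubobject_factors_comp_self (f := S.arrow ≫ h) (𝟙 _)
    rwa [Category.id_comp] at this
  · intro hle
    rw [le_iff_forall_factors]
    intro T' x hx
    rw [imageSubobject_factors_iff] at hx
    obtain ⟨T'', π, hπ, y, hy⟩ := hx
    apply factors_of_epi_comp _ π
    rw [hy, ← Category.assoc, ← Groth.Agent.Lib.Helper33.pullback_factors_iff]
    exact Subobject.factors_of_le _ hle (Subobject.factors_comp_arrow y)

@[simp] lemma comp_hom {K L M : FilObj A} (f : K ⟶ L) (g : L ⟶ M) : (f ≫ g).hom = f.hom ≫ g.hom := rfl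
@[simp] lemma id_hom (K : FilObj A) : (𝟙 K : K ⟶ K).hom = 𝟙 K.obj := rfl

/-- For an isomorphism of filtered objects, the filtration of the source is the pullback of the
filtration of the target. -/
lemma fil_eq_pullback_of_iso {P Q : FilObj A} (e : P ≅ Q) (p : ℤ) :
    P.fil p = (Subobject.pullback e.hom.hom).obj (Q.fil p) := by
  apply le_antisymm (e.hom.compat p)
  have h1 := (Subobject.pullback e.hom.hom).monotone (e.inv.compat p)
  rw [← Subobject.pullback_comp, ← comp_hom, e.hom_inv_id, id_hom, Subobject.pullback_id] at h1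
  exact h1

instance isIso_hom_of_iso {P Q : FilObj A} (e : P ≅ Q) : IsIso e.hom.hom :=
  ⟨e.inv.hom, by rw [← comp_hom, e.hom_inv_id, id_hom], by rw [← comp_hom, e.inv_hom_id, id_hom]⟩

variable {K L M : FilObj A} (f : L ⟶ K) (g : M ⟶ K)

/-- The fibre product in the category of filtered objects. -/
noncomputable abbrev pbObj : FilObj A where
  obj := pullback f.hom g.hom
  fil p := (Subobject.pullback (pullback.fst f.hom g.hom)).obj (L.fil p) ⊓
    (Subobject.pullback (pullback.snd f.hom g.hom)).obj (M.fil p)
  anti := fun _ _ h => inf_le_inf ((Subobject.pullback _).monotone (L.anti h))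
    ((Subobject.pullback _).monotone (M.anti h))

lemma pbObj_fil (p : ℤ) : (pbObj f g).fil p =
    (Subobject.pullback (pullback.fst f.hom g.hom)).obj (L.fil p) ⊓
      (Subobject.pullback (pullback.snd f.hom g.hom)).obj (M.fil p) := rfl

noncomputable def pbFst : pbObj f g ⟶ L :=
  ⟨pullback.fst f.hom g.hom, fun p => by rw [pbObj_fil]; exact inf_le_left⟩
noncomputable def pbSnd : pbObj f g ⟶ M :=
  ⟨pullback.snd f.hom g.hom, fun p => by rw [pbObj_fil]; exact inf_le_right⟩

lemma pb_condition : pbFst f g ≫ f = pbSnd f g ≫ g := FilObj.Hom.ext pullback.condition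

noncomputable def pbLift (s : PullbackCone f g) : s.pt ⟶ pbObj f g :=
  ⟨pullback.lift s.fst.hom s.snd.hom (congrArg FilObj.Hom.hom s.condition), fun p => by
    rw [pbObj_fil, Subobject.inf_pullback]
    refine le_inf ?_ ?_
    · rw [← Subobject.pullback_comp, pullback.lift_fst]
      exact s.fst.compat p
    · rw [← Subobject.pullback_comp, pullback.lift_snd]
      exact s.snd.compat p⟩

noncomputable def pbIsLimit : IsLimit (PullbackCone.mk _ _ (pb_condition f g)) :=
  PullbackCone.IsLimit.mk _ (pbLift f g)
    (fun s => FilObj.Hom.ext (pullback.lift_fst _ _ _))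
    (fun s => FilObj.Hom.ext (pullback.lift_snd _ _ _))
    (fun s m h1 h2 => FilObj.Hom.ext (by
      apply pullback.hom_ext
      · exact (congrArg FilObj.Hom.hom h1).trans (pullback.lift_fst _ _ _).symm
      · exact (congrArg FilObj.Hom.hom h2).trans (pullback.lift_snd _ _ _).symm))

lemma pb_isPullback : IsPullback (pbFst f g) (pbSnd f g) f g :=
  ⟨⟨pb_condition f g⟩, ⟨pbIsLimit f g⟩⟩

lemma isStrict_iso_comp {P P₀ N : FilObj A} (e : P ≅ P₀) (f₀ : P₀ ⟶ N) (h : IsStrict f₀) :
    IsStrict (e.hom ≫ f₀) := by
  intro p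
  have h1 : imageSubobject ((P.fil p).arrow ≫ (e.hom ≫ f₀).hom) =
      imageSubobject ((P₀.fil p).arrow ≫ f₀.hom) := by
    apply le_antisymm
    · rw [image_le_iff, comp_hom, Subobject.pullback_comp, fil_eq_pullback_of_iso e p]
      exact (Subobject.pullback e.hom.hom).monotone ((image_le_iff _ _ _).1 le_rfl)
    · rw [image_le_iff, fil_eq_pullback_of_iso e.symm p]
      have h2 := (Subobject.pullback e.inv.hom).monotone
        ((image_le_iff (P.fil p) (e.hom ≫ f₀).hom _).1 le_rfl)
      rw [← Subobject.pullback_comp, comp_hom, ← Category.assoc, ← comp_hom, e.inv_hom_id, id_hom,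
        Category.id_comp] at h2
      exact h2
  have h2 : imageSubobject (e.hom ≫ f₀).hom = imageSubobject f₀.hom :=
    imageSubobject_iso_comp e.hom.hom f₀.hom
  rw [h1, h2]
  exact h p

lemma pbSnd_strict (hf : IsStrict f) : IsStrict (pbSnd f g) := by
  intro p
  apply le_antisymm
  · refine le_inf (imageSubobject_comp_le _ _) ?_
    rw [image_le_iff]
    exact (pbSnd f g).compat p
  · rw [le_iff_forall_factors]
    intro T x hx
    rw [Subobject.inf_factors, imageSubobject_factors_iff] at hx
    obtain ⟨⟨T₁, π₁, hπ₁, y, hy⟩, hx2⟩ := hx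
    change π₁ ≫ x = y ≫ pullback.snd f.hom g.hom at hy
    have h1 : (imageSubobject f.hom ⊓ K.fil p).Factors
        ((y ≫ pullback.fst f.hom g.hom) ≫ f.hom) := by
      rw [Subobject.inf_factors]
      refine ⟨imageSubobject_factors_comp_self _ _, ?_⟩
      have h3 : (K.fil p).Factors ((π₁ ≫ x) ≫ g.hom) :=
        (Groth.Agent.Lib.Helper33.pullback_factors_iff g.hom (K.fil p) (π₁ ≫ x)).1
          (Subobject.factors_of_le _ (g.compat p) (Subobject.factors_of_factors_right _ hx2))
      rw [Category.assoc, pullback.condition, ← Category.assoc, ← hy]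
      exact h3
    rw [← hf p, imageSubobject_factors_iff] at h1
    obtain ⟨T₂, π₂, hπ₂, l', hl'⟩ := h1
    apply factors_of_epi_comp _ (π₂ ≫ π₁)
    have hc : (l' ≫ (L.fil p).arrow) ≫ f.hom = (π₂ ≫ π₁ ≫ x) ≫ g.hom := by
      rw [Category.assoc, ← hl', hy]
      simp only [Category.assoc, pullback.condition]
    have hw : ((pbObj f g).fil p).Factors (pullback.lift _ _ hc) := by
      rw [pbObj_fil, Subobject.inf_factors, Groth.Agent.Lib.Helper33.pullback_factors_iff,
        Groth.Agent.Lib.Helper33.pullback_factors_iff, pullback.lift_fst, pullback.lift_snd]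
      exact ⟨Subobject.factors_comp_arrow _, Subobject.factors_of_factors_right _
        (Subobject.factors_of_factors_right _ hx2)⟩
    have : (π₂ ≫ π₁) ≫ x = (((pbObj f g).fil p).factorThru _ hw) ≫
        ((pbObj f g).fil p).arrow ≫ (pbSnd f g).hom := by
      rw [← Category.assoc, Subobject.factorThru_arrow]
      exact ((pullback.lift_snd _ _ hc).trans (Category.assoc _ _ _).symm).symm
    rw [this]
    exact imageSubobject_factors_comp_self _ _

end Helpers

/-- Fibre products exist in the category of filtered objects of an abelian category, and the base change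
of a strict morphism is strict. -/
theorem result {A : Type u} [Category.{v} A] [Abelian A] {K L M : SpSeq.FilObj A} (f : L ⟶ K) (g : M ⟶ K) : HasPullback f g ∧ ∀ (P : SpSeq.FilObj A) (g' : P ⟶ L) (f' : P ⟶ M), IsPullback g' f' f g → SpSeq.FilObj.IsStrict f → SpSeq.FilObj.IsStrict f' := by
  refine ⟨(pb_isPullback f g).hasPullback, fun P g' f' h hf => ?_⟩
  have := isStrict_iso_comp (h.isoIsPullback _ _ (pb_isPullback f g)) (pbSnd f g) (pbSnd_strict f g hf)
  rwa [h.isoIsPullback_hom_snd] at this

end Groth.Agent.S6804
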