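import Groth.Statements.S6803
import Groth.Agent.S6804
import Groth.Agent.Lib.Helper33.SubobjectElem
import Mathlib.CategoryTheory.Abelian.CommSq
import Mathlib.CategoryTheory.Abelian.Refinements

set_option autoImplicit false
open CategoryTheory CategoryTheory.Limits
universe v u
open SpSeq SpSeq.FilObj

namespace Groth.Agent.S6803

section Helpers

open Groth.Agent.Lib.Helper33 Groth.Agent.S6804

variable {A : Type u} [Category.{v} A] [Abelian A]

lemma pushout_exact_elem {X₁ X₂ X₃ : A} (t : X₁ ⟶ X₂) (l : X₁ ⟶ X₃) {T : A} (a : T ⟶ X₂)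
    (b : T ⟶ X₃) (h : a ≫ pushout.inl t l = b ≫ pushout.inr t l) :
    ∃ (T' : A) (π : T' ⟶ T) (_ : Epi π) (k : T' ⟶ X₁), π ≫ a = k ≫ t ∧ π ≫ b = k ≫ l := by
  have hpo := IsPushout.of_hasPushout t l
  have hex := hpo.exact_shortComplex
  have hz' : (biprod.lift a (-b) : T ⟶ X₂ ⊞ X₃) ≫
      biprod.desc (pushout.inl t l) (pushout.inr t l) = 0 := by
    rw [biprod.lift_desc, Preadditive.neg_comp, h, add_neg_cancel]
  have hz : (biprod.lift a (-b) : T ⟶ hpo.shortComplex.X₂) ≫ hpo.shortComplex.g = 0 := hz'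
  obtain ⟨T', π, hπ, k, hk⟩ : ∃ (T' : A) (π : T' ⟶ T) (_ : Epi π) (k : T' ⟶ X₁),
      π ≫ (biprod.lift a (-b) : T ⟶ X₂ ⊞ X₃) = k ≫ (biprod.lift t (-l) : X₁ ⟶ X₂ ⊞ X₃) :=
    hex.exact_up_to_refinements _ hz
  refine ⟨T', π, hπ, k, ?_, ?_⟩
  · have := congrArg (fun z => z ≫ biprod.fst) hk
    simpa using this
  · have := congrArg (fun z => z ≫ biprod.snd) hk
    simpa using this

lemma sup_image_factors {X₁ X₂ Y T : A} (u : X₁ ⟶ Y) (v : X₂ ⟶ Y) (x : T ⟶ Y)
    (hx : (imageSubobject u ⊔ imageSubobject v).Factors x) :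
    ∃ (T' : A) (π : T' ⟶ T) (_ : Epi π) (a : T' ⟶ X₁) (b : T' ⟶ X₂),
      π ≫ x = a ≫ u + b ≫ v := by
  have hle : imageSubobject u ⊔ imageSubobject v ≤ imageSubobject (biprod.desc u v) := by
    apply sup_le
    · have : u = biprod.inl ≫ biprod.desc u v := by simp
      conv_lhs => rw [this]
      exact imageSubobject_comp_le _ _
    · have : v = biprod.inr ≫ biprod.desc u v := by simp
      conv_lhs => rw [this]
      exact imageSubobject_comp_le _ _
  obtain ⟨T', π, hπ, y, hy⟩ := (imageSubobject_factors_iff _ x).1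
    (Subobject.factors_of_le x hle hx)
  refine ⟨T', π, hπ, y ≫ biprod.fst, y ≫ biprod.snd, ?_⟩
  rw [hy]
  have : biprod.desc u v = biprod.fst ≫ u + biprod.snd ≫ v := by
    ext <;> simp
  rw [this, Preadditive.comp_add, Category.assoc, Category.assoc]

lemma factors_image_of_factors {X Y T : A} (S : Subobject X) (h : X ⟶ Y) (y : T ⟶ X)
    (hy : S.Factors y) : (imageSubobject (S.arrow ≫ h)).Factors (y ≫ h) := by
  have : y ≫ h = S.factorThru y hy ≫ S.arrow ≫ h := by
    rw [← Category.assoc, Subobject.factorThru_arrow]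
  rw [this]
  exact imageSubobject_factors_comp_self _ _

lemma image_comp_iso {W X Y : A} (u : W ⟶ X) (φ : X ⟶ Y) (ψ : Y ⟶ X) (h1 : φ ≫ ψ = 𝟙 X)
    (h2 : ψ ≫ φ = 𝟙 Y) :
    imageSubobject (u ≫ φ) = (Subobject.pullback ψ).obj (imageSubobject u) := by
  apply le_antisymm
  · rw [le_iff_forall_factors]
    intro T x hx
    rw [imageSubobject_factors_iff] at hx
    obtain ⟨T', π, hπ, y, hy⟩ := hx
    rw [Groth.Agent.Lib.Helper33.pullback_factors_iff]
    apply factors_of_epi_comp _ π
    rw [← Category.assoc, hy, Category.assoc, Category.assoc, h1, Category.comp_id]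
    exact imageSubobject_factors_comp_self _ _
  · rw [le_iff_forall_factors]
    intro T x hx
    rw [Groth.Agent.Lib.Helper33.pullback_factors_iff, imageSubobject_factors_iff] at hx
    obtain ⟨T', π, hπ, y, hy⟩ := hx
    apply factors_of_epi_comp _ π
    have : π ≫ x = y ≫ u ≫ φ := by
      rw [← Category.assoc y, ← hy, Category.assoc, Category.assoc, h2, Category.comp_id]
    rw [this]
    exact imageSubobject_factors_comp_self _ _

lemma image_comp_iso' {W X Y : A} (u : W ⟶ X) (φ : X ⟶ Y) (ψ : Y ⟶ X) (h1 : φ ≫ ψ = 𝟙 X)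
    (h2 : ψ ≫ φ = 𝟙 Y) (w : W ⟶ Y) (hw : w = u ≫ φ) :
    imageSubobject w = (Subobject.pullback ψ).obj (imageSubobject u) := by
  subst hw
  exact image_comp_iso u φ ψ h1 h2

lemma isStrict_comp_iso {N P₀ P : FilObj A} (f₀ : N ⟶ P₀) (e : P₀ ≅ P) (h : IsStrict f₀) :
    IsStrict (f₀ ≫ e.hom) := by
  intro p
  have h1 : e.hom.hom ≫ e.inv.hom = 𝟙 _ := by rw [← comp_hom, e.hom_inv_id, id_hom]
  have h2 : e.inv.hom ≫ e.hom.hom = 𝟙 _ := by rw [← comp_hom, e.inv_hom_id, id_hom]
  change imageSubobject ((N.fil p).arrow ≫ f₀.hom ≫ e.hom.hom) =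
    imageSubobject (f₀.hom ≫ e.hom.hom) ⊓ P.fil p
  rw [image_comp_iso' ((N.fil p).arrow ≫ f₀.hom) _ _ h1 h2 _ (Category.assoc _ _ _).symm,
    image_comp_iso f₀.hom _ _ h1 h2, h p, Subobject.inf_pullback, fil_eq_pullback_of_iso e.symm p]
  rfl

variable {K L M : FilObj A} (f : K ⟶ L) (g : K ⟶ M)

/-- The pushout in the category of filtered objects. -/
noncomputable abbrev poObj : FilObj A where
  obj := pushout f.hom g.hom
  fil p := imageSubobject ((L.fil p).arrow ≫ pushout.inl f.hom g.hom) ⊔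
    imageSubobject ((M.fil p).arrow ≫ pushout.inr f.hom g.hom)
  anti := fun _ _ h => sup_le_sup
    ((image_le_iff _ _ _).2 ((L.anti h).trans ((image_le_iff _ _ _).1 le_rfl)))
    ((image_le_iff _ _ _).2 ((M.anti h).trans ((image_le_iff _ _ _).1 le_rfl)))

lemma poObj_fil (p : ℤ) : (poObj f g).fil p =
    imageSubobject ((L.fil p).arrow ≫ pushout.inl f.hom g.hom) ⊔
      imageSubobject ((M.fil p).arrow ≫ pushout.inr f.hom g.hom) := rfl

noncomputable def poInl : L ⟶ poObj f g :=
  ⟨pushout.inl f.hom g.hom, fun p => by rw [← image_le_iff, poObj_fil]; exact le_sup_left⟩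
noncomputable def poInr : M ⟶ poObj f g :=
  ⟨pushout.inr f.hom g.hom, fun p => by rw [← image_le_iff, poObj_fil]; exact le_sup_right⟩

lemma po_condition : f ≫ poInl f g = g ≫ poInr f g := FilObj.Hom.ext pushout.condition

noncomputable def poDesc (s : PushoutCocone f g) : poObj f g ⟶ s.pt :=
  ⟨pushout.desc s.inl.hom s.inr.hom (congrArg FilObj.Hom.hom s.condition), fun p => by
    rw [poObj_fil]
    refine sup_le ?_ ?_
    · rw [image_le_iff, ← Subobject.pullback_comp, pushout.inl_desc]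
      exact s.inl.compat p
    · rw [image_le_iff, ← Subobject.pullback_comp, pushout.inr_desc]
      exact s.inr.compat p⟩

noncomputable def poIsColimit : IsColimit (PushoutCocone.mk _ _ (po_condition f g)) :=
  PushoutCocone.IsColimit.mk _ (poDesc f g)
    (fun s => FilObj.Hom.ext (pushout.inl_desc _ _ _))
    (fun s => FilObj.Hom.ext (pushout.inr_desc _ _ _))
    (fun s m h1 h2 => FilObj.Hom.ext (by
      apply pushout.hom_ext
      · exact (congrArg FilObj.Hom.hom h1).trans (pushout.inl_desc _ _ _).symm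
      · exact (congrArg FilObj.Hom.hom h2).trans (pushout.inr_desc _ _ _).symm))

lemma po_isPushout : IsPushout f g (poInl f g) (poInr f g) :=
  ⟨⟨po_condition f g⟩, ⟨poIsColimit f g⟩⟩

lemma poInr_strict (hf : IsStrict f) : IsStrict (poInr f g) := by
  intro p
  apply le_antisymm
  · refine le_inf (imageSubobject_comp_le _ _) ?_
    rw [image_le_iff]
    exact (poInr f g).compat p
  · rw [le_iff_forall_factors]
    intro T x hx
    rw [Subobject.inf_factors, imageSubobject_factors_iff] at hx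
    obtain ⟨⟨T₁, π₁, hπ₁, m, hm⟩, hx2⟩ := hx
    change π₁ ≫ x = m ≫ pushout.inr f.hom g.hom at hm
    rw [poObj_fil] at hx2
    obtain ⟨T₂, π₂, hπ₂, a, b, hab⟩ := sup_image_factors _ _ (π₁ ≫ x)
      (Subobject.factors_of_factors_right _ hx2)
    -- exactness of the pushout sequence
    have hz : (a ≫ (L.fil p).arrow) ≫ pushout.inl f.hom g.hom =
        (π₂ ≫ m - b ≫ (M.fil p).arrow) ≫ pushout.inr f.hom g.hom := by
      rw [Preadditive.sub_comp, Category.assoc π₂, ← hm, hab]
      simp only [Category.assoc]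
      abel
    obtain ⟨T₃, π₃, hπ₃, k, hk1', -⟩ := pushout_exact_elem _ _ _ _ hz
    have hk1 : π₃ ≫ a ≫ (L.fil p).arrow = k ≫ f.hom := hk1'
    -- strictness of `f`
    have h1 : (imageSubobject f.hom ⊓ L.fil p).Factors (k ≫ f.hom) := by
      rw [Subobject.inf_factors]
      refine ⟨imageSubobject_factors_comp_self _ _, ?_⟩
      rw [← hk1, ← Category.assoc]
      exact Subobject.factors_comp_arrow _
    rw [← hf p, imageSubobject_factors_iff] at h1
    obtain ⟨T₄, π₄, hπ₄, k', hk'⟩ := h1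
    apply factors_of_epi_comp _ (π₄ ≫ π₃ ≫ π₂ ≫ π₁)
    have key : (π₄ ≫ π₃ ≫ π₂ ≫ π₁) ≫ x =
        (k' ≫ (K.fil p).arrow ≫ g.hom) ≫ pushout.inr f.hom g.hom +
          (π₄ ≫ π₃ ≫ b) ≫ (M.fil p).arrow ≫ pushout.inr f.hom g.hom := by
      have e1 : (π₄ ≫ π₃ ≫ π₂ ≫ π₁) ≫ x = π₄ ≫ π₃ ≫ (π₂ ≫ π₁ ≫ x) := by
        simp only [Category.assoc]
      rw [e1, hab, Preadditive.comp_add, Preadditive.comp_add]
      congr 1
      · simp only [Category.assoc]
        rw [reassoc_of% hk1, reassoc_of% hk', pushout.condition]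
      · simp only [Category.assoc]
    rw [key]
    apply Subobject.factors_add
    · apply factors_image_of_factors
      rw [← Category.assoc, ← Groth.Agent.Lib.Helper33.pullback_factors_iff]
      exact Subobject.factors_of_le _ (g.compat p) (Subobject.factors_comp_arrow _)
    · exact imageSubobject_factors_comp_self _ _

end Helpers

/-- Pushouts exist in the category of filtered objects of an abelian category, and the pushout of a
strict morphism is strict. -/
theorem result {A : Type u} [Category.{v} A] [Abelian A] {K L M : SpSeq.FilObj A} (f : K ⟶ L) (g : K ⟶ M) : HasPushout f g ∧ ∀ (P : SpSeq.FilObj A) (g' : L ⟶ P) (f' : M ⟶ P), IsPushout f g g' f' → SpSeq.FilObj.IsStrict f → SpSeq.FilObj.IsStrict f' := by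
  refine ⟨(po_isPushout f g).hasPushout, fun P g' f' h hf => ?_⟩
  have := isStrict_comp_iso (poInr f g) ((po_isPushout f g).isoIsPushout _ _ h) (poInr_strict f g hf)
  rwa [IsPushout.inr_isoIsPushout_hom] at this

end Groth.Agent.S6803
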