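import Groth.Statements.S6805
import Mathlib.CategoryTheory.Functor.KanExtension.Pointwise
import Mathlib.CategoryTheory.Limits.Types.Colimits

set_option autoImplicit false
open CategoryTheory
universe u
open SSet

namespace Groth.Agent.S6805

open Opposite Functor Simplicial in
/-- The simplicial set freely generated by an `m`-truncated simplicial set (its image under the left
adjoint of `m`-truncation) has only degenerate simplices above dimension `m`. -/
theorem result (m : ℕ) (U : SSet.Truncated.{u} m) : ((SSet.Truncated.sk m).obj U).HasDimensionLT (m + 1) := by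
  have hpw : (SimplexCategory.Truncated.inclusion m).op.HasPointwiseLeftKanExtension U :=
    fun Y => inferInstance
  have hP := Functor.isPointwiseLeftKanExtensionOfIsLeftKanExtension
    ((SimplexCategory.Truncated.inclusion m).op.leftKanExtension U)
    ((SimplexCategory.Truncated.inclusion m).op.leftKanExtensionUnit U)
  constructor
  intro n hn
  ext x
  simp only [Set.top_eq_univ, Set.mem_univ, iff_true]
  obtain ⟨g, y, hy⟩ := Limits.Types.jointly_surjective _ (hP (op ⦋n⦌)) x
  rcases g with ⟨⟨⟨l, hl⟩⟩, ⟨⟨⟩⟩, a⟩
  subst hy
  refine ⟨l.len, by omega, a.unop, ?_⟩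
  refine ⟨((SimplexCategory.Truncated.inclusion m).op.leftKanExtensionUnit U).app
    (op ⟨l, hl⟩) y, ?_⟩
  rfl

end Groth.Agent.S6805
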