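import Groth.Statements.S6806
import Groth.Agent.Lib.Helper33.TruncFinite
import Mathlib.AlgebraicTopology.DoldKan.Normalized
import Mathlib.AlgebraicTopology.DoldKan.Degeneracies

set_option autoImplicit false
open CategoryTheory CategoryTheory.Limits
universe v u
open CategoryTheory CategoryTheory.Abelian

namespace Groth.Agent.S6806

open Opposite Functor Simplicial AlgebraicTopology AlgebraicTopology.DoldKan in
/-- For an `m`-truncated simplicial object `U` of an abelian category, the normalized Moore complex of
its free extension `i_{m!} U` (left adjoint of truncation) is zero in every degree `n > m`. Here the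
normalized complex in degree `n` is the intersection of the kernels of the faces `d_1, …, d_n`; the
published statement intersects the kernels of `d_0, …, d_{n-1}` instead, and the two versions
correspond under reversal of the ordering of each `[n]`, so both vanish. -/
theorem result {A : Type u} [Category.{v} A] [Abelian A] (m : ℕ) [∀ F : (SimplexCategory.Truncated m)ᵒᵖ ⥤ A, (SimplexCategory.Truncated.inclusion m).op.HasLeftKanExtension F] (U : SimplicialObject.Truncated A m) (n : ℕ) (hn : m < n) : AlgebraicTopology.NormalizedMooreComplex.objX ((SimplicialObject.Truncated.sk m).obj U) n = ⊥ := by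
  have hpw := Groth.Agent.Lib.Helper33.hasPointwiseLeftKanExtension_inclusion_op m U
  have hP := Functor.isPointwiseLeftKanExtensionOfIsLeftKanExtension
    ((SimplexCategory.Truncated.inclusion m).op.leftKanExtension U)
    ((SimplexCategory.Truncated.inclusion m).op.leftKanExtensionUnit U)
  set X : SimplicialObject A := (SimplicialObject.Truncated.sk m).obj U with hX
  -- `PInfty` vanishes in degree `n`
  have hPI : (PInfty (X := X)).f n = 0 := by
    apply (hP (op ⦋n⦌)).hom_ext
    intro g
    rcases g with ⟨⟨⟨l, hl⟩⟩, ⟨⟨⟩⟩, a⟩
    have hmono : ¬ Mono a.unop := by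
      intro h
      have h' : n ≤ l.len := SimplexCategory.len_le_of_mono a.unop
      omega
    let u : U.obj (op ⟨l, hl⟩) ⟶ X.obj (op l) :=
      ((SimplexCategory.Truncated.inclusion m).op.leftKanExtensionUnit U).app (op ⟨l, hl⟩)
    let Xa : X.obj (op l) ⟶ X.obj (op ⦋n⦌) := X.map a.unop.op
    let P : X.obj (op ⦋n⦌) ⟶ X.obj (op ⦋n⦌) := (PInfty (X := X)).f n
    have h0 : Xa ≫ P = 0 := degeneracy_comp_PInfty X n a.unop hmono
    change (u ≫ Xa) ≫ P = (u ≫ Xa) ≫ 0
    rw [Category.assoc, h0, comp_zero, comp_zero]
  have hincl := congrArg (fun φ => φ.f n) (inclusionOfMooreComplexMap_comp_PInfty X)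
  simp only [HomologicalComplex.comp_f, hPI, inclusionOfMooreComplexMap_f] at hincl
  rw [← Subobject.mk_arrow (NormalizedMooreComplex.objX X n), Subobject.mk_eq_bot_iff_zero]
  exact hincl.symm.trans comp_zero

end Groth.Agent.S6806
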