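import Groth.Statements.S6808

set_option autoImplicit false
open CategoryTheory Opposite
universe u
open SSet

namespace Groth.Agent.S6808

/-- A map of simplicial sets preserving non-degeneracy of simplices and injective on non-degenerate
simplices is injective in every dimension. -/
theorem result {U V : SSet.{u}} (f : U ⟶ V) (ha : ∀ (n : ℕ) (x : U.obj (op (SimplexCategory.mk n))), x ∈ U.nonDegenerate n → f.app (op (SimplexCategory.mk n)) x ∈ V.nonDegenerate n) (hb : ∀ n : ℕ, Set.InjOn (f.app (op (SimplexCategory.mk n))) (U.nonDegenerate n)) (n : ℕ) : Function.Injective (f.app (op (SimplexCategory.mk n))) := by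
  intro x₁ x₂ h
  obtain ⟨m₁, σ₁, hσ₁, y₁, rfl⟩ := U.exists_nonDegenerate x₁
  obtain ⟨m₂, σ₂, hσ₂, y₂, rfl⟩ := U.exists_nonDegenerate x₂
  have e₁ : f.app _ (U.map σ₁.op y₁) = V.map σ₁.op (f.app _ y₁.1) :=
    NatTrans.naturality_apply f σ₁.op y₁.1
  have e₂ : f.app _ (U.map σ₂.op y₂) = V.map σ₂.op (f.app _ y₂.1) :=
    NatTrans.naturality_apply f σ₂.op y₂.1
  have hm : m₁ = m₂ :=
    V.unique_nonDegenerate_dim (f.app _ (U.map σ₁.op y₁)) σ₁ ⟨_, ha _ _ y₁.2⟩ e₁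
      σ₂ ⟨_, ha _ _ y₂.2⟩ (h.trans e₂)
  subst hm
  have hy : (⟨f.app _ y₁.1, ha _ _ y₁.2⟩ : V.nonDegenerate m₁) = ⟨f.app _ y₂.1, ha _ _ y₂.2⟩ :=
    V.unique_nonDegenerate_simplex (f.app _ (U.map σ₁.op y₁)) σ₁ ⟨_, ha _ _ y₁.2⟩ e₁
      σ₂ ⟨_, ha _ _ y₂.2⟩ (h.trans e₂)
  have hσ : σ₁ = σ₂ :=
    V.unique_nonDegenerate_map (f.app _ (U.map σ₁.op y₁)) σ₁ ⟨_, ha _ _ y₁.2⟩ e₁
      σ₂ ⟨_, ha _ _ y₂.2⟩ (h.trans e₂)
  subst hσ
  have : y₁.1 = y₂.1 := hb _ y₁.2 y₂.2 (congrArg Subtype.val hy)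
  rw [this]

end Groth.Agent.S6808
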