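import Groth.Statements.S6811
import Groth.Agent.Lib.Helper33.TruncFinite

set_option autoImplicit false
open CategoryTheory CategoryTheory.Limits
universe v u
open CategoryTheory CategoryTheory.SimplicialObject

namespace Groth.Agent.S6811

open Opposite Functor in
/-- In a category with finite limits, an `n`-coskeletal simplicial object is `m`-coskeletal for every `m
≥ n`. -/
theorem result {C : Type u} [Category.{v} C] [HasFiniteLimits C] (U : SimplicialObject C) {n m : ℕ} (h : n ≤ m) [U.IsCoskeletal n] : U.IsCoskeletal m := by
  have hpw := Groth.Agent.Lib.Helper33.hasPointwiseRightKanExtension_inclusion_op n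
    ((SimplexCategory.Truncated.inclusion n).op ⋙ U)
  have hP : (RightExtension.mk U
      (𝟙 ((SimplexCategory.Truncated.inclusion n).op ⋙ U))).IsPointwiseRightKanExtension :=
    Functor.isPointwiseRightKanExtensionOfIsRightKanExtension U (𝟙 _)
  -- the restriction of a transformation to the `n`-truncation
  let β' : ∀ (G : RightExtension (SimplexCategory.Truncated.inclusion m).op
      ((SimplexCategory.Truncated.inclusion m).op ⋙ U)),
      (SimplexCategory.Truncated.inclusion n).op ⋙ G.left ⟶
        (SimplexCategory.Truncated.inclusion n).op ⋙ U := fun G =>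
    { app := fun X => G.hom.app (op ((SimplexCategory.Truncated.incl n m h).obj X.unop))
      naturality := fun X Y f => G.hom.naturality ((SimplexCategory.Truncated.incl n m h).map f.unop).op }
  let γ : ∀ (G : RightExtension (SimplexCategory.Truncated.inclusion m).op
      ((SimplexCategory.Truncated.inclusion m).op ⋙ U)), G.left ⟶ U := fun G =>
    U.liftOfIsRightKanExtension (𝟙 ((SimplexCategory.Truncated.inclusion n).op ⋙ U)) G.left (β' G)
  have hγ : ∀ G (X : (SimplexCategory.Truncated n)ᵒᵖ),
      (γ G).app ((SimplexCategory.Truncated.inclusion n).op.obj X) = (β' G).app X := by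
    intro G X
    have := U.liftOfIsRightKanExtension_fac_app
      (𝟙 ((SimplexCategory.Truncated.inclusion n).op ⋙ U)) G.left (β' G) X
    simpa using this
  have hγm : ∀ G (X : (SimplexCategory.Truncated m)ᵒᵖ),
      (γ G).app ((SimplexCategory.Truncated.inclusion m).op.obj X) = G.hom.app X := by
    intro G X
    apply (hP ((SimplexCategory.Truncated.inclusion m).op.obj X)).hom_ext'
    intro X' φ
    change (γ G).app _ ≫ U.map φ ≫ 𝟙 _ = G.hom.app X ≫ U.map φ ≫ 𝟙 _
    rw [Category.comp_id, ← (γ G).naturality φ, hγ G X']
    let φ' : X ⟶ op ((SimplexCategory.Truncated.incl n m h).obj X'.unop) :=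
      (ObjectProperty.homMk φ.unop : (SimplexCategory.Truncated.incl n m h).obj X'.unop ⟶ X.unop).op
    exact (G.hom.naturality φ')
  constructor
  refine ⟨⟨IsTerminal.ofUniqueHom (fun G => CostructuredArrow.homMk (γ G) ?_) ?_⟩⟩
  · ext X
    change (γ G).app _ ≫ 𝟙 _ = G.hom.app X
    rw [Category.comp_id]
    exact hγm G X
  · intro G k
    have hk : ∀ X : (SimplexCategory.Truncated m)ᵒᵖ,
        k.left.app ((SimplexCategory.Truncated.inclusion m).op.obj X) = G.hom.app X := by
      intro X
      have := congr_app (CostructuredArrow.w k) X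
      change k.left.app _ ≫ 𝟙 _ = G.hom.app X at this
      rwa [Category.comp_id] at this
    have hkγ : k.left = γ G := by
      apply U.hom_ext_of_isRightKanExtension (𝟙 ((SimplexCategory.Truncated.inclusion n).op ⋙ U))
      ext X'
      change k.left.app _ ≫ 𝟙 _ = (γ G).app ((SimplexCategory.Truncated.inclusion n).op.obj X') ≫ 𝟙 _
      rw [Category.comp_id, Category.comp_id, hγ G X']
      exact hk (op ((SimplexCategory.Truncated.incl n m h).obj X'.unop))
    exact CostructuredArrow.hom_ext _ _ hkγ

end Groth.Agent.S6811
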