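import Groth.Statements.S6812
import Groth.Agent.S6808
import Mathlib.CategoryTheory.Functor.KanExtension.Pointwise
import Mathlib.CategoryTheory.Limits.Types.Colimits

set_option autoImplicit false
open CategoryTheory
universe u
open SSet

namespace Groth.Agent.S6812

open Opposite Functor Simplicial

/-- Simplices of the free simplicial set on a truncated simplicial set come from low dimensions. -/
theorem exists_rep (n : ℕ) (T : SSet.Truncated.{u} n) (k : ℕ)
    (x : ((SSet.Truncated.sk n).obj T) _⦋k⦌) :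
    ∃ (l : SimplexCategory) (hl : l.len ≤ n) (a : ⦋k⦌ ⟶ l) (y : T.obj (op ⟨l, hl⟩)),
      x = ((SSet.Truncated.sk n).obj T).map a.op (((SSet.skAdj n).unit.app T).app (op ⟨l, hl⟩) y) := by
  have hpw : (SimplexCategory.Truncated.inclusion n).op.HasPointwiseLeftKanExtension T :=
    fun Y => inferInstance
  have hunit : (SSet.skAdj n).unit.app T =
      (SimplexCategory.Truncated.inclusion n).op.leftKanExtensionUnit T := by
    change ((SimplexCategory.Truncated.inclusion n).op.lanAdjunction _).unit.app T = _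
    rw [lanAdjunction_unit]
    rfl
  have hP := Functor.isPointwiseLeftKanExtensionOfIsLeftKanExtension
    ((SimplexCategory.Truncated.inclusion n).op.leftKanExtension T)
    ((SimplexCategory.Truncated.inclusion n).op.leftKanExtensionUnit T)
  obtain ⟨g, y, hy⟩ := Limits.Types.jointly_surjective _ (hP (op ⦋k⦌)) x
  rcases g with ⟨⟨⟨l, hl⟩⟩, ⟨⟨⟩⟩, a⟩
  subst hy
  refine ⟨l, hl, a.unop, y, ?_⟩
  rw [hunit]
  rfl

/-- For a simplicial set `U`, the counit `i_{n!} sk_n U ⟶ U` of the skeleton adjunction is a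
monomorphism whose image is the subcomplex of `U` generated by its simplices of dimension `≤ n`. -/
theorem result (U : SSet.{u}) (n : ℕ) : Mono ((SSet.skAdj n).counit.app U) ∧ SSet.Subcomplex.range ((SSet.skAdj n).counit.app U) = U.skeleton (n + 1) := by
  set T : SSet.Truncated n := (SSet.truncation n).obj U with hT
  set S : SSet := (SSet.Truncated.sk n).obj T with hS
  set ε : S ⟶ U := (SSet.skAdj n).counit.app U with hε
  set η : T ⟶ (SSet.truncation n).obj S := (SSet.skAdj n).unit.app T with hη
  have htri : η ≫ (SSet.truncation n).map ε = 𝟙 T := (SSet.skAdj n).right_triangle_components U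
  -- `ε ∘ η = id` in low degrees
  have hF2 : ∀ (l : SimplexCategory) (hl : l.len ≤ n) (y : U.obj (op l)),
      ε.app (op l) (η.app (op ⟨l, hl⟩) y) = y := by
    intro l hl y
    have := congr_app htri (op ⟨l, hl⟩)
    exact ConcreteCategory.congr_hom this y
  -- `η` is surjective in low degrees
  have hηiso : IsIso η := by
    have : IsIso (SSet.skAdj.{u} n).unit := inferInstance
    exact inferInstanceAs (IsIso ((SSet.skAdj n).unit.app T))
  have hF3 : ∀ (l : SimplexCategory) (hl : l.len ≤ n) (s : S.obj (op l)),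
      ∃ y : U.obj (op l), η.app (op ⟨l, hl⟩) y = s := by
    intro l hl s
    refine ⟨(inv η).app (op ⟨l, hl⟩) s, ?_⟩
    have : (inv η) ≫ η = 𝟙 _ := IsIso.inv_hom_id η
    exact ConcreteCategory.congr_hom (congr_app this (op ⟨l, hl⟩)) s
  -- `ε` is injective in low degrees
  have hinj : ∀ (l : SimplexCategory) (hl : l.len ≤ n), Function.Injective (ε.app (op l)) := by
    intro l hl s₁ s₂ h
    obtain ⟨y₁, rfl⟩ := hF3 l hl s₁
    obtain ⟨y₂, rfl⟩ := hF3 l hl s₂
    rw [hF2, hF2] at h
    rw [h]
  -- `ε` is surjective in low degrees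
  have hsurj : ∀ (l : SimplexCategory) (hl : l.len ≤ n) (y : U.obj (op l)),
      ∃ s : S.obj (op l), ε.app (op l) s = y := fun l hl y => ⟨_, hF2 l hl y⟩
  -- nondegenerate simplices of `S` live in low degrees
  have hdim : ∀ (k : ℕ) (x : S _⦋k⦌), x ∈ S.nonDegenerate k → k ≤ n := by
    intro k x hx
    by_contra hk
    obtain ⟨l, hl, a, y, rfl⟩ := exists_rep n T k x
    apply hx
    exact ⟨l.len, by omega, a, ⟨_, rfl⟩⟩
  refine ⟨?_, ?_⟩
  · -- monomorphism
    rw [NatTrans.mono_iff_mono_app]
    intro Δ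
    rw [mono_iff_injective]
    induction Δ using Opposite.rec with | _ Δ
    induction Δ using SimplexCategory.rec with | _ k
    refine Groth.Agent.S6808.result ε ?_ ?_ k
    · intro k x hx
      have hk := hdim k x hx
      intro hdeg
      obtain ⟨j, hj, f, z, hz⟩ := hdeg
      obtain ⟨z', rfl⟩ := hsurj ⦋j⦌ (by change j ≤ n; omega) z
      apply hx
      refine ⟨j, hj, f, ⟨z', ?_⟩⟩
      apply hinj ⦋k⦌ (by simpa using hk)
      rw [← hz]
      exact NatTrans.naturality_apply ε f.op z'
    · intro k x₁ hx₁ x₂ hx₂ h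
      exact hinj ⦋k⦌ (by simpa using hdim k x₁ hx₁) h
  · -- the range
    apply le_antisymm
    · rintro ⟨Δ⟩ u hu
      induction Δ using SimplexCategory.rec with | _ k
      simp only [Subfunctor.range_obj, Set.mem_range] at hu
      obtain ⟨x, rfl⟩ := hu
      obtain ⟨l, hl, a, y, rfl⟩ := exists_rep n T k x
      have h1 : ε.app (op ⦋k⦌) (S.map a.op (η.app (op ⟨l, hl⟩) y)) = U.map a.op y :=
        (NatTrans.naturality_apply ε a.op _).trans (congrArg (U.map a.op) (hF2 l hl y))
      rw [h1]
      have h2 : Subcomplex.ofSimplex (X := U) (n := l.len) y ≤ U.skeleton (n + 1) :=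
        U.ofSimplex_le_skeleton y (by omega)
      exact h2 _ ((Subcomplex.mem_ofSimplex_obj_iff (X := U) (n := l.len) y _).2 ⟨a, rfl⟩)
    · change ⨆ (i : Fin (n + 1)) (x : U.nonDegenerate i), Subcomplex.ofSimplex x.1 ≤ _
      refine iSup_le fun i => iSup_le fun x => ?_
      rw [Subcomplex.ofSimplex_le_iff]
      simp only [Subfunctor.range_obj, Set.mem_range]
      exact hsurj ⦋i⦌ (by change (i : ℕ) ≤ n; omega) x.1

end Groth.Agent.S6812
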