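import Groth.Statements.S6813
import Groth.Agent.Lib.Helper33.TruncFinite
import Mathlib.AlgebraicTopology.SimplexCategory.Truncated
import Mathlib.CategoryTheory.Limits.Constructions.Over.Basic
import Mathlib.CategoryTheory.Limits.Constructions.Over.Connected
import Mathlib.CategoryTheory.Functor.KanExtension.Preserves

set_option autoImplicit false
open CategoryTheory CategoryTheory.Limits
universe v u
open CategoryTheory CategoryTheory.SimplicialObject

namespace Groth.Agent.S6813

open Opposite Functor in
/-- For `k ≥ 1` the forgetful functor from the over category `C/X` to `C` (with `C` having finite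
limits) commutes with `cosk_k`; stated as: a `k`-coskeletal simplicial object of `C/X` has
`k`-coskeletal underlying simplicial object in `C`. -/
theorem result {C : Type u} [Category.{v} C] [HasFiniteLimits C] (X : C) (k : ℕ) (hk : 1 ≤ k) (V : SimplicialObject (Over X)) [V.IsCoskeletal k] : SimplicialObject.IsCoskeletal (V ⋙ Over.forget X) k := by
  have : NeZero k := ⟨by omega⟩
  have hpw := Groth.Agent.Lib.Helper33.hasPointwiseRightKanExtension_inclusion_op k
    ((SimplexCategory.Truncated.inclusion k).op ⋙ V)
  have hconn : ∀ c : SimplexCategoryᵒᵖ,
      IsConnected (StructuredArrow c (SimplexCategory.Truncated.inclusion k).op) := fun c =>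
    Functor.Final.out c
  have hpres : (Over.forget X).PreservesPointwiseRightKanExtension
      ((SimplexCategory.Truncated.inclusion k).op ⋙ V)
      (SimplexCategory.Truncated.inclusion k).op := fun c => by
    have := hconn c
    infer_instance
  have hR : (Over.forget X).PreservesRightKanExtension
      ((SimplexCategory.Truncated.inclusion k).op ⋙ V)
      (SimplexCategory.Truncated.inclusion k).op := inferInstance
  have := hR.preserves V (𝟙 ((SimplexCategory.Truncated.inclusion k).op ⋙ V))
  constructor
  have heq : (𝟙 ((SimplexCategory.Truncated.inclusion k).op ⋙ V ⋙ Over.forget X)) =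
      (Functor.associator _ _ _).inv ≫
        whiskerRight (𝟙 ((SimplexCategory.Truncated.inclusion k).op ⋙ V)) (Over.forget X) := by
    ext c
    simp
  exact heq ▸ this

end Groth.Agent.S6813
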