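import Groth.Statements.S6815
import Mathlib.CategoryTheory.Limits.Preserves.Shapes.Products
import Mathlib.CategoryTheory.Limits.FunctorCategory.Basic

set_option autoImplicit false
open CategoryTheory CategoryTheory.Limits
universe w v u
open CategoryTheory CategoryTheory.SimplicialObject

namespace Groth.Agent.S6815

open Opposite Simplicial in
/-- evaluation of a product of simplicial objects is a product -/
noncomputable def evalIsLimit {C : Type u} [Category.{v} C] {T : Type w}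
    [HasLimitsOfShape (Discrete T) C] (Z : T → SimplicialObject C) (n : SimplexCategoryᵒᵖ) :
    IsLimit (Fan.mk ((∏ᶜ Z).obj n) (fun t => (Pi.π Z t).app n)) :=
  isLimitFanMkObjOfIsLimit ((evaluation SimplexCategoryᵒᵖ C).obj n) Z (Pi.π Z) (productIsProduct Z)

open Opposite Simplicial in
/-- the product homotopy -/
noncomputable def piHomotopy {C : Type u} [Category.{v} C] {T : Type w}
    [HasLimitsOfShape (Discrete T) C] {X Y : T → SimplicialObject C} (a b : ∀ t, X t ⟶ Y t)
    (H : ∀ t, SimplicialObject.Homotopy (a t) (b t)) :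
    SimplicialObject.Homotopy (Limits.Pi.map a) (Limits.Pi.map b) where
  h {n} i := Fan.IsLimit.lift (evalIsLimit Y (op ⦋n + 1⦌))
    (fun t => (Pi.π X t).app (op ⦋n⦌) ≫ (H t).h i)
  h_zero_comp_δ_zero n := by
    apply Fan.IsLimit.hom_ext (evalIsLimit Y _)
    intro t
    change (_ ≫ _) ≫ (Pi.π Y t).app _ = _ ≫ (Pi.π Y t).app _
    rw [Category.assoc, SimplicialObject.δ_naturality]
    have h1 := Fan.IsLimit.fac (evalIsLimit Y (op ⦋n + 1⦌))
      (fun t => (Pi.π X t).app (op ⦋n⦌) ≫ (H t).h 0) t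
    change _ ≫ (Pi.π Y t).app _ = _ at h1
    rw [← Category.assoc, h1, Category.assoc, (H t).h_zero_comp_δ_zero, ← NatTrans.comp_app,
      ← NatTrans.comp_app, Limits.Pi.map_π]
  h_last_comp_δ_last n := by
    apply Fan.IsLimit.hom_ext (evalIsLimit Y _)
    intro t
    change (_ ≫ _) ≫ (Pi.π Y t).app _ = _ ≫ (Pi.π Y t).app _
    rw [Category.assoc, SimplicialObject.δ_naturality]
    have h1 := Fan.IsLimit.fac (evalIsLimit Y (op ⦋n + 1⦌))
      (fun t => (Pi.π X t).app (op ⦋n⦌) ≫ (H t).h (Fin.last n)) t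
    change _ ≫ (Pi.π Y t).app _ = _ at h1
    rw [← Category.assoc, h1, Category.assoc, (H t).h_last_comp_δ_last, ← NatTrans.comp_app,
      ← NatTrans.comp_app, Limits.Pi.map_π]
  h_succ_comp_δ_castSucc_of_lt {n} i j hij := by
    apply Fan.IsLimit.hom_ext (evalIsLimit Y _)
    intro t
    change (_ ≫ _) ≫ (Pi.π Y t).app _ = (_ ≫ _) ≫ (Pi.π Y t).app _
    have h1 := Fan.IsLimit.fac (evalIsLimit Y (op ⦋n + 1 + 1⦌))
      (fun t => (Pi.π X t).app (op ⦋n + 1⦌) ≫ (H t).h j.succ) t
    have h2 := Fan.IsLimit.fac (evalIsLimit Y (op ⦋n + 1⦌))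
      (fun t => (Pi.π X t).app (op ⦋n⦌) ≫ (H t).h j) t
    change _ ≫ (Pi.π Y t).app _ = _ at h1 h2
    rw [Category.assoc, SimplicialObject.δ_naturality, ← Category.assoc, h1, Category.assoc,
      (H t).h_succ_comp_δ_castSucc_of_lt i j hij, Category.assoc, h2, ← Category.assoc,
      ← Category.assoc, SimplicialObject.δ_naturality]
  h_succ_comp_δ_castSucc_succ {n} j := by
    apply Fan.IsLimit.hom_ext (evalIsLimit Y _)
    intro t
    change (_ ≫ _) ≫ (Pi.π Y t).app _ = (_ ≫ _) ≫ (Pi.π Y t).app _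
    have h1 := Fan.IsLimit.fac (evalIsLimit Y (op ⦋n + 1 + 1⦌))
      (fun t => (Pi.π X t).app (op ⦋n + 1⦌) ≫ (H t).h j.succ) t
    have h2 := Fan.IsLimit.fac (evalIsLimit Y (op ⦋n + 1 + 1⦌))
      (fun t => (Pi.π X t).app (op ⦋n + 1⦌) ≫ (H t).h j.castSucc) t
    change _ ≫ (Pi.π Y t).app _ = _ at h1 h2
    rw [Category.assoc, SimplicialObject.δ_naturality, ← Category.assoc, h1, Category.assoc,
      (H t).h_succ_comp_δ_castSucc_succ j, Category.assoc, SimplicialObject.δ_naturality]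
    conv_rhs => rw [← Category.assoc, h2, Category.assoc]
  h_castSucc_comp_δ_succ_of_lt {n} i j hji := by
    apply Fan.IsLimit.hom_ext (evalIsLimit Y _)
    intro t
    change (_ ≫ _) ≫ (Pi.π Y t).app _ = (_ ≫ _) ≫ (Pi.π Y t).app _
    have h1 := Fan.IsLimit.fac (evalIsLimit Y (op ⦋n + 1 + 1⦌))
      (fun t => (Pi.π X t).app (op ⦋n + 1⦌) ≫ (H t).h j.castSucc) t
    have h2 := Fan.IsLimit.fac (evalIsLimit Y (op ⦋n + 1⦌))
      (fun t => (Pi.π X t).app (op ⦋n⦌) ≫ (H t).h j) t
    change _ ≫ (Pi.π Y t).app _ = _ at h1 h2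
    rw [Category.assoc, SimplicialObject.δ_naturality, ← Category.assoc, h1, Category.assoc,
      (H t).h_castSucc_comp_δ_succ_of_lt i j hji, Category.assoc, h2, ← Category.assoc,
      ← Category.assoc, SimplicialObject.δ_naturality]
  h_comp_σ_castSucc_of_le {n} i j hij := by
    apply Fan.IsLimit.hom_ext (evalIsLimit Y _)
    intro t
    change (_ ≫ _) ≫ (Pi.π Y t).app _ = (_ ≫ _) ≫ (Pi.π Y t).app _
    have h1 := Fan.IsLimit.fac (evalIsLimit Y (op ⦋n + 1⦌))
      (fun t => (Pi.π X t).app (op ⦋n⦌) ≫ (H t).h j) t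
    have h2 := Fan.IsLimit.fac (evalIsLimit Y (op ⦋n + 1 + 1⦌))
      (fun t => (Pi.π X t).app (op ⦋n + 1⦌) ≫ (H t).h j.succ) t
    change _ ≫ (Pi.π Y t).app _ = _ at h1 h2
    rw [Category.assoc, SimplicialObject.σ_naturality, ← Category.assoc, h1, Category.assoc,
      (H t).h_comp_σ_castSucc_of_le i j hij, Category.assoc, h2, ← Category.assoc,
      ← Category.assoc, SimplicialObject.σ_naturality]
  h_comp_σ_succ_of_lt {n} i j hji := by
    apply Fan.IsLimit.hom_ext (evalIsLimit Y _)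
    intro t
    change (_ ≫ _) ≫ (Pi.π Y t).app _ = (_ ≫ _) ≫ (Pi.π Y t).app _
    have h1 := Fan.IsLimit.fac (evalIsLimit Y (op ⦋n + 1⦌))
      (fun t => (Pi.π X t).app (op ⦋n⦌) ≫ (H t).h j) t
    have h2 := Fan.IsLimit.fac (evalIsLimit Y (op ⦋n + 1 + 1⦌))
      (fun t => (Pi.π X t).app (op ⦋n + 1⦌) ≫ (H t).h j.castSucc) t
    change _ ≫ (Pi.π Y t).app _ = _ at h1 h2
    rw [Category.assoc, SimplicialObject.σ_naturality, ← Category.assoc, h1, Category.assoc,
      (H t).h_comp_σ_succ_of_lt i j hji, Category.assoc, h2, ← Category.assoc,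
      ← Category.assoc, SimplicialObject.σ_naturality]

/-- Homotopies between the factors of two product morphisms of simplicial objects assemble to a homotopy
between the products. -/
theorem result {C : Type u} [Category.{v} C] {T : Type w} [HasLimitsOfShape (Discrete T) C] {X Y : T → SimplicialObject C} (a b : ∀ t, X t ⟶ Y t) (h : ∀ t, Nonempty (SimplicialObject.Homotopy (a t) (b t))) : Nonempty (SimplicialObject.Homotopy (Limits.Pi.map a) (Limits.Pi.map b)) := by
  exact ⟨piHomotopy a b (fun t => (h t).some)⟩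

end Groth.Agent.S6815
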