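import Groth.Statements.S6816

set_option autoImplicit false
open CategoryTheory CategoryTheory.Limits
universe v u
open CochainComplex

namespace Groth.Agent.S6816

open HomologicalComplex HomComplex Category Preadditive

set_option backward.defeqAttrib.useBackward true in
set_option backward.isDefEq.respectTransparency false in
theorem key {C : Type u} [Category.{v} C] [Preadditive C]
    (S : ShortComplex (CochainComplex C ℤ))
    (σ σ' : ∀ n : ℤ, (S.map (HomologicalComplex.eval C (ComplexShape.up ℤ) n)).Splitting) :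
    (cocycleOfDegreewiseSplit S σ).1 =
      δ 0 1 (Cochain.ofHoms (fun p => ((σ p).s - (σ' p).s) ≫ (σ p).r)) +
        (cocycleOfDegreewiseSplit S σ').1 := by
  ext p q hpq
  obtain rfl : q = p + 1 := by lia
  have := mono_of_mono_fac (σ (p + 1)).f_r
  have r_f := fun n => (σ n).r_f
  have s_g := fun n => (σ n).s_g
  have r_f' := fun n => (σ' n).r_f
  have s_g' := fun n => (σ' n).s_g
  dsimp at this r_f s_g r_f' s_g' ⊢
  rw [← cancel_mono (S.f.f (p + 1))]
  rw [δ_v 0 1 (by lia) _ p (p + 1) (by lia) p (p + 1) (by lia) (by lia)]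
  simp only [cocycleOfDegreewiseSplit, Cocycle.mk_coe, Cochain.mk_v, Cochain.ofHoms_v,
    Int.negOnePow_one, Units.neg_smul, one_smul, add_comp, neg_comp, sub_comp, comp_sub, assoc,
    r_f, r_f', comp_id, comp_sub]
  have hf : ∀ p q, S.X₁.d p q ≫ S.f.f q = S.f.f p ≫ S.X₂.d p q := fun p q => (S.f.comm p q).symm
  have hg : ∀ p q, S.X₂.d p q ≫ S.g.f q = S.g.f p ≫ S.X₃.d p q := fun p q => (S.g.comm p q).symm
  simp only [hf, reassoc_of% hg, reassoc_of% r_f, reassoc_of% s_g, reassoc_of% s_g', sub_comp,
    comp_sub, assoc, id_comp]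
  abel

set_option backward.defeqAttrib.useBackward true in
set_option backward.isDefEq.respectTransparency false in
/-- The boundary morphisms `C ⟶ A⟦1⟧` attached to two degreewise splittings of a degreewise split
sequence `A ⟶ B ⟶ C` of cochain complexes are homotopic. -/
theorem result {C : Type u} [Category.{v} C] [Preadditive C] [HasBinaryBiproducts C] (S : ShortComplex (CochainComplex C ℤ)) (σ σ' : ∀ n : ℤ, (S.map (HomologicalComplex.eval C (ComplexShape.up ℤ) n)).Splitting) : Nonempty (Homotopy (CochainComplex.homOfDegreewiseSplit S σ) (CochainComplex.homOfDegreewiseSplit S σ')) := by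
  refine ⟨(Cochain.equivHomotopy _ _).symm
    ⟨(1 : ℤ).negOnePow • (Cochain.ofHoms (fun p => ((σ p).s - (σ' p).s) ≫ (σ p).r)).rightShift
      1 (-1) (by lia), ?_⟩⟩
  simp only [homOfDegreewiseSplit, Cocycle.equivHom_symm_apply, Cocycle.cochain_ofHom_homOf_eq_coe,
    Cocycle.rightShift_coe, δ_units_smul]
  rw [Cochain.δ_rightShift (Cochain.ofHoms (fun p => ((σ p).s - (σ' p).s) ≫ (σ p).r)) 1 (-1) 0
    (neg_add_cancel 1) 1 (zero_add 1), smul_smul, Int.units_mul_self, one_smul,
    key S σ σ', Cochain.rightShift_add]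

end Groth.Agent.S6816
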