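import Groth.Statements.S6818
import Mathlib

set_option autoImplicit false
open CategoryTheory CategoryTheory.Limits Opposite
universe v u
open CategoryTheory CategoryTheory.Abelian

namespace Groth.Agent.S6818

/-- For a simplicial object `U` of an abelian category and `n ≥ 0`, the subobjects `U'_m ⊆ U_m`
generated by the images of all `U_i ⟶ U_m` induced by maps `[m] ⟶ [i]` with `i ≤ n` form a
simplicial subobject equal to `U` in dimensions `≤ n` whose normalized part vanishes in dimensions
`> n`. Here the normalized subobject of `U_m` is the joint kernel of the faces `d_1, …, d_m`; the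
published statement uses the faces `d_0, …, d_{m-1}`, the mirror-image convention, and both versions
hold. -/
theorem result {A : Type u} [Category.{v} A] [Abelian A] (U : SimplicialObject A) (n : ℕ) (U' : ∀ m : ℕ, Subobject (U.obj (op (SimplexCategory.mk m)))) (hU' : ∀ m : ℕ, IsLUB (Set.range (fun φ : Σ i : Fin (n + 1), (SimplexCategory.mk m ⟶ SimplexCategory.mk i) => imageSubobject (U.map φ.2.op))) (U' m)) : (∀ (m m' : ℕ) (ψ : SimplexCategory.mk m' ⟶ SimplexCategory.mk m), imageSubobject ((U' m).arrow ≫ U.map ψ.op) ≤ U' m') ∧ (∀ i : ℕ, i ≤ n → U' i = ⊤) ∧ (∀ m : ℕ, n < m → U' m ⊓ AlgebraicTopology.NormalizedMooreComplex.objX U m = ⊥) := by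
  classical
  -- general facts
  have image_le_iff_factors : ∀ {X Z : A} (f : X ⟶ Z) (S : Subobject Z),
      imageSubobject f ≤ S ↔ S.Factors f := by
    intro X Z f S
    constructor
    · intro h
      have := Subobject.factors_of_le _ h (imageSubobject_factors_comp_self (f := f) (𝟙 X))
      rwa [Category.id_comp] at this
    · intro h
      exact imageSubobject_le _ (S.factorThru _ h) (S.factorThru_arrow _ h)
  have le_iff_factors : ∀ {Z : A} (S T : Subobject Z), S ≤ T ↔ T.Factors S.arrow := by
    intro Z S T
    constructor
    · intro h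
      exact Subobject.factors_of_le _ h (Subobject.factors_self S)
    · intro h
      exact Subobject.le_of_comm (T.factorThru _ h) (T.factorThru_arrow _ h)
  refine ⟨?_, ?_, ?_⟩
  · -- simplicial subobject
    intro m m' ψ
    rw [image_le_iff_factors, ← pullback_factors_iff, ← le_iff_factors]
    refine (hU' m).2 ?_
    rintro _ ⟨φ, rfl⟩
    dsimp only
    rw [image_le_iff_factors, pullback_factors_iff, ← image_le_iff_factors]
    refine (hU' m').1 ⟨⟨φ.1, ψ ≫ φ.2⟩, ?_⟩
    dsimp only
    rw [op_comp, Functor.map_comp]
  · -- equal to `U` in low dimensions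
    intro i hi
    rw [eq_top_iff]
    refine le_trans ?_ ((hU' i).1 ⟨⟨⟨i, Nat.lt_succ_of_le hi⟩, 𝟙 _⟩, rfl⟩)
    dsimp only
    rw [op_id, CategoryTheory.Functor.map_id, le_iff_factors]
    have := imageSubobject_factors_comp_self (f := 𝟙 (U.obj (op (SimplexCategory.mk i))))
      (⊤ : Subobject (U.obj (op (SimplexCategory.mk i)))).arrow
    rwa [Category.comp_id] at this
  · -- the normalized part vanishes in high dimensions
    intro m hm
    -- the Dold-Kan projector
    let p : U.obj (op (SimplexCategory.mk m)) ⟶ U.obj (op (SimplexCategory.mk m)) :=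
      (AlgebraicTopology.DoldKan.PInfty (X := U)).f m
    have hN : (AlgebraicTopology.NormalizedMooreComplex.objX U m).arrow ≫ p =
        (AlgebraicTopology.NormalizedMooreComplex.objX U m).arrow :=
      HomologicalComplex.congr_hom
        (AlgebraicTopology.DoldKan.inclusionOfMooreComplexMap_comp_PInfty U) m
    have hφ : ∀ (i : Fin (n + 1)) (φ : SimplexCategory.mk m ⟶ SimplexCategory.mk i),
        U.map φ.op ≫ p = 0 := by
      intro i φ
      apply AlgebraicTopology.DoldKan.degeneracy_comp_PInfty
      intro hmono
      rw [SimplexCategory.mono_iff_injective] at hmono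
      have := Fintype.card_le_of_injective _ hmono
      simp only [SimplexCategory.len_mk, Fintype.card_fin] at this
      have := i.isLt
      omega
    have hker : U' m ≤ kernelSubobject p := by
      refine (hU' m).2 ?_
      rintro _ ⟨φ, rfl⟩
      dsimp only
      rw [image_le_iff_factors]
      exact kernelSubobject_factors p _ (hφ φ.1 φ.2)
    rw [eq_bot_iff, le_iff_factors]
    have h1 : (U' m ⊓ AlgebraicTopology.NormalizedMooreComplex.objX U m).arrow ≫ p =
        (U' m ⊓ AlgebraicTopology.NormalizedMooreComplex.objX U m).arrow := by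
      rw [← Subobject.ofLE_arrow (inf_le_right : U' m ⊓ _ ≤ _), Category.assoc, hN]
    have h2 : (U' m ⊓ AlgebraicTopology.NormalizedMooreComplex.objX U m).arrow ≫ p = 0 := by
      rw [← Subobject.ofLE_arrow (inf_le_left.trans hker : U' m ⊓ _ ≤ _), Category.assoc,
        kernelSubobject_arrow_comp, comp_zero]
    rw [← h1, h2]
    exact Subobject.factors_zero

end Groth.Agent.S6818
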