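import Groth.Statements.S6819
import Mathlib
import Groth.Agent.S6806

set_option autoImplicit false
open CategoryTheory CategoryTheory.Limits Opposite
universe v u
open CategoryTheory CategoryTheory.Abelian

namespace Groth.Agent.S6819

/-- For a simplicial object `U` of an abelian category, the counit `i_{n!} sk_n U ⟶ U` of the skeleton
adjunction is a monomorphism in each degree, with image the subobject generated by the images of the
maps `U_i ⟶ U_m` induced by `[m] ⟶ [i]`, `i ≤ n`. -/
theorem result {A : Type u} [Category.{v} A] [Abelian A] (U : SimplicialObject A) (n : ℕ) (U' : ∀ m : ℕ, Subobject (U.obj (op (SimplexCategory.mk m)))) (hU' : ∀ m : ℕ, IsLUB (Set.range (fun φ : Σ i : Fin (n + 1), (SimplexCategory.mk m ⟶ SimplexCategory.mk i) => imageSubobject (U.map φ.2.op))) (U' m)) [∀ F : (SimplexCategory.Truncated n)ᵒᵖ ⥤ A, (SimplexCategory.Truncated.inclusion n).op.HasLeftKanExtension F] (m : ℕ) : Mono (((SimplicialObject.skAdj n).counit.app U).app (op (SimplexCategory.mk m))) ∧ imageSubobject (((SimplicialObject.skAdj n).counit.app U).app (op (SimplexCategory.mk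 m))) = U' m := by
  classical
  haveI hpw : ∀ F : (SimplexCategory.Truncated n)ᵒᵖ ⥤ A,
      (SimplexCategory.Truncated.inclusion n).op.HasPointwiseLeftKanExtension F :=
    fun F => Groth.Agent.Lib.Helper33.hasPointwiseLeftKanExtension_inclusion_op n F
  -- general facts
  have image_le_iff_factors : ∀ {X Z : A} (f : X ⟶ Z) (S : Subobject Z),
      imageSubobject f ≤ S ↔ S.Factors f := by
    intro X Z f S
    constructor
    · intro h
      have := Subobject.factors_of_le _ h (imageSubobject_factors_comp_self (f := f) (𝟙 X))
      rwa [Category.id_comp] at this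
    · intro h
      exact imageSubobject_le _ (S.factorThru _ h) (S.factorThru_arrow _ h)
  -- notation
  set T : SimplicialObject.Truncated A n := (SimplicialObject.truncation n).obj U with hT
  set V : SimplicialObject A := (SimplicialObject.Truncated.sk n).obj T with hV
  set ε : V ⟶ U := (SimplicialObject.skAdj n).counit.app U with hε
  set η : T ⟶ (SimplicialObject.truncation n).obj V := (SimplicialObject.skAdj n).unit.app T with hη
  have htri : η ≫ (SimplicialObject.truncation n).map ε = 𝟙 T :=
    (SimplicialObject.skAdj n).right_triangle_components U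
  have htri' : ∀ (l : SimplexCategory) (hl : l.len ≤ n),
      η.app (op ⟨l, hl⟩) ≫ ε.app (op l) = 𝟙 (U.obj (op l)) := by
    intro l hl
    exact congrArg (fun t => NatTrans.app t (op ⟨l, hl⟩)) htri
  haveI : IsIso η := by rw [hη]; infer_instance
  have hεiso : ∀ (l : SimplexCategory) (hl : l.len ≤ n), IsIso (ε.app (op l)) := by
    intro l hl
    haveI : IsIso (η.app (op ⟨l, hl⟩)) := inferInstance
    have h := htri' l hl
    haveI : IsIso (η.app (op ⟨l, hl⟩) ≫ ε.app (op l)) := by rw [h]; exact IsIso.id _
    exact IsIso.of_isIso_comp_left (η.app (op ⟨l, hl⟩)) (ε.app (op l))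
  -- the pointwise Kan extension
  haveI : V.IsLeftKanExtension η :=
    inferInstanceAs (((SimplicialObject.sk n).obj U).IsLeftKanExtension
      ((SimplicialObject.skAdj n).unit.app _))
  have hP := Functor.isPointwiseLeftKanExtensionOfIsLeftKanExtension V η
  constructor
  · -- monomorphism, via Dold-Kan
    have hmonoN : Mono ((AlgebraicTopology.normalizedMooreComplex A).map ε) := by
      apply HomologicalComplex.mono_of_mono_f
      intro k
      have hfac : ((AlgebraicTopology.normalizedMooreComplex A).map ε).f k ≫
          (AlgebraicTopology.NormalizedMooreComplex.objX U k).arrow =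
          (AlgebraicTopology.NormalizedMooreComplex.objX V k).arrow ≫ ε.app (op (SimplexCategory.mk k)) := by
        simp only [AlgebraicTopology.normalizedMooreComplex_map,
          AlgebraicTopology.NormalizedMooreComplex.map_f]
        exact Subobject.factorThru_arrow _ _ _
      by_cases hk : k ≤ n
      · haveI := hεiso (SimplexCategory.mk k) hk
        haveI : Mono ((AlgebraicTopology.NormalizedMooreComplex.objX V k).arrow ≫
            ε.app (op (SimplexCategory.mk k))) := mono_comp _ _
        refine @mono_of_mono_fac _ _ _ _ _ _ _ _ ?_ hfac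
        exact this
      · have hbot : AlgebraicTopology.NormalizedMooreComplex.objX V k = ⊥ :=
          Groth.Agent.S6806.result n T k (Nat.lt_of_not_le hk)
        have hz : IsZero ((AlgebraicTopology.NormalizedMooreComplex.objX V k : Subobject _) : A) :=
          IsZero.of_iso (isZero_zero A) (Subobject.isoOfEq _ _ hbot ≪≫ Subobject.botCoeIsoZero)
        exact hz.mono _
    haveI : Mono ((CategoryTheory.Abelian.DoldKan.equivalence (A := A)).functor.map ε) := hmonoN
    haveI : Mono ε := Functor.mono_of_mono_map (CategoryTheory.Abelian.DoldKan.equivalence (A := A)).functor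
      inferInstance
    exact (NatTrans.mono_iff_mono_app ε).1 inferInstance _
  · -- image
    have hleg : ∀ (l : SimplexCategory) (hl : l.len ≤ n) (a : SimplexCategory.mk m ⟶ l),
        η.app (op ⟨l, hl⟩) ≫ V.map a.op ≫ ε.app (op (SimplexCategory.mk m)) = U.map a.op := by
      intro l hl a
      have hnat : V.map a.op ≫ ε.app (op (SimplexCategory.mk m)) = ε.app (op l) ≫ U.map a.op :=
        ε.naturality a.op
      have h1 := htri' l hl
      calc η.app (op ⟨l, hl⟩) ≫ V.map a.op ≫ ε.app (op (SimplexCategory.mk m))
          = η.app (op ⟨l, hl⟩) ≫ ε.app (op l) ≫ U.map a.op :=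
            congrArg (fun t => η.app (op ⟨l, hl⟩) ≫ t) hnat
        _ = (η.app (op ⟨l, hl⟩) ≫ ε.app (op l)) ≫ U.map a.op := (Category.assoc _ _ _).symm
        _ = 𝟙 _ ≫ U.map a.op := congrArg (fun t => t ≫ U.map a.op) h1
        _ = U.map a.op := Category.id_comp _
    apply le_antisymm
    · rw [image_le_iff_factors]
      have hk : IsLimit (KernelFork.ofι (U' m).arrow (cokernel.condition (U' m).arrow)) :=
        Abelian.monoIsKernelOfCokernel _ (colimit.isColimit _)
      have h0 : ε.app (op (SimplexCategory.mk m)) ≫ cokernel.π (U' m).arrow = 0 := by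
        apply (hP (op (SimplexCategory.mk m))).hom_ext
        intro g
        rcases g with ⟨⟨⟨l, hl⟩⟩, ⟨⟨⟩⟩, a⟩
        change (η.app (op ⟨l, hl⟩) ≫ V.map a.unop.op) ≫
          ε.app (op (SimplexCategory.mk m)) ≫ cokernel.π (U' m).arrow =
          (η.app (op ⟨l, hl⟩) ≫ V.map a.unop.op) ≫ 0
        have hle : imageSubobject (U.map a.unop.op) ≤ U' m :=
          (hU' m).1 ⟨⟨⟨l.len, Nat.lt_succ_of_le hl⟩, a.unop⟩, rfl⟩
        have hf := (image_le_iff_factors _ _).1 hle
        have h2 : U.map a.unop.op ≫ cokernel.π (U' m).arrow = 0 := by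
          rw [← (U' m).factorThru_arrow _ hf, Category.assoc, cokernel.condition, comp_zero]
        calc (η.app (op ⟨l, hl⟩) ≫ V.map a.unop.op) ≫
              ε.app (op (SimplexCategory.mk m)) ≫ cokernel.π (U' m).arrow
            = (η.app (op ⟨l, hl⟩) ≫ V.map a.unop.op ≫ ε.app (op (SimplexCategory.mk m))) ≫
                cokernel.π (U' m).arrow := by simp only [Category.assoc]
          _ = U.map a.unop.op ≫ cokernel.π (U' m).arrow :=
              congrArg (fun t => t ≫ cokernel.π (U' m).arrow) (hleg l hl a.unop)
          _ = 0 := h2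
          _ = _ := comp_zero.symm
      have := hk.fac (KernelFork.ofι _ h0) WalkingParallelPair.zero
      dsimp at this
      rw [← this]
      exact Subobject.factors_comp_arrow _
    · refine (hU' m).2 ?_
      rintro _ ⟨φ, rfl⟩
      dsimp only
      rw [image_le_iff_factors, ← hleg (SimplexCategory.mk φ.1) (Nat.le_of_lt_succ φ.1.isLt) φ.2]
      have := imageSubobject_factors_comp_self (f := ε.app (op (SimplexCategory.mk m)))
        (η.app (op ⟨SimplexCategory.mk φ.1, Nat.le_of_lt_succ φ.1.isLt⟩) ≫ V.map φ.2.op)
      rw [Category.assoc] at this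
      exact this

end Groth.Agent.S6819
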