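import Groth.Statements.S6820
import Mathlib.RingTheory.Noetherian.Basic

set_option autoImplicit false
universe u
open Smoothing

namespace Groth.Agent.S6820

/-- Let A be a Noetherian ring, M a finite A-module, S a multiplicative subset of A and π an element of
A such that on the localised module S⁻¹M the kernels of multiplication by π and by π² agree. Then
there is an element s of S such that for every n > 0 the kernels of multiplication by sⁿπ and by
(sⁿπ)² on M agree. (Kernel equalities are written as implications, the reverse inclusions being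
automatic.) -/
theorem result {A : Type u} [CommRing A] [IsNoetherianRing A]
    (M : Type u) [AddCommGroup M] [Module A M] [Module.Finite A M] (S : Submonoid A) (π : A)
    (h : ∀ m : LocalizedModule S M, π ^ 2 • m = 0 → π • m = 0) :
    ∃ s ∈ S, ∀ n : ℕ, 0 < n → ∀ m : M, (s ^ n * π) ^ 2 • m = 0 → (s ^ n * π) • m = 0 := by
  classical
  let ι : M →ₗ[A] LocalizedModule S M := LocalizedModule.mkLinearMap S M
  let K' : Submodule A M := LinearMap.ker ((π ^ 2) • ι)
  have hNoeth : IsNoetherian A M := isNoetherian_of_isNoetherianRing_of_finite A M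
  have hK'fg : K'.FG := IsNoetherian.noetherian K'
  obtain ⟨G, hG⟩ := hK'fg
  -- every element of K' is killed by `t π` for some `t ∈ S`
  have hkill : ∀ g : M, ∃ t ∈ S, g ∈ K' → t • π • g = 0 := by
    intro g
    by_cases hg : g ∈ K'
    · have h1 : π ^ 2 • ι g = 0 := hg
      have h2 : π • ι g = 0 := h _ h1
      have h3 : π • g ∈ LinearMap.ker ι := by
        change ι (π • g) = 0
        rw [map_smul]; exact h2
      rw [LocalizedModule.mem_ker_mkLinearMap_iff] at h3
      obtain ⟨t, ht, htg⟩ := h3
      exact ⟨t, ht, fun _ => htg⟩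
    · exact ⟨1, S.one_mem, fun h' => absurd h' hg⟩
  choose t htS ht using hkill
  refine ⟨∏ g ∈ G, t g, Submonoid.prod_mem S (fun g _ => htS g), ?_⟩
  set s := ∏ g ∈ G, t g with hs
  have hsK' : ∀ m ∈ K', s • π • m = 0 := by
    have hle : K' ≤ LinearMap.ker ((s * π) • (LinearMap.id : M →ₗ[A] M)) := by
      rw [← hG, Submodule.span_le]
      intro g hg
      have hgK' : g ∈ K' := by rw [← hG]; exact Submodule.subset_span hg
      obtain ⟨k, hk⟩ := Finset.dvd_prod_of_mem t hg
      change (s * π) • g = 0
      rw [hs, hk, mul_comm (t g) k, mul_assoc, mul_smul, mul_smul, ht g hgK', smul_zero]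
    intro m hm
    have := hle hm
    change (s * π) • m = 0 at this
    rw [mul_smul] at this
    exact this
  intro n hn m hm
  have hmK' : m ∈ K' := by
    change π ^ 2 • ι m = 0
    rw [← map_smul]
    change π ^ 2 • m ∈ LinearMap.ker ι
    rw [LocalizedModule.mem_ker_mkLinearMap_iff]
    refine ⟨(s ^ n) ^ 2, S.pow_mem (S.pow_mem (Submonoid.prod_mem S (fun g _ => htS g)) n) 2, ?_⟩
    rw [← mul_smul, ← mul_pow]
    exact hm
  obtain ⟨k, rfl⟩ : ∃ k, n = k + 1 := ⟨n - 1, by omega⟩
  rw [pow_succ, mul_assoc, mul_smul, mul_smul, hsK' m hmK', smul_zero]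

end Groth.Agent.S6820
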