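import Groth.Statements.S6831
import Groth.Agent.Lib.Helper42.FTExact

set_option autoImplicit false
universe u
open CategoryTheory CategoryTheory.Limits TopologicalSpace
open ModSite

namespace Groth.Agent.S6831

open Groth.Agent.Lib.Helper42.FTLocal Groth.Agent.Lib.Helper30 Opposite

variable {X : TopCat.{u}} (O : TopCat.Sheaf CommRingCat.{u} X)

/-- a section whose germ is in the image of the stalk map lifts locally -/
lemma exists_local_preimage {G F : ModSite.Mod O} (φ : G ⟶ F) (x : X)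
    (hx : Function.Surjective (ModSite.stalkMap (Opens.pointGrothendieckTopology x) φ).hom)
    (U₀ : Opens X) (hxU : x ∈ U₀) (s : F.val.obj (op U₀)) :
    ∃ (W : Opens X) (hW : W ≤ U₀), x ∈ W ∧ ∃ t : G.val.obj (op W),
      φ.val.app (op W) t = rs F (homOfLE hW) s := by
  let p := Opens.pointGrothendieckTopology x
  obtain ⟨q, hq⟩ := hx (ModSite.germ p F U₀ ⟨⟨hxU⟩⟩ s)
  obtain ⟨Y, y, t, rfl⟩ := p.toPresheafFiber_jointly_surjective (P := (ModSite.toAb G).obj) q
  have hxY : x ∈ Y := y.down.down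
  have h1 : (p.toPresheafFiber Y y (ModSite.toAb F).obj).hom ((φ.val.app (op Y)).hom t) =
      (p.toPresheafFiber U₀ ⟨⟨hxU⟩⟩ (ModSite.toAb F).obj).hom s :=
    ((p.toPresheafFiber_naturality_apply
      ((SheafOfModules.toSheaf (ModSite.ringSh O)).map φ).hom Y y t).symm).trans hq
  -- move both germs to `Y ⊓ U₀`
  let z : p.fiber.obj (Y ⊓ U₀) := ⟨⟨⟨hxY, hxU⟩⟩⟩
  have e1 := p.toPresheafFiber_w_apply (homOfLE (inf_le_left : Y ⊓ U₀ ≤ Y)) z (ModSite.toAb F).obj
    ((φ.val.app (op Y)).hom t)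
  have e2 := p.toPresheafFiber_w_apply (homOfLE (inf_le_right : Y ⊓ U₀ ≤ U₀)) z
    (ModSite.toAb F).obj s
  have h2 : (p.toPresheafFiber (Y ⊓ U₀) z (ModSite.toAb F).obj).hom
      (rs F (homOfLE inf_le_left) ((φ.val.app (op Y)).hom t)) =
      (p.toPresheafFiber (Y ⊓ U₀) z (ModSite.toAb F).obj).hom (rs F (homOfLE inf_le_right) s) :=
    e1.trans (h1.trans e2.symm)
  obtain ⟨W, f, w, -, hW⟩ := (p.toPresheafFiber_eq_iff' (P := (ModSite.toAb F).obj) (Y ⊓ U₀) z
    _ _).mp h2
  have hxW : x ∈ W := w.down.down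
  have hWle : W ≤ Y ⊓ U₀ := leOfHom f
  refine ⟨W, hWle.trans inf_le_right, hxW, rs G (homOfLE (hWle.trans inf_le_left)) t, ?_⟩
  have hW' : rs F f (rs F (homOfLE inf_le_left) ((φ.val.app (op Y)).hom t)) =
      rs F f (rs F (homOfLE inf_le_right) s) := hW
  rw [rs_comp, rs_comp] at hW'
  exact (rs_app φ (homOfLE (hWle.trans inf_le_left)) t).symm.trans hW' 


/-- Let (X, O) be a ringed space, φ : G → F a map of O-modules with F of finite type, and x a point such
that the map of stalks φ_x : G_x → F_x is surjective (stalks are taken at the point of the site of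
opens of X given by x). Then φ|_U is surjective for some open neighbourhood U of x. -/
theorem result {X : TopCat.{u}} (O : TopCat.Sheaf CommRingCat.{u} X)
    {G F : ModSite.Mod O} (φ : G ⟶ F) [SheafOfModules.IsFiniteType (R := ModSite.ringSh O) F] (x : X)
    (hx : Function.Surjective (ModSite.stalkMap (Opens.pointGrothendieckTopology x) φ).hom) :
    ∃ U : Opens X, x ∈ U ∧ Epi ((ModSite.restr O U).map φ) := by
  obtain ⟨U₀, hxU₀, I, _, s, hs⟩ :=
    (isFiniteType_iff (X := X) (R := ModSite.ringSh O) F).mp inferInstance x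
  have h : ∀ i, ∃ (W : Opens X) (hW : W ≤ U₀), x ∈ W ∧ ∃ t : G.val.obj (op W),
      φ.val.app (op W) t = rs F (homOfLE hW) (s i) :=
    fun i => exists_local_preimage O φ x hx U₀ hxU₀ (s i)
  choose W hW hxW t ht using h
  have hxU : x ∈ U₀ ⊓ ⨅ i, W i := by
    refine ⟨hxU₀, ?_⟩
    rw [SetLike.mem_coe, ← SetLike.mem_coe, Opens.coe_iInf]
    exact Set.mem_iInter.mpr hxW
  refine ⟨U₀ ⊓ ⨅ i, W i, hxU, ?_⟩
  apply ModEpi.epi_of_isLocallySurjective
  constructor
  intro V m
  rw [GrothendieckTopology.mem_over_iff]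
  intro y hy
  have hVU : V.left ≤ U₀ ⊓ ⨅ i, W i := leOfHom V.hom
  obtain ⟨W', hW', hyW', c, hc⟩ := hs V.left (hVU.trans inf_le_left) m y hy
  refine ⟨W', homOfLE hW', ?_, hyW'⟩
  rw [Sieve.overEquiv_iff]
  have hle : ∀ i, W' ≤ W i := fun i => (hW'.trans hVU).trans (inf_le_right.trans (iInf_le W i))
  refine ⟨∑ i, c i • rs G (homOfLE (hle i)) (t i), ?_⟩
  change φ.val.app (op W') (∑ i, c i • rs G (homOfLE (hle i)) (t i)) = rs F (homOfLE hW') m
  rw [hc, map_sum]
  refine Finset.sum_congr rfl (fun i _ => ?_)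
  rw [map_smul, ← rs_app, ht, rs_comp]
  rfl


end Groth.Agent.S6831
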