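import Groth.Statements.S6832
import Groth.Agent.Lib.Helper42.FPLocal

set_option autoImplicit false
universe u
open CategoryTheory CategoryTheory.Limits TopologicalSpace
open ModSite

namespace Groth.Agent.S6832

open Groth.Agent.Lib.Helper42.FTLocal Groth.Agent.Lib.Helper42.FPLocal Opposite

/-- On a ringed space (X, O), if θ : G → F is a surjective map of O-modules with G of finite type and F
of finite presentation, then Ker(θ) is of finite type. (Part (1) of the source is the case G = O^r.) -/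
theorem result {X : TopCat.{u}} (O : TopCat.Sheaf CommRingCat.{u} X)
    {G F : ModSite.Mod O} (θ : G ⟶ F) [Epi θ] [SheafOfModules.IsFiniteType (R := ModSite.ringSh O) G]
    [SheafOfModules.IsFinitePresentation (R := ModSite.ringSh O) F] : SheafOfModules.IsFiniteType (R := ModSite.ringSh O) (kernel θ) := by
  classical
  refine (isFiniteType_iff (X := X) (R := ModSite.ringSh O) (kernel θ)).mpr (fun y => ?_)
  obtain ⟨U₁, hy₁, I, hI, s, L, hL, r, hs, hr⟩ :=
    (isFinitePresentation_iff (X := X) (R := ModSite.ringSh O) F).mp inferInstance y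
  obtain ⟨U₂, hy₂, J, hJ, g, hg⟩ :=
    (isFiniteType_iff (X := X) (R := ModSite.ringSh O) G).mp inferInstance y
  obtain ⟨W₁, hW₁, hyW₁, st, hst⟩ := exists_local_lift θ U₁ s y hy₁
  obtain ⟨W₂, hW₂, hyW₂, c, hc⟩ := IsLocGen.exists_coeffs hs (V := U₁ ⊓ U₂) inf_le_left
    (fun j => θ.val.app (op (U₁ ⊓ U₂)) (rs G (homOfLE inf_le_right) (g j))) y ⟨hy₁, hy₂⟩
  have hU₁ : W₁ ⊓ W₂ ≤ U₁ := inf_le_left.trans hW₁
  have hU₃ : W₁ ⊓ W₂ ≤ W₂ := inf_le_right
  have hU₄ : W₁ ⊓ W₂ ≤ W₁ := inf_le_left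
  have hU₂ : W₁ ⊓ W₂ ≤ U₂ := inf_le_right.trans (hW₂.trans inf_le_right)
  have hs' := IsLocGen.mono hU₁ hs
  have hr' := IsLocRel.mono hU₁ hr
  have hg' := IsLocGen.mono hU₂ hg
  have H4 : ∀ i, θ.val.app (op (W₁ ⊓ W₂)) (rs G (homOfLE hU₄) (st i)) =
      rs F (homOfLE hU₁) (s i) := fun i => by
    rw [← rs_app, hst, rs_le_le]
  have H5 : ∀ j, θ.val.app (op (W₁ ⊓ W₂)) (rs G (homOfLE hU₂) (g j)) =
      ∑ i, rr (ModSite.ringSh O) (homOfLE hU₃) (c j i) • rs F (homOfLE hU₁) (s i) := by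
    intro j
    have e := congrArg (rs F (homOfLE hU₃)) (hc j)
    rw [rs_sum_smul, rs_le_le, rs_app, rs_le_le] at e
    refine e.trans (Finset.sum_congr rfl (fun i _ => ?_))
    rw [rs_le_le]
  have hex := kernel_shortExact θ
  have hk : ∀ j, ∃ k : (kernel θ).val.obj (op (W₁ ⊓ W₂)),
      (kernel.ι θ).val.app (op (W₁ ⊓ W₂)) k = rs G (homOfLE hU₂) (g j) -
        ∑ i, rr (ModSite.ringSh O) (homOfLE hU₃) (c j i) •
          rs G (homOfLE hU₄) (st i) := by
    intro j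
    refine exists_preimage_of_shortExact _ hex (W₁ ⊓ W₂) _ ?_
    change θ.val.app (op (W₁ ⊓ W₂)) _ = 0
    rw [map_sub, map_sum, H5, sub_eq_zero]
    refine Finset.sum_congr rfl (fun i _ => ?_)
    rw [map_smul, H4]
  have hρ : ∀ l, ∃ ρ : (kernel θ).val.obj (op (W₁ ⊓ W₂)),
      (kernel.ι θ).val.app (op (W₁ ⊓ W₂)) ρ =
        ∑ i, rr (ModSite.ringSh O) (homOfLE hU₁) (r l i) • rs G (homOfLE hU₄) (st i) := by
    intro l
    refine exists_preimage_of_shortExact _ hex (W₁ ⊓ W₂) _ ?_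
    change θ.val.app (op (W₁ ⊓ W₂)) _ = 0
    rw [map_sum, ← hr'.1 l]
    refine Finset.sum_congr rfl (fun i _ => ?_)
    rw [map_smul, H4]
  choose k hk using hk
  choose ρ hρ using hρ
  refine ⟨W₁ ⊓ W₂, ⟨hyW₁, hyW₂⟩, J ⊕ L, inferInstance, Sum.elim k ρ, ?_⟩
  intro V hV m z hz
  obtain ⟨W₃, hW₃, hzW₃, a, ha⟩ := hg' V hV ((kernel.ι θ).val.app (op V) m) z hz
  have hθm : θ.val.app (op V) ((kernel.ι θ).val.app (op V) m) = 0 :=
    congrArg (fun φ => φ.val.app (op V) m) (kernel.condition θ)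
  have hrel : ∑ i, (∑ j, a j * rr (ModSite.ringSh O) (homOfLE (hW₃.trans hV))
      (rr (ModSite.ringSh O) (homOfLE hU₃) (c j i))) •
        rs F (homOfLE (hW₃.trans hV)) (rs F (homOfLE hU₁) (s i)) = 0 := by
    have e := congrArg (θ.val.app (op W₃)) ha
    rw [← rs_app, hθm, map_zero, map_sum] at e
    rw [e]
    simp_rw [Finset.sum_smul]
    rw [Finset.sum_comm]
    refine Finset.sum_congr rfl (fun j _ => ?_)
    rw [map_smul, ← rs_app, H5, rs_sum_smul, Finset.smul_sum]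
    refine Finset.sum_congr rfl (fun i _ => ?_)
    rw [smul_smul]
  obtain ⟨W₄, hW₄, hzW₄, b, hb⟩ := hr'.2 W₃ (hW₃.trans hV) _ hrel z hzW₃
  refine ⟨W₄, hW₄.trans hW₃, hzW₄,
    Sum.elim (fun j => rr (ModSite.ringSh O) (homOfLE hW₄) (a j)) b, ?_⟩
  apply injective_of_mono (kernel.ι θ) W₄
  rw [Fintype.sum_sum_type]
  simp only [Sum.elim_inl, Sum.elim_inr]
  have hle : W₄ ≤ W₁ ⊓ W₂ := (hW₄.trans hW₃).trans hV
  -- left hand side
  have eL : (kernel.ι θ).val.app (op W₄) (rs (kernel θ) (homOfLE (hW₄.trans hW₃)) m) =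
      ∑ j, rr (ModSite.ringSh O) (homOfLE hW₄) (a j) •
        rs G (homOfLE hle) (rs G (homOfLE hU₂) (g j)) := by
    rw [← rs_app]
    have e := congrArg (rs G (homOfLE hW₄)) ha
    rw [rs_le_le, rs_sum_smul] at e
    refine e.trans (Finset.sum_congr rfl (fun j _ => ?_))
    rw [rs_le_le]
  -- right hand side
  have eR1 : ∀ j, (kernel.ι θ).val.app (op W₄)
      (rr (ModSite.ringSh O) (homOfLE hW₄) (a j) • rs (kernel θ) (homOfLE hle) (k j)) =
      rr (ModSite.ringSh O) (homOfLE hW₄) (a j) • rs G (homOfLE hle) (rs G (homOfLE hU₂) (g j)) -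
        ∑ i, (rr (ModSite.ringSh O) (homOfLE hW₄) (a j) *
          rr (ModSite.ringSh O) (homOfLE hle)
            (rr (ModSite.ringSh O) (homOfLE hU₃) (c j i))) •
          rs G (homOfLE hle) (rs G (homOfLE hU₄) (st i)) := by
    intro j
    rw [map_smul, ← rs_app, hk, map_sub, smul_sub, rs_sum_smul, Finset.smul_sum]
    congr 1
    refine Finset.sum_congr rfl (fun i _ => ?_)
    rw [smul_smul]
  have eR2 : ∀ l, (kernel.ι θ).val.app (op W₄) (b l • rs (kernel θ) (homOfLE hle) (ρ l)) =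
      ∑ i, (b l * rr (ModSite.ringSh O) (homOfLE hle)
        (rr (ModSite.ringSh O) (homOfLE hU₁) (r l i))) •
          rs G (homOfLE hle) (rs G (homOfLE hU₄) (st i)) := by
    intro l
    rw [map_smul, ← rs_app, hρ, rs_sum_smul, Finset.smul_sum]
    refine Finset.sum_congr rfl (fun i _ => ?_)
    rw [smul_smul]
  rw [eL, map_add, map_sum, map_sum, Finset.sum_congr rfl (fun j _ => eR1 j),
    Finset.sum_congr rfl (fun l _ => eR2 l), Finset.sum_sub_distrib, sub_add, eq_comm,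
    sub_eq_self, sub_eq_zero, Finset.sum_comm]
  rw [Finset.sum_comm (f := fun l i => (b l * rr (ModSite.ringSh O) (homOfLE hle)
        (rr (ModSite.ringSh O) (homOfLE hU₁) (r l i))) •
          rs G (homOfLE hle) (rs G (homOfLE hU₄) (st i)))]
  refine Finset.sum_congr rfl (fun i _ => ?_)
  rw [← Finset.sum_smul, ← Finset.sum_smul]
  congr 1
  have e := hb i
  rw [map_sum] at e
  refine Eq.trans (Finset.sum_congr rfl (fun j _ => ?_)) (e.trans
    (Finset.sum_congr rfl (fun l _ => ?_)))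
  · rw [map_mul, rr_le_le, rr_le_le, rr_le_le]
  · rw [rr_le_le]

end Groth.Agent.S6832
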