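import Groth.Statements.S6834
import Groth.Agent.Lib.Helper42.StalkColim

set_option autoImplicit false
universe u
open CategoryTheory CategoryTheory.Limits TopologicalSpace
open ModSite

namespace Groth.Agent.S6834

open Groth.Agent.Lib.Helper42.FTLocal Groth.Agent.Lib.Helper42.StalkColim
  Groth.Agent.Lib.Helper30 Opposite

section Aux

variable {C : Type u} [SmallCategory C] {J : GrothendieckTopology C} {R : Sheaf J RingCat.{u}}

/-- a monomorphism of sheaves of modules is injective on sections -/
lemma injective_of_mono {M N : SheafOfModules.{u} R} (f : M ⟶ N) [Mono f] (W : C) :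
    Function.Injective (f.val.app (op W)) := by
  have h : Mono ((SheafOfModules.evaluation R (op W)).map f) := inferInstance
  exact (ModuleCat.mono_iff_injective _).mp h

/-- a morphism of sheaves of modules injective on sections is a monomorphism -/
lemma mono_of_injective {M N : SheafOfModules.{u} R} (f : M ⟶ N)
    (h : ∀ W : C, Function.Injective (f.val.app (op W))) : Mono f := by
  refine Preadditive.mono_of_cancel_zero _ (fun {Z} g hg => ?_)
  ext W z
  apply h W.unop
  have := congrArg (fun φ => φ.val.app W z) hg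
  refine this.trans ?_
  exact (map_zero (f.val.app W).hom).symm

lemma comp_apply {M N P : SheafOfModules.{u} R} (f : M ⟶ N) (g : N ⟶ P) (W : C)
    (m : M.val.obj (op W)) :
    (f ≫ g).val.app (op W) m = g.val.app (op W) (f.val.app (op W) m) := rfl

end Aux

/-- Let (X, O) be a ringed space with X quasi-compact, I a directed preordered set (nonempty, with upper
bounds for pairs), (F_i) a system of O-modules over I and F = colim F_i. If F is of finite type then
F_i → F is surjective for some i; if moreover all transition maps are injective then F_i → F is an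
isomorphism for some i. -/
theorem result {X : TopCat.{u}} (O : TopCat.Sheaf CommRingCat.{u} X)
    [CompactSpace X] {I : Type u} [Preorder I] [Nonempty I] [IsDirected I (· ≤ ·)] (D : I ⥤ ModSite.Mod O)
    (c : Cocone D) (hc : IsColimit c) [SheafOfModules.IsFiniteType (R := ModSite.ringSh O) c.pt] :
    (∃ i : I, Epi (c.ι.app i)) ∧
      ((∀ (i j : I) (f : i ⟶ j), Mono (D.map f)) → ∃ i : I, IsIso (c.ι.app i)) := by
  classical
  have hft : SheafOfModules.IsFiniteType (R := ModSite.ringSh O) c.pt := inferInstance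
  -- the cocone condition on sections
  have hw : ∀ {i j : I} (f : i ⟶ j) (W : Opens X) (t : (D.obj i).val.obj (op W)),
      (c.ι.app j).val.app (op W) ((D.map f).val.app (op W) t) = (c.ι.app i).val.app (op W) t :=
    fun {i j} f W t => congrArg (fun φ => φ.val.app (op W) t) (c.w f)
  -- local surjectivity of some stage, near each point
  have hloc : ∀ y : X, ∃ (W : Opens X) (i : I), y ∈ W ∧ ∀ (V : Opens X) (_ : V ≤ W)
      (m : c.pt.val.obj (op V)) (z : X), z ∈ V → ∃ (W' : Opens X) (hW' : W' ≤ V), z ∈ W' ∧
        ∃ n : (D.obj i).val.obj (op W'), (c.ι.app i).val.app (op W') n =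
          rs c.pt (homOfLE hW') m := by
    intro y
    obtain ⟨U, hyU, K, hK, s, hs⟩ :=
      (isFiniteType_iff (X := X) (R := ModSite.ringSh O) c.pt).mp hft y
    have h1 : ∀ k : K, ∃ (i : I) (W : Opens X) (hW : W ≤ U), y ∈ W ∧
        ∃ t : (D.obj i).val.obj (op W), (c.ι.app i).val.app (op W) t =
          rs c.pt (homOfLE hW) (s k) := fun k =>
      exists_local_rep_of_filtered y D c hc hyU (s k)
    choose ik Wk hWk hyWk tk htk using h1
    obtain ⟨i, hi⟩ := Finite.exists_le ik
    have hmem : y ∈ U ⊓ ⨅ k, Wk k := by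
      refine ⟨hyU, ?_⟩
      rw [SetLike.mem_coe, ← SetLike.mem_coe, Opens.coe_iInf]
      exact Set.mem_iInter.mpr hyWk
    refine ⟨U ⊓ ⨅ k, Wk k, i, hmem, ?_⟩
    intro V hV m z hz
    obtain ⟨W', hW', hzW', a, ha⟩ := hs V (hV.trans inf_le_left) m z hz
    have hle : ∀ k, W' ≤ Wk k := fun k =>
      (hW'.trans hV).trans (inf_le_right.trans (iInf_le Wk k))
    refine ⟨W', hW', hzW', ∑ k, a k • rs (D.obj i) (homOfLE (hle k))
      ((D.map (homOfLE (hi k))).val.app (op (Wk k)) (tk k)), ?_⟩
    rw [ha, map_sum]
    refine Finset.sum_congr rfl (fun k _ => ?_)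
    rw [map_smul, ← rs_app, hw, htk]
    exact congrArg (a k • ·) (rs_comp c.pt _ _ (s k))
  choose W i hyW hWi using hloc
  obtain ⟨A, hA⟩ := isCompact_univ.elim_finite_subcover (fun y : X => (W y : Set X))
    (fun y => (W y).isOpen) (fun y _ => Set.mem_iUnion.mpr ⟨y, hyW y⟩)
  obtain ⟨i₀, hi₀⟩ := Finset.exists_le (A.image i)
  have hepi : Epi (c.ι.app i₀) := by
    apply ModEpi.epi_of_isLocallySurjective
    constructor
    intro V m z hz
    obtain ⟨y, hyA, hzy⟩ : ∃ y ∈ A, z ∈ W y := by
      have := hA (Set.mem_univ z)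
      simpa using this
    obtain ⟨W', hW', hzW', n, hn⟩ := hWi y (V ⊓ W y) inf_le_right
      (rs c.pt (homOfLE inf_le_left) m) z ⟨hz, hzy⟩
    have hle : i y ≤ i₀ := hi₀ (i y) (Finset.mem_image_of_mem i hyA)
    refine ⟨W', homOfLE (hW'.trans inf_le_left), ⟨(D.map (homOfLE hle)).val.app (op W') n, ?_⟩,
      hzW'⟩
    change (c.ι.app i₀).val.app (op W') ((D.map (homOfLE hle)).val.app (op W') n) =
      rs c.pt (homOfLE (hW'.trans inf_le_left)) m
    rw [hw, hn]
    exact rs_comp c.pt _ _ m
  refine ⟨⟨i₀, hepi⟩, fun hmono => ⟨i₀, ?_⟩⟩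
  have hm : Mono (c.ι.app i₀) := by
    apply mono_of_injective
    intro U
    rw [injective_iff_map_eq_zero]
    intro t ht
    refine eq_of_locally (D.obj i₀) t 0 (fun x hx => ?_)
    obtain ⟨j, f, W', hW', hxW', e⟩ := exists_local_map_eq_zero_of_filtered x D c hc i₀ hx t ht
    refine ⟨W', hW', hxW', ?_⟩
    have := hmono i₀ j f
    apply injective_of_mono (D.map f) W'
    rw [← rs_app, e, map_zero]
    exact (map_zero _).symm
  exact isIso_of_mono_of_epi _

end Groth.Agent.S6834
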