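import Groth.Statements.S6835
import Groth.Agent.Lib.Helper42.FlatStalk
import Mathlib.Topology.Sheaves.Points

set_option autoImplicit false
universe u
open CategoryTheory CategoryTheory.Limits TopologicalSpace
open ModSite

namespace Groth.Agent.S6835

/-- On a ringed space (X, O), an O-module F is flat (the functor − ⊗_O F is exact) if and only if for
every point x the stalk F_x is a flat O_{X,x}-module (stalks are taken at the point of the site of
opens of X given by x). -/
theorem result {X : TopCat.{u}} (O : TopCat.Sheaf CommRingCat.{u} X) (F : ModSite.Mod O) :
    ModSite.IsFlat F ↔ ∀ x : X, Module.Flat (ModSite.stalkRing (Opens.pointGrothendieckTopology x) O)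
      (ModSite.stalkMod (Opens.pointGrothendieckTopology x) F) := by
  constructor
  · intro h x
    exact Groth.Agent.Lib.Helper42.FlatStalk.flat_stalkMod_of_isFlat _ F h
  · intro h
    refine Groth.Agent.Lib.Helper42.FlatStalk.isFlat_of_flat_stalkMod
      (Opens.isConservativeFamilyOfPoints_pointsGrothendieckTopology X) F ?_
    rintro p ⟨x⟩
    exact h x

end Groth.Agent.S6835
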