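import Groth.Statements.S6836
import Groth.Agent.Lib.Helper42.StalkFree

set_option autoImplicit false
universe u
open CategoryTheory CategoryTheory.Limits TopologicalSpace
open ModSite

namespace Groth.Agent.S6836

open Groth.Agent.Lib.Helper42.FTLocal Groth.Agent.Lib.Helper42.FPLocal
  Groth.Agent.Lib.Helper42.StalkColim Groth.Agent.Lib.Helper42.StalkFree Opposite

/-- a one-sided inverse of a square matrix over a commutative ring is two-sided -/
lemma comm_of_mul_eq_one {A : Type u} [CommRing A] {K : Type u} [Fintype K] [DecidableEq K]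
    (a b : K → K → A) (h : ∀ j j', ∑ k, b j k * a k j' = if j = j' then 1 else 0) :
    ∀ k k', ∑ j, a k j * b j k' = if k = k' then 1 else 0 := by
  have h1 : (Matrix.of b) * (Matrix.of a) = (1 : Matrix K K A) := by
    ext j j'
    rw [Matrix.mul_apply, Matrix.one_apply]
    exact h j j'
  have h2 : (Matrix.of a) * (Matrix.of b) = (1 : Matrix K K A) := mul_eq_one_comm.mp h1
  intro k k'
  have := congrFun (congrFun h2 k) k'
  rw [Matrix.mul_apply, Matrix.one_apply] at this
  exact this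

/-- On a ringed space (X, O), let r ≥ 0 and let φ : F → G be a map of O-modules which are both finite
locally free of rank r (every point has an open neighbourhood U with F|_U ≅ O_U^r, the free
O_U-module on r generators, and likewise for G). Then φ is an isomorphism if and only if it is
surjective. -/
theorem result {X : TopCat.{u}} (O : TopCat.Sheaf CommRingCat.{u} X) (r : ℕ)
    {F G : ModSite.Mod O}
    (hF : ∀ x : X, ∃ U : Opens X, x ∈ U ∧
      Nonempty ((ModSite.restr O U).obj F ≅ SheafOfModules.free (ULift.{u} (Fin r))))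
    (hG : ∀ x : X, ∃ U : Opens X, x ∈ U ∧
      Nonempty ((ModSite.restr O U).obj G ≅ SheafOfModules.free (ULift.{u} (Fin r))))
    (φ : F ⟶ G) : IsIso φ ↔ Epi φ := by
  classical
  refine ⟨fun h => inferInstance, fun hepi => ?_⟩
  suffices hm : Mono φ from isIso_of_mono_of_epi φ
  apply mono_of_injective
  intro W
  rw [injective_iff_map_eq_zero]
  intro t ht
  refine eq_of_locally F t 0 (fun z hz => ?_)
  obtain ⟨UF, hzF, hisoF⟩ := hF z
  obtain ⟨UG, hzG, hisoG⟩ := hG z
  obtain ⟨eF₀, hgF₀, hiF₀⟩ := exists_basis_of_iso_free (R := ModSite.ringSh O) F UF hisoF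
  obtain ⟨eG₀, hgG₀, hiG₀⟩ := exists_basis_of_iso_free (R := ModSite.ringSh O) G UG hisoG
  have hUF : UF ⊓ UG ⊓ W ≤ UF := inf_le_left.trans inf_le_left
  have hUG : UF ⊓ UG ⊓ W ≤ UG := inf_le_left.trans inf_le_right
  have hUW : UF ⊓ UG ⊓ W ≤ W := inf_le_right
  have hzU : z ∈ UF ⊓ UG ⊓ W := ⟨⟨hzF, hzG⟩, hz⟩
  have hgF := IsLocGen.mono hUF hgF₀
  have hgG := IsLocGen.mono hUG hgG₀
  have hiG := IsLocIndep.mono hUG hiG₀
  -- the matrix of `φ`
  obtain ⟨W₁, hW₁, hzW₁, A, hA⟩ := IsLocGen.exists_coeffs hgG (V := UF ⊓ UG ⊓ W) le_rfl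
    (fun k => φ.val.app (op (UF ⊓ UG ⊓ W)) (rs F (homOfLE hUF) (eF₀ k))) z hzU
  -- local lifts of the basis of `G`
  obtain ⟨W₂, hW₂, hzW₂, v, hv⟩ := exists_local_lift φ (UF ⊓ UG ⊓ W)
    (fun j => rs G (homOfLE hUG) (eG₀ j)) z hzU
  obtain ⟨W₃, hW₃, hzW₃, B, hB⟩ := IsLocGen.exists_coeffs hgF hW₂ v z hzW₂
  -- coefficients of `t`
  obtain ⟨W₄, hW₄, hzW₄, c, hc⟩ := hgF (W₁ ⊓ W₃) (inf_le_left.trans hW₁)
    (rs F (homOfLE (inf_le_left.trans (hW₁.trans hUW))) t) z ⟨hzW₁, hzW₃⟩
  have h41 : W₄ ≤ W₁ := hW₄.trans inf_le_left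
  have h43 : W₄ ≤ W₃ := hW₄.trans inf_le_right
  have h4U : W₄ ≤ UF ⊓ UG ⊓ W := h41.trans hW₁
  refine ⟨W₄, h4U.trans hUW, hzW₄, ?_⟩
  -- everything over `W₄`
  have hA' : ∀ k, φ.val.app (op W₄) (rs F (homOfLE h4U) (rs F (homOfLE hUF) (eF₀ k))) =
      ∑ j, rr (ModSite.ringSh O) (homOfLE h41) (A k j) •
        rs G (homOfLE h4U) (rs G (homOfLE hUG) (eG₀ j)) := by
    intro k
    have e := congrArg (rs G (homOfLE h41)) (hA k)
    rw [rs_le_le, rs_app, rs_sum_smul] at e
    refine e.trans (Finset.sum_congr rfl (fun j _ => ?_))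
    rw [rs_le_le]
  have hB' : ∀ j, rs G (homOfLE h4U) (rs G (homOfLE hUG) (eG₀ j)) =
      ∑ k, rr (ModSite.ringSh O) (homOfLE h43) (B j k) •
        φ.val.app (op W₄) (rs F (homOfLE h4U) (rs F (homOfLE hUF) (eF₀ k))) := by
    intro j
    have e := congrArg (fun m => φ.val.app (op W₄) (rs F (homOfLE h43) m)) (hB j)
    simp only at e
    rw [rs_le_le, ← rs_app, hv, rs_le_le, rs_sum_smul, map_sum] at e
    refine e.trans (Finset.sum_congr rfl (fun k _ => ?_))
    rw [map_smul, rs_le_le]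
  -- `B A = 1`
  have hBA : ∀ j j', ∑ k, rr (ModSite.ringSh O) (homOfLE h43) (B j k) *
      rr (ModSite.ringSh O) (homOfLE h41) (A k j') = if j = j' then 1 else 0 := by
    intro j j'
    have e0 : ∑ j', (∑ k, rr (ModSite.ringSh O) (homOfLE h43) (B j k) *
        rr (ModSite.ringSh O) (homOfLE h41) (A k j') - if j = j' then 1 else 0) •
          rs G (homOfLE h4U) (rs G (homOfLE hUG) (eG₀ j')) = 0 := by
      simp_rw [sub_smul, Finset.sum_smul]
      rw [Finset.sum_sub_distrib, sub_eq_zero, Finset.sum_comm]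
      have e1 : ∑ j', (if j = j' then (1 : (ModSite.ringSh O).obj.obj (op W₄)) else 0) •
          rs G (homOfLE h4U) (rs G (homOfLE hUG) (eG₀ j')) =
          rs G (homOfLE h4U) (rs G (homOfLE hUG) (eG₀ j)) := by
        rw [Finset.sum_eq_single j]
        · rw [if_pos rfl, one_smul]
        · intro j' _ hj'
          rw [if_neg (Ne.symm hj'), zero_smul]
        · intro h
          exact (h (Finset.mem_univ j)).elim
      rw [e1]
      conv_rhs => rw [hB' j]
      refine Finset.sum_congr rfl (fun k _ => ?_)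
      rw [hA' k, Finset.smul_sum]
      refine Finset.sum_congr rfl (fun j' _ => ?_)
      rw [smul_smul]
    have e2 := hiG W₄ h4U _ e0 j'
    rwa [sub_eq_zero] at e2
  have hAB := comm_of_mul_eq_one (A := O.obj.obj (op W₄))
    (fun k j => rr (ModSite.ringSh O) (homOfLE h41) (A k j))
    (fun j k => rr (ModSite.ringSh O) (homOfLE h43) (B j k)) hBA
  -- `A c = 0`
  have hc' : rs F (homOfLE (h4U.trans hUW)) t =
      ∑ k, c k • rs F (homOfLE h4U) (rs F (homOfLE hUF) (eF₀ k)) := by
    rw [rs_le_le] at hc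
    exact hc
  have hAc : ∀ j, ∑ k, c k * rr (ModSite.ringSh O) (homOfLE h41) (A k j) = 0 := by
    have e0 : ∑ j, (∑ k, c k * rr (ModSite.ringSh O) (homOfLE h41) (A k j)) •
        rs G (homOfLE h4U) (rs G (homOfLE hUG) (eG₀ j)) = 0 := by
      have e1 := congrArg (φ.val.app (op W₄)) hc'
      rw [← rs_app, ht, map_zero, map_sum] at e1
      rw [e1]
      simp_rw [Finset.sum_smul]
      rw [Finset.sum_comm]
      refine Finset.sum_congr rfl (fun k _ => ?_)
      rw [map_smul, hA' k, Finset.smul_sum]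
      refine Finset.sum_congr rfl (fun j _ => ?_)
      rw [smul_smul]
    exact hiG W₄ h4U _ e0
  rw [hc', map_zero]
  refine Finset.sum_eq_zero (fun k' _ => ?_)
  have e3 : c k' = ∑ j, (∑ k, c k * rr (ModSite.ringSh O) (homOfLE h41) (A k j)) *
      rr (ModSite.ringSh O) (homOfLE h43) (B j k') := by
    simp_rw [Finset.sum_mul]
    rw [Finset.sum_comm]
    have e4 : ∀ k, ∑ j, c k * rr (ModSite.ringSh O) (homOfLE h41) (A k j) *
        rr (ModSite.ringSh O) (homOfLE h43) (B j k') = c k * (if k = k' then 1 else 0) := by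
      intro k
      have h' : ∑ j, rr (ModSite.ringSh O) (homOfLE h41) (A k j) *
          rr (ModSite.ringSh O) (homOfLE h43) (B j k') =
          (if k = k' then (1 : (ModSite.ringSh O).obj.obj (op W₄)) else 0) := hAB k k'
      rw [← h', Finset.mul_sum]
      exact Finset.sum_congr rfl (fun j _ => mul_assoc _ _ _)
    rw [Finset.sum_congr rfl (fun k _ => e4 k), Finset.sum_eq_single k']
    · rw [if_pos rfl, mul_one]
    · intro k _ hk
      rw [if_neg hk, mul_zero]
    · intro h
      exact (h (Finset.mem_univ k')).elim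
  rw [e3]
  simp_rw [hAc, zero_mul]
  rw [Finset.sum_const_zero, zero_smul]

end Groth.Agent.S6836
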