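import Groth.Statements.S6841
import Mathlib
import Groth.Agent.S2108
import Groth.Agent.Lib.Helper94.JacobianCore
import Groth.Agent.Lib.Helper94.SurjLoc

set_option autoImplicit false
universe u
open Smoothing

namespace Groth.Agent.S6841

open IsLocalRing TensorProduct KaehlerDifferential MvPolynomial
open Groth.Agent.Lib.Helper94

/-- `1 ⊗ w = 0` in `κ ⊗ F` implies `w ∈ 𝔪 F`. -/
theorem mem_smul_top_of_tmul_eq_zero {Λ F : Type*} [CommRing Λ] [IsLocalRing Λ] [AddCommGroup F]
    [Module Λ F] (w : F) (hw : (1 : ResidueField Λ) ⊗ₜ[Λ] w = 0) :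
    w ∈ (maximalIdeal Λ) • (⊤ : Submodule Λ F) := by
  have h := congrArg (TensorProduct.quotTensorEquivQuotSMul F (maximalIdeal Λ)) hw
  have h2 : (TensorProduct.quotTensorEquivQuotSMul F (maximalIdeal Λ))
      ((1 : ResidueField Λ) ⊗ₜ[Λ] w) = Submodule.Quotient.mk w :=
    TensorProduct.quotTensorEquivQuotSMul_mk_one_tmul (maximalIdeal Λ) w
  have h3 : (Submodule.Quotient.mk w : F ⧸ (maximalIdeal Λ) • (⊤ : Submodule Λ F)) = 0 :=
    h2.symm.trans (h.trans (map_zero _))
  exact (Submodule.Quotient.mk_eq_zero _).1 h3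

/-- Selecting rows: a finitely generated submodule of a finite free module over a local ring with
projective quotient is generated by a subfamily whose reductions are linearly independent. -/
theorem exists_rows_span {Λ F : Type*} [CommRing Λ] [IsLocalRing Λ] [AddCommGroup F] [Module Λ F]
    {m : ℕ} (z : Fin m → F)
    (hproj : Module.Projective Λ (F ⧸ Submodule.span Λ (Set.range z))) :
    ∃ (c : ℕ) (rows : Fin c ↪ Fin m),
      LinearIndependent (ResidueField Λ) (fun j => (1 : ResidueField Λ) ⊗ₜ[Λ] z (rows j)) ∧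
      Submodule.span Λ (Set.range z) ≤ Submodule.span Λ (Set.range (z ∘ rows)) := by
  classical
  set N := Submodule.span Λ (Set.range z) with hN
  obtain ⟨σ, hσ⟩ := Module.projective_lifting_property N.mkQ LinearMap.id N.mkQ_surjective
  let ρ : F →ₗ[Λ] F := LinearMap.id - σ ∘ₗ N.mkQ
  have hρN : ∀ y, ρ y ∈ N := by
    intro y
    rw [← Submodule.ker_mkQ N, LinearMap.mem_ker]
    simp only [ρ, LinearMap.sub_apply, LinearMap.id_apply, LinearMap.comp_apply, map_sub]
    have := LinearMap.congr_fun hσ (N.mkQ y)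
    simp only [LinearMap.comp_apply, LinearMap.id_apply] at this
    rw [this, sub_self]
  have hρid : ∀ y ∈ N, ρ y = y := by
    intro y hy
    simp only [ρ, LinearMap.sub_apply, LinearMap.id_apply, LinearMap.comp_apply]
    rw [Submodule.mkQ_apply, (Submodule.Quotient.mk_eq_zero N).2 hy, map_zero, sub_zero]
  let v : Fin m → ResidueField Λ ⊗[Λ] F := fun ℓ => 1 ⊗ₜ z ℓ
  obtain ⟨κ', a, ha_inj, hspan, hli⟩ := exists_linearIndependent' (ResidueField Λ) v
  haveI : Finite κ' := Finite.of_injective a ha_inj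
  haveI : Fintype κ' := Fintype.ofFinite κ'
  let e : Fin (Fintype.card κ') ≃ κ' := (Fintype.equivFin κ').symm
  let rows : Fin (Fintype.card κ') ↪ Fin m := ⟨a ∘ e, ha_inj.comp e.injective⟩
  have hli' : LinearIndependent (ResidueField Λ) (v ∘ rows) := hli.comp e e.injective
  have hspan' : Submodule.span (ResidueField Λ) (Set.range (v ∘ rows)) =
      Submodule.span (ResidueField Λ) (Set.range v) := by
    rw [← hspan]
    congr 1
    change Set.range ((v ∘ a) ∘ e) = _
    rw [Set.range_comp, e.surjective.range_eq, Set.image_univ]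
  refine ⟨Fintype.card κ', rows, hli', ?_⟩
  refine Submodule.le_of_le_smul_of_le_jacobson_bot (I := maximalIdeal Λ)
    (Submodule.fg_span (Set.finite_range z)) (IsLocalRing.maximalIdeal_le_jacobson _) ?_
  intro y hy
  -- `1 ⊗ y` lies in the span of the `v ∘ rows`
  have h1 : (1 : ResidueField Λ) ⊗ₜ[Λ] y ∈
      Submodule.span (ResidueField Λ) (Set.range (v ∘ rows)) := by
    rw [hspan']
    refine Submodule.span_induction ?_ ?_ ?_ ?_ hy
    · rintro _ ⟨ℓ, rfl⟩; exact Submodule.subset_span ⟨ℓ, rfl⟩
    · rw [TensorProduct.tmul_zero]; exact zero_mem _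
    · intro x y _ _ hx hy
      rw [TensorProduct.tmul_add]; exact add_mem hx hy
    · intro r x _ hx
      have : (1 : ResidueField Λ) ⊗ₜ[Λ] (r • x) =
          (algebraMap Λ (ResidueField Λ) r) • ((1 : ResidueField Λ) ⊗ₜ[Λ] x) := by
        rw [TensorProduct.tmul_smul, algebraMap_smul]
      rw [this]
      exact Submodule.smul_mem _ _ hx
  obtain ⟨cc, hcc⟩ := (Submodule.mem_span_range_iff_exists_fun (ResidueField Λ)).1 h1
  choose lam hlam using fun j => residue_surjective (R := Λ) (cc j)
  set w := y - ∑ j, lam j • z (rows j) with hw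
  have hwN : w ∈ N := by
    refine sub_mem hy (sum_mem fun j _ => Submodule.smul_mem _ _ (Submodule.subset_span ⟨_, rfl⟩))
  have hw0 : (1 : ResidueField Λ) ⊗ₜ[Λ] w = 0 := by
    rw [hw, TensorProduct.tmul_sub, ← hcc, TensorProduct.tmul_sum, sub_eq_zero]
    refine Finset.sum_congr rfl fun j _ => ?_
    rw [TensorProduct.tmul_smul, ← algebraMap_smul (ResidueField Λ) (lam j), ← hlam j]
    rfl
  have hwm := mem_smul_top_of_tmul_eq_zero w hw0
  have hwmN : w ∈ (maximalIdeal Λ) • N := by
    rw [← hρid w hwN]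
    refine Submodule.smul_induction_on hwm ?_ ?_
    · intro r hr x _
      rw [map_smul]
      exact Submodule.smul_mem_smul hr (hρN x)
    · intro x y hx hy
      rw [map_add]; exact add_mem hx hy
  have : y = ∑ j, lam j • z (rows j) + w := by rw [hw]; abel
  rw [this]
  exact Submodule.add_mem_sup
    (sum_mem fun j _ => Submodule.smul_mem _ _ (Submodule.subset_span ⟨j, rfl⟩)) hwmN

theorem baseChange_cc_tmul_mk' {R A : Type u} [CommRing R] [CommRing A] [Algebra R A]
    (E : Algebra.Extension.{u} R A) (T : Type u) [CommRing T] [Algebra A T] {n : ℕ}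
    (b : Module.Basis (Fin n) E.Ring Ω[E.Ring⁄R])
    (x : E.ker) (c : Fin n → E.Ring) (hx : D R E.Ring (x : E.Ring) = ∑ i, c i • b i) :
    (E.cotangentComplex.baseChange T) ((1 : T) ⊗ₜ[A] Algebra.Extension.Cotangent.mk x) =
      ∑ i, (algebraMap A T (algebraMap E.Ring A (c i))) •
        ((b.baseChange A).baseChange T) i := by
  rw [LinearMap.baseChange_tmul, Algebra.Extension.cotangentComplex_mk, hx,
    TensorProduct.tmul_sum, TensorProduct.tmul_sum]
  refine Finset.sum_congr rfl fun i _ => ?_
  rw [Module.Basis.baseChange_apply, Module.Basis.baseChange_apply, TensorProduct.tmul_smul,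
    ← algebraMap_smul A (c i) ((1 : A) ⊗ₜ[E.Ring] b i), TensorProduct.tmul_smul,
    ← algebraMap_smul T (algebraMap E.Ring A (c i))]

/-- **Lemma N**: selecting relations and a unit minor over a local ring `Λ` over which the
differentials become projective. -/
theorem lemmaN {R A : Type u} [CommRing R] [CommRing A] [Algebra R A]
    (E : Algebra.Extension.{u} R A) {Λ : Type u} [CommRing Λ] [IsLocalRing Λ] [Algebra A Λ]
    {n m : ℕ} (b : Module.Basis (Fin n) E.Ring Ω[E.Ring⁄R]) (g : Fin m → E.Ring)
    (hg : Ideal.span (Set.range g) = E.ker)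
    (d : Fin m → Fin n → E.Ring) (hd : ∀ ℓ, D R E.Ring (g ℓ) = ∑ i, d ℓ i • b i)
    (hproj : Module.Projective Λ (Λ ⊗[A] Ω[A⁄R])) :
    ∃ (c : ℕ) (rows : Fin c ↪ Fin m) (cols : Fin c ↪ Fin n),
      IsUnit (Matrix.det (Matrix.of fun j k : Fin c =>
        algebraMap A Λ (algebraMap E.Ring A (d (rows j) (cols k))))) ∧
      ∀ ℓ, ∃ lam : Fin c → Λ, ∀ i, algebraMap A Λ (algebraMap E.Ring A (d ℓ i)) =
        ∑ j, lam j * algebraMap A Λ (algebraMap E.Ring A (d (rows j) i)) := by
  classical
  have hgk : ∀ ℓ, g ℓ ∈ E.ker := fun ℓ => hg.le (Ideal.subset_span ⟨ℓ, rfl⟩)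
  let mm : Fin m → E.Cotangent := fun ℓ => Algebra.Extension.Cotangent.mk ⟨g ℓ, hgk ℓ⟩
  have hmm : Submodule.span A (Set.range mm) = ⊤ :=
    Algebra.Extension.Cotangent.span_eq_top_of_span_eq_ker g hg
  let β : Module.Basis (Fin n) Λ (Λ ⊗[A] E.CotangentSpace) := (b.baseChange A).baseChange Λ
  let z : Fin m → Λ ⊗[A] E.CotangentSpace :=
    fun ℓ => (E.cotangentComplex.baseChange Λ) ((1 : Λ) ⊗ₜ[A] mm ℓ)
  have hz : ∀ ℓ, z ℓ = ∑ i, (algebraMap A Λ (algebraMap E.Ring A (d ℓ i))) • β i :=
    fun ℓ => baseChange_cc_tmul_mk' E Λ b ⟨g ℓ, hgk ℓ⟩ (d ℓ) (hd ℓ)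
  have hzrepr : ∀ ℓ i, β.repr (z ℓ) i = algebraMap A Λ (algebraMap E.Ring A (d ℓ i)) := by
    intro ℓ i
    rw [hz, map_sum, Finsupp.finsetSum_apply]
    simp only [map_smul, Module.Basis.repr_self, Finsupp.smul_apply, Finsupp.single_apply,
      smul_eq_mul, mul_ite, mul_one, mul_zero, Finset.sum_ite_eq', Finset.mem_univ, if_true]
  -- the span of the `z ℓ` is the kernel of the surjection onto `Λ ⊗ Ω`
  have hexact : Function.Exact (E.cotangentComplex.baseChange Λ) (E.toKaehler.baseChange Λ) := by
    have h1 := lTensor_exact Λ E.exact_cotangentComplex_toKaehler E.toKaehler_surjective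
    intro y
    have := h1 y
    simpa [LinearMap.baseChange_eq_ltensor] using this
  have hsurj : Function.Surjective (E.toKaehler.baseChange Λ) := by
    have := LinearMap.lTensor_surjective Λ E.toKaehler_surjective
    simpa [LinearMap.baseChange_eq_ltensor] using this
  have hrange : Submodule.span Λ (Set.range z) =
      LinearMap.ker (E.toKaehler.baseChange Λ) := by
    rw [hexact.linearMap_ker_eq]
    apply le_antisymm
    · rw [Submodule.span_le]
      rintro _ ⟨ℓ, rfl⟩
      exact ⟨_, rfl⟩
    · rintro _ ⟨y, rfl⟩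
      induction y using TensorProduct.induction_on with
      | zero => rw [map_zero]; exact zero_mem _
      | add x y hx hy => rw [map_add]; exact add_mem hx hy
      | tmul t x =>
        have hx : x ∈ Submodule.span A (Set.range mm) := by rw [hmm]; trivial
        refine Submodule.span_induction ?_ ?_ ?_ ?_ hx
        · rintro _ ⟨ℓ, rfl⟩
          have : t ⊗ₜ[A] mm ℓ = t • ((1 : Λ) ⊗ₜ[A] mm ℓ) := by
            rw [TensorProduct.smul_tmul', smul_eq_mul, mul_one]
          rw [this, map_smul]
          exact Submodule.smul_mem _ _ (Submodule.subset_span ⟨ℓ, rfl⟩)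
        · rw [TensorProduct.tmul_zero, map_zero]; exact zero_mem _
        · intro x y _ _ hx hy
          rw [TensorProduct.tmul_add, map_add]; exact add_mem hx hy
        · intro a x _ hx
          have : t ⊗ₜ[A] (a • x) = (algebraMap A Λ a) • (t ⊗ₜ[A] x) := by
            rw [TensorProduct.tmul_smul, algebraMap_smul]
          rw [this, map_smul]
          exact Submodule.smul_mem _ _ hx
  have hproj' : Module.Projective Λ
      ((Λ ⊗[A] E.CotangentSpace) ⧸ Submodule.span Λ (Set.range z)) := by
    rw [hrange]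
    exact Module.Projective.of_equiv
      ((E.toKaehler.baseChange Λ).quotKerEquivOfSurjective hsurj).symm
  obtain ⟨c, rows, hli, hspan⟩ := exists_rows_span z hproj'
  -- the Jacobian matrix mod the maximal ideal
  let J : Matrix (Fin c) (Fin n) (ResidueField Λ) :=
    Matrix.of fun j i => residue Λ (algebraMap A Λ (algebraMap E.Ring A (d (rows j) i)))
  have hJ : LinearIndependent (ResidueField Λ) J.row := by
    refine S2108.linearIndependent_row_of (β.baseChange (ResidueField Λ)) _ J hli (fun j => ?_)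
    rw [hz, TensorProduct.tmul_sum]
    refine Finset.sum_congr rfl fun i _ => ?_
    have e1 : (β.baseChange (ResidueField Λ)) i = (1 : ResidueField Λ) ⊗ₜ[Λ] β i :=
      Module.Basis.baseChange_apply _ _ _
    rw [e1, TensorProduct.tmul_smul,
      ← algebraMap_smul (ResidueField Λ) (algebraMap A Λ (algebraMap E.Ring A (d (rows j) i)))]
    rfl
  obtain ⟨cols, hcols⟩ := S2108.exists_det_submatrix_ne_zero J hJ
  refine ⟨c, rows, cols, ?_, ?_⟩
  · have h1 : residue Λ (Matrix.det (Matrix.of fun j k : Fin c =>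
        algebraMap A Λ (algebraMap E.Ring A (d (rows j) (cols k))))) =
        (J.submatrix id cols).det := by
      rw [RingHom.map_det]
      congr 1
    by_contra hnu
    apply hcols
    rw [← h1]
    exact (residue_eq_zero_iff _).2 ((mem_maximalIdeal _).2 hnu)
  · intro ℓ
    have h1 : z ℓ ∈ Submodule.span Λ (Set.range (z ∘ rows)) :=
      hspan (Submodule.subset_span ⟨ℓ, rfl⟩)
    obtain ⟨lam, hlam⟩ := (Submodule.mem_span_range_iff_exists_fun Λ).1 h1
    refine ⟨lam, fun i => ?_⟩
    rw [← hzrepr ℓ i, ← hlam, map_sum, Finsupp.finsetSum_apply]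
    refine Finset.sum_congr rfl fun j _ => ?_
    rw [map_smul, Finsupp.smul_apply, smul_eq_mul]
    congr 1
    exact hzrepr (rows j) i

/-- **Lemma M**: at a smooth local ring, prescribed relations generate the kernel modulo its
square as soon as the remaining Jacobian rows depend on theirs over some field. -/
theorem lemmaM {R S : Type u} [CommRing R] [CommRing S] [IsLocalRing S] [Algebra R S]
    (E : Algebra.Extension.{u} R S) [Algebra.FormallySmooth R E.Ring] [Algebra.FormallySmooth R S]
    {n m : ℕ} (b : Module.Basis (Fin n) E.Ring Ω[E.Ring⁄R]) (g : Fin m → E.Ring)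
    (hg : Ideal.span (Set.range g) = E.ker)
    (d : Fin m → Fin n → E.Ring) (hd : ∀ ℓ, D R E.Ring (g ℓ) = ∑ i, d ℓ i • b i)
    {K : Type*} [Field K] (χ : S →+* K) (hχ : ∀ x ∈ maximalIdeal S, χ x = 0)
    {c : ℕ} (rows : Fin c → Fin m)
    (hrel : ∀ ℓ, ∃ lam : Fin c → K, ∀ i, χ (algebraMap E.Ring S (d ℓ i)) =
      ∑ j, lam j * χ (algebraMap E.Ring S (d (rows j) i))) :
    ∀ ℓ, g ℓ ∈ Ideal.span (Set.range (g ∘ rows)) ⊔ Ideal.span (Set.range g) ^ 2 := by
  classical
  haveI : Module.Free E.Ring Ω[E.Ring⁄R] := Module.Free.of_basis b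
  haveI : Module.Finite E.Ring Ω[E.Ring⁄R] := Module.Finite.of_basis b
  have hfg : E.ker.FG := by rw [← hg]; exact Submodule.fg_span (Set.finite_range g)
  have hinj := (Algebra.FormallySmooth.iff_injective_lTensor_residueField E hfg).1
    ‹Algebra.FormallySmooth R S›
  have hinj' : Function.Injective (E.cotangentComplex.baseChange (ResidueField S)) := by
    have : (E.cotangentComplex.baseChange (ResidueField S) :
        ResidueField S ⊗[S] E.Cotangent → ResidueField S ⊗[S] E.CotangentSpace) =
        E.cotangentComplex.lTensor (ResidueField S) := LinearMap.baseChange_eq_ltensor _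
    rw [this]; exact hinj
  have hgk : ∀ ℓ, g ℓ ∈ E.ker := fun ℓ => hg.le (Ideal.subset_span ⟨ℓ, rfl⟩)
  let mm : Fin m → E.Cotangent := fun ℓ =>
    Algebra.Extension.Cotangent.mk ⟨g ℓ, hgk ℓ⟩
  have hmm : Submodule.span S (Set.range mm) = ⊤ :=
    Algebra.Extension.Cotangent.span_eq_top_of_span_eq_ker g hg
  haveI : Module.Finite S E.Cotangent :=
    ⟨by rw [← hmm]; exact Submodule.fg_span (Set.finite_range mm)⟩
  let v : Fin m → ResidueField S ⊗[S] E.Cotangent := fun ℓ => 1 ⊗ₜ mm ℓ
  have hv : Submodule.span (ResidueField S) (Set.range v) = ⊤ :=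
    S2108.span_tmul_eq_top_of_span_eq_top mm hmm
  let β : Module.Basis (Fin n) (ResidueField S) (ResidueField S ⊗[S] E.CotangentSpace) :=
    (b.baseChange S).baseChange (ResidueField S)
  have hΦ : ∀ ℓ, (E.cotangentComplex.baseChange (ResidueField S)) (v ℓ) =
      ∑ i, (residue S (algebraMap E.Ring S (d ℓ i))) • β i :=
    fun ℓ => S2108.baseChange_cc_tmul_mk E b ⟨g ℓ, hgk ℓ⟩ (d ℓ) (hd ℓ)
  -- every `v ℓ` lies in the span of the chosen ones
  have hmem : ∀ ℓ, v ℓ ∈ Submodule.span (ResidueField S) (Set.range (v ∘ rows)) := by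
    intro ℓ
    by_contra hnot
    set W := Submodule.span (ResidueField S) (Set.range (v ∘ rows)) with hW
    have hnot' : (E.cotangentComplex.baseChange (ResidueField S)) (v ℓ) ∉
        W.map (E.cotangentComplex.baseChange (ResidueField S)) := by
      rintro ⟨y, hy, hyv⟩
      exact hnot (hinj' hyv ▸ hy)
    obtain ⟨θ, hθ1, hθ2⟩ := Submodule.exists_dual_map_eq_bot_of_notMem hnot' inferInstance
    have hθW : ∀ j, θ ((E.cotangentComplex.baseChange (ResidueField S)) (v (rows j))) = 0 := by
      intro j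
      have : θ ((E.cotangentComplex.baseChange (ResidueField S)) (v (rows j))) ∈
          (W.map (E.cotangentComplex.baseChange (ResidueField S))).map θ :=
        ⟨_, ⟨_, Submodule.subset_span ⟨j, rfl⟩, rfl⟩, rfl⟩
      rw [hθ2] at this
      exact (Submodule.mem_bot _).1 this
    choose t ht using fun i => residue_surjective (R := S) (θ (β i))
    have hres : ∀ ℓ', residue S (∑ i, t i * algebraMap E.Ring S (d ℓ' i)) =
        θ ((E.cotangentComplex.baseChange (ResidueField S)) (v ℓ')) := by
      intro ℓ'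
      rw [hΦ, map_sum, map_sum]
      refine Finset.sum_congr rfl fun i _ => ?_
      rw [map_mul, ht, map_smul, smul_eq_mul, mul_comm]
    obtain ⟨lam, hlam⟩ := hrel ℓ
    have hu : χ (∑ i, t i * algebraMap E.Ring S (d ℓ i)) ≠ 0 := by
      have hunit : IsUnit (∑ i, t i * algebraMap E.Ring S (d ℓ i)) := by
        rw [← IsLocalRing.notMem_maximalIdeal, ← residue_eq_zero_iff, hres]
        exact hθ1
      exact (hunit.map χ).ne_zero
    apply hu
    have hw : ∀ j, χ (∑ i, t i * algebraMap E.Ring S (d (rows j) i)) = 0 := by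
      intro j
      apply hχ
      rw [← residue_eq_zero_iff, hres, hθW]
    calc χ (∑ i, t i * algebraMap E.Ring S (d ℓ i))
        = ∑ i, χ (t i) * ∑ j, lam j * χ (algebraMap E.Ring S (d (rows j) i)) := by
          rw [map_sum]
          refine Finset.sum_congr rfl fun i _ => ?_
          rw [map_mul, hlam i]
      _ = ∑ j, lam j * χ (∑ i, t i * algebraMap E.Ring S (d (rows j) i)) := by
          simp only [Finset.mul_sum, map_sum, map_mul]
          rw [Finset.sum_comm]
          refine Finset.sum_congr rfl fun j _ => Finset.sum_congr rfl fun i _ => ?_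
          ring
      _ = 0 := by simp only [hw, mul_zero, Finset.sum_const_zero]
  have hspan' : Submodule.span (ResidueField S) (Set.range (v ∘ rows)) = ⊤ := by
    rw [eq_top_iff, ← hv, Submodule.span_le]
    rintro _ ⟨ℓ, rfl⟩
    exact hmem ℓ
  have hrows : Submodule.span S (Set.range (mm ∘ rows)) = ⊤ :=
    S2108.span_eq_top_of_span_tmul_eq_top (mm ∘ rows) hspan'
  exact fun ℓ => S2108.mem_sup_sq_of_span_eq_top E g hg rows hrows ℓ

/-- functionals dual to chosen relations, from an invertible Jacobian minor. -/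
theorem exists_functionals {k S : Type u} [CommRing k] [CommRing S] [Algebra k S]
    (E : Algebra.Extension.{u} k S) {n c : ℕ} (b : Module.Basis (Fin n) E.Ring Ω[E.Ring⁄k])
    (f : Fin c → E.ker) (d : Fin c → Fin n → E.Ring)
    (hd : ∀ j, D k E.Ring (f j : E.Ring) = ∑ i, d j i • b i)
    (cols : Fin c → Fin n)
    (hdet : IsUnit (Matrix.det (Matrix.of fun j k' : Fin c =>
      algebraMap E.Ring S (d j (cols k'))))) :
    ∃ ℓ : Fin c → (E.CotangentSpace →ₗ[S] S),
      ∀ i j, ℓ i (E.cotangentComplex (.mk (f j))) = if i = j then 1 else 0 := by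
  classical
  let β : Module.Basis (Fin n) S E.CotangentSpace := b.baseChange S
  set M : Matrix (Fin c) (Fin c) S := Matrix.of fun j k' : Fin c =>
      algebraMap E.Ring S (d j (cols k')) with hM
  have hMN : M * M⁻¹ = 1 := Matrix.mul_nonsing_inv M hdet
  have hcc : ∀ j, E.cotangentComplex (.mk (f j)) = ∑ i, algebraMap E.Ring S (d j i) • β i := by
    intro j
    rw [Algebra.Extension.cotangentComplex_mk, hd, TensorProduct.tmul_sum]
    refine Finset.sum_congr rfl fun i _ => ?_
    rw [Module.Basis.baseChange_apply, TensorProduct.tmul_smul,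
      ← algebraMap_smul S (d j i) ((1 : S) ⊗ₜ[E.Ring] b i)]
  refine ⟨fun i => ∑ k', M⁻¹ k' i • β.coord (cols k'), fun i j => ?_⟩
  rw [hcc, LinearMap.sum_apply]
  have h1 : ∀ k', (M⁻¹ k' i • β.coord (cols k')) (∑ i', algebraMap E.Ring S (d j i') • β i') =
      M j k' * M⁻¹ k' i := by
    intro k'
    rw [LinearMap.smul_apply, map_sum]
    simp only [map_smul, Module.Basis.coord_apply, Module.Basis.repr_self, Finsupp.single_apply,
      smul_eq_mul, mul_ite, mul_one, mul_zero, Finset.sum_ite_eq', Finset.mem_univ, if_true]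
    rw [mul_comm]; rfl
  rw [Finset.sum_congr rfl fun k' _ => h1 k']
  have := congrFun (congrFun hMN j) i
  rw [Matrix.mul_apply, Matrix.one_apply] at this
  rw [this]
  by_cases h : i = j
  · subst h; simp
  · rw [if_neg h, if_neg (Ne.symm h)]

/-- **Lemma B**: smoothness from dual functionals, given that the relations generate the kernel
generically. -/
theorem formallySmooth_of_functionals {k S : Type u} [CommRing k] [CommRing S] [Algebra k S]
    (E : Algebra.Extension.{u} k S) [IsLocalRing S] [IsRegularLocalRing E.Ring]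
    [Algebra.FormallySmooth k E.Ring] {c : ℕ} (f : Fin c → E.ker)
    (ℓ : Fin c → (E.CotangentSpace →ₗ[S] S))
    (hℓ : ∀ i j, ℓ i (E.cotangentComplex (.mk (f j))) = if i = j then 1 else 0)
    (p : PrimeSpectrum S)
    (h4 : ∀ b ∈ E.ker, ∃ s : E.Ring, algebraMap E.Ring S s ∉ p.asIdeal ∧
      s * b ∈ Ideal.span (Set.range fun i => (f i : E.Ring)) ⊔ E.ker ^ 2) :
    Algebra.FormallySmooth k S := by
  classical
  have hli := JacobianCore.linearIndependent_toCotangent E f ℓ hℓ
  set J : Ideal E.Ring := Ideal.span (Set.range fun i => (f i : E.Ring)) with hJ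
  have hreg : IsRegularLocalRing (E.Ring ⧸ J) :=
    JacobianCore.isRegularLocalRing_quotient_of_linearIndependent
      (fun i => (⟨(f i : E.Ring), JacobianCore.ker_le_maximalIdeal E (f i).2⟩ :
        maximalIdeal E.Ring)) hli
  haveI : IsDomain (E.Ring ⧸ J) := Groth.Agent.S0558.result _
  have hJprime : J.IsPrime := (Ideal.Quotient.isDomain_iff_prime J).mp inferInstance
  have hJker : J ≤ E.ker := Ideal.span_le.mpr (by rintro _ ⟨i, rfl⟩; exact (f i).2)
  have h5 : E.ker ≤ J := JacobianCore.ker_le_of_forall_exists_mul_mem E p J hJprime hJker h4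
  have hJeq : Ideal.span (Set.range fun i => (f i : E.Ring)) = E.ker := le_antisymm hJker h5
  have hspan := Algebra.Extension.Cotangent.span_eq_top_of_span_eq_ker
    (fun i => (f i : E.Ring)) hJeq
  rw [Algebra.Extension.formallySmooth_iff_split_injection E]
  refine ⟨∑ i, (ℓ i).smulRight (Algebra.Extension.Cotangent.mk (f i)), ?_⟩
  refine LinearMap.ext_on_range hspan fun j => ?_
  rw [LinearMap.comp_apply, LinearMap.id_apply, LinearMap.sum_apply]
  have h1 : ∀ i, ((ℓ i).smulRight (Algebra.Extension.Cotangent.mk (f i)))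
      (E.cotangentComplex (Algebra.Extension.Cotangent.mk
        ⟨(f j : E.Ring), hJeq.le (Ideal.subset_span ⟨j, rfl⟩)⟩)) =
      (if i = j then (1 : S) else 0) • Algebra.Extension.Cotangent.mk (f i) := by
    intro i
    rw [LinearMap.smulRight_apply]
    congr 1
    exact hℓ i j
  rw [Finset.sum_congr rfl fun i _ => h1 i]
  simp

/-- abstract form at the special point -/
theorem formallySmooth_of_minor_aux {k S : Type u} [CommRing k] [CommRing S] [Algebra k S]
    (E : Algebra.Extension.{u} k S) [IsLocalRing S] [IsRegularLocalRing E.Ring]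
    [Algebra.FormallySmooth k E.Ring] {n m c : ℕ} (b : Module.Basis (Fin n) E.Ring Ω[E.Ring⁄k])
    (g : Fin m → E.Ring) (hg : Ideal.span (Set.range g) = E.ker)
    (d : Fin m → Fin n → E.Ring) (hd : ∀ ℓ, D k E.Ring (g ℓ) = ∑ i, d ℓ i • b i)
    (rows : Fin c → Fin m) (cols : Fin c → Fin n)
    (hdet : IsUnit (Matrix.det (Matrix.of fun j k' : Fin c =>
      algebraMap E.Ring S (d (rows j) (cols k')))))
    (p : Ideal S) [hp : p.IsPrime]
    (h4 : ∀ ℓ, ∃ s : E.Ring, algebraMap E.Ring S s ∉ p ∧
      s * g ℓ ∈ Ideal.span (Set.range (g ∘ rows)) ⊔ Ideal.span (Set.range g) ^ 2) :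
    Algebra.FormallySmooth k S := by
  classical
  have hgk : ∀ ℓ, g ℓ ∈ E.ker := fun ℓ => hg.le (Ideal.subset_span ⟨ℓ, rfl⟩)
  let f : Fin c → E.ker := fun j => ⟨g (rows j), hgk _⟩
  obtain ⟨ℓ, hℓ⟩ := exists_functionals E b f (fun j => d (rows j)) (fun j => hd (rows j)) cols hdet
  refine formallySmooth_of_functionals E f ℓ hℓ ⟨p, hp⟩ ?_
  choose t ht1 ht2 using h4
  have hrange : (Set.range fun i => (f i : E.Ring)) = Set.range (g ∘ rows) := rfl
  rw [hrange, ← hg]
  intro x hx
  refine ⟨∏ ℓ, t ℓ, ?_, ?_⟩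
  · intro h
    rw [map_prod] at h
    obtain ⟨ℓ, _, hℓ⟩ := (Ideal.IsPrime.prod_mem_iff).1 h
    exact ht1 ℓ hℓ
  · refine Submodule.span_induction ?_ ?_ ?_ ?_ hx
    · rintro _ ⟨ℓ, rfl⟩
      rw [← Finset.mul_prod_erase Finset.univ t (Finset.mem_univ ℓ)]
      have : (t ℓ * ∏ x ∈ Finset.univ.erase ℓ, t x) * g ℓ =
          (∏ x ∈ Finset.univ.erase ℓ, t x) * (t ℓ * g ℓ) := by ring
      rw [this]
      exact Ideal.mul_mem_left _ _ (ht2 ℓ)
    · rw [mul_zero]; exact zero_mem _
    · intro x y _ _ hx hy
      rw [mul_add]; exact add_mem hx hy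
    · intro r x _ hx
      rw [smul_eq_mul, mul_left_comm]
      exact Ideal.mul_mem_left _ _ hx

/-- surjection form -/
theorem formallySmooth_of_minor {k P' S : Type u} [CommRing k] [CommRing P'] [CommRing S]
    [Algebra k P'] [Algebra k S] [Algebra P' S] [IsScalarTower k P' S] [IsLocalRing S]
    [IsRegularLocalRing P'] [Algebra.FormallySmooth k P']
    (hsurj : Function.Surjective (algebraMap P' S))
    {n m c : ℕ} (b : Module.Basis (Fin n) P' Ω[P'⁄k])
    (g : Fin m → P') (hg : Ideal.span (Set.range g) = RingHom.ker (algebraMap P' S))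
    (d : Fin m → Fin n → P') (hd : ∀ ℓ, D k P' (g ℓ) = ∑ i, d ℓ i • b i)
    (rows : Fin c → Fin m) (cols : Fin c → Fin n)
    (hdet : IsUnit (Matrix.det (Matrix.of fun j k' : Fin c =>
      algebraMap P' S (d (rows j) (cols k')))))
    (p : Ideal S) [hp : p.IsPrime]
    (h4 : ∀ ℓ, ∃ s : P', algebraMap P' S s ∉ p ∧
      s * g ℓ ∈ Ideal.span (Set.range (g ∘ rows)) ⊔ Ideal.span (Set.range g) ^ 2) :
    Algebra.FormallySmooth k S :=
  formallySmooth_of_minor_aux (k := k) (S := S)
    { Ring := P', σ := Function.surjInv hsurj, algebraMap_σ := Function.surjInv_eq hsurj }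
    b g hg d hd rows cols hdet p h4

/-- Lemma N, surjection form. -/
theorem lemmaN' {R P' A : Type u} [CommRing R] [CommRing P'] [CommRing A] [Algebra R P']
    [Algebra R A] [Algebra P' A] [IsScalarTower R P' A]
    (hsurj : Function.Surjective (algebraMap P' A)) {Λ : Type u} [CommRing Λ] [IsLocalRing Λ]
    [Algebra A Λ] {n m : ℕ} (b : Module.Basis (Fin n) P' Ω[P'⁄R]) (g : Fin m → P')
    (hg : Ideal.span (Set.range g) = RingHom.ker (algebraMap P' A))
    (d : Fin m → Fin n → P') (hd : ∀ ℓ, D R P' (g ℓ) = ∑ i, d ℓ i • b i)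
    (hproj : Module.Projective Λ (Λ ⊗[A] Ω[A⁄R])) :
    ∃ (c : ℕ) (rows : Fin c ↪ Fin m) (cols : Fin c ↪ Fin n),
      IsUnit (Matrix.det (Matrix.of fun j k : Fin c =>
        algebraMap A Λ (algebraMap P' A (d (rows j) (cols k))))) ∧
      ∀ ℓ, ∃ lam : Fin c → Λ, ∀ i, algebraMap A Λ (algebraMap P' A (d ℓ i)) =
        ∑ j, lam j * algebraMap A Λ (algebraMap P' A (d (rows j) i)) :=
  lemmaN (R := R) (A := A)
    { Ring := P', σ := Function.surjInv hsurj, algebraMap_σ := Function.surjInv_eq hsurj }
    b g hg d hd hproj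

/-- Lemma M, surjection form. -/
theorem lemmaM' {R P' S : Type u} [CommRing R] [CommRing P'] [CommRing S] [IsLocalRing S]
    [Algebra R P'] [Algebra R S] [Algebra P' S] [IsScalarTower R P' S]
    [Algebra.FormallySmooth R P'] [Algebra.FormallySmooth R S]
    (hsurj : Function.Surjective (algebraMap P' S))
    {n m : ℕ} (b : Module.Basis (Fin n) P' Ω[P'⁄R]) (g : Fin m → P')
    (hg : Ideal.span (Set.range g) = RingHom.ker (algebraMap P' S))
    (d : Fin m → Fin n → P') (hd : ∀ ℓ, D R P' (g ℓ) = ∑ i, d ℓ i • b i)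
    {K : Type*} [Field K] (χ : S →+* K) (hχ : ∀ x ∈ maximalIdeal S, χ x = 0)
    {c : ℕ} (rows : Fin c → Fin m)
    (hrel : ∀ ℓ, ∃ lam : Fin c → K, ∀ i, χ (algebraMap P' S (d ℓ i)) =
      ∑ j, lam j * χ (algebraMap P' S (d (rows j) i))) :
    ∀ ℓ, g ℓ ∈ Ideal.span (Set.range (g ∘ rows)) ⊔ Ideal.span (Set.range g) ^ 2 :=
  lemmaM (R := R) (S := S)
    { Ring := P', σ := Function.surjInv hsurj, algebraMap_σ := Function.surjInv_eq hsurj }
    b g hg d hd χ hχ rows hrel

/-- Step 2: at the generic point, the chosen relations generate the relation ideal modulo its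
square, up to a denominator. -/
theorem generic_structure {R A : Type u} [CommRing R] [CommRing A] [Algebra R A] {n m : ℕ}
    (f : Fin m → MvPolynomial (Fin n) R) (φ : MvPolynomial (Fin n) R →ₐ[R] A)
    (hφ : Function.Surjective φ)
    (hker : RingHom.ker φ.toRingHom = Ideal.span (Set.range f)) (q : Ideal A) [q.IsPrime]
    (hsm : Algebra.IsSmoothAt R q)
    {K : Type*} [Field K] (χ₀ : A →+* K) (hχ₀ : RingHom.ker χ₀ = q)
    {c : ℕ} (rows : Fin c → Fin m)
    (hrel : ∀ ℓ, ∃ lam : Fin c → K, ∀ i, χ₀ (φ (pderiv i (f ℓ))) =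
      ∑ j, lam j * χ₀ (φ (pderiv i (f (rows j))))) :
    ∀ ℓ, ∃ t : MvPolynomial (Fin n) R, φ t ∉ q ∧
        t * f ℓ ∈ Ideal.span (Set.range (f ∘ rows)) ⊔ Ideal.span (Set.range f) ^ 2 := by
  classical
  have hψsurj := SurjLoc.locHom_surjective φ.toRingHom q hφ
  have hψker := SurjLoc.ker_locHom φ.toRingHom q hφ
  letI : Algebra (Localization.AtPrime (q.comap φ.toRingHom)) (Localization.AtPrime q) :=
    (SurjLoc.locHom φ.toRingHom q).toAlgebra
  have halg : ∀ x, algebraMap (Localization.AtPrime (q.comap φ.toRingHom))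
      (Localization.AtPrime q) x = SurjLoc.locHom φ.toRingHom q x := fun _ => rfl
  haveI : IsScalarTower R (Localization.AtPrime (q.comap φ.toRingHom))
      (Localization.AtPrime q) := by
    refine IsScalarTower.of_algebraMap_eq fun r => ?_
    rw [halg, IsScalarTower.algebraMap_apply R (MvPolynomial (Fin n) R)
      (Localization.AtPrime (q.comap φ.toRingHom)), SurjLoc.locHom_algebraMap,
      IsScalarTower.algebraMap_apply R A (Localization.AtPrime q)]
    congr 1
    exact (φ.commutes r).symm
  haveI : Algebra.FormallyEtale (MvPolynomial (Fin n) R)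
      (Localization.AtPrime (q.comap φ.toRingHom)) :=
    Algebra.FormallyEtale.of_isLocalization (q.comap φ.toRingHom).primeCompl
  haveI : Algebra.FormallySmooth R (Localization.AtPrime (q.comap φ.toRingHom)) :=
    Algebra.FormallySmooth.comp R (MvPolynomial (Fin n) R) _
  haveI : Algebra.FormallySmooth R (Localization.AtPrime q) := hsm
  have hg : Ideal.span (Set.range fun ℓ => algebraMap (MvPolynomial (Fin n) R)
      (Localization.AtPrime (q.comap φ.toRingHom)) (f ℓ)) =
      RingHom.ker (algebraMap (Localization.AtPrime (q.comap φ.toRingHom))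
        (Localization.AtPrime q)) := by
    change _ = RingHom.ker (SurjLoc.locHom φ.toRingHom q)
    rw [hψker, hker, Ideal.map_span, ← Set.range_comp]
    rfl
  -- the character
  have hunit : ∀ y : q.primeCompl, IsUnit (χ₀ y) := by
    intro y
    rw [isUnit_iff_ne_zero]
    intro h0
    have : (y : A) ∈ RingHom.ker χ₀ := h0
    rw [hχ₀] at this
    exact y.2 this
  let χ : Localization.AtPrime q →+* K := IsLocalization.lift hunit
  have hχ : ∀ x ∈ maximalIdeal (Localization.AtPrime q), χ x = 0 := by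
    intro x hx
    obtain ⟨a, s, rfl⟩ := IsLocalization.exists_mk'_eq q.primeCompl x
    rw [IsLocalization.AtPrime.mk'_mem_maximal_iff (Localization.AtPrime q) q] at hx
    have ha : χ₀ a = 0 := by
      rw [← hχ₀] at hx; exact hx
    change IsLocalization.lift hunit _ = 0
    rw [IsLocalization.lift_mk', ha, zero_mul]
  have hχφ : ∀ p : MvPolynomial (Fin n) R, χ (algebraMap (Localization.AtPrime (q.comap φ.toRingHom))
      (Localization.AtPrime q) (algebraMap (MvPolynomial (Fin n) R)
      (Localization.AtPrime (q.comap φ.toRingHom)) p)) = χ₀ (φ p) := by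
    intro p
    rw [halg, SurjLoc.locHom_algebraMap]
    exact IsLocalization.lift_eq hunit _
  have h2 := lemmaM' (R := R) hψsurj
    (S2108.locBasis (R := R) (Localization.AtPrime (q.comap φ.toRingHom)))
    (fun ℓ => algebraMap (MvPolynomial (Fin n) R)
      (Localization.AtPrime (q.comap φ.toRingHom)) (f ℓ)) hg
    (fun ℓ i => algebraMap (MvPolynomial (Fin n) R)
      (Localization.AtPrime (q.comap φ.toRingHom)) (pderiv i (f ℓ)))
    (fun ℓ => by simp only [S2108.locBasis_apply]; exact S2108.D_algebraMap_eq_sum _ (f ℓ))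
    χ hχ rows (fun ℓ => by
      obtain ⟨lam, hlam⟩ := hrel ℓ
      refine ⟨lam, fun i => ?_⟩
      rw [hχφ, hlam i]
      refine Finset.sum_congr rfl fun j _ => ?_
      rw [hχφ])
  intro ℓ
  have h3 := h2 ℓ
  have hL : Ideal.span (Set.range ((fun ℓ => algebraMap (MvPolynomial (Fin n) R)
        (Localization.AtPrime (q.comap φ.toRingHom)) (f ℓ)) ∘ rows)) ⊔
      Ideal.span (Set.range fun ℓ => algebraMap (MvPolynomial (Fin n) R)
        (Localization.AtPrime (q.comap φ.toRingHom)) (f ℓ)) ^ 2 =
      (Ideal.span (Set.range (f ∘ rows)) ⊔ Ideal.span (Set.range f) ^ 2).map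
        (algebraMap _ (Localization.AtPrime (q.comap φ.toRingHom))) := by
    rw [Ideal.map_sup, Ideal.map_pow, Ideal.map_span, Ideal.map_span, ← Set.range_comp,
      ← Set.range_comp]
    rfl
  rw [hL] at h3
  obtain ⟨t, ht, htL⟩ := S2108.exists_mul_mem_of_algebraMap_mem_map
    (q.comap φ.toRingHom).primeCompl _ (f ℓ) h3
  exact ⟨t, ht, htL⟩

/-- Step 3: smoothness at a specialization where a Jacobian minor stays invertible. -/
theorem smoothAt_of_minor {R A : Type u} [CommRing R] [IsRegularRing R] [CommRing A] [Algebra R A]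
    {n m : ℕ} (f : Fin m → MvPolynomial (Fin n) R) (φ : MvPolynomial (Fin n) R →ₐ[R] A)
    (hφ : Function.Surjective φ)
    (hker : RingHom.ker φ.toRingHom = Ideal.span (Set.range f)) (p q : Ideal A) [p.IsPrime]
    [hqprime : q.IsPrime] (hqp : q ≤ p)
    {c : ℕ} (rows : Fin c → Fin m) (cols : Fin c → Fin n)
    (hminor : φ (Matrix.det (Matrix.of fun j k : Fin c => pderiv (cols k) (f (rows j)))) ∉ p)
    (ht : ∀ ℓ, ∃ t : MvPolynomial (Fin n) R, φ t ∉ q ∧
        t * f ℓ ∈ Ideal.span (Set.range (f ∘ rows)) ⊔ Ideal.span (Set.range f) ^ 2) :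
    Algebra.IsSmoothAt R p := by
  classical
  have hψsurj := SurjLoc.locHom_surjective φ.toRingHom p hφ
  have hψker := SurjLoc.ker_locHom φ.toRingHom p hφ
  letI : Algebra (Localization.AtPrime (p.comap φ.toRingHom)) (Localization.AtPrime p) :=
    (SurjLoc.locHom φ.toRingHom p).toAlgebra
  have halg : ∀ x, algebraMap (Localization.AtPrime (p.comap φ.toRingHom))
      (Localization.AtPrime p) x = SurjLoc.locHom φ.toRingHom p x := fun _ => rfl
  haveI : IsScalarTower R (Localization.AtPrime (p.comap φ.toRingHom))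
      (Localization.AtPrime p) := by
    refine IsScalarTower.of_algebraMap_eq fun r => ?_
    rw [halg, IsScalarTower.algebraMap_apply R (MvPolynomial (Fin n) R)
      (Localization.AtPrime (p.comap φ.toRingHom)), SurjLoc.locHom_algebraMap,
      IsScalarTower.algebraMap_apply R A (Localization.AtPrime p)]
    congr 1
    exact (φ.commutes r).symm
  haveI : Algebra.FormallyEtale (MvPolynomial (Fin n) R)
      (Localization.AtPrime (p.comap φ.toRingHom)) :=
    Algebra.FormallyEtale.of_isLocalization (p.comap φ.toRingHom).primeCompl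
  haveI : Algebra.FormallySmooth R (Localization.AtPrime (p.comap φ.toRingHom)) :=
    Algebra.FormallySmooth.comp R (MvPolynomial (Fin n) R) _
  haveI : IsRegularLocalRing (Localization.AtPrime (p.comap φ.toRingHom)) :=
    IsRegularRing.isRegularLocalRing_localization _
  have hg : Ideal.span (Set.range fun ℓ => algebraMap (MvPolynomial (Fin n) R)
      (Localization.AtPrime (p.comap φ.toRingHom)) (f ℓ)) =
      RingHom.ker (algebraMap (Localization.AtPrime (p.comap φ.toRingHom))
        (Localization.AtPrime p)) := by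
    change _ = RingHom.ker (SurjLoc.locHom φ.toRingHom p)
    rw [hψker, hker, Ideal.map_span, ← Set.range_comp]
    rfl
  have hαφ : ∀ x : MvPolynomial (Fin n) R,
      algebraMap (Localization.AtPrime (p.comap φ.toRingHom)) (Localization.AtPrime p)
        (algebraMap (MvPolynomial (Fin n) R) (Localization.AtPrime (p.comap φ.toRingHom)) x) =
      algebraMap A (Localization.AtPrime p) (φ x) := by
    intro x
    rw [halg, SurjLoc.locHom_algebraMap]
    rfl
  -- the prime `q A_p`
  have hdisj : Disjoint (p.primeCompl : Set A) (q : Set A) :=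
    Set.disjoint_left.mpr fun a ha haq => ha (hqp haq)
  have hq'prime : (q.map (algebraMap A (Localization.AtPrime p))).IsPrime :=
    IsLocalization.isPrime_of_isPrime_disjoint p.primeCompl _ q hqprime hdisj
  have hq'comap := IsLocalization.under_map_of_isPrime_disjoint p.primeCompl
    (Localization.AtPrime p) hqprime hdisj
  refine formallySmooth_of_minor (k := R) hψsurj
    (S2108.locBasis (R := R) (Localization.AtPrime (p.comap φ.toRingHom)))
    (fun ℓ => algebraMap (MvPolynomial (Fin n) R)
      (Localization.AtPrime (p.comap φ.toRingHom)) (f ℓ)) hg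
    (fun ℓ i => algebraMap (MvPolynomial (Fin n) R)
      (Localization.AtPrime (p.comap φ.toRingHom)) (pderiv i (f ℓ)))
    (fun ℓ => by simp only [S2108.locBasis_apply]; exact S2108.D_algebraMap_eq_sum _ (f ℓ))
    rows cols ?_ (q.map (algebraMap A (Localization.AtPrime p))) ?_
  · have : Matrix.det (Matrix.of fun j k' : Fin c =>
        algebraMap (Localization.AtPrime (p.comap φ.toRingHom)) (Localization.AtPrime p)
          (algebraMap (MvPolynomial (Fin n) R) (Localization.AtPrime (p.comap φ.toRingHom))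
            (pderiv (cols k') (f (rows j))))) =
        algebraMap A (Localization.AtPrime p)
          (φ (Matrix.det (Matrix.of fun j k : Fin c => pderiv (cols k) (f (rows j))))) := by
      rw [← hαφ, RingHom.map_det, RingHom.map_det]
      congr 1
    rw [this]
    exact IsLocalization.map_units (Localization.AtPrime p) (⟨_, hminor⟩ : p.primeCompl)
  · intro ℓ
    obtain ⟨t, ht1, ht2⟩ := ht ℓ
    refine ⟨algebraMap _ _ t, ?_, ?_⟩
    · rw [hαφ]
      intro hmem
      apply ht1
      rw [← hq'comap]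
      exact hmem
    · have hL : Ideal.span (Set.range ((fun ℓ => algebraMap (MvPolynomial (Fin n) R)
            (Localization.AtPrime (p.comap φ.toRingHom)) (f ℓ)) ∘ rows)) ⊔
          Ideal.span (Set.range fun ℓ => algebraMap (MvPolynomial (Fin n) R)
            (Localization.AtPrime (p.comap φ.toRingHom)) (f ℓ)) ^ 2 =
          (Ideal.span (Set.range (f ∘ rows)) ⊔ Ideal.span (Set.range f) ^ 2).map
            (algebraMap _ (Localization.AtPrime (p.comap φ.toRingHom))) := by
        rw [Ideal.map_sup, Ideal.map_pow, Ideal.map_span, Ideal.map_span, ← Set.range_comp,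
          ← Set.range_comp]
        rfl
      rw [hL, ← map_mul]
      exact Ideal.mem_map_of_mem _ ht2

open TensorProduct in
/-- Let R ⊆ Λ be an extension of discrete valuation rings of ramification index 1 (m_R Λ = m_Λ), A a
flat R-algebra of finite type with an R-algebra map A → Λ, 𝔮 its kernel and 𝔭 the inverse image of
the maximal ideal of Λ. Assume R → A is smooth at 𝔮. Provided the Λ-module Ω_{A/R} ⊗_A Λ is free,
the map R → A is also smooth at the prime 𝔭. (The published statement phrases the freeness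
hypothesis through a surjection B → A from an R-algebra smooth at the point, with kernel I, as
freeness of the cokernel of I/I² ⊗_A Λ → Ω_{B/R} ⊗_B Λ; that cokernel is Ω_{A/R} ⊗_A Λ, which is how
its proof begins, so the two forms are equivalent.) -/
theorem result {R Λ A : Type u} [CommRing R] [IsDomain R]
    [IsDiscreteValuationRing R] [CommRing Λ] [IsDomain Λ] [IsDiscreteValuationRing Λ] [Algebra R Λ]
    [NoZeroSMulDivisors R Λ] (he : (IsLocalRing.maximalIdeal R).map (algebraMap R Λ) = IsLocalRing.maximalIdeal Λ)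
    [CommRing A] [Algebra R A] [Module.Flat R A] [Algebra.FiniteType R A] [Algebra A Λ] [IsScalarTower R A Λ]
    [(RingHom.ker (algebraMap A Λ)).IsPrime]
    (hq : Algebra.IsSmoothAt R (RingHom.ker (algebraMap A Λ)))
    (hfree : Module.Free Λ (Λ ⊗[A] Ω[A⁄R])) :
    Algebra.IsSmoothAt R ((IsLocalRing.maximalIdeal Λ).comap (algebraMap A Λ)) := by
  classical
  obtain ⟨n, φ, hφ⟩ := Algebra.FiniteType.iff_quotient_mvPolynomial''.mp
    (inferInstance : Algebra.FiniteType R A)
  have hfg : (RingHom.ker φ.toRingHom).FG := IsNoetherian.noetherian _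
  obtain ⟨m, g, hg⟩ := Submodule.fg_iff_exists_fin_generating_family.mp hfg
  have hker : RingHom.ker φ.toRingHom = Ideal.span (Set.range g) := hg.symm
  -- Step 1: choose rows and columns over `Λ`
  letI : Algebra (MvPolynomial (Fin n) R) A := φ.toRingHom.toAlgebra
  have halg : ∀ x, algebraMap (MvPolynomial (Fin n) R) A x = φ x := fun _ => rfl
  haveI : IsScalarTower R (MvPolynomial (Fin n) R) A :=
    IsScalarTower.of_algebraMap_eq fun r => (φ.commutes r).symm
  obtain ⟨c, rows, cols, hunit, hrel⟩ := lemmaN' (R := R) (A := A) (Λ := Λ)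
    (P' := MvPolynomial (Fin n) R) hφ
    (mvPolynomialBasis R (Fin n)) g hg (fun ℓ i => pderiv i (g ℓ))
    (fun ℓ => by simp only [mvPolynomialBasis_apply]; exact S2108.D_eq_sum_pderiv (g ℓ))
    inferInstance
  simp only [halg] at hunit hrel
  -- Step 2
  have hχ₀ : RingHom.ker ((algebraMap Λ (FractionRing Λ)).comp (algebraMap A Λ)) =
      RingHom.ker (algebraMap A Λ) := by
    ext x
    simp only [RingHom.mem_ker, RingHom.comp_apply]
    exact (map_eq_zero_iff _ (IsFractionRing.injective Λ (FractionRing Λ)))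
  have ht := generic_structure g φ hφ hker (RingHom.ker (algebraMap A Λ)) hq
    ((algebraMap Λ (FractionRing Λ)).comp (algebraMap A Λ)) hχ₀ rows (fun ℓ => by
      obtain ⟨lam, hlam⟩ := hrel ℓ
      refine ⟨fun j => algebraMap Λ (FractionRing Λ) (lam j), fun i => ?_⟩
      simp only [RingHom.comp_apply]
      rw [hlam i, map_sum]
      refine Finset.sum_congr rfl fun j _ => ?_
      rw [map_mul])
  -- Step 3
  refine smoothAt_of_minor g φ hφ hker _ (RingHom.ker (algebraMap A Λ)) ?_ rows cols ?_ ht
  · intro x hx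
    rw [Ideal.mem_comap, RingHom.mem_ker.mp hx]
    exact zero_mem _
  · intro hmem
    rw [Ideal.mem_comap, IsLocalRing.mem_maximalIdeal] at hmem
    apply hmem
    have : algebraMap A Λ
        (φ (Matrix.det (Matrix.of fun j k : Fin c => pderiv (cols k) (g (rows j))))) =
        Matrix.det (Matrix.of fun j k : Fin c =>
          algebraMap A Λ (φ (pderiv (cols k) (g (rows j))))) := by
      rw [← AlgHom.coe_toRingHom, RingHom.map_det, RingHom.map_det]
      congr 1
    rw [this]
    exact hunit

end Groth.Agent.S6841
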