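import Groth.Statements.S6842
import Groth.Agent.Lib.Helper42.StalkColim

set_option autoImplicit false
universe u
open CategoryTheory CategoryTheory.Limits TopologicalSpace
open ModSite

namespace Groth.Agent.S6842

open Groth.Agent.Lib.Helper42.FTLocal Groth.Agent.Lib.Helper42.StalkColim Opposite

section Aux

variable {X : TopCat.{u}} {O : TopCat.Sheaf CommRingCat.{u} X}
  {I : Type u} (F : I → ModSite.Mod O) [HasCoproduct F]

open Classical in
/-- the projection of the coproduct onto a summand -/
noncomputable def pr (j : I) : ∐ F ⟶ F j :=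
  Sigma.desc (fun i => if h : i = j then eqToHom (by rw [h]) else 0)

lemma ι_pr_self (j : I) : Sigma.ι F j ≫ pr F j = 𝟙 _ := by
  simp [pr]

lemma ι_pr_ne {i j : I} (h : i ≠ j) : Sigma.ι F i ≫ pr F j = 0 := by
  simp [pr, h]

lemma pr_ι_self_apply (j : I) (W : Opens X) (t : (F j).val.obj (op W)) :
    (pr F j).val.app (op W) ((Sigma.ι F j).val.app (op W) t) = t := by
  have := congrArg (fun φ => φ.val.app (op W) t) (ι_pr_self F j)
  exact this

lemma pr_ι_ne_apply {i j : I} (h : i ≠ j) (W : Opens X) (t : (F i).val.obj (op W)) :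
    (pr F j).val.app (op W) ((Sigma.ι F i).val.app (op W) t) = 0 := by
  have := congrArg (fun φ => φ.val.app (op W) t) (ι_pr_ne F h)
  exact this

open Classical in
lemma pr_sum (j : I) (W : Opens X) (S : Finset I) (t : ∀ i, (F i).val.obj (op W)) :
    (pr F j).val.app (op W) (∑ i ∈ S, (Sigma.ι F i).val.app (op W) (t i)) =
      if j ∈ S then t j else 0 := by
  rw [map_sum]
  split_ifs with hj
  · rw [Finset.sum_eq_single_of_mem j hj (fun i _ hij => pr_ι_ne_apply F hij W (t i))]
    exact pr_ι_self_apply F j W (t j)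
  · refine Finset.sum_eq_zero (fun i hi => pr_ι_ne_apply F ?_ W (t i))
    rintro rfl
    exact hj hi

end Aux

/-- Let (X, O) be a ringed space, (F_i)_{i ∈ I} a family of O-modules and U ⊆ X a quasi-compact open.
Then the canonical map ⊕_i F_i(U) → (⊕_i F_i)(U) is bijective: every section of the direct sum over
U is a finite sum of images of sections of the F_i over U (surjectivity), and such a finite sum
vanishes only if each term's section is zero (injectivity). -/
theorem result {X : TopCat.{u}} (O : TopCat.Sheaf CommRingCat.{u} X)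
    {I : Type u} (F : I → ModSite.Mod O) [HasCoproduct F] (U : Opens X) (hU : IsCompact (U : Set X)) :
    (∀ s : ModSite.sect (∐ F) U, ∃ (S : Finset I) (t : ∀ i, ModSite.sect (F i) U),
        s = ∑ i ∈ S, ((Sigma.ι F i).val.app (Opposite.op U)).hom (t i)) ∧
      ∀ (S : Finset I) (t : ∀ i, ModSite.sect (F i) U),
        ∑ i ∈ S, ((Sigma.ι F i).val.app (Opposite.op U)).hom (t i) = 0 → ∀ i ∈ S, t i = 0 := by
  classical
  constructor
  · intro s
    have hloc : ∀ x : U, ∃ (W : Opens X) (hW : W ≤ U), x.1 ∈ W ∧
        ∃ (S : Finset I) (t : ∀ i, (F i).val.obj (op W)),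
          rs (∐ F) (homOfLE hW) s = ∑ i ∈ S, (Sigma.ι F i).val.app (op W) (t i) := fun x =>
      exists_local_finset_sum x.1 F (∐ F) (Sigma.ι F) (coproductIsCoproduct F) x.2 s
    choose W hW hxW S t ht using hloc
    obtain ⟨A, hA⟩ := hU.elim_finite_subcover (fun x : U => (W x : Set X))
      (fun x => (W x).isOpen) (fun y hy => Set.mem_iUnion.mpr ⟨⟨y, hy⟩, hxW ⟨y, hy⟩⟩)
    refine ⟨A.biUnion S, fun i => (pr F i).val.app (op U) s, ?_⟩
    refine eq_of_locally (∐ F) _ _ (fun y hy => ?_)
    obtain ⟨x, hxA, hyx⟩ : ∃ x ∈ A, y ∈ W x := by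
      have := hA hy
      simpa using this
    refine ⟨W x, hW x, hyx, ?_⟩
    have e1 : rs (∐ F) (homOfLE (hW x))
        (∑ i ∈ A.biUnion S, ((Sigma.ι F i).val.app (op U)).hom ((pr F i).val.app (op U) s)) =
        ∑ i ∈ A.biUnion S, (Sigma.ι F i).val.app (op (W x))
          (if i ∈ S x then t x i else 0) := by
      rw [map_sum]
      refine Finset.sum_congr rfl (fun i _ => ?_)
      have e2 : rs (∐ F) (homOfLE (hW x))
          (((Sigma.ι F i).val.app (op U)).hom ((pr F i).val.app (op U) s)) =
          (Sigma.ι F i).val.app (op (W x)) (rs (F i) (homOfLE (hW x))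
            ((pr F i).val.app (op U) s)) := rs_app (Sigma.ι F i) (homOfLE (hW x)) _
      rw [e2, rs_app (pr F i) (homOfLE (hW x)) s, ht x, pr_sum]
    rw [e1, ht x]
    have hsub : S x ⊆ A.biUnion S := Finset.subset_biUnion_of_mem S hxA
    rw [← Finset.sum_subset hsub]
    · refine Finset.sum_congr rfl (fun i hi => ?_)
      rw [if_pos hi]
    · intro i _ hi
      rw [if_neg hi]
      exact map_zero _
  · intro S t h i hi
    have := congrArg (fun m => (pr F i).val.app (op U) m) h
    simp only at this
    have e := pr_sum F i U S t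
    rw [if_pos hi] at e
    rw [← e]
    refine this.trans ?_
    exact map_zero _

end Groth.Agent.S6842
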