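import Groth.Statements.S6843
import Groth.Agent.S0595
import Groth.Agent.S0600
import Groth.Agent.S0543
import Groth.Agent.S9294
import Groth.Agent.S19379
import Groth.Agent.H34.ArtinEtaleLoc

set_option autoImplicit false
universe u
open Smoothing

namespace Groth.Agent.S6843

/-- Let R be a Noetherian ring, p ⊆ R a prime with R_p a G-ring, (R_p)^ the completion of R_p, and F₁,
…, F_m polynomials in n variables over R with a solution a in (R_p)^. Then for every N there are an
étale R-algebra R', a ring map ψ : R' → (R_p)^ compatible with the maps from R, a prime p' ⊆ R'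
lying over p with κ(p) = κ(p') (every element of R'/p' is a fraction of elements of R/p) and ψ(p') ⊆
p(R_p)^, and a solution b of the system in R' with a_i − ψ(b_i) ∈ p^N (R_p)^. (The source compares a
and b through the identification of (R_p)^ with the completion of R'_{p'}; here the comparison map
is ψ.) -/
theorem result {R : Type u} [CommRing R] [IsNoetherianRing R]
    (p : Ideal R) [p.IsPrime] (hG : CAlg.IsGRing (Localization.AtPrime p)) {n m : ℕ}
    (F : Fin m → MvPolynomial (Fin n) R)
    (a : Fin n → AdicCompletion (IsLocalRing.maximalIdeal (Localization.AtPrime p)) (Localization.AtPrime p))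
    (ha : ∀ j, MvPolynomial.aeval a (MvPolynomial.map (algebraMap R (Localization.AtPrime p)) (F j)) = 0) (N : ℕ) :
    ∃ (R' : Type u) (_ : CommRing R') (_ : Algebra R R'), Algebra.Etale R R' ∧
      ∃ (ψ : R' →+* AdicCompletion (IsLocalRing.maximalIdeal (Localization.AtPrime p)) (Localization.AtPrime p))
        (p' : Ideal R'), p'.IsPrime ∧
        (∀ r : R, ψ (algebraMap R R' r) =
          algebraMap (Localization.AtPrime p) _ (algebraMap R (Localization.AtPrime p) r)) ∧
        p'.comap (algebraMap R R') = p ∧
        (∀ x : R', ∃ r s : R, s ∉ p ∧ algebraMap R R' s * x - algebraMap R R' r ∈ p') ∧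
        (∀ x ∈ p', ψ x ∈ (IsLocalRing.maximalIdeal (Localization.AtPrime p)).map
          (algebraMap (Localization.AtPrime p)
            (AdicCompletion (IsLocalRing.maximalIdeal (Localization.AtPrime p)) (Localization.AtPrime p)))) ∧
        ∃ b : Fin n → R', (∀ j, MvPolynomial.aeval b (F j) = 0) ∧
          ∀ i, a i - ψ (b i) ∈ (IsLocalRing.maximalIdeal (Localization.AtPrime p) ^ N).map
            (algebraMap (Localization.AtPrime p)
              (AdicCompletion (IsLocalRing.maximalIdeal (Localization.AtPrime p)) (Localization.AtPrime p))) := by
  haveI : IsNoetherianRing (Localization.AtPrime p) := inferInstance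
  haveI : IsNoetherianRing (AdicCompletion (IsLocalRing.maximalIdeal (Localization.AtPrime p))
      (Localization.AtPrime p)) := Groth.Agent.S0543.result _ _
  have h1 : CAlg.IsRegularHom R (Localization.AtPrime p) :=
    Groth.Agent.S19379.result R (Localization.AtPrime p)
  have h2 := Groth.Agent.S0600.result (Localization.AtPrime p) hG
    (IsLocalRing.maximalIdeal (Localization.AtPrime p))
  have hreg : CAlg.IsRegularHom R (AdicCompletion (IsLocalRing.maximalIdeal (Localization.AtPrime p))
      (Localization.AtPrime p)) := by
    refine Groth.Agent.S9294.result R (Localization.AtPrime p) _ h1 h2 ?_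
    intro q _
    have h3 : IsNoetherianRing (TensorProduct R (AdicCompletion
        (IsLocalRing.maximalIdeal (Localization.AtPrime p)) (Localization.AtPrime p))
        q.ResidueField) := Algebra.EssFiniteType.isNoetherianRing
      (AdicCompletion (IsLocalRing.maximalIdeal (Localization.AtPrime p))
        (Localization.AtPrime p)) _
    exact isNoetherianRing_of_ringEquiv _
      (Algebra.TensorProduct.comm R (AdicCompletion
        (IsLocalRing.maximalIdeal (Localization.AtPrime p)) (Localization.AtPrime p))
        q.ResidueField).toRingEquiv
  exact Groth.Agent.H34.ArtinEtaleLoc.coreLoc p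
    (fun A _ _ _ f => Groth.Agent.S0595.result R _ hreg A f) F a ha N

end Groth.Agent.S6843
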