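import Groth.Statements.S6846
import Groth.Agent.Lib.Helper42.FTLocal

set_option autoImplicit false
universe u
open CategoryTheory CategoryTheory.Limits TopologicalSpace
open ModSite

namespace Groth.Agent.S6846

open Groth.Agent.Lib.Helper42.FTLocal Opposite

section Aux

variable {Z : TopCat.{u}} {R : Sheaf (Opens.grothendieckTopology Z) RingCat.{u}}

/-- two sections agreeing locally are equal -/
lemma eq_of_locally (N : SheafOfModules.{u} R) {U : Opens Z} (s t : N.val.obj (op U))
    (h : ∀ x ∈ U, ∃ (W : Opens Z) (hW : W ≤ U), x ∈ W ∧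
      rs N (homOfLE hW) s = rs N (homOfLE hW) t) : s = t := by
  choose W hW hxW hst using h
  refine TopCat.Sheaf.eq_of_locally_eq' ⟨N.val.presheaf, N.isSheaf⟩
    (fun x : U => W x.1 x.2) U (fun x => homOfLE (hW x.1 x.2)) ?_ s t (fun x => hst x.1 x.2)
  intro y hy
  exact Opens.mem_iSup.mpr ⟨⟨y, hy⟩, hxW y hy⟩

/-- a section over an empty open vanishes -/
lemma eq_zero_of_isEmpty (N : SheafOfModules.{u} R) {U : Opens Z} (hU : ∀ x, x ∉ U)
    (s : N.val.obj (op U)) : s = 0 :=
  eq_of_locally N s 0 (fun x hx => (hU x hx).elim)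

/-- finite intersections of open neighbourhoods -/
lemma mem_iInf_opens {I : Type u} [Finite I] (W : I → Opens Z) (y : Z) (h : ∀ k, y ∈ W k) :
    y ∈ ⨅ k, W k := by
  rw [← SetLike.mem_coe, Opens.coe_iInf]
  exact Set.mem_iInter.mpr h

end Aux

section Main

variable {Z X : TopCat.{u}} (i : Z ⟶ X)
    (O_Z : TopCat.Sheaf CommRingCat.{u} Z) (O_X : TopCat.Sheaf CommRingCat.{u} X)
    (c : O_X ⟶ ((TopologicalSpace.Opens.map i).sheafPushforwardContinuous CommRingCat.{u}
      (Opens.grothendieckTopology X) (Opens.grothendieckTopology Z)).obj O_Z)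

/-- every open of the source of an embedding is the preimage of an open contained in a given
open whose preimage contains it -/
lemma exists_opens_preimage_eq (hi : Topology.IsInducing i) (V : Opens Z) (U : Opens X)
    (hVU : V ≤ (Opens.map i).obj U) : ∃ U' : Opens X, U' ≤ U ∧ (Opens.map i).obj U' = V := by
  obtain ⟨T, hT, hTV⟩ := hi.isOpen_iff.mp V.isOpen
  refine ⟨⟨T, hT⟩ ⊓ U, inf_le_right, ?_⟩
  ext w
  constructor
  · rintro ⟨h1, -⟩
    have : w ∈ i ⁻¹' T := h1
    rw [hTV] at this
    exact this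
  · intro hw
    refine ⟨?_, hVU hw⟩
    have : w ∈ i ⁻¹' T := by rw [hTV]; exact hw
    exact this

/-- the comorphism on sections, as a ring homomorphism of the underlying sheaves of rings -/
def cmap (U : Opens X) : (ModSite.ringSh O_X).obj.obj (op U) →+*
    (ModSite.ringSh O_Z).obj.obj (op ((Opens.map i).obj U)) :=
  (c.hom.app (op U)).hom

lemma cmap_rr {U W : Opens X} (h : W ≤ U) (a : (ModSite.ringSh O_X).obj.obj (op U)) :
    cmap i O_Z O_X c W (rr (ModSite.ringSh O_X) (homOfLE h) a) =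
      rr (ModSite.ringSh O_Z) (homOfLE ((Opens.map i).monotone h)) (cmap i O_Z O_X c U a) :=
  ConcreteCategory.congr_hom (c.hom.naturality (homOfLE h).op) a

/-- local surjectivity of the comorphism for finitely many sections -/
lemma exists_local_preimage (hc : Sheaf.IsLocallySurjective c) {I : Type u} [Finite I]
    (U : Opens X) (a : I → (ModSite.ringSh O_Z).obj.obj (op ((Opens.map i).obj U))) (y : X)
    (hy : y ∈ U) :
    ∃ (W : Opens X) (hW : W ≤ U), y ∈ W ∧ ∃ b : I → (ModSite.ringSh O_X).obj.obj (op W),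
      ∀ k, cmap i O_Z O_X c W (b k) =
        rr (ModSite.ringSh O_Z) (homOfLE ((Opens.map i).monotone hW)) (a k) := by
  have h : ∀ k, ∃ (W : Opens X) (g : W ⟶ U), y ∈ W ∧
      ∃ t : (ModSite.ringSh O_X).obj.obj (op W), cmap i O_Z O_X c W t =
        rr (ModSite.ringSh O_Z) (homOfLE ((Opens.map i).monotone (leOfHom g))) (a k) := fun k => by
    obtain ⟨W, g, ht, hyW⟩ := Presheaf.imageSieve_mem (Opens.grothendieckTopology X) c.hom
      (U := op U) (a k) y hy
    exact ⟨W, g, hyW, ht⟩
  choose W g hyW t ht using h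
  have hmem : y ∈ U ⊓ ⨅ k, W k := ⟨hy, mem_iInf_opens W y hyW⟩
  refine ⟨U ⊓ ⨅ k, W k, inf_le_left, hmem,
    fun k => rr (ModSite.ringSh O_X) (homOfLE (inf_le_right.trans (iInf_le W k))) (t k),
    fun k => ?_⟩
  rw [cmap_rr, ht]
  exact (ConcreteCategory.congr_hom ((ModSite.ringSh O_Z).obj.map_comp _ _) (a k)).symm

end Main

/-- Let i : (Z, O_Z) → (X, O_X) be a morphism of ringed spaces. Suppose the underlying continuous map
embeds Z homeomorphically as a closed subset of X, and that the comorphism i♯ : O_X → i_*O_Z is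
surjective as a map of sheaves (locally surjective). Then, given any O_Z-module F, finite type of F
is equivalent to finite type of the pushforward O_X-module i_*F. -/
theorem result {Z X : TopCat.{u}} (i : Z ⟶ X)
    (O_Z : TopCat.Sheaf CommRingCat.{u} Z) (O_X : TopCat.Sheaf CommRingCat.{u} X)
    (c : O_X ⟶ ((TopologicalSpace.Opens.map i).sheafPushforwardContinuous CommRingCat.{u}
      (Opens.grothendieckTopology X) (Opens.grothendieckTopology Z)).obj O_Z)
    (hi : Topology.IsClosedEmbedding i) (hc : Sheaf.IsLocallySurjective c) (F : ModSite.Mod O_Z) :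
    SheafOfModules.IsFiniteType (R := ModSite.ringSh O_X)
        ((ModSite.RMor.ofFlat (TopologicalSpace.Opens.map i) c).push.obj F) ↔
      SheafOfModules.IsFiniteType (R := ModSite.ringSh O_Z) F := by
  have hrange : IsOpen (Set.range i)ᶜ := hi.isClosed_range.isOpen_compl
  let Uc : Opens X := ⟨(Set.range i)ᶜ, hrange⟩
  have hUc : ∀ (W : Opens X), W ≤ Uc → ∀ w, w ∉ (Opens.map i).obj W := fun W hW w hw =>
    hW hw ⟨w, rfl⟩
  constructor
  · intro h
    refine (isFiniteType_iff (X := Z) (R := ModSite.ringSh O_Z) F).mpr (fun z => ?_)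
    obtain ⟨U, hzU, I, hI, s, hs⟩ := (isFiniteType_iff (X := X) (R := ModSite.ringSh O_X)
      ((ModSite.RMor.ofFlat (TopologicalSpace.Opens.map i) c).push.obj F)).mp h (i z)
    refine ⟨(Opens.map i).obj U, hzU, I, hI, s, ?_⟩
    intro V' hV'U m z' hz'
    obtain ⟨U', hU'U, rfl⟩ := exists_opens_preimage_eq i hi.isInducing V' U hV'U
    obtain ⟨W, hW, hz'W, c', hc'⟩ := hs U' hU'U m (i z') hz'
    exact ⟨(Opens.map i).obj W, (Opens.map i).monotone hW, hz'W,
      fun k => cmap i O_Z O_X c W (c' k), hc'⟩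
  · intro h
    refine (isFiniteType_iff (X := X) (R := ModSite.ringSh O_X)
      ((ModSite.RMor.ofFlat (TopologicalSpace.Opens.map i) c).push.obj F)).mpr (fun y => ?_)
    by_cases hy : y ∈ Set.range i
    · obtain ⟨z, rfl⟩ := hy
      obtain ⟨V, hzV, I, hI, s, hs⟩ :=
        (isFiniteType_iff (X := Z) (R := ModSite.ringSh O_Z) F).mp h z
      obtain ⟨U, -, rfl⟩ := exists_opens_preimage_eq i hi.isInducing V ⊤ le_top
      refine ⟨U, hzV, I, hI, s, ?_⟩
      intro U' hU'U m y' hy'
      by_cases hy'Z : y' ∈ Set.range i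
      · obtain ⟨z', rfl⟩ := hy'Z
        obtain ⟨V', hV', hz'V', a, ha⟩ :=
          hs ((Opens.map i).obj U') ((Opens.map i).monotone hU'U) m z' hy'
        obtain ⟨U'', hU''U', rfl⟩ := exists_opens_preimage_eq i hi.isInducing V' U' hV'
        obtain ⟨W, hW, hz'W, b, hb⟩ := exists_local_preimage i O_Z O_X c hc U'' a (i z') hz'V'
        refine ⟨W, hW.trans hU''U', hz'W, b, ?_⟩
        have e := congrArg (rs F (homOfLE ((Opens.map i).monotone hW))) ha
        rw [rs_comp, map_sum] at e
        refine e.trans (Finset.sum_congr rfl (fun k _ => ?_))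
        rw [rs_smul, rs_comp, ← hb]
        rfl
      · refine ⟨U' ⊓ Uc, inf_le_left, ⟨hy', hy'Z⟩, fun _ => 0, ?_⟩
        exact (eq_zero_of_isEmpty F (hUc _ inf_le_right) _).trans
          (eq_zero_of_isEmpty F (hUc _ inf_le_right) _).symm
    · refine ⟨Uc, hy, PEmpty.{u + 1}, inferInstance, PEmpty.elim, ?_⟩
      intro U' hU'U m y' hy'
      refine ⟨U', le_rfl, hy', PEmpty.elim, ?_⟩
      exact (eq_zero_of_isEmpty F (hUc _ hU'U) _).trans
        (eq_zero_of_isEmpty F (hUc _ hU'U) _).symm

end Groth.Agent.S6846
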