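import Groth.Statements.S6848
import Groth.Agent.Lib.Helper42.StalkFree

set_option autoImplicit false
universe u
open CategoryTheory CategoryTheory.Limits TopologicalSpace
open ModSite

namespace Groth.Agent.S6848

open Groth.Agent.Lib.Helper42.FTLocal Groth.Agent.Lib.Helper42.FPLocal
  Groth.Agent.Lib.Helper42.StalkColim Groth.Agent.Lib.Helper42.StalkFree Opposite

section Core

variable {X : TopCat.{u}} {O : TopCat.Sheaf CommRingCat.{u} X} (F : ModSite.Mod O)

/-- change of generators: if the `s i` generate with relations generated by the `rel l`, and the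
`e k` are related to the `s i` by matrices `a`, `b` with `b a = 1` and `rel a = 0`, then the `e k`
generate freely -/
lemma isLocGen_isLocIndep_of_matrices (U : Opens X) {I K L : Type u} [Fintype I] [Fintype K]
    [DecidableEq K] [Fintype L]
    (s : I → F.val.obj (op U)) (rel : L → I → (ModSite.ringSh O).obj.obj (op U))
    (hs : IsLocGen F U s) (hr : IsLocRel F U s rel) (e : K → F.val.obj (op U))
    (a : I → K → (ModSite.ringSh O).obj.obj (op U)) (b : K → I → (ModSite.ringSh O).obj.obj (op U))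
    (H2 : ∀ i, s i = ∑ k, a i k • e k) (H3 : ∀ k, e k = ∑ i, b k i • s i)
    (H4 : ∀ k k', ∑ i, b k i * a i k' = if k = k' then 1 else 0)
    (H5 : ∀ l k, ∑ i, rel l i * a i k = 0) :
    IsLocGen F U e ∧ IsLocIndep F U e := by
  constructor
  · intro V hV m z hz
    obtain ⟨W, hW, hzW, c, hc⟩ := hs V hV m z hz
    refine ⟨W, hW, hzW, fun k => ∑ i, c i * rr (ModSite.ringSh O) (homOfLE (hW.trans hV)) (a i k),
      ?_⟩
    rw [hc]
    simp_rw [Finset.sum_smul]
    rw [Finset.sum_comm]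
    refine Finset.sum_congr rfl (fun i _ => ?_)
    rw [H2 i, rs_sum_smul, Finset.smul_sum]
    refine Finset.sum_congr rfl (fun k _ => ?_)
    rw [smul_smul]
  · intro V hV d hd k'
    -- relation between the `s i`
    have h1 : ∑ i, (∑ k, d k * rr (ModSite.ringSh O) (homOfLE hV) (b k i)) •
        rs F (homOfLE hV) (s i) = 0 := by
      simp_rw [Finset.sum_smul]
      rw [Finset.sum_comm]
      refine Eq.trans (Finset.sum_congr rfl (fun k _ => ?_)) hd
      rw [H3 k, rs_sum_smul, Finset.smul_sum]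
      refine Finset.sum_congr rfl (fun i _ => ?_)
      rw [smul_smul]
    refine eq_of_locally_ring (O := O) (d k') 0 (fun z hz => ?_)
    obtain ⟨W, hW, hzW, f, hf⟩ := hr.2 V hV _ h1 z hz
    refine ⟨W, hW, hzW, ?_⟩
    refine Eq.trans ?_ (map_zero (rr (ModSite.ringSh O) (homOfLE hW))).symm
    -- `d k' = ∑ k, d k * δ k k'`
    have e1 : rr (ModSite.ringSh O) (homOfLE hW) (d k') =
        ∑ k, rr (ModSite.ringSh O) (homOfLE hW) (d k) *
          rr (ModSite.ringSh O) (homOfLE (hW.trans hV)) (∑ i, b k i * a i k') := by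
      rw [Finset.sum_eq_single k']
      · rw [H4, if_pos rfl, map_one, mul_one]
      · intro k _ hk
        rw [H4, if_neg hk, map_zero, mul_zero]
      · intro h
        exact (h (Finset.mem_univ k')).elim
    rw [e1]
    have e2 : ∀ k, rr (ModSite.ringSh O) (homOfLE hW) (d k) *
        rr (ModSite.ringSh O) (homOfLE (hW.trans hV)) (∑ i, b k i * a i k') =
        ∑ i, (rr (ModSite.ringSh O) (homOfLE hW) (d k) *
          rr (ModSite.ringSh O) (homOfLE (hW.trans hV)) (b k i)) *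
            rr (ModSite.ringSh O) (homOfLE (hW.trans hV)) (a i k') := by
      intro k
      rw [map_sum, Finset.mul_sum]
      refine Finset.sum_congr rfl (fun i _ => ?_)
      rw [map_mul, mul_assoc]
    rw [Finset.sum_congr rfl (fun k _ => e2 k), Finset.sum_comm]
    have e3 : ∀ i, ∑ k, (rr (ModSite.ringSh O) (homOfLE hW) (d k) *
          rr (ModSite.ringSh O) (homOfLE (hW.trans hV)) (b k i)) *
            rr (ModSite.ringSh O) (homOfLE (hW.trans hV)) (a i k') =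
        (∑ l, f l * rr (ModSite.ringSh O) (homOfLE (hW.trans hV)) (rel l i)) *
          rr (ModSite.ringSh O) (homOfLE (hW.trans hV)) (a i k') := by
      intro i
      rw [← Finset.sum_mul, ← hf i, map_sum]
      congr 1
      refine Finset.sum_congr rfl (fun k _ => ?_)
      rw [map_mul, rr_le_le]
    rw [Finset.sum_congr rfl (fun i _ => e3 i)]
    simp_rw [Finset.sum_mul]
    rw [Finset.sum_comm]
    refine Finset.sum_eq_zero (fun l _ => ?_)
    have e4 := congrArg (rr (ModSite.ringSh O) (homOfLE (hW.trans hV))) (H5 l k')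
    rw [map_sum, map_zero] at e4
    have e5 : ∑ i, f l * rr (ModSite.ringSh O) (homOfLE (hW.trans hV)) (rel l i) *
        rr (ModSite.ringSh O) (homOfLE (hW.trans hV)) (a i k') =
        f l * ∑ i, rr (ModSite.ringSh O) (homOfLE (hW.trans hV)) (rel l i * a i k') := by
      rw [Finset.mul_sum]
      refine Finset.sum_congr rfl (fun i _ => ?_)
      rw [map_mul, mul_assoc]
    rw [e5, e4, mul_zero]

end Core

section StalkAlg

variable {A : Type u} [CommRing A] {M : Type u} [AddCommGroup M] [Module A M] {r : ℕ}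
  (ε : M ≃ₗ[A] (Fin r → A))

lemma coord_sum_basis (C : ULift.{u} (Fin r) → A) (j : ULift.{u} (Fin r)) :
    ε (∑ k, C k • ε.symm (Pi.single k.down 1)) j.down = C j := by
  rw [map_sum]
  simp_rw [map_smul, LinearEquiv.apply_symm_apply]
  rw [Finset.sum_apply, Finset.sum_eq_single j]
  · simp
  · intro k _ hk
    have hne : k.down ≠ j.down := fun h => hk (ULift.ext _ _ h)
    simp [Pi.single_apply, hne.symm]
  · intro h
    exact (h (Finset.mem_univ j)).elim

lemma eq_sum_basis (v : M) :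
    v = ∑ k : ULift.{u} (Fin r), (ε v k.down) • ε.symm (Pi.single k.down 1) := by
  apply ε.injective
  funext j
  exact (coord_sum_basis ε (fun k => ε v k.down) ⟨j⟩).symm

end StalkAlg

/-- On a ringed space (X, O), let F be an O-module of finite presentation and x a point with F_x ≅
O_{X,x}^r as O_{X,x}-modules (stalks are taken at the point of the site of opens of X given by x).
Then there is an open neighbourhood U of x with F|_U ≅ O_U^r, the free O_U-module on r generators. -/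
theorem result {X : TopCat.{u}} (O : TopCat.Sheaf CommRingCat.{u} X)
    (F : ModSite.Mod O) [SheafOfModules.IsFinitePresentation (R := ModSite.ringSh O) F] (x : X) (r : ℕ)
    (hx : Nonempty (ModSite.stalkMod (Opens.pointGrothendieckTopology x) F
      ≃ₗ[ModSite.stalkRing (Opens.pointGrothendieckTopology x) O]
        (Fin r → ModSite.stalkRing (Opens.pointGrothendieckTopology x) O))) :
    ∃ U : Opens X, x ∈ U ∧ Nonempty ((ModSite.restr O U).obj F ≅ SheafOfModules.free (ULift.{u} (Fin r))) := by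
  classical
  obtain ⟨ε⟩ := hx
  obtain ⟨U₀, hx₀, I, hI, s, L, hL, rel, hs, hr⟩ :=
    (isFinitePresentation_iff (X := X) (R := ModSite.ringSh O) F).mp inferInstance x
  -- the basis of the stalk
  let β : ULift.{u} (Fin r) → ModSite.stalkMod (Opens.pointGrothendieckTopology x) F :=
    fun k => ε.symm (Pi.single k.down 1)
  -- Step 1: sections with germs the basis elements
  have h1 : ∀ k : ULift.{u} (Fin r), ∃ (Y : Opens X) (hxY : x ∈ Y) (t : F.val.obj (op Y)),
      ModSite.germ (Opens.pointGrothendieckTopology x) F Y ⟨⟨hxY⟩⟩ t = β k :=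
    fun k => germ_surjective x F _
  choose Y₁ hxY₁ t₁ ht₁ using h1
  -- Step 2: coordinates of the germs of the generators
  have h2 : ∀ (ik : I × ULift.{u} (Fin r)), ∃ (Y : Opens X) (hxY : x ∈ Y) (c : O.obj.obj (op Y)),
      ModSite.germRing (Opens.pointGrothendieckTopology x) Y ⟨⟨hxY⟩⟩ c =
        ε (ModSite.germ (Opens.pointGrothendieckTopology x) F U₀ ⟨⟨hx₀⟩⟩ (s ik.1)) ik.2.down :=
    fun ik => germRing_surjective x _
  choose Y₂ hxY₂ a₂ ha₂ using h2
  have hxU₂ : x ∈ U₀ ⊓ (⨅ k, Y₁ k) ⊓ (⨅ ik, Y₂ ik) := by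
    refine ⟨⟨hx₀, ?_⟩, ?_⟩
    · rw [SetLike.mem_coe, ← SetLike.mem_coe, Opens.coe_iInf]
      exact Set.mem_iInter.mpr hxY₁
    · rw [SetLike.mem_coe, ← SetLike.mem_coe, Opens.coe_iInf]
      exact Set.mem_iInter.mpr hxY₂
  have hU₂₀ : U₀ ⊓ (⨅ k, Y₁ k) ⊓ (⨅ ik, Y₂ ik) ≤ U₀ := inf_le_left.trans inf_le_left
  have hU₂Y₁ : ∀ k, U₀ ⊓ (⨅ k, Y₁ k) ⊓ (⨅ ik, Y₂ ik) ≤ Y₁ k := fun k =>
    inf_le_left.trans (inf_le_right.trans (iInf_le Y₁ k))
  have hU₂Y₂ : ∀ ik, U₀ ⊓ (⨅ k, Y₁ k) ⊓ (⨅ ik, Y₂ ik) ≤ Y₂ ik := fun ik =>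
    inf_le_right.trans (iInf_le Y₂ ik)
  -- Step 3: the `e k` in terms of the generators
  obtain ⟨U₃, hU₃, hxU₃, b, hb⟩ := IsLocGen.exists_coeffs hs hU₂₀
    (fun k => rs F (homOfLE (hU₂Y₁ k)) (t₁ k)) x hxU₂
  -- data over `U₃`
  have hU₃₀ : U₃ ≤ U₀ := hU₃.trans hU₂₀
  let e₃ : ULift.{u} (Fin r) → F.val.obj (op U₃) := fun k =>
    rs F (homOfLE (hU₃.trans (hU₂Y₁ k))) (t₁ k)
  let s₃ : I → F.val.obj (op U₃) := fun i => rs F (homOfLE hU₃₀) (s i)
  let a₃ : I → ULift.{u} (Fin r) → (ModSite.ringSh O).obj.obj (op U₃) := fun i k =>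
    rr (ModSite.ringSh O) (homOfLE (hU₃.trans (hU₂Y₂ (i, k)))) (a₂ (i, k))
  let rel₃ : L → I → (ModSite.ringSh O).obj.obj (op U₃) := fun l i =>
    rr (ModSite.ringSh O) (homOfLE hU₃₀) (rel l i)
  have hs₃ : IsLocGen F U₃ s₃ := IsLocGen.mono hU₃₀ hs
  have hr₃ : IsLocRel F U₃ s₃ rel₃ := IsLocRel.mono hU₃₀ hr
  have E3 : ∀ k, e₃ k = ∑ i, b k i • s₃ i := by
    intro k
    have := hb k
    rw [rs_le_le] at this
    exact this
  -- germs
  have G1 : ∀ k, ModSite.germ (Opens.pointGrothendieckTopology x) F U₃ ⟨⟨hxU₃⟩⟩ (e₃ k) = β k :=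
    fun k => (germ_res x F _ hxU₃ (t₁ k)).trans (ht₁ k)
  have G2 : ∀ i k, ModSite.germRing (Opens.pointGrothendieckTopology x) U₃ ⟨⟨hxU₃⟩⟩ (a₃ i k) =
      ε (ModSite.germ (Opens.pointGrothendieckTopology x) F U₃ ⟨⟨hxU₃⟩⟩ (s₃ i)) k.down := by
    intro i k
    refine (germRing_res x _ hxU₃ (a₂ (i, k))).trans ((ha₂ (i, k)).trans ?_)
    rw [germ_res x F hU₃₀ hxU₃ (s i)]
  have G3 : ∀ i, ModSite.germ (Opens.pointGrothendieckTopology x) F U₃ ⟨⟨hxU₃⟩⟩ (s₃ i) =
      ∑ k, ModSite.germRing (Opens.pointGrothendieckTopology x) U₃ ⟨⟨hxU₃⟩⟩ (a₃ i k) • β k := by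
    intro i
    refine (eq_sum_basis ε _).trans (Finset.sum_congr rfl (fun k _ => ?_))
    rw [G2]
  clear_value e₃ s₃ a₃ rel₃
  have G1' : ∀ k, germHom x F U₃ hxU₃ (e₃ k) = β k := G1
  have G3' : ∀ i, germHom x F U₃ hxU₃ (s₃ i) =
      ∑ k, germRingHom x U₃ hxU₃ (a₃ i k) • β k := G3
  -- germs of combinations of the generators, in coordinates
  have Gexp : ∀ (cc : I → (ModSite.ringSh O).obj.obj (op U₃)) (k : ULift.{u} (Fin r)),
      ε (germHom x F U₃ hxU₃ (∑ i, cc i • s₃ i)) k.down =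
        germRingHom x U₃ hxU₃ (∑ i, cc i * a₃ i k) := by
    intro cc k
    have e1 : germHom x F U₃ hxU₃ (∑ i, cc i • s₃ i) =
        ∑ k, (∑ i, germRingHom x U₃ hxU₃ (cc i) * germRingHom x U₃ hxU₃ (a₃ i k)) • β k := by
      rw [germHom_sum_smul]
      simp_rw [G3', Finset.smul_sum, smul_smul, Finset.sum_smul]
      exact Finset.sum_comm
    rw [e1, coord_sum_basis ε, map_sum]
    exact Finset.sum_congr rfl (fun i _ => (map_mul _ _ _).symm)
  -- Step 4: local equalities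
  have E2 : ∀ i, ∃ (W : Opens X) (hW : W ≤ U₃), x ∈ W ∧
      rs F (homOfLE hW) (s₃ i) = rs F (homOfLE hW) (∑ k, a₃ i k • e₃ k) := by
    intro i
    refine exists_res_eq_of_germ_eq x F hxU₃ _ _ ?_
    change germHom x F U₃ hxU₃ (s₃ i) = germHom x F U₃ hxU₃ (∑ k, a₃ i k • e₃ k)
    rw [germHom_sum_smul, G3']
    exact Finset.sum_congr rfl (fun k _ => by rw [G1'])
  have E4 : ∀ kk : ULift.{u} (Fin r) × ULift.{u} (Fin r), ∃ (W : Opens X) (hW : W ≤ U₃), x ∈ W ∧
      rr (ModSite.ringSh O) (homOfLE hW) (∑ i, b kk.1 i * a₃ i kk.2) =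
        rr (ModSite.ringSh O) (homOfLE hW) (if kk.1 = kk.2 then 1 else 0) := by
    rintro ⟨k, k'⟩
    refine exists_rr_eq_of_germRing_eq x hxU₃ _ _ ?_
    change germRingHom x U₃ hxU₃ (∑ i, b k i * a₃ i k') =
      germRingHom x U₃ hxU₃ (if k = k' then 1 else 0)
    rw [← Gexp, ← E3, G1']
    change ε (ε.symm (Pi.single k.down 1)) k'.down = _
    rw [LinearEquiv.apply_symm_apply, Pi.single_apply]
    by_cases hkk : k = k'
    · subst hkk
      rw [if_pos rfl, if_pos rfl, map_one]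
    · have hne : ¬ k'.down = k.down := fun h => hkk (ULift.ext _ _ h.symm)
      rw [if_neg hkk, if_neg hne, map_zero]
  have E5 : ∀ lk : L × ULift.{u} (Fin r), ∃ (W : Opens X) (hW : W ≤ U₃), x ∈ W ∧
      rr (ModSite.ringSh O) (homOfLE hW) (∑ i, rel₃ lk.1 i * a₃ i lk.2) =
        rr (ModSite.ringSh O) (homOfLE hW) 0 := by
    rintro ⟨l, k⟩
    refine exists_rr_eq_of_germRing_eq x hxU₃ _ _ ?_
    change germRingHom x U₃ hxU₃ (∑ i, rel₃ l i * a₃ i k) = germRingHom x U₃ hxU₃ 0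
    rw [← Gexp, hr₃.1 l, map_zero, map_zero, map_zero]
    rfl
  choose W2 hW2 hxW2 hE2 using E2
  choose W4 hW4 hxW4 hE4 using E4
  choose W5 hW5 hxW5 hE5 using E5
  have hmemI : ∀ {ι : Type u} [Finite ι] (W : ι → Opens X), (∀ j, x ∈ W j) → x ∈ ⨅ j, W j := by
    intro ι _ W h
    rw [← SetLike.mem_coe, Opens.coe_iInf]
    exact Set.mem_iInter.mpr h
  have hxU : x ∈ U₃ ⊓ (⨅ i, W2 i) ⊓ (⨅ kk, W4 kk) ⊓ (⨅ lk, W5 lk) :=
    ⟨⟨⟨hxU₃, hmemI W2 hxW2⟩, hmemI W4 hxW4⟩, hmemI W5 hxW5⟩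
  have hU3 : U₃ ⊓ (⨅ i, W2 i) ⊓ (⨅ kk, W4 kk) ⊓ (⨅ lk, W5 lk) ≤ U₃ :=
    inf_le_left.trans (inf_le_left.trans inf_le_left)
  have hUW2 : ∀ i, U₃ ⊓ (⨅ i, W2 i) ⊓ (⨅ kk, W4 kk) ⊓ (⨅ lk, W5 lk) ≤ W2 i := fun i =>
    inf_le_left.trans (inf_le_left.trans (inf_le_right.trans (iInf_le W2 i)))
  have hUW4 : ∀ kk, U₃ ⊓ (⨅ i, W2 i) ⊓ (⨅ kk, W4 kk) ⊓ (⨅ lk, W5 lk) ≤ W4 kk := fun kk =>
    inf_le_left.trans (inf_le_right.trans (iInf_le W4 kk))
  have hUW5 : ∀ lk, U₃ ⊓ (⨅ i, W2 i) ⊓ (⨅ kk, W4 kk) ⊓ (⨅ lk, W5 lk) ≤ W5 lk := fun lk =>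
    inf_le_right.trans (iInf_le W5 lk)
  refine ⟨U₃ ⊓ (⨅ i, W2 i) ⊓ (⨅ kk, W4 kk) ⊓ (⨅ lk, W5 lk), hxU, ?_⟩
  obtain ⟨hgen, hind⟩ := isLocGen_isLocIndep_of_matrices F _
    (fun i => rs F (homOfLE hU3) (s₃ i))
    (fun l i => rr (ModSite.ringSh O) (homOfLE hU3) (rel₃ l i))
    (IsLocGen.mono hU3 hs₃) (IsLocRel.mono hU3 hr₃)
    (fun k => rs F (homOfLE hU3) (e₃ k))
    (fun i k => rr (ModSite.ringSh O) (homOfLE hU3) (a₃ i k))
    (fun k i => rr (ModSite.ringSh O) (homOfLE hU3) (b k i))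
    (fun i => by
      have e := congrArg (rs F (homOfLE (hUW2 i))) (hE2 i)
      rw [rs_le_le, rs_le_le, rs_sum_smul] at e
      exact e)
    (fun k => by
      have e := congrArg (rs F (homOfLE hU3)) (E3 k)
      rw [rs_sum_smul] at e
      exact e)
    (fun k k' => by
      have e := congrArg (rr (ModSite.ringSh O) (homOfLE (hUW4 (k, k')))) (hE4 (k, k'))
      rw [rr_le_le, rr_le_le, map_sum] at e
      refine Eq.trans (Finset.sum_congr rfl (fun i _ => (map_mul _ _ _).symm)) (e.trans ?_)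
      split_ifs
      · exact map_one _
      · exact map_zero _)
    (fun l k => by
      have e := congrArg (rr (ModSite.ringSh O) (homOfLE (hUW5 (l, k)))) (hE5 (l, k))
      rw [rr_le_le, rr_le_le, map_sum, map_zero] at e
      exact Eq.trans (Finset.sum_congr rfl (fun i _ => (map_mul _ _ _).symm)) e)
  exact nonempty_iso_free_of_isLocGen_of_isLocIndep F _ _ hgen hind

end Groth.Agent.S6848
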