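import Groth.Statements.S6849
import Groth.Agent.Lib.Helper42.StalkBasis
import Groth.Agent.S6848

set_option autoImplicit false
universe u
open CategoryTheory CategoryTheory.Limits TopologicalSpace
open ModSite

namespace Groth.Agent.S6849

open Groth.Agent.Lib.Helper42.FTLocal Groth.Agent.Lib.Helper42.FPLocal
  Groth.Agent.Lib.Helper42.StalkColim Groth.Agent.Lib.Helper42.StalkFree
  Groth.Agent.Lib.Helper42.StalkBasis

/-- Let (X, O) be a ringed space all of whose stalks O_{X,x} are local rings, H a finite locally free
O-module (every point has an open neighbourhood U with H|_U ≅ O_U^n, the free O_U-module on n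
generators, for some n) and F a direct summand of H (maps F → H → F composing to the identity). Then
F is finite locally free. -/
theorem result {X : TopCat.{u}}
    (O : TopCat.Sheaf CommRingCat.{u} X) (hO : ∀ x : X, IsLocalRing (O.presheaf.stalk x)) {F H : ModSite.Mod O}
    (hH : ∀ x : X, ∃ (U : Opens X) (n : ℕ), x ∈ U ∧
      Nonempty ((ModSite.restr O U).obj H ≅ SheafOfModules.free (ULift.{u} (Fin n))))
    (i : F ⟶ H) (p : H ⟶ F) (hip : i ≫ p = 𝟙 F) (x : X) :
    ∃ (U : Opens X) (n : ℕ), x ∈ U ∧
      Nonempty ((ModSite.restr O U).obj F ≅ SheafOfModules.free (ULift.{u} (Fin n))) := by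
  haveI := hO x
  haveI : IsLocalRing (ModSite.stalkRing (Opens.pointGrothendieckTopology x) O) :=
    isLocalRing_stalkRing x O
  haveI hHfp := isFinitePresentation_of_locally_finite_free H hH
  haveI hFfp := isFinitePresentation_of_retract i p hip
  obtain ⟨U, n, hxU, hiso⟩ := hH x
  obtain ⟨e, hgen, hind⟩ := exists_basis_of_iso_free (R := ModSite.ringSh O) H U hiso
  let b := germBasis x H hxU e hgen hind
  haveI : Module.Free (ModSite.stalkRing (Opens.pointGrothendieckTopology x) O)
      (ModSite.stalkAb (Opens.pointGrothendieckTopology x) H) := Module.Free.of_basis b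
  haveI : Module.Finite (ModSite.stalkRing (Opens.pointGrothendieckTopology x) O)
      (ModSite.stalkAb (Opens.pointGrothendieckTopology x) H) := Module.Finite.of_basis b
  let ix : ModSite.stalkAb (Opens.pointGrothendieckTopology x) F
      →ₗ[ModSite.stalkRing (Opens.pointGrothendieckTopology x) O]
      ModSite.stalkAb (Opens.pointGrothendieckTopology x) H :=
    (ModSite.stalkMap (Opens.pointGrothendieckTopology x) i).hom
  let px : ModSite.stalkAb (Opens.pointGrothendieckTopology x) H
      →ₗ[ModSite.stalkRing (Opens.pointGrothendieckTopology x) O]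
      ModSite.stalkAb (Opens.pointGrothendieckTopology x) F :=
    (ModSite.stalkMap (Opens.pointGrothendieckTopology x) p).hom
  have hpi : px ∘ₗ ix = LinearMap.id := by
    ext m
    refine (stalkMap_comp_apply (Opens.pointGrothendieckTopology x) i p m).trans ?_
    rw [hip]
    exact stalkMap_id_apply (Opens.pointGrothendieckTopology x) F m
  haveI : Module.Projective (ModSite.stalkRing (Opens.pointGrothendieckTopology x) O)
      (ModSite.stalkAb (Opens.pointGrothendieckTopology x) F) :=
    Module.Projective.of_split ix px hpi
  haveI : Module.Finite (ModSite.stalkRing (Opens.pointGrothendieckTopology x) O)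
      (ModSite.stalkAb (Opens.pointGrothendieckTopology x) F) :=
    Module.Finite.of_surjective px (fun m => ⟨ix m, LinearMap.congr_fun hpi m⟩)
  haveI : Module.Free (ModSite.stalkRing (Opens.pointGrothendieckTopology x) O)
      (ModSite.stalkAb (Opens.pointGrothendieckTopology x) F) :=
    Module.free_of_flat_of_isLocalRing
  let bF := Module.finBasis (ModSite.stalkRing (Opens.pointGrothendieckTopology x) O)
    (ModSite.stalkAb (Opens.pointGrothendieckTopology x) F)
  obtain ⟨U', hxU', hiso'⟩ := Groth.Agent.S6848.result O F x _ ⟨bF.equivFun⟩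
  exact ⟨U', _, hxU', hiso'⟩


end Groth.Agent.S6849
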