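import Groth.Statements.S6854
import Mathlib
import Groth.Agent.Lib.Helper81.ArtSubPInd
import Groth.Agent.Lib.Helper81.ArtSubCoeff
import Groth.Agent.Lib.Helper81.ArtSubMain

set_option autoImplicit false
universe u
open Smoothing

namespace Groth.Agent.S6854

/-- Let k be a field of characteristic p > 0 and Λ an Artinian local k-algebra with residue field K such
that H_1(L_{K/k}) is a finite-dimensional K-vector space. Then Λ is a filtered colimit (a directed
union) of k-subalgebras A ⊆ Λ which are Artinian local and essentially of finite type over k, with A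
→ Λ flat and m_A Λ = m_Λ; stated as: every finite subset of Λ is contained in such a subalgebra. -/
theorem result {k Λ : Type u} [Field k] (p : ℕ) [Fact p.Prime]
    [CharP k p] [CommRing Λ] [Algebra k Λ] [IsArtinianRing Λ] [IsLocalRing Λ]
    (hH : Module.Finite (IsLocalRing.ResidueField Λ) (Algebra.H1Cotangent k (IsLocalRing.ResidueField Λ)))
    (E : Finset Λ) :
    ∃ (A : Subalgebra k Λ) (_ : IsLocalRing A), (↑E : Set Λ) ⊆ A ∧ IsArtinianRing A ∧ Module.Flat A Λ ∧
      Algebra.EssFiniteType k A ∧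
      (IsLocalRing.maximalIdeal A).map (algebraMap A Λ) = IsLocalRing.maximalIdeal Λ := by
  classical
  haveI : CharP (IsLocalRing.ResidueField Λ) p :=
    charP_of_injective_algebraMap (algebraMap k (IsLocalRing.ResidueField Λ)).injective p
  have hnil : IsNilpotent (IsLocalRing.maximalIdeal Λ) := by
    have := IsArtinianRing.isNilpotent_jacobson_bot (R := Λ)
    rwa [IsLocalRing.jacobson_eq_maximalIdeal ⊥ bot_ne_top] at this
  obtain ⟨N, hN⟩ := hnil
  obtain ⟨B₀, B₁, hB₀, hL⟩ :=
    Groth.Agent.Lib.Helper81.ArtSub.exists_pBasis_cofinite_pIndependent p (k := k)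
      (K := IsLocalRing.ResidueField Λ) hH
  have hLex : ∀ y : ↥(algebraMap k (IsLocalRing.ResidueField Λ) '' (B₀ \ ↑B₁)),
      ∃ b : k, b ∈ B₀ \ ↑B₁ ∧ algebraMap k (IsLocalRing.ResidueField Λ) b = y.1 := fun y => y.2
  choose bOf hbOf using hLex
  obtain ⟨σ, hσ, hσL⟩ := Groth.Agent.Lib.Helper81.ArtSub.exists_section_prescribed p ⟨N, hN⟩ _ hL
    (fun y => algebraMap k Λ (bOf y)) (fun y => (hbOf y).2)
  have hσB : ∀ b ∈ B₀ \ (↑B₁ : Set k),
      σ (algebraMap k (IsLocalRing.ResidueField Λ) b) = algebraMap k Λ b := by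
    intro b hb
    have h1 := hσL ⟨algebraMap k (IsLocalRing.ResidueField Λ) b, b, hb, rfl⟩
    rw [h1]
    congr 1
    exact (algebraMap k (IsLocalRing.ResidueField Λ)).injective (hbOf _).2
  refine Groth.Agent.Lib.Helper81.ArtSub.exists_subalgebra_of_section σ hσ B₁
    (fun R h1 h2 a => ?_) E
  refine Groth.Agent.Lib.Helper81.ArtSub.algebraMap_mem_of_section p σ hσ N hN B₀ hB₀.2 R h1
    (fun b hb => ?_) a
  by_cases hb1 : b ∈ B₁
  · exact h2 b hb1
  · rw [← hσB b ⟨hb, fun h => hb1 (Finset.mem_coe.1 h)⟩]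
    exact h1 b

end Groth.Agent.S6854
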