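import Groth.Statements.S6858
import Groth.Agent.Lib.Helper42.FreeRank

set_option autoImplicit false
universe u
open CategoryTheory CategoryTheory.Limits TopologicalSpace
open ModSite

namespace Groth.Agent.S6858

/-- Let (X, O) be a ringed space all of whose stalks O_{X,x} are nonzero rings and F a locally free
O-module. Then there is a locally constant function rank_F : X → ℕ ∪ {∞} such that for every point
x, every open neighbourhood U of x and every index set I with F|_U ≅ ⊕_{i ∈ I} O_U, the cardinality
of I (a natural number or ∞) is rank_F(x). -/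
theorem result {X : TopCat.{u}} (O : TopCat.Sheaf CommRingCat.{u} X)
    (hO : ∀ x : X, Nontrivial (O.presheaf.stalk x)) (F : ModSite.Mod O)
    [SheafOfModules.IsLocallyFree (R := ModSite.ringSh O) F] :
    ∃ rk : X → ℕ∞, IsLocallyConstant rk ∧
      ∀ (x : X) (U : Opens X) (I : Type u), x ∈ U →
        Nonempty ((ModSite.restr O U).obj F ≅ SheafOfModules.free I) → ENat.card I = rk x := by
  obtain ⟨q, hq⟩ := SheafOfModules.IsLocallyFree.exists_isLocallyFreeData (M := F)
  have hcov := (Opens.coversTop_iff _ _).mp q.coversTop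
  have htriv : ∀ x : X, ∃ (U : Opens X) (I : Type u), x ∈ U ∧
      Nonempty ((ModSite.restr O U).obj F ≅ SheafOfModules.free I) := by
    intro x
    obtain ⟨i, hi⟩ : ∃ i, x ∈ q.X i := by
      have : x ∈ (⨆ i, q.X i : Opens X) := by rw [hcov.iSup_eq_top]; trivial
      simpa using this
    exact ⟨q.X i, (q.generators i).I, hi, ⟨(asIso (q.generators i).π).symm⟩⟩
  choose U I hxU hiso using htriv
  have hnt : ∀ x : X, Nontrivial (ModSite.stalkRing (Opens.pointGrothendieckTopology x) O) :=
    fun x => @Groth.Agent.Lib.Helper42.StalkBasis.nontrivial_stalkRing _ x O (hO x)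
  refine ⟨fun x => ENat.card (I x), ?_, fun x U' I' hx h =>
    @Groth.Agent.Lib.Helper42.FreeRank.enatCard_eq_of_iso_free _ _ x (hnt x) F _ _ hx (hxU x) _ _ h
      (hiso x)⟩
  rw [IsLocallyConstant.iff_exists_open]
  intro x
  refine ⟨U x, (U x).isOpen, hxU x, fun y hy => ?_⟩
  exact @Groth.Agent.Lib.Helper42.FreeRank.enatCard_eq_of_iso_free _ _ y (hnt y) F _ _ (hxU y) hy
    _ _ (hiso y) (hiso x)

end Groth.Agent.S6858
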