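import Groth.Statements.S6860
import Mathlib

set_option autoImplicit false
universe u
open Smoothing

namespace Groth.Agent.S6860

open MvPolynomial

/-- `p - C (p(e))` lies in the ideal generated by the `X i - C (e i)`. -/
theorem sub_C_aeval_mem {A : Type u} [CommRing A] {n : ℕ} (e : Fin n → A)
    (p : MvPolynomial (Fin n) A) :
    p - C (aeval e p) ∈ Ideal.span (Set.range fun i : Fin n => (X i - C (e i) : MvPolynomial (Fin n) A)) := by
  induction p using MvPolynomial.induction_on with
  | C a => simp
  | add p q hp hq =>
    have : p + q - C (aeval e (p + q)) = (p - C (aeval e p)) + (q - C (aeval e q)) := by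
      rw [map_add, map_add]; ring
    rw [this]; exact Ideal.add_mem _ hp hq
  | mul_X p i hp =>
    have : p * X i - C (aeval e (p * X i)) =
        p * (X i - C (e i)) + (p - C (aeval e p)) * C (e i) := by
      rw [map_mul, aeval_X, map_mul]; ring
    rw [this]
    exact Ideal.add_mem _ (Ideal.mul_mem_left _ _ (Ideal.subset_span ⟨i, rfl⟩))
      (Ideal.mul_mem_right _ _ hp)

/-- The "graph" presentation of `A` over itself: variables `X i`, relations `X i - C (e i)`. -/
noncomputable def graphPres {A : Type u} [CommRing A] {n : ℕ} (e : Fin n → A) :
    Algebra.PreSubmersivePresentation A A (Fin n) (Fin n) where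
  toGenerators := Algebra.Generators.ofSurjective e (fun a => ⟨C a, by simp⟩)
  relation := fun i => X i - C (e i)
  span_range_relation_eq_ker := by
    rw [Algebra.Generators.ker_eq_ker_aeval_val]
    apply le_antisymm
    · rw [Ideal.span_le]
      rintro _ ⟨i, rfl⟩
      simp [RingHom.mem_ker]
    · intro p hp
      rw [RingHom.mem_ker] at hp
      have := sub_C_aeval_mem e p
      have hp' : aeval e p = 0 := hp
      rwa [hp', map_zero, sub_zero] at this
  map := id
  map_inj := Function.injective_id

theorem graphPres_jacobian {A : Type u} [CommRing A] {n : ℕ} (e : Fin n → A) :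
    IsUnit (graphPres e).jacobian := by
  classical
  rw [Algebra.PreSubmersivePresentation.jacobian_eq_jacobiMatrix_det]
  have : (graphPres e).jacobiMatrix = 1 := by
    ext i j : 1
    rw [Algebra.PreSubmersivePresentation.jacobiMatrix_apply]
    change pderiv i (X j - C (e j) : MvPolynomial (Fin n) A) = _
    rw [map_sub, pderiv_X, pderiv_C, sub_zero, Matrix.one_apply, Pi.single_apply]
    by_cases h : i = j
    · simp [h]
    · simp [h, Ne.symm h]
  rw [this, Matrix.det_one, map_one]
  exact isUnit_one


/-- Let R → A be standard smooth and E ⊆ A a finite subset. Then A admits a standard smooth presentation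
A = R[x₁, …, x_N]/(f₁, …, f_c) (a submersive presentation: finitely many generators and relations,
an injection from the relations to the variables picking the distinguished variables, and the
Jacobian of the relations with respect to the distinguished variables invertible in A) in which
every element of E is the class of a distinguished variable. (The published statement arranges E to
be exactly the classes of the first n = |E| variables, all of them distinguished, with c ≥ n; this
row states that E is contained in the set of classes of the distinguished variables, which is what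
that arrangement gives.) -/
theorem result {R A : Type u} [CommRing R] [CommRing A] [Algebra R A]
    [Algebra.IsStandardSmooth R A] (E : Finset A) :
    ∃ (ι σ : Type) (_ : Finite ι) (_ : Finite σ) (P : Algebra.SubmersivePresentation R A ι σ),
      (↑E : Set A) ⊆ Set.range (P.val ∘ P.map) := by
  classical
  obtain ⟨ι, σ, hσ, hι, ⟨P⟩⟩ := Algebra.IsStandardSmooth.out (R := R) (S := A)
  let n := E.card
  let e : Fin n → A := fun i => ((E.equivFin).symm i : A)
  let Q : Algebra.SubmersivePresentation A A (Fin n) (Fin n) :=
    { toPreSubmersivePresentation := graphPres e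
      jacobian_isUnit := graphPres_jacobian e }
  refine ⟨Fin n ⊕ ι, Fin n ⊕ σ, inferInstance, inferInstance, Q.comp P, ?_⟩
  intro x hx
  refine ⟨Sum.inl (E.equivFin ⟨x, hx⟩), ?_⟩
  change (Q.comp P).val ((Q.comp P).map (Sum.inl (E.equivFin ⟨x, hx⟩))) = x
  have h1 : (Q.comp P).map (Sum.inl (E.equivFin ⟨x, hx⟩)) = Sum.inl (E.equivFin ⟨x, hx⟩) := rfl
  rw [h1]
  have h2 : (Q.comp P).val (Sum.inl (E.equivFin ⟨x, hx⟩)) = e (E.equivFin ⟨x, hx⟩) := rfl
  rw [h2]
  simp [e]

end Groth.Agent.S6860
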