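import Groth.Statements.S6862
import Mathlib.LinearAlgebra.Prod
import Mathlib.RingTheory.Finiteness.Prod
-- import your own Groth.Agent.* helpers here

set_option autoImplicit false
universe u
open CAlg

namespace Groth.Agent.S6862

section helpers

variable {R : Type u} [CommRing R]

theorem isStablyFree_prod (M N : Type u) [AddCommGroup M] [Module R M] [AddCommGroup N] [Module R N]
    (hM : Module.IsStablyFree R M) (hN : Module.IsStablyFree R N) :
    Module.IsStablyFree R (M × N) := by
  obtain ⟨A, _, _, _, _, hA⟩ := Module.IsStablyFree.exist_free_prod R M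
  obtain ⟨B, _, _, _, _, hB⟩ := Module.IsStablyFree.exist_free_prod R N
  have : Module.Free R ((M × N) × A × B) :=
    Module.Free.of_equiv (LinearEquiv.prodProdProdComm R M A N B)
  exact Module.IsStablyFree.of_free_prod R (M × N) (A × B)

/-- the rearrangement `((M × N) × C) × B ≃ M × ((N × B) × C)` -/
def rearr (M N B C : Type u) [AddCommGroup M] [Module R M] [AddCommGroup N] [Module R N]
    [AddCommGroup B] [Module R B] [AddCommGroup C] [Module R C] :
    (((M × N) × C) × B) ≃ₗ[R] (M × ((N × B) × C)) where
  toFun x := (x.1.1.1, ((x.1.1.2, x.2), x.1.2))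
  invFun y := (((y.1, y.2.1.1), y.2.2), y.2.1.2)
  map_add' x y := by simp
  map_smul' r x := by simp
  left_inv x := by simp
  right_inv y := by simp

theorem isStablyFree_of_prod (M N : Type u) [AddCommGroup M] [Module R M] [AddCommGroup N] [Module R N]
    [Module.Finite R N]
    (hN : Module.IsStablyFree R N) (hMN : Module.IsStablyFree R (M × N)) :
    Module.IsStablyFree R M := by
  obtain ⟨B, _, _, _, _, hB⟩ := Module.IsStablyFree.exist_free_prod R N
  obtain ⟨C, _, _, _, _, hC⟩ := Module.IsStablyFree.exist_free_prod R (M × N)
  have : Module.Free R (M × ((N × B) × C)) :=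
    Module.Free.of_equiv (rearr M N B C)
  exact Module.IsStablyFree.of_free_prod R M ((N × B) × C)

end helpers

/-- Let `R` be a commutative ring and `P'`, `P`, `P''` finitely generated projective `R`-modules in an
exact sequence `0 → P' → P → P'' → 0`. Whenever two of the three are stably free, the remaining one
is stably free too (all three cases are stated). -/
theorem result {R : Type u} [CommRing R] {P' P P'' : Type u}
    [AddCommGroup P'] [Module R P'] [Module.Finite R P'] [Module.Projective R P']
    [AddCommGroup P] [Module R P] [Module.Finite R P] [Module.Projective R P]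
    [AddCommGroup P''] [Module R P''] [Module.Finite R P''] [Module.Projective R P'']
    (f : P' →ₗ[R] P) (g : P →ₗ[R] P'') (hf : Function.Injective f) (hg : Function.Surjective g)
    (hfg : Function.Exact f g) :
    (Module.IsStablyFree R P' → Module.IsStablyFree R P → Module.IsStablyFree R P'') ∧
    (Module.IsStablyFree R P' → Module.IsStablyFree R P'' → Module.IsStablyFree R P) ∧
    (Module.IsStablyFree R P → Module.IsStablyFree R P'' → Module.IsStablyFree R P') := by
  obtain ⟨l, hl⟩ := Module.projective_lifting_property g LinearMap.id hg
  let e : P ≃ₗ[R] P' × P'' := (hfg.splitSurjectiveEquiv hf ⟨l, hl⟩).1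
  refine ⟨fun h' h => ?_, fun h' h'' => ?_, fun h h'' => ?_⟩
  · have h1 : Module.IsStablyFree R (P' × P'') := h.equiv e
    have h2 : Module.IsStablyFree R (P'' × P') := h1.equiv (LinearEquiv.prodComm R P' P'')
    exact isStablyFree_of_prod P'' P' h' h2
  · exact (isStablyFree_prod P' P'' h' h'').equiv e.symm
  · have h1 : Module.IsStablyFree R (P' × P'') := h.equiv e
    exact isStablyFree_of_prod P' P'' h'' h1

end Groth.Agent.S6862
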