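import Groth.Statements.S6863
import Groth.Agent.H34.Nakayama
import Mathlib

set_option autoImplicit false
universe u
open TensorProduct
open CAlg

namespace Groth.Agent.S6863

/-- Let `I` be an ideal of a commutative ring `R` contained in the Jacobson radical (equivalently, `1 +
i` is a unit for each `i ∈ I`). Then each finitely generated stably free module `E` over `R/I`
lifts: there is a finite stably free `R`-module `M` with `M/IM ≅ E` (existence of an isomorphism
only; the published statement names no map). -/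
theorem result {R : Type u} [CommRing R] (I : Ideal R)
    (hI : I ≤ Ideal.jacobson (⊥ : Ideal R)) (E : Type u) [AddCommGroup E] [Module (R ⧸ I) E]
    [Module.Finite (R ⧸ I) E] [Module.IsStablyFree (R ⧸ I) E] :
    ∃ (M : Type u) (_ : AddCommGroup M) (_ : Module R M), Module.Finite R M ∧ Module.IsStablyFree R M ∧
      Nonempty ((R ⧸ I) ⊗[R] M ≃ₗ[R ⧸ I] E) := by
  classical
  let A := R ⧸ I
  obtain ⟨N, _, _, hNfin, hNfree, hENfree⟩ := Module.IsStablyFree.exist_free_prod A E
  let ι := Module.Free.ChooseBasisIndex A (E × N)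
  let κ := Module.Free.ChooseBasisIndex A N
  let bEN : Module.Basis ι A (E × N) := Module.Free.chooseBasis A (E × N)
  let bN : Module.Basis κ A N := Module.Free.chooseBasis A N
  -- the projection in coordinates
  let pr : (ι → A) →ₗ[A] (κ → A) :=
    bN.equivFun.toLinearMap ∘ₗ (LinearMap.snd A E N) ∘ₗ bEN.equivFun.symm.toLinearMap
  have hpr : Function.Surjective pr := by
    intro w
    refine ⟨bEN.equivFun ((0 : E), bN.equivFun.symm w), ?_⟩
    simp only [pr, LinearMap.comp_apply, LinearEquiv.coe_coe, LinearEquiv.symm_apply_apply,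
      LinearMap.snd_apply, LinearEquiv.apply_symm_apply]
  -- lift the matrix of `pr`
  have hlift : ∀ (k : κ) (i : ι), ∃ r : R, Ideal.Quotient.mk I r = pr (Pi.single i 1) k :=
    fun k i => Ideal.Quotient.mk_surjective _
  choose C hC using hlift
  let Φ : (ι → R) →ₗ[R] (κ → R) := Matrix.mulVecLin (Matrix.of C)
  have hΦ : ∀ v k, Φ v k = ∑ i, C k i * v i := by
    intro v k
    simp [Φ, Matrix.mulVec, dotProduct]
  -- the key compatibility with reduction modulo `I`
  have hpr_apply : ∀ (w : ι → A) (k : κ), pr w k = ∑ i, w i * pr (Pi.single i 1) k := by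
    intro w k
    have hw : w = ∑ i, w i • (Pi.single i (1 : A) : ι → A) := by
      funext j
      simp [Pi.single_apply]
    conv_lhs => rw [hw]
    simp only [map_sum, map_smul, Finset.sum_apply, Pi.smul_apply, smul_eq_mul]
  have hkey : ∀ (v : ι → R) (k : κ),
      Ideal.Quotient.mk I (Φ v k) = pr (fun i => Ideal.Quotient.mk I (v i)) k := by
    intro v k
    rw [hΦ, hpr_apply, map_sum]
    refine Finset.sum_congr rfl (fun i _ => ?_)
    rw [map_mul, hC, mul_comm]
  -- `Φ` is surjective by Nakayama
  have hΦsurj : Function.Surjective Φ := by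
    apply Groth.Agent.H34.surjective_of_le_range_sup_smul_top I hI
    intro y _
    obtain ⟨w, hw⟩ := hpr (fun k => Ideal.Quotient.mk I (y k))
    have hv : ∀ i, ∃ r : R, Ideal.Quotient.mk I r = w i := fun i => Ideal.Quotient.mk_surjective _
    choose v hv using hv
    have hmem : ∀ k, (y - Φ v) k ∈ I := by
      intro k
      rw [← Ideal.Quotient.eq_zero_iff_mem, Pi.sub_apply, map_sub, hkey, sub_eq_zero]
      have : (fun i => Ideal.Quotient.mk I (v i)) = w := funext hv
      rw [this, hw]
    have hy : y = Φ v + (y - Φ v) := by abel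
    rw [hy]
    refine Submodule.add_mem_sup (LinearMap.mem_range_self Φ v) ?_
    have hz : (y - Φ v) = ∑ k, ((y - Φ v) k) • (Pi.single k (1 : R) : κ → R) := by
      funext j
      simp [Pi.single_apply]
    rw [hz]
    exact Submodule.sum_mem _ (fun k _ => Submodule.smul_mem_smul (hmem k) Submodule.mem_top)
  -- the kernel and its splitting
  let M := LinearMap.ker Φ
  obtain ⟨s, hs⟩ := Module.projective_lifting_property Φ LinearMap.id hΦsurj
  let e' := (LinearMap.exact_subtype_ker_map Φ).splitSurjectiveEquiv
    (Submodule.injective_subtype _) ⟨s, hs⟩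
  let e : (ι → R) ≃ₗ[R] M × (κ → R) := e'.1
  have he2 : ∀ v, (e v).2 = Φ v := by
    intro v
    have := e'.2.2
    exact (LinearMap.congr_fun this v).symm
  have hMfin : Module.Finite R M :=
    Module.Finite.of_surjective ((LinearMap.fst R M (κ → R)) ∘ₗ e.toLinearMap)
      ((LinearMap.fst_surjective (R := R) (M := M) (M₂ := κ → R)).comp e.surjective)
  have hfree : Module.Free R (M × (κ → R)) := Module.Free.of_equiv e
  have hMsf : Module.IsStablyFree R M := Module.IsStablyFree.of_free_prod R M (κ → R)
  refine ⟨M, inferInstance, inferInstance, hMfin, hMsf, ⟨?_⟩⟩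
  -- two decompositions of `A ⊗ (ι → R)`
  let f₁ : A ⊗[R] (ι → R) ≃ₗ[A] (A ⊗[R] M) × (κ → A) :=
    (TensorProduct.AlgebraTensorModule.congr (LinearEquiv.refl A A) e) ≪≫ₗ
      (TensorProduct.prodRight R A A M (κ → R)) ≪≫ₗ
      (LinearEquiv.prodCongr (LinearEquiv.refl A (A ⊗[R] M)) (TensorProduct.piScalarRight R A A κ))
  let g₁ : A ⊗[R] (ι → R) ≃ₗ[A] E × (κ → A) :=
    (TensorProduct.piScalarRight R A A ι) ≪≫ₗ bEN.equivFun.symm ≪≫ₗ
      (LinearEquiv.prodCongr (LinearEquiv.refl A E) bN.equivFun)
  refine Groth.Agent.H34.equivOfProdEquiv f₁ g₁ ?_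
  intro z
  induction z using TensorProduct.induction_on with
  | zero => simp
  | add x y hx hy => rw [map_add, map_add, Prod.snd_add, Prod.snd_add, hx, hy]
  | tmul a v =>
    have h1 : (f₁ (a ⊗ₜ[R] v)).2 = fun k => (Φ v k) • a := by
      simp only [f₁, LinearEquiv.trans_apply, TensorProduct.AlgebraTensorModule.congr_tmul,
        LinearEquiv.refl_apply, TensorProduct.prodRight_tmul, LinearEquiv.prodCongr_apply,
        he2]
      funext k
      simp [TensorProduct.piScalarRight_apply]
    have h2 : (g₁ (a ⊗ₜ[R] v)).2 = pr (fun i => (v i) • a) := by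
      simp only [g₁, LinearEquiv.trans_apply, LinearEquiv.prodCongr_apply, pr,
        LinearMap.comp_apply, LinearEquiv.coe_coe, LinearMap.snd_apply]
      congr 2
    rw [h1, h2]
    funext k
    have h3 : (fun i => (v i) • a) = a • (fun i => Ideal.Quotient.mk I (v i)) := by
      funext i
      change (v i) • a = a * Ideal.Quotient.mk I (v i)
      rw [Algebra.smul_def, mul_comm]
      rfl
    rw [h3, map_smul, Pi.smul_apply, ← hkey, Algebra.smul_def, smul_eq_mul, mul_comm]
    rfl

end Groth.Agent.S6863
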