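import Groth.Statements.S6866
import Groth.Agent.H34.TorsionFree

set_option autoImplicit false
universe u
open TensorProduct
open CAlg

namespace Groth.Agent.S6866

/-- If `M` is a torsion free module over a domain `R` and `R → R'` is a flat ring map to another domain,
then `R' ⊗_R M` is torsion free over `R'`. -/
theorem result (R R' : Type u) [CommRing R] [IsDomain R] [CommRing R']
    [IsDomain R'] [Algebra R R'] [Module.Flat R R'] (M : Type u) [AddCommGroup M] [Module R M]
    [Module.IsTorsionFree R M] : Module.IsTorsionFree R' (R' ⊗[R] M) := by
  apply Module.IsTorsionFree.of_smul_eq_zero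
  intro r' x hx
  by_cases hr' : r' = 0
  · exact Or.inl hr'
  right
  obtain ⟨N', hN'fin, hN'⟩ := TensorProduct.exists_finite_submodule_right_of_setFinite
    ({x} : Set (R' ⊗[R] M)) (Set.finite_singleton x)
  obtain ⟨x', hx'⟩ := hN' (Set.mem_singleton x)
  obtain ⟨h, hker, -⟩ := Groth.Agent.H34.exists_map_to_fin_fun R N'
  have hinj : Function.Injective h := by
    rw [injective_iff_map_eq_zero]
    intro z hz
    obtain ⟨c, hc, hcz⟩ := hker z hz
    rcases smul_eq_zero.mp hcz with h0 | h0
    · exact absurd h0 hc
    · exact h0
  have h1 : Function.Injective (N'.subtype.baseChange R') := by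
    have := Module.Flat.lTensor_preserves_injective_linearMap (M := R') N'.subtype
      N'.injective_subtype
    intro a b hab
    exact this hab
  have h2 : Function.Injective (h.baseChange R') := by
    have := Module.Flat.lTensor_preserves_injective_linearMap (M := R') h hinj
    intro a b hab
    exact this hab
  have hx'' : (N'.subtype.baseChange R') x' = x := hx'
  have h3 : r' • x' = 0 := by
    apply h1
    rw [map_smul, hx'', hx, map_zero]
  let e := TensorProduct.piScalarRight R R' R' (Fin (Module.finrank R N'))
  have h4 : r' • e ((h.baseChange R') x') = 0 := by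
    rw [← map_smul, ← map_smul, h3, map_zero, map_zero]
  have h5 : e ((h.baseChange R') x') = 0 := by
    rcases smul_eq_zero.mp h4 with h0 | h0
    · exact absurd h0 hr'
    · exact h0
  have h6 : x' = 0 := by
    apply h2
    rw [map_zero]
    exact e.injective (by rw [h5, map_zero])
  rw [← hx'', h6, map_zero]

end Groth.Agent.S6866
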