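import Groth.Statements.S6868
import Mathlib
import Groth.Agent.Lib.Helper29.Depth

set_option autoImplicit false
universe u
open CAlg

namespace Groth.Agent.S6868

open IsLocalRing RingTheory.Sequence in
/-- A torsion-free module over a local domain that is not a field has depth at least one. -/
theorem one_le_depth_of_isTorsionFree (A : Type u) [CommRing A] [IsLocalRing A] [IsDomain A]
    (N : Type u) [AddCommGroup N] [Module A N] [Module.IsTorsionFree A N]
    (hne : maximalIdeal A ≠ ⊥) : (1 : ℕ∞) ≤ LocCoh.depth A N := by
  unfold LocCoh.depth LocCoh.idealDepth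
  split_ifs with h
  · exact le_top
  · obtain ⟨r, hr, hr0⟩ := Submodule.exists_mem_ne_zero_of_ne_bot hne
    refine le_iSup₂_of_le [r]
      ⟨(isWeaklyRegular_singleton_iff N r).mpr (IsSMulRegular.of_ne_zero hr0), by simpa using hr⟩
      (by simp)

theorem tf_iff_ass (R : Type u) [CommRing R] [IsDomain R] [IsNoetherianRing R] (M : Type u)
    [AddCommGroup M] [Module R M] [Nontrivial M] :
    Module.IsTorsionFree R M ↔ associatedPrimes R M = {⊥} := by
  constructor
  · intro hM
    apply Set.Subset.antisymm
    · intro p hp
      rw [AssociatedPrimes.mem_iff, isAssociatedPrime_iff] at hp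
      obtain ⟨hp, x, rfl⟩ := hp
      rw [Set.mem_singleton_iff, eq_bot_iff]
      intro r hr
      rw [Submodule.mem_colon_singleton, Submodule.mem_bot] at hr
      rcases smul_eq_zero.mp hr with h0 | h0
      · exact h0 ▸ Submodule.zero_mem _
      · exfalso
        apply hp.ne_top
        rw [h0, eq_top_iff]
        intro s _
        rw [Submodule.mem_colon_singleton, smul_zero]
        exact Submodule.zero_mem _
    · obtain ⟨p, hp⟩ := associatedPrimes.nonempty R M
      intro q hq
      rw [Set.mem_singleton_iff] at hq
      subst hq
      have hp' := hp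
      rw [AssociatedPrimes.mem_iff, isAssociatedPrime_iff] at hp'
      obtain ⟨hpp, x, rfl⟩ := hp'
      have : Submodule.colon (⊥ : Submodule R M) {x} = ⊥ := by
        rw [eq_bot_iff]
        intro r hr
        rw [Submodule.mem_colon_singleton, Submodule.mem_bot] at hr
        rcases smul_eq_zero.mp hr with h0 | h0
        · exact h0 ▸ Submodule.zero_mem _
        · exfalso
          apply hpp.ne_top
          rw [h0, eq_top_iff]
          intro s _
          rw [Submodule.mem_colon_singleton, smul_zero]
          exact Submodule.zero_mem _
      rw [this] at hp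
      exact hp
  · intro hass
    apply Module.IsTorsionFree.of_smul_eq_zero
    intro c x hcx
    by_cases hx : x = 0
    · exact Or.inr hx
    left
    obtain ⟨P, hP, hle⟩ := exists_le_isAssociatedPrime_of_isNoetherianRing R x hx
    have hPbot : P = ⊥ := by
      have : P ∈ associatedPrimes R M := hP
      rw [hass] at this
      exact this
    have : c ∈ Submodule.colon (⊥ : Submodule R M) {x} := by
      rw [Submodule.mem_colon_singleton, Submodule.mem_bot]; exact hcx
    have := hle this
    rw [hPbot] at this
    exact this

/-- The generic point stays in the support after localizing at a prime (domain case). -/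
theorem bot_mem_support_localizedModule (R : Type u) [CommRing R] [IsDomain R] (M : Type u)
    [AddCommGroup M] [Module R M]
    (h : (⟨⊥, Ideal.isPrime_bot⟩ : PrimeSpectrum R) ∈ Module.support R M)
    (p : Ideal R) [p.IsPrime] :
    (⟨⊥, Ideal.isPrime_bot⟩ : PrimeSpectrum (Localization.AtPrime p)) ∈
      Module.support (Localization.AtPrime p) (LocalizedModule p.primeCompl M) := by
  rw [Module.mem_support_iff'] at h ⊢
  obtain ⟨m, hm⟩ := h
  refine ⟨LocalizedModule.mkLinearMap p.primeCompl M m, ?_⟩
  intro r' hr' h0
  apply hr'
  change r' = 0
  obtain ⟨a, s, rfl⟩ := IsLocalization.exists_mk'_eq p.primeCompl r'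
  have h1 : algebraMap R (Localization.AtPrime p) a •
      LocalizedModule.mkLinearMap p.primeCompl M m = 0 := by
    have : algebraMap R (Localization.AtPrime p) a =
        algebraMap R (Localization.AtPrime p) s * IsLocalization.mk' _ a s := by
      rw [IsLocalization.mk'_spec']
    rw [this, mul_smul, h0, smul_zero]
  rw [algebraMap_smul, ← map_smul] at h1
  obtain ⟨t, ht⟩ := (IsLocalizedModule.eq_zero_iff p.primeCompl
    (LocalizedModule.mkLinearMap p.primeCompl M)).mp h1
  have h2 : (t.1 * a) • m = 0 := by
    rw [mul_smul]; exact ht
  have h3 : t.1 * a = 0 := by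
    by_contra hne
    exact hm (t.1 * a) (fun hmem => hne hmem) h2
  have ht0 : t.1 ≠ 0 := by
    intro h
    exact t.2 (h ▸ p.zero_mem)
  have ha : a = 0 := (mul_eq_zero.mp h3).resolve_left ht0
  rw [ha, IsLocalization.mk'_zero]


/-- (1) ⇔ (3) ⇔ (4): for a Noetherian domain `R` and a nonzero finite `R`-module `M`, torsion-freeness
of `M` is equivalent to `(0)` being the unique associated prime of `M`, and also to the conjunction:
`(0)` belongs to the support of `M` and `M` satisfies Serre's condition `(S_1)`. (The published
statement also lists embedding into a finite free module and the absence of embedded associated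
primes; this row states the other three conditions.) -/
theorem result (R : Type u) [CommRing R]
    [IsDomain R] [IsNoetherianRing R] (M : Type u) [AddCommGroup M] [Module R M] [Module.Finite R M] [Nontrivial M] :
    (Module.IsTorsionFree R M ↔ associatedPrimes R M = {⊥}) ∧
    (Module.IsTorsionFree R M ↔
      (⟨⊥, Ideal.isPrime_bot⟩ : PrimeSpectrum R) ∈ Module.support R M ∧ LocCoh.HasSk 1 R M) := by
  refine ⟨tf_iff_ass R M, ?_⟩
  constructor
  · intro hM
    refine ⟨?_, ?_⟩
    · rw [Module.support_of_noZeroSMulDivisors]; exact Set.mem_univ _
    · intro p hp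
      by_cases hdim : Module.supportDim (Localization.AtPrime p) (LocalizedModule p.primeCompl M) ≤ 0
      · refine (min_le_right _ _).trans (hdim.trans ?_)
        exact_mod_cast (bot_le : (0 : ℕ∞) ≤ _)
      · have hne : IsLocalRing.maximalIdeal (Localization.AtPrime p) ≠ ⊥ := by
          intro hbot
          apply hdim
          have hF : IsField (Localization.AtPrime p) :=
            IsLocalRing.isField_iff_maximalIdeal_eq.mpr hbot
          exact (Module.supportDim_le_ringKrullDim _ _).trans
            (ringKrullDim_eq_zero_of_isField hF).le
        refine (min_le_left _ _).trans ?_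
        exact_mod_cast one_le_depth_of_isTorsionFree (Localization.AtPrime p)
          (LocalizedModule p.primeCompl M) hne
  · rintro ⟨hsupp, hS1⟩
    rw [tf_iff_ass R M, Set.eq_singleton_iff_nonempty_unique_mem]
    refine ⟨associatedPrimes.nonempty R M, ?_⟩
    · intro p hp
      by_contra hpbot
      have hpp : p.IsPrime := IsAssociatedPrime.isPrime hp
      have hass := Module.associatedPrimes.mem_associatedPrimes_atPrime_of_mem_associatedPrimes hp
      have hdepth : LocCoh.depth (Localization.AtPrime p) (LocalizedModule p.primeCompl M) = 0 :=
        (Groth.Agent.Lib.Helper29.depth_eq_zero_iff _ _).mpr hass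
      have hbot := bot_mem_support_localizedModule R M hsupp p
      have hne : IsLocalRing.maximalIdeal (Localization.AtPrime p) ≠ ⊥ := by
        intro hbot'
        apply hpbot
        have h1 := Localization.AtPrime.under_maximalIdeal (I := p)
        rw [hbot'] at h1
        rw [← h1]
        rw [eq_bot_iff]
        intro x hx
        have hx' : algebraMap R (Localization.AtPrime p) x = 0 := hx
        have hinj := IsLocalization.injective (Localization.AtPrime p)
          (M := p.primeCompl) (Ideal.primeCompl_le_nonZeroDivisors p)
        exact (map_eq_zero_iff _ hinj).mp hx'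
      have hdim : (1 : WithBot ℕ∞) ≤
          Module.supportDim (Localization.AtPrime p) (LocalizedModule p.primeCompl M) := by
        unfold Module.supportDim
        rw [Order.one_le_krullDim_iff]
        refine ⟨⟨_, hbot⟩, ⟨IsLocalRing.closedPoint _, Module.mem_support_mono ?_ hbot⟩, ?_⟩
        · exact bot_le (a := (IsLocalRing.maximalIdeal (Localization.AtPrime p)))
        · change (⊥ : Ideal (Localization.AtPrime p)) <
            IsLocalRing.maximalIdeal (Localization.AtPrime p)
          exact bot_lt_iff_ne_bot.mpr hne
      have := hS1 p
      rw [hdepth] at this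
      have h2 : (1 : WithBot ℕ∞) ≤ ((0 : ℕ∞) : WithBot ℕ∞) := by
        refine le_trans ?_ this
        exact le_min (by exact_mod_cast le_rfl) hdim
      exact absurd h2 (by decide)

end Groth.Agent.S6868
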