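import Groth.Statements.S6870
import Groth.Agent.H34.TorsionFree

set_option autoImplicit false
universe u
open CAlg

namespace Groth.Agent.S6870

/-- Let `R` be a domain, `M` a finite `R`-module and `j : M → M**` the evaluation map into the double
dual. Then one nonzero `c ∈ R` kills the kernel of `j` and multiplies `M**` into the image of `j`.
(The published statement says only that the kernel and cokernel of `j` are torsion; this row gives
one such `c` for both.) -/
theorem result (R : Type u) [CommRing R] [IsDomain R] (M : Type u)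
    [AddCommGroup M] [Module R M] [Module.Finite R M] :
    ∃ c : R, c ≠ 0 ∧ (∀ x : M, Module.Dual.eval R M x = 0 → c • x = 0) ∧
      ∀ y : Module.Dual R (Module.Dual R M), c • y ∈ LinearMap.range (Module.Dual.eval R M) := by
  obtain ⟨h, g, c₁, c₂, hc₁, hc₂, hhg, hkill, hgh, -⟩ := Groth.Agent.H34.exists_quasi_iso R M
  refine ⟨c₁ * c₂, mul_ne_zero hc₁ hc₂, ?_, ?_⟩
  · intro x hx
    have hhx : h x = 0 := by
      funext i
      have := LinearMap.congr_fun hx ((LinearMap.proj i : (Fin (Module.finrank R M) → R) →ₗ[R] R) ∘ₗ h)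
      simpa using this
    rw [mul_comm, mul_smul, hkill x hhx, smul_zero]
  · intro y
    -- the vector `z = eval⁻¹ (h** y)`
    let z : Fin (Module.finrank R M) → R := fun i =>
      y ((LinearMap.proj i : (Fin (Module.finrank R M) → R) →ₗ[R] R) ∘ₗ h)
    refine ⟨c₁ • g z, ?_⟩
    apply LinearMap.ext
    intro φ
    simp only [map_smul, LinearMap.smul_apply, Module.Dual.eval_apply, smul_eq_mul]
    -- φ (g z) = y (φ ∘ g ∘ h)
    have h1 : φ (g z) = y (φ ∘ₗ g ∘ₗ h) := by
      have hz : z = ∑ i, z i • (Pi.basisFun R (Fin (Module.finrank R M)) i) := by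
        funext j
        simp [Pi.single_apply]
      have hφg : φ ∘ₗ g ∘ₗ h = ∑ i, (φ (g (Pi.basisFun R (Fin (Module.finrank R M)) i))) •
          ((LinearMap.proj i : (Fin (Module.finrank R M) → R) →ₗ[R] R) ∘ₗ h) := by
        apply LinearMap.ext
        intro m
        have hm : h m = ∑ i, h m i • (Pi.basisFun R (Fin (Module.finrank R M)) i) := by
          funext j
          simp [Pi.single_apply]
        simp only [LinearMap.comp_apply, LinearMap.sum_apply, LinearMap.smul_apply,
          LinearMap.proj_apply, smul_eq_mul]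
        conv_lhs => rw [hm]
        simp only [map_sum, map_smul, smul_eq_mul]
        exact Finset.sum_congr rfl (fun i _ => mul_comm _ _)
      rw [hφg, map_sum]
      conv_lhs => rw [hz]
      simp only [map_sum, map_smul, smul_eq_mul]
      exact Finset.sum_congr rfl (fun i _ => mul_comm _ _)
    -- c₁ • φ ∘ g ∘ h = (c₁ c₂) • φ
    have h2 : c₁ • (φ ∘ₗ g ∘ₗ h) = (c₁ * c₂) • φ := by
      apply LinearMap.ext
      intro m
      simp only [LinearMap.smul_apply, LinearMap.comp_apply, smul_eq_mul]
      rw [← smul_eq_mul, ← map_smul, hgh, map_smul, smul_eq_mul]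
    rw [h1, ← smul_eq_mul, ← map_smul, h2, map_smul, smul_eq_mul]

end Groth.Agent.S6870
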