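import Groth.Statements.S6875
import Groth.Agent.H34.Reflexive

set_option autoImplicit false
universe u
open CAlg

namespace Groth.Agent.S6875

theorem isReflexive_pi_fin (R : Type u) [CommRing R] (N : Type u) [AddCommGroup N] [Module R N]
    [Module.IsReflexive R N] : ∀ n : ℕ, Module.IsReflexive R (Fin n → N)
  | 0 => inferInstance
  | n + 1 => by
    have := isReflexive_pi_fin R N n
    exact Module.equiv (Fin.consLinearEquiv R (fun _ : Fin (n + 1) => N))

/-- Let `R` be a Noetherian domain, `M` a finite `R`-module and `N` a finite reflexive `R`-module. Then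
`Hom_R(M, N)` is reflexive. -/
theorem result (R : Type u) [CommRing R] [IsDomain R] [IsNoetherianRing R]
    (M N : Type u) [AddCommGroup M] [Module R M] [Module.Finite R M] [AddCommGroup N] [Module R N] [Module.Finite R N]
    [Module.IsReflexive R N] : Module.IsReflexive R (M →ₗ[R] N) := by
  classical
  have hNoethN : IsNoetherian R N := isNoetherian_of_isNoetherianRing_of_finite R N
  obtain ⟨a, p, hp⟩ := Module.Finite.exists_fin' R M
  have hKfin : Module.Finite R (LinearMap.ker p) := inferInstance
  obtain ⟨b, p', hp'⟩ := Module.Finite.exists_fin' R (LinearMap.ker p)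
  let d : (Fin b → R) →ₗ[R] (Fin a → R) := (LinearMap.ker p).subtype ∘ₗ p'
  have hd : LinearMap.range d = LinearMap.ker p := by
    rw [LinearMap.range_comp, LinearMap.range_eq_top.mpr hp', Submodule.map_top,
      Submodule.range_subtype]
  let F : (M →ₗ[R] N) →ₗ[R] ((Fin a → R) →ₗ[R] N) := LinearMap.lcomp R N p
  let G : ((Fin a → R) →ₗ[R] N) →ₗ[R] ((Fin b → R) →ₗ[R] N) := LinearMap.lcomp R N d
  have hF : Function.Injective F := by
    intro φ₁ φ₂ h
    apply LinearMap.ext
    intro m
    obtain ⟨x, rfl⟩ := hp m
    exact LinearMap.congr_fun h x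
  have hFG : Function.Exact F G := by
    intro ψ
    constructor
    · intro hψ
      have hker : LinearMap.ker p ≤ LinearMap.ker ψ := by
        rw [← hd]
        rintro _ ⟨y, rfl⟩
        exact LinearMap.congr_fun hψ y
      refine ⟨((LinearMap.ker p).liftQ ψ hker) ∘ₗ (p.quotKerEquivOfSurjective hp).symm.toLinearMap, ?_⟩
      apply LinearMap.ext
      intro x
      simp only [F, LinearMap.lcomp_apply, LinearMap.comp_apply, LinearEquiv.coe_coe]
      have : (p.quotKerEquivOfSurjective hp).symm (p x) = Submodule.Quotient.mk x := by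
        rw [LinearEquiv.symm_apply_eq]
        rfl
      rw [this, Submodule.liftQ_apply]
    · rintro ⟨φ, rfl⟩
      apply LinearMap.ext
      intro y
      simp only [F, G, LinearMap.lcomp_apply, LinearMap.zero_apply]
      have : d y ∈ LinearMap.ker p := by rw [← hd]; exact ⟨y, rfl⟩
      rw [LinearMap.mem_ker.mp this, map_zero]
  have h1 : Module.IsReflexive R (Fin a → N) := isReflexive_pi_fin R N a
  have h2 : Module.IsReflexive R ((Fin a → R) →ₗ[R] N) :=
    Module.equiv (Module.piEquiv (Fin a) R N)
  exact Groth.Agent.H34.isReflexive_of_exact F G hF hFG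

end Groth.Agent.S6875
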