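import Groth.Statements.S6877
import Mathlib
import Groth.Agent.Lib.Helper29.DepthRees
import Groth.Agent.S6876

set_option autoImplicit false
universe u
open CAlg

namespace Groth.Agent.S6877

open IsLocalRing

theorem min_two_le {d m : ℕ∞} (h1 : 1 ≤ d → 1 ≤ m) (h2 : 2 ≤ d → 2 ≤ m) : min d 2 ≤ m := by
  by_cases hd2 : 2 ≤ d
  · exact (min_le_right _ _).trans (h2 hd2)
  · by_cases hd1 : 1 ≤ d
    · have : d ≤ 1 := by
        rw [not_le] at hd2
        simpa using hd2
      exact (min_le_left _ _).trans (this.trans (h1 hd1))
    · have : d = 0 := by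
        rw [not_le] at hd1
        exact Order.lt_one_iff.mp hd1
      rw [this]
      simp

/-- `Supp Hom(M, N) ⊆ Supp N` for finite `N`, hence the support dimensions compare. -/
theorem supportDim_hom_le (A : Type u) [CommRing A] (M N : Type u) [AddCommGroup M] [Module A M]
    [AddCommGroup N] [Module A N] [Module.Finite A N] :
    Module.supportDim A (M →ₗ[A] N) ≤ Module.supportDim A N := by
  have hsub : Module.support A (M →ₗ[A] N) ⊆ Module.support A N := by
    intro q hq
    have h1 := Module.annihilator_le_of_mem_support hq
    rw [Module.support_eq_zeroLocus, PrimeSpectrum.mem_zeroLocus, SetLike.coe_subset_coe]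
    refine le_trans ?_ h1
    intro a ha
    rw [Module.mem_annihilator] at ha ⊢
    intro φ
    ext m
    simpa using ha (φ m)
  exact Order.krullDim_le_of_strictMono (fun pt => ⟨pt.1, hsub pt.2⟩) (fun _ _ lt => lt)

/-- The key inequality: Serre's condition passes from `N` to `Hom(M, N)` at one prime. -/
theorem key (R : Type u) [CommRing R] [IsNoetherianRing R]
    (M N : Type u) [AddCommGroup M] [Module R M] [Module.Finite R M] [AddCommGroup N] [Module R N]
    [Module.Finite R N] (p : Ideal R) [p.IsPrime] (k : WithBot ℕ∞) (hk : k ≤ 2)
    (h : min k (Module.supportDim (Localization.AtPrime p) (LocalizedModule p.primeCompl N)) ≤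
      ((LocCoh.depth (Localization.AtPrime p) (LocalizedModule p.primeCompl N) : ℕ∞) :
        WithBot ℕ∞)) :
    min k (Module.supportDim (Localization.AtPrime p)
        (LocalizedModule p.primeCompl (M →ₗ[R] N))) ≤
      ((LocCoh.depth (Localization.AtPrime p)
        (LocalizedModule p.primeCompl (M →ₗ[R] N)) : ℕ∞) : WithBot ℕ∞) := by
  have hfp : Module.FinitePresentation R M := Module.finitePresentation_of_finite R M
  let e : LocalizedModule p.primeCompl (M →ₗ[R] N) ≃ₗ[Localization.AtPrime p]
      (LocalizedModule p.primeCompl M →ₗ[Localization.AtPrime p]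
        LocalizedModule p.primeCompl N) :=
    (Module.FinitePresentation.linearEquivMapExtendScalars p.primeCompl
      (M := M) (N := N)).extendScalarsOfIsLocalization p.primeCompl (Localization.AtPrime p)
  have hdepth : LocCoh.depth (Localization.AtPrime p)
      (LocalizedModule p.primeCompl (M →ₗ[R] N)) =
      LocCoh.depth (Localization.AtPrime p) (LocalizedModule p.primeCompl M →ₗ[Localization.AtPrime p]
        LocalizedModule p.primeCompl N) :=
    Groth.Agent.Lib.Helper29.idealDepth_congr _ e
  have hdim : Module.supportDim (Localization.AtPrime p)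
      (LocalizedModule p.primeCompl (M →ₗ[R] N)) =
      Module.supportDim (Localization.AtPrime p)
        (LocalizedModule p.primeCompl M →ₗ[Localization.AtPrime p]
        LocalizedModule p.primeCompl N) :=
    Module.supportDim_eq_of_equiv e
  rw [hdepth, hdim]
  have h76 := Groth.Agent.S6876.result (Localization.AtPrime p) (LocalizedModule p.primeCompl M)
    (LocalizedModule p.primeCompl N)
  have h3 := min_two_le h76.1 h76.2
  have h4 := supportDim_hom_le (Localization.AtPrime p) (LocalizedModule p.primeCompl M)
    (LocalizedModule p.primeCompl N)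
  calc min k (Module.supportDim (Localization.AtPrime p)
        (LocalizedModule p.primeCompl M →ₗ[Localization.AtPrime p]
        LocalizedModule p.primeCompl N))
      ≤ min (min k (Module.supportDim (Localization.AtPrime p)
          (LocalizedModule p.primeCompl N))) 2 :=
        le_min (min_le_min le_rfl h4) ((min_le_left _ _).trans hk)
    _ ≤ min ((LocCoh.depth (Localization.AtPrime p) (LocalizedModule p.primeCompl N) : ℕ∞) :
          WithBot ℕ∞) 2 := min_le_min h le_rfl
    _ = ((min (LocCoh.depth (Localization.AtPrime p) (LocalizedModule p.primeCompl N)) 2 : ℕ∞) :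
          WithBot ℕ∞) := by
        rw [WithBot.coe_min]; rfl
    _ ≤ _ := by exact_mod_cast h3


/-- Let `R` be a Noetherian ring and `M, N` finite `R`-modules. If `N` has `(S_1)`, resp. `(S_2)`, then
so does `Hom_R(M, N)`. (The published statement has a third part, over a domain: `N` torsion free
with `(S_2)` implies the same for `Hom_R(M, N)`; this row states parts one and two.) -/
theorem result (R : Type u) [CommRing R] [IsNoetherianRing R]
    (M N : Type u) [AddCommGroup M] [Module R M] [Module.Finite R M] [AddCommGroup N] [Module R N] [Module.Finite R N] :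
    (LocCoh.HasSk 1 R N → LocCoh.HasSk 1 R (M →ₗ[R] N)) ∧
    (LocCoh.HasSk 2 R N → LocCoh.HasSk 2 R (M →ₗ[R] N)) := by
  constructor
  · intro h p hp
    exact key R M N p _ (by exact_mod_cast (by norm_num : (1 : ℕ∞) ≤ 2)) (h p)
  · intro h p hp
    exact key R M N p _ le_rfl (h p)

end Groth.Agent.S6877
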