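import Groth.Statements.S6878


set_option autoImplicit false
universe u
open CAlg

namespace Groth.Agent.S6878

/-- Let `R` be a Noetherian ring and `φ : M → N` a map of `R`-modules. Suppose that for every prime `𝔭`
of `R` either `M_𝔭 → N_𝔭` is injective or `𝔭` is not an associated prime of `M`. Then `φ` is
injective. -/
theorem result (R : Type u) [CommRing R]
    [IsNoetherianRing R] {M N : Type u} [AddCommGroup M] [Module R M] [AddCommGroup N] [Module R N] (φ : M →ₗ[R] N)
    (h : ∀ (p : Ideal R) [p.IsPrime],
      Function.Injective (LocalizedModule.map p.primeCompl φ) ∨ p ∉ associatedPrimes R M) :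
    Function.Injective φ := by
  by_contra hinj
  have hK : Nontrivial (LinearMap.ker φ) := by
    rw [Submodule.nontrivial_iff_ne_bot]
    intro hbot
    exact hinj (LinearMap.ker_eq_bot.mp hbot)
  obtain ⟨p, hp⟩ := associatedPrimes.nonempty R (LinearMap.ker φ)
  have hpM : p ∈ associatedPrimes R M :=
    associatedPrimes.subset_of_injective (f := (LinearMap.ker φ).subtype)
      (Submodule.injective_subtype _) hp
  have hprime : p.IsPrime := hp.isPrime
  rcases h p with hloc | hnot
  · rw [AssociatedPrimes.mem_iff, isAssociatedPrime_iff] at hp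
    obtain ⟨-, x, hx⟩ := hp
    have hφx : φ (x : M) = 0 := x.2
    have h0 : LocalizedModule.map p.primeCompl φ (LocalizedModule.mk (x : M) 1) = 0 := by
      rw [LocalizedModule.map_mk, hφx, LocalizedModule.zero_mk]
    have h1 : LocalizedModule.mk (x : M) (1 : p.primeCompl) = 0 := hloc (by rw [h0, map_zero])
    rw [← LocalizedModule.zero_mk (1 : p.primeCompl), LocalizedModule.mk_eq] at h1
    obtain ⟨u, hu⟩ := h1
    simp only [one_smul, smul_zero] at hu
    have hmem' : (u : R) ∈ (⊥ : Submodule R (LinearMap.ker φ)).colon {x} := by
      rw [Submodule.mem_colon_singleton, Submodule.mem_bot]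
      apply Subtype.ext
      rw [Submodule.coe_smul, Submodule.coe_zero]
      exact hu
    have hmem : (u : R) ∈ p := hx ▸ hmem'
    exact u.2 hmem
  · exact hnot hpM

end Groth.Agent.S6878
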