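import Groth.Statements.S6881
import Mathlib
import Groth.Agent.H34.Reflexive
import Groth.Agent.S6870

set_option autoImplicit false
universe u
open CAlg

namespace Groth.Agent.S6881

open Polynomial

/-- `B` acting on its dual `Hom_A(B, A)` by precomposition with multiplication. -/
noncomputable def dualAct (A : Type u) [CommRing A] (B : Type u) [CommRing B] [Algebra A B] :
    B →ₐ[A] Module.End A (Module.Dual A B) :=
  AlgHom.ofLinearMap
    { toFun := fun b => (LinearMap.mulLeft A b).dualMap
      map_add' := fun b b' => by
        ext f x
        simp [add_mul]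
      map_smul' := fun r b => by
        ext f x
        simp }
    (by ext f x; simp)
    (fun b b' => by
      ext f x
      simp [mul_comm b b', mul_left_comm])

theorem dualAct_apply (A : Type u) [CommRing A] (B : Type u) [CommRing B] [Algebra A B]
    (b : B) (f : Module.Dual A B) (x : B) : dualAct A B b f x = f (b * x) := rfl

/-- The endomorphism of the dual attached to an element of the double dual. -/
noncomputable def dualEnd (A : Type u) [CommRing A] (B : Type u) [CommRing B] [Algebra A B]
    (ψ : Module.Dual A (Module.Dual A B)) : Module.End A (Module.Dual A B) where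
  toFun := fun f =>
    { toFun := fun b' => ψ (dualAct A B b' f)
      map_add' := fun x y => by rw [map_add, LinearMap.add_apply, map_add]
      map_smul' := fun r x => by
        rw [map_smul, LinearMap.smul_apply, map_smul]; rfl }
  map_add' := fun f g => by
    ext x
    simp only [map_add, LinearMap.coe_mk, AddHom.coe_mk, LinearMap.add_apply]
  map_smul' := fun r f => by
    ext x
    simp only [map_smul, LinearMap.coe_mk, AddHom.coe_mk, LinearMap.smul_apply, RingHom.id_apply]

theorem dualEnd_apply (A : Type u) [CommRing A] (B : Type u) [CommRing B] [Algebra A B]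
    (ψ : Module.Dual A (Module.Dual A B)) (f : Module.Dual A B) (x : B) :
    dualEnd A B ψ f x = ψ (dualAct A B x f) := rfl


/-- For `A` a Noetherian integrally closed domain with fraction field `K` and `L/K` a finite field
extension, if the integral closure of `A` in `L` is a finitely generated `A`-module then it is a
reflexive `A`-module. -/
theorem result (A K L : Type u) [CommRing A] [IsDomain A] [IsNoetherianRing A]
    [IsIntegrallyClosed A] [Field K] [Algebra A K] [IsFractionRing A K] [Field L] [Algebra K L] [FiniteDimensional K L]
    [Algebra A L] [IsScalarTower A K L] [Module.Finite A ↥(integralClosure A L)] :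
    Module.IsReflexive A ↥(integralClosure A L) := by
  set B := ↥(integralClosure A L) with hB
  -- `A → L` is injective
  have hinjAL : Function.Injective (algebraMap A L) := by
    rw [IsScalarTower.algebraMap_eq A K L]
    exact (algebraMap K L).injective.comp (IsFractionRing.injective A K)
  have htf : Module.IsTorsionFree A B := by
    apply Module.IsTorsionFree.of_smul_eq_zero
    intro a b hab
    by_cases ha : a = 0
    · exact Or.inl ha
    right
    have h1 : algebraMap A L a * (b : L) = 0 := by
      have := congrArg (Subtype.val) hab
      rw [Subalgebra.coe_smul, Algebra.smul_def] at this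
      exact this
    rcases mul_eq_zero.mp h1 with h0 | h0
    · exact absurd ((map_eq_zero_iff _ hinjAL).mp h0) ha
    · exact Subtype.ext h0
  have hevinj : Function.Injective (Module.Dual.eval A B) :=
    Groth.Agent.H34.eval_injective_of_isTorsionFree A B
  refine ⟨⟨hevinj, ?_⟩⟩
  intro ψ
  obtain ⟨c, hc0, -, hc⟩ := Groth.Agent.S6870.result A B
  obtain ⟨b₀, hb₀⟩ := hc ψ
  -- the endomorphism attached to `ψ` and the key relation
  have hrel : algebraMap A (Module.End A (Module.Dual A B)) c * dualEnd A B ψ = dualAct A B b₀ := by
    ext f x
    rw [Module.End.mul_apply, Module.algebraMap_end_apply, LinearMap.smul_apply, dualEnd_apply,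
      dualAct_apply, smul_eq_mul]
    have := LinearMap.congr_fun hb₀ (dualAct A B x f)
    rw [Module.Dual.eval_apply, dualAct_apply, LinearMap.smul_apply, smul_eq_mul] at this
    rw [← this, mul_comm]
  have hfinD : Module.Finite A (Module.Dual A B) := inferInstance
  obtain ⟨p, hpmonic, hp⟩ := LinearMap.exists_monic_and_aeval_eq_zero A (dualEnd A B ψ)
  have h1 : aeval (dualAct A B b₀) (scaleRoots p c) = 0 := by
    rw [← hrel]
    exact scaleRoots_aeval_eq_zero hp
  rw [Polynomial.aeval_algHom_apply] at h1
  have hβ : aeval b₀ (scaleRoots p c) = 0 := by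
    apply hevinj
    rw [map_zero]
    ext f
    have := LinearMap.congr_fun (LinearMap.congr_fun h1 f) 1
    rw [dualAct_apply, mul_one] at this
    simpa using this
  -- `x = b₀ / c` is integral
  have hcL : algebraMap A L c ≠ 0 := fun h => hc0 ((map_eq_zero_iff _ hinjAL).mp h)
  set x : L := (b₀ : L) / algebraMap A L c with hx
  have hcx : algebraMap A L c * x = (b₀ : L) := by
    rw [hx]; field_simp
  have hpx : aeval x p = 0 := by
    have h2 : aeval (b₀ : L) (scaleRoots p c) = 0 := by
      have h3 := Polynomial.aeval_algHom_apply (integralClosure A L).val b₀ (scaleRoots p c)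
      rw [hβ, map_zero] at h3
      exact h3
    rw [← hcx, aeval_def, scaleRoots_eval₂_mul, ← aeval_def] at h2
    rcases mul_eq_zero.mp h2 with h0 | h0
    · exact absurd h0 (pow_ne_zero _ hcL)
    · exact h0
  have hxint : x ∈ integralClosure A L := ⟨p, hpmonic, by rw [← aeval_def]; exact hpx⟩
  refine ⟨⟨x, hxint⟩, ?_⟩
  have hcb : c • (⟨x, hxint⟩ : B) = b₀ := by
    apply Subtype.ext
    rw [Subalgebra.coe_smul, Algebra.smul_def]
    exact hcx
  have h3 : c • (Module.Dual.eval A B ⟨x, hxint⟩ - ψ) = 0 := by
    rw [smul_sub, ← map_smul, hcb, hb₀, sub_self]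
  have h4 : Module.Dual.eval A B ⟨x, hxint⟩ - ψ = 0 := by
    ext f
    have := LinearMap.congr_fun h3 f
    rw [LinearMap.smul_apply, LinearMap.zero_apply, smul_eq_mul] at this
    rcases mul_eq_zero.mp this with h0 | h0
    · exact absurd h0 hc0
    · exact h0
  exact sub_eq_zero.mp h4

end Groth.Agent.S6881
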