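import Groth.Statements.S6882
import Mathlib.Algebra.Module.PID
import Mathlib.Algebra.Module.Torsion.Basic

set_option autoImplicit false
universe u
open CAlg

namespace Groth.Agent.S6882

/-- For a finite module `M` over a discrete valuation ring `R`, the evaluation map from `M` to its
double dual `M**` is surjective. -/
theorem result (R : Type u) [CommRing R] [IsDomain R]
    [IsDiscreteValuationRing R] (M : Type u) [AddCommGroup M] [Module R M] [Module.Finite R M] :
    Function.Surjective (Module.Dual.eval R M) := by
  classical
  let T : Submodule R M := Submodule.torsion R M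
  let π : M →ₗ[R] (M ⧸ T) := T.mkQ
  have hfree : Module.Free R (M ⧸ T) := Module.free_of_finite_type_torsion_free'
  have hrefl : Module.IsReflexive R (M ⧸ T) := inferInstance
  intro y
  -- transport `y` to the double dual of the quotient
  let y' : Module.Dual R (Module.Dual R (M ⧸ T)) := y ∘ₗ π.dualMap
  obtain ⟨q, hq⟩ := (Module.bijective_dual_eval R (M ⧸ T)).2 y'
  obtain ⟨m, rfl⟩ := T.mkQ_surjective q
  refine ⟨m, ?_⟩
  apply LinearMap.ext
  intro φ
  have hφ : T ≤ LinearMap.ker φ := by
    intro t ht
    rw [Submodule.mem_torsion_iff] at ht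
    obtain ⟨a, hat⟩ := ht
    have : (a : R) • φ t = 0 := by rw [← map_smul]; rw [show ((a : R) • t) = a • t from rfl, hat, map_zero]
    rcases smul_eq_zero.mp this with h0 | h0
    · exact absurd h0 (nonZeroDivisors.ne_zero a.2)
    · exact h0
  let ψ : Module.Dual R (M ⧸ T) := T.liftQ φ hφ
  have hψ : π.dualMap ψ = φ := by
    apply LinearMap.ext
    intro x
    simp [π, ψ]
  have h1 := LinearMap.congr_fun hq ψ
  simp only [Module.Dual.eval_apply, y', LinearMap.comp_apply, hψ] at h1
  rw [Module.Dual.eval_apply, ← h1]
  simp [ψ]

end Groth.Agent.S6882
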