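import Groth.Statements.S6884
import Groth.Agent.Lib.Helper58.FlatIntegralDescent

set_option autoImplicit false
universe u
open TensorProduct
open CAlg

namespace Groth.Agent.S6884

/-- For an injective integral ring map `R → S` and `n ≥ 0`, let `M` be a module of finite presentation
over the polynomial ring `R[x_1, …, x_n]`. Then flatness of `S ⊗_R M` over `S` forces flatness of
`M` over `R`. -/
theorem result (R S : Type u) [CommRing R]
    [CommRing S] [Algebra R S] [Algebra.IsIntegral R S] (hinj : Function.Injective (algebraMap R S)) (n : ℕ)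
    (M : Type u) [AddCommGroup M] [Module (MvPolynomial (Fin n) R) M] [Module R M]
    [IsScalarTower R (MvPolynomial (Fin n) R) M] [Module.FinitePresentation (MvPolynomial (Fin n) R) M]
    [Module.Flat S (S ⊗[R] M)] : Module.Flat R M := by
  classical
  obtain ⟨b, K, e, hK⟩ := Module.FinitePresentation.exists_fin (MvPolynomial (Fin n) R) M
  obtain ⟨a, c, hc⟩ := Submodule.fg_iff_exists_fin_generating_family.mp hK
  subst hc
  haveI : Module.Flat S (S ⊗[R] Groth.Agent.Lib.Helper58.CokerBC.Coker c) :=
    Module.Flat.of_linearEquiv
      (TensorProduct.AlgebraTensorModule.congr (LinearEquiv.refl S S) (e.symm.restrictScalars R))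
  haveI : Module.Flat S (Groth.Agent.Lib.Helper58.CokerBC.Coker
      (Groth.Agent.H76.FlatKernel.cmap (algebraMap R S) c)) :=
    Groth.Agent.Lib.Helper58.CokerBC.flat_coker_of_flat_tensor c
  haveI : Module.Flat R (Groth.Agent.Lib.Helper58.CokerBC.Coker c) :=
    Groth.Agent.Lib.Helper58.CokerBC.flat_coker_of_integral_injective hinj c
  exact Module.Flat.of_linearEquiv (e.restrictScalars R)

end Groth.Agent.S6884
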