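import Groth.Statements.S6886
import Mathlib

set_option autoImplicit false
universe u
open TensorProduct
open CAlg

namespace Groth.Agent.S6886

open Polynomial TensorProduct

/-- finite free and faithful -/
def Good (R : Type u) [CommRing R] (R' : Type u) [CommRing R'] [Algebra R R'] : Prop :=
  Module.Finite R R' ∧ Module.Free R R' ∧ Function.Injective (algebraMap R R')

theorem Good.trans {R R₁ R' : Type u} [CommRing R] [CommRing R₁] [CommRing R'] [Algebra R R₁]
    [Algebra R₁ R'] [Algebra R R'] [IsScalarTower R R₁ R'] (h₁ : Good R R₁) (h₂ : Good R₁ R') :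
    Good R R' := by
  obtain ⟨hf₁, hfr₁, hi₁⟩ := h₁
  obtain ⟨hf₂, hfr₂, hi₂⟩ := h₂
  refine ⟨Module.Finite.trans R₁ R', ?_, ?_⟩
  · exact Module.Free.of_basis
      ((Module.Free.chooseBasis R R₁).smulTower (Module.Free.chooseBasis R₁ R'))
  · rw [IsScalarTower.algebraMap_eq R R₁ R']
    exact hi₂.comp hi₁

theorem good_adjoinRoot {R : Type u} [CommRing R] (P : R[X]) (hP : P.Monic)
    (hd : P.natDegree ≠ 0) : Good R (AdjoinRoot P) := by
  refine ⟨hP.finite_adjoinRoot, hP.free_adjoinRoot, ?_⟩
  rw [injective_iff_map_eq_zero]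
  intro r hr
  have h1 : AdjoinRoot.mk P (C r) = 0 := hr
  rw [AdjoinRoot.mk_eq_zero] at h1
  by_contra hr0
  refine hP.not_dvd_of_natDegree_lt (q := C r) (by simpa using hr0) ?_ h1
  rw [natDegree_C]
  omega

/-- One monic polynomial splits in some finite free faithful extension. -/
theorem exists_splitting (n : ℕ) : ∀ (R : Type u) [CommRing R] (P : R[X]), P.Monic →
    P.natDegree = n →
    ∃ (R' : Type u) (_ : CommRing R') (_ : Algebra R R'), Good R R' ∧
      ∃ (d : ℕ) (α : Fin d → R'), P.map (algebraMap R R') = ∏ j, (X - C (α j)) := by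
  induction n with
  | zero =>
    intro R _ P hP hn
    refine ⟨R, inferInstance, Algebra.id R, ⟨inferInstance, inferInstance, Function.injective_id⟩,
      0, Fin.elim0, ?_⟩
    have : P = 1 := hP.natDegree_eq_zero.mp hn
    simp [this]
  | succ n ih =>
    intro R _ P hP hn
    have hgood := good_adjoinRoot P hP (by omega)
    have hntR : Nontrivial R := by
      by_contra h
      rw [not_nontrivial_iff_subsingleton] at h
      have : P.natDegree = 0 := by rw [Subsingleton.elim P 0]; simp
      omega
    have hnt : Nontrivial (AdjoinRoot P) := hgood.2.2.nontrivial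
    -- factor out the root
    set t := AdjoinRoot.root P with ht
    set P' := P.map (algebraMap R (AdjoinRoot P)) with hP'
    have hP'monic : P'.Monic := hP.map _
    have hroot : P'.IsRoot t := by
      rw [IsRoot.def, hP', eval_map, ← Polynomial.aeval_def]
      exact AdjoinRoot.aeval_eq P ▸ AdjoinRoot.mk_self
    have hfac : (X - C t) * (P' /ₘ (X - C t)) = P' := mul_divByMonic_eq_iff_isRoot.mpr hroot
    have hQmonic : (P' /ₘ (X - C t)).Monic := by
      have h1 : ((X - C t) * (P' /ₘ (X - C t))).Monic := by rw [hfac]; exact hP'monic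
      exact (Polynomial.Monic.of_mul_monic_left (monic_X_sub_C t) h1)
    have hQdeg : (P' /ₘ (X - C t)).natDegree = n := by
      have hdeg' : P'.natDegree = n + 1 := by rw [hP', hP.natDegree_map, hn]
      have h1 := congrArg natDegree hfac
      rw [(monic_X_sub_C t).natDegree_mul hQmonic, natDegree_X_sub_C, hdeg'] at h1
      omega
    obtain ⟨R', hR', hAlg, hgood', d, α, hα⟩ := ih (AdjoinRoot P) (P' /ₘ (X - C t)) hQmonic hQdeg
    let _ : Algebra R R' := ((algebraMap (AdjoinRoot P) R').comp (algebraMap R (AdjoinRoot P))).toAlgebra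
    have : IsScalarTower R (AdjoinRoot P) R' := IsScalarTower.of_algebraMap_eq (fun _ => rfl)
    refine ⟨R', hR', inferInstance, hgood.trans hgood', d + 1,
      Fin.cons (algebraMap (AdjoinRoot P) R' t) α, ?_⟩
    rw [IsScalarTower.algebraMap_eq R (AdjoinRoot P) R', ← Polynomial.map_map, ← hP', ← hfac,
      Polynomial.map_mul, hα, Fin.prod_univ_succ]
    simp

/-- A finite family of monic polynomials splits in some finite free faithful extension. -/
theorem exists_splitting_family (n : ℕ) : ∀ (R : Type u) [CommRing R] (P : Fin n → R[X]),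
    (∀ i, (P i).Monic) →
    ∃ (R' : Type u) (_ : CommRing R') (_ : Algebra R R'), Good R R' ∧
      ∀ i, ∃ (d : ℕ) (α : Fin d → R'), (P i).map (algebraMap R R') = ∏ j, (X - C (α j)) := by
  induction n with
  | zero =>
    intro R _ P hP
    exact ⟨R, inferInstance, Algebra.id R, ⟨inferInstance, inferInstance, Function.injective_id⟩,
      fun i => i.elim0⟩
  | succ n ih =>
    intro R _ P hP
    obtain ⟨R₁, hR₁, hA₁, hgood₁, d₀, α₀, hα₀⟩ := exists_splitting _ R (P 0) (hP 0) rfl
    obtain ⟨R', hR', hA', hgood', h'⟩ := ih R₁ (fun i => (P i.succ).map (algebraMap R R₁))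
      (fun i => (hP i.succ).map _)
    let _ : Algebra R R' := ((algebraMap R₁ R').comp (algebraMap R R₁)).toAlgebra
    have : IsScalarTower R R₁ R' := IsScalarTower.of_algebraMap_eq (fun _ => rfl)
    refine ⟨R', hR', inferInstance, hgood₁.trans hgood', ?_⟩
    intro i
    refine Fin.cases ?_ (fun i => ?_) i
    · refine ⟨d₀, fun j => algebraMap R₁ R' (α₀ j), ?_⟩
      rw [IsScalarTower.algebraMap_eq R R₁ R', ← Polynomial.map_map, hα₀, Polynomial.map_prod]
      simp
    · obtain ⟨d, α, hα⟩ := h' i
      refine ⟨d, α, ?_⟩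
      rw [IsScalarTower.algebraMap_eq R R₁ R', ← Polynomial.map_map]
      exact hα


/-- Let `R → S` be a finite ring map. One can find an extension `R ⊆ R'` of rings, with `R'` finite and
free as an `R`-module, for which the ring `S ⊗_R R'` arises as a quotient of `R'[T_1, …,
T_n]/(P_1(T_1), …, P_n(T_n))` with each `P_i(T) = ∏_j (T - α_{ij})` a product of linear factors over
`R'`. -/
theorem result (R S : Type u) [CommRing R] [CommRing S] [Algebra R S]
    [Module.Finite R S] :
    ∃ (R' : Type u) (_ : CommRing R') (_ : Algebra R R'), Module.Finite R R' ∧ Module.Free R R' ∧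
      Function.Injective (algebraMap R R') ∧
      ∃ (n : ℕ) (d : Fin n → ℕ) (α : (i : Fin n) → Fin (d i) → R')
        (φ : MvPolynomial (Fin n) R' →ₐ[R'] R' ⊗[R] S), Function.Surjective φ ∧
          ∀ i, φ (∏ j, (MvPolynomial.X i - MvPolynomial.C (α i j))) = 0 := by
  classical
  obtain ⟨n, s, hs⟩ := Module.Finite.exists_fin (R := R) (M := S)
  have hint : ∀ i, IsIntegral R (s i) := fun i => Algebra.IsIntegral.isIntegral (s i)
  choose P hPmonic hPs using hint
  obtain ⟨R', hR', hA', ⟨hfin, hfree, hinj⟩, hsplit⟩ := exists_splitting_family n R P hPmonic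
  choose d α hα using hsplit
  refine ⟨R', hR', hA', hfin, hfree, hinj, n, d, α,
    MvPolynomial.aeval (fun i => (1 : R') ⊗ₜ[R] s i), ?_, ?_⟩
  · -- surjectivity
    intro z
    have htop : Submodule.span R' ((TensorProduct.mk R R' S 1) '' Set.range s) = ⊤ := by
      rw [← Submodule.baseChange_span, hs, Submodule.baseChange_top]
    have hz : z ∈ Submodule.span R' ((TensorProduct.mk R R' S 1) '' Set.range s) := by
      rw [htop]; trivial
    have hle : Submodule.span R' ((TensorProduct.mk R R' S 1) '' Set.range s) ≤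
        Subalgebra.toSubmodule
          (MvPolynomial.aeval (R := R') (fun i => (1 : R') ⊗ₜ[R] s i)).range := by
      rw [Submodule.span_le]
      rintro _ ⟨_, ⟨i, rfl⟩, rfl⟩
      exact ⟨MvPolynomial.X i, by simp⟩
    obtain ⟨w, hw⟩ := hle hz
    exact ⟨w, hw⟩
  · intro i
    have h1 : Polynomial.aeval ((1 : R') ⊗ₜ[R] s i) ((P i).map (algebraMap R R')) = 0 := by
      rw [Polynomial.aeval_map_algebraMap]
      have h2 : (1 : R') ⊗ₜ[R] s i =
          (Algebra.TensorProduct.includeRight (R := R) (A := R') (B := S)) (s i) := rfl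
      rw [h2, Polynomial.aeval_algHom_apply, Polynomial.aeval_def, hPs i, map_zero]
    rw [hα i, map_prod] at h1
    rw [map_prod]
    rw [← h1]
    refine Finset.prod_congr rfl (fun j _ => ?_)
    simp

end Groth.Agent.S6886
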