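import Groth.Statements.S6887
import Mathlib

set_option autoImplicit false
universe u
open Polynomial
open CAlg

namespace Groth.Agent.S6887

open Matrix in
/-- Cayley–Hamilton for a matrix representing multiplication by `b` on a spanning family. -/
theorem aeval_charpoly_of_represents {A B : Type u} [CommRing A] [CommRing B] [Algebra A B]
    {ι : Type} [Fintype ι] [DecidableEq ι] (g : ι → B)
    (hg : Submodule.span A (Set.range g) = ⊤) (b : B) (Φ : Matrix ι ι A)
    (hΦ : ∀ j, ∑ i, Φ i j • g i = b * g j) : Polynomial.aeval b Φ.charpoly = 0 := by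
  have hrep : Φ.Represents g (Algebra.lmul A B b) := by
    rw [Matrix.represents_iff']
    intro j
    rw [hΦ j]; rfl
  let Φ' : Matrix.isRepresentation A g := ⟨Φ, _, hrep⟩
  have h1 : Matrix.isRepresentation.toEnd A g hg Φ' = Algebra.lmul A B b :=
    Matrix.isRepresentation.eq_toEnd_of_represents A g hg Φ' hrep
  have h2 : Polynomial.aeval (Algebra.lmul A B b) Φ.charpoly = 0 := by
    rw [← h1, Polynomial.aeval_algHom_apply,
      ← map_zero (Matrix.isRepresentation.toEnd A g hg)]
    congr 1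
    ext1
    rw [Polynomial.aeval_subalgebra_coe, Matrix.aeval_self_charpoly, Subalgebra.coe_zero]
  rw [Polynomial.aeval_algHom_apply] at h2
  have := LinearMap.congr_fun h2 1
  simpa using this


/-- Let `(A, I)` be a Zariski pair (`I` inside the Jacobson radical) and `A → B` a finite ring map.
Suppose `B/IB ≅ B₁ × B₂` as `A`-algebras with `A → B₁` surjective, and `b ∈ B` maps to `(1, 0)`.
Then there is a monic `f ∈ A[x]` with `f(b) = 0` whose reduction modulo `I` is `(x - 1) x^d` for
some `d ≥ 1`. -/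
theorem result (A B : Type u) [CommRing A] [CommRing B]
    [Algebra A B] [Module.Finite A B] (I : Ideal A) (hI : I ≤ Ideal.jacobson (⊥ : Ideal A))
    (B₁ B₂ : Type u) [CommRing B₁] [CommRing B₂] [Algebra A B₁] [Algebra A B₂]
    (e : (B ⧸ I.map (algebraMap A B)) ≃ₐ[A] B₁ × B₂) (h₁ : Function.Surjective (algebraMap A B₁)) (b : B)
    (hb : e (Ideal.Quotient.mk (I.map (algebraMap A B)) b) = (1, 0)) :
    ∃ (f : A[X]) (d : ℕ), f.Monic ∧ Polynomial.aeval b f = 0 ∧ 1 ≤ d ∧
      f.map (Ideal.Quotient.mk I) = (X - 1) * X ^ d := by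
  classical
  obtain ⟨n, s, hs⟩ := Module.Finite.exists_fin (R := A) (M := B)
  -- generators including `1`
  let β : Fin (n + 1) → B := Fin.cons 1 s
  have hβ : Submodule.span A (Set.range β) = ⊤ := by
    rw [eq_top_iff, ← hs]
    apply Submodule.span_mono
    rintro _ ⟨i, rfl⟩
    exact ⟨i.succ, by simp [β]⟩
  let mk := Ideal.Quotient.mk (I.map (algebraMap A B))
  have hmem : ∀ y : B, mk y = 0 → ∃ c : Fin (n + 1) → A, (∀ j, c j ∈ I) ∧ y = ∑ j, c j • β j := by
    intro y hy
    have h1 : y ∈ I.map (algebraMap A B) := Ideal.Quotient.eq_zero_iff_mem.mp hy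
    have h2 : y ∈ I • (⊤ : Submodule A B) := by
      rw [Ideal.smul_top_eq_map]; exact h1
    rw [← hβ, Submodule.mem_ideal_smul_span_iff_exists_sum] at h2
    obtain ⟨c, hc, rfl⟩ := h2
    refine ⟨fun j => c j, fun j => hc j, ?_⟩
    rw [Finsupp.sum_fintype]
    intro i; simp
  -- b * b - b ∈ I B
  have hbb : mk (b * b - b) = 0 := by
    apply e.injective
    rw [map_sub, map_mul, map_sub, map_mul, hb, map_zero]
    ext <;> simp
  obtain ⟨c, hcI, hc⟩ := hmem _ hbb
  -- b * β i - a i • b ∈ I B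
  have hbβ : ∀ i, ∃ a : A, mk (b * β i - a • b) = 0 := by
    intro i
    obtain ⟨a, ha⟩ := h₁ (e (mk (β i))).1
    refine ⟨a, ?_⟩
    apply e.injective
    have h2 : e (mk (a • b)) = a • e (mk b) := by
      rw [← map_smul e]
      rfl
    rw [map_sub, map_sub, map_mul, map_mul, h2, hb, map_zero]
    ext
    · simp [← ha, Algebra.smul_def]
    · simp
  choose a ha using hbβ
  choose cc hccI hcc using fun i => hmem _ (ha i)
  -- the spanning family and the matrix
  let g : Unit ⊕ Fin (n + 1) → B := Sum.elim (fun _ => b) β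
  have hg : Submodule.span A (Set.range g) = ⊤ := by
    rw [eq_top_iff, ← hβ]
    apply Submodule.span_mono
    rintro _ ⟨i, rfl⟩
    exact ⟨Sum.inr i, rfl⟩
  let Φ : Matrix (Unit ⊕ Fin (n + 1)) (Unit ⊕ Fin (n + 1)) A :=
    Matrix.fromBlocks 1 (fun _ i => a i) (fun j _ => c j) (fun j i => cc i j)
  have hΦ : ∀ j, ∑ i, Φ i j • g i = b * g j := by
    rintro (_ | i)
    · rw [Fintype.sum_sum_type]
      simp only [Finset.univ_unique, Finset.sum_singleton, Φ, g, Matrix.fromBlocks_apply₁₁,
        Matrix.fromBlocks_apply₂₁, Sum.elim_inl, Sum.elim_inr, Matrix.one_apply_eq, one_smul]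
      rw [← hc]; ring
    · rw [Fintype.sum_sum_type]
      simp only [Finset.univ_unique, Finset.sum_singleton, Φ, g, Matrix.fromBlocks_apply₁₂,
        Matrix.fromBlocks_apply₂₂, Sum.elim_inl, Sum.elim_inr]
      rw [← hcc i]; ring
  refine ⟨Φ.charpoly, n + 1, Matrix.charpoly_monic Φ, aeval_charpoly_of_represents g hg b Φ hΦ,
    by omega, ?_⟩
  rw [← Matrix.charpoly_map]
  have hmap : Φ.map (Ideal.Quotient.mk I) = Matrix.fromBlocks (1 : Matrix Unit Unit (A ⧸ I))
      (fun _ i => Ideal.Quotient.mk I (a i)) 0 (0 : Matrix (Fin (n + 1)) (Fin (n + 1)) (A ⧸ I)) := by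
    ext (_ | i) (_ | j)
    · simp [Φ, Matrix.one_apply]
    · simp [Φ]
    · simp [Φ, Ideal.Quotient.eq_zero_iff_mem.mpr (hcI _)]
    · simp [Φ, Ideal.Quotient.eq_zero_iff_mem.mpr (hccI _ _)]
  rw [hmap, Matrix.charpoly_fromBlocks_zero₂₁, Matrix.charpoly_one, Matrix.charpoly_zero]
  simp

end Groth.Agent.S6887
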