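import Groth.Statements.S6888
import Mathlib

set_option autoImplicit false
universe u
open Polynomial
open CAlg

namespace Groth.Agent.S6888

/-- From `∏ d_i = 0` and `∑_j ∏_{i ≠ j} d_i` a unit: a complete family of orthogonal idempotents
`e_j` with `e_j d_j = 0`. -/
theorem exists_idempotents {Q : Type u} [CommRing Q] {ι : Type} [Fintype ι] [DecidableEq ι]
    (d : ι → Q) (hprod : ∏ i, d i = 0)
    (hu : IsUnit (∑ j, ∏ i ∈ Finset.univ.erase j, d i)) :
    ∃ e : ι → Q, (∀ j k, j ≠ k → e j * e k = 0) ∧ ∑ j, e j = 1 ∧ ∀ j, e j * d j = 0 := by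
  set uu : ι → Q := fun j => ∏ i ∈ Finset.univ.erase j, d i with huu
  have h1 : ∀ j, uu j * d j = 0 := by
    intro j
    rw [mul_comm, huu]
    simp only
    rw [Finset.mul_prod_erase _ _ (Finset.mem_univ j), hprod]
  have h2 : ∀ j k, j ≠ k → uu j * uu k = 0 := by
    intro j k hjk
    have hk : k ∈ Finset.univ.erase j := Finset.mem_erase.mpr ⟨hjk.symm, Finset.mem_univ k⟩
    have : uu j = d k * ∏ i ∈ (Finset.univ.erase j).erase k, d i := by
      rw [huu]; simp only
      rw [Finset.mul_prod_erase _ _ hk]
    rw [this, mul_comm (d k), mul_assoc, mul_comm (d k), h1 k, mul_zero]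
  obtain ⟨v, hv⟩ := hu
  refine ⟨fun j => ↑v⁻¹ * uu j, ?_, ?_, ?_⟩
  · intro j k hjk
    calc ↑v⁻¹ * uu j * (↑v⁻¹ * uu k) = ↑v⁻¹ * ↑v⁻¹ * (uu j * uu k) := by ring
      _ = 0 := by rw [h2 j k hjk, mul_zero]
  · rw [← Finset.mul_sum, ← hv, Units.inv_mul]
  · intro j
    rw [mul_assoc, h1 j, mul_zero]

/-- Idempotents that agree modulo an ideal in the Jacobson radical are equal. -/
theorem idem_unique {A : Type u} [CommRing A] (I : Ideal A)
    (hI : I ≤ Ideal.jacobson (⊥ : Ideal A)) {E E' : A} (hE : IsIdempotentElem E)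
    (hE' : IsIdempotentElem E') (h : E - E' ∈ I) : E = E' := by
  have hE2 : E * E = E := hE
  have hE'2 : E' * E' = E'  := hE'
  have h3 : (E - E') * (1 - (E - E') * (E - E')) = 0 := by
    have : (E - E') * (1 - (E - E') * (E - E')) =
        (E - E') - (E * E * E - 3 * (E * E) * E' + 3 * E * (E' * E') - E' * E' * E') := by ring
    rw [this, hE2, hE2, hE'2, hE'2]; ring
  have hunit : IsUnit (1 - (E - E') * (E - E')) := by
    apply Ideal.isUnit_of_sub_one_mem_jacobson_bot
    have : 1 - (E - E') * (E - E') - 1 = -((E - E') * (E - E')) := by ring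
    rw [this]
    exact neg_mem (hI (I.mul_mem_left _ h))
  have := hunit.mul_left_eq_zero.mp h3
  exact sub_eq_zero.mp this


/-- Let `A` be absolutely integrally closed (every monic polynomial over `A` is a product of linear
factors) and `I ⊆ A` an ideal contained in the Jacobson radical such that `A → A/I` is surjective
(hence bijective) on idempotents. Then `(A, I)` is a henselian pair. (The published statement also
records the converse, which holds for every henselian pair; this row states the sufficiency only.) -/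
theorem result (A : Type u) [CommRing A]
    (hA : ∀ f : A[X], f.Monic → ∃ s : Multiset A, f = (s.map fun a => X - C a).prod) (I : Ideal A)
    (hI : I ≤ Ideal.jacobson (⊥ : Ideal A))
    (hidem : ∀ e : A ⧸ I, IsIdempotentElem e → ∃ e' : A, IsIdempotentElem e' ∧ Ideal.Quotient.mk I e' = e) :
    HenselianRing A I := by
  refine ⟨hI, ?_⟩
  intro f hf a₀ h₁ h₂
  classical
  obtain ⟨s, hs⟩ := hA f hf
  obtain ⟨l, rfl⟩ := Quot.exists_rep s
  have hfprod : f = ∏ i : Fin l.length, (X - C l[i.1]) := by
    rw [hs, Fin.prod_univ_fun_getElem l (fun a => X - C a)]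
    rfl
  set n := l.length with hn
  set a : Fin n → A := fun i => l[i.1] with ha
  have hfprod' : f = ∏ i : Fin n, (X - C (a i)) := hfprod
  -- evaluation formulas
  have heval : ∀ x : A, f.eval x = ∏ i : Fin n, (x - a i) := by
    intro x
    rw [hfprod', Polynomial.eval_prod]
    simp
  have hderiv : f.derivative.eval a₀ = ∑ j : Fin n, ∏ i ∈ Finset.univ.erase j, (a₀ - a i) := by
    rw [hfprod', Polynomial.derivative_prod_finset, Polynomial.eval_finsetSum]
    refine Finset.sum_congr rfl (fun j _ => ?_)
    rw [Polynomial.eval_mul, Polynomial.eval_prod]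
    simp
  let π := Ideal.Quotient.mk I
  set d : Fin n → A ⧸ I := fun i => π (a₀ - a i) with hd
  have hprod : ∏ i, d i = 0 := by
    rw [hd]; simp only
    rw [← map_prod, ← heval]
    exact Ideal.Quotient.eq_zero_iff_mem.mpr h₁
  have hu : IsUnit (∑ j, ∏ i ∈ Finset.univ.erase j, d i) := by
    rw [hderiv] at h₂
    simpa [hd, map_sum, map_prod] using h₂
  obtain ⟨e, he_orth, he_sum, he_d⟩ := exists_idempotents d hprod hu
  have he_idem : ∀ j, IsIdempotentElem (e j) := by
    intro j
    have : e j * ∑ k, e k = e j := by rw [he_sum, mul_one]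
    rw [Finset.mul_sum, Finset.sum_eq_single j] at this
    · exact this
    · intro k _ hk; exact he_orth j k hk.symm
    · intro h; exact absurd (Finset.mem_univ j) h
  choose E hE_idem hE_lift using fun j => hidem (e j) (he_idem j)
  have hE_orth : ∀ j k, j ≠ k → E j * E k = 0 := by
    intro j k hjk
    apply idem_unique I hI ((hE_idem j).mul (hE_idem k)) IsIdempotentElem.zero
    rw [sub_zero, ← Ideal.Quotient.eq_zero_iff_mem, map_mul, hE_lift, hE_lift, he_orth j k hjk]
  have hS_idem : IsIdempotentElem (∑ j, E j) := by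
    change (∑ j, E j) * (∑ j, E j) = ∑ j, E j
    rw [Finset.sum_mul]
    refine Finset.sum_congr rfl (fun j _ => ?_)
    rw [Finset.mul_sum, Finset.sum_eq_single j]
    · exact hE_idem j
    · intro k _ hk; exact hE_orth j k hk.symm
    · intro h; exact absurd (Finset.mem_univ j) h
  have hS : ∑ j, E j = 1 := by
    apply idem_unique I hI hS_idem IsIdempotentElem.one
    rw [← Ideal.Quotient.eq_zero_iff_mem, map_sub, map_sum, map_one]
    simp only [hE_lift]
    rw [he_sum, sub_self]
  refine ⟨∑ j, E j * a j, ?_, ?_⟩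
  · -- it is a root
    change f.eval _ = 0
    rw [heval]
    have hEa : ∀ j, E j * (∑ k, E k * a k) = E j * a j := by
      intro j
      rw [Finset.mul_sum, Finset.sum_eq_single j]
      · rw [← mul_assoc, (hE_idem j).eq]
      · intro k _ hk
        rw [← mul_assoc, hE_orth j k hk.symm, zero_mul]
      · intro h; exact absurd (Finset.mem_univ j) h
    have : ∏ i : Fin n, ((∑ k, E k * a k) - a i) =
        ∑ j, E j * ∏ i : Fin n, ((∑ k, E k * a k) - a i) := by
      rw [← Finset.sum_mul, hS, one_mul]
    rw [this]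
    refine Finset.sum_eq_zero (fun j _ => ?_)
    rw [← Finset.mul_prod_erase _ _ (Finset.mem_univ j), ← mul_assoc, mul_sub, hEa j, sub_self,
      zero_mul]
  · -- it lifts `a₀`
    rw [← Ideal.Quotient.eq_zero_iff_mem, map_sub, map_sum]
    have : ∀ j, π (E j * a j) = e j * π a₀ - e j * d j := by
      intro j
      rw [map_mul, hE_lift, hd]
      simp only [map_sub]
      ring
    change ∑ j, π (E j * a j) - π a₀ = 0
    simp only [this, he_d, sub_zero]
    rw [← Finset.sum_mul, he_sum, one_mul, sub_self]

end Groth.Agent.S6888
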