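import Groth.Statements.S6889
import Mathlib
import Groth.Agent.Lib.Helper10.FittingMinors
-- import your own Groth.Agent.* helpers here

set_option autoImplicit false
universe u
open Fitt

namespace Groth.Agent.S6889

open Groth.Agent.Lib.Helper10.Fitting

/-- Let `M` be an `R`-module generated by `x_1, …, x_n`. Then `Fit_k(M)` equals the ideal spanned by all
`(n-k) × (n-k)` determinants of matrices whose `n - k` rows are relation vectors among the `x_i`
(rows selected by any map `Fin (n-k) → Fin n`); in particular it does not depend on the generating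
tuple. -/
theorem result {R : Type u} [CommRing R] {M : Type u} [AddCommGroup M] [Module R M]
    {n : ℕ} (x : Fin n → M) (hx : Submodule.span R (Set.range x) = ⊤) (k : ℕ) :
    Fitt.ideal R M k = Ideal.span {d | ∃ (z : Fin (n - k) → (Fin n → R)) (e : Fin (n - k) → Fin n),
      (∀ j, ∑ i, z j i • x i = 0) ∧ d = (Matrix.of fun a b => z b (e a)).det} := by
  classical
  have hset : {d : R | ∃ (z : Fin (n - k) → (Fin n → R)) (e : Fin (n - k) → Fin n),
      (∀ j, ∑ i, z j i • x i = 0) ∧ d = (Matrix.of fun a b => z b (e a)).det} =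
      {d | ∃ (z : Fin (n - k) → (Fin n → R)) (e : Fin (n - k) → Fin n),
        (∀ b, z b ∈ (Rel R x : Set (Fin n → R))) ∧
          d = Matrix.det (Matrix.of fun a b => z b (e a))} := by
    ext d
    constructor
    · rintro ⟨z, e, hz, rfl⟩
      exact ⟨z, e, fun b => (mem_Rel x (z b)).mpr (hz b), rfl⟩
    · rintro ⟨z, e, hz, rfl⟩
      exact ⟨z, e, fun b => (mem_Rel x (z b)).mp (hz b), rfl⟩
  rw [hset]
  change Fitt.ideal R M k = Minors (Rel R x : Set (Fin n → R)) (n - k)
  by_cases hkn : k ≤ n
  · rw [fitt_eq_G x hx k]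
    apply G_eq_Minors x _ (fun _ h => h) Submodule.subset_span
    rw [Fintype.card_fin]
    omega
  · rw [not_le] at hkn
    rw [fitt_eq_top_of_span x hx hkn.le]
    symm
    rw [Ideal.eq_top_iff_one]
    apply Ideal.subset_span
    haveI : IsEmpty (Fin (n - k)) := ⟨fun a => by
      have := a.2
      omega⟩
    refine ⟨fun _ => 0, fun a => isEmptyElim a, fun b => zero_mem _, ?_⟩
    rw [Matrix.det_isEmpty]

end Groth.Agent.S6889
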