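import Groth.Statements.S6893
import Mathlib

set_option autoImplicit false
universe u
open TensorProduct
open CAlg

namespace Groth.Agent.S6893

theorem flat_baseChange_iff (R : Type u) [CommRing R] (A : Type u) [CommRing A] [Algebra R A]
    (M : Type u) [AddCommGroup M] [Module R M] :
    Module.Flat A (A ⊗[R] M) ↔
      ∀ 𝔟 : Ideal A, Function.Injective (LinearMap.rTensor M ((𝔟.subtype).restrictScalars R)) := by
  rw [Module.Flat.iff_rTensor_injective']
  refine forall_congr' (fun 𝔟 => ?_)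
  let c𝔟 := TensorProduct.AlgebraTensorModule.cancelBaseChange R A A 𝔟 M
  let cA := TensorProduct.AlgebraTensorModule.cancelBaseChange R A A A M
  have hcomm : ∀ x, cA (LinearMap.rTensor (A ⊗[R] M) 𝔟.subtype x) =
      LinearMap.rTensor M ((𝔟.subtype).restrictScalars R) (c𝔟 x) := by
    intro x
    induction x using TensorProduct.induction_on with
    | zero => simp
    | add x y hx hy => simp only [map_add, hx, hy]
    | tmul b y =>
      induction y using TensorProduct.induction_on with
      | zero => simp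
      | add y z hy hz => simp only [TensorProduct.tmul_add, map_add, hy, hz]
      | tmul a m =>
        simp [cA, c𝔟]
  constructor
  · intro h x y hxy
    have hx := hcomm (c𝔟.symm x)
    have hy := hcomm (c𝔟.symm y)
    rw [LinearEquiv.apply_symm_apply] at hx hy
    rw [← hx, ← hy] at hxy
    have := h (cA.injective hxy)
    exact c𝔟.symm.injective this
  · intro h x y hxy
    have := congrArg cA hxy
    rw [hcomm, hcomm] at this
    exact c𝔟.injective (h this)


theorem main_chase {R : Type u} [CommRing R] (M : Type u) [AddCommGroup M] [Module R M]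
    {X X₁ X₂ : Type u} [AddCommGroup X] [Module R X] [AddCommGroup X₁] [Module R X₁]
    [AddCommGroup X₂] [Module R X₂] (π₁ : X →ₗ[R] X₁) (π₂ : X →ₗ[R] X₂)
    (hker : LinearMap.ker π₁ ⊓ LinearMap.ker π₂ = ⊥)
    (h₁ : ∀ N : Submodule R X₁, Function.Injective (LinearMap.rTensor M N.subtype))
    (h₂ : ∀ N : Submodule R X₂, Function.Injective (LinearMap.rTensor M N.subtype))
    (N : Submodule R X) : Function.Injective (LinearMap.rTensor M N.subtype) := by
  let N₁ : Submodule R X := N ⊓ LinearMap.ker π₁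
  -- Step 1
  let g : N₁ →ₗ[R] X₂ := π₂ ∘ₗ N₁.subtype
  have hg : Function.Injective g := by
    rw [injective_iff_map_eq_zero]
    intro x hx
    have hx1 : (x : X) ∈ LinearMap.ker π₁ := x.2.2
    have hx2 : (x : X) ∈ LinearMap.ker π₂ := hx
    have : (x : X) ∈ LinearMap.ker π₁ ⊓ LinearMap.ker π₂ := ⟨hx1, hx2⟩
    rw [hker] at this
    exact Subtype.ext this
  let e : N₁ ≃ₗ[R] LinearMap.range g := LinearEquiv.ofInjective g hg
  have hge : g = (LinearMap.range g).subtype ∘ₗ e.toLinearMap := by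
    ext x; rfl
  have hstep1 : Function.Injective (LinearMap.rTensor M N₁.subtype) := by
    have h3 : Function.Injective (LinearMap.rTensor M g) := by
      rw [hge, LinearMap.rTensor_comp]
      exact (h₂ (LinearMap.range g)).comp (e.rTensor M).injective
    have h4 : LinearMap.rTensor M g = LinearMap.rTensor M π₂ ∘ₗ LinearMap.rTensor M N₁.subtype :=
      LinearMap.rTensor_comp M π₂ N₁.subtype
    rw [h4] at h3
    exact Function.Injective.of_comp h3
  -- Step 2
  let ρ : N →ₗ[R] N.map π₁ := π₁.submoduleMap N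
  have hρ : Function.Surjective ρ := π₁.submoduleMap_surjective N
  let j : N₁ →ₗ[R] N := Submodule.inclusion inf_le_left
  have hex : Function.Exact j ρ := by
    intro x
    constructor
    · intro hx
      have hx1 : π₁ (x : X) = 0 := congrArg Subtype.val hx
      exact ⟨⟨x.1, x.2, hx1⟩, rfl⟩
    · rintro ⟨y, rfl⟩
      apply Subtype.ext
      exact y.2.2
  have hex' := rTensor_exact M hex hρ
  -- Step 3
  rw [injective_iff_map_eq_zero]
  intro x hx
  have h5 : LinearMap.rTensor M (N.map π₁).subtype (LinearMap.rTensor M ρ x) = 0 := by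
    rw [← LinearMap.comp_apply, ← LinearMap.rTensor_comp]
    have : (N.map π₁).subtype ∘ₗ ρ = π₁ ∘ₗ N.subtype := by
      ext y; rfl
    rw [this, LinearMap.rTensor_comp, LinearMap.comp_apply, hx, map_zero]
  have h6 : LinearMap.rTensor M ρ x = 0 := by
    apply h₁ (N.map π₁)
    rw [h5, map_zero]
  obtain ⟨x'', rfl⟩ := (hex' x).mp h6
  have h7 : LinearMap.rTensor M N₁.subtype x'' = 0 := by
    have : N.subtype ∘ₗ j = N₁.subtype := by
      ext y; rfl
    rw [← this, LinearMap.rTensor_comp, LinearMap.comp_apply, hx]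
  have h8 : x'' = 0 := by
    apply hstep1
    rw [h7, map_zero]
  rw [h8, map_zero]


theorem submodule_of_ideal {R : Type u} [CommRing R] (I : Ideal R) (M : Type u) [AddCommGroup M]
    [Module R M]
    (h : ∀ 𝔟 : Ideal (R ⧸ I),
      Function.Injective (LinearMap.rTensor M ((𝔟.subtype).restrictScalars R)))
    (N : Submodule R (R ⧸ I)) : Function.Injective (LinearMap.rTensor M N.subtype) := by
  let 𝔟 : Ideal (R ⧸ I) :=
    { carrier := N
      add_mem' := fun ha hb => N.add_mem ha hb
      zero_mem' := N.zero_mem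
      smul_mem' := by
        intro c x hx
        obtain ⟨r, rfl⟩ := Ideal.Quotient.mk_surjective c
        have : (Ideal.Quotient.mk I r) • x = r • x := by
          rw [Algebra.smul_def]; rfl
        rw [this]
        exact N.smul_mem r hx }
  let φ : N ≃ₗ[R] 𝔟 :=
    { toFun := fun x => ⟨x.1, x.2⟩
      invFun := fun x => ⟨x.1, x.2⟩
      map_add' := fun _ _ => rfl
      map_smul' := fun _ _ => rfl
      left_inv := fun _ => rfl
      right_inv := fun _ => rfl }
  have hφ : N.subtype = ((𝔟.subtype).restrictScalars R) ∘ₗ φ.toLinearMap := by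
    ext x; rfl
  rw [hφ, LinearMap.rTensor_comp]
  exact (h 𝔟).comp (φ.rTensor M).injective

theorem ideal_of_submodule {R : Type u} [CommRing R] (A : Type u) [CommRing A] [Algebra R A]
    (M : Type u) [AddCommGroup M] [Module R M]
    (h : ∀ N : Submodule R A, Function.Injective (LinearMap.rTensor M N.subtype))
    (𝔟 : Ideal A) :
    Function.Injective (LinearMap.rTensor M ((𝔟.subtype).restrictScalars R)) := by
  let N : Submodule R A := 𝔟.restrictScalars R
  let φ : 𝔟 ≃ₗ[R] N :=
    { toFun := fun x => ⟨x.1, x.2⟩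
      invFun := fun x => ⟨x.1, x.2⟩
      map_add' := fun _ _ => rfl
      map_smul' := fun _ _ => rfl
      left_inv := fun _ => rfl
      right_inv := fun _ => rfl }
  have hφ : ((𝔟.subtype).restrictScalars R) = N.subtype ∘ₗ φ.toLinearMap := by
    ext x; rfl
  rw [hφ, LinearMap.rTensor_comp]
  exact (h N).comp (φ.rTensor M).injective


/-- Let `M` be a module over a ring `R` and `I₁, I₂ ⊆ R` ideals. Suppose flatness of `M/I₁M` as an
`R/I₁`-module holds, and likewise `M/I₂M` is a flat `R/I₂`-module; then the quotient `M/(I₁ ∩ I₂)M`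
is also flat as a module over `R/(I₁ ∩ I₂)`. -/
theorem result {R : Type u} [CommRing R] (M : Type u) [AddCommGroup M] [Module R M]
    (I₁ I₂ : Ideal R) [Module.Flat (R ⧸ I₁) ((R ⧸ I₁) ⊗[R] M)] [Module.Flat (R ⧸ I₂) ((R ⧸ I₂) ⊗[R] M)] :
    Module.Flat (R ⧸ (I₁ ⊓ I₂)) ((R ⧸ (I₁ ⊓ I₂)) ⊗[R] M) := by
  have P₁ := submodule_of_ideal I₁ M ((flat_baseChange_iff R (R ⧸ I₁) M).mp inferInstance)
  have P₂ := submodule_of_ideal I₂ M ((flat_baseChange_iff R (R ⧸ I₂) M).mp inferInstance)
  let π₁ : (R ⧸ (I₁ ⊓ I₂)) →ₗ[R] (R ⧸ I₁) :=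
    (Ideal.Quotient.factorₐ R (inf_le_left : I₁ ⊓ I₂ ≤ I₁)).toLinearMap
  let π₂ : (R ⧸ (I₁ ⊓ I₂)) →ₗ[R] (R ⧸ I₂) :=
    (Ideal.Quotient.factorₐ R (inf_le_right : I₁ ⊓ I₂ ≤ I₂)).toLinearMap
  have hker : LinearMap.ker π₁ ⊓ LinearMap.ker π₂ = ⊥ := by
    rw [eq_bot_iff]
    rintro x ⟨hx1, hx2⟩
    obtain ⟨r, rfl⟩ := Ideal.Quotient.mk_surjective x
    have h1 : Ideal.Quotient.mk I₁ r = 0 := hx1
    have h2 : Ideal.Quotient.mk I₂ r = 0 := hx2
    rw [Ideal.Quotient.eq_zero_iff_mem] at h1 h2
    rw [Submodule.mem_bot, Ideal.Quotient.eq_zero_iff_mem]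
    exact ⟨h1, h2⟩
  rw [flat_baseChange_iff]
  exact ideal_of_submodule (R ⧸ (I₁ ⊓ I₂)) M (main_chase M π₁ π₂ hker P₁ P₂)

end Groth.Agent.S6893
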