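import Groth.Statements.S6897
import Mathlib
import Groth.Agent.Lib.Helper10.FittingSplit
import Groth.Agent.S6895
import Groth.Agent.S6914
-- import your own Groth.Agent.* helpers here

set_option autoImplicit false
universe u
open CategoryTheory
open Fitt

namespace Groth.Agent.S6897

open Groth.Agent.Lib.Helper10.Fitting

/-- If `Fit_j(N) = 0`, `a₁` is a nonzerodivisor and `T` is killed by `a₁`, then `Fit_j(N/T) = 0`. -/
theorem fitt_quotient_eq_bot {R₁ : Type u} [CommRing R₁] (N : Type u) [AddCommGroup N]
    [Module R₁ N] [Module.Finite R₁ N] (j : ℕ) (a₁ : R₁) (ha₁ : a₁ ∈ nonZeroDivisors R₁)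
    (hfit : Fitt.ideal R₁ N j = ⊥) (T : Submodule R₁ N) (hT : ∀ m ∈ T, a₁ • m = 0) :
    Fitt.ideal R₁ (N ⧸ T) j = ⊥ := by
  classical
  obtain ⟨n, x, hx⟩ := Module.Finite.exists_fin (R := R₁) (M := N)
  have hx' : Submodule.span R₁ (Set.range (T.mkQ ∘ x)) = ⊤ := by
    rw [Set.range_comp, ← Submodule.map_span, hx, Submodule.map_top, Submodule.range_mkQ]
  rw [fitt_eq_G (T.mkQ ∘ x) hx' j, eq_bot_iff, G_le_iff]
  intro A hA
  rw [Ideal.mem_bot]
  have hrow : ∀ i, A i ∈ Rel R₁ (T.mkQ ∘ x) → a₁ • A i ∈ Rel R₁ x := by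
    intro i hi
    rw [mem_Rel] at hi
    have h1 : ∑ l, A i l • x l ∈ T := by
      rw [← Submodule.Quotient.mk_eq_zero, ← Submodule.mkQ_apply, map_sum]
      simpa using hi
    have hm := hT _ h1
    rw [mem_Rel]
    rw [Finset.smul_sum] at hm
    rw [← hm]
    apply Finset.sum_congr rfl
    intro l _
    rw [Pi.smul_apply, smul_eq_mul, mul_smul]
  let c : Fin n → R₁ := fun i => if A i ∈ Rel R₁ (T.mkQ ∘ x) then a₁ else 1
  let B : Matrix (Fin n) (Fin n) R₁ := Matrix.of fun i l => c i * A i l
  have hdet : B.det = (∏ i, c i) * A.det := Matrix.det_mul_column c A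
  have hB : nonRelCard x B ≤ j := by
    refine le_trans ?_ hA
    unfold nonRelCard
    apply Finset.card_le_card
    intro i hi
    rw [Finset.mem_filter] at hi ⊢
    refine ⟨Finset.mem_univ _, ?_⟩
    intro hAi
    apply hi.2
    have h2 : B i = a₁ • A i := by
      funext l
      show c i * A i l = _
      simp only [c, if_pos hAi, Pi.smul_apply, smul_eq_mul]
    rw [h2]
    exact hrow i hAi
  have hBmem : B.det ∈ Fitt.ideal R₁ N j := by
    rw [fitt_eq_G x hx j]
    exact det_mem_G x j B hB
  rw [hfit, Ideal.mem_bot, hdet] at hBmem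
  have hnzd : ∏ i, c i ∈ nonZeroDivisors R₁ := by
    apply Submonoid.prod_mem
    intro i _
    simp only [c]
    split_ifs
    · exact ha₁
    · exact one_mem _
  exact (mem_nonZeroDivisors_iff.mp hnzd).1 _ hBmem

/-- Let `M` be a finitely presented `R`-module and `k ≥ 0` such that `Fit_k(M) = (f)` for a
nonzerodivisor `f` and `Fit_{k-1}(M) = 0` (no condition when `k = 0`). Let `M' = Ker(f : M → M)`.
Then: the projective dimension of `M` is at most `1`; `M'` coincides with the `f`-power torsion of
`M` and its projective dimension is at most `1`; every prime of `R` has a basic open neighbourhood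
over which `M/M'` is free of rank `k`; and `M ≅ M/M' ⊕ M'` (existence of an isomorphism). -/
theorem result {R : Type u} [CommRing R] (M : Type u)
    [AddCommGroup M] [Module R M] [Module.FinitePresentation R M] (k : ℕ) (f : R) (hf0 : f ∈ nonZeroDivisors R)
    (hf : Fitt.ideal R M k = Ideal.span {f}) (hk : k = 0 ∨ Fitt.ideal R M (k - 1) = ⊥) :
    HasProjectiveDimensionLT (ModuleCat.of R M) 2 ∧
    (∀ x : M, (∃ n : ℕ, f ^ n • x = 0) ↔ f • x = 0) ∧
    HasProjectiveDimensionLT (ModuleCat.of R ↥(LinearMap.ker (f • (LinearMap.id : M →ₗ[R] M)))) 2 ∧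
    (∀ (p : Ideal R) [p.IsPrime], ∃ g : R, g ∉ p ∧
      Module.Free (Localization.Away g)
          (LocalizedModule (Submonoid.powers g) (M ⧸ LinearMap.ker (f • (LinearMap.id : M →ₗ[R] M)))) ∧
        Module.finrank (Localization.Away g)
          (LocalizedModule (Submonoid.powers g) (M ⧸ LinearMap.ker (f • (LinearMap.id : M →ₗ[R] M)))) = k) ∧
    Nonempty (M ≃ₗ[R] (M ⧸ LinearMap.ker (f • (LinearMap.id : M →ₗ[R] M))) ×
      ↥(LinearMap.ker (f • (LinearMap.id : M →ₗ[R] M)))) := by
  classical
  haveI : Module.Finite R M := inferInstance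
  obtain ⟨n, x, hx⟩ := Module.Finite.exists_fin (R := R) (M := M)
  have hG : ∀ j, Fitt.ideal R M j = G R x j := fun j => fitt_eq_G x hx j
  have hbot : ∀ B : Matrix (Fin n) (Fin n) R, nonRelCard x B + 1 ≤ k → B.det = 0 := by
    intro B hB
    rcases hk with hk | hk
    · omega
    · have h1 : B.det ∈ G R x (k - 1) := det_mem_G x (k - 1) B (by omega)
      rw [← hG, hk, Ideal.mem_bot] at h1
      exact h1
  have hfitG : G R x k = Ideal.span {f} := by rw [← hG, hf]
  let π : (Fin n → R) →ₗ[R] M := Fintype.linearCombination R x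
  have hπ : Function.Surjective π := by
    rw [← LinearMap.range_eq_top, Fintype.range_linearCombination]
    exact hx
  set M' := LinearMap.ker (f • (LinearMap.id : M →ₗ[R] M)) with hM'
  have hmemM' : ∀ m : M, m ∈ M' ↔ f • m = 0 := by
    intro m
    rw [hM', LinearMap.mem_ker, LinearMap.smul_apply, LinearMap.id_apply]
  -- (1) projective dimension of `M`
  have h1 : HasProjectiveDimensionLT (ModuleCat.of R M) 2 := by
    have hK : Module.Projective R (Rel R x) := rel_projective x k f hf0 hbot hfitG
    have hS := LinearMap.shortExact_shortComplexKer hπ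
    have hproj : Projective (LinearMap.shortComplexKer π).X₂ :=
      (IsProjective.iff_projective (R := R) (Fin n → R)).mp inferInstance
    have hK' : Projective (ModuleCat.of R (LinearMap.ker π)) :=
      (IsProjective.iff_projective (R := R) (LinearMap.ker π)).mp hK
    have hK1 : HasProjectiveDimensionLT (ModuleCat.of R (LinearMap.ker π)) (0 + 1) := by
      rw [zero_add]
      infer_instance
    exact (hS.hasProjectiveDimensionLT_X₃_iff 0 hproj).mpr hK1
  -- (2) torsion
  have h2 : ∀ m : M, (∃ N : ℕ, f ^ N • m = 0) ↔ f • m = 0 := by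
    intro m
    constructor
    · rintro ⟨N, hN⟩
      obtain ⟨v, rfl⟩ := hπ m
      have hfG : f ∈ G R x k := by rw [hfitG]; exact Ideal.mem_span_singleton_self f
      obtain ⟨n', a, A, hA, hsum⟩ := exists_decomp x k f hfG
      have hrel : f ^ N • v ∈ Rel R x := by
        show π (f ^ N • v) = 0
        rw [map_smul, hN]
      have e1 := Psi_rel x k hbot a A hA _ hrel
      rw [← hsum, map_smul] at e1
      have e2 : Psi x a A v = f • v := by
        funext l
        have := congrFun e1 l
        simp only [Pi.smul_apply, smul_eq_mul] at this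
        have h3 : (Psi x a A v l - f * v l) * f ^ N = 0 := by
          rw [sub_mul, mul_comm, this]
          ring
        have h4 := (mem_nonZeroDivisors_iff.mp (pow_mem hf0 N)).2 _ h3
        rw [Pi.smul_apply, smul_eq_mul]
        exact sub_eq_zero.mp h4
      have e3 : f • v ∈ Rel R x := e2 ▸ Psi_mem x a A v
      have e4 : π (f • v) = 0 := e3
      rw [map_smul] at e4
      exact e4
    · intro h
      exact ⟨1, by rw [pow_one]; exact h⟩
  -- Fitting ideals of the quotient
  have htop : Fitt.ideal R (M ⧸ M') k = ⊤ := by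
    apply Groth.Agent.S6914.fitt_quotient_eq_top M k f hf M'
    intro m hm
    exact (hmemM' m).mpr hm
  have hbotQ : ∀ j, j < k → Fitt.ideal R (M ⧸ M') j = ⊥ := by
    intro j hj
    have hfitj : Fitt.ideal R M j = ⊥ := by
      rcases hk with hk | hk
      · omega
      · exact le_bot_iff.mp (hk ▸ fitt_mono (by omega))
    exact fitt_quotient_eq_bot M j f hf0 hfitj M' (fun m hm => (hmemM' m).mp hm)
  -- (4) local freeness
  have h4 : ∀ (p : Ideal R) [p.IsPrime], ∃ g : R, g ∉ p ∧
      Module.Free (Localization.Away g) (LocalizedModule (Submonoid.powers g) (M ⧸ M')) ∧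
        Module.finrank (Localization.Away g)
          (LocalizedModule (Submonoid.powers g) (M ⧸ M')) = k := by
    refine (Groth.Agent.S6895.result (M ⧸ M') k).mpr ⟨hbotQ, ?_⟩
    intro j hj
    exact top_le_iff.mp (htop ▸ fitt_mono hj)
  -- projectivity of the quotient and the splitting
  have hx'' : Submodule.span R (Set.range (M'.mkQ ∘ x)) = ⊤ := by
    rw [Set.range_comp, ← Submodule.map_span, hx, Submodule.map_top, Submodule.range_mkQ]
  have hprojQ : Module.Projective R (M ⧸ M') := by
    apply projective_of_G_eq_top (M'.mkQ ∘ x) hx'' k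
    · intro B hB
      have hk1 : 1 ≤ k := by omega
      have h1 : B.det ∈ G R (M'.mkQ ∘ x) (k - 1) := det_mem_G _ (k - 1) B (by omega)
      rw [← fitt_eq_G (M'.mkQ ∘ x) hx'' (k - 1), hbotQ (k - 1) (by omega), Ideal.mem_bot] at h1
      exact h1
    · rw [← fitt_eq_G (M'.mkQ ∘ x) hx'' k, htop]
  obtain ⟨σ, hσ⟩ := Module.projective_lifting_property M'.mkQ (LinearMap.id : (M ⧸ M') →ₗ[R] _)
    (Submodule.mkQ_surjective M')
  have hσ' : ∀ y, M'.mkQ (σ y) = y := fun y => by
    have := LinearMap.congr_fun hσ y
    simpa using this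
  have hρmem : ∀ m : M, m - σ (M'.mkQ m) ∈ M' := by
    intro m
    rw [← Submodule.Quotient.mk_eq_zero, ← Submodule.mkQ_apply, map_sub, hσ', sub_self]
  let ρ : M →ₗ[R] M' := LinearMap.codRestrict M' (LinearMap.id - σ.comp M'.mkQ) (fun m => by
    simpa using hρmem m)
  have hρ : ∀ m : M, ((ρ m : M') : M) = m - σ (M'.mkQ m) := fun m => rfl
  have hρM' : ∀ z : M', ρ (z : M) = z := by
    intro z
    apply Subtype.ext
    rw [hρ]
    have : M'.mkQ (z : M) = 0 := by
      rw [Submodule.mkQ_apply, Submodule.Quotient.mk_eq_zero]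
      exact z.2
    rw [this, map_zero, sub_zero]
  -- (3) projective dimension of `M'`
  have h3 : HasProjectiveDimensionLT (ModuleCat.of R ↥M') 2 := by
    let retr : Retract (ModuleCat.of R ↥M') (ModuleCat.of R M) :=
      { i := ModuleCat.ofHom M'.subtype
        r := ModuleCat.ofHom ρ
        retract := by
          ext z
          exact congrArg Subtype.val (hρM' z) }
    exact retr.hasProjectiveDimensionLT 2
  -- (5) the splitting
  have h5 : Nonempty (M ≃ₗ[R] (M ⧸ M') × ↥M') := by
    refine ⟨LinearEquiv.ofLinear (LinearMap.prod M'.mkQ ρ)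
      (LinearMap.coprod σ M'.subtype) ?_ ?_⟩
    · apply LinearMap.ext
      rintro ⟨y, z⟩
      apply Prod.ext
      · show M'.mkQ (σ y + (z : M)) = y
        rw [map_add, hσ']
        have : M'.mkQ (z : M) = 0 := by
          rw [Submodule.mkQ_apply, Submodule.Quotient.mk_eq_zero]
          exact z.2
        rw [this, add_zero]
      · show ρ (σ y + (z : M)) = z
        rw [map_add, hρM']
        have : ρ (σ y) = 0 := by
          apply Subtype.ext
          rw [hρ, hσ', sub_self]
          rfl
        rw [this, zero_add]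
    · apply LinearMap.ext
      intro m
      show σ (M'.mkQ m) + ((ρ m : M') : M) = m
      rw [hρ]
      abel
  exact ⟨h1, h2, h3, h4, h5⟩

end Groth.Agent.S6897
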