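import Groth.Statements.S6898
import Mathlib
import Groth.Agent.H34.Nakayama

set_option autoImplicit false
universe u
open TensorProduct
open CAlg

namespace Groth.Agent.S6898

universe w

theorem lTensor_injective_of_killed {A : Type u} [CommRing A] [IsLocalRing A] {M N : Type u}
    [AddCommGroup M] [Module A M] [AddCommGroup N] [Module A N] (u : M →ₗ[A] N)
    (hu : Function.Injective (u.baseChange (IsLocalRing.ResidueField A)))
    (V : Type w) [AddCommGroup V] [Module A V]
    (hV : ∀ a ∈ IsLocalRing.maximalIdeal A, ∀ v : V, a • v = 0) :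
    Function.Injective (u.lTensor V) := by
  have hT : Module.IsTorsionBySet A V (IsLocalRing.maximalIdeal A : Set A) :=
    fun v a => hV a.1 a.2 v
  let _ : Module (IsLocalRing.ResidueField A) V := hT.module
  have : IsScalarTower A (IsLocalRing.ResidueField A) V := hT.isScalarTower
  let k := IsLocalRing.ResidueField A
  let e₁ := TensorProduct.AlgebraTensorModule.cancelBaseChange A k k V M
  let e₂ := TensorProduct.AlgebraTensorModule.cancelBaseChange A k k V N
  have hcomm : ∀ z, u.lTensor V (e₁ z) = e₂ ((u.baseChange k).lTensor V z) := by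
    intro z
    induction z using TensorProduct.induction_on with
    | zero => simp
    | add a b ha hb => simp only [map_add, ha, hb]
    | tmul v w =>
      induction w using TensorProduct.induction_on with
      | zero => simp
      | add a b ha hb => simp only [map_add, TensorProduct.tmul_add, ha, hb]
      | tmul c m => simp [e₁, e₂]
  have hinj : Function.Injective ((u.baseChange k).lTensor V) :=
    Module.Flat.lTensor_preserves_injective_linearMap _ hu
  intro a b hab
  obtain ⟨a', rfl⟩ := e₁.surjective a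
  obtain ⟨b', rfl⟩ := e₁.surjective b
  rw [hcomm, hcomm] at hab
  rw [hinj (e₂.injective hab)]

theorem key {A : Type u} [CommRing A] [IsLocalRing A] {M N : Type u}
    [AddCommGroup M] [Module A M] [Module.Flat A M] [AddCommGroup N] [Module A N]
    [Module.Flat A N] (u : M →ₗ[A] N)
    (hu : Function.Injective (u.baseChange (IsLocalRing.ResidueField A)))
    (J K : Ideal A) (hJK : J ≤ K) (hmK : IsLocalRing.maximalIdeal A • K ≤ J) (x : M)
    (hxK : x ∈ K • (⊤ : Submodule A M)) (hux : u x ∈ J • (⊤ : Submodule A N)) :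
    x ∈ J • (⊤ : Submodule A M) := by
  let q : (A ⧸ J) →ₗ[A] (A ⧸ K) := Submodule.factor hJK
  let V := LinearMap.ker q
  let ι : V →ₗ[A] (A ⧸ J) := V.subtype
  have hex : Function.Exact ι q := LinearMap.exact_subtype_ker_map q
  have hexM : Function.Exact (ι.rTensor M) (q.rTensor M) := Module.Flat.rTensor_exact M hex
  have hq1 : q.rTensor M ((1 : A ⧸ J) ⊗ₜ[A] x) = 0 := by
    rw [LinearMap.rTensor_tmul]
    have : q (1 : A ⧸ J) = (1 : A ⧸ K) := Submodule.factor_mk hJK (1 : A)
    rw [this]
    exact (Groth.Agent.H34.one_tmul_eq_zero_iff K x).mpr hxK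
  obtain ⟨ξ, hξ⟩ := (hexM _).mp hq1
  have hιN : Function.Injective (ι.rTensor N) :=
    Module.Flat.rTensor_preserves_injective_linearMap ι (Submodule.injective_subtype _)
  have hV : ∀ a ∈ IsLocalRing.maximalIdeal A, ∀ v : V, a • v = 0 := by
    rintro a ha ⟨w, hw⟩
    obtain ⟨b, rfl⟩ := Submodule.Quotient.mk_surjective _ w
    have hb : b ∈ K := by
      have h1 : q (Submodule.Quotient.mk b) = Submodule.Quotient.mk b := Submodule.factor_mk hJK b
      rw [LinearMap.mem_ker, h1] at hw
      exact (Submodule.Quotient.mk_eq_zero _).mp hw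
    apply Subtype.ext
    change a • (Submodule.Quotient.mk b : A ⧸ J) = 0
    rw [← Submodule.Quotient.mk_smul]
    exact (Submodule.Quotient.mk_eq_zero _).mpr (hmK (Submodule.smul_mem_smul ha hb))
  have h0 : u.lTensor V ξ = 0 := by
    apply hιN
    rw [map_zero, ← LinearMap.comp_apply, LinearMap.rTensor_comp_lTensor,
      ← LinearMap.lTensor_comp_rTensor, LinearMap.comp_apply, hξ, LinearMap.lTensor_tmul]
    exact (Groth.Agent.H34.one_tmul_eq_zero_iff J (u x)).mpr hux
  have hξ0 : ξ = 0 := lTensor_injective_of_killed u hu V hV (by rw [h0, map_zero])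
  rw [hξ0, map_zero] at hξ
  exact (Groth.Agent.H34.one_tmul_eq_zero_iff J x).mp hξ.symm

theorem exists_fg_of_mem_smul_top {A : Type u} [CommRing A] {M : Type u} [AddCommGroup M]
    [Module A M] (I : Ideal A) (x : M) (hx : x ∈ I • (⊤ : Submodule A M)) :
    ∃ I₀ : Ideal A, I₀ ≤ I ∧ I₀.FG ∧ x ∈ I₀ • (⊤ : Submodule A M) := by
  refine Submodule.smul_induction_on hx ?_ ?_
  · intro r hr m hm
    refine ⟨Ideal.span {r}, (Ideal.span_singleton_le_iff_mem _).mpr hr, ⟨{r}, by simp⟩, ?_⟩
    exact Submodule.smul_mem_smul (Ideal.mem_span_singleton_self r) hm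
  · rintro a b ⟨I₁, h1, h1', h1''⟩ ⟨I₂, h2, h2', h2''⟩
    refine ⟨I₁ ⊔ I₂, sup_le h1 h2, Submodule.FG.sup h1' h2', ?_⟩
    exact Submodule.add_mem _ (Submodule.smul_mono_left le_sup_left h1'')
      (Submodule.smul_mono_left le_sup_right h2'')


/-- Let `(A, 𝔪)` be a local ring and `u : M → N` a linear map between flat `A`-modules whose reduction
`M/𝔪M → N/𝔪N` is injective. If `I` is the content ideal of some `x ∈ M` (the least ideal `I` with `x
∈ IM`), then `I` is also the least ideal `J` with `u(x) ∈ J·N`. -/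
theorem result {A : Type u} [CommRing A] [IsLocalRing A] {M N : Type u}
    [AddCommGroup M] [Module A M] [Module.Flat A M] [AddCommGroup N] [Module A N] [Module.Flat A N] (u : M →ₗ[A] N)
    (hu : Function.Injective (u.baseChange (IsLocalRing.ResidueField A))) (x : M) (I : Ideal A)
    (hx : IsLeast {J : Ideal A | x ∈ J • (⊤ : Submodule A M)} I) :
    IsLeast {J : Ideal A | u x ∈ J • (⊤ : Submodule A N)} I := by
  obtain ⟨hxI, hmin⟩ := hx
  have hfg : I.FG := by
    obtain ⟨I₀, h1, h2, h3⟩ := exists_fg_of_mem_smul_top I x hxI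
    have : I = I₀ := le_antisymm (hmin h3) h1
    rw [this]; exact h2
  refine ⟨?_, ?_⟩
  · have : u x ∈ Submodule.map u (I • (⊤ : Submodule A M)) := ⟨x, hxI, rfl⟩
    rw [Submodule.map_smul''] at this
    exact Submodule.smul_mono le_rfl le_top this
  · intro J hJ
    have hJ' : u x ∈ (J ⊔ IsLocalRing.maximalIdeal A • I) • (⊤ : Submodule A N) :=
      Submodule.smul_mono_left le_sup_left hJ
    have hK : x ∈ (I ⊔ (J ⊔ IsLocalRing.maximalIdeal A • I)) • (⊤ : Submodule A M) :=
      Submodule.smul_mono_left le_sup_left hxI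
    have hmK : IsLocalRing.maximalIdeal A • (I ⊔ (J ⊔ IsLocalRing.maximalIdeal A • I)) ≤
        J ⊔ IsLocalRing.maximalIdeal A • I := by
      rw [Submodule.smul_sup]
      refine sup_le le_sup_right ?_
      exact Submodule.smul_le_right
    have := key u hu _ _ le_sup_right hmK x hK hJ'
    have hle : I ≤ J ⊔ IsLocalRing.maximalIdeal A • I := hmin this
    exact Submodule.le_of_le_smul_of_le_jacobson_bot hfg
      (IsLocalRing.maximalIdeal_le_jacobson _) hle

end Groth.Agent.S6898
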