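import Groth.Statements.S6899
import Groth.Agent.H76.Milnor
import Mathlib.RingTheory.Ideal.Operations

set_option autoImplicit false
universe u
open TensorProduct
open EtAlg

namespace Groth.Agent.S6899

open Groth.Agent.H76

theorem result (B' B A' A : Type u) [CommRing B'] [CommRing B] [CommRing A'] [CommRing A]
    [Algebra B' B] [Algebra B' A'] [Algebra B A] [Algebra A' A] [Algebra B' A] [IsScalarTower B' B A] [IsScalarTower B' A' A]
    (hsq : EtMil.IsFibreSquare B' B A' A)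
    {N₁ N₂ M₁' M₂' : Type u} [AddCommGroup N₁] [Module B N₁] [Module B' N₁] [IsScalarTower B' B N₁]
    [AddCommGroup N₂] [Module B N₂] [Module B' N₂] [IsScalarTower B' B N₂]
    [AddCommGroup M₁'] [Module A' M₁'] [Module B' M₁'] [IsScalarTower B' A' M₁']
    [AddCommGroup M₂'] [Module A' M₂'] [Module B' M₂'] [IsScalarTower B' A' M₂']
    (φ₁ : A ⊗[B] N₁ ≃ₗ[A] A ⊗[A'] M₁') (φ₂ : A ⊗[B] N₂ ≃ₗ[A] A ⊗[A'] M₂') (u : N₁ →ₗ[B] N₂) (v : M₁' →ₗ[A'] M₂')
    (hc : (v.baseChange A).comp φ₁.toLinearMap = φ₂.toLinearMap.comp (u.baseChange A))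
    (hu : Function.Surjective u) (hv : Function.Surjective v) :
    ∀ y : N₂ × M₂', y ∈ EtMil.glue B' φ₂ → ∃ x : N₁ × M₁', x ∈ EtMil.glue B' φ₁ ∧ u x.1 = y.1 ∧ v x.2 = y.2 := by
  rintro ⟨n₂, m₂⟩ hy
  have hy' : φ₂ ((1 : A) ⊗ₜ[B] n₂) = (1 : A) ⊗ₜ[A'] m₂ := hy
  obtain ⟨n₁, hn₁⟩ := hu n₂
  -- every element of `A ⊗[A'] M₁'` is of the form `1 ⊗ m`
  have key : ∀ z : A ⊗[A'] M₁', ∃ m : M₁', z = (1 : A) ⊗ₜ[A'] m := by
    intro z
    induction z with
    | zero => exact ⟨0, by simp⟩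
    | tmul a m =>
      obtain ⟨a', rfl⟩ := hsq.1 a
      refine ⟨a' • m, ?_⟩
      rw [← TensorProduct.smul_tmul, Algebra.smul_def, mul_one]
    | add x y hx hy =>
      obtain ⟨a, rfl⟩ := hx
      obtain ⟨b, rfl⟩ := hy
      exact ⟨a + b, by rw [TensorProduct.tmul_add]⟩
  obtain ⟨m, hm⟩ := key (φ₁ ((1 : A) ⊗ₜ[B] n₁))
  have h1 : ((1 : A) ⊗ₜ[A'] (v m) : A ⊗[A'] M₂') = (1 : A) ⊗ₜ[A'] m₂ := by
    have := congrArg (fun F => F ((1 : A) ⊗ₜ[B] n₁)) hc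
    simp only [LinearMap.comp_apply, LinearEquiv.coe_coe, LinearMap.baseChange_tmul] at this
    rw [hm, LinearMap.baseChange_tmul, hn₁, hy'] at this
    exact this
  have h2 : ((1 : A) ⊗ₜ[A'] (v m - m₂) : A ⊗[A'] M₂') = 0 := by
    rw [TensorProduct.tmul_sub, h1, sub_self]
  have h3 : v m - m₂ ∈ (RingHom.ker (algebraMap A' A)) • (⊤ : Submodule A' M₂') :=
    Milnor.mem_smul_top_of_one_tmul_eq_zero hsq.1 _ h2
  have h4 : (RingHom.ker (algebraMap A' A)) • (⊤ : Submodule A' M₂') =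
      Submodule.map v ((RingHom.ker (algebraMap A' A)) • (⊤ : Submodule A' M₁')) := by
    rw [Submodule.map_smul'', Submodule.map_top, LinearMap.range_eq_top.mpr hv]
  rw [h4] at h3
  obtain ⟨e, he, hve⟩ := h3
  have h5 : ∀ e ∈ (RingHom.ker (algebraMap A' A)) • (⊤ : Submodule A' M₁'),
      ((1 : A) ⊗ₜ[A'] e : A ⊗[A'] M₁') = 0 := by
    intro e he
    refine Submodule.smul_induction_on he ?_ ?_
    · intro i hi x _
      rw [← TensorProduct.smul_tmul, Algebra.smul_def, (RingHom.mem_ker).mp hi, zero_mul,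
        TensorProduct.zero_tmul]
    · intro x y hx hy
      rw [TensorProduct.tmul_add, hx, hy, add_zero]
  refine ⟨(n₁, m - e), ?_, hn₁, ?_⟩
  · show φ₁ ((1 : A) ⊗ₜ[B] n₁) = (1 : A) ⊗ₜ[A'] (m - e)
    rw [TensorProduct.tmul_sub, h5 e he, sub_zero, hm]
  · show v (m - e) = m₂
    rw [map_sub, hve]
    abel

end Groth.Agent.S6899
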