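import Groth.Statements.S6909
import Mathlib

set_option autoImplicit false
universe u
open CAlg

namespace Groth.Agent.S6909

/-- A linear map with image in `J • ⊤` sends `K • ⊤` into `(K * J) • ⊤`. -/
theorem map_mem_mul_smul_top {A : Type u} [CommRing A] {M N : Type u} [AddCommGroup M]
    [Module A M] [AddCommGroup N] [Module A N] (φ : M →ₗ[A] N) (J K : Ideal A)
    (hφ : ∀ y, φ y ∈ J • (⊤ : Submodule A N)) {y : M} (hy : y ∈ K • (⊤ : Submodule A M)) :
    φ y ∈ (K * J) • (⊤ : Submodule A N) := by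
  have h1 : φ y ∈ Submodule.map φ (K • (⊤ : Submodule A M)) := ⟨y, hy, rfl⟩
  rw [Submodule.map_smul''] at h1
  have h2 : Submodule.map φ (⊤ : Submodule A M) ≤ J • (⊤ : Submodule A N) := by
    rintro _ ⟨z, -, rfl⟩
    exact hφ z
  have h3 := Submodule.smul_mono (le_refl K) h2 h1
  rwa [← Submodule.mul_smul] at h3


/-- Let `A` be a Noetherian ring, `I ⊆ A` an ideal inside the Jacobson radical, and `L → M → N` two
complexes `(f, g)` and `(f', g')` of finite `A`-modules with `f' ≡ f` modulo `I^{c+1}M` and `g' ≡ g`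
modulo `I^{c+1}N`. If `c` works in the Artin–Rees lemma for `f` and for `g` (that is `f(L) ∩ IⁿM ⊆
f(I^{n-c}L)` for `n ≥ c`, and likewise for `g`) and `(f, g)` is exact, then `c` works for `g'` and
`(f', g')` is exact. -/
theorem result {A : Type u} [CommRing A] [IsNoetherianRing A] (I : Ideal A)
    (hI : I ≤ Ideal.jacobson (⊥ : Ideal A)) {L M N : Type u} [AddCommGroup L] [Module A L] [Module.Finite A L]
    [AddCommGroup M] [Module A M] [Module.Finite A M] [AddCommGroup N] [Module A N] [Module.Finite A N]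
    (f f' : L →ₗ[A] M) (g g' : M →ₗ[A] N) (c : ℕ) (hgf : g.comp f = 0) (hgf' : g'.comp f' = 0)
    (hf : (∀ n : ℕ, c ≤ n → LinearMap.range f ⊓ (I ^ n • (⊤ : Submodule A M)) ≤ Submodule.map f (I ^ (n - c) • (⊤ : Submodule A L))))
    (hg : (∀ n : ℕ, c ≤ n → LinearMap.range g ⊓ (I ^ n • (⊤ : Submodule A N)) ≤ Submodule.map g (I ^ (n - c) • (⊤ : Submodule A M))))
    (hex : Function.Exact f g)
    (hff' : ∀ x : L, f x - f' x ∈ I ^ (c + 1) • (⊤ : Submodule A M))
    (hgg' : ∀ y : M, g y - g' y ∈ I ^ (c + 1) • (⊤ : Submodule A N)) :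
    (∀ n : ℕ, c ≤ n → LinearMap.range g' ⊓ (I ^ n • (⊤ : Submodule A N)) ≤ Submodule.map g' (I ^ (n - c) • (⊤ : Submodule A M))) ∧
    Function.Exact f' g' := by
  -- the difference maps
  have hdf : ∀ (K : Ideal A) {x : L}, x ∈ K • (⊤ : Submodule A L) →
      (f - f') x ∈ (K * I ^ (c + 1)) • (⊤ : Submodule A M) := fun K x hx =>
    map_mem_mul_smul_top (f - f') (I ^ (c + 1)) K (fun y => by simpa using hff' y) hx
  have hdg : ∀ (K : Ideal A) {y : M}, y ∈ K • (⊤ : Submodule A M) →
      (g - g') y ∈ (K * I ^ (c + 1)) • (⊤ : Submodule A N) := fun K y hy =>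
    map_mem_mul_smul_top (g - g') (I ^ (c + 1)) K (fun y => by simpa using hgg' y) hy
  have hpow : ∀ {X : Type u} [AddCommGroup X] [Module A X] {i j : ℕ}, i ≤ j →
      I ^ j • (⊤ : Submodule A X) ≤ I ^ i • (⊤ : Submodule A X) := fun {X} _ _ {i j} hij =>
    Submodule.smul_mono_left (Ideal.pow_le_pow_right hij)
  -- main claim
  have claim : ∀ (n : ℕ), c ≤ n → ∀ (r : ℕ), r ≤ n - c → ∀ a : M,
      g' a ∈ I ^ n • (⊤ : Submodule A N) → ∃ b : L, a - f' b ∈ I ^ r • (⊤ : Submodule A M) := by
    intro n hn r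
    induction r with
    | zero =>
      intro _ a _
      exact ⟨0, by simp⟩
    | succ r ih =>
      intro hr a ha
      obtain ⟨b₀, hb₀⟩ := ih (by omega) a ha
      set a₀ := a - f' b₀ with ha₀
      have hg'a₀ : g' a₀ ∈ I ^ n • (⊤ : Submodule A N) := by
        have : g' (f' b₀) = 0 := LinearMap.congr_fun hgf' b₀
        rw [ha₀, map_sub, this, sub_zero]; exact ha
      -- g a₀ ∈ I^(r+c+1) N
      have h1 : g a₀ ∈ I ^ (r + c + 1) • (⊤ : Submodule A N) := by
        have e : g a₀ = g' a₀ + (g - g') a₀ := by simp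
        rw [e]
        refine Submodule.add_mem _ (hpow (by omega) hg'a₀) ?_
        have := hdg (I ^ r) hb₀
        rwa [← pow_add, ← add_assoc] at this
      have h2 : g a₀ ∈ Submodule.map g (I ^ (r + 1) • (⊤ : Submodule A M)) := by
        have := hg (r + c + 1) (by omega) ⟨⟨a₀, rfl⟩, h1⟩
        rwa [show r + c + 1 - c = r + 1 by omega] at this
      obtain ⟨a₁, ha₁, ha₁g⟩ := h2
      have h3 : g (a₀ - a₁) = 0 := by rw [map_sub, ha₁g, sub_self]
      obtain ⟨b, hb⟩ := (hex _).mp h3
      have hfb : f b ∈ I ^ r • (⊤ : Submodule A M) := by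
        rw [hb]
        exact Submodule.sub_mem _ hb₀ (hpow (Nat.le_succ r) ha₁)
      -- choose a better preimage
      have h4 : ∃ b' : L, f b' = a₀ - a₁ ∧ (f - f') b' ∈ I ^ (r + 1) • (⊤ : Submodule A M) := by
        by_cases hrc : c ≤ r
        · obtain ⟨b', hb', hb'f⟩ := hf r hrc ⟨⟨b, rfl⟩, hfb⟩
          refine ⟨b', by rw [hb'f, hb], ?_⟩
          have := hdf (I ^ (r - c)) hb'
          rwa [← pow_add, show r - c + (c + 1) = r + 1 by omega] at this
        · refine ⟨b, hb, ?_⟩
          have : (f - f') b ∈ I ^ (c + 1) • (⊤ : Submodule A M) := by simpa using hff' b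
          exact hpow (by omega) this
      obtain ⟨b', hb', hb'd⟩ := h4
      refine ⟨b₀ + b', ?_⟩
      have e : a - f' (b₀ + b') = a₁ + (f - f') b' := by
        have : a - f' (b₀ + b') = a₀ - f' b' := by rw [ha₀, map_add]; abel
        rw [this, LinearMap.sub_apply, hb']; abel
      rw [e]
      exact Submodule.add_mem _ ha₁ hb'd
  refine ⟨?_, ?_⟩
  · rintro n hn y ⟨⟨a, rfl⟩, hy⟩
    obtain ⟨b, hb⟩ := claim n hn (n - c) le_rfl a hy
    refine ⟨a - f' b, hb, ?_⟩
    have : g' (f' b) = 0 := LinearMap.congr_fun hgf' b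
    rw [map_sub, this, sub_zero]
  · intro a
    constructor
    · intro ha
      -- Krull intersection in `M ⧸ range f'`
      have hK := Ideal.iInf_pow_smul_eq_bot_of_le_jacobson (R := A)
        (M := M ⧸ LinearMap.range f') I hI
      have hmem : (LinearMap.range f').mkQ a ∈
          (⨅ i : ℕ, I ^ i • ⊤ : Submodule A (M ⧸ LinearMap.range f')) := by
        rw [Submodule.mem_iInf]
        intro r
        obtain ⟨b, hb⟩ := claim (r + c) (by omega) r (by omega) a (by rw [ha]; exact zero_mem _)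
        have h1 : (LinearMap.range f').mkQ a = (LinearMap.range f').mkQ (a - f' b) := by
          rw [map_sub]
          have : (LinearMap.range f').mkQ (f' b) = 0 := by
            rw [Submodule.mkQ_apply, Submodule.Quotient.mk_eq_zero]; exact ⟨b, rfl⟩
          rw [this, sub_zero]
        rw [h1]
        have h2 : (LinearMap.range f').mkQ (a - f' b) ∈
            Submodule.map (LinearMap.range f').mkQ (I ^ r • (⊤ : Submodule A M)) :=
          ⟨_, hb, rfl⟩
        rw [Submodule.map_smul''] at h2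
        exact Submodule.smul_mono le_rfl le_top h2
      rw [hK, Submodule.mem_bot, Submodule.mkQ_apply, Submodule.Quotient.mk_eq_zero] at hmem
      exact hmem
    · rintro ⟨b, rfl⟩
      exact LinearMap.congr_fun hgf' b

end Groth.Agent.S6909
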