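import Groth.Statements.S6910
import Mathlib

set_option autoImplicit false
universe u
open CAlg

namespace Groth.Agent.S6910

theorem map_mem_smul_top {A : Type u} [CommRing A] {M N : Type u} [AddCommGroup M] [Module A M]
    [AddCommGroup N] [Module A N] (h : M →ₗ[A] N) (J K : Ideal A)
    (hh : ∀ x, h x ∈ J • (⊤ : Submodule A N)) (x : M) (hx : x ∈ K • (⊤ : Submodule A M)) :
    h x ∈ (K * J) • (⊤ : Submodule A N) := by
  refine Submodule.smul_induction_on hx ?_ ?_
  · intro k hk m _
    rw [map_smul, Submodule.mul_smul]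
    exact Submodule.smul_mem_smul hk (hh m)
  · intro a b ha hb
    rw [map_add]
    exact Submodule.add_mem _ ha hb

theorem pow_smul_top_mono {A : Type u} [CommRing A] (I : Ideal A) (N : Type u) [AddCommGroup N]
    [Module A N] {a b : ℕ} (hab : a ≤ b) :
    I ^ b • (⊤ : Submodule A N) ≤ I ^ a • (⊤ : Submodule A N) :=
  Submodule.smul_mono_left (Ideal.pow_le_pow_right hab)

/-- the difference map sends `I^k M` into `I^(k+c+1) N` -/
theorem diff_mem {A : Type u} [CommRing A] (I : Ideal A) {M N : Type u} [AddCommGroup M]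
    [Module A M] [AddCommGroup N] [Module A N] (g g' : M →ₗ[A] N) (c : ℕ)
    (hgg' : ∀ y : M, g y - g' y ∈ I ^ (c + 1) • (⊤ : Submodule A N)) (k : ℕ) (x : M)
    (hx : x ∈ I ^ k • (⊤ : Submodule A M)) :
    g x - g' x ∈ I ^ (k + c + 1) • (⊤ : Submodule A N) := by
  have := map_mem_smul_top (g - g') (I ^ (c + 1)) (I ^ k) (fun y => by simpa using hgg' y) x hx
  rw [← pow_add] at this
  simpa [add_assoc] using this

/-- one inclusion, symmetric in the two maps given the representation property -/
theorem le_of_repr {A : Type u} [CommRing A] (I : Ideal A) {M N : Type u} [AddCommGroup M]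
    [Module A M] [AddCommGroup N] [Module A N] (g g' : M →ₗ[A] N) (c n : ℕ)
    (hgg' : ∀ y : M, g y - g' y ∈ I ^ (c + 1) • (⊤ : Submodule A N))
    (hrepr : ∀ y ∈ LinearMap.range g ⊓ I ^ n • (⊤ : Submodule A N),
      ∃ m ∈ I ^ (n - c) • (⊤ : Submodule A M), g m = y) :
    I ^ (n + 1) • (⊤ : Submodule A N) ⊔ (LinearMap.range g ⊓ I ^ n • (⊤ : Submodule A N)) ≤
      I ^ (n + 1) • (⊤ : Submodule A N) ⊔ (LinearMap.range g' ⊓ I ^ n • (⊤ : Submodule A N)) := by
  refine sup_le le_sup_left ?_
  intro y hy
  obtain ⟨m, hm, rfl⟩ := hrepr y hy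
  have hd : g m - g' m ∈ I ^ (n + 1) • (⊤ : Submodule A N) :=
    pow_smul_top_mono I N (by omega) (diff_mem I g g' c hgg' (n - c) m hm)
  have hg'm : g' m ∈ I ^ n • (⊤ : Submodule A N) := by
    have h1 : g' m = g m - (g m - g' m) := by abel
    rw [h1]
    exact Submodule.sub_mem _ hy.2 (pow_smul_top_mono I N (Nat.le_succ n) hd)
  have h2 : g m = (g m - g' m) + g' m := by abel
  rw [h2]
  exact Submodule.add_mem _ (Submodule.mem_sup_left hd) (Submodule.mem_sup_right ⟨⟨m, rfl⟩, hg'm⟩)

/-- Let `A` be a Noetherian ring, `I ⊆ A` an ideal inside the Jacobson radical, and `L → M → N` two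
complexes `(f, g)` and `(f', g')` of finite `A`-modules with `f' ≡ f` modulo `I^{c+1}M` and `g' ≡ g`
modulo `I^{c+1}N`, such that the Artin–Rees bound holds with constant `c` for both `f` and `g`, and
`(f, g)` is exact. Then for every `n` the submodules `I^{n+1}N + g(M) ∩ IⁿN` and `I^{n+1}N + g'(M) ∩
IⁿN` of `N` are equal; consequently the associated graded modules of `Coker g` and `Coker g'` with
respect to `I` coincide degreewise as subquotients of `N`. -/
theorem result {A : Type u} [CommRing A] [IsNoetherianRing A] (I : Ideal A)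
    (hI : I ≤ Ideal.jacobson (⊥ : Ideal A)) {L M N : Type u} [AddCommGroup L] [Module A L] [Module.Finite A L]
    [AddCommGroup M] [Module A M] [Module.Finite A M] [AddCommGroup N] [Module A N] [Module.Finite A N]
    (f f' : L →ₗ[A] M) (g g' : M →ₗ[A] N) (c : ℕ) (hgf : g.comp f = 0) (hgf' : g'.comp f' = 0)
    (hf : (∀ n : ℕ, c ≤ n → LinearMap.range f ⊓ (I ^ n • (⊤ : Submodule A M)) ≤ Submodule.map f (I ^ (n - c) • (⊤ : Submodule A L))))
    (hg : (∀ n : ℕ, c ≤ n → LinearMap.range g ⊓ (I ^ n • (⊤ : Submodule A N)) ≤ Submodule.map g (I ^ (n - c) • (⊤ : Submodule A M))))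
    (hex : Function.Exact f g)
    (hff' : ∀ x : L, f x - f' x ∈ I ^ (c + 1) • (⊤ : Submodule A M))
    (hgg' : ∀ y : M, g y - g' y ∈ I ^ (c + 1) • (⊤ : Submodule A N)) (n : ℕ) :
    I ^ (n + 1) • (⊤ : Submodule A N) ⊔ (LinearMap.range g ⊓ I ^ n • (⊤ : Submodule A N)) =
      I ^ (n + 1) • (⊤ : Submodule A N) ⊔ (LinearMap.range g' ⊓ I ^ n • (⊤ : Submodule A N)) := by
  apply le_antisymm
  · -- uses Artin–Rees for `g`
    apply le_of_repr I g g' c n hgg'
    intro y hy
    by_cases hcn : c ≤ n
    · obtain ⟨m, hm, hmy⟩ := hg n hcn hy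
      exact ⟨m, hm, hmy⟩
    · obtain ⟨m, hm⟩ := hy.1
      refine ⟨m, ?_, hm⟩
      have : n - c = 0 := by omega
      rw [this, pow_zero, Ideal.one_eq_top, Submodule.top_smul]
      exact Submodule.mem_top
  · apply le_of_repr I g' g c n (fun y => by
      have := hgg' y
      rw [← neg_sub]
      exact Submodule.neg_mem _ this)
    intro y hy
    -- successive improvement
    have key : ∀ k : ℕ, k ≤ n - c → ∃ m ∈ I ^ k • (⊤ : Submodule A M), g' m = y := by
      intro k
      induction k with
      | zero =>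
        intro _
        obtain ⟨m, hm⟩ := hy.1
        refine ⟨m, ?_, hm⟩
        rw [pow_zero, Ideal.one_eq_top, Submodule.top_smul]
        exact Submodule.mem_top
      | succ k ih =>
        intro hk
        obtain ⟨m, hm, hmy⟩ := ih (by omega)
        -- `g m ∈ I^(k+c+1) N`
        have hd := diff_mem I g g' c hgg' k m hm
        have hgm : g m ∈ I ^ (k + c + 1) • (⊤ : Submodule A N) := by
          have h1 : g m = (g m - g' m) + y := by rw [← hmy]; abel
          rw [h1]
          exact Submodule.add_mem _ hd (pow_smul_top_mono I N (by omega) hy.2)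
        obtain ⟨m₁, hm₁, hm₁g⟩ := hg (k + c + 1) (by omega) ⟨⟨m, rfl⟩, hgm⟩
        have hm₁' : m₁ ∈ I ^ (k + 1) • (⊤ : Submodule A M) := by
          have : k + c + 1 - c = k + 1 := by omega
          rwa [this] at hm₁
        -- `m - m₁ ∈ ker g = range f`
        have hker : g (m - m₁) = 0 := by rw [map_sub, hm₁g, sub_self]
        have hrange : m - m₁ ∈ LinearMap.range f := (hex (m - m₁)).mp hker
        have hIk : m - m₁ ∈ I ^ k • (⊤ : Submodule A M) :=
          Submodule.sub_mem _ hm (pow_smul_top_mono I M (Nat.le_succ k) hm₁')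
        -- choose a good preimage
        have hl : ∃ l : L, f l = m - m₁ ∧ f l - f' l ∈ I ^ (k + 1) • (⊤ : Submodule A M) := by
          by_cases hck : c ≤ k
          · obtain ⟨l, hl, hlf⟩ := hf k hck ⟨hrange, hIk⟩
            refine ⟨l, hlf, ?_⟩
            have := diff_mem I f f' c hff' (k - c) l hl
            have h2 : k - c + c + 1 = k + 1 := by omega
            rwa [h2] at this
          · obtain ⟨l, hl⟩ := hrange
            refine ⟨l, hl, ?_⟩
            exact pow_smul_top_mono I M (by omega) (hff' l)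
        obtain ⟨l, hlf, hle⟩ := hl
        refine ⟨m₁ + (f l - f' l), Submodule.add_mem _ hm₁' hle, ?_⟩
        have h3 : g' (f' l) = 0 := LinearMap.congr_fun hgf' l
        have h4 : m = m₁ + (f l - f' l) + f' l := by rw [hlf]; abel
        rw [← hmy]
        conv_rhs => rw [h4]
        rw [map_add g' _ (f' l), h3, add_zero]
    exact key (n - c) le_rfl

end Groth.Agent.S6910
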