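import Groth.Statements.S6912
import Mathlib.LinearAlgebra.Dimension.Localization
import Mathlib.RingTheory.IsTensorProduct
import Mathlib.Algebra.Module.FinitePresentation
import Mathlib.LinearAlgebra.FreeModule.Finite.Matrix
import Mathlib.RingTheory.Localization.Finiteness

set_option autoImplicit false
universe u
open TensorProduct
open CAlg

namespace Groth.Agent.S6912

theorem rank_eq_rank_localized (R : Type u) [CommRing R] [IsDomain R] (M : Type u)
    [AddCommGroup M] [Module R M] :
    Module.rank (FractionRing R) (LocalizedModule (nonZeroDivisors R) M) = Module.rank R M := by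
  rw [IsLocalization.rank_eq (N := LocalizedModule (nonZeroDivisors R) M) (FractionRing R)
    (nonZeroDivisors R) le_rfl]
  exact IsLocalizedModule.rank_eq (nonZeroDivisors R) le_rfl
    (LocalizedModule.mkLinearMap (nonZeroDivisors R) M)

/-- Let `R` be a domain and `M`, `N` two `R`-modules; rank means dimension over the fraction field after
base change. Then `rank (M ⊗_R N) = rank M · rank N`, and when `M` is finitely presented also `rank
Hom_R(M, N) = rank M · rank N`. -/
theorem result (R : Type u) [CommRing R] [IsDomain R] (M N : Type u)
    [AddCommGroup M] [Module R M] [AddCommGroup N] [Module R N] :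
    Module.rank R (M ⊗[R] N) = Module.rank R M * Module.rank R N ∧
    (Module.FinitePresentation R M → Module.rank R (M →ₗ[R] N) = Module.rank R M * Module.rank R N) := by
  let K := FractionRing R
  have hK : FaithfulSMul R K := inferInstance
  constructor
  · rw [← IsBaseChange.rank_eq (TensorProduct.isBaseChange R (M ⊗[R] N) K),
      ← IsBaseChange.rank_eq (TensorProduct.isBaseChange R M K),
      ← IsBaseChange.rank_eq (TensorProduct.isBaseChange R N K),
      LinearEquiv.rank_eq (TensorProduct.AlgebraTensorModule.distribBaseChange R K M N)]
    exact rank_tensorProduct'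
  · intro hM
    let S := nonZeroDivisors R
    have h1 : Module.rank R (M →ₗ[R] N) =
        Module.rank R (LocalizedModule S M →ₗ[K] LocalizedModule S N) :=
      (IsLocalizedModule.rank_eq S le_rfl (LocalizedModule.map S (M := M) (N := N))).symm
    have h2 : Module.rank K (LocalizedModule S M →ₗ[K] LocalizedModule S N) =
        Module.rank R (LocalizedModule S M →ₗ[K] LocalizedModule S N) :=
      IsLocalization.rank_eq K S le_rfl
    have hfin : Module.Finite K (LocalizedModule S M) :=
      Module.Finite.of_isLocalizedModule S (Rₚ := K) (LocalizedModule.mkLinearMap S M)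
    rw [h1, ← h2, Module.rank_linearMap, Cardinal.lift_id, Cardinal.lift_id,
      rank_eq_rank_localized, rank_eq_rank_localized]

end Groth.Agent.S6912
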