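import Groth.Statements.S6913
import Groth.Agent.H34.TorsionFree

set_option autoImplicit false
universe u
open CAlg

namespace Groth.Agent.S6913

open Module in
theorem free_localization_away {R : Type u} [CommRing R] [IsDomain R] {M : Type u} [AddCommGroup M]
    [Module R M] {n : ℕ} (h : M →ₗ[R] (Fin n → R)) (g : (Fin n → R) →ₗ[R] M) (c₁ c₂ : R)
    (hc₁ : c₁ ≠ 0) (hc₂ : c₂ ≠ 0) (hhg : ∀ y, h (g y) = c₂ • y) (hkill : ∀ x, h x = 0 → c₁ • x = 0) :
    Module.Free (Localization.Away (c₁ * c₂)) (LocalizedModule (Submonoid.powers (c₁ * c₂)) M) ∧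
      Module.finrank (Localization.Away (c₁ * c₂))
        (LocalizedModule (Submonoid.powers (c₁ * c₂)) M) = n := by
  classical
  set f := c₁ * c₂ with hf
  have hf0 : f ≠ 0 := mul_ne_zero hc₁ hc₂
  let S := Submonoid.powers f
  let A := Localization.Away f
  have hfS : f ∈ S := Submonoid.mem_powers f
  let j : (Fin n → R) →ₗ[R] (Fin n → A) :=
    LinearMap.pi (fun i => (Algebra.linearMap R A) ∘ₗ (LinearMap.proj i))
  have hjloc : IsLocalizedModule S j := IsLocalizedModule.pi S (fun _ => Algebra.linearMap R A)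
  have hloc : IsLocalizedModule S (j ∘ₗ h) := by
    refine ⟨fun s => IsLocalizedModule.map_units j s, ?_, ?_⟩
    · intro y
      obtain ⟨⟨z, s⟩, hzs⟩ := IsLocalizedModule.surj S j y
      refine ⟨(c₁ • g z, ⟨f, hfS⟩ * s), ?_⟩
      simp only at hzs ⊢
      rw [LinearMap.comp_apply, map_smul, hhg, ← mul_smul, ← hf, map_smul, ← hzs, mul_smul]
      rfl
    · intro x₁ x₂ hx
      simp only [LinearMap.comp_apply] at hx
      obtain ⟨c, hc⟩ := IsLocalizedModule.exists_of_eq (S := S) (f := j) hx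
      refine ⟨⟨f, hfS⟩ * c, ?_⟩
      have h1 : h (c • x₁ - c • x₂) = 0 := by
        rw [map_sub, sub_eq_zero]
        simpa using hc
      have h2 := hkill _ h1
      have h3 : f • (c • x₁ - c • x₂) = 0 := by
        rw [hf, mul_comm, mul_smul, h2, smul_zero]
      rw [smul_sub, sub_eq_zero] at h3
      rw [mul_smul, mul_smul]
      exact h3
  let e₀ : LocalizedModule S M ≃ₗ[R] (Fin n → A) := IsLocalizedModule.iso S (j ∘ₗ h)
  let e : LocalizedModule S M ≃ₗ[A] (Fin n → A) := e₀.extendScalarsOfIsLocalization S A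
  have hdom : IsDomain A := IsLocalization.Away.isDomain (S := A) hf0
  refine ⟨Module.Free.of_equiv e.symm, ?_⟩
  rw [LinearEquiv.finrank_eq e, Module.finrank_fin_fun]

/-- Let `R` be a domain and `M` a finite `R`-module, of (finite) rank `r`. Then: some linear map `M →
R^r` has torsion kernel and torsion cokernel; some nonzero `f ∈ R` makes `M_f` free of rank `r` over
`R_f`; and some injective linear map `R^r → M` has torsion cokernel. -/
theorem result (R : Type u) [CommRing R] [IsDomain R] (M : Type u) [AddCommGroup M]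
    [Module R M] [Module.Finite R M] :
    (∃ h : M →ₗ[R] (Fin (Module.finrank R M) → R),
      (∀ x : M, h x = 0 → ∃ c : R, c ≠ 0 ∧ c • x = 0) ∧
      (∀ y : Fin (Module.finrank R M) → R, ∃ c : R, c ≠ 0 ∧ c • y ∈ LinearMap.range h)) ∧
    (∃ f : R, f ≠ 0 ∧ Module.Free (Localization.Away f) (LocalizedModule (Submonoid.powers f) M) ∧
      Module.finrank (Localization.Away f) (LocalizedModule (Submonoid.powers f) M) = Module.finrank R M) ∧
    (∃ g : (Fin (Module.finrank R M) → R) →ₗ[R] M, Function.Injective g ∧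
      ∀ x : M, ∃ c : R, c ≠ 0 ∧ c • x ∈ LinearMap.range g) := by
  obtain ⟨h, g, c₁, c₂, hc₁, hc₂, hhg, hkill, hgh, hginj⟩ := Groth.Agent.H34.exists_quasi_iso R M
  refine ⟨⟨h, ?_, ?_⟩, ⟨c₁ * c₂, mul_ne_zero hc₁ hc₂, ?_⟩, ⟨g, hginj, ?_⟩⟩
  · intro x hx
    exact ⟨c₁, hc₁, hkill x hx⟩
  · intro y
    exact ⟨c₂, hc₂, g y, hhg y⟩
  · exact free_localization_away h g c₁ c₂ hc₁ hc₂ hhg hkill
  · intro x
    refine ⟨c₁ * c₂, mul_ne_zero hc₁ hc₂, c₁ • h x, ?_⟩
    rw [map_smul, hgh]

end Groth.Agent.S6913
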