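import Groth.Statements.S6917
import Groth.Agent.H76.MilnorSpec
import Mathlib.Topology.Category.TopCat.Basic
import Mathlib.CategoryTheory.Limits.Shapes.Pullback.IsPullback.Defs

set_option autoImplicit false
universe u
open CategoryTheory
open EtAlg

namespace Groth.Agent.S6917

/-- Let `B' = B ×_A A'` be a fibre square of rings with `A' → A` surjective. Then `Spec(B') = Spec(B)
⨿_{Spec(A)} Spec(A')`: the square of prime spectra is a pushout of topological spaces. -/
theorem result (B' B A' A : Type u) [CommRing B'] [CommRing B] [CommRing A'] [CommRing A]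
    [Algebra B' B] [Algebra B' A'] [Algebra B A] [Algebra A' A] [Algebra B' A] [IsScalarTower B' B A] [IsScalarTower B' A' A]
    (hsq : EtMil.IsFibreSquare B' B A' A) :
    IsPushout (TopCat.ofHom (ContinuousMap.mk (PrimeSpectrum.comap (algebraMap B A)) (PrimeSpectrum.continuous_comap _))) (TopCat.ofHom (ContinuousMap.mk (PrimeSpectrum.comap (algebraMap A' A)) (PrimeSpectrum.continuous_comap _)))
      (TopCat.ofHom (ContinuousMap.mk (PrimeSpectrum.comap (algebraMap B' B)) (PrimeSpectrum.continuous_comap _)))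
      (TopCat.ofHom (ContinuousMap.mk (PrimeSpectrum.comap (algebraMap B' A')) (PrimeSpectrum.continuous_comap _))) := by
  classical
  have hw : (TopCat.ofHom (ContinuousMap.mk (PrimeSpectrum.comap (algebraMap B A)) (PrimeSpectrum.continuous_comap _))) ≫
      (TopCat.ofHom (ContinuousMap.mk (PrimeSpectrum.comap (algebraMap B' B)) (PrimeSpectrum.continuous_comap _))) =
      (TopCat.ofHom (ContinuousMap.mk (PrimeSpectrum.comap (algebraMap A' A)) (PrimeSpectrum.continuous_comap _))) ≫
      (TopCat.ofHom (ContinuousMap.mk (PrimeSpectrum.comap (algebraMap B' A')) (PrimeSpectrum.continuous_comap _))) := by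
    apply TopCat.hom_ext
    apply ContinuousMap.ext
    intro x₁
    apply PrimeSpectrum.ext
    ext b
    show algebraMap B A (algebraMap B' B b) ∈ x₁.asIdeal ↔
      algebraMap A' A (algebraMap B' A' b) ∈ x₁.asIdeal
    rw [Groth.Agent.H76.MilnorSpec.comm (B := B) (A' := A')]
  -- the key existence statement defining the descent map
  have hex : ∀ (s : Limits.PushoutCocone
      (TopCat.ofHom (ContinuousMap.mk (PrimeSpectrum.comap (algebraMap B A)) (PrimeSpectrum.continuous_comap _)))
      (TopCat.ofHom (ContinuousMap.mk (PrimeSpectrum.comap (algebraMap A' A)) (PrimeSpectrum.continuous_comap _))))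
      (z : PrimeSpectrum B'), ∃ w : s.pt,
        (∀ x₂ : PrimeSpectrum B, PrimeSpectrum.comap (algebraMap B' B) x₂ = z → s.inl.hom x₂ = w) ∧
        (∀ x₃ : PrimeSpectrum A', PrimeSpectrum.comap (algebraMap B' A') x₃ = z → s.inr.hom x₃ = w) := by
    intro s z
    have hcond : ∀ (x₂ : PrimeSpectrum B) (x₃ : PrimeSpectrum A'),
        PrimeSpectrum.comap (algebraMap B' B) x₂ = PrimeSpectrum.comap (algebraMap B' A') x₃ →
        s.inl.hom x₂ = s.inr.hom x₃ := by
      intro x₂ x₃ h
      obtain ⟨x₁, rfl, rfl⟩ := Groth.Agent.H76.MilnorSpec.exists_of_comap_eq hsq x₂ x₃ h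
      exact ConcreteCategory.congr_hom s.condition x₁
    rcases Groth.Agent.H76.MilnorSpec.exists_preimage hsq z with ⟨x₂, rfl⟩ | ⟨x₃, f, hf, hfz, rfl⟩
    · refine ⟨s.inl.hom x₂, ?_, ?_⟩
      · intro x₂' h
        rw [PrimeSpectrum.comap_injective_of_surjective _
          (Groth.Agent.H76.MilnorSpec.p_surjective hsq) h]
      · intro x₃ h
        exact (hcond x₂ x₃ h.symm).symm
    · refine ⟨s.inr.hom x₃, ?_, ?_⟩
      · intro x₂ h
        exact hcond x₂ x₃ h
      · intro x₃' h
        rw [Groth.Agent.H76.MilnorSpec.comap_q_injOn hsq x₃ x₃' f hf hfz h.symm]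
  choose φ hφ1 hφ2 using hex
  have hφcont : ∀ s, Continuous (φ s) := by
    intro s
    rw [continuous_iff_isClosed]
    intro C hC
    apply Groth.Agent.H76.MilnorSpec.isClosed_of_preimages hsq
    · have : PrimeSpectrum.comap (algebraMap B' B) ⁻¹' (φ s ⁻¹' C) = s.inl.hom ⁻¹' C := by
        ext x₂
        simp only [Set.mem_preimage]
        rw [hφ1 s _ x₂ rfl]
      rw [this]
      exact hC.preimage s.inl.hom.continuous
    · have : PrimeSpectrum.comap (algebraMap B' A') ⁻¹' (φ s ⁻¹' C) = s.inr.hom ⁻¹' C := by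
        ext x₃
        simp only [Set.mem_preimage]
        rw [hφ2 s _ x₃ rfl]
      rw [this]
      exact hC.preimage s.inr.hom.continuous
  refine ⟨⟨hw⟩, ⟨Limits.PushoutCocone.IsColimit.mk _
    (fun s => TopCat.ofHom ⟨φ s, hφcont s⟩) ?_ ?_ ?_⟩⟩
  · intro s
    apply TopCat.hom_ext
    apply ContinuousMap.ext
    intro x₂
    exact (hφ1 s _ x₂ rfl).symm
  · intro s
    apply TopCat.hom_ext
    apply ContinuousMap.ext
    intro x₃
    exact (hφ2 s _ x₃ rfl).symm
  · intro s m h1 h2
    apply TopCat.hom_ext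
    apply ContinuousMap.ext
    intro z
    rcases Groth.Agent.H76.MilnorSpec.exists_preimage hsq z with ⟨x₂, rfl⟩ | ⟨x₃, f, hf, hfz, rfl⟩
    · have := ConcreteCategory.congr_hom h1 x₂
      exact this.trans (hφ1 s _ x₂ rfl)
    · have := ConcreteCategory.congr_hom h2 x₃
      exact this.trans (hφ2 s _ x₃ rfl)

end Groth.Agent.S6917
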