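import Groth.Statements.S6919
import Groth.Agent.Lib.Helper12.FlatAtFlat
import Groth.Agent.Lib.Helper12.PrimeOverPair

set_option autoImplicit false
universe u
open FlatMor

namespace Groth.Agent.S6919

/-- Let `R → S` be a ring map, `J ⊆ S` an ideal, `M` an `S`-module and `I ⊆ R` an ideal; let `R → R'` be
a ring map and `I' ⊆ R'` an ideal containing `IR'`, and put `S' = S ⊗_R R'`, `M' = M ⊗_R R'`. Assume
that every prime of `R` containing `I` is the contraction of a prime of `R'` containing `I'`, and
that `R'_{𝔭'}` is flat over `R` for every prime `𝔭' ⊇ I'`. If `M'_{𝔮'}` is flat over `R'` for every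
prime `𝔮' ⊇ I'S' + JS'` of `S'`, then `M_𝔮` is flat over `R` for every prime `𝔮 ⊇ IS + J` of `S`.
(The published statement descends from a pair `(R'', I'')` to an arbitrary pair `(R', I')` over `R`;
this row takes `(R', I') = (R, I)`.) -/
theorem result {R S R' S' : Type u} [CommRing R] [CommRing S] [CommRing R'] [CommRing S']
    [Algebra R S] [Algebra R R'] [Algebra S S'] [Algebra R' S'] [Algebra R S'] [IsScalarTower R S S']
    [IsScalarTower R R' S'] [Algebra.IsPushout R S R' S']
    (I : Ideal R) (I' : Ideal R') (hII' : I.map (algebraMap R R') ≤ I')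
    {M M' : Type u} [AddCommGroup M] [Module S M] [Module R M] [IsScalarTower R S M]
    [AddCommGroup M'] [Module S' M'] [Module R' M'] [IsScalarTower R' S' M'] [Module S M'] [IsScalarTower S S' M']
    (f : M →ₗ[S] M') (hf : IsBaseChange S' f) (J : Ideal S)
    (hsurj : ∀ (p : Ideal R) [p.IsPrime], I ≤ p → ∃ (p' : Ideal R') (_ : p'.IsPrime), I' ≤ p' ∧ p'.comap (algebraMap R R') = p)
    (hflat : ∀ (p' : Ideal R') [p'.IsPrime], I' ≤ p' → Module.Flat R (Localization.AtPrime p'))
    (h : (∀ (q : Ideal S') [q.IsPrime], I'.map (algebraMap R' S') ⊔ J.map (algebraMap S S') ≤ q → FlatCA.FlatAt R' q M')) :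
    (∀ (q : Ideal S) [q.IsPrime], I.map (algebraMap R S) ⊔ J ≤ q → FlatCA.FlatAt R q M) := by
  intro q _ hq
  classical
  -- `R`-module structure on `M'`
  letI : Module R M' := Module.compHom M' (algebraMap R S')
  haveI : IsScalarTower R S' M' := ⟨fun r s m => by
    change (r • s) • m = algebraMap R S' r • (s • m)
    rw [Algebra.smul_def, mul_smul]⟩
  haveI : IsScalarTower R S M' := IsScalarTower.of_algebraMap_smul (fun r m => by
    change algebraMap R S r • m = algebraMap R S' r • m
    rw [IsScalarTower.algebraMap_apply R S S', algebraMap_smul S' (algebraMap R S r) m])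
  haveI : IsScalarTower R R' M' := IsScalarTower.of_algebraMap_smul (fun r m => by
    change algebraMap R R' r • m = algebraMap R S' r • m
    rw [IsScalarTower.algebraMap_apply R R' S', algebraMap_smul S' (algebraMap R R' r) m])
  -- the primes
  haveI hpprime : (q.comap (algebraMap R S)).IsPrime := Ideal.comap_isPrime _ _
  have hIp : I ≤ q.comap (algebraMap R S) := by
    rw [← Ideal.map_le_iff_le_comap]; exact le_sup_left.trans hq
  obtain ⟨p', hp'prime, hI'p', hp'p⟩ := hsurj (q.comap (algebraMap R S)) hIp
  haveI := hp'prime
  haveI hflatR'' : Module.Flat R (Localization.AtPrime p') := hflat p' hI'p'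
  -- the localized pushout
  haveI : IsScalarTower R (Localization.AtPrime p')
      (Localization (Algebra.algebraMapSubmonoid S' p'.primeCompl)) :=
    IsScalarTower.of_algebraMap_eq (fun r => by
      rw [IsScalarTower.algebraMap_apply R R' (Localization.AtPrime p'),
        ← IsScalarTower.algebraMap_apply R' (Localization.AtPrime p')
          (Localization (Algebra.algebraMapSubmonoid S' p'.primeCompl)),
        IsScalarTower.algebraMap_apply R' S'
          (Localization (Algebra.algebraMapSubmonoid S' p'.primeCompl)),
        ← IsScalarTower.algebraMap_apply R R' S',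
        ← IsScalarTower.algebraMap_apply R S'
          (Localization (Algebra.algebraMapSubmonoid S' p'.primeCompl))])
  haveI po1 : Algebra.IsPushout R' S' (Localization.AtPrime p')
      (Localization (Algebra.algebraMapSubmonoid S' p'.primeCompl)) :=
    Algebra.isPushout_of_isLocalization p'.primeCompl (Localization.AtPrime p') S'
      (Localization (Algebra.algebraMapSubmonoid S' p'.primeCompl))
  haveI po1' : Algebra.IsPushout R' (Localization.AtPrime p') S'
      (Localization (Algebra.algebraMapSubmonoid S' p'.primeCompl)) := po1.symm
  haveI po0 : Algebra.IsPushout R R' S S' := (inferInstance : Algebra.IsPushout R S R' S').symm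
  have po2 : Algebra.IsPushout R (Localization.AtPrime p') S
      (Localization (Algebra.algebraMapSubmonoid S' p'.primeCompl)) :=
    (Algebra.IsPushout.comp_iff (R := R) (S := R') (T := Localization.AtPrime p') (R' := S)
      (S' := S') (T' := Localization (Algebra.algebraMapSubmonoid S' p'.primeCompl))).mpr po1'
  haveI po3 : Algebra.IsPushout R S (Localization.AtPrime p')
      (Localization (Algebra.algebraMapSubmonoid S' p'.primeCompl)) := po2.symm
  haveI : Module.Flat S (Localization (Algebra.algebraMapSubmonoid S' p'.primeCompl)) :=
    Module.Flat.isBaseChange (R := R) (S := S) (M := Localization.AtPrime p')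
      (Localization (Algebra.algebraMapSubmonoid S' p'.primeCompl)) po3.out
  -- the localized module
  have hg : IsBaseChange (Localization (Algebra.algebraMapSubmonoid S' p'.primeCompl))
      (((LocalizedModule.mkLinearMap (Algebra.algebraMapSubmonoid S' p'.primeCompl)
        M').restrictScalars S).comp f) :=
    hf.comp (IsLocalizedModule.isBaseChange (Algebra.algebraMapSubmonoid S' p'.primeCompl)
      (Localization (Algebra.algebraMapSubmonoid S' p'.primeCompl))
      (LocalizedModule.mkLinearMap (Algebra.algebraMapSubmonoid S' p'.primeCompl) M'))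
  -- the prime `Q`
  have hmp' : (IsLocalRing.maximalIdeal (Localization.AtPrime p')).comap
      (algebraMap R' (Localization.AtPrime p')) = p' := Localization.AtPrime.under_maximalIdeal
  haveI : q.LiesOver (q.comap (algebraMap R S)) := ⟨rfl⟩
  haveI : (IsLocalRing.maximalIdeal (Localization.AtPrime p')).LiesOver
      (q.comap (algebraMap R S)) := ⟨by
    rw [Ideal.under_def, IsScalarTower.algebraMap_eq R R' (Localization.AtPrime p'),
      ← Ideal.comap_comap, hmp', hp'p]⟩
  obtain ⟨Q, hQp, hQq, hQm⟩ :=
    Groth.Agent.Lib.Helper12.PrimeOverPair.exists_prime_over_pair (R := R) (S := S)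
      (R'' := Localization.AtPrime p')
      (S'' := Localization (Algebra.algebraMapSubmonoid S' p'.primeCompl))
      (q.comap (algebraMap R S)) q (IsLocalRing.maximalIdeal (Localization.AtPrime p'))
  haveI := hQp
  haveI : Q.LiesOver q := ⟨hQq.symm⟩
  change Module.Flat R (LocalizedModule q.primeCompl M)
  apply (Groth.Agent.Lib.Helper12.FlatAtFlat.flatAt_iff_of_flat (A' := R) (B' := S)
    (C' := Localization (Algebra.algebraMapSubmonoid S' p'.primeCompl)) hg Q q).mpr
  -- flatness of the localization at `Q`
  have hQ'le : I'.map (algebraMap R' S') ⊔ J.map (algebraMap S S') ≤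
      Q.comap (algebraMap S' (Localization (Algebra.algebraMapSubmonoid S' p'.primeCompl))) := by
    apply sup_le
    · rw [Ideal.map_le_iff_le_comap, Ideal.comap_comap,
        ← IsScalarTower.algebraMap_eq R' S'
          (Localization (Algebra.algebraMapSubmonoid S' p'.primeCompl)),
        IsScalarTower.algebraMap_eq R' (Localization.AtPrime p')
          (Localization (Algebra.algebraMapSubmonoid S' p'.primeCompl)),
        ← Ideal.comap_comap, hQm, hmp']
      exact hI'p'
    · rw [Ideal.map_le_iff_le_comap, Ideal.comap_comap,
        ← IsScalarTower.algebraMap_eq S S'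
          (Localization (Algebra.algebraMapSubmonoid S' p'.primeCompl)), hQq]
      exact le_sup_right.trans hq
  have hfl' : Module.Flat R' (LocalizedModule
      (Q.comap (algebraMap S'
        (Localization (Algebra.algebraMapSubmonoid S' p'.primeCompl)))).primeCompl M') :=
    h _ hQ'le
  haveI := Groth.Agent.Lib.Helper12.FlatAtFinite.isLocalizedModule_comp M'
    (Algebra.algebraMapSubmonoid S' p'.primeCompl) Q
  let e := IsLocalizedModule.iso
    (Q.comap (algebraMap S'
      (Localization (Algebra.algebraMapSubmonoid S' p'.primeCompl)))).primeCompl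
    (((LocalizedModule.mkLinearMap Q.primeCompl
      (LocalizedModule (Algebra.algebraMapSubmonoid S' p'.primeCompl) M')).restrictScalars S').comp
        (LocalizedModule.mkLinearMap (Algebra.algebraMapSubmonoid S' p'.primeCompl) M'))
  haveI hflX : Module.Flat R' (LocalizedModule Q.primeCompl
      (LocalizedModule (Algebra.algebraMapSubmonoid S' p'.primeCompl) M')) :=
    Module.Flat.of_linearEquiv (e.restrictScalars R').symm
  -- module structure over the local ring `R'_{p'}`
  letI : Module (Localization.AtPrime p') (LocalizedModule Q.primeCompl
      (LocalizedModule (Algebra.algebraMapSubmonoid S' p'.primeCompl) M')) :=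
    Module.compHom _ (algebraMap (Localization.AtPrime p') (Localization.AtPrime Q))
  haveI : IsScalarTower R' (Localization.AtPrime p') (LocalizedModule Q.primeCompl
      (LocalizedModule (Algebra.algebraMapSubmonoid S' p'.primeCompl) M')) :=
    IsScalarTower.of_algebraMap_smul (fun r x => by
      change algebraMap (Localization.AtPrime p') (Localization.AtPrime Q)
        (algebraMap R' (Localization.AtPrime p') r) • x = r • x
      rw [← IsScalarTower.algebraMap_apply R' (Localization.AtPrime p')
        (Localization.AtPrime Q), algebraMap_smul])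
  haveI : IsScalarTower R (Localization.AtPrime p') (LocalizedModule Q.primeCompl
      (LocalizedModule (Algebra.algebraMapSubmonoid S' p'.primeCompl) M')) :=
    IsScalarTower.of_algebraMap_smul (fun r x => by
      change algebraMap (Localization.AtPrime p') (Localization.AtPrime Q)
        (algebraMap R (Localization.AtPrime p') r) • x = r • x
      rw [← IsScalarTower.algebraMap_apply R (Localization.AtPrime p')
        (Localization.AtPrime Q), algebraMap_smul])
  haveI : Module.Flat (Localization.AtPrime p') (LocalizedModule Q.primeCompl
      (LocalizedModule (Algebra.algebraMapSubmonoid S' p'.primeCompl) M')) :=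
    (Module.flat_iff_of_isLocalization (Localization.AtPrime p') p'.primeCompl _).mpr hflX
  exact Module.Flat.trans R (Localization.AtPrime p') _

end Groth.Agent.S6919
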