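import Groth.Statements.S6920
import Mathlib

set_option autoImplicit false
universe u
open CategoryTheory CategoryTheory.Limits MonoidalCategory
open DRing

namespace Groth.Agent.S6920

open TensorProduct

/-- Over a ring epimorphism `R → S`, every `R`-linear map between `S`-modules is `S`-linear. -/
theorem map_smul_of_isEpi {R S : Type u} [CommRing R] [CommRing S] [Algebra R S] [Algebra.IsEpi R S]
    {M N : Type u} [AddCommGroup M] [AddCommGroup N] [Module S M] [Module S N] [Module R M] [Module R N]
    [IsScalarTower R S M] [IsScalarTower R S N] (g : M →ₗ[R] N) (s : S) (m : M) :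
    g (s • m) = s • g m := by
  -- the `R`-bilinear map `(a, b) ↦ a • g (b • m)`
  let B : S →ₗ[R] S →ₗ[R] N :=
    LinearMap.mk₂ R (fun a b => a • g (b • m))
      (fun a a' b => by simp [add_smul])
      (fun r a b => by simp)
      (fun a b b' => by simp [add_smul, smul_add])
      (fun r a b => by
        rw [smul_assoc r b m, map_smul, smul_comm])
  have h := (Algebra.isEpi_iff_forall_one_tmul_eq R S).mp inferInstance s
  have h2 := congrArg (TensorProduct.lift B) h
  simpa [B] using h2

/-- Restriction of scalars along a ring epimorphism is full. -/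
theorem exists_lift {R S : Type u} [CommRing R] [CommRing S] (φ : R →+* S)
    (hφ : Epi (CommRingCat.ofHom φ)) (M N : ModuleCat.{u} S)
    (g : (ModuleCat.restrictScalars φ).obj M ⟶ (ModuleCat.restrictScalars φ).obj N) :
    ∃ g' : M ⟶ N, (ModuleCat.restrictScalars φ).map g' = g := by
  let _ : Algebra R S := φ.toAlgebra
  have : Algebra.IsEpi R S := CommRingCat.epi_iff_epi.mp hφ
  let _ : Module R M := Module.compHom M φ
  let _ : Module R N := Module.compHom N φ
  have : IsScalarTower R S M := ⟨fun r s m => by
    change (φ r * s) • m = φ r • (s • m); rw [mul_smul]⟩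
  have : IsScalarTower R S N := ⟨fun r s m => by
    change (φ r * s) • m = φ r • (s • m); rw [mul_smul]⟩
  let g0 : M →ₗ[R] N := g.hom
  refine ⟨ModuleCat.ofHom { toFun := g0, map_add' := g0.map_add, map_smul' := fun s m => ?_ }, ?_⟩
  · exact map_smul_of_isEpi g0 s m
  · ext m
    rfl

/-- For an epimorphism of rings `φ : R → S` and a complex `I•` of `S`-modules, if the underlying complex
of `R`-modules of `I•` is K-injective, then `I•` itself is K-injective over `S`. -/
theorem result (R S : Type u) [CommRing R] [CommRing S] (φ : R →+* S)
    (hφ : Epi (CommRingCat.ofHom φ)) (I : DRing.Cx S)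
    [CochainComplex.IsKInjective ((DRing.restrictCx φ).obj I)] : CochainComplex.IsKInjective I := by
  constructor
  intro K f hK
  have hKR : ((DRing.restrictCx φ).obj K).Acyclic := by
    intro i
    have := hK i
    rw [HomologicalComplex.exactAt_iff] at this ⊢
    exact this.map (ModuleCat.restrictScalars φ)
  obtain ⟨H⟩ := CochainComplex.IsKInjective.nonempty_homotopy_zero ((DRing.restrictCx φ).map f) hKR
  choose h hh using fun i j => exists_lift φ hφ (K.X i) (I.X j) (H.hom i j)
  have hfaith : (ModuleCat.restrictScalars φ).Faithful := inferInstance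
  refine ⟨{ hom := h, zero := fun i j hij => ?_, comm := fun i => ?_ }⟩
  · apply (ModuleCat.restrictScalars φ).map_injective
    rw [hh, H.zero i j hij, Functor.map_zero]
    rfl
  · apply (ModuleCat.restrictScalars φ).map_injective
    have hc := H.comm i
    have h1 : (ComplexShape.up ℤ).Rel i (i + 1) := rfl
    have h2 : (ComplexShape.up ℤ).Rel (i - 1) i := by simp
    rw [dNext_eq _ h1, prevD_eq _ h2] at hc ⊢
    simp only [HomologicalComplex.zero_f, add_zero] at hc ⊢
    rw [Functor.map_add, Functor.map_comp, Functor.map_comp, hh, hh]
    exact hc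

end Groth.Agent.S6920
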