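import Groth.Statements.S6922
import Groth.Agent.H76.RelMilnor

set_option autoImplicit false
universe u
open TensorProduct
open EtAlg

namespace Groth.Agent.S6922

/-- In the relative situation (`B' = B ×_A A'` with `A' → A` surjective, `B' → D'`, `D = D' ⊗_{B'} B`,
`C' = D' ⊗_{B'} A'`, `C = D' ⊗_{B'} A`), let `N` be a flat `B`-module that is finitely presented as
a `D`-module and `M'` a flat `A'`-module that is finitely presented as a `C'`-module, with a
`C`-isomorphism `φ : N ⊗_D C ≅ M' ⊗_{C'} C`, and suppose `B' → D'` is the composite of a flat ring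
map `B' → D''` and a ring map `D'' → D'` of finite presentation. Then `N ×_φ M'` is finitely
presented over `D'`. -/
theorem result (B' B A' A : Type u) [CommRing B'] [CommRing B] [CommRing A'] [CommRing A]
    [Algebra B' B] [Algebra B' A'] [Algebra B A] [Algebra A' A] [Algebra B' A] [IsScalarTower B' B A] [IsScalarTower B' A' A]
    (hsq : EtMil.IsFibreSquare B' B A' A)
    (D' D C' C : Type u) [CommRing D'] [CommRing D] [CommRing C'] [CommRing C]
    [Algebra B' D'] [Algebra B D] [Algebra A' C'] [Algebra A C]
    [Algebra D' D] [Algebra B' D] [IsScalarTower B' B D] [IsScalarTower B' D' D] [Algebra.IsPushout B' B D' D]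
    [Algebra D' C'] [Algebra B' C'] [IsScalarTower B' A' C'] [IsScalarTower B' D' C'] [Algebra.IsPushout B' A' D' C']
    [Algebra D' C] [Algebra B' C] [IsScalarTower B' A C] [IsScalarTower B' D' C] [Algebra.IsPushout B' A D' C]
    [Algebra D C] [IsScalarTower D' D C] [Algebra B C] [IsScalarTower B A C] [IsScalarTower B D C]
    [Algebra C' C] [IsScalarTower D' C' C] [Algebra A' C] [IsScalarTower A' A C] [IsScalarTower A' C' C]
    {N M' : Type u} [AddCommGroup N] [Module D N] [Module D' N] [IsScalarTower D' D N]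
    [AddCommGroup M'] [Module C' M'] [Module D' M'] [IsScalarTower D' C' M'] (φ : C ⊗[D] N ≃ₗ[C] C ⊗[C'] M')
    [Module B N] [IsScalarTower B D N] [Module A' M'] [IsScalarTower A' C' M']
    [Module.FinitePresentation D N] [Module.Flat B N] [Module.FinitePresentation C' M'] [Module.Flat A' M']
    (D'' : Type u) [CommRing D''] [Algebra B' D''] [Algebra D'' D'] [IsScalarTower B' D'' D'] [Module.Flat B' D'']
    [Algebra.FinitePresentation D'' D'] :
    Module.FinitePresentation D' ↥(EtMil.glue D' φ) := by
  classical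
  -- `B'`-module structures on `N` and `M'`
  letI : Module B' N := Module.compHom N (algebraMap B' D')
  haveI : IsScalarTower B' D' N := IsScalarTower.of_algebraMap_smul fun _ _ => rfl
  haveI : IsScalarTower B' B N := IsScalarTower.of_algebraMap_smul fun b' n => by
    change algebraMap B' B b' • n = algebraMap B' D' b' • n
    rw [← algebraMap_smul D (algebraMap B' B b') n, ← algebraMap_smul D (algebraMap B' D' b') n,
      ← IsScalarTower.algebraMap_apply, ← IsScalarTower.algebraMap_apply]
  letI : Module B' M' := Module.compHom M' (algebraMap B' D')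
  haveI : IsScalarTower B' D' M' := IsScalarTower.of_algebraMap_smul fun _ _ => rfl
  haveI : IsScalarTower B' A' M' := IsScalarTower.of_algebraMap_smul fun b' m => by
    change algebraMap B' A' b' • m = algebraMap B' D' b' • m
    rw [← algebraMap_smul C' (algebraMap B' A' b') m, ← algebraMap_smul C' (algebraMap B' D' b') m,
      ← IsScalarTower.algebraMap_apply, ← IsScalarTower.algebraMap_apply]
  -- missing towers of rings
  haveI : IsScalarTower B' D C := IsScalarTower.of_algebraMap_eq fun x => by
    rw [IsScalarTower.algebraMap_apply B' D' C, IsScalarTower.algebraMap_apply D' D C,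
      ← IsScalarTower.algebraMap_apply B' D' D]
  haveI : IsScalarTower B' C' C := IsScalarTower.of_algebraMap_eq fun x => by
    rw [IsScalarTower.algebraMap_apply B' D' C, IsScalarTower.algebraMap_apply D' C' C,
      ← IsScalarTower.algebraMap_apply B' D' C']
  haveI : Algebra.IsPushout B A D C :=
    (Algebra.IsPushout.comp_iff B' B D' D (T := A) (T' := C)).mp inferInstance
  haveI : Algebra.IsPushout A' A C' C :=
    (Algebra.IsPushout.comp_iff B' A' D' C' (T := A) (T' := C)).mp inferInstance
  -- the absolute gluing datum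
  let eN : C ⊗[D] N ≃ₗ[A] A ⊗[B] N := Algebra.IsPushout.cancelBaseChange B A D C N
  let eM : C ⊗[C'] M' ≃ₗ[A] A ⊗[A'] M' := Algebra.IsPushout.cancelBaseChange A' A C' C M'
  let φ₀ : A ⊗[B] N ≃ₗ[A] A ⊗[A'] M' := eN.symm ≪≫ₗ (φ.restrictScalars A) ≪≫ₗ eM
  have hmem : ∀ x : N × M', x ∈ EtMil.glue B' φ₀ ↔ x ∈ EtMil.glue D' φ := by
    intro x
    change φ₀ ((1 : A) ⊗ₜ[B] x.1) = (1 : A) ⊗ₜ[A'] x.2 ↔
      φ ((1 : C) ⊗ₜ[D] x.1) = (1 : C) ⊗ₜ[C'] x.2
    have h1 : φ₀ ((1 : A) ⊗ₜ[B] x.1) = eM (φ ((1 : C) ⊗ₜ[D] x.1)) := by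
      simp only [φ₀, eN, LinearEquiv.trans_apply, Algebra.IsPushout.cancelBaseChange_symm_tmul,
        map_one, LinearEquiv.restrictScalars_apply]
    rw [h1, ← LinearEquiv.eq_symm_apply, Algebra.IsPushout.cancelBaseChange_symm_tmul, map_one]
  let eP : ↥(EtMil.glue D' φ) ≃ₗ[B'] ↥(EtMil.glue B' φ₀) :=
    { toFun := fun x => ⟨x.1, (hmem _).mpr x.2⟩
      invFun := fun x => ⟨x.1, (hmem _).mp x.2⟩
      map_add' := fun _ _ => rfl
      map_smul' := fun _ _ => rfl
      left_inv := fun _ => rfl
      right_inv := fun _ => rfl }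
  -- flatness over `B'`
  haveI : Module.Flat B (B ⊗[B'] ↥(EtMil.glue B' φ₀)) :=
    Module.Flat.of_linearEquiv (Groth.Agent.H76.Glue.equivFst φ₀ hsq)
  haveI : Module.Flat A' (A' ⊗[B'] ↥(EtMil.glue B' φ₀)) :=
    Module.Flat.of_linearEquiv (Groth.Agent.H76.Glue.equivSnd φ₀ hsq)
  haveI : Module.Flat B' ↥(EtMil.glue B' φ₀) := Groth.Agent.S14952.result B' B A' A hsq _
  haveI : Module.Flat B' ↥(EtMil.glue D' φ) := Module.Flat.of_linearEquiv eP
  -- the base changes
  have hψ : Function.Bijective (LinearMap.liftBaseChange D (EtMil.glueFst D' φ)) := by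
    let c := Algebra.IsPushout.cancelBaseChange B' B D' D ↥(EtMil.glue D' φ)
    have key : ∀ z, LinearMap.liftBaseChange D (EtMil.glueFst D' φ) (c.symm z) =
        Groth.Agent.H76.Glue.equivFst φ₀ hsq (eP.lTensor B z) := by
      intro z
      induction z with
      | zero => simp
      | tmul b p =>
        rw [Algebra.IsPushout.cancelBaseChange_symm_tmul, LinearMap.liftBaseChange_tmul,
          LinearEquiv.lTensor_tmul, Groth.Agent.H76.Glue.equivFst_tmul, algebraMap_smul]
        rfl
      | add x y hx hy => rw [map_add, map_add, hx, hy, map_add, map_add]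
    have : ⇑(LinearMap.liftBaseChange D (EtMil.glueFst D' φ)) =
        (Groth.Agent.H76.Glue.equivFst φ₀ hsq) ∘ (eP.lTensor B) ∘ c := by
      funext y
      have := key (c y)
      rw [LinearEquiv.symm_apply_apply] at this
      exact this
    rw [this]
    exact (Groth.Agent.H76.Glue.equivFst φ₀ hsq).bijective.comp
      ((eP.lTensor B).bijective.comp c.bijective)
  have hψ' : Function.Bijective (LinearMap.liftBaseChange C' (EtMil.glueSnd D' φ)) := by
    let c := Algebra.IsPushout.cancelBaseChange B' A' D' C' ↥(EtMil.glue D' φ)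
    have key : ∀ z, LinearMap.liftBaseChange C' (EtMil.glueSnd D' φ) (c.symm z) =
        Groth.Agent.H76.Glue.equivSnd φ₀ hsq (eP.lTensor A' z) := by
      intro z
      induction z with
      | zero => simp
      | tmul a p =>
        rw [Algebra.IsPushout.cancelBaseChange_symm_tmul, LinearMap.liftBaseChange_tmul,
          LinearEquiv.lTensor_tmul, algebraMap_smul]
        rfl
      | add x y hx hy => rw [map_add, map_add, hx, hy, map_add, map_add]
    have : ⇑(LinearMap.liftBaseChange C' (EtMil.glueSnd D' φ)) =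
        (Groth.Agent.H76.Glue.equivSnd φ₀ hsq) ∘ (eP.lTensor A') ∘ c := by
      funext y
      have := key (c y)
      rw [LinearEquiv.symm_apply_apply] at this
      exact this
    rw [this]
    exact (Groth.Agent.H76.Glue.equivSnd φ₀ hsq).bijective.comp
      ((eP.lTensor A').bijective.comp c.bijective)
  haveI : Module.FinitePresentation D (D ⊗[D'] ↥(EtMil.glue D' φ)) :=
    Module.FinitePresentation.of_equiv (LinearEquiv.ofBijective _ hψ).symm
  haveI : Module.FinitePresentation C' (C' ⊗[D'] ↥(EtMil.glue D' φ)) :=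
    Module.FinitePresentation.of_equiv (LinearEquiv.ofBijective _ hψ').symm
  exact Groth.Agent.H76.RelMilnor.finitePresentation_of_baseChange (A := A) (D := D) (C' := C')
    hsq ↥(EtMil.glue D' φ)

end Groth.Agent.S6922
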