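import Groth.Statements.S6929
import Mathlib.RingTheory.Adjoin.Tower
import Mathlib.Data.Fintype.Option

set_option autoImplicit false
universe u
open EtAlg

namespace Groth.Agent.S6929

/-- finite products of finite type algebras are of finite type -/
theorem finiteType_pi (R : Type u) [CommRing R] : ∀ (ι : Type u) [Fintype ι] (A : ι → Type u)
    [∀ i, CommRing (A i)] [∀ i, Algebra R (A i)], (∀ i, Algebra.FiniteType R (A i)) →
    Algebra.FiniteType R (∀ i, A i) := by
  intro ι _
  refine Fintype.induction_empty_option (P := fun (ι : Type u) [Fintype ι] =>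
    ∀ (A : ι → Type u) [∀ i, CommRing (A i)] [∀ i, Algebra R (A i)],
      (∀ i, Algebra.FiniteType R (A i)) → Algebra.FiniteType R (∀ i, A i)) ?_ ?_ ?_ ι
  · intro α β _ e hα A _ _ hA
    let _ : Fintype α := Fintype.ofEquiv β e.symm
    have h1 : Algebra.FiniteType R (∀ a : α, A (e a)) := hα (fun a => A (e a)) (fun a => hA (e a))
    exact Algebra.FiniteType.equiv h1 (AlgEquiv.piCongrLeft R A e)
  · intro A _ _ _
    exact Algebra.FiniteType.of_surjective (Algebra.ofId R (∀ i : PEmpty, A i))
      (fun x => ⟨0, Subsingleton.elim _ _⟩)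
  · intro α _ hα A _ _ hA
    have h1 : Algebra.FiniteType R (∀ a : α, A (some a)) :=
      hα (fun a => A (some a)) (fun a => hA (some a))
    have h2 : Algebra.FiniteType R (A none) := hA none
    have h3 : Algebra.FiniteType R (A none × ∀ a : α, A (some a)) := inferInstance
    let e : (∀ o : Option α, A o) ≃ₐ[R] (A none × ∀ a : α, A (some a)) :=
      AlgEquiv.ofRingEquiv (f := RingEquiv.piOptionEquivProd) (fun r => rfl)
    exact Algebra.FiniteType.equiv h3 e.symm

/-- Let `R` be a Noetherian ring, `ι` a finite index type, and `φ_i : A_i → B_i`, `ψ_i : Q → B_i`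
surjective `R`-algebra maps, where `Q` and all `A_i`, `B_i` are `R`-algebras of finite type. Then
the fibre product ring `P = Q ×_{∏ B_i} ∏ A_i` (pairs `(q, a)` with `ψ_i(q) = φ_i(a_i)` for all `i`)
is an `R`-algebra of finite type. -/
theorem result (R : Type u) [CommRing R] [IsNoetherianRing R] {ι : Type u} [Fintype ι]
    (Q : Type u) [CommRing Q] [Algebra R Q] [Algebra.FiniteType R Q] (A B : ι → Type u) [∀ i, CommRing (A i)]
    [∀ i, CommRing (B i)] [∀ i, Algebra R (A i)] [∀ i, Algebra R (B i)] (hA : ∀ i, Algebra.FiniteType R (A i))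
    (hB : ∀ i, Algebra.FiniteType R (B i)) (φ : ∀ i, A i →ₐ[R] B i) (ψ : ∀ i, Q →ₐ[R] B i)
    (hφ : ∀ i, Function.Surjective (φ i)) (hψ : ∀ i, Function.Surjective (ψ i)) :
    Algebra.FiniteType R ↥(AlgHom.equalizer ((AlgHom.pi ψ).comp (AlgHom.fst R Q (∀ i, A i)))
      ((AlgHom.pi fun i => (φ i).comp (Pi.evalAlgHom R A i)).comp (AlgHom.snd R Q (∀ i, A i)))) := by
  classical
  let C := Q × (∀ i, A i)
  let F : C →ₐ[R] (∀ i, B i) := (AlgHom.pi ψ).comp (AlgHom.fst R Q (∀ i, A i))
  let G : C →ₐ[R] (∀ i, B i) :=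
    (AlgHom.pi fun i => (φ i).comp (Pi.evalAlgHom R A i)).comp (AlgHom.snd R Q (∀ i, A i))
  let P : Subalgebra R C := AlgHom.equalizer F G
  have hmem : ∀ c : C, c ∈ P ↔ ∀ i, ψ i c.1 = φ i (c.2 i) := by
    intro c
    rw [AlgHom.mem_equalizer]
    constructor
    · intro h i
      exact congrFun h i
    · intro h
      funext i
      exact h i
  have hCft : Algebra.FiniteType R C := by
    have : Algebra.FiniteType R (∀ i, A i) := finiteType_pi R ι A hA
    infer_instance
  refine ⟨fg_of_fg_of_fg R P C hCft.out ?_ Subtype.val_injective⟩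
  -- `C` is spanned over `P` by the idempotents
  let eQ : C := (1, 0)
  let eA : ι → C := fun i => (0, Pi.single i 1)
  refine ⟨insert eQ (Finset.univ.image eA), ?_⟩
  rw [eq_top_iff]
  rintro ⟨q, a⟩ -
  -- an element of `P` with first component `q`
  have h1 : ∀ i, ∃ a' : A i, φ i a' = ψ i q := fun i => hφ i _
  choose a' ha' using h1
  let pQ : P := ⟨(q, a'), (hmem _).mpr (fun i => (ha' i).symm)⟩
  -- elements of `P` with prescribed `i`-th component
  have h2 : ∀ i, ∃ qi : Q, ψ i qi = φ i (a i) := fun i => hψ i _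
  choose qi hqi using h2
  have h3 : ∀ i j, ∃ aij : A j, φ j aij = ψ j (qi i) ∧ (j = i → HEq aij (a i)) := by
    intro i j
    by_cases hji : j = i
    · subst hji
      exact ⟨a j, (hqi j).symm, fun _ => HEq.rfl⟩
    · obtain ⟨x, hx⟩ := hφ j (ψ j (qi i))
      exact ⟨x, hx, fun h => absurd h hji⟩
  choose aij haij haij' using h3
  let pA : ι → P := fun i => ⟨(qi i, aij i), (hmem _).mpr (fun j => (haij i j).symm)⟩
  have hsum : ((q, a) : C) = pQ • eQ + ∑ i, pA i • eA i := by
    apply Prod.ext
    · change q = (pQ • eQ).1 + (∑ i, pA i • eA i).1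
      rw [Prod.fst_sum]
      have e1 : (pQ • eQ).1 = q := by
        change q * 1 = q
        rw [mul_one]
      have e2 : ∀ i, (pA i • eA i).1 = 0 := by
        intro i
        change qi i * 0 = 0
        rw [mul_zero]
      rw [e1, Finset.sum_eq_zero (fun i _ => e2 i), add_zero]
    · funext j
      change a j = (pQ • eQ).2 j + (∑ i, pA i • eA i).2 j
      rw [Prod.snd_sum, Finset.sum_apply]
      have e1 : (pQ • eQ).2 j = 0 := by
        change a' j * 0 = 0
        rw [mul_zero]
      have e2 : ∀ i, (pA i • eA i).2 j = if i = j then a j else 0 := by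
        intro i
        change aij i j * (Pi.single i (1 : A i) : ∀ k, A k) j = _
        by_cases hij : i = j
        · subst hij
          rw [Pi.single_eq_same, mul_one, if_pos rfl]
          exact eq_of_heq (haij' i i rfl)
        · rw [Pi.single_eq_of_ne' hij, mul_zero, if_neg hij]
      rw [e1, zero_add, Finset.sum_congr rfl (fun i _ => e2 i), Finset.sum_ite_eq' Finset.univ j]
      simp
  rw [hsum]
  refine Submodule.add_mem _ ?_ (Submodule.sum_mem _ (fun i _ => ?_))
  · exact Submodule.smul_mem _ _ (Submodule.subset_span (by simp))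
  · exact Submodule.smul_mem _ _ (Submodule.subset_span (by simp))

end Groth.Agent.S6929
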