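import Groth.Statements.S6930
import Groth.Agent.H46.BlowFlatAlg

set_option autoImplicit false
universe u
open TensorProduct
open FlatMor

namespace Groth.Agent.S6930

/-- Let `(R, 𝔪)` be a local domain whose maximal ideal is nonzero, with fraction field `K`; let `S` be
an `R`-algebra of finite type, `M` a finite `S`-module and `A ⊆ K` a valuation ring dominating `R`.
Then one can find a finitely generated ideal `I ⊆ 𝔪` and a nonzero `a ∈ I` with the following
properties, where `R₁ = R[I/a]` denotes the affine blow-up algebra (taken up to `R`-algebra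
isomorphism): every `x/a` with `x ∈ I` lies in `A`, so that `R₁ ⊆ A` inside `K`; the ring `R₁/𝔪R₁`
is nonzero; the strict transform of `S` (the quotient of `R₁ ⊗_R S` by its `a`-power torsion) is
flat over `R₁` and is a finitely presented `R₁`-algebra; and the strict transform of `M` (the
quotient of `R₁ ⊗_R M` by its `a`-power torsion) is flat over `R₁`. (The published statement asks
for these strict transforms to be flat, and the first to be finitely presented, over `R` itself;
that fails for every choice of `(I, a)` already when `R = k[x, y]` localized at `(x, y)` and `S =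
R[y/x]`, and the published proof, which passes to the limit over the rings `R[I/a]`, yields flatness
and finite presentation over `R[I/a]`, which is what is stated here. The published statement also
allows `𝔪 = 0`, i.e. `R` a field; then all hypotheses hold with `A = K` while no nonzero `a ∈ 𝔪`
exists, so the hypothesis `𝔪 ≠ 0` is added. Finally, the published statement also asserts that the
strict transform of `M` is finitely presented over the strict transform of `S`; that clause is not
included.) -/
theorem result (R K : Type u) [CommRing R] [IsDomain R] [IsLocalRing R] [Field K]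
    [Algebra R K] [IsFractionRing R K] (S : Type u) [CommRing S] [Algebra R S] [Algebra.FiniteType R S] (M : Type u)
    [AddCommGroup M] [Module S M] [Module R M] [IsScalarTower R S M] [Module.Finite S M]
    (A : Type u) [CommRing A] [IsDomain A] [ValuationRing A] [Algebra A K] [IsFractionRing A K] [Algebra R A]
    [IsScalarTower R A K] [IsLocalHom (algebraMap R A)] (hm : IsLocalRing.maximalIdeal R ≠ ⊥) :
    ∃ (I : Ideal R) (a : R), I.FG ∧ I ≤ IsLocalRing.maximalIdeal R ∧ a ∈ I ∧ a ≠ 0 ∧
      (∀ x ∈ I, ∃ y : A, algebraMap A K y * algebraMap R K a = algebraMap R K x) ∧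
      ∀ (R₁ : Type u) [CommRing R₁] [Algebra R R₁] (e : R₁ ≃ₐ[R] ↥(BlowUp.affineAlgebra R I a)),
        (IsLocalRing.maximalIdeal R).map (algebraMap R R₁) ≠ ⊤ ∧
        Module.Flat R₁ ((R₁ ⊗[R] S) ⧸ FlatCA.powTorsion (R₁ ⊗[R] S) (algebraMap R (R₁ ⊗[R] S) a) (R₁ ⊗[R] S)) ∧
        Algebra.FinitePresentation R₁
          ((R₁ ⊗[R] S) ⧸ FlatCA.powTorsion (R₁ ⊗[R] S) (algebraMap R (R₁ ⊗[R] S) a) (R₁ ⊗[R] S)) ∧
        Module.Flat R₁ ((R₁ ⊗[R] M) ⧸ FlatCA.powTorsion R₁ (algebraMap R R₁ a) (R₁ ⊗[R] M)) := by
  classical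
  -- present `S` as a quotient of a polynomial ring
  obtain ⟨n, π, hπ⟩ := Algebra.FiniteType.iff_quotient_mvPolynomial''.mp
    (inferInstance : Algebra.FiniteType R S)
  letI : Algebra (MvPolynomial (Fin n) R) S := π.toRingHom.toAlgebra
  haveI : IsScalarTower R (MvPolynomial (Fin n) R) S :=
    IsScalarTower.of_algebraMap_eq fun r => (π.commutes r).symm
  letI : Module (MvPolynomial (Fin n) R) M := Module.compHom M π.toRingHom
  haveI : IsScalarTower (MvPolynomial (Fin n) R) S M :=
    ⟨fun p s m => by
      change (π p * s) • m = π p • (s • m)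
      rw [mul_smul]⟩
  haveI : IsScalarTower R (MvPolynomial (Fin n) R) M :=
    ⟨fun c p m => by
      change π (c • p) • m = c • (π p • m)
      rw [map_smul, smul_assoc]⟩
  have hsurj : Function.Surjective (algebraMap (MvPolynomial (Fin n) R) S) := hπ
  haveI : Module.Finite (MvPolynomial (Fin n) R) S :=
    Module.Finite.of_surjective (Algebra.linearMap _ S) hsurj
  haveI : Module.Finite (MvPolynomial (Fin n) R) M := Module.Finite.trans S M
  obtain ⟨bM, gM, hgM⟩ := Module.Finite.exists_fin (R := MvPolynomial (Fin n) R) (M := M)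
  -- the two cores
  obtain ⟨fS, hfS, sS, hS⟩ := Groth.Agent.H46.BlowFlat.core_module (R := R) A (n := n) S
    (fun _ : Fin 1 => (1 : S))
  obtain ⟨fM, hfM, sM, hM⟩ := Groth.Agent.H46.BlowFlat.core_module (R := R) A (n := n) M gM
  obtain ⟨m₀, hm₀, hm₀0⟩ := Submodule.exists_mem_ne_zero_of_ne_bot hm
  obtain ⟨I, a, hFG, hle, haI, ha0, hca, hIA, hsI⟩ :=
    Groth.Agent.H46.BlowFlat.exists_ideal_of_finset (K := K) (A := A) (IsLocalRing.maximalIdeal R)
      (sS ∪ sM) (fS * fM * m₀) (mul_ne_zero (mul_ne_zero hfS hfM) hm₀0)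
      (Ideal.mul_mem_left _ _ hm₀)
  refine ⟨I, a, hFG, hle, haI, ha0, hIA, fun R₁ _ _ e => ?_⟩
  have hAK : Function.Injective (algebraMap A K) := IsFractionRing.injective A K
  have hRK : Function.Injective (algebraMap R K) := IsFractionRing.injective R K
  obtain ⟨ι₀, hι₀inj, hι₀range⟩ :=
    Groth.Agent.H46.BlowFlat.exists_algHom_affineAlgebra hAK I a ha0 hIA
  let ι : R₁ →ₐ[R] A := ι₀.comp e.toAlgHom
  letI : Algebra R₁ A := ι.toRingHom.toAlgebra
  haveI : IsScalarTower R R₁ A := IsScalarTower.of_algebraMap_eq fun r => (ι.commutes r).symm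
  have hinj : Function.Injective (algebraMap R₁ A) := hι₀inj.comp e.injective
  haveI : IsDomain R₁ := hinj.isDomain (algebraMap R₁ A)
  have hrange : ∀ y ∈ sS ∪ sM, y ∈ Set.range (algebraMap R₁ A) := by
    intro y hy
    obtain ⟨x, hx, hxy⟩ := hsI y hy
    obtain ⟨z, rfl⟩ := hι₀range x hx y hxy
    exact ⟨e.symm z, by
      change ι₀ (e (e.symm z)) = ι₀ z
      rw [AlgEquiv.apply_symm_apply]⟩
  have hRA : Function.Injective (algebraMap R A) := by
    intro x y hxy
    apply hRK
    rw [IsScalarTower.algebraMap_apply R A K, hxy, ← IsScalarTower.algebraMap_apply R A K]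
  have ha₁ : algebraMap R R₁ a ≠ 0 := by
    intro h
    apply ha0
    apply hRA
    rw [IsScalarTower.algebraMap_apply R R₁ A, h, map_zero, map_zero]
  obtain ⟨hSfg, hSflat⟩ := hS R₁ hinj (fun x hx => hrange x (Finset.mem_union_left _ hx))
  obtain ⟨-, hMflat⟩ := hM R₁ hinj (fun x hx => hrange x (Finset.mem_union_right _ hx))
  have hdS : fS ∣ a := Dvd.dvd.trans ⟨fM * m₀, by ring⟩ hca
  have hdM : fM ∣ a := Dvd.dvd.trans ⟨fS * m₀, by ring⟩ hca
  refine ⟨?_, ?_, ?_, ?_⟩
  · intro htop
    have h1 : ((IsLocalRing.maximalIdeal R).map (algebraMap R R₁)).map (algebraMap R₁ A) = ⊤ := by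
      rw [htop, Ideal.map_top]
    rw [Ideal.map_map, ← IsScalarTower.algebraMap_eq] at h1
    have h2 : (IsLocalRing.maximalIdeal R).map (algebraMap R A) ≤ IsLocalRing.maximalIdeal A := by
      rw [Ideal.map_le_iff_le_comap]
      intro x hx
      rw [Ideal.mem_comap, IsLocalRing.mem_maximalIdeal, mem_nonunits_iff]
      intro hu
      exact (IsLocalRing.mem_maximalIdeal x).mp hx (IsUnit.of_map (algebraMap R A) x hu)
    rw [h1] at h2
    exact (IsLocalRing.maximalIdeal.isMaximal A).ne_top (top_le_iff.mp h2)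
  · exact Groth.Agent.H46.BlowFlat.flat_strict_alg R₁ hsurj fS a hdS ha₁
  · exact Groth.Agent.H46.BlowFlat.finitePresentation_strict_alg R₁ hsurj fS a hdS ha₁ hSfg
  · exact Groth.Agent.H46.BlowFlat.flat_of_flat_Krel gM hgM R₁ fM a hdM ha₁

end Groth.Agent.S6930
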