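import Groth.Statements.S6933
import Mathlib.Algebra.Category.Grp.EpiMono
-- import your own Groth.Agent.* helpers here

set_option autoImplicit false
universe u
open CategoryTheory
open InjHull

namespace Groth.Agent.S6933

/-- An abelian group `J` that is injective as an object of the category of abelian groups is divisible:
`n J = J` for every nonzero integer `n`. (The published statement is an equivalence; this row states
the implication from injective to divisible.) -/
theorem result (J : Type u) [AddCommGroup J] (hJ : Injective (AddCommGrpCat.of J))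
    (n : ℤ) (hn : n ≠ 0) (x : J) : ∃ y : J, n • y = x := by
  let Z := AddCommGrpCat.of (ULift.{u} ℤ)
  let f : Z ⟶ AddCommGrpCat.of J :=
    AddCommGrpCat.ofHom ((zmultiplesHom J x).comp AddEquiv.ulift.toAddMonoidHom)
  let m : Z ⟶ Z :=
    AddCommGrpCat.ofHom ((AddEquiv.ulift.symm.toAddMonoidHom.comp
      ((AddMonoidHom.mulLeft n))).comp AddEquiv.ulift.toAddMonoidHom)
  have hm : Mono m := by
    rw [AddCommGrpCat.mono_iff_injective]
    intro a b hab
    have : n * a.down = n * b.down := by
      simpa [m] using congrArg ULift.down hab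
    exact ULift.ext _ _ (mul_left_cancel₀ hn this)
  obtain ⟨g, hg⟩ := hJ.factors f m
  refine ⟨g (ULift.up 1), ?_⟩
  have h1 : g (m (ULift.up (1 : ℤ))) = f (ULift.up (1 : ℤ)) := by
    rw [← hg]; rfl
  have h2 : m (ULift.up (1 : ℤ)) = n • (ULift.up 1 : ULift.{u} ℤ) := by
    apply ULift.ext
    change n * 1 = n • (1 : ℤ)
    simp
  have h3 : f (ULift.up (1 : ℤ)) = x := by
    change (1 : ℤ) • x = x
    simp
  rw [h2, h3, map_zsmul] at h1
  exact h1

end Groth.Agent.S6933
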