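import Groth.Statements.S6934


set_option autoImplicit false
universe u
open EtAlg

namespace Groth.Agent.S6934

/-- in a localization away from `x`, the image of any power of `x` is a unit -/
theorem isUnit_pow_away {A : Type u} [CommRing A] (x : A) (S : Type u) [CommRing S] [Algebra A S]
    [IsLocalization.Away x S] (n : ℕ) : IsUnit (algebraMap A S (x ^ n)) :=
  IsLocalization.map_units S (⟨x ^ n, n, rfl⟩ : Submonoid.powers x)

/-- every element of a localization away from `x` is `a / x^n` -/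
theorem exists_mul_pow_eq {A : Type u} [CommRing A] (x : A) (S : Type u) [CommRing S] [Algebra A S]
    [IsLocalization.Away x S] (z : S) :
    ∃ (a : A) (n : ℕ), z * algebraMap A S (x ^ n) = algebraMap A S a := by
  obtain ⟨⟨a, ⟨_, n, rfl⟩⟩, h⟩ := IsLocalization.surj (Submonoid.powers x) z
  exact ⟨a, n, h⟩

/-- an element dying in the localization away from `x` is killed by a power of `x` -/
theorem exists_pow_mul_eq_zero {A : Type u} [CommRing A] (x : A) (S : Type u) [CommRing S]
    [Algebra A S] [IsLocalization.Away x S] (a : A) (h : algebraMap A S a = 0) :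
    ∃ n : ℕ, x ^ n * a = 0 := by
  rw [IsLocalization.map_eq_zero_iff (Submonoid.powers x)] at h
  obtain ⟨⟨_, n, rfl⟩, hn⟩ := h
  exact ⟨n, hn⟩

theorem exists_pow_mul_eq {A : Type u} [CommRing A] (x : A) (S : Type u) [CommRing S]
    [Algebra A S] [IsLocalization.Away x S] (a b : A) (h : algebraMap A S a = algebraMap A S b) :
    ∃ n : ℕ, x ^ n * a = x ^ n * b := by
  rw [IsLocalization.eq_iff_exists (Submonoid.powers x)] at h
  obtain ⟨⟨_, n, rfl⟩, hn⟩ := h
  exact ⟨n, hn⟩

/-- Let `s : B → R`, `t : R' → R` be ring maps and `B' = B ×_R R'` the fibre product ring, i.e. a ring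
`B'` with maps `p : B' → B`, `q : B' → R'`, `s ∘ p = t ∘ q`, such that `(p, q)` is injective with
image the pairs `(b, r')` with `s(b) = t(r')`. Let `h ∈ B'` with images `g = p(h)`, `f = q(h)`. Then
the square of localizations `B'_h → B_g`, `B'_h → R'_f`, `B_g → R_{s(g)}`, `R'_f → R_{t(f)} =
R_{s(g)}` (the induced maps) is cartesian as well: `B'_h = B_g ×_{R_{s(g)}} R'_f`. -/
theorem result {B R R' B' : Type u} [CommRing B] [CommRing R] [CommRing R'] [CommRing B']
    (s : B →+* R) (t : R' →+* R) (p : B' →+* B) (q : B' →+* R') (hc : s.comp p = t.comp q)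
    (hinj : ∀ x y : B', p x = p y → q x = q y → x = y) (hsurj : ∀ (b : B) (r' : R'), s b = t r' → ∃ x : B', p x = b ∧ q x = r')
    (h : B') (Bh Bg Rf Rsg : Type u) [CommRing Bh] [CommRing Bg] [CommRing Rf] [CommRing Rsg]
    [Algebra B' Bh] [IsLocalization.Away h Bh] [Algebra B Bg] [IsLocalization.Away (p h) Bg]
    [Algebra R' Rf] [IsLocalization.Away (q h) Rf] [Algebra R Rsg] [IsLocalization.Away (s (p h)) Rsg]
    (pL : Bh →+* Bg) (qL : Bh →+* Rf) (sL : Bg →+* Rsg) (tL : Rf →+* Rsg)
    (hp : pL.comp (algebraMap B' Bh) = (algebraMap B Bg).comp p) (hq : qL.comp (algebraMap B' Bh) = (algebraMap R' Rf).comp q)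
    (hs : sL.comp (algebraMap B Bg) = (algebraMap R Rsg).comp s) (ht : tL.comp (algebraMap R' Rf) = (algebraMap R Rsg).comp t) :
    (∀ x y : Bh, pL x = pL y → qL x = qL y → x = y) ∧
    (∀ (b : Bg) (r : Rf), sL b = tL r → ∃ x : Bh, pL x = b ∧ qL x = r) := by
  have hc' : ∀ x, s (p x) = t (q x) := fun x => RingHom.congr_fun hc x
  have hp' : ∀ x, pL (algebraMap B' Bh x) = algebraMap B Bg (p x) := fun x => RingHom.congr_fun hp x
  have hq' : ∀ x, qL (algebraMap B' Bh x) = algebraMap R' Rf (q x) := fun x => RingHom.congr_fun hq x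
  have hs' : ∀ x, sL (algebraMap B Bg x) = algebraMap R Rsg (s x) := fun x => RingHom.congr_fun hs x
  have ht' : ∀ x, tL (algebraMap R' Rf x) = algebraMap R Rsg (t x) := fun x => RingHom.congr_fun ht x
  constructor
  · -- injectivity
    have key : ∀ z : Bh, pL z = 0 → qL z = 0 → z = 0 := by
      intro z hz1 hz2
      obtain ⟨b', n, hb'⟩ := exists_mul_pow_eq h Bh z
      have h1 : algebraMap B Bg (p b') = 0 := by
        rw [← hp', ← hb', map_mul, hz1, zero_mul]
      have h2 : algebraMap R' Rf (q b') = 0 := by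
        rw [← hq', ← hb', map_mul, hz2, zero_mul]
      obtain ⟨k, hk⟩ := exists_pow_mul_eq_zero (p h) Bg (p b') h1
      obtain ⟨l, hl⟩ := exists_pow_mul_eq_zero (q h) Rf (q b') h2
      have h3 : h ^ (k + l) * b' = 0 := by
        apply hinj
        · rw [map_mul, map_pow, map_zero, pow_add, mul_assoc, mul_comm ((p h) ^ l), ← mul_assoc,
            hk, zero_mul]
        · rw [map_mul, map_pow, map_zero, pow_add, mul_assoc, hl, mul_zero]
      have h4 : z * algebraMap B' Bh (h ^ n) * algebraMap B' Bh (h ^ (k + l)) = 0 := by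
        rw [hb', ← map_mul, mul_comm, h3, map_zero]
      have hu1 := isUnit_pow_away h Bh n
      have hu2 := isUnit_pow_away h Bh (k + l)
      have h5 := (hu2.mul_left_eq_zero).mp h4
      exact (hu1.mul_left_eq_zero).mp h5
    intro x y hxy1 hxy2
    have := key (x - y) (by rw [map_sub, hxy1, sub_self]) (by rw [map_sub, hxy2, sub_self])
    exact sub_eq_zero.mp this
  · -- surjectivity
    intro b r hbr
    obtain ⟨b₀, n, hb₀⟩ := exists_mul_pow_eq (p h) Bg b
    obtain ⟨r₀, m, hr₀⟩ := exists_mul_pow_eq (q h) Rf r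
    -- common exponent N = n + m
    obtain ⟨b₁, hb₁def⟩ : ∃ b₁, b₁ = (p h) ^ m * b₀ := ⟨_, rfl⟩
    obtain ⟨r₁, hr₁def⟩ : ∃ r₁, r₁ = (q h) ^ n * r₀ := ⟨_, rfl⟩
    have hb₁ : b * algebraMap B Bg ((p h) ^ (n + m)) = algebraMap B Bg b₁ := by
      rw [hb₁def, pow_add, map_mul, map_mul, ← hb₀]; ring
    have hr₁ : r * algebraMap R' Rf ((q h) ^ (n + m)) = algebraMap R' Rf r₁ := by
      rw [hr₁def, pow_add, map_mul, map_mul, ← hr₀]; ring
    have hst : s (p h) = t (q h) := hc' h
    have hstN : s ((p h) ^ (n + m)) = t ((q h) ^ (n + m)) := by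
      rw [map_pow, map_pow, hst]
    have h1 : algebraMap R Rsg (s b₁) = algebraMap R Rsg (t r₁) := by
      calc algebraMap R Rsg (s b₁) = sL (algebraMap B Bg b₁) := (hs' b₁).symm
        _ = sL b * sL (algebraMap B Bg ((p h) ^ (n + m))) := by rw [← hb₁, map_mul]
        _ = tL r * tL (algebraMap R' Rf ((q h) ^ (n + m))) := by rw [hs', ht', hbr, hstN]
        _ = tL (algebraMap R' Rf r₁) := by rw [← map_mul, hr₁]
        _ = algebraMap R Rsg (t r₁) := ht' r₁
    obtain ⟨k, hk⟩ := exists_pow_mul_eq (s (p h)) Rsg _ _ h1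
    have h2 : s ((p h) ^ k * b₁) = t ((q h) ^ k * r₁) := by
      rw [map_mul, map_mul, map_pow, map_pow, ← hst]
      exact hk
    obtain ⟨x', hx'p, hx'q⟩ := hsurj _ _ h2
    -- x = x' / h^(n+m+k)
    have hu := isUnit_pow_away h Bh (n + m + k)
    obtain ⟨u, hu'⟩ := hu
    refine ⟨algebraMap B' Bh x' * ↑u⁻¹, ?_, ?_⟩
    · have hug := isUnit_pow_away (p h) Bg (n + m + k)
      apply hug.mul_left_injective
      simp only
      have e1 : pL (algebraMap B' Bh x' * ↑u⁻¹) * algebraMap B Bg (p h ^ (n + m + k)) =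
          algebraMap B Bg (p x') := by
        rw [← map_pow, ← hp', ← map_mul, ← hp']
        congr 1
        rw [mul_assoc, ← hu', Units.inv_mul, mul_one]
      rw [e1, hx'p, pow_add (p h) (n + m) k, map_mul, map_mul, ← mul_assoc, hb₁]
      ring
    · have huf := isUnit_pow_away (q h) Rf (n + m + k)
      apply huf.mul_left_injective
      simp only
      have e1 : qL (algebraMap B' Bh x' * ↑u⁻¹) * algebraMap R' Rf (q h ^ (n + m + k)) =
          algebraMap R' Rf (q x') := by
        rw [← map_pow, ← hq', ← map_mul, ← hq']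
        congr 1
        rw [mul_assoc, ← hu', Units.inv_mul, mul_one]
      rw [e1, hx'q, pow_add (q h) (n + m) k, map_mul, map_mul, ← mul_assoc, hr₁]
      ring

end Groth.Agent.S6934
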