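import Groth.Statements.S6936
import Groth.Agent.Lib.Helper6.MPC4

set_option autoImplicit false
universe u
open CategoryTheory CategoryTheory.Limits
attribute [local instance] HasDerivedCategory.standard
open DRing

namespace Groth.Agent.S6936

/-- Let R be a commutative ring, m an integer and K an object of D(R). If H^i(K) = 0 for every i > m +
1, H^(m+1)(K) is a finitely presented R-module and H^m(K) is a finitely generated R-module, then K
is m-pseudo-coherent. -/
theorem result (R : Type u) [CommRing R]
    (m : ℤ) (K : Dual.D R) (hvan : ∀ i : ℤ, m + 1 < i → Subsingleton (Dual.HD R K i))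
    (hfp : Module.FinitePresentation R (Dual.HD R K (m + 1))) (hfin : Module.Finite R (Dual.HD R K m)) :
    DRing.IsPseudoCoherent R m K := by
  have hLE : DerivedCategory.IsLE K (m + 1) := by
    rw [DerivedCategory.isLE_iff]
    intro i hi
    have := hvan i hi
    exact ModuleCat.isZero_of_subsingleton _
  refine Lib.Helper6.MPC.isPC_of_homology K (m + 1) m (fun i => ?_)
  rcases lt_trichotomy i m with hi | hi | hi
  · exact Lib.Helper6.MPC.isPC_single_of_pos _ _ (by omega)
  · subst hi
    have e : i - i = 0 := by omega
    rw [e]
    exact Lib.Helper6.MPC.isPC_zero_single_of_finite _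
  · by_cases hi' : i = m + 1
    · subst hi'
      have e : m - (m + 1) = -1 := by omega
      rw [e]
      exact Lib.Helper6.MPC.isPC_neg_one_single_of_fp _
    · have := hvan i (by omega)
      exact Lib.Helper6.MPC.isPC_of_isZero
        ((DerivedCategory.singleFunctor (ModuleCat.{u} R) 0).map_isZero
          (ModuleCat.isZero_of_subsingleton _)) _

end Groth.Agent.S6936
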