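import Groth.Statements.S6941
import Groth.Agent.Lib.Helper6.FlatDescent

set_option autoImplicit false
universe u
open CategoryTheory CategoryTheory.Limits
attribute [local instance] HasDerivedCategory.standard
open DRing

namespace Groth.Agent.S6941

/-- Let R → R' be a faithfully flat homomorphism of commutative rings, K a cochain complex of R-modules
and m an integer. If the termwise base change K ⊗_R R' is m-pseudo-coherent in D(R'), then K is
m-pseudo-coherent in D(R); if K ⊗_R R' is pseudo-coherent, then K is pseudo-coherent. -/
theorem result {R R' : Type u} [CommRing R] [CommRing R']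
    [Algebra R R'] [Module.FaithfullyFlat R R'] (K : DRing.Cx R) (m : ℤ) :
    (DRing.IsPseudoCoherent R' m (DRing.toD (((ModuleCat.extendScalars (algebraMap R R')).mapHomologicalComplex
        (ComplexShape.up ℤ)).obj K)) → DRing.IsPseudoCoherent R m (DRing.toD K)) ∧
      (DRing.IsPseudoCoherent' R' (DRing.toD (((ModuleCat.extendScalars (algebraMap R R')).mapHomologicalComplex
        (ComplexShape.up ℤ)).obj K)) → DRing.IsPseudoCoherent' R (DRing.toD K)) := by
  have H : Lib.Helper6.PCDescent.Hyp (fun _ : Unit => R')
      (fun _ => Lib.Helper35.FlatBC.G R R') :=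
    Lib.Helper6.PCDescent.hyp_of_flat (fun _ : Unit => R')
      (fun M h => (Module.FaithfullyFlat.subsingleton_tensorProduct_iff_right R R').1 (h ()))
      (fun M h => by
        have := h ()
        exact Module.Finite.of_finite_tensorProduct_of_faithfullyFlat R')
  constructor
  · intro h
    exact Lib.Helper6.PCDescent.descent H (DRing.toD K) m
      (fun _ => Lib.Helper6.MPC.isPC_of_iso (Lib.Helper35.FlatBC.GQIso R' K).symm h)
  · intro h
    exact Lib.Helper6.PCDescent.descent' H (DRing.toD K)
      (fun _ => Lib.Helper35.FlatBC.isPseudoCoherent'_of_iso R' (Lib.Helper35.FlatBC.GQIso R' K).symm h)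

end Groth.Agent.S6941
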