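import Groth.Statements.S6942
import Groth.Agent.Lib.Helper6.MPC4
import Groth.Agent.Lib.Helper35.RegPerf

set_option autoImplicit false
universe u
open CategoryTheory CategoryTheory.Limits
attribute [local instance] HasDerivedCategory.standard
open DRing

namespace Groth.Agent.S6942

/-- Let R be a Noetherian commutative ring and m an integer. An object K of D(R) is m-pseudo-coherent
exactly when H^i(K) = 0 for all large i and H^i(K) is a finitely generated R-module for each i ≥ m.
Every finitely generated R-module M is pseudo-coherent, and conversely. -/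
theorem result (R : Type u) [CommRing R]
    [IsNoetherianRing R] (m : ℤ) (K : Dual.D R) (M : Type u) [AddCommGroup M] [Module R M] :
    (DRing.IsPseudoCoherent R m K ↔
      (∃ b : ℤ, ∀ i : ℤ, b < i → Subsingleton (Dual.HD R K i)) ∧ ∀ i : ℤ, m ≤ i → Module.Finite R (Dual.HD R K i)) ∧
      (DRing.IsPseudoCoherentModule' R M ↔ Module.Finite R M) := by
  refine ⟨⟨?_, ?_⟩, ⟨?_, ?_⟩⟩
  · rintro ⟨E, a, b, α, hv, hE, hiso, hepi⟩
    have hperf : DRing.IsPerfect R (DRing.toD E) :=
      ⟨E, a, b, hv, fun i => ⟨(hE i).1, by have := (hE i).2; infer_instance⟩, ⟨Iso.refl _⟩⟩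
    have hEle : DerivedCategory.IsLE (DRing.toD E) b := by
      have : E.IsStrictlyLE b := by
        rw [CochainComplex.isStrictlyLE_iff]
        intro i hi
        exact hv i (Or.inr hi)
      infer_instance
    have hcond : Lib.Helper6.MPC.Cond m α := ⟨hiso, hepi⟩
    refine ⟨⟨max b m, fun i hi => ?_⟩, fun i hi => ?_⟩
    · have h1 := hiso i (by omega)
      have hz : Limits.IsZero ((DerivedCategory.homologyFunctor (ModuleCat.{u} R) i).obj
          (DRing.toD E)) := DerivedCategory.isZero_of_isLE _ b i (by omega)
      exact ModuleCat.subsingleton_of_isZero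
        (hz.of_iso (asIso ((DerivedCategory.homologyFunctor (ModuleCat.{u} R) i).map α)).symm)
    · have h1 := hcond.epi i hi
      have h2 := Lib.Helper35.KL.finite_homology_of_isPerfect _ hperf i
      exact Module.Finite.of_surjective
        ((DerivedCategory.homologyFunctor (ModuleCat.{u} R) i).map α).hom
        ((ModuleCat.epi_iff_surjective _).mp h1)
  · rintro ⟨⟨b, hb⟩, hfin⟩
    have hLE : DerivedCategory.IsLE K b := by
      rw [DerivedCategory.isLE_iff]
      intro i hi
      have := hb i hi
      exact ModuleCat.isZero_of_subsingleton _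
    refine Lib.Helper6.MPC.isPC_of_homology K b m (fun i => ?_)
    by_cases hi : i < m
    · exact Lib.Helper6.MPC.isPC_single_of_pos _ _ (by omega)
    · have := hfin i (by omega)
      exact Lib.Helper6.MPC.isPC_of_isPC'
        (Lib.Helper35.KL.isPseudoCoherent'_single_of_finite_of_isNoetherianRing
          ((DerivedCategory.homologyFunctor (ModuleCat.{u} R) i).obj K)) _
  · intro h
    exact Lib.Helper6.MPC.finite_of_isPC_zero_single (ModuleCat.of R M)
      (Lib.Helper6.MPC.isPC_of_isPC' h 0)
  · intro h
    exact Lib.Helper35.KL.isPseudoCoherent'_single_of_finite_of_isNoetherianRing (ModuleCat.of R M)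

end Groth.Agent.S6942
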