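import Groth.Statements.S6948
import Groth.Agent.Lib.Helper35.FlatLBC
import Groth.Agent.Lib.Helper35.FlatBC

set_option autoImplicit false
universe u
open CategoryTheory CategoryTheory.Limits
attribute [local instance] HasDerivedCategory.standard
open DRing

namespace Groth.Agent.S6948

/-- Let A → B be a homomorphism of commutative rings such that the derived base change D(A) → D(B)
exists, and let K be an object of D(A) with tor amplitude in [a, b]. Then K ⊗^L_A B has tor
amplitude in [a, b] as an object of D(B). -/
theorem result {A B : Type u} [CommRing A] [CommRing B] (φ : A →+* B)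
    [DRing.HasLBaseChange φ] (K : Dual.D A) (a b : ℤ) (hK : DRing.HasTorAmplitudeIn A a b K) :
    DRing.HasTorAmplitudeIn B a b ((DRing.LBaseChange φ).obj K) := by
  obtain ⟨E, hv, hfl, ⟨e⟩⟩ := hK
  obtain ⟨e'⟩ := Groth.Agent.Lib.Helper35.TA.nonempty_lbc_iso_of_flat φ E b
    (fun i hi => hv i (Or.inr hi)) hfl
  let _ : Algebra A B := φ.toAlgebra
  refine ⟨((ModuleCat.extendScalars.{u, u, u} φ).mapHomologicalComplex
    (ComplexShape.up ℤ)).obj E, ?_, ?_, ⟨e'.symm ≪≫ (DRing.LBaseChange φ).mapIso e⟩⟩
  · intro i hi
    exact CategoryTheory.Functor.map_isZero (ModuleCat.extendScalars.{u, u, u} φ) (hv i hi)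
  · intro i
    have := hfl i
    exact Groth.Agent.Lib.Helper35.FlatBC.flat_ext_obj B (E.X i)

end Groth.Agent.S6948
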