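import Groth.Statements.S6955
import Groth.Agent.Lib.Helper35.FinRes

set_option autoImplicit false
universe u
open CategoryTheory CategoryTheory.Limits
attribute [local instance] HasDerivedCategory.standard
open DRing

namespace Groth.Agent.S6955

/-- Let R be a commutative ring and M an R-module. Then M is perfect (M[0] is isomorphic in D(R) to a
bounded complex of finite projective modules) if and only if M admits a projective resolution of
finite length whose terms are finitely generated, i.e. a resolution 0 → F_d → ... → F_0 → M → 0 by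
finite projective modules. -/
theorem result (R : Type u) [CommRing R] (M : Type u)
    [AddCommGroup M] [Module R M] :
    DRing.IsPerfectModule R M ↔
      ∃ (P : ProjectiveResolution (ModuleCat.of R M)) (d : ℕ),
        (∀ i : ℕ, d < i → IsZero (P.complex.X i)) ∧ ∀ i : ℕ, Module.Finite R (P.complex.X i) := by
  constructor
  · intro h
    have hM : DRing.IsPerfect R ((DerivedCategory.singleFunctor (ModuleCat.{u} R) 0).obj
        (ModuleCat.of R M)) := h
    obtain ⟨E, a, b, hv, hE, ⟨e⟩⟩ := hM
    have hT : Groth.Agent.Lib.Helper35.TA.TAmp a b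
        ((DerivedCategory.singleFunctor (ModuleCat.{u} R) 0).obj (ModuleCat.of R M)) := by
      refine ⟨E, hv, fun i => ?_, ⟨e⟩⟩
      have := (hE i).2
      infer_instance
    have hLE : ((DerivedCategory.singleFunctor (ModuleCat.{u} R) 0).obj
        (ModuleCat.of R M)).IsLE 0 := inferInstance
    have hT0 : Groth.Agent.Lib.Helper35.TA.TAmp a 0
        ((DerivedCategory.singleFunctor (ModuleCat.{u} R) 0).obj (ModuleCat.of R M)) :=
      Groth.Agent.Lib.Helper35.TA.TAmp.of_isLE (b := 0) hT
    have hT1 : Groth.Agent.Lib.Helper35.TA.TAmp (-(((-a).toNat : ℕ) : ℤ)) 0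
        ((DerivedCategory.singleFunctor (ModuleCat.{u} R) 0).obj (ModuleCat.of R M)) :=
      hT0.mono (by omega) (le_refl _)
    obtain ⟨P, h1, h2⟩ := Groth.Agent.Lib.Helper35.FinRes.exists_resolution_of_isPerfect
      (-a).toNat (ModuleCat.of R M) h hT1
    exact ⟨P, (-a).toNat, h1, h2⟩
  · rintro ⟨P, d, h1, h2⟩
    exact Groth.Agent.Lib.Helper35.FinRes.isPerfect_of_projectiveResolution (ModuleCat.of R M) P d h1 h2

end Groth.Agent.S6955
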