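import Groth.Statements.S6962
import Groth.Agent.Lib.Helper35.RegPerf

set_option autoImplicit false
universe u
open CategoryTheory CategoryTheory.Limits
attribute [local instance] HasDerivedCategory.standard
open DRing

namespace Groth.Agent.S6962

/-- Let R be a regular commutative ring, i.e. R is Noetherian and its localization at every prime ideal
is a regular local ring. Then an R-module M is perfect (M[0] is isomorphic in D(R) to a bounded
complex of finite projective modules) if and only if M is finitely generated. -/
theorem result (R : Type u) [CommRing R] [IsNoetherianRing R]
    (hreg : ∀ p : PrimeSpectrum R, IsRegularLocalRing (Localization.AtPrime p.asIdeal))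
    (M : Type u) [AddCommGroup M] [Module R M] :
    DRing.IsPerfectModule R M ↔ Module.Finite R M := by
  constructor
  · intro hM
    have h := Groth.Agent.Lib.Helper35.KL.finite_homology_of_isPerfect (Dual.inD R M) hM 0
    have e : (DerivedCategory.homologyFunctor (ModuleCat.{u} R) 0).obj (Dual.inD R M) ≅
        ModuleCat.of R M :=
      (DerivedCategory.singleFunctorCompHomologyFunctorIso (ModuleCat.{u} R) 0).app (ModuleCat.of R M)
    exact Module.Finite.equiv e.toLinearEquiv
  · intro hM
    exact Groth.Agent.Lib.Helper35.KL.isPerfect_single_of_finite_of_regular (ModuleCat.of R M) hreg

end Groth.Agent.S6962
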