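import Groth.Statements.S6964
import Groth.Agent.Lib.Helper35.PALib

set_option autoImplicit false
universe u
open CategoryTheory CategoryTheory.Limits
attribute [local instance] HasDerivedCategory.standard
open DRing

namespace Groth.Agent.S6964

/-- Let R be a commutative ring, K an object of D(R) and a, b integers. These four conditions are
equivalent: (1) the projective amplitude of K lies in [a, b], meaning K is isomorphic in D(R) to a
complex of projective R-modules vanishing outside [a, b]; (2) Hom(K, N[i]) = 0 in D(R) for every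
R-module N and every integer i outside [-b, -a]; (3) H^n(K) = 0 for all n > b and Hom(K, N[i]) = 0
for every R-module N and every i > -a; (4) H^n(K) = 0 for all n outside [a - 1, b] and Hom(K, N[-a +
1]) = 0 for every R-module N. -/
theorem result (R : Type u) [CommRing R] (K : Dual.D R) (a b : ℤ) :
    [∃ P : DRing.Cx R, DRing.VanishesOutside P a b ∧ (∀ i : ℤ, Module.Projective R (P.X i)) ∧
        Nonempty (DRing.toD P ≅ K),
      ∀ (N : Type u) [AddCommGroup N] [Module R N] (i : ℤ), (i < -b ∨ -a < i) →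
        Subsingleton (DRing.ExtD R K (Dual.inD R N) i),
      (∀ n : ℤ, b < n → Subsingleton (Dual.HD R K n)) ∧
        ∀ (N : Type u) [AddCommGroup N] [Module R N] (i : ℤ), -a < i → Subsingleton (DRing.ExtD R K (Dual.inD R N) i),
      (∀ n : ℤ, (n < a - 1 ∨ b < n) → Subsingleton (Dual.HD R K n)) ∧
        ∀ (N : Type u) [AddCommGroup N] [Module R N], Subsingleton (DRing.ExtD R K (Dual.inD R N) (-a + 1))].TFAE := by
  have H := Groth.Agent.Lib.Helper35.KL.PA_tfae K a b
  have h2 : (∀ (N : Type u) [AddCommGroup N] [Module R N] (i : ℤ), (i < -b ∨ -a < i) →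
        Subsingleton (DRing.ExtD R K (Dual.inD R N) i)) ↔
      ∀ (N : ModuleCat.{u} R) (i : ℤ), (i < -b ∨ -a < i) →
        Subsingleton (K ⟶ ((DerivedCategory.singleFunctor (ModuleCat.{u} R) 0).obj N)⟦i⟧) :=
    ⟨fun h N i hi => h N i hi, fun h N _ _ i hi => h (ModuleCat.of R N) i hi⟩
  have h3 : ((∀ n : ℤ, b < n → Subsingleton (Dual.HD R K n)) ∧
        ∀ (N : Type u) [AddCommGroup N] [Module R N] (i : ℤ), -a < i →
          Subsingleton (DRing.ExtD R K (Dual.inD R N) i)) ↔
      ((∀ n : ℤ, b < n →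
          Subsingleton ((DerivedCategory.homologyFunctor (ModuleCat.{u} R) n).obj K)) ∧
        ∀ (N : ModuleCat.{u} R) (i : ℤ), -a < i →
          Subsingleton (K ⟶ ((DerivedCategory.singleFunctor (ModuleCat.{u} R) 0).obj N)⟦i⟧)) :=
    ⟨fun h => ⟨h.1, fun N i hi => h.2 N i hi⟩,
      fun h => ⟨h.1, fun N _ _ i hi => h.2 (ModuleCat.of R N) i hi⟩⟩
  have h4 : ((∀ n : ℤ, (n < a - 1 ∨ b < n) → Subsingleton (Dual.HD R K n)) ∧
        ∀ (N : Type u) [AddCommGroup N] [Module R N],
          Subsingleton (DRing.ExtD R K (Dual.inD R N) (-a + 1))) ↔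
      ((∀ n : ℤ, (n < a - 1 ∨ b < n) →
          Subsingleton ((DerivedCategory.homologyFunctor (ModuleCat.{u} R) n).obj K)) ∧
        ∀ (N : ModuleCat.{u} R),
          Subsingleton (K ⟶ ((DerivedCategory.singleFunctor (ModuleCat.{u} R) 0).obj N)⟦(-a + 1)⟧)) :=
    ⟨fun h => ⟨h.1, fun N => h.2 N⟩, fun h => ⟨h.1, fun N _ _ => h.2 (ModuleCat.of R N)⟩⟩
  rw [h2, h3, h4]
  exact H

end Groth.Agent.S6964
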