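import Groth.Statements.S6966
import Groth.Agent.Lib.Helper35.KLHeart
import Mathlib.Algebra.Homology.DerivedCategory.SingleTriangle
import Mathlib.Algebra.Homology.DerivedCategory.Linear
import Mathlib.Algebra.Homology.ShortComplex.ModuleCat

set_option autoImplicit false
universe u
open CategoryTheory CategoryTheory.Limits
attribute [local instance] HasDerivedCategory.standard
open CAlg

namespace Groth.Agent.S6966

/-- Let R be a commutative ring, I an ideal of R and M an R-module. Then the following two conditions
coincide: for each a ∈ I, the endomorphism of M given by multiplication by a can be written as a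
composite M → P → M with P some projective R-module; and for every R-module N and every a ∈ I, a
annihilates Ext^1_R(M, N) = Hom(M[0], N[1]) in D(R). -/
theorem result (R : Type u) [CommRing R] (I : Ideal R) (M : Type u)
    [AddCommGroup M] [Module R M] :
    (∀ a ∈ I, ∃ (P : Type u) (_ : AddCommGroup P) (_ : Module R P) (_ : Module.Projective R P)
        (f : M →ₗ[R] P) (g : P →ₗ[R] M), g ∘ₗ f = a • LinearMap.id) ↔
      ∀ (N : Type u) [AddCommGroup N] [Module R N], ∀ a ∈ I,
        ∀ x : DRing.ExtD R (Dual.inD R M) (Dual.inD R N) 1, a • x = 0 := by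
  constructor
  · intro H N _ _ a ha x
    obtain ⟨P, _, _, hP, f, g, hgf⟩ := H a ha
    have hPp : Projective (ModuleCat.of R P) :=
      (IsProjective.iff_projective (R := R) (P := P)).mp hP
    have hNL : DerivedCategory.TStructure.t.IsLE ((Dual.inD R N)⟦(1 : ℤ)⟧) (-1) :=
      DerivedCategory.TStructure.t.isLE_shift _ 0 1 (-1)
    have h1 : a • x = (a • 𝟙 (Dual.inD R M)) ≫ x := by
      rw [Linear.smul_comp, Category.id_comp]
    have h2 : a • 𝟙 (Dual.inD R M) =
        (DerivedCategory.singleFunctor (ModuleCat.{u} R) 0).map (ModuleCat.ofHom f) ≫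
          (DerivedCategory.singleFunctor (ModuleCat.{u} R) 0).map (ModuleCat.ofHom g) := by
      rw [← Functor.map_comp, ← ModuleCat.ofHom_comp, hgf]
      have h3 : ModuleCat.ofHom (a • (LinearMap.id : M →ₗ[R] M)) = a • 𝟙 (ModuleCat.of R M) := rfl
      rw [h3, Functor.map_smul, CategoryTheory.Functor.map_id]
    have h4 : (DerivedCategory.singleFunctor (ModuleCat.{u} R) 0).map (ModuleCat.ofHom g) ≫ x = 0 :=
      Groth.Agent.Lib.Helper35.KL.hom_single_projective_eq_zero _ (-1) 0 (by omega) _
    rw [h1, h2, Category.assoc, h4, Limits.comp_zero]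
  · intro H a ha
    -- a free presentation of `M`
    let π : (M →₀ R) →ₗ[R] M := Finsupp.linearCombination R (id : M → M)
    have hπ : Function.Surjective π := Finsupp.linearCombination_id_surjective R M
    let N : Submodule R (M →₀ R) := LinearMap.ker π
    let S : ShortComplex (ModuleCat.{u} R) :=
      ShortComplex.mk (X₁ := ModuleCat.of R N) (X₂ := ModuleCat.of R (M →₀ R))
        (X₃ := ModuleCat.of R M) (ModuleCat.ofHom N.subtype) (ModuleCat.ofHom π)
        (ModuleCat.hom_ext (LinearMap.ext fun x => x.2))
    have hS : S.ShortExact := by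
      have hex : S.Exact := by
        rw [ShortComplex.ShortExact.moduleCat_exact_iff_function_exact]
        intro y
        constructor
        · intro hy
          exact ⟨⟨y, hy⟩, rfl⟩
        · rintro ⟨z, rfl⟩
          exact z.2
      have hmono : Mono S.f := (ModuleCat.mono_iff_injective _).mpr N.injective_subtype
      have hepi : Epi S.g := (ModuleCat.epi_iff_surjective _).mpr hπ
      exact ShortComplex.ShortExact.mk hex
    have hT := hS.singleTriangle_distinguished
    have h1 := H N a ha hS.singleδ
    have h2 : (a • 𝟙 (Dual.inD R M)) ≫ hS.singleTriangle.mor₃ = 0 := by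
      rw [Linear.smul_comp, Category.id_comp]
      exact h1
    obtain ⟨φ, hφ⟩ := Pretriangulated.Triangle.coyoneda_exact₃ _ hT (a • 𝟙 (Dual.inD R M)) h2
    obtain ⟨f, hf⟩ := (DerivedCategory.singleFunctor (ModuleCat.{u} R) 0).map_surjective φ
    refine ⟨(M →₀ R), inferInstance, inferInstance, inferInstance, f.hom, π, ?_⟩
    have h3 : (DerivedCategory.singleFunctor (ModuleCat.{u} R) 0).map (f ≫ ModuleCat.ofHom π) =
        (DerivedCategory.singleFunctor (ModuleCat.{u} R) 0).map (a • 𝟙 (ModuleCat.of R M)) := by
      rw [Functor.map_comp, hf, Functor.map_smul, CategoryTheory.Functor.map_id]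
      exact hφ.symm
    have h4 := (DerivedCategory.singleFunctor (ModuleCat.{u} R) 0).map_injective h3
    have h5 := congrArg ModuleCat.Hom.hom h4
    exact h5

end Groth.Agent.S6966
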