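import Groth.Statements.S6969
import Mathlib.LinearAlgebra.Finsupp.Supported
import Mathlib.RingTheory.Finiteness.Finsupp
import Mathlib.LinearAlgebra.FreeModule.Basic

set_option autoImplicit false
universe u
open CAlg

namespace Groth.Agent.S6969

/-- Let R be a commutative ring and φ : M → N an R-linear map which factors through a projective
R-module. If M is finitely generated, then φ factors through a finitely generated projective
R-module. -/
theorem result (R : Type u) [CommRing R] {M N : Type u} [AddCommGroup M]
    [Module R M] [Module.Finite R M] [AddCommGroup N] [Module R N] (φ : M →ₗ[R] N)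
    (h : ∃ (P : Type u) (_ : AddCommGroup P) (_ : Module R P) (_ : Module.Projective R P) (f : M →ₗ[R] P)
      (g : P →ₗ[R] N), g ∘ₗ f = φ) :
    ∃ (P : Type u) (_ : AddCommGroup P) (_ : Module R P) (_ : Module.Projective R P) (_ : Module.Finite R P)
      (f : M →ₗ[R] P) (g : P →ₗ[R] N), g ∘ₗ f = φ := by
  classical
  obtain ⟨P, _, _, hP, f, g, hfg⟩ := h
  obtain ⟨s, hs⟩ := Module.projective_def'.mp hP
  obtain ⟨S, hS⟩ := (Module.finite_def.mp ‹Module.Finite R M›)
  let t : Finset P := S.biUnion fun m => (s (f m)).support
  have hmem : ∀ m, (s ∘ₗ f) m ∈ Finsupp.supported R R (t : Set P) := by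
    have h1 : (⊤ : Submodule R M) ≤ (Finsupp.supported R R (t : Set P)).comap (s ∘ₗ f) := by
      rw [← hS, Submodule.span_le]
      intro m hm
      simp only [Submodule.comap_coe, Set.mem_preimage, SetLike.mem_coe, Finsupp.mem_supported,
        LinearMap.comp_apply]
      intro x hx
      simp only [t, Finset.coe_biUnion, Set.mem_iUnion]
      exact ⟨m, hm, hx⟩
    intro m
    exact h1 (Submodule.mem_top (x := m))
  let e := Finsupp.supportedEquivFinsupp (R := R) (M := R) (t : Set P)
  let f' : M →ₗ[R] ((t : Set P) →₀ R) :=
    e.toLinearMap ∘ₗ ((s ∘ₗ f).codRestrict (Finsupp.supported R R (t : Set P)) hmem)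
  let g' : ((t : Set P) →₀ R) →ₗ[R] N :=
    g ∘ₗ Finsupp.linearCombination R id ∘ₗ (Finsupp.supported R R (t : Set P)).subtype ∘ₗ
      e.symm.toLinearMap
  have : Finite (t : Set P) := t.finite_toSet
  refine ⟨((t : Set P) →₀ R), inferInstance, inferInstance, inferInstance, inferInstance,
    f', g', ?_⟩
  ext m
  have h2 : g' (f' m) = g (Finsupp.linearCombination R id (s (f m))) := by
    simp only [g', f', LinearMap.comp_apply, LinearEquiv.coe_coe, LinearEquiv.symm_apply_apply,
      Submodule.subtype_apply, LinearMap.codRestrict_apply]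
  rw [LinearMap.comp_apply, h2]
  have h3 := LinearMap.congr_fun hs (f m)
  simp only [LinearMap.comp_apply, LinearMap.id_apply] at h3
  rw [h3, ← hfg, LinearMap.comp_apply]

end Groth.Agent.S6969
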