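import Groth.Statements.S6973
import Groth.Agent.S7013
import Groth.Agent.Lib.Helper3.ProjLift

set_option autoImplicit false
universe u
open CategoryTheory CategoryTheory.Limits
attribute [local instance] HasDerivedCategory.standard
open DRing



namespace Groth.Agent.S6973

/-- Let (R, I) be a henselian pair such that the derived base change D(R) → D(R/I) exists, K a
pseudo-coherent object of D(R), and E a bounded above cochain complex of finite projective
R/I-modules which is isomorphic in D(R/I) to K ⊗^L_R R/I. Then there is a bounded above cochain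
complex P of finite projective R-modules, isomorphic to K in D(R), whose termwise reduction P ⊗_R
R/I is isomorphic to E as a complex, and such that P^i is free for every i for which E^i is free. -/
theorem result (R : Type u) [CommRing R]
    (I : Ideal R) [HenselianRing R I] [DRing.HasLBaseChange (Ideal.Quotient.mk I)] (K : Dual.D R)
    (hK : DRing.IsPseudoCoherent' R K) (E : DRing.Cx (R ⧸ I)) (b : ℤ) (hEb : DRing.VanishesAbove E b)
    (hEp : DRing.TermwiseFiniteProjective E)
    (hE : Nonempty (DRing.toD E ≅ (DRing.LBaseChange (Ideal.Quotient.mk I)).obj K)) :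
    ∃ (P : DRing.Cx R) (b' : ℤ), DRing.VanishesAbove P b' ∧ DRing.TermwiseFiniteProjective P ∧
      Nonempty (DRing.toD P ≅ K) ∧ Nonempty ((((ModuleCat.extendScalars (Ideal.Quotient.mk I)).mapHomologicalComplex (ComplexShape.up ℤ)).obj P) ≅ E) ∧
      ∀ i : ℤ, Module.Free (R ⧸ I) (E.X i) → Module.Free R (P.X i) := by
  classical
  have hjac : I ≤ Ideal.jacobson ⊥ := HenselianRing.jac
  let Pc : ObjectProperty (ModuleCat.{u} R) := fun X => Module.Finite R X ∧ Module.Projective R X
  haveI : Pc.IsClosedUnderIsomorphisms :=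
    ⟨fun {X Y} e hX => by
      obtain ⟨hX1, hX2⟩ : Module.Finite R X ∧ Module.Projective R X := hX
      exact ⟨Module.Finite.equiv e.toLinearEquiv, Module.Projective.of_equiv e.toLinearEquiv⟩⟩
  have h1 : ∀ X : ModuleCat.{u} R, Pc X → Module.Projective R X := fun X h => h.2
  have h2 : ∀ X Y : ModuleCat.{u} R, Pc X → (Pc (ModuleCat.of R (X × Y)) ↔ Pc Y) := by
    intro X Y hX
    obtain ⟨hX1, hX2⟩ : Module.Finite R X ∧ Module.Projective R X := hX
    constructor
    · intro h
      obtain ⟨h1', h2'⟩ : Module.Finite R (X × Y) ∧ Module.Projective R (X × Y) := h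
      refine ⟨?_, ?_⟩
      · exact Module.Finite.of_surjective (LinearMap.snd R X Y) LinearMap.snd_surjective
      · exact Module.Projective.of_split (LinearMap.inr R X Y) (LinearMap.snd R X Y)
          (LinearMap.ext fun _ => rfl)
    · intro h
      obtain ⟨h1', h2'⟩ : Module.Finite R Y ∧ Module.Projective R Y := h
      exact ⟨(inferInstance : Module.Finite R (X × Y)),
        (inferInstance : Module.Projective R (X × Y))⟩
  have h3 : ∀ (X Y : ModuleCat.{u} R) (f : X ⟶ Y), Pc X → Pc Y →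
      LinearMap.range f.hom ⊔ I • (⊤ : Submodule R Y) = ⊤ → Function.Surjective f.hom := by
    intro X Y f _ hY h
    obtain ⟨hY1, hY2⟩ : Module.Finite R Y ∧ Module.Projective R Y := hY
    rw [← LinearMap.range_eq_top, eq_top_iff]
    exact Submodule.le_of_le_smul_of_le_jacobson_bot (Module.finite_def.1 hY1) hjac
      (le_of_eq h.symm)
  have hK' : ∃ (Q : DRing.Cx R) (c : ℤ), DRing.VanishesAbove Q c ∧ (∀ i : ℤ, Pc (Q.X i)) ∧
      Nonempty (DRing.toD Q ≅ K) := by
    obtain ⟨Q, c, hQc, hQf, hQK⟩ := hK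
    refine ⟨Q, c, hQc, fun i => ?_, hQK⟩
    haveI := (hQf i).1
    haveI := (hQf i).2
    exact ⟨inferInstance, inferInstance⟩
  have hEt : ∀ i : ℤ, ∃ X : ModuleCat.{u} R, Pc X ∧
      Nonempty (TensorProduct R (R ⧸ I) X ≃ₗ[R ⧸ I] E.X i) := by
    intro i
    haveI := (hEp i).1
    haveI := (hEp i).2
    obtain ⟨P, iP1, iP2, hPf, hPp, ⟨e⟩⟩ :=
      Groth.Agent.Lib.Helper3.exists_finite_projective_lift I (E.X i)
    exact ⟨ModuleCat.of R P, ⟨hPf, hPp⟩, ⟨e⟩⟩
  obtain ⟨P, b', hPb, hPc, hPK, ⟨e2⟩⟩ :=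
    Groth.Agent.S7013.result R I Pc h1 h2 h3 K hK' E b hEb hEt hE
  refine ⟨P, b', hPb, fun i => hPc i, hPK, ⟨e2⟩, fun i hfree => ?_⟩
  obtain ⟨hPf, hPp⟩ : Module.Finite R (P.X i) ∧ Module.Projective R (P.X i) := hPc i
  haveI := (hEp i).1
  -- the degree `i` component of the isomorphism
  let ei : (ModuleCat.extendScalars (Ideal.Quotient.mk I)).obj (P.X i) ≅ E.X i :=
    (HomologicalComplex.eval _ _ i).mapIso e2
  let ei' : TensorProduct R (R ⧸ I) (P.X i) ≃ₗ[R ⧸ I] E.X i := ei.toLinearEquiv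
  -- `E.X i` is finite free, so isomorphic to `(R/I)^ι`
  let bE := Module.Free.chooseBasis (R ⧸ I) (E.X i)
  let eb : E.X i ≃ₗ[R ⧸ I] (Module.Free.ChooseBasisIndex (R ⧸ I) (E.X i) → R ⧸ I) := bE.equivFun
  let θ : TensorProduct R (R ⧸ I) (Module.Free.ChooseBasisIndex (R ⧸ I) (E.X i) → R) ≃ₗ[R ⧸ I]
      (Module.Free.ChooseBasisIndex (R ⧸ I) (E.X i) → R ⧸ I) :=
    TensorProduct.piScalarRight R (R ⧸ I) (R ⧸ I) _
  obtain ⟨φ⟩ := Groth.Agent.Lib.Helper3.nonempty_linearEquiv_of_baseChange I hjac (P.X i)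
    (Module.Free.ChooseBasisIndex (R ⧸ I) (E.X i) → R) ((ei'.trans eb).trans θ.symm)
  exact Module.Free.of_equiv φ.symm

end Groth.Agent.S6973
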