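import Groth.Statements.S6976
import Groth.Agent.Lib.Helper35.TACore
import Groth.Agent.Lib.Helper35.PALib

set_option autoImplicit false
universe u
open CategoryTheory CategoryTheory.Limits
attribute [local instance] HasDerivedCategory.standard
open DRing

namespace Groth.Agent.S6976

/-- Let R be a commutative ring, K a pseudo-coherent object of D(R) and a, b integers. Then K is
isomorphic in D(R) to a complex of projective R-modules vanishing outside [a, b] if and only if K is
perfect with tor amplitude in [a, b]. -/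
theorem result (R : Type u) [CommRing R]
    (K : Dual.D R) (hK : DRing.IsPseudoCoherent' R K) (a b : ℤ) :
    (∃ P : DRing.Cx R, DRing.VanishesOutside P a b ∧ (∀ i : ℤ, Module.Projective R (P.X i)) ∧
        Nonempty (DRing.toD P ≅ K)) ↔ DRing.IsPerfect R K ∧ DRing.HasTorAmplitudeIn R a b K := by
  constructor
  · rintro ⟨P, hP1, hP2, he⟩
    have hTA : DRing.HasTorAmplitudeIn R a b K :=
      ⟨P, hP1, fun i => by have := hP2 i; infer_instance, he⟩
    exact ⟨Groth.Agent.Lib.Helper35.TA.isPerfect_of_isPseudoCoherent'_of_TAmp K hK a b hTA, hTA⟩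
  · rintro ⟨hperf, hTA⟩
    obtain ⟨P, a', b', hP1, hP2, ⟨e⟩⟩ := hperf
    have hPb : DRing.VanishesAbove P b' := fun i hi => hP1 i (Or.inr hi)
    have hTA' : DRing.HasTorAmplitudeIn R a b (DRing.toD P) := by
      obtain ⟨E, hE1, hE2, ⟨e'⟩⟩ := hTA
      exact ⟨E, hE1, hE2, ⟨e' ≪≫ e.symm⟩⟩
    obtain ⟨T, hT1, hT2, ⟨e''⟩⟩ :=
      Groth.Agent.Lib.Helper35.TA.exists_finite_projective_of_TAmp P b' hPb hP2 a b hTA'
    have hPA : Groth.Agent.Lib.Helper35.KL.PA a b' K :=
      ⟨T, hT1, fun i => (hT2 i).2, ⟨e'' ≪≫ e⟩⟩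
    have hLE : DerivedCategory.IsLE K b := by
      obtain ⟨E, hE1, -, ⟨e'⟩⟩ := hTA
      have : E.IsStrictlyLE b := by
        rw [CochainComplex.isStrictlyLE_iff]
        exact fun i hi => hE1 i (Or.inr hi)
      exact DerivedCategory.TStructure.t.isLE_of_iso e' b
    have H := Groth.Agent.Lib.Helper35.KL.PA_tfae K a b'
    have H' := Groth.Agent.Lib.Helper35.KL.PA_tfae K a b
    have h02 := H.out 0 2
    have h20 := H'.out 2 0
    have h3 := (h02.mp hPA).2
    exact h20.mp ⟨fun n hn =>
      ModuleCat.subsingleton_of_isZero (DerivedCategory.isZero_of_isLE K b n hn), h3⟩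

end Groth.Agent.S6976
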