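import Groth.Statements.S6978
import Mathlib
import Groth.Agent.Lib.Helper30.CptModule
import Groth.Agent.Lib.Helper35.TABiprod
import Groth.Agent.Lib.Helper35.PCRes
import Groth.Agent.Lib.Helper6.MPC5

set_option autoImplicit false
universe u
open CategoryTheory CategoryTheory.Limits
attribute [local instance] HasDerivedCategory.standard
open DRing

namespace Groth.Agent.S6978


open Groth.Agent.Lib.Helper30.CptDecomp Groth.Agent.Lib.Helper30.CptMain
  Groth.Agent.Lib.Helper30.CptModule in
/-- a direct summand of a perfect object of `D(R)` is perfect (after S7019, without its unused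
instance hypothesis) -/
theorem isPerfect_of_biprod_left (R : Type u) [CommRing R] (K L : Dual.D R)
    (h : DRing.IsPerfect R (K ⊞ L)) : DRing.IsPerfect R K := by
  have hpc := Groth.Agent.Lib.Helper35.KL.isPseudoCoherent'_of_isPerfect h
  obtain ⟨hpcK, -⟩ := Groth.Agent.Lib.Helper6.MPC.isPC'_of_biprod K L hpc
  obtain ⟨E, a, b, hv, hE, ⟨e⟩⟩ := h
  have hTA : Groth.Agent.Lib.Helper35.TA.TAmp a b (K ⊞ L) := by
    refine ⟨E, hv, fun i => ?_, ⟨e⟩⟩
    have := (hE i).2
    infer_instance
  exact Groth.Agent.Lib.Helper35.TA.isPerfect_of_isPseudoCoherent'_of_TAmp K hpcK a b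
    (Groth.Agent.Lib.Helper35.TA.TAmp.of_biprod_left a b K L hTA)

/-- Let R be a commutative ring and K an object of D(R). Then K is perfect if and only if K is a compact
object of D(R): for every family (E_i) of objects of D(R) indexed by a small type, the canonical map
from the direct sum of the Hom(K, E_i) to Hom(K, ⊕ E_i) is bijective. -/
theorem result (R : Type u) [CommRing R] (K : Dual.D R) :
    DRing.IsPerfect R K ↔
      ∀ (I : Type u) (E : I → Dual.D R) [HasCoproduct fun i : ULift.{u + 1} I => E i.down],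
        Function.Bijective (CohDer.homSumToHomCoprod K (fun i : ULift.{u + 1} I => E i.down)) := by
  have hN : HasExactColimitsOfShape ℕ (ModuleCat.{u} R) := by
    have : HasFilteredColimitsOfSize.{0, 0} (ModuleCat.{u} R) :=
      hasFilteredColimitsOfSize_of_univLE.{0, 0, u, u}
    have := AB5OfSize_of_univLE.{0, 0, u, u} (ModuleCat.{u} R)
    infer_instance
  constructor
  · -- perfect ⇒ compact
    rintro ⟨P, a, b, hz, hfp, ⟨e⟩⟩ I E _
    refine ⟨Groth.Agent.Lib.Helper30.CptDecomp.homSum_injective K _, ?_⟩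
    apply Groth.Agent.Lib.Helper30.CptDecomp.surjective_of_decompAt
    have hproj : ∀ n, Projective (P.X n) := fun n =>
      (IsProjective.iff_projective (R := R) (P.X n)).1 (hfp n).2
    have hle : P.IsStrictlyLE b := by
      rw [CochainComplex.isStrictlyLE_iff]
      intro i hi
      exact hz i (Or.inr hi)
    have hKP : P.IsKProjective := CochainComplex.isKProjective_of_projective P b
    have hfs : ∀ i : ℤ, Groth.Agent.Lib.Helper30.CptMain.FinSupp.{u} (P.X i) := fun i => by
      have := (hfp i).1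
      exact Groth.Agent.Lib.Helper30.CptModule.finSupp_of_finite (P.X i)
    have hD : Groth.Agent.Lib.Helper30.CptDecomp.DecompAt (DerivedCategory.Q.obj P) I :=
      Groth.Agent.Lib.Helper30.CptModule.decompAt_of_bounded P a b hz hfs
    exact (hD.of_iso e).of_equiv Equiv.ulift.symm
  · -- compact ⇒ perfect
    intro h
    have hD' : ∀ I : Type u, Groth.Agent.Lib.Helper30.CptDecomp.DecompAt K (ULift.{u + 1} I) :=
      fun I => Groth.Agent.Lib.Helper30.CptDecomp.decompAt_of_surjective K _
        (fun E' inst => (@h I (fun i => E' ⟨i⟩) inst).2)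
    have hD : ∀ J : Type u, Groth.Agent.Lib.Helper30.CptDecomp.DecompAt K J :=
      fun J => (hD' J).of_equiv Equiv.ulift
    have hDN : Groth.Agent.Lib.Helper30.CptDecomp.DecompAt K ℕ :=
      (hD' (ULift.{u} ℕ)).of_equiv (Equiv.ulift.trans Equiv.ulift)
    have hDZ : Groth.Agent.Lib.Helper30.CptDecomp.DecompAt K ℤ :=
      (hD' (ULift.{u} ℤ)).of_equiv (Equiv.ulift.trans Equiv.ulift)
    let S : Set (ModuleCat.{u} R) := {ModuleCat.of R R}
    have hS : ∀ E ∈ S, Groth.Agent.Lib.Helper30.CptMain.FinSupp.{u} E := by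
      intro E hE
      rw [Set.mem_singleton_iff] at hE
      subst hE
      exact Groth.Agent.Lib.Helper30.CptModule.finSupp_self
    have hgen : ∀ M : ModuleCat.{u} R, ∃ (Y : ModuleCat.{u} R) (π : Y ⟶ M),
        Groth.Agent.Lib.Helper30.CptMain.PSum.{u} S Y ∧ Epi π := by
      intro M
      let G : M → ModuleCat.{u} R := fun _ => ModuleCat.of R R
      let π : ∐ G ⟶ M := Sigma.desc (fun m => ModuleCat.ofHom (LinearMap.toSpanSingleton R M m))
      refine ⟨∐ G, π, ⟨M, G, fun _ => rfl, ⟨Iso.refl _⟩⟩, ?_⟩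
      rw [ModuleCat.epi_iff_surjective]
      intro m
      refine ⟨(Sigma.ι G m).hom (1 : R), ?_⟩
      change (Sigma.ι G m ≫ π).hom (1 : R) = m
      rw [Sigma.ι_desc]
      exact LinearMap.toSpanSingleton_apply_one R M m
    obtain ⟨L, a, b, hz, hfin, ⟨r⟩⟩ :=
      Groth.Agent.Lib.Helper30.CptMain.exists_retract S hS hgen K hD hDN hDZ
    -- `Q L` is perfect
    have hL : DRing.IsPerfect R (DerivedCategory.Q.obj L) := by
      refine ⟨L, a, b, hz, fun i => ?_, ⟨Iso.refl _⟩⟩
      obtain ⟨n, E, hE, ⟨θ⟩⟩ := hfin i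
      obtain rfl : E = fun _ => ModuleCat.of R R := funext (fun j => hE j)
      let ℓ : (L.X i) ≃ₗ[R] (Fin n → R) :=
        (θ ≪≫ ModuleCat.biproductIsoPi (fun _ : Fin n => ModuleCat.of R R)).toLinearEquiv
      exact ⟨Module.Finite.equiv ℓ.symm, Module.Projective.of_equiv ℓ.symm⟩
    -- `K` is a direct summand of `Q L`
    obtain ⟨Z, q, h3, hT⟩ := Pretriangulated.distinguished_cocone_triangle r.i
    have hmono : Mono r.i := mono_of_mono_fac r.retract
    have hz3 : h3 = 0 := Pretriangulated.Triangle.mor₃_eq_zero_of_mono₁ _ hT hmono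
    obtain ⟨e, -, -⟩ := Pretriangulated.exists_iso_binaryBiproduct_of_distTriang _ hT hz3
    have hKZ : DRing.IsPerfect R (K ⊞ Z) := by
      obtain ⟨E, a', b', hv, hE, ⟨e'⟩⟩ := hL
      exact ⟨E, a', b', hv, hE, ⟨e' ≪≫ e⟩⟩
    exact isPerfect_of_biprod_left R K Z hKZ

end Groth.Agent.S6978
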