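import Groth.Statements.S6988
import Groth.Agent.Lib.Helper35.OpcMono

set_option autoImplicit false
universe u
open CategoryTheory CategoryTheory.Limits
attribute [local instance] HasDerivedCategory.standard
open DRing

namespace Groth.Agent.S6988

/-- Let R be a commutative ring, K a pseudo-coherent object of D(R) and i an integer. Then some finitely
presented R-module M admits a morphism K → M[-i] in D(R) that is injective on H^i (here H^i(M[-i]) =
M). -/
theorem result (R : Type u) [CommRing R] (K : Dual.D R)
    (hK : DRing.IsPseudoCoherent' R K) (i : ℤ) :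
    ∃ (M : Type u) (_ : AddCommGroup M) (_ : Module R M) (_ : Module.FinitePresentation R M)
      (f : K ⟶ (shiftFunctor (Dual.D R) (-i)).obj (Dual.inD R M)),
      Mono ((DerivedCategory.homologyFunctor (ModuleCat.{u} R) i).map f) := by
  obtain ⟨E, b, hb, hE, ⟨e⟩⟩ := hK
  have h1 : Module.Finite R (E.X (i - 1)) := (hE (i - 1)).1
  have h2 : Module.Finite R (E.X i) := (hE i).1
  have h3 : Module.Free R (E.X i) := (hE i).2
  have h4 : Module.FinitePresentation R (E.X i) := Module.finitePresentation_of_projective R _
  have hfp : Module.FinitePresentation R (E.opcycles i) :=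
    Groth.Agent.Lib.Helper35.KL.finitePresentation_opcycles E i
  let j : (DerivedCategory.singleFunctor (ModuleCat.{u} R) i).obj (E.opcycles i) ≅
      (shiftFunctor (Dual.D R) (-i)).obj (Dual.inD R (E.opcycles i)) :=
    (((DerivedCategory.singleFunctors (ModuleCat.{u} R)).shiftIso (-i) i 0 (by omega)).app
      (E.opcycles i)).symm
  let f : K ⟶ (shiftFunctor (Dual.D R) (-i)).obj (Dual.inD R (E.opcycles i)) :=
    e.inv ≫ DerivedCategory.Q.map (Groth.Agent.Lib.Helper35.KL.toOpcyclesSingle E i) ≫ j.hom
  refine ⟨E.opcycles i, inferInstance, inferInstance, hfp, f, ?_⟩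
  have hm := Groth.Agent.Lib.Helper35.KL.mono_homologyFunctor_map_Q_map_toOpcyclesSingle E i
  have hf : (DerivedCategory.homologyFunctor (ModuleCat.{u} R) i).map f =
      (DerivedCategory.homologyFunctor (ModuleCat.{u} R) i).map e.inv ≫
      (DerivedCategory.homologyFunctor (ModuleCat.{u} R) i).map
        (DerivedCategory.Q.map (Groth.Agent.Lib.Helper35.KL.toOpcyclesSingle E i)) ≫
      (DerivedCategory.homologyFunctor (ModuleCat.{u} R) i).map j.hom := by
    rw [← Functor.map_comp, ← Functor.map_comp]
  rw [hf]
  have h5 : Mono ((DerivedCategory.homologyFunctor (ModuleCat.{u} R) i).map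
        (DerivedCategory.Q.map (Groth.Agent.Lib.Helper35.KL.toOpcyclesSingle E i)) ≫
      (DerivedCategory.homologyFunctor (ModuleCat.{u} R) i).map j.hom) := mono_comp _ _
  exact mono_comp _ _

end Groth.Agent.S6988
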