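import Groth.Statements.S6989
import Groth.Agent.S6988
import Groth.Agent.Lib.Helper35.NoethRes
import Groth.Agent.Lib.Helper35.IndRep
import Mathlib.RingTheory.Filtration

set_option autoImplicit false
universe u
open CategoryTheory CategoryTheory.Limits
attribute [local instance] HasDerivedCategory.standard
open DRing

namespace Groth.Agent.S6989

section Helpers

variable {A : Type u} [CommRing A]

/-- The natural identification `Hⁱ(N[0][-i]) ≅ N`. -/
noncomputable def theta (i : ℤ) (N : ModuleCat.{u} A) :
    (DerivedCategory.homologyFunctor (ModuleCat.{u} A) i).obj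
      ((shiftFunctor (Dual.D A) (-i)).obj ((DerivedCategory.singleFunctor (ModuleCat.{u} A) 0).obj N)) ≅ N :=
  (DerivedCategory.homologyFunctor (ModuleCat.{u} A) i).mapIso
    (((DerivedCategory.singleFunctors (ModuleCat.{u} A)).shiftIso (-i) i 0 (by omega)).app N) ≪≫
    (DerivedCategory.singleFunctorCompHomologyFunctorIso (ModuleCat.{u} A) i).app N

theorem theta_naturality (i : ℤ) {N N' : ModuleCat.{u} A} (φ : N ⟶ N') :
    (DerivedCategory.homologyFunctor (ModuleCat.{u} A) i).map
      ((shiftFunctor (Dual.D A) (-i)).map ((DerivedCategory.singleFunctor (ModuleCat.{u} A) 0).map φ)) ≫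
      (theta i N').hom = (theta i N).hom ≫ φ := by
  have h1 := ((DerivedCategory.singleFunctors (ModuleCat.{u} A)).shiftIso (-i) i 0 (by omega)).hom.naturality φ
  have h2 := (DerivedCategory.singleFunctorCompHomologyFunctorIso (ModuleCat.{u} A) i).hom.naturality φ
  dsimp at h1 h2
  dsimp [theta]
  rw [← Category.assoc, ← Functor.map_comp]
  erw [h1]
  rw [Functor.map_comp, Category.assoc]
  erw [h2]
  rw [Category.assoc]

theorem isPseudoCoherent'_truncGE [IsNoetherianRing A] (K : Dual.D A)
    (hb : ∃ b : ℤ, ∀ j : ℤ, b < j → Subsingleton (Dual.HD A K j))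
    (hfin : ∀ j : ℤ, Module.Finite A (Dual.HD A K j)) (a : ℤ) :
    DRing.IsPseudoCoherent' A ((DerivedCategory.TStructure.t.truncGE a).obj K) := by
  obtain ⟨b, hb⟩ := hb
  have hG : DerivedCategory.TStructure.t.IsGE ((DerivedCategory.TStructure.t.truncGE a).obj K) a :=
    inferInstance
  refine Groth.Agent.Lib.Helper35.KL.Devissage.of_bounded_homology
    Groth.Agent.Lib.Helper35.KL.devissage_isPseudoCoherent' _ ⟨a, b, fun j hj => ?_⟩ (fun j => ?_)
  · by_cases hja : j < a
    · exact ModuleCat.subsingleton_of_isZero (DerivedCategory.isZero_of_isGE _ a j hja)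
    · have hjb : b < j := by omega
      have hiso := Groth.Agent.Lib.Helper35.KL.isIso_homology_map_truncGEπ' K a j (by omega)
      have := hb j hjb
      have hz : IsZero ((DerivedCategory.homologyFunctor (ModuleCat.{u} A) j).obj K) :=
        ModuleCat.isZero_of_subsingleton _
      exact ModuleCat.subsingleton_of_isZero (hz.of_iso
        (asIso ((DerivedCategory.homologyFunctor (ModuleCat.{u} A) j).map
          ((DerivedCategory.TStructure.t.truncGEπ a).app K))).symm)
  · have hF : Module.Finite A ((DerivedCategory.homologyFunctor (ModuleCat.{u} A) j).obj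
        ((DerivedCategory.TStructure.t.truncGE a).obj K)) := by
      by_cases hja : j < a
      · have := ModuleCat.subsingleton_of_isZero
          (DerivedCategory.isZero_of_isGE ((DerivedCategory.TStructure.t.truncGE a).obj K) a j hja)
        infer_instance
      · have hiso := Groth.Agent.Lib.Helper35.KL.isIso_homology_map_truncGEπ' K a j (by omega)
        have hfj : Module.Finite A ((DerivedCategory.homologyFunctor (ModuleCat.{u} A) j).obj K) := hfin j
        let e : ((DerivedCategory.homologyFunctor (ModuleCat.{u} A) j).obj K) ≃ₗ[A]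
            ((DerivedCategory.homologyFunctor (ModuleCat.{u} A) j).obj
              ((DerivedCategory.TStructure.t.truncGE a).obj K)) :=
          (asIso ((DerivedCategory.homologyFunctor (ModuleCat.{u} A) j).map
            ((DerivedCategory.TStructure.t.truncGEπ a).app K))).toLinearEquiv
        exact Module.Finite.equiv e
    exact Groth.Agent.Lib.Helper35.KL.isPseudoCoherent'_single_of_finite_of_isNoetherianRing _

theorem key [IsNoetherianRing A] (m : Ideal A) (H M : ModuleCat.{u} A) [Module.Finite A M]
    (j : H ⟶ M) [Mono j] (hH : m • (⊤ : Submodule A H) ≠ ⊤) :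
    ∃ n : ℕ, j ≫ ModuleCat.ofHom (Submodule.mkQ (m ^ n • (⊤ : Submodule A M))) ≠ 0 := by
  obtain ⟨k, hk⟩ := Ideal.exists_pow_inf_eq_pow_smul m (LinearMap.range j.hom)
  refine ⟨k + 1, fun h0 => hH ?_⟩
  have hinj : Function.Injective j.hom := (ModuleCat.mono_iff_injective j).mp inferInstance
  have hle : LinearMap.range j.hom ≤ m ^ (k + 1) • (⊤ : Submodule A M) := by
    rintro _ ⟨x, rfl⟩
    have h1 := congrArg (fun t => t.hom x) h0
    exact (Submodule.Quotient.mk_eq_zero _).mp h1
  have h2 : LinearMap.range j.hom ≤ m • LinearMap.range j.hom := by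
    have h3 := hk (k + 1) (by omega)
    have h4 : k + 1 - k = 1 := by omega
    rw [h4, pow_one] at h3
    calc LinearMap.range j.hom = m ^ (k + 1) • (⊤ : Submodule A M) ⊓ LinearMap.range j.hom :=
          (inf_eq_right.mpr hle).symm
      _ = m • (m ^ k • (⊤ : Submodule A M) ⊓ LinearMap.range j.hom) := h3
      _ ≤ m • LinearMap.range j.hom := Submodule.smul_mono le_rfl inf_le_right
  rw [eq_top_iff]
  intro x _
  have hx : j.hom x ∈ m • LinearMap.range j.hom := h2 ⟨x, rfl⟩
  rw [LinearMap.range_eq_map, ← Submodule.map_smul''] at hx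
  obtain ⟨y, hy, hyx⟩ := hx
  rw [← hinj hyx]
  exact hy


end Helpers

/-- Let A be a Noetherian commutative ring, K an object of D(A) whose cohomology vanishes in large
degrees and whose cohomology modules are all finitely generated, m a maximal ideal of A and i an
integer such that m H^i(K) ≠ H^i(K). Then some finitely generated A-module E killed by a power of m
receives a morphism K → E[-i] in D(A) whose induced map H^i(K) → H^i(E[-i]) is nonzero. -/
theorem result (A : Type u) [CommRing A]
    [IsNoetherianRing A] (K : Dual.D A) (hb : ∃ b : ℤ, ∀ j : ℤ, b < j → Subsingleton (Dual.HD A K j))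
    (hfin : ∀ j : ℤ, Module.Finite A (Dual.HD A K j)) (m : Ideal A) [m.IsMaximal] (i : ℤ)
    (hi : m • (⊤ : Submodule A (Dual.HD A K i)) ≠ ⊤) :
    ∃ (E : Type u) (_ : AddCommGroup E) (_ : Module A E) (_ : Module.Finite A E) (n : ℕ)
      (_ : m ^ n • (⊤ : Submodule A E) = ⊥) (f : K ⟶ (shiftFunctor (Dual.D A) (-i)).obj (Dual.inD A E)),
      (DerivedCategory.homologyFunctor (ModuleCat.{u} A) i).map f ≠ 0 := by
  have hK' := isPseudoCoherent'_truncGE K hb hfin (i - 1)
  obtain ⟨M, iM1, iM2, hfp, f', hmono⟩ := Groth.Agent.S6988.result A _ hK' i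
  have hMfin : Module.Finite A M := inferInstance
  have hπ := Groth.Agent.Lib.Helper35.KL.isIso_homology_map_truncGEπ' K (i - 1) i (by omega)
  let f : K ⟶ (shiftFunctor (Dual.D A) (-i)).obj (Dual.inD A M) :=
    (DerivedCategory.TStructure.t.truncGEπ (i - 1)).app K ≫ f'
  have hfm : Mono ((DerivedCategory.homologyFunctor (ModuleCat.{u} A) i).map f) := by
    dsimp only [f]
    rw [Functor.map_comp]
    exact mono_comp _ _
  let j : (DerivedCategory.homologyFunctor (ModuleCat.{u} A) i).obj K ⟶ ModuleCat.of A M :=
    (DerivedCategory.homologyFunctor (ModuleCat.{u} A) i).map f ≫ (theta i (ModuleCat.of A M)).hom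
  have hj : Mono j := mono_comp _ _
  have hMfin' : Module.Finite A (ModuleCat.of A M) := hMfin
  obtain ⟨n, hn⟩ := key m _ (ModuleCat.of A M) j hi
  refine ⟨M ⧸ (m ^ n • (⊤ : Submodule A M)), inferInstance, inferInstance, inferInstance, n, ?_,
    f ≫ (shiftFunctor (Dual.D A) (-i)).map ((DerivedCategory.singleFunctor (ModuleCat.{u} A) 0).map
      (ModuleCat.ofHom (Submodule.mkQ (m ^ n • (⊤ : Submodule A M))))), ?_⟩
  · rw [← Submodule.range_mkQ (m ^ n • (⊤ : Submodule A M)), LinearMap.range_eq_map,
      ← Submodule.map_smul'', Submodule.mkQ_map_self]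
  · intro h0
    apply hn
    dsimp only [j]
    rw [Category.assoc, ← theta_naturality, ← Category.assoc, ← Functor.map_comp, h0, zero_comp]

end Groth.Agent.S6989
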