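import Groth.Statements.S6990
import Groth.Agent.Lib.Helper35.ProjAmp

set_option autoImplicit false
universe u
open CategoryTheory CategoryTheory.Limits
attribute [local instance] HasDerivedCategory.standard
open DRing

namespace Groth.Agent.S6990

open CategoryTheory.Pretriangulated in
/-- Let R be a commutative ring, a, b integers, L an object of D(R) isomorphic to a complex of
projective R-modules vanishing outside [a, b], and K an object of D(R). (1) If H^i(K) = 0 for all i
≥ a, then every morphism L → K in D(R) is zero. (2) If H^i(K) = 0 for all i ≥ a + 1, then for every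
distinguished triangle K → M → L → K[1] there is an isomorphism M ≅ K ⊕ L carrying K → M to the
first inclusion and whose composite with the second projection is M → L. -/
theorem result (R : Type u) [CommRing R] (a b : ℤ)
    (L : Dual.D R) (hL : ∃ P : DRing.Cx R, DRing.VanishesOutside P a b ∧ (∀ i : ℤ, Module.Projective R (P.X i)) ∧
      Nonempty (DRing.toD P ≅ L)) (K : Dual.D R) :
    ((∀ i : ℤ, a ≤ i → Subsingleton (Dual.HD R K i)) → Subsingleton (L ⟶ K)) ∧
      ((∀ i : ℤ, a + 1 ≤ i → Subsingleton (Dual.HD R K i)) → ∀ (T : Triangle (Dual.D R)), T ∈ distinguishedTriangles →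
        T.obj₁ = K → T.obj₃ = L → ∀ [HasBinaryBiproduct T.obj₁ T.obj₃],
          ∃ e : T.obj₂ ≅ T.obj₁ ⊞ T.obj₃, T.mor₁ ≫ e.hom = biprod.inl ∧ e.hom ≫ biprod.snd = T.mor₂) := by
  constructor
  · intro h
    have hK : DerivedCategory.IsLE K (a - 1) := by
      rw [DerivedCategory.isLE_iff]
      intro i hi
      have := h i (by omega)
      exact ModuleCat.isZero_of_subsingleton _
    refine ⟨fun x y => ?_⟩
    rw [Groth.Agent.Lib.Helper35.KL.hom_eq_zero_of_projAmp a b L hL K x,
      Groth.Agent.Lib.Helper35.KL.hom_eq_zero_of_projAmp a b L hL K y]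
  · intro h T hT h1 h3 inst
    obtain ⟨X1, X2, X3, f1, f2, f3⟩ := T
    dsimp only at h1 h3
    subst h1 h3
    have hK : DerivedCategory.IsLE X1 a := by
      rw [DerivedCategory.isLE_iff]
      intro i hi
      have := h i (by omega)
      exact ModuleCat.isZero_of_subsingleton _
    have hK1 : DerivedCategory.IsLE (X1⟦(1 : ℤ)⟧) (a - 1) :=
      DerivedCategory.TStructure.t.isLE_shift _ a 1 (a - 1)
    have hz : f3 = 0 := Groth.Agent.Lib.Helper35.KL.hom_eq_zero_of_projAmp a b X3 hL _ f3
    obtain ⟨e, he1, he2⟩ := Pretriangulated.exists_iso_binaryBiproduct_of_distTriang _ hT hz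
    exact ⟨e, he1, he2.symm⟩

end Groth.Agent.S6990
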