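import Groth.Statements.S6995
import Groth.Agent.Lib.Helper35.RegPerf2
import Groth.Agent.Lib.Helper35.GapSplit

set_option autoImplicit false
universe u
open CategoryTheory CategoryTheory.Limits
attribute [local instance] HasDerivedCategory.standard
open DRing

namespace Groth.Agent.S6995

/-- Let R be a Noetherian regular commutative ring of finite Krull dimension d ≥ 1, K a perfect object
of D(R) and k an integer such that H^i(K) = 0 for every i with k - d + 2 ≤ i ≤ k. Then K splits in
D(R) as the direct sum of its canonical truncations: there is an isomorphism K ≅ τ_(≤ k-d+1) K ⊕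
τ_(≥ k+1) K under which the truncation map τ_(≤ k-d+1) K → K becomes the first inclusion and K →
τ_(≥ k+1) K the second projection. -/
theorem result (R : Type u) [CommRing R] [IsNoetherianRing R]
    (hreg : ∀ p : PrimeSpectrum R, IsRegularLocalRing (Localization.AtPrime p.asIdeal)) (d : ℕ) (hd1 : 1 ≤ d)
    (hd : ringKrullDim R = d) (K : Dual.D R) (hK : DRing.IsPerfect R K) (k : ℤ)
    (hgap : ∀ i : ℤ, k - d + 2 ≤ i → i ≤ k → Subsingleton (Dual.HD R K i))
    [HasBinaryBiproduct
      (((DerivedCategory.TStructure.t : Triangulated.TStructure (Dual.D R)).truncLT (k - d + 2)).obj K)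
      (((DerivedCategory.TStructure.t : Triangulated.TStructure (Dual.D R)).truncGE (k + 1)).obj K)] :
    ∃ e : K ≅
      ((DerivedCategory.TStructure.t : Triangulated.TStructure (Dual.D R)).truncLT (k - d + 2)).obj K ⊞
        ((DerivedCategory.TStructure.t : Triangulated.TStructure (Dual.D R)).truncGE (k + 1)).obj K,
      ((DerivedCategory.TStructure.t : Triangulated.TStructure (Dual.D R)).truncLTι (k - d + 2)).app K ≫ e.hom =
          biprod.inl ∧
        e.hom ≫ biprod.snd =
          ((DerivedCategory.TStructure.t : Triangulated.TStructure (Dual.D R)).truncGEπ (k + 1)).app K := by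
  have hgl : ∀ H : ModuleCat.{u} R, HasProjectiveDimensionLT H (d + 1) := fun H =>
    Groth.Agent.Lib.Helper35.KL.hasProjectiveDimensionLT_of_regular hreg d hd H
  obtain ⟨a₀, b₀, hab⟩ := Groth.Agent.Lib.Helper35.KL.bounded_homology_of_isPerfect K hK
  have hKle : DerivedCategory.IsLE K b₀ := by
    rw [DerivedCategory.isLE_iff]
    intro i hi
    have := hab i (Or.inr hi)
    exact ModuleCat.isZero_of_subsingleton _
  have hL1 : DerivedCategory.TStructure.t.IsLE
      (((DerivedCategory.TStructure.t : Triangulated.TStructure (Dual.D R)).truncLT (k - d + 2)).obj K)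
      (k - d + 1) :=
    DerivedCategory.TStructure.t.isLE_truncLT_obj K (k - d + 2) (k - d + 1)
  have hL : DerivedCategory.IsLE
      ((((DerivedCategory.TStructure.t : Triangulated.TStructure (Dual.D R)).truncLT
        (k - d + 2)).obj K)⟦(1 : ℤ)⟧) (k - d) :=
    DerivedCategory.TStructure.t.isLE_shift _ (k - d + 1) 1 (k - d) (by omega)
  have hG : DerivedCategory.IsGE
      (((DerivedCategory.TStructure.t : Triangulated.TStructure (Dual.D R)).truncGE (k + 1)).obj K)
      (k + 1) := inferInstance
  have hLE : DerivedCategory.IsLE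
      (((DerivedCategory.TStructure.t : Triangulated.TStructure (Dual.D R)).truncGE (k + 1)).obj K)
      b₀ := inferInstance
  have h0 := Groth.Agent.Lib.Helper35.KL.hom_eq_zero_of_gap_aux d hgl k _ hL (b₀ - k).toNat _ b₀
    (by omega) hG hLE
  exact Groth.Agent.Lib.Helper35.KL.exists_split_of_gap K (k - d + 2) (k + 1) (by omega)
    (fun i h1 h2 => by
      have := hgap i h1 (by omega)
      exact ModuleCat.isZero_of_subsingleton _) h0

end Groth.Agent.S6995
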