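import Groth.Statements.S7003
import Groth.Agent.Lib.Helper35.PALib
import Groth.Agent.Lib.Helper35.GapSplit

set_option autoImplicit false
universe u
open CategoryTheory CategoryTheory.Limits
attribute [local instance] HasDerivedCategory.standard
open DRing

namespace Groth.Agent.S7003

/-- Let R be a commutative ring, a an integer and K an object of D(R) whose cohomology vanishes in large
degrees. Assume that for every injective R-linear map M → M' the induced map Hom(K, M[-a]) → Hom(K,
M'[-a]) in D(R) is injective. Then K ≅ τ_(≤ a) K ⊕ τ_(≥ a+1) K by an isomorphism carrying τ_(≤ a) K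
→ K to the first inclusion and K → τ_(≥ a+1) K to the second projection, and τ_(≥ a+1) K is
isomorphic in D(R) to a complex of projective modules vanishing outside [a+1, b] for some integer b.
(The published statement also asserts that the decomposition is unique; that part is not restated.) -/
theorem result (R : Type u) [CommRing R] (a : ℤ) (K : Dual.D R)
    (hKb : ∃ b : ℤ, ∀ i : ℤ, b < i → Subsingleton (Dual.HD R K i))
    (h : ∀ (M M' : Type u) [AddCommGroup M] [Module R M] [AddCommGroup M'] [Module R M'] (g : M →ₗ[R] M'),
      Function.Injective g → Function.Injective (fun x : K ⟶ (shiftFunctor (Dual.D R) (-a)).obj (Dual.inD R M) =>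
        x ≫ (shiftFunctor (Dual.D R) (-a)).map
          ((DerivedCategory.singleFunctor (ModuleCat.{u} R) 0).map (ModuleCat.ofHom g))))
    [HasBinaryBiproduct (((DerivedCategory.TStructure.t : Triangulated.TStructure (Dual.D R)).truncLT (a + 1)).obj K) (((DerivedCategory.TStructure.t : Triangulated.TStructure (Dual.D R)).truncGE (a + 1)).obj K)] :
    (∃ e : K ≅ ((DerivedCategory.TStructure.t : Triangulated.TStructure (Dual.D R)).truncLT (a + 1)).obj K ⊞ ((DerivedCategory.TStructure.t : Triangulated.TStructure (Dual.D R)).truncGE (a + 1)).obj K,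
      ((DerivedCategory.TStructure.t : Triangulated.TStructure (Dual.D R)).truncLTι (a + 1)).app K ≫ e.hom = biprod.inl ∧
        e.hom ≫ biprod.snd = ((DerivedCategory.TStructure.t : Triangulated.TStructure (Dual.D R)).truncGEπ (a + 1)).app K) ∧
      ∃ (P : DRing.Cx R) (b : ℤ), DRing.VanishesOutside P (a + 1) b ∧ (∀ i : ℤ, Module.Projective R (P.X i)) ∧
        Nonempty (DRing.toD P ≅ ((DerivedCategory.TStructure.t : Triangulated.TStructure (Dual.D R)).truncGE (a + 1)).obj K) := by
  obtain ⟨b, hb⟩ := hKb
  have hKle : DerivedCategory.IsLE K b := by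
    rw [DerivedCategory.isLE_iff]
    intro i hi
    have := hb i hi
    exact ModuleCat.isZero_of_subsingleton _
  have hG : DerivedCategory.IsGE
      (((DerivedCategory.TStructure.t : Triangulated.TStructure (Dual.D R)).truncGE (a + 1)).obj K)
      (a + 1) := inferInstance
  have hLE : DerivedCategory.IsLE
      (((DerivedCategory.TStructure.t : Triangulated.TStructure (Dual.D R)).truncGE (a + 1)).obj K)
      b := inferInstance
  have hvan : ∀ (N : ModuleCat.{u} R) (m : ℤ) (_ : m = -a)
      (f : ((DerivedCategory.TStructure.t : Triangulated.TStructure (Dual.D R)).truncGE (a + 1)).obj K ⟶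
        ((DerivedCategory.singleFunctor (ModuleCat.{u} R) 0).obj N)⟦m⟧), f = 0 := by
    intro N m hm f
    subst hm
    have : EnoughInjectives (ModuleCat.{u} R) := inferInstance
    -- composing with an embedding into an injective kills `f`
    have h0 : f ≫ (shiftFunctor (Dual.D R) (-a)).map
        ((DerivedCategory.singleFunctor (ModuleCat.{u} R) 0).map (Injective.ι N)) = 0 := by
      let e : ((DerivedCategory.singleFunctor (ModuleCat.{u} R) 0).obj (Injective.under N))⟦(-a)⟧ ≅
          (DerivedCategory.singleFunctor (ModuleCat.{u} R) a).obj (Injective.under N) :=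
        ((DerivedCategory.singleFunctors (ModuleCat.{u} R)).shiftIso (-a) a 0 (by omega)).app _
      have h1 : (f ≫ (shiftFunctor (Dual.D R) (-a)).map
          ((DerivedCategory.singleFunctor (ModuleCat.{u} R) 0).map (Injective.ι N))) ≫ e.hom = 0 :=
        Groth.Agent.Lib.Helper35.KL.hom_to_single_injective_eq_zero
          (I := Injective.under N) _ (a + 1) a (by omega) _
      exact (cancel_mono e.hom).mp (h1.trans Limits.zero_comp.symm)
    have hinj := h (N : Type u) ((Injective.under N : ModuleCat.{u} R) : Type u) (Injective.ι N).hom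
      ((ModuleCat.mono_iff_injective (Injective.ι N)).mp inferInstance)
    have h1 : (DerivedCategory.TStructure.t.truncGEπ (a + 1)).app K ≫ f = 0 := by
      apply hinj
      change ((DerivedCategory.TStructure.t.truncGEπ (a + 1)).app K ≫ f) ≫
        (shiftFunctor (Dual.D R) (-a)).map
          ((DerivedCategory.singleFunctor (ModuleCat.{u} R) 0).map (Injective.ι N)) =
        0 ≫ (shiftFunctor (Dual.D R) (-a)).map
          ((DerivedCategory.singleFunctor (ModuleCat.{u} R) 0).map (Injective.ι N))
      rw [Category.assoc, h0, Limits.comp_zero, Limits.zero_comp]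
    have hT := DerivedCategory.TStructure.t.triangleLTGE_distinguished (a + 1) K
    obtain ⟨ψ, hψ⟩ := Pretriangulated.Triangle.yoneda_exact₃ _ hT f h1
    have hX0 : DerivedCategory.TStructure.t.IsLE
        ((DerivedCategory.TStructure.t.triangleLTGE (a + 1)).obj K).obj₁ a :=
      DerivedCategory.TStructure.t.isLE_truncLT_obj K (a + 1) a
    have hX1 : DerivedCategory.TStructure.t.IsLE
        (((DerivedCategory.TStructure.t.triangleLTGE (a + 1)).obj K).obj₁⟦(1 : ℤ)⟧) (a - 1) :=
      DerivedCategory.TStructure.t.isLE_shift _ a 1 (a - 1) (by omega)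
    have hN : DerivedCategory.TStructure.t.IsGE
        (((DerivedCategory.singleFunctor (ModuleCat.{u} R) 0).obj N)⟦(-a)⟧) a :=
      DerivedCategory.TStructure.t.isGE_shift _ 0 (-a) a (by omega)
    have hψ0 : ψ = 0 := DerivedCategory.TStructure.t.zero ψ (a - 1) a (by omega)
    rw [hψ, hψ0]
    exact Limits.comp_zero
  have hPA : Groth.Agent.Lib.Helper35.KL.PA (a + 1) b
      (((DerivedCategory.TStructure.t : Triangulated.TStructure (Dual.D R)).truncGE (a + 1)).obj K) :=
    Groth.Agent.Lib.Helper35.KL.PA_of_hom_vanishing _ (a + 1) b hG hLE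
      (fun N f => hvan N _ (by omega) f)
  refine ⟨?_, ?_⟩
  · refine Groth.Agent.Lib.Helper35.KL.exists_split_of_gap K (a + 1) (a + 1) le_rfl
      (fun i h1 h2 => by omega) (fun ψ => ?_)
    have hL1 : DerivedCategory.TStructure.t.IsLE
        (((DerivedCategory.TStructure.t : Triangulated.TStructure (Dual.D R)).truncLT (a + 1)).obj K)
        a := DerivedCategory.TStructure.t.isLE_truncLT_obj K (a + 1) a
    have hL2 : DerivedCategory.TStructure.t.IsLE
        ((((DerivedCategory.TStructure.t : Triangulated.TStructure (Dual.D R)).truncLT (a + 1)).obj K)⟦(1 : ℤ)⟧)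
        (a - 1) := DerivedCategory.TStructure.t.isLE_shift _ a 1 (a - 1) (by omega)
    have hL3 : DerivedCategory.IsLE
        ((((DerivedCategory.TStructure.t : Triangulated.TStructure (Dual.D R)).truncLT (a + 1)).obj K)⟦(1 : ℤ)⟧)
        (a + 1 - 1) := DerivedCategory.TStructure.t.isLE_of_le _ (a - 1) (a + 1 - 1) (by omega)
    exact Groth.Agent.Lib.Helper35.KL.hom_eq_zero_of_projAmp (a + 1) b _ hPA _ ψ
  · obtain ⟨P, hv, hP, he⟩ := hPA
    exact ⟨P, b, hv, hP, he⟩

end Groth.Agent.S7003
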