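import Groth.Statements.S7004
import Groth.Agent.Lib.Helper35.PALib
import Groth.Agent.Lib.Helper35.GapSplit

set_option autoImplicit false
universe u
open CategoryTheory CategoryTheory.Limits
attribute [local instance] HasDerivedCategory.standard
open DRing

namespace Groth.Agent.S7004

/-- Let R be a commutative ring, a an integer and K an object of D(R) whose cohomology vanishes in large
degrees, such that Hom(K, M[-a]) = 0 in D(R) for every R-module M. Then K ≅ τ_(≤ a-1) K ⊕ τ_(≥ a+1)
K by an isomorphism carrying τ_(≤ a-1) K → K to the first inclusion and K → τ_(≥ a+1) K to the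
second projection, and τ_(≥ a+1) K is isomorphic in D(R) to a complex of projective modules
vanishing outside [a+1, b] for some integer b. (The published statement also asserts that the
decomposition is unique; that part is not restated.) -/
theorem result (R : Type u) [CommRing R] (a : ℤ) (K : Dual.D R)
    (hKb : ∃ b : ℤ, ∀ i : ℤ, b < i → Subsingleton (Dual.HD R K i))
    (h : ∀ (M : Type u) [AddCommGroup M] [Module R M],
      Subsingleton (K ⟶ (shiftFunctor (Dual.D R) (-a)).obj (Dual.inD R M)))
    [HasBinaryBiproduct (((DerivedCategory.TStructure.t : Triangulated.TStructure (Dual.D R)).truncLT a).obj K) (((DerivedCategory.TStructure.t : Triangulated.TStructure (Dual.D R)).truncGE (a + 1)).obj K)] :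
    (∃ e : K ≅ ((DerivedCategory.TStructure.t : Triangulated.TStructure (Dual.D R)).truncLT a).obj K ⊞ ((DerivedCategory.TStructure.t : Triangulated.TStructure (Dual.D R)).truncGE (a + 1)).obj K,
      ((DerivedCategory.TStructure.t : Triangulated.TStructure (Dual.D R)).truncLTι a).app K ≫ e.hom = biprod.inl ∧
        e.hom ≫ biprod.snd = ((DerivedCategory.TStructure.t : Triangulated.TStructure (Dual.D R)).truncGEπ (a + 1)).app K) ∧
      ∃ (P : DRing.Cx R) (b : ℤ), DRing.VanishesOutside P (a + 1) b ∧ (∀ i : ℤ, Module.Projective R (P.X i)) ∧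
        Nonempty (DRing.toD P ≅ ((DerivedCategory.TStructure.t : Triangulated.TStructure (Dual.D R)).truncGE (a + 1)).obj K) := by
  obtain ⟨b, hb⟩ := hKb
  have hKle : DerivedCategory.IsLE K b := by
    rw [DerivedCategory.isLE_iff]
    intro i hi
    have := hb i hi
    exact ModuleCat.isZero_of_subsingleton _
  have hHa : Subsingleton ((DerivedCategory.homologyFunctor (ModuleCat.{u} R) a).obj K) :=
    Groth.Agent.Lib.Helper35.KL.subsingleton_homology_of_subsingleton_hom K a (-a) (by omega)
      (fun N => h N)
  -- the top truncation has projective amplitude `[a+1, b]`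
  have hG : DerivedCategory.IsGE
      (((DerivedCategory.TStructure.t : Triangulated.TStructure (Dual.D R)).truncGE (a + 1)).obj K)
      (a + 1) := inferInstance
  have hLE : DerivedCategory.IsLE
      (((DerivedCategory.TStructure.t : Triangulated.TStructure (Dual.D R)).truncGE (a + 1)).obj K)
      b := inferInstance
  have hvan : ∀ (N : ModuleCat.{u} R) (m : ℤ) (_ : m = -a)
      (f : ((DerivedCategory.TStructure.t : Triangulated.TStructure (Dual.D R)).truncGE (a + 1)).obj K ⟶
        ((DerivedCategory.singleFunctor (ModuleCat.{u} R) 0).obj N)⟦m⟧), f = 0 := by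
    intro N m hm f
    subst hm
    have hT := DerivedCategory.TStructure.t.triangleLTGE_distinguished (a + 1) K
    have h1 : (DerivedCategory.TStructure.t.truncGEπ (a + 1)).app K ≫ f = 0 := (h N).elim _ _
    obtain ⟨ψ, hψ⟩ := Pretriangulated.Triangle.yoneda_exact₃ _ hT f h1
    have hX0 : DerivedCategory.TStructure.t.IsLE
        ((DerivedCategory.TStructure.t.triangleLTGE (a + 1)).obj K).obj₁ a :=
      DerivedCategory.TStructure.t.isLE_truncLT_obj K (a + 1) a
    have hX1 : DerivedCategory.TStructure.t.IsLE
        (((DerivedCategory.TStructure.t.triangleLTGE (a + 1)).obj K).obj₁⟦(1 : ℤ)⟧) (a - 1) :=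
      DerivedCategory.TStructure.t.isLE_shift _ a 1 (a - 1) (by omega)
    have hN : DerivedCategory.TStructure.t.IsGE
        (((DerivedCategory.singleFunctor (ModuleCat.{u} R) 0).obj N)⟦(-a)⟧) a :=
      DerivedCategory.TStructure.t.isGE_shift _ 0 (-a) a (by omega)
    have hψ0 : ψ = 0 := DerivedCategory.TStructure.t.zero ψ (a - 1) a (by omega)
    rw [hψ, hψ0]
    exact Limits.comp_zero
  have hPA : Groth.Agent.Lib.Helper35.KL.PA (a + 1) b
      (((DerivedCategory.TStructure.t : Triangulated.TStructure (Dual.D R)).truncGE (a + 1)).obj K) :=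
    Groth.Agent.Lib.Helper35.KL.PA_of_hom_vanishing _ (a + 1) b hG hLE
      (fun N f => hvan N _ (by omega) f)
  refine ⟨?_, ?_⟩
  · refine Groth.Agent.Lib.Helper35.KL.exists_split_of_gap K a (a + 1) (by omega)
      (fun i h1 h2 => ?_) (fun ψ => ?_)
    · have hia : i = a := by omega
      subst hia
      exact ModuleCat.isZero_of_subsingleton _
    · have hL1 : DerivedCategory.TStructure.t.IsLE
          (((DerivedCategory.TStructure.t : Triangulated.TStructure (Dual.D R)).truncLT a).obj K)
          (a - 1) := DerivedCategory.TStructure.t.isLE_truncLT_obj K a (a - 1)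
      have hL2 : DerivedCategory.TStructure.t.IsLE
          ((((DerivedCategory.TStructure.t : Triangulated.TStructure (Dual.D R)).truncLT a).obj K)⟦(1 : ℤ)⟧)
          (a - 2) := DerivedCategory.TStructure.t.isLE_shift _ (a - 1) 1 (a - 2) (by omega)
      have hL3 : DerivedCategory.IsLE
          ((((DerivedCategory.TStructure.t : Triangulated.TStructure (Dual.D R)).truncLT a).obj K)⟦(1 : ℤ)⟧)
          (a + 1 - 1) := DerivedCategory.TStructure.t.isLE_of_le _ (a - 2) (a + 1 - 1) (by omega)
      exact Groth.Agent.Lib.Helper35.KL.hom_eq_zero_of_projAmp (a + 1) b _ hPA _ ψ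
  · obtain ⟨P, hv, hP, he⟩ := hPA
    exact ⟨P, b, hv, hP, he⟩

end Groth.Agent.S7004
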