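import Groth.Statements.S7007
import Groth.Agent.Lib.Helper35.RelFP3

set_option autoImplicit false
universe u
open CAlg

namespace Groth.Agent.S7007

/-- Let R → A be a finite type homomorphism of commutative rings with a surjective R-algebra
homomorphism α : R[x_1, ..., x_n] → A, M an A-module, f_1, ..., f_r elements of A generating the
unit ideal, and for each i a surjective R-algebra homomorphism γ_i : R[z_1, ..., z_(k_i)] → A_(f_i).
Then M is finitely presented as an R[x_1, ..., x_n]-module through α if and only if, for every i,
the localization M_(f_i) is finitely presented as an R[z_1, ..., z_(k_i)]-module through γ_i. -/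
theorem result {R A : Type u} [CommRing R] [CommRing A] [Algebra R A]
    {n : ℕ} (α : MvPolynomial (Fin n) R →ₐ[R] A) (hα : Function.Surjective α) (M : Type u) [AddCommGroup M]
    [Module A M] {r : ℕ} (f : Fin r → A) (hf : Ideal.span (Set.range f) = ⊤) (k : Fin r → ℕ)
    (γ : ∀ i, MvPolynomial (Fin (k i)) R →ₐ[R] Localization.Away (f i)) (hγ : ∀ i, Function.Surjective (γ i)) :
    @Module.FinitePresentation (MvPolynomial (Fin n) R) (M) _ _ (Module.compHom (M) α.toRingHom) ↔
      ∀ i, @Module.FinitePresentation (MvPolynomial (Fin (k i)) R) (LocalizedModule (Submonoid.powers (f i)) M) _ _ (Module.compHom (LocalizedModule (Submonoid.powers (f i)) M) (γ i).toRingHom) := by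
  constructor
  · intro hM i
    have : Algebra.FinitePresentation A (Localization.Away (f i)) :=
      IsLocalization.Away.finitePresentation (f i)
    have h1 := Groth.Agent.Lib.Helper35.FPVia.tensor_of_finitePresentation (R := R)
      (A' := Localization.Away (f i)) M α hα hM (γ i) (hγ i)
    let e := (IsLocalizedModule.isBaseChange (Submonoid.powers (f i)) (Localization.Away (f i))
      (LocalizedModule.mkLinearMap (Submonoid.powers (f i)) M)).equiv
    exact Groth.Agent.Lib.Helper35.FPVia.of_linearEquiv _ e h1
  · intro H
    classical
    -- lift the `f i` and a partition of unity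
    choose h hh using fun i => hα (f i)
    have h1 : (1 : A) ∈ Ideal.span (Set.range f) := by rw [hf]; trivial
    obtain ⟨c, hc⟩ := (Ideal.mem_span_range_iff_exists_fun).mp h1
    choose b hb using fun i => hα (c i)
    let h₀ : MvPolynomial (Fin n) R := 1 - ∑ i, b i * h i
    have hh₀ : α h₀ = 0 := by
      simp only [h₀, map_sub, map_one, map_sum, map_mul, hb, hh, hc, sub_self]
    let s : Set (MvPolynomial (Fin n) R) := insert h₀ (Set.range h)
    have hs : Ideal.span s = ⊤ := by
      rw [Ideal.eq_top_iff_one]
      have e1 : (1 : MvPolynomial (Fin n) R) = h₀ + ∑ i, b i * h i := by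
        simp only [h₀, sub_add_cancel]
      rw [e1]
      refine Ideal.add_mem _ (Ideal.subset_span (Set.mem_insert _ _)) ?_
      refine Ideal.sum_mem _ fun i _ => Ideal.mul_mem_left _ _ ?_
      exact Ideal.subset_span (Set.mem_insert_of_mem _ ⟨i, rfl⟩)
    refine Groth.Agent.Lib.Helper35.FPVia.of_localizationSpan (R := R) α hα M s hs ?_
    intro g hg
    rcases hg with rfl | ⟨i, rfl⟩
    · -- the zero localization
      have hsub : Subsingleton (Localization.Away (α h₀)) :=
        IsLocalization.subsingleton (M := Submonoid.powers (α h₀))
          (by rw [hh₀]; exact ⟨1, by simp⟩)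
      have hsubM : Subsingleton (LocalizedModule (Submonoid.powers (α h₀)) M) :=
        Module.subsingleton (Localization.Away (α h₀)) _
      refine ⟨0, MvPolynomial.aeval (fun _ => 0), Function.surjective_to_subsingleton _, ?_⟩
      unfold Groth.Agent.Lib.Helper35.FPVia
      exact @Module.FinitePresentation.of_subsingleton _ _ _ _ (_) hsubM
    · -- transport along `α (h i) = f i`
      have key : ∀ a : A, f i = a → ∃ (k' : ℕ) (γ' : MvPolynomial (Fin k') R →ₐ[R] Localization.Away a),
          Function.Surjective γ' ∧ Groth.Agent.Lib.Helper35.FPVia (γ' : MvPolynomial (Fin k') R →+* Localization.Away a)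
            (LocalizedModule (Submonoid.powers a) M) := by
        rintro a rfl
        exact ⟨k i, γ i, hγ i, H i⟩
      exact key _ (hh i).symm

end Groth.Agent.S7007
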