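import Groth.Statements.S7011
import Groth.Agent.S7013
import Groth.Agent.Lib.Helper28.StablyFreeLift

set_option autoImplicit false
universe u
open CategoryTheory CategoryTheory.Limits
attribute [local instance] HasDerivedCategory.standard
open DRing



namespace Groth.Agent.S7011

/-- Let R be a commutative ring and I an ideal contained in the Jacobson radical of R (every element of
1 + I is a unit), such that the derived base change D(R) → D(R/I) exists. Let K be a pseudo-coherent
object of D(R) and E a bounded above cochain complex of finitely generated stably free R/I-modules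
which is isomorphic in D(R/I) to K ⊗^L_R R/I. Then there is a bounded above cochain complex P of
finitely generated stably free R-modules, isomorphic to K in D(R), whose termwise reduction P ⊗_R
R/I is isomorphic to E as a complex, and such that P^i is free for every i for which E^i is free. -/
theorem result (R : Type u) [CommRing R] (I : Ideal R)
    (hI : I ≤ Ideal.jacobson (⊥ : Ideal R)) [DRing.HasLBaseChange (Ideal.Quotient.mk I)] (K : Dual.D R)
    (hK : DRing.IsPseudoCoherent' R K) (E : DRing.Cx (R ⧸ I)) (b : ℤ) (hEb : DRing.VanishesAbove E b)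
    (hEs : ∀ i : ℤ, Module.Finite (R ⧸ I) (E.X i) ∧ Module.IsStablyFree (R ⧸ I) (E.X i))
    (hE : Nonempty (DRing.toD E ≅ (DRing.LBaseChange (Ideal.Quotient.mk I)).obj K)) :
    ∃ (P : DRing.Cx R) (b' : ℤ), DRing.VanishesAbove P b' ∧
      (∀ i : ℤ, Module.Finite R (P.X i) ∧ Module.IsStablyFree R (P.X i)) ∧
      Nonempty (DRing.toD P ≅ K) ∧ Nonempty ((((ModuleCat.extendScalars (Ideal.Quotient.mk I)).mapHomologicalComplex (ComplexShape.up ℤ)).obj P) ≅ E) ∧
      ∀ i : ℤ, Module.Free (R ⧸ I) (E.X i) → Module.Free R (P.X i) := by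
  classical
  let Pc : ObjectProperty (ModuleCat.{u} R) :=
    fun X => Module.Finite R X ∧ Module.IsStablyFree R X
  haveI : Pc.IsClosedUnderIsomorphisms :=
    ⟨fun {X Y} e hX => by
      obtain ⟨h1, h2⟩ := hX
      exact ⟨Module.Finite.equiv e.toLinearEquiv, Module.IsStablyFree.equiv e.toLinearEquiv⟩⟩
  have h1 : ∀ X : ModuleCat.{u} R, Pc X → Module.Projective R X := by
    rintro X ⟨_, _⟩
    infer_instance
  have h2 : ∀ X Y : ModuleCat.{u} R, Pc X → (Pc (ModuleCat.of R (X × Y)) ↔ Pc Y) := by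
    rintro X Y ⟨hXf, hXs⟩
    constructor
    · rintro ⟨hf, hs⟩
      have hf' : Module.Finite R (X × Y) := hf
      have hs' : Module.IsStablyFree R (X × Y) := hs
      exact ⟨Module.Finite.of_surjective (LinearMap.snd R X Y) LinearMap.snd_surjective,
        Groth.Agent.Lib.Helper28.StablyFreeLift.stablyFree_of_prod X Y⟩
    · rintro ⟨hf, hs⟩
      exact ⟨(inferInstance : Module.Finite R (X × Y)),
        Groth.Agent.Lib.Helper28.StablyFreeLift.stablyFree_prod X Y⟩
  have h3 : ∀ (X Y : ModuleCat.{u} R) (f : X ⟶ Y), Pc X → Pc Y →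
      LinearMap.range f.hom ⊔ I • (⊤ : Submodule R Y) = ⊤ → Function.Surjective f.hom := by
    rintro X Y f - ⟨hYf, -⟩ h
    exact Groth.Agent.Lib.Helper28.StablyFreeLift.surjective_of_range_sup_smul_top I hI f.hom h
  obtain ⟨Q, c, hQc, hQf, hQK⟩ := hK
  have hEt : ∀ i : ℤ, ∃ X : ModuleCat.{u} R, Pc X ∧
      Nonempty (TensorProduct R (R ⧸ I) X ≃ₗ[R ⧸ I] E.X i) := by
    intro i
    obtain ⟨hf, hs⟩ := hEs i
    exact Groth.Agent.Lib.Helper28.StablyFreeLift.exists_stablyFree_lift I hI (E.X i)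
  obtain ⟨P, b', hPb, hPc, hPK, ⟨e2⟩⟩ := Groth.Agent.S7013.result R I Pc h1 h2 h3 K
    ⟨Q, c, hQc, fun i => ⟨(hQf i).1, by have := (hQf i).2; infer_instance⟩, hQK⟩ E b hEb hEt hE
  refine ⟨P, b', hPb, hPc, hPK, ⟨e2⟩, ?_⟩
  intro i hfree
  obtain ⟨hPf, hPs⟩ := hPc i
  let T : ModuleCat.{u} (R ⧸ I) := (ModuleCat.extendScalars (Ideal.Quotient.mk I)).obj (P.X i)
  let ei : T ≅ E.X i := (HomologicalComplex.eval _ _ i).mapIso e2
  haveI : Module.Free (R ⧸ I) T := Module.Free.of_equiv ei.symm.toLinearEquiv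
  obtain ⟨ρ, hρ, hker⟩ := Groth.Agent.Lib.Helper28.LiftCx.exists_reduction I (P.X i) T
    (LinearEquiv.refl (R ⧸ I) _)
  exact Groth.Agent.Lib.Helper28.StablyFreeLift.free_of_free_reduction I hI (P.X i) T ρ hρ hker

end Groth.Agent.S7011
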