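import Groth.Statements.S7014
import Groth.Agent.Lib.Helper28.Telescope2
import Groth.Agent.Lib.Helper28.Telescope3

set_option autoImplicit false
universe u
open CategoryTheory CategoryTheory.Limits
attribute [local instance] HasDerivedCategory.standard
open DRing

open Groth.Agent.Lib.Helper28.Telescope Groth.Agent.Lib.Helper32.DCoprod

namespace Groth.Agent.S7014

/-- Let R be a commutative ring and K an object of D(R) such that for every sequence (E_n) of objects of
D(R) the canonical map from the direct sum of the Hom(K, E_n) to Hom(K, ⊕_n E_n) is bijective. Let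
L_0 → L_1 → L_2 → ... be a sequence of cochain complexes of R-modules with colimit L (computed
termwise). Then every morphism K → L in D(R) factors through L_n → L for some n, and a morphism K →
L_n in D(R) whose composite with L_n → L vanishes already has vanishing composite with L_n → L_m for
some m ≥ n. -/
theorem result (R : Type u) [CommRing R] (K : Dual.D R)
    (hK : ∀ (E : ℕ → Dual.D R) [HasCoproduct fun i : ULift.{u + 1} ℕ => E i.down],
      Function.Bijective (CohDer.homSumToHomCoprod K (fun i : ULift.{u + 1} ℕ => E i.down)))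
    (L : ℕ ⥤ DRing.Cx R) (c : Cocone L) (hc : IsColimit c) :
    (∀ x : K ⟶ DRing.toD c.pt, ∃ (n : ℕ) (y : K ⟶ DRing.toD (L.obj n)),
        y ≫ DerivedCategory.Q.map (c.ι.app n) = x) ∧
      (∀ (n : ℕ) (y : K ⟶ DRing.toD (L.obj n)), y ≫ DerivedCategory.Q.map (c.ι.app n) = 0 →
        ∃ (m : ℕ) (h : n ≤ m), y ≫ DerivedCategory.Q.map (L.map (homOfLE h)) = 0) := by
  classical
  let Φ : ℕ ⥤ Dual.D R := L ⋙ DerivedCategory.Q
  let S := sigmaCx (Xc L)
  let C : Dual.D R := DerivedCategory.Q.obj S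
  let ι : ∀ n, Φ.obj n ⟶ C := fun n => DerivedCategory.Q.map (sigmaι (Xc L) ⟨n⟩)
  have hC : IsColimit (Cofan.mk C (fun j : ULift.{u + 1} ℕ => ι j.down)) :=
    isColimitCofanQ (Xc L)
  let s : C ⟶ C := DerivedCategory.Q.map (shC L)
  have hs : ∀ n, ι n ≫ s = Φ.map (homOfLE (Nat.le_succ n)) ≫ ι (n + 1) := by
    intro n
    change DerivedCategory.Q.map (sigmaι (Xc L) ⟨n⟩) ≫ DerivedCategory.Q.map (shC L) =
      DerivedCategory.Q.map (L.map (homOfLE (Nat.le_succ n))) ≫
        DerivedCategory.Q.map (sigmaι (Xc L) ⟨n + 1⟩)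
    rw [← Functor.map_comp, ← Functor.map_comp, ι_shC]
  have hKΦ : ∀ [HasCoproduct fun i : ULift.{u + 1} ℕ => Φ.obj i.down],
      Function.Bijective (CohDer.homSumToHomCoprod K (fun i : ULift.{u + 1} ℕ => Φ.obj i.down)) :=
    hK (fun n => Φ.obj n)
  -- the triangle
  have hSES := shortExact_cx L c hc
  let p : C ⟶ DRing.toD c.pt := DerivedCategory.Q.map (πC L c)
  let δ : DRing.toD c.pt ⟶ C⟦(1 : ℤ)⟧ := DerivedCategory.triangleOfSESδ hSES
  have hT : Pretriangulated.Triangle.mk (𝟙 C - s) p δ ∈ distTriang (Dual.D R) := by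
    have h := DerivedCategory.triangleOfSES_distinguished hSES
    have e : DerivedCategory.Q.map (𝟙 S - shC L) = 𝟙 C - s := by
      refine (Functor.map_sub _).trans ?_
      congr 1
      exact CategoryTheory.Functor.map_id _ _
    rw [← e]
    exact h
  have hιπ : ∀ n, ι n ≫ p = DerivedCategory.Q.map (c.ι.app n) := by
    intro n
    change DerivedCategory.Q.map (sigmaι (Xc L) ⟨n⟩) ≫ DerivedCategory.Q.map (πC L c) = _
    rw [← Functor.map_comp, ι_πC]
  constructor
  · intro x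
    -- the shifted system
    let Φ' : ℕ ⥤ Dual.D R := Φ ⋙ shiftFunctor (Dual.D R) (1 : ℤ)
    let ι' : ∀ n, Φ'.obj n ⟶ C⟦(1 : ℤ)⟧ := fun n => (ι n)⟦(1 : ℤ)⟧'
    have hC' : IsColimit (Cofan.mk (C⟦(1 : ℤ)⟧) (fun j : ULift.{u + 1} ℕ => ι' j.down)) :=
      isColimitCofanMkObjOfIsColimit (shiftFunctor (Dual.D R) (1 : ℤ)) _ _ hC
    let s' : C⟦(1 : ℤ)⟧ ⟶ C⟦(1 : ℤ)⟧ := s⟦(1 : ℤ)⟧'
    have hs' : ∀ n, ι' n ≫ s' = Φ'.map (homOfLE (Nat.le_succ n)) ≫ ι' (n + 1) := by
      intro n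
      calc (ι n)⟦(1 : ℤ)⟧' ≫ s⟦(1 : ℤ)⟧' = (ι n ≫ s)⟦(1 : ℤ)⟧' :=
            (CategoryTheory.Functor.map_comp _ _ _).symm
        _ = (Φ.map (homOfLE (Nat.le_succ n)) ≫ ι (n + 1))⟦(1 : ℤ)⟧' := by rw [hs n]
        _ = _ := CategoryTheory.Functor.map_comp _ _ _
    have hKΦ' : ∀ [HasCoproduct fun i : ULift.{u + 1} ℕ => Φ'.obj i.down],
        Function.Bijective
          (CohDer.homSumToHomCoprod K (fun i : ULift.{u + 1} ℕ => Φ'.obj i.down)) :=
      hK (fun n => Φ'.obj n)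
    have h31 : δ ≫ (𝟙 C - s)⟦(1 : ℤ)⟧' = 0 :=
      Pretriangulated.comp_distTriang_mor_zero₃₁ _ hT
    have hm1' : (𝟙 C - s)⟦(1 : ℤ)⟧' = 𝟙 (C⟦(1 : ℤ)⟧) - s' := by
      refine (Functor.map_sub _).trans ?_
      congr 1
      exact CategoryTheory.Functor.map_id _ _
    have h0 : x ≫ δ = 0 := by
      apply eq_zero_of_comp_sub Φ' K ι' hC' hKΦ' s' hs'
      rw [← hm1', Category.assoc, h31, comp_zero]
    obtain ⟨w, hw⟩ := Pretriangulated.Triangle.coyoneda_exact₃ _ hT x h0
    have hw' : x = w ≫ p := hw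
    obtain ⟨n, y, hy⟩ := exists_factor Φ K ι hC hKΦ p
      (fun n => DerivedCategory.Q.map (c.ι.app n)) hιπ
      (fun n m h => by
        change DerivedCategory.Q.map (L.map (homOfLE h)) ≫ DerivedCategory.Q.map (c.ι.app m) = _
        rw [← Functor.map_comp, c.w]) w
    exact ⟨n, y, hy.trans hw'.symm⟩
  · intro n y hy
    have hw : (y ≫ ι n) ≫ p = 0 := by
      rw [Category.assoc, hιπ, hy]
    obtain ⟨z, hz⟩ := Pretriangulated.Triangle.coyoneda_exact₂ _ hT (y ≫ ι n) hw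
    have hz' : y ≫ ι n = z ≫ (𝟙 C - s) := hz
    exact exists_map_eq_zero Φ K ι hC hKΦ s hs n y z hz'

end Groth.Agent.S7014
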