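import Groth.Statements.S7015
import Mathlib.Algebra.Category.ModuleCat.Monoidal.Symmetric
import Mathlib.CategoryTheory.Monoidal.Rigid.Braided
import Mathlib.LinearAlgebra.TensorProduct.Finiteness
import Mathlib.RingTheory.Finiteness.Basic
import Mathlib.LinearAlgebra.FreeModule.Basic
import Mathlib.LinearAlgebra.FreeModule.Finite.Basic
import Mathlib.LinearAlgebra.StdBasis

set_option autoImplicit false
universe u
open CategoryTheory MonoidalCategory
open DRing

namespace Groth.Agent.S7015

open CategoryTheory MonoidalCategory TensorProduct in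
theorem finite_projective_left {R : Type u} [CommRing R] (X Y : ModuleCat.{u} R)
    [ExactPairing X Y] : Module.Finite R X ∧ Module.Projective R X := by
  classical
  let η : R →ₗ[R] (X ⊗[R] Y) := (η_ X Y).hom
  let ε : (Y ⊗[R] X) →ₗ[R] R := (ε_ X Y).hom
  have key : ∀ x : X, (ε.lTensor X) ((TensorProduct.assoc R X Y X) ((η 1) ⊗ₜ[R] x)) =
      x ⊗ₜ[R] (1 : R) := by
    intro x
    have h := ExactPairing.evaluation_coevaluation X Y
    have h2 := congrArg (fun f => f.hom ((1 : R) ⊗ₜ[R] x)) h
    have h3 : (ε.lTensor X) ((TensorProduct.assoc R X Y X) ((η 1) ⊗ₜ[R] x)) =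
      ((1 : R) • x) ⊗ₜ[R] (1 : R) := h2
    rw [h3, one_smul]
  obtain ⟨S, hS⟩ := TensorProduct.exists_finset (η 1)
  have key2 : ∀ x : X, ∑ p ∈ S, ε (p.2 ⊗ₜ[R] x) • p.1 = x := by
    intro x
    have h := key x
    rw [hS, TensorProduct.sum_tmul, map_sum, map_sum] at h
    have h3 := congrArg (TensorProduct.rid R X) h
    simpa using h3
  let i : X →ₗ[R] (S → R) := LinearMap.pi fun p => ε ∘ₗ (TensorProduct.mk R Y X p.1.2)
  let s : (S → R) →ₗ[R] X := Fintype.linearCombination R (fun p : S => p.1.1)
  have hsi : s ∘ₗ i = LinearMap.id := by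
    ext x
    simp only [LinearMap.comp_apply, LinearMap.id_apply, s, i, Fintype.linearCombination_apply,
      LinearMap.pi_apply, TensorProduct.mk_apply]
    exact (Finset.sum_coe_sort S (fun p => ε (p.2 ⊗ₜ[R] x) • p.1)).trans (key2 x)
  refine ⟨?_, ?_⟩
  · exact Module.Finite.of_surjective s (fun x => ⟨i x, LinearMap.congr_fun hsi x⟩)
  · exact Module.Projective.of_split i s hsi


/-- Let R be a commutative ring and M, N R-modules such that N is a left dual of M for the tensor
product of R-modules, i.e. there are a coevaluation R → M ⊗ N and an evaluation N ⊗ M → R satisfying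
the triangle identities (an exact pairing). Then M and N are finitely generated projective
R-modules. -/
theorem result (R : Type u) [CommRing R] (M N : Type u) [AddCommGroup M]
    [Module R M] [AddCommGroup N] [Module R N] [ExactPairing (ModuleCat.of R M) (ModuleCat.of R N)] :
    Module.Finite R M ∧ Module.Projective R M ∧ Module.Finite R N ∧ Module.Projective R N := by
  obtain ⟨h1, h2⟩ := finite_projective_left (ModuleCat.of R M) (ModuleCat.of R N)
  let _ := CategoryTheory.BraidedCategory.exactPairing_swap (ModuleCat.of R M) (ModuleCat.of R N)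
  obtain ⟨h3, h4⟩ := finite_projective_left (ModuleCat.of R N) (ModuleCat.of R M)
  exact ⟨h1, h2, h3, h4⟩

end Groth.Agent.S7015
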