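import Groth.Statements.S7019
import Groth.Agent.Lib.Helper35.TABiprod
import Groth.Agent.Lib.Helper35.PCRes
import Groth.Agent.Lib.Helper6.MPC5

set_option autoImplicit false
universe u
open CategoryTheory CategoryTheory.Limits
attribute [local instance] HasDerivedCategory.standard
open DRing

namespace Groth.Agent.S7019

/-- Let R be a commutative ring such that the derived tensor product - ⊗^L_R M exists on D(R) for every
R-module M, and let K, L be objects of D(R). If K ⊕ L is perfect, then K and L are perfect. -/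
theorem result (R : Type u) [CommRing R] [∀ M : ModuleCat.{u} R, DRing.HasLTensor R M]
    (K L : Dual.D R) [HasBinaryBiproduct K L] (h : DRing.IsPerfect R (K ⊞ L)) :
    DRing.IsPerfect R K ∧ DRing.IsPerfect R L := by
  have hpc := Groth.Agent.Lib.Helper35.KL.isPseudoCoherent'_of_isPerfect h
  obtain ⟨hpcK, hpcL⟩ := Groth.Agent.Lib.Helper6.MPC.isPC'_of_biprod K L hpc
  obtain ⟨E, a, b, hv, hE, ⟨e⟩⟩ := h
  have hTA : Groth.Agent.Lib.Helper35.TA.TAmp a b (K ⊞ L) := by
    refine ⟨E, hv, fun i => ?_, ⟨e⟩⟩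
    have := (hE i).2
    infer_instance
  exact ⟨Groth.Agent.Lib.Helper35.TA.isPerfect_of_isPseudoCoherent'_of_TAmp K hpcK a b
      (Groth.Agent.Lib.Helper35.TA.TAmp.of_biprod_left a b K L hTA),
    Groth.Agent.Lib.Helper35.TA.isPerfect_of_isPseudoCoherent'_of_TAmp L hpcL a b
      (Groth.Agent.Lib.Helper35.TA.TAmp.of_biprod_right a b K L hTA)⟩

end Groth.Agent.S7019
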