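import Groth.Statements.S7020
import Groth.Agent.Lib.Helper6.PCMap

set_option autoImplicit false
universe u
open CategoryTheory CategoryTheory.Limits
attribute [local instance] HasDerivedCategory.standard
open DerCA

namespace Groth.Agent.S7020

open CategoryTheory.Pretriangulated in
/-- Let R → A be a finite type homomorphism of commutative rings, m an integer and K → L → M → K[1] a
distinguished triangle in D(A); all pseudo-coherence below is relative to R. (1) M is
m-pseudo-coherent when K is (m+1)-pseudo-coherent and L is m-pseudo-coherent. (2) L is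
m-pseudo-coherent when K and M are. (3) K is (m+1)-pseudo-coherent when L is (m+1)-pseudo-coherent
and M is m-pseudo-coherent. (4) Pseudo-coherence in every degree of any two of K, L, M implies that
of the third. -/
theorem result {R A : Type u} [CommRing R] [CommRing A] [Algebra R A] [Algebra.FiniteType R A] (m : ℤ) (T : Triangle (Dual.D A))
    (hT : T ∈ distinguishedTriangles) :
    (DerCA.IsRelPseudoCoherent R A (m + 1) T.obj₁ → DerCA.IsRelPseudoCoherent R A m T.obj₂ →
        DerCA.IsRelPseudoCoherent R A m T.obj₃) ∧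
      (DerCA.IsRelPseudoCoherent R A m T.obj₁ → DerCA.IsRelPseudoCoherent R A m T.obj₃ →
        DerCA.IsRelPseudoCoherent R A m T.obj₂) ∧
      (DerCA.IsRelPseudoCoherent R A (m + 1) T.obj₂ → DerCA.IsRelPseudoCoherent R A m T.obj₃ →
        DerCA.IsRelPseudoCoherent R A (m + 1) T.obj₁) ∧
      ((DerCA.IsRelPseudoCoherentAll R A T.obj₁ → DerCA.IsRelPseudoCoherentAll R A T.obj₂ →
          DerCA.IsRelPseudoCoherentAll R A T.obj₃) ∧
        (DerCA.IsRelPseudoCoherentAll R A T.obj₁ → DerCA.IsRelPseudoCoherentAll R A T.obj₃ →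
          DerCA.IsRelPseudoCoherentAll R A T.obj₂) ∧
        (DerCA.IsRelPseudoCoherentAll R A T.obj₂ → DerCA.IsRelPseudoCoherentAll R A T.obj₃ →
          DerCA.IsRelPseudoCoherentAll R A T.obj₁)) := by
  obtain ⟨n, α, hα⟩ := (Algebra.FiniteType.iff_quotient_mvPolynomial'' (R := R) (S := A)).1
    inferInstance
  have key := fun (K : Dual.D A) (m : ℤ) => Lib.Helper6.RestrPC.relPC_of_via α hα K m
  have hT' := (DRing.restrictD (α : MvPolynomial (Fin n) R →+* A)).map_distinguished _ hT
  have tri := fun m : ℤ => Lib.Helper6.MPC.isPC_triangle _ hT' m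
  refine ⟨fun h1 h2 => (key _ _).2 ((tri m).1 ((key _ _).1 h1) ((key _ _).1 h2)),
    fun h1 h3 => (key _ _).2 ((tri m).2.1 ((key _ _).1 h1) ((key _ _).1 h3)),
    fun h2 h3 => (key _ _).2 ((tri m).2.2 ((key _ _).1 h2) ((key _ _).1 h3)),
    fun h1 h2 m' => (key _ _).2 ((tri m').1 ((key _ _).1 (h1 (m' + 1))) ((key _ _).1 (h2 m'))),
    fun h1 h3 m' => (key _ _).2 ((tri m').2.1 ((key _ _).1 (h1 m')) ((key _ _).1 (h3 m'))),
    fun h2 h3 m' => ?_⟩
  have := (tri (m' - 1)).2.2 ((key _ _).1 (h2 (m' - 1 + 1))) ((key _ _).1 (h3 (m' - 1)))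
  exact (key _ _).2 (Lib.Helper6.MPC.isPC_of_le (by omega) this)

end Groth.Agent.S7020
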