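import Groth.Statements.S7021
import Groth.Agent.Lib.Helper6.PCMap

set_option autoImplicit false
universe u
open CategoryTheory CategoryTheory.Limits
attribute [local instance] HasDerivedCategory.standard
open DerCA

namespace Groth.Agent.S7021

/-- Let R → A be a finite type homomorphism of commutative rings, α : R[x_1, ..., x_n] → A a surjective
R-algebra homomorphism and M an A-module. Then relative 0-pseudo-coherence of M over R amounts to M
being a finitely generated A-module, and relative (-1)-pseudo-coherence of M over R amounts to M
being finitely presented as an R[x_1, ..., x_n]-module through α. -/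
theorem result {R A : Type u} [CommRing R] [CommRing A]
    [Algebra R A] [Algebra.FiniteType R A] {n : ℕ} (α : MvPolynomial (Fin n) R →ₐ[R] A)
    (hα : Function.Surjective α) (M : Type u) [AddCommGroup M] [Module A M] :
    (DerCA.IsRelPseudoCoherentModule R A 0 M ↔ Module.Finite A M) ∧
      (DerCA.IsRelPseudoCoherentModule R A (-1) M ↔
        @Module.FinitePresentation (MvPolynomial (Fin n) R) M _ _ (Module.compHom M α.toRingHom)) := by
  have key := fun (K : Dual.D A) (m : ℤ) => Lib.Helper6.RestrPC.relPC_of_via α hα K m
  let φ : MvPolynomial (Fin n) R →+* A := (α : MvPolynomial (Fin n) R →+* A)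
  have hφ : Function.Surjective φ := hα
  let e := ((Lib.Helper6.RestrPC.Φ φ).mapDerivedCategorySingleFunctor 0).app (ModuleCat.of A M)
  constructor
  · constructor
    · intro h
      have h1 := Lib.Helper6.MPC.isPC_of_iso e ((key _ _).1 h)
      have h2 := Lib.Helper6.MPC.finite_of_isPC_zero_single _ h1
      exact Lib.Helper6.RestrPC.finite_of_finite_restr φ (ModuleCat.of A M) h2
    · intro h
      have h2 : Module.Finite (MvPolynomial (Fin n) R)
          ((Lib.Helper6.RestrPC.Φ φ).obj (ModuleCat.of A M)) :=
        Lib.Helper6.RestrPC.finite_restr_of_surjective φ hφ (ModuleCat.of A M) h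
      have h1 := Lib.Helper6.MPC.isPC_zero_single_of_finite
        ((Lib.Helper6.RestrPC.Φ φ).obj (ModuleCat.of A M))
      exact (key _ _).2 (Lib.Helper6.MPC.isPC_of_iso e.symm h1)
  · constructor
    · intro h
      have h1 := Lib.Helper6.MPC.isPC_of_iso e ((key _ _).1 h)
      exact Lib.Helper6.MPC.fp_of_isPC_neg_one_single _ h1
    · intro h
      have h2 : Module.FinitePresentation (MvPolynomial (Fin n) R)
          ((Lib.Helper6.RestrPC.Φ φ).obj (ModuleCat.of A M)) := h
      have h1 := Lib.Helper6.MPC.isPC_neg_one_single_of_fp
        ((Lib.Helper6.RestrPC.Φ φ).obj (ModuleCat.of A M))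
      exact (key _ _).2 (Lib.Helper6.MPC.isPC_of_iso e.symm h1)

end Groth.Agent.S7021
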