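import Groth.Statements.S7023
import Groth.Agent.Lib.Helper6.PCMap

set_option autoImplicit false
universe u
open CategoryTheory CategoryTheory.Limits
attribute [local instance] HasDerivedCategory.standard
open DerCA

namespace Groth.Agent.S7023

/-- Let R → A be a finite type homomorphism of commutative rings, m an integer and K a bounded above
cochain complex of A-modules such that the module K^i is (m - i)-pseudo-coherent relative to R for
every i. Then K is m-pseudo-coherent relative to R. Moreover, K is pseudo-coherent over R as soon as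
each of its terms K^i is so. -/
theorem result {R A : Type u} [CommRing R] [CommRing A] [Algebra R A] [Algebra.FiniteType R A] (m : ℤ) (K : DRing.Cx A) (b : ℤ)
    (hb : DRing.VanishesAbove K b) :
    ((∀ i : ℤ, DerCA.IsRelPseudoCoherentModule R A (m - i) (K.X i)) → DerCA.IsRelPseudoCoherent R A m (DRing.toD K)) ∧
      ((∀ i : ℤ, DerCA.IsRelPseudoCoherentModuleAll R A (K.X i)) →
        DerCA.IsRelPseudoCoherentAll R A (DRing.toD K)) := by
  obtain ⟨n, α, hα⟩ := (Algebra.FiniteType.iff_quotient_mvPolynomial'' (R := R) (S := A)).1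
    inferInstance
  have key := fun (K : Dual.D A) (m : ℤ) => Lib.Helper6.RestrPC.relPC_of_via α hα K m
  have main : ∀ m' : ℤ, (∀ i : ℤ, DerCA.IsRelPseudoCoherentModule R A (m' - i) (K.X i)) →
      DerCA.IsRelPseudoCoherent R A m' (DRing.toD K) := by
    intro m' h
    refine (key _ _).2 ?_
    refine Lib.Helper6.MPC.isPC_of_iso
      ((Lib.Helper6.RestrPC.Φ (α : MvPolynomial (Fin n) R →+* A)).mapDerivedCategoryFactors.app K).symm ?_
    refine Lib.Helper6.MPC.isPC_of_termwise _ b m' ?_ ?_
    · intro i hi
      exact (Lib.Helper6.RestrPC.Φ (α : MvPolynomial (Fin n) R →+* A)).map_isZero (hb i hi)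
    · intro i
      have h1 := (key _ _).1 (h i)
      exact Lib.Helper6.MPC.isPC_of_iso
        (((Lib.Helper6.RestrPC.Φ (α : MvPolynomial (Fin n) R →+* A)).mapDerivedCategorySingleFunctor 0).app
          (K.X i)) h1
  exact ⟨main m, fun h m' => main m' (fun i => h i (m' - i))⟩

end Groth.Agent.S7023
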