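import Groth.Statements.S7024
import Groth.Agent.Lib.Helper6.PCMap

set_option autoImplicit false
universe u
open CategoryTheory CategoryTheory.Limits
attribute [local instance] HasDerivedCategory.standard
open DerCA

namespace Groth.Agent.S7024

/-- Let R → A be a finite type homomorphism of commutative rings, m an integer and K an object of D(A)
whose cohomology vanishes in large degrees. If the module H^i(K) is (m - i)-pseudo-coherent relative
to R for every i, then K is m-pseudo-coherent relative to R. Moreover, K is relatively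
pseudo-coherent over R as soon as each cohomology module H^i(K) has this property over R. -/
theorem result {R A : Type u} [CommRing R] [CommRing A] [Algebra R A] [Algebra.FiniteType R A] (m : ℤ) (K : Dual.D A)
    (hb : ∃ b : ℤ, ∀ i : ℤ, b < i → Subsingleton (Dual.HD A K i)) :
    ((∀ i : ℤ, DerCA.IsRelPseudoCoherentModule R A (m - i) (Dual.HD A K i)) → DerCA.IsRelPseudoCoherent R A m K) ∧
      ((∀ i : ℤ, DerCA.IsRelPseudoCoherentModuleAll R A (Dual.HD A K i)) → DerCA.IsRelPseudoCoherentAll R A K) := by
  obtain ⟨n, α, hα⟩ := (Algebra.FiniteType.iff_quotient_mvPolynomial'' (R := R) (S := A)).1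
    inferInstance
  have key := fun (K : Dual.D A) (m : ℤ) => Lib.Helper6.RestrPC.relPC_of_via α hα K m
  obtain ⟨b, hb⟩ := hb
  have hLE : DerivedCategory.IsLE K b := by
    rw [DerivedCategory.isLE_iff]
    intro i hi
    have := hb i hi
    exact ModuleCat.isZero_of_subsingleton _
  have hLE' := Lib.Helper6.RestrPC.isLE_rD (α : MvPolynomial (Fin n) R →+* A) K b
  have main : ∀ m' : ℤ, (∀ i : ℤ, DerCA.IsRelPseudoCoherentModule R A (m' - i) (Dual.HD A K i)) →
      DerCA.IsRelPseudoCoherent R A m' K := by
    intro m' h
    refine (key _ _).2 ?_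
    refine Lib.Helper6.MPC.isPC_of_homology _ b m' (fun i => ?_)
    have h1 := (key _ _).1 (h i)
    have h2 := Lib.Helper6.MPC.isPC_of_iso
      (((Lib.Helper6.RestrPC.Φ (α : MvPolynomial (Fin n) R →+* A)).mapDerivedCategorySingleFunctor 0).app
        _) h1
    exact Lib.Helper6.MPC.isPC_of_iso
      ((DerivedCategory.singleFunctor (ModuleCat.{u} (MvPolynomial (Fin n) R)) 0).mapIso
        ((Lib.Helper6.ExactDC.homologyIso
          (Lib.Helper6.RestrPC.Φ (α : MvPolynomial (Fin n) R →+* A)) i).app K).symm) h2
  exact ⟨main m, fun h m' => main m' (fun i => h i (m' - i))⟩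

end Groth.Agent.S7024
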