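import Groth.Statements.S7026
import Groth.Agent.Lib.Helper6.RestrPC2
import Groth.Agent.S6942

set_option autoImplicit false
universe u
open CategoryTheory CategoryTheory.Limits
attribute [local instance] HasDerivedCategory.standard
open DerCA

namespace Groth.Agent.S7026

/-- Let R be a Noetherian commutative ring, R → A a finite type ring homomorphism, m an integer, K an
object of D(A) and M an A-module. Then: m-pseudo-coherence of K relative to R is equivalent to
H^i(K) vanishing for all large i together with H^i(K) being a finitely generated A-module for each i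
≥ m; pseudo-coherence of K relative to R (every degree) is equivalent to the same with H^i(K)
finitely generated for every i; and the A-module M is pseudo-coherent relative to R exactly when M
is finitely generated. -/
theorem result {R A : Type u} [CommRing R]
    [IsNoetherianRing R] [CommRing A] [Algebra R A] [Algebra.FiniteType R A] (m : ℤ) (K : Dual.D A)
    (M : Type u) [AddCommGroup M] [Module A M] :
    (DerCA.IsRelPseudoCoherent R A m K ↔
      (∃ b : ℤ, ∀ i : ℤ, b < i → Subsingleton (Dual.HD A K i)) ∧ ∀ i : ℤ, m ≤ i → Module.Finite A (Dual.HD A K i)) ∧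
    (DerCA.IsRelPseudoCoherentAll R A K ↔
      (∃ b : ℤ, ∀ i : ℤ, b < i → Subsingleton (Dual.HD A K i)) ∧ ∀ i : ℤ, Module.Finite A (Dual.HD A K i)) ∧
    (DerCA.IsRelPseudoCoherentModuleAll R A M ↔ Module.Finite A M) := by
  have key : ∀ (K : Dual.D A) (m : ℤ), DerCA.IsRelPseudoCoherent R A m K ↔
      (∃ b : ℤ, ∀ i : ℤ, b < i → Subsingleton (Dual.HD A K i)) ∧
        ∀ i : ℤ, m ≤ i → Module.Finite A (Dual.HD A K i) := by
    intro K m
    constructor
    · rintro ⟨n, α, hα, h⟩
      obtain ⟨⟨b, hb⟩, hfin⟩ := ((Groth.Agent.S6942.result (MvPolynomial (Fin n) R) m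
        ((DRing.restrictD (α : MvPolynomial (Fin n) R →+* A)).obj K)
        (MvPolynomial (Fin n) R)).1).1 h
      refine ⟨⟨b, fun i hi => ?_⟩, fun i hi => ?_⟩
      · exact (Lib.Helper6.RestrPC.subsingleton_hd_rD_iff _ K i).1 (hb i hi)
      · exact (Lib.Helper6.RestrPC.finite_hd_rD_iff _ hα K i).1 (hfin i hi)
    · rintro ⟨⟨b, hb⟩, hfin⟩
      obtain ⟨n, α, hα⟩ := (Algebra.FiniteType.iff_quotient_mvPolynomial'' (R := R) (S := A)).1
        inferInstance
      refine ⟨n, α, hα, ?_⟩
      refine ((Groth.Agent.S6942.result (MvPolynomial (Fin n) R) m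
        ((DRing.restrictD (α : MvPolynomial (Fin n) R →+* A)).obj K)
        (MvPolynomial (Fin n) R)).1).2 ⟨⟨b, fun i hi => ?_⟩, fun i hi => ?_⟩
      · exact (Lib.Helper6.RestrPC.subsingleton_hd_rD_iff _ K i).2 (hb i hi)
      · exact (Lib.Helper6.RestrPC.finite_hd_rD_iff _ hα K i).2 (hfin i hi)
  have key2 : ∀ (K : Dual.D A), DerCA.IsRelPseudoCoherentAll R A K ↔
      (∃ b : ℤ, ∀ i : ℤ, b < i → Subsingleton (Dual.HD A K i)) ∧
        ∀ i : ℤ, Module.Finite A (Dual.HD A K i) := by
    intro K
    constructor
    · intro h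
      exact ⟨((key K 0).1 (h 0)).1, fun i => ((key K i).1 (h i)).2 i le_rfl⟩
    · intro h m'
      exact (key K m').2 ⟨h.1, fun i _ => h.2 i⟩
  refine ⟨key K m, key2 K, ?_⟩
  have e : Dual.HD A (Dual.inD A M) 0 ≃ₗ[A] M :=
    ((DerivedCategory.singleFunctorCompHomologyFunctorIso (ModuleCat.{u} A) 0).app
      (ModuleCat.of A M)).toLinearEquiv
  constructor
  · intro h
    have := ((key2 _).1 h).2 0
    exact Module.Finite.equiv e
  · intro h
    refine (key2 _).2 ⟨⟨0, fun i hi => ?_⟩, fun i => ?_⟩
    · exact ModuleCat.subsingleton_of_isZero (DerivedCategory.isZero_of_isLE _ 0 i hi)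
    · by_cases hi : i = 0
      · subst hi
        exact Module.Finite.equiv e.symm
      · have : Subsingleton (Dual.HD A (Dual.inD A M) i) := by
          rcases lt_or_gt_of_ne hi with h1 | h1
          · exact ModuleCat.subsingleton_of_isZero (DerivedCategory.isZero_of_isGE _ 0 i h1)
          · exact ModuleCat.subsingleton_of_isZero (DerivedCategory.isZero_of_isLE _ 0 i h1)
        infer_instance

end Groth.Agent.S7026
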