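import Groth.Statements.S7031
import Groth.Agent.Lib.Helper35.RegPerf

set_option autoImplicit false
universe u
open CategoryTheory CategoryTheory.Limits
attribute [local instance] HasDerivedCategory.standard
open DRing

namespace Groth.Agent.S7031

/-- Let R be a regular commutative ring (Noetherian, with regular local rings at all primes) such that
the derived tensor product - ⊗^L_R M exists on D(R) for every R-module M, and let K be an object of
D(R). Then K is perfect if and only if H^i(K) = 0 outside a bounded range of degrees and every
H^i(K) is a finitely generated R-module. -/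
theorem result (R : Type u) [CommRing R] [IsNoetherianRing R]
    (hreg : ∀ p : PrimeSpectrum R, IsRegularLocalRing (Localization.AtPrime p.asIdeal)) [∀ M : ModuleCat.{u} R, DRing.HasLTensor R M] (K : Dual.D R) :
    DRing.IsPerfect R K ↔
      (∃ a b : ℤ, ∀ i : ℤ, (i < a ∨ b < i) → Subsingleton (Dual.HD R K i)) ∧ ∀ i : ℤ, Module.Finite R (Dual.HD R K i) := by
  constructor
  · intro hK
    exact ⟨Groth.Agent.Lib.Helper35.KL.bounded_homology_of_isPerfect K hK,
      fun i => Groth.Agent.Lib.Helper35.KL.finite_homology_of_isPerfect K hK i⟩
  · rintro ⟨hb, hf⟩
    refine Groth.Agent.Lib.Helper35.KL.isPerfect_of_bounded_perfect_homology K hb (fun i => ?_)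
    have := hf i
    exact Groth.Agent.Lib.Helper35.KL.isPerfect_single_of_finite_of_regular
      ((DerivedCategory.homologyFunctor (ModuleCat.{u} R) i).obj K) hreg

end Groth.Agent.S7031
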