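import Groth.Statements.S7034
import Groth.Agent.Lib.Helper35.PALib
import Groth.Agent.Lib.Helper35.RegPerf2

set_option autoImplicit false
universe u
open CategoryTheory CategoryTheory.Limits
attribute [local instance] HasDerivedCategory.standard
open DRing

namespace Groth.Agent.S7034

/-- Let R be a commutative ring of global dimension at most d, i.e. every R-module has projective
dimension at most d, such that the derived tensor product - ⊗^L_R M exists on D(R) for every
R-module M. Then: (1) for every R-module M, M[0] is isomorphic in D(R) to a complex of flat modules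
vanishing outside [-d, 0]; (2) every object K of D(R) with H^i(K) = 0 for all i outside [a, b] is
isomorphic in D(R) to a complex of flat modules vanishing outside [a - d, b]. -/
theorem result (R : Type u) [CommRing R] (d : ℕ)
    (hgl : ∀ (M : Type u) [AddCommGroup M] [Module R M], HasProjectiveDimensionLT (ModuleCat.of R M) (d + 1))
    [∀ M : ModuleCat.{u} R, DRing.HasLTensor R M] :
    (∀ (M : Type u) [AddCommGroup M] [Module R M], DRing.HasTorAmplitudeIn R (-(d : ℤ)) 0 (Dual.inD R M)) ∧
      (∀ (K : Dual.D R) (a b : ℤ), (∀ i : ℤ, (i < a ∨ b < i) → Subsingleton (Dual.HD R K i)) →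
        DRing.HasTorAmplitudeIn R (a - d) b K) := by
  have key : ∀ (K : Dual.D R) (a b : ℤ), (∀ i : ℤ, (i < a ∨ b < i) → Subsingleton (Dual.HD R K i)) →
      DRing.HasTorAmplitudeIn R (a - d) b K := by
    intro K a b hK
    have hKle : DerivedCategory.IsLE K b := by
      rw [DerivedCategory.isLE_iff]
      intro i hi
      have := hK i (Or.inr hi)
      exact ModuleCat.isZero_of_subsingleton _
    have hKge : DerivedCategory.IsGE K a := by
      rw [DerivedCategory.isGE_iff]
      intro i hi
      have := hK i (Or.inl hi)
      exact ModuleCat.isZero_of_subsingleton _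
    have hKge' : DerivedCategory.IsGE K (a - d) :=
      DerivedCategory.TStructure.t.isGE_of_ge K (a - d) a (by omega)
    have hPA : Groth.Agent.Lib.Helper35.KL.PA (a - d) b K := by
      refine Groth.Agent.Lib.Helper35.KL.PA_of_hom_vanishing K (a - d) b hKge' hKle (fun N f => ?_)
      have hL : DerivedCategory.TStructure.t.IsLE
          (((DerivedCategory.singleFunctor (ModuleCat.{u} R) 0).obj N)⟦(-(a - d) + 1)⟧) (a - 1 - d) :=
        DerivedCategory.TStructure.t.isLE_shift _ 0 (-(a - d) + 1) (a - 1 - d) (by omega)
      have hKge1 : DerivedCategory.IsGE K (a - 1 + 1) :=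
        DerivedCategory.TStructure.t.isGE_of_ge K (a - 1 + 1) a (by omega)
      exact Groth.Agent.Lib.Helper35.KL.hom_eq_zero_of_gap_aux d (fun H => hgl H) (a - 1) _ hL
        (b - (a - 1)).toNat K b (by omega) hKge1 hKle f
    obtain ⟨P, hv, hP, he⟩ := hPA
    exact ⟨P, hv, fun i => by have := hP i; infer_instance, he⟩
  refine ⟨fun M _ _ => ?_, key⟩
  have h0 := key (Dual.inD R M) 0 0 (fun i hi => ?_)
  · simpa using h0
  · have hz : IsZero ((DerivedCategory.homologyFunctor (ModuleCat.{u} R) i).obj
        ((DerivedCategory.singleFunctor (ModuleCat.{u} R) 0).obj (ModuleCat.of R M))) := by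
      rcases hi with hi | hi
      · have : DerivedCategory.IsGE
            ((DerivedCategory.singleFunctor (ModuleCat.{u} R) 0).obj (ModuleCat.of R M)) 0 :=
          inferInstance
        exact DerivedCategory.isZero_of_isGE _ 0 i hi
      · have : DerivedCategory.IsLE
            ((DerivedCategory.singleFunctor (ModuleCat.{u} R) 0).obj (ModuleCat.of R M)) 0 :=
          inferInstance
        exact DerivedCategory.isZero_of_isLE _ 0 i hi
    exact ModuleCat.subsingleton_of_isZero hz

end Groth.Agent.S7034
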