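import Groth.Statements.S7038
import Mathlib.RingTheory.Finiteness.Ideal
import Mathlib.RingTheory.Spectrum.Prime.Basic

set_option autoImplicit false
universe u
open LocCoh

namespace Groth.Agent.S7038

/-- For an ideal I of a commutative ring R and an R-module M, if every element of M is killed by a power
of I then the support of M is contained in the closed set V(I); conversely, when I is finitely
generated and the support of M is contained in V(I), every element of M is killed by a power of I.
(Finite generation is used only for the converse.) -/
theorem result {R : Type u} [CommRing R] (I : Ideal R)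
    (M : Type u) [AddCommGroup M] [Module R M] :
    (LocCoh.IsPowerTorsion I M → Module.support R M ⊆ PrimeSpectrum.zeroLocus (I : Set R)) ∧
    (I.FG → Module.support R M ⊆ PrimeSpectrum.zeroLocus (I : Set R) → LocCoh.IsPowerTorsion I M) := by
  constructor
  · intro hM p hp
    obtain ⟨m, hm⟩ := Module.mem_support_iff_exists_annihilator.mp hp
    obtain ⟨n, hn⟩ := hM m
    have h1 : I ^ n ≤ p.asIdeal := by
      intro a ha
      apply hm
      rw [Submodule.mem_annihilator_span_singleton]
      exact hn a ha
    have h2 : I ≤ p.asIdeal := Ideal.IsPrime.le_of_pow_le h1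
    exact (PrimeSpectrum.mem_zeroLocus _ _).mpr h2
  · intro hI hsupp m
    set J : Ideal R := (R ∙ m).annihilator with hJ
    have h1 : PrimeSpectrum.zeroLocus (J : Set R) ⊆ PrimeSpectrum.zeroLocus (I : Set R) := by
      intro p hp
      apply hsupp
      rw [Module.mem_support_iff_exists_annihilator]
      exact ⟨m, (PrimeSpectrum.mem_zeroLocus _ _).mp hp⟩
    have h2 : I ≤ J.radical := (PrimeSpectrum.zeroLocus_subset_zeroLocus_iff J I).mp h1
    obtain ⟨n, hn⟩ := Ideal.exists_pow_le_of_le_radical_of_fg h2 hI
    refine ⟨n, fun a ha => ?_⟩
    have := hn ha
    rwa [hJ, Submodule.mem_annihilator_span_singleton] at this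

end Groth.Agent.S7038
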