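import Groth.Statements.S7039
-- import your own Groth.Agent.* helpers here

set_option autoImplicit false
universe u
open LocCoh

namespace Groth.Agent.S7039

/-- If `I` is finitely generated and `I • x` consists of `I`-power torsion elements, then `x` is
`I`-power torsion. -/
theorem mem_torsionSub_of_smul {R : Type u} [CommRing R] (I : Ideal R) (hI : I.FG)
    (M : Type u) [AddCommGroup M] [Module R M] (x : M)
    (hx : ∀ a ∈ I, a • x ∈ DRing.torsionSub I M) : x ∈ DRing.torsionSub I M := by
  classical
  obtain ⟨S, hS⟩ := hI
  -- for each generator a bound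
  have h1 : ∀ a ∈ S, ∃ n : ℕ, ∀ b ∈ I ^ n, b • a • x = 0 := by
    intro a ha
    exact hx a (hS ▸ Submodule.subset_span ha)
  choose! n hn using h1
  let N := S.sup n
  have h2 : ∀ a ∈ I, ∀ b ∈ I ^ N, b • a • x = 0 := by
    intro a ha
    rw [← hS] at ha
    induction ha using Submodule.span_induction with
    | mem a ha =>
      intro b hb
      exact hn a ha b (Ideal.pow_le_pow_right (Finset.le_sup ha) hb)
    | zero => intro b _; simp
    | add a a' _ _ h h' =>
      intro b hb
      rw [add_smul, smul_add, h b hb, h' b hb, add_zero]
    | smul c a _ h =>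
      intro b hb
      rw [smul_assoc, smul_comm b c, h b hb, smul_zero]
  refine ⟨N + 1, fun c hc => ?_⟩
  rw [pow_succ] at hc
  induction hc using Submodule.mul_induction_on' with
  | mem_mul_mem b hb a ha => rw [mul_smul]; exact h2 a ha b hb
  | add c hc c' hc' h h' => rw [add_smul, h, h', add_zero]

/-- For a finitely generated ideal I of a commutative ring R and any R-module M, the quotient of M by
its submodule of I-power torsion elements has no nonzero element annihilated by I. -/
theorem result {R : Type u} [CommRing R] (I : Ideal R) (hI : I.FG)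
    (M : Type u) [AddCommGroup M] [Module R M] :
    LocCoh.torsionBy I (M ⧸ DRing.torsionSub I M) = ⊥ := by
  rw [eq_bot_iff]
  intro y hy
  obtain ⟨x, rfl⟩ := Submodule.Quotient.mk_surjective _ y
  rw [Submodule.mem_bot, Submodule.Quotient.mk_eq_zero]
  apply mem_torsionSub_of_smul I hI M x
  intro a ha
  have := (Submodule.mem_torsionBySet_iff _ _).mp hy ⟨a, ha⟩
  rw [← Submodule.Quotient.mk_smul, Submodule.Quotient.mk_eq_zero] at this
  exact this

end Groth.Agent.S7039
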