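import Groth.Statements.S7040
import Mathlib.Algebra.Homology.ShortComplex.ModuleCat
import Mathlib.Algebra.Category.ModuleCat.EpiMono
import Mathlib.RingTheory.Finiteness.Ideal

set_option autoImplicit false
universe u
open CategoryTheory
open LocCoh

namespace Groth.Agent.S7040

/-- If `J` is a finitely generated ideal and, for all `a ∈ J`, `a • x` is killed by a power
of `I`, then `x` is killed by `I ^ N * J` for some `N`. -/
theorem exists_pow_mul_smul_eq_zero {R : Type u} [CommRing R] (I J : Ideal R) (hJ : J.FG)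
    (M : Type u) [AddCommGroup M] [Module R M] (x : M)
    (hx : ∀ a ∈ J, ∃ n : ℕ, ∀ b ∈ I ^ n, b • a • x = 0) :
    ∃ N : ℕ, ∀ c ∈ I ^ N * J, c • x = 0 := by
  classical
  obtain ⟨S, hS⟩ := hJ
  have h1 : ∀ a ∈ S, ∃ n : ℕ, ∀ b ∈ I ^ n, b • a • x = 0 := by
    intro a ha
    exact hx a (hS ▸ Submodule.subset_span ha)
  choose! n hn using h1
  let N := S.sup n
  have h2 : ∀ a ∈ J, ∀ b ∈ I ^ N, b • a • x = 0 := by
    intro a ha
    rw [← hS] at ha
    induction ha using Submodule.span_induction with
    | mem a ha =>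
      intro b hb
      exact hn a ha b (Ideal.pow_le_pow_right (Finset.le_sup ha) hb)
    | zero => intro b _; simp
    | add a a' _ _ h h' =>
      intro b hb
      rw [add_smul, smul_add, h b hb, h' b hb, add_zero]
    | smul c a _ h =>
      intro b hb
      rw [smul_assoc, smul_comm b c, h b hb, smul_zero]
  refine ⟨N, fun c hc => ?_⟩
  induction hc using Submodule.mul_induction_on' with
  | mem_mul_mem b hb a ha => rw [mul_smul]; exact h2 a ha b hb
  | add c hc c' hc' h h' => rw [add_smul, h, h', add_zero]

/-- For a finitely generated ideal I of a commutative ring R, the property of being an I-power torsion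
module (every element killed by a power of I) is a Serre class in the category of R-modules: it
holds for 0 and is closed under subobjects, quotients and extensions. -/
theorem result {R : Type u} [CommRing R] (I : Ideal R) (hI : I.FG) :
    ObjectProperty.IsSerreClass (C := ModuleCat.{u} R) (fun M => LocCoh.IsPowerTorsion I M) := by
  refine
    { exists_zero := ⟨ModuleCat.of R PUnit, ModuleCat.isZero_of_subsingleton _, ?_⟩
      prop_of_mono := ?_
      prop_of_epi := ?_
      prop_X₂_of_shortExact := ?_ }
  · intro m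
    exact ⟨0, fun a _ => Subsingleton.elim _ _⟩
  · intro M N f hf hN
    rw [ModuleCat.mono_iff_injective] at hf
    intro m
    obtain ⟨n, hn⟩ := hN (f m)
    refine ⟨n, fun a ha => hf ?_⟩
    rw [map_smul, hn a ha, map_zero]
  · intro M N f hf hM
    rw [ModuleCat.epi_iff_surjective] at hf
    intro y
    obtain ⟨m, rfl⟩ := hf y
    obtain ⟨n, hn⟩ := hM m
    refine ⟨n, fun a ha => ?_⟩
    rw [← map_smul, hn a ha, map_zero]
  · intro S hS h₁ h₃
    intro x
    obtain ⟨n, hn⟩ := h₃ (S.g x)
    have hex := (ShortComplex.moduleCat_exact_iff S).mp hS.exact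
    have hJ : (I ^ n).FG := Ideal.FG.pow hI
    have hx : ∀ a ∈ I ^ n, ∃ k : ℕ, ∀ b ∈ I ^ k, b • a • x = 0 := by
      intro a ha
      obtain ⟨y, hy⟩ := hex (a • x) (by rw [map_smul, hn a ha])
      obtain ⟨k, hk⟩ := h₁ y
      refine ⟨k, fun b hb => ?_⟩
      rw [← hy, ← map_smul, hk b hb, map_zero]
    obtain ⟨N, hN⟩ := exists_pow_mul_smul_eq_zero I (I ^ n) hJ S.X₂ x hx
    refine ⟨N + n, fun c hc => hN c ?_⟩
    rwa [pow_add] at hc

end Groth.Agent.S7040
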