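import Groth.Statements.S7041
import Mathlib.RingTheory.TensorProduct.DirectLimitFG
import Mathlib.Algebra.Module.Torsion.Basic

set_option autoImplicit false
universe u
open TensorProduct
open LocCoh

namespace Groth.Agent.S7041

/-- If `R/J → R'/JR'` is bijective and `J` kills `Q`, then `q ↦ q ⊗ 1 : Q → Q ⊗ R'` is injective. -/
theorem injective_tmul_one_of_killed {R R' : Type u} [CommRing R] [CommRing R'] [Algebra R R']
    (J : Ideal R)
    (hq : Function.Bijective
      (Ideal.quotientMap (Ideal.map (algebraMap R R') J) (algebraMap R R') Ideal.le_comap_map))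
    (Q : Type u) [AddCommGroup Q] [Module R Q] (hQ : ∀ a ∈ J, ∀ q : Q, a • q = 0) :
    Function.Injective (fun q : Q => q ⊗ₜ[R] (1 : R')) := by
  have hT : Module.IsTorsionBySet R Q (J : Set R) := fun q a => hQ a a.2 q
  letI := hT.module
  have hmk : ∀ (b : R) (x : Q), Ideal.Quotient.mk J b • x = b • x := fun b x => rfl
  let e := RingEquiv.ofBijective _ hq
  let σ : R' →+* R ⧸ J := (e.symm : (R' ⧸ Ideal.map (algebraMap R R') J) →+* R ⧸ J).comp
    (Ideal.Quotient.mk (Ideal.map (algebraMap R R') J))
  have hσ : ∀ r : R, σ (algebraMap R R' r) = Ideal.Quotient.mk J r := by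
    intro r
    simp only [σ, RingHom.comp_apply]
    rw [RingEquiv.coe_toRingHom, RingEquiv.symm_apply_eq]
    simp [e]
  let B : Q →ₗ[R] R' →ₗ[R] Q := LinearMap.mk₂ R (fun q r' => σ r' • q)
    (fun q₁ q₂ r' => smul_add _ _ _)
    (fun c q r' => by
      obtain ⟨s, hs⟩ := Ideal.Quotient.mk_surjective (σ r')
      rw [← hs, hmk, hmk, smul_comm])
    (fun q r'₁ r'₂ => by rw [map_add, add_smul])
    (fun c q r' => by
      rw [Algebra.smul_def, map_mul, hσ, mul_smul, hmk])
  intro q q' h
  have := congrArg (TensorProduct.lift B) h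
  simpa [B] using this

/-- A finitely generated `I`-power torsion module is killed by a power of `I`. -/
theorem exists_pow_killing {R : Type u} [CommRing R] (I : Ideal R) (M : Type u) [AddCommGroup M]
    [Module R M] (hM : LocCoh.IsPowerTorsion I M) (Q : Submodule R M) (hQ : Q.FG) :
    ∃ n : ℕ, ∀ a ∈ I ^ n, ∀ q ∈ Q, a • q = 0 := by
  classical
  obtain ⟨S, hS⟩ := hQ
  choose n hn using hM
  refine ⟨S.sup n, fun a ha q hq => ?_⟩
  rw [← hS] at hq
  induction hq using Submodule.span_induction with
  | mem x hx => exact hn x a (Ideal.pow_le_pow_right (Finset.le_sup hx) ha)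
  | zero => simp
  | add x y _ _ hx hy => rw [smul_add, hx, hy, add_zero]
  | smul c x _ hx => rw [smul_comm, hx, smul_zero]

/-- Let R → R' be a homomorphism of commutative rings and I an ideal of R such that the induced map
R/I^n → R'/I^n R' is bijective for every n > 0. Then for every R-module M in which every element is
killed by a power of I, the map M → R' ⊗_R M sending m to 1 ⊗ m is bijective. -/
theorem result {R R' : Type u} [CommRing R] [CommRing R'] [Algebra R R']
    (I : Ideal R)
    (hq : ∀ n : ℕ, 0 < n → Function.Bijective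
      (Ideal.quotientMap (Ideal.map (algebraMap R R') (I ^ n)) (algebraMap R R') Ideal.le_comap_map))
    (M : Type u) [AddCommGroup M] [Module R M] (hM : LocCoh.IsPowerTorsion I M) :
    Function.Bijective (fun m : M => (1 : R') ⊗ₜ[R] m) := by
  -- it suffices to treat `m ↦ m ⊗ 1`
  suffices h : Function.Bijective (fun m : M => m ⊗ₜ[R] (1 : R')) by
    have h2 : (fun m : M => (1 : R') ⊗ₜ[R] m) =
        (TensorProduct.comm R M R') ∘ (fun m : M => m ⊗ₜ[R] (1 : R')) := by
      funext m; simp
    rw [h2]
    exact (TensorProduct.comm R M R').bijective.comp h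
  constructor
  · -- injectivity
    have hadd : ∀ m m' : M, (m - m') ⊗ₜ[R] (1 : R') = m ⊗ₜ[R] (1 : R') - m' ⊗ₜ[R] (1 : R') :=
      fun m m' => TensorProduct.sub_tmul m m' 1
    intro m m' hmm'
    have h0 : (m - m') ⊗ₜ[R] (1 : R') = 0 := by
      rw [hadd]; exact sub_eq_zero.mpr hmm'
    rw [← sub_eq_zero]
    set x := m - m' with hx
    -- reduce to a finitely generated submodule
    let P : Submodule R M := Submodule.span R {x}
    have hP : P.FG := Submodule.fg_span_singleton x
    let t : P ⊗[R] R' := (⟨x, Submodule.mem_span_singleton_self x⟩ : P) ⊗ₜ[R] (1 : R')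
    have ht : LinearMap.rTensor R' P.subtype t = 0 := by
      simpa [t] using h0
    obtain ⟨Q, hPQ, hQ, hQt⟩ := TensorProduct.eq_zero_of_fg_of_subtype_eq_zero hP ht
    obtain ⟨n, hn⟩ := exists_pow_killing I M hM Q hQ
    have hkill : ∀ a ∈ I ^ (n + 1), ∀ q : Q, a • q = 0 := by
      intro a ha q
      apply Subtype.ext
      exact hn a (Ideal.pow_le_pow_right (Nat.le_succ n) ha) q q.2
    have hinj := injective_tmul_one_of_killed (R' := R') (I ^ (n + 1)) (hq (n + 1) (Nat.succ_pos n))
      Q hkill
    have h3 : (⟨x, hPQ (Submodule.mem_span_singleton_self x)⟩ : Q) = 0 := by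
      apply hinj
      have h6 : (LinearMap.rTensor R' (Submodule.inclusion hPQ)) t =
          (⟨x, hPQ (Submodule.mem_span_singleton_self x)⟩ : Q) ⊗ₜ[R] (1 : R') := rfl
      simp only [TensorProduct.zero_tmul]
      rw [← h6]
      exact hQt
    exact congrArg Subtype.val h3
  · -- surjectivity
    intro y
    induction y using TensorProduct.induction_on with
    | zero => exact ⟨0, by simp⟩
    | add y y' hy hy' =>
      obtain ⟨m, rfl⟩ := hy
      obtain ⟨m', rfl⟩ := hy'
      exact ⟨m + m', TensorProduct.add_tmul m m' 1⟩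
    | tmul m r' =>
      obtain ⟨n, hn⟩ := hM m
      have hkill : ∀ a ∈ I ^ (n + 1), a • m = 0 :=
        fun a ha => hn a (Ideal.pow_le_pow_right (Nat.le_succ n) ha)
      obtain ⟨rbar, hr⟩ := (hq (n + 1) (Nat.succ_pos n)).2
        (Ideal.Quotient.mk (Ideal.map (algebraMap R R') (I ^ (n + 1))) r')
      obtain ⟨r, rfl⟩ := Ideal.Quotient.mk_surjective rbar
      rw [Ideal.quotientMap_mk, Ideal.Quotient.eq] at hr
      -- `m ⊗ j = 0` for `j` in the extended ideal
      have hzero : ∀ j ∈ Ideal.map (algebraMap R R') (I ^ (n + 1)), ∀ s' : R',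
          m ⊗ₜ[R] (s' * j) = 0 := by
        intro j hj
        rw [Ideal.map] at hj
        induction hj using Submodule.span_induction with
        | mem j hj =>
          obtain ⟨a, ha, rfl⟩ := hj
          intro s'
          rw [mul_comm, ← Algebra.smul_def, ← TensorProduct.smul_tmul, hkill a ha,
            TensorProduct.zero_tmul]
        | zero => intro s'; simp
        | add j j' _ _ h h' => intro s'; rw [mul_add, TensorProduct.tmul_add, h, h', add_zero]
        | smul c j _ h => intro s'; rw [smul_eq_mul, ← mul_assoc]; exact h (s' * c)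
      refine ⟨r • m, ?_⟩
      have h4 : r' = algebraMap R R' r - (algebraMap R R' r - r') := by ring
      have h5 := hzero _ hr 1
      rw [one_mul] at h5
      show (r • m) ⊗ₜ[R] (1 : R') = m ⊗ₜ[R] r'
      rw [h4, TensorProduct.tmul_sub, h5, sub_zero, TensorProduct.smul_tmul, Algebra.smul_def,
        mul_one]

end Groth.Agent.S7041
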