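import Groth.Statements.S7043
import Groth.Agent.Lib.Helper35.DCPrelude
import Mathlib.RingTheory.Ideal.Operations

set_option autoImplicit false
universe u
attribute [local instance] HasDerivedCategory.standard
open DRing

namespace Groth.Agent.S7043

/-- Let f be an element of a commutative ring A and let M be an A-module which, placed in degree 0, is
derived complete with respect to the ideal (f). Then the ideal J = ⋂ f^n A annihilates the submodule
⋂ f^n M, which is the kernel of M → lim M/f^n M. (The case M = A says that J has square zero when A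
itself is derived complete.) -/
theorem result {A : Type u} [CommRing A] (f : A)
    (M : Type u) [AddCommGroup M] [Module A M]
    (hc : DRing.IsDerivedComplete (Ideal.span {f}) (Dual.inD A M)) :
    (⨅ n : ℕ, Ideal.span {f ^ n}) • (⨅ n : ℕ, (Ideal.span {f ^ n}) • (⊤ : Submodule A M)) = (⊥ : Submodule A M) := by
  rw [Groth.Agent.Lib.Helper35.DC.isDerivedComplete_inD_iff] at hc
  have hT := (hc f (Ideal.mem_span_singleton_self f)).1
  rw [eq_bot_iff, Submodule.smul_le]
  intro a ha x hx
  rw [Submodule.mem_bot]
  have ha' : ∀ n : ℕ, ∃ b, a = f ^ n * b := fun n => by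
    have h1 := (Ideal.mem_iInf.mp ha) n
    rw [Ideal.mem_span_singleton] at h1
    exact h1
  have hx' : ∀ n : ℕ, ∃ y : M, x = f ^ n • y := fun n => by
    have h1 := (Submodule.mem_iInf _).mp hx n
    rw [Submodule.ideal_span_singleton_smul] at h1
    obtain ⟨y, -, hy⟩ := (Submodule.mem_smul_pointwise_iff_exists _ _ _).mp h1
    exact ⟨y, hy.symm⟩
  choose b hb using ha'
  choose y hy using hx'
  have hu : Groth.Agent.Lib.Helper35.DC.shiftT f M (fun i => b i • x) = 0 := by
    rw [Groth.Agent.Lib.Helper35.DC.shiftT_eq_zero_iff]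
    intro i
    have h1 : f ^ i * (b i - f * b (i + 1)) = 0 := by
      rw [mul_sub, ← hb i, ← mul_assoc, ← pow_succ, ← hb (i + 1), sub_self]
    have h2 : (b i - f * b (i + 1)) • x = 0 := by
      rw [hy i, smul_smul, mul_comm, h1, zero_smul]
    rw [sub_smul, mul_smul] at h2
    exact sub_eq_zero.mp h2
  have h3 := (Groth.Agent.Lib.Helper35.DC.shiftT_injective_iff f).mp hT _ hu
  have h0 := congrFun h3 0
  simp only [Pi.zero_apply] at h0
  rw [hb 0, pow_zero, one_mul]
  exact h0

end Groth.Agent.S7043
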