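import Groth.Statements.S7047
import Groth.Agent.Lib.Helper35.DCObj
import Groth.Agent.Lib.Helper35.DCRad

set_option autoImplicit false
universe u
attribute [local instance] HasDerivedCategory.standard
open DRing

namespace Groth.Agent.S7047

/-- For a commutative ring A and an object K of D(A), the set of elements f of A such that every
morphism from A_f (placed in degree 0) to any shift K[n] vanishes is a radical ideal of A. -/
theorem result {A : Type u} [CommRing A] (K : Dual.D A) :
    ∃ J : Ideal A, J.IsRadical ∧
      (J : Set A) = {f : A | ∀ n : ℤ, Subsingleton (Dual.inD A (Localization.Away f) ⟶ K⟦n⟧)} := by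
  classical
  have hmem : ∀ f : A, (∀ n : ℤ, Subsingleton (Dual.inD A (Localization.Away f) ⟶ K⟦n⟧)) ↔
      ∀ n : ℤ, Function.Bijective (Groth.Agent.Lib.Helper35.DC.shiftT f
        ((DerivedCategory.homologyFunctor (ModuleCat.{u} A) n).obj K)) := fun f =>
    Groth.Agent.Lib.Helper35.DC.subsingleton_hom_away_obj_iff f K
  let J : Ideal A :=
    { carrier := {f : A | ∀ n : ℤ, Function.Bijective (Groth.Agent.Lib.Helper35.DC.shiftT f
        ((DerivedCategory.homologyFunctor (ModuleCat.{u} A) n).obj K))}
      zero_mem' := fun n => Groth.Agent.Lib.Helper35.DC.shiftT_zero_bijective _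
      add_mem' := by
        intro f g hf hg n
        refine Groth.Agent.Lib.Helper35.DC.shiftT_bijective_of_pow_mem_span {f, g} _ ?_ (f + g) 1 ?_
        · intro x hx
          simp only [Finset.mem_insert, Finset.mem_singleton] at hx
          rcases hx with rfl | rfl
          · exact hf n
          · exact hg n
        · rw [pow_one]
          refine Ideal.add_mem _ (Ideal.subset_span ?_) (Ideal.subset_span ?_) <;> simp
      smul_mem' := by
        intro c f hf n
        refine Groth.Agent.Lib.Helper35.DC.shiftT_bijective_of_pow_mem_span {f} _ ?_ (c • f) 1 ?_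
        · intro x hx
          simp only [Finset.mem_singleton] at hx
          subst hx
          exact hf n
        · rw [pow_one, smul_eq_mul]
          exact Ideal.mul_mem_left _ _ (Ideal.subset_span (by simp)) }
  refine ⟨J, ?_, ?_⟩
  · intro f hf
    obtain ⟨k, hk⟩ := hf
    intro n
    refine Groth.Agent.Lib.Helper35.DC.shiftT_bijective_of_pow_mem_span {f ^ k} _ ?_ f k ?_
    · intro x hx
      simp only [Finset.mem_singleton] at hx
      subst hx
      exact hk n
    · exact Ideal.subset_span (by simp)
  · ext f
    exact (hmem f).symm

end Groth.Agent.S7047
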