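import Groth.Statements.S7052
import Mathlib.Algebra.Homology.DerivedCategory.SingleTriangle
import Mathlib.Algebra.Homology.ShortComplex.ModuleCat

set_option autoImplicit false
universe u
attribute [local instance] HasDerivedCategory.standard
open DRing

namespace Groth.Agent.S7052

open CategoryTheory

/-- For a commutative ring A, an ideal I, an A-module M and a submodule M₁ such that both M₁ and M/M₁
(placed in degree 0) are derived complete with respect to I, the module M is derived complete with
respect to I. -/
theorem result {A : Type u} [CommRing A] (I : Ideal A)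
    (M : Type u) [AddCommGroup M] [Module A M] (M₁ : Submodule A M)
    (h1 : DRing.IsDerivedComplete I (Dual.inD A M₁)) (h3 : DRing.IsDerivedComplete I (Dual.inD A (M ⧸ M₁))) :
    DRing.IsDerivedComplete I (Dual.inD A M) := by
  let S : ShortComplex (ModuleCat.{u} A) :=
    ShortComplex.mk (ModuleCat.ofHom M₁.subtype) (ModuleCat.ofHom M₁.mkQ) (by ext; simp)
  have hS : S.ShortExact := ModuleCat.shortComplex_shortExact S
    (LinearMap.exact_subtype_mkQ M₁) M₁.injective_subtype M₁.mkQ_surjective
  have hT := hS.singleTriangle_distinguished
  intro f hf n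
  have hTn := Pretriangulated.Triangle.shift_distinguished _ hT n
  suffices h : ∀ φ : Dual.inD A (Localization.Away f) ⟶ (Dual.inD A M)⟦n⟧, φ = 0 from
    ⟨fun φ ψ => by rw [h φ, h ψ]⟩
  intro φ
  obtain ⟨g, hg⟩ := Pretriangulated.Triangle.coyoneda_exact₂ _ hTn φ
    ((h3 f hf n).elim _ _)
  rw [hg, (h1 f hf n).elim g 0]
  exact Limits.zero_comp

end Groth.Agent.S7052
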