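import Groth.Statements.S7057
import Groth.Agent.Lib.Helper35.DCRes

set_option autoImplicit false
universe u
attribute [local instance] HasDerivedCategory.standard
open DRing

namespace Groth.Agent.S7057

/-- For a homomorphism of commutative rings A → B, an ideal I of A and an object L of D(B), L is derived
complete with respect to the extended ideal IB if and only if L viewed in D(A) by restriction of
scalars is derived complete with respect to I. -/
theorem result {A B : Type u} [CommRing A] [CommRing B] (φ : A →+* B)
    (I : Ideal A) (L : Dual.D B) :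
    DRing.IsDerivedComplete (I.map φ) L ↔ DRing.IsDerivedComplete I ((DRing.restrictD φ).obj L) := by
  classical
  constructor
  · intro h f hf
    refine (Groth.Agent.Lib.Helper35.DC.subsingleton_hom_away_obj_iff f _).mpr (fun n => ?_)
    rw [Groth.Agent.Lib.Helper35.DC.shiftT_bijective_homology_restrict_iff]
    exact (Groth.Agent.Lib.Helper35.DC.subsingleton_hom_away_obj_iff (φ f) L).mp
      (h (φ f) (Ideal.mem_map_of_mem φ hf)) n
  · intro h g hg
    refine (Groth.Agent.Lib.Helper35.DC.subsingleton_hom_away_obj_iff g L).mpr (fun n => ?_)
    obtain ⟨t, ht, hgt⟩ := Submodule.mem_span_finite_of_mem_span hg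
    refine Groth.Agent.Lib.Helper35.DC.shiftT_bijective_of_pow_mem_span t _ ?_ g 1
      (by rwa [pow_one])
    intro x hx
    obtain ⟨f, hf, rfl⟩ := ht hx
    exact (Groth.Agent.Lib.Helper35.DC.shiftT_bijective_homology_restrict_iff φ f L n).mp
      ((Groth.Agent.Lib.Helper35.DC.subsingleton_hom_away_obj_iff f _).mp (h f hf) n)

end Groth.Agent.S7057
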