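import Groth.Statements.S7062
import Groth.Agent.Lib.Helper73.GlueTor

set_option maxSynthPendingDepth 3

set_option autoImplicit false
universe u
open EtGlue

namespace Groth.Agent.S7062

/-- For a glueing pair (R → R', f), i.e. R/f^nR → R'/f^nR' is bijective for all n > 0 and the sequence 0
→ R → R' ⊕ R_f → R'_f → 0 is exact, the group Tor_1^R(R', f^n R) vanishes for every n > 0 (Tor
computed by resolving the second argument, the ideal f^n R). -/
theorem result {R R' : Type u} [CommRing R] [CommRing R'] [Algebra R R']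
    (f : R) (h : EtGlue.IsGlueingPair R R' f) (n : ℕ) (hn : 0 < n) :
    Subsingleton (DRing.Tor R 1 R' ↥(Ideal.span ({f ^ n} : Set R))) := by
  have hmem : ∀ r : R, (LinearMap.toSpanSingleton R R (f ^ n)) r ∈
      (Ideal.span ({f ^ n} : Set R)) := fun r =>
    Ideal.mem_span_singleton'.mpr ⟨r, by simp [LinearMap.toSpanSingleton_apply]⟩
  refine Groth.Agent.Lib.Helper73.GlueTor.tor_one_subsingleton f h _
    ((LinearMap.toSpanSingleton R R (f ^ n)).codRestrict (Ideal.span ({f ^ n} : Set R)) hmem)
    ?_ ?_
  · rintro ⟨y, hy⟩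
    obtain ⟨a, rfl⟩ := Ideal.mem_span_singleton'.mp hy
    exact ⟨a, Subtype.ext (by simp [LinearMap.toSpanSingleton_apply])⟩
  · intro t ht
    refine ⟨n, ?_⟩
    rw [LinearMap.mem_ker] at ht
    have h1 := congrArg Subtype.val ht
    simp only [LinearMap.codRestrict_apply, LinearMap.toSpanSingleton_apply, smul_eq_mul,
      ZeroMemClass.coe_zero] at h1
    rw [mul_comm]
    exact h1

end Groth.Agent.S7062
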