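import Groth.Statements.S7064
import Groth.Agent.Lib.Helper41.GlueTor
import Mathlib

set_option autoImplicit false
universe u
open EtGlue

namespace Groth.Agent.S7064

/-- For a glueing pair (R → R', f) and any R-module M, the group Tor_1^R(R', Coker(M → M_f)) vanishes,
where M_f is the localization of M at the powers of f (Tor computed by resolving the second
argument). -/
theorem result {R R' : Type u} [CommRing R] [CommRing R']
    [Algebra R R'] (f : R) (h : EtGlue.IsGlueingPair R R' f) (M : Type u) [AddCommGroup M] [Module R M] :
    Subsingleton (DRing.Tor R 1 R'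
      (LocalizedModule (Submonoid.powers f) M ⧸
        LinearMap.range (LocalizedModule.mkLinearMap (Submonoid.powers f) M))) := by
  apply Groth.Agent.Lib.Helper41.GlueTor.tor_one_subsingleton_of_torsion h
  intro c
  obtain ⟨y, rfl⟩ := Submodule.Quotient.mk_surjective _ c
  obtain ⟨n, q, hq⟩ := IsLocalizedModule.Away.surj
    (LocalizedModule.mkLinearMap (Submonoid.powers f) M) f y
  refine ⟨n, ?_⟩
  rw [← Submodule.Quotient.mk_smul, Submodule.Quotient.mk_eq_zero, hq]
  exact ⟨q, rfl⟩

end Groth.Agent.S7064
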