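import Groth.Statements.S7071
import Groth.Agent.S6983
import Groth.Agent.S6940

set_option autoImplicit false
universe u
attribute [local instance] HasDerivedCategory.standard
open DerCA

namespace Groth.Agent.S7071

/-- Let R → A be a pseudo-coherent homomorphism of commutative rings, m an integer and K an object of
D(A). Then the object K is m-pseudo-coherent as an object of D(A) exactly when, relative to R, it is
m-pseudo-coherent. -/
theorem result (R A : Type u) [CommRing R] [CommRing A]
    [Algebra R A] (hRA : MoreMor.IsPseudoCoherentHom R A) (m : ℤ) (K : Dual.D A) :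
    DerCA.IsRelPseudoCoherent R A m K ↔ DRing.IsPseudoCoherent A m K := by
  obtain ⟨n, φ, hφ, hA⟩ := hRA
  let _ : Algebra (MvPolynomial (Fin n) R) A := φ.toRingHom.toAlgebra
  have key := (Groth.Agent.S6940.result (A := MvPolynomial (Fin n) R) (B := A) hA K m).1
  have hvia : DerCA.IsRelPseudoCoherentVia φ m K ↔ DRing.IsPseudoCoherent A m K := key.symm
  constructor
  · rintro ⟨n', α, hα, h⟩
    exact hvia.1 ((Groth.Agent.S6983.result α hα φ hφ K m).1 h)
  · intro h
    exact ⟨n, φ, hφ, hvia.2 h⟩

end Groth.Agent.S7071
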