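import Groth.Statements.S7073
import Groth.Agent.Lib.Helper35.PCRes

set_option autoImplicit false
universe u
attribute [local instance] HasDerivedCategory.standard
open Dual2

namespace Groth.Agent.S7073

open CategoryTheory in
theorem flat_restrict (R A : Type u) [CommRing R] [CommRing A] [Algebra R A]
    [Module.Flat R A] (N : ModuleCat.{u} A) [Module.Projective A N] :
    Module.Flat R ((ModuleCat.restrictScalars (algebraMap R A)).obj N) := by
  let _ : Module R N := Module.compHom N (algebraMap R A)
  have : IsScalarTower R A N := ⟨fun r a n => by
    change (r • a) • n = (algebraMap R A r) • (a • n)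
    rw [Algebra.smul_def, mul_smul]⟩
  exact Module.Flat.trans R A N

open CategoryTheory in
theorem tor (R A : Type u) [CommRing R] [CommRing A] [Algebra R A]
    [Module.Flat R A] (K : Dual.D A) (hK : DRing.IsPerfect A K) :
    DRing.HasFiniteTorDimCx R ((DRing.restrictD (algebraMap R A)).obj K) := by
  obtain ⟨E, a, b, hv, hE, ⟨e⟩⟩ := hK
  refine ⟨a, b, (DRing.restrictCx (algebraMap R A)).obj E, ?_, ?_, ⟨?_⟩⟩
  · intro i hi
    exact (ModuleCat.restrictScalars (algebraMap R A)).map_isZero (hv i hi)
  · intro i
    have := (hE i).2
    exact flat_restrict R A (E.X i)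
  · exact ((ModuleCat.restrictScalars.{u} (algebraMap R A)).mapDerivedCategoryFactors.app E).symm ≪≫
      (DRing.restrictD (algebraMap R A)).mapIso e


/-- For a flat homomorphism of finite presentation R → A of commutative rings, every perfect object of
D(A) is R-perfect, i.e. pseudo-coherent over A and of finite tor dimension as a complex of
R-modules. -/
theorem result (R A : Type u) [CommRing R] [CommRing A] [Algebra R A]
    [Module.Flat R A] [Algebra.FinitePresentation R A] (K : Dual.D A) (hK : DRing.IsPerfect A K) :
    Dual2.IsRelPerfect R A K := by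
  exact ⟨Groth.Agent.Lib.Helper35.KL.isPseudoCoherent'_of_isPerfect hK, tor R A K hK⟩

end Groth.Agent.S7073
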