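import Groth.Statements.S7077
import Groth.Agent.Lib.Helper35.TwoTerm2

set_option autoImplicit false
universe u
attribute [local instance] HasDerivedCategory.standard
open CategoryTheory
open DRing

namespace Groth.Agent.S7077

/-- (1)⇔(2): let R be a commutative ring and K an object of D(R) whose cohomology modules vanish outside
degrees -1 and 0. Then H^{-1}(K) vanishes and H^0(K) is a projective R-module if and only if
Ext^1_R(K, M) = Hom_{D(R)}(K, M[1]) vanishes for every R-module M. -/
theorem result {R : Type u} [CommRing R] (K : Dual.D R)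
    (hK : ∀ i : ℤ, i ≠ -1 → i ≠ 0 → Subsingleton (Dual.HD R K i)) :
    (Subsingleton (Dual.HD R K (-1)) ∧ Module.Projective R (Dual.HD R K 0)) ↔
      ∀ (M : Type u) [AddCommGroup M] [Module R M], Subsingleton (K ⟶ (Dual.inD R M)⟦(1 : ℤ)⟧) := by
  obtain ⟨hG, hL⟩ := Groth.Agent.Lib.Helper35.KL.isGE_and_isLE_of_twoTerm K hK
  constructor
  · rintro ⟨h1, h0⟩ M _ _
    have hG0 : DerivedCategory.IsGE K 0 := by
      rw [DerivedCategory.isGE_iff]
      intro i hi
      by_cases hi1 : i = -1
      · subst hi1
        exact ModuleCat.isZero_of_subsingleton _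
      · have := hK i hi1 (by omega)
        exact ModuleCat.isZero_of_subsingleton _
    obtain ⟨P, ⟨e⟩⟩ := DerivedCategory.exists_iso_singleFunctor_obj_of_isGE_of_isLE K 0
    have hP : Projective P := by
      have h0' : Projective ((DerivedCategory.homologyFunctor (ModuleCat.{u} R) 0).obj K) :=
        (IsProjective.iff_projective (R := R) (P := Dual.HD R K 0)).mp h0
      exact Projective.of_iso ((DerivedCategory.homologyFunctor (ModuleCat.{u} R) 0).mapIso e ≪≫
        (DerivedCategory.singleFunctorCompHomologyFunctorIso (ModuleCat.{u} R) 0).app P) h0'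
    have hML : DerivedCategory.TStructure.t.IsLE ((Dual.inD R M)⟦(1 : ℤ)⟧) (-1) :=
      DerivedCategory.TStructure.t.isLE_shift _ 0 1 (-1)
    refine ⟨fun a b => ?_⟩
    have ha : e.inv ≫ a = 0 :=
      Groth.Agent.Lib.Helper35.KL.hom_single_projective_eq_zero _ (-1) 0 (by omega) _
    have hb : e.inv ≫ b = 0 :=
      Groth.Agent.Lib.Helper35.KL.hom_single_projective_eq_zero _ (-1) 0 (by omega) _
    rw [← cancel_epi e.inv, ha, hb]
  · intro h
    obtain ⟨h1, h0⟩ := Groth.Agent.Lib.Helper35.KL.twoTerm_of_forall_subsingleton K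
      (fun M => h M)
    exact ⟨ModuleCat.subsingleton_of_isZero h1,
      (IsProjective.iff_projective (R := R) (P := Dual.HD R K 0)).mpr h0⟩

end Groth.Agent.S7077
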