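import Groth.Statements.S7078
import Groth.Agent.Lib.Helper35.TwoTermRep

set_option autoImplicit false
universe u
attribute [local instance] HasDerivedCategory.standard
open CategoryTheory
open DRing

namespace Groth.Agent.S7078

/-- For a commutative ring R and an object K of D(R) whose cohomology modules vanish outside degrees -1
and 0, K is represented by a two-term complex K^{-1} → K^0 with K^0 a free R-module. -/
theorem result {R : Type u} [CommRing R] (K : Dual.D R)
    (hK : ∀ i : ℤ, i ≠ -1 → i ≠ 0 → Subsingleton (Dual.HD R K i)) :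
    ∃ E : DRing.Cx R, DRing.VanishesOutside E (-1) 0 ∧ Module.Free R (E.X 0) ∧ Nonempty (DRing.toD E ≅ K) := by
  obtain ⟨hG, hL⟩ := Groth.Agent.Lib.Helper35.KL.isGE_and_isLE_of_twoTerm K hK
  let H0 : ModuleCat.{u} R := (DerivedCategory.homologyFunctor (ModuleCat.{u} R) 0).obj K
  let F : ModuleCat.{u} R := ModuleCat.of R (H0 →₀ R)
  let p : F ⟶ H0 := ModuleCat.ofHom (Finsupp.linearCombination R (id : H0 → H0))
  have hp : Epi p := by
    rw [ModuleCat.epi_iff_surjective]
    exact Finsupp.linearCombination_id_surjective R H0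
  have hF : Projective F := (IsProjective.iff_projective (R := R) (P := (H0 →₀ R))).mp inferInstance
  obtain ⟨G, d, -, -, -, -, -, ⟨e⟩⟩ := Groth.Agent.Lib.Helper35.KL.exists_twoTerm_rep K F p
  refine ⟨Groth.Agent.Lib.Helper35.KL.twoTermCx d, ?_, ?_, ⟨e⟩⟩
  · intro i hi
    exact Groth.Agent.Lib.Helper35.KL.isZero_twoTermCx_X d i (by omega) (by omega)
  · exact Module.Free.of_equiv
      (Groth.Agent.Lib.Helper35.KL.twoTermCxXZeroIso d).symm.toLinearEquiv

end Groth.Agent.S7078
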