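import Groth.Statements.S7079
import Groth.Agent.Lib.Helper35.TwoTermFin

set_option autoImplicit false
universe u
attribute [local instance] HasDerivedCategory.standard
open CategoryTheory
open DRing

namespace Groth.Agent.S7079

/-- For a Noetherian commutative ring R and an object K of D(R) whose cohomology modules vanish outside
degrees -1 and 0 and are finite modules in those two degrees, K is represented by a two-term complex
K^{-1} → K^0 with K^0 finite free and K^{-1} finite. -/
theorem result {R : Type u} [CommRing R] [IsNoetherianRing R] (K : Dual.D R)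
    (hK : ∀ i : ℤ, i ≠ -1 → i ≠ 0 → Subsingleton (Dual.HD R K i))
    (h1 : Module.Finite R (Dual.HD R K (-1))) (h0 : Module.Finite R (Dual.HD R K 0)) :
    ∃ E : DRing.Cx R, DRing.VanishesOutside E (-1) 0 ∧ Module.Free R (E.X 0) ∧ Module.Finite R (E.X 0) ∧
      Module.Finite R (E.X (-1)) ∧ Nonempty (DRing.toD E ≅ K) := by
  obtain ⟨hG, hL⟩ := Groth.Agent.Lib.Helper35.KL.isGE_and_isLE_of_twoTerm K hK
  let H0 : ModuleCat.{u} R := (DerivedCategory.homologyFunctor (ModuleCat.{u} R) 0).obj K
  have hH0 : Module.Finite R H0 := h0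
  obtain ⟨n, f, hf⟩ := Module.Finite.exists_fin' R H0
  let F : ModuleCat.{u} R := ModuleCat.of R (Fin n → R)
  let p : F ⟶ H0 := ModuleCat.ofHom f
  have hp : Epi p := by
    rw [ModuleCat.epi_iff_surjective]
    exact hf
  have hF : Projective F := (IsProjective.iff_projective (R := R) (P := (Fin n → R))).mp inferInstance
  have hFfin : Module.Finite R F := inferInstanceAs (Module.Finite R (Fin n → R))
  obtain ⟨G, d, T, hT, hT1, hT2, hT3, ⟨e⟩⟩ := Groth.Agent.Lib.Helper35.KL.exists_twoTerm_rep K F p
  have hfin3 : Module.Finite R ((DerivedCategory.homologyFunctor (ModuleCat.{u} R) (-1)).obj T.obj₃) := by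
    rw [hT3]
    exact h1
  have hGfin : Module.Finite R G :=
    Groth.Agent.Lib.Helper35.KL.finite_of_distTriang T hT G F hT1 hT2
  refine ⟨Groth.Agent.Lib.Helper35.KL.twoTermCx d, ?_, ?_, ?_, ?_, ⟨e⟩⟩
  · intro i hi
    exact Groth.Agent.Lib.Helper35.KL.isZero_twoTermCx_X d i (by omega) (by omega)
  · have : Module.Free R F := inferInstanceAs (Module.Free R (Fin n → R))
    exact Module.Free.of_equiv
      (Groth.Agent.Lib.Helper35.KL.twoTermCxXZeroIso d).symm.toLinearEquiv
  · exact Module.Finite.equiv
      (Groth.Agent.Lib.Helper35.KL.twoTermCxXZeroIso d).symm.toLinearEquiv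
  · exact Module.Finite.equiv
      (Groth.Agent.Lib.Helper35.KL.twoTermCxXNegOneIso d).symm.toLinearEquiv

end Groth.Agent.S7079
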