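import Groth.Statements.S7080
import Groth.Agent.Lib.Helper35.TwoTerm

set_option autoImplicit false
universe u
attribute [local instance] HasDerivedCategory.standard
open CategoryTheory
open DRing

namespace Groth.Agent.S7080

/-- Let R be a commutative ring and α : K → K' a morphism in D(R) between objects whose cohomology
vanishes outside degrees -1 and 0, such that H^0(α) is an isomorphism and H^{-1}(α) is surjective.
If multiplication by an element f of R is the zero endomorphism of K in D(R), then it is also the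
zero endomorphism of K'. -/
theorem result {R : Type u} [CommRing R] {K K' : Dual.D R} (α : K ⟶ K')
    (hK : ∀ i : ℤ, i ≠ -1 → i ≠ 0 → Subsingleton (Dual.HD R K i))
    (hK' : ∀ i : ℤ, i ≠ -1 → i ≠ 0 → Subsingleton (Dual.HD R K' i))
    (h0 : IsIso ((DerivedCategory.homologyFunctor (ModuleCat.{u} R) 0).map α))
    (h1 : Epi ((DerivedCategory.homologyFunctor (ModuleCat.{u} R) (-1)).map α))
    (f : R) (hf : f • (𝟙 K) = 0) : f • (𝟙 K') = 0 := by
  obtain ⟨hG, hL⟩ := Groth.Agent.Lib.Helper35.KL.isGE_and_isLE_of_twoTerm K hK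
  obtain ⟨hG', hL'⟩ := Groth.Agent.Lib.Helper35.KL.isGE_and_isLE_of_twoTerm K' hK'
  obtain ⟨Z, g, δ, hT⟩ := Pretriangulated.distinguished_cocone_triangle α
  have hL1 : (Pretriangulated.Triangle.mk α g δ).obj₁.IsLE 0 := hL
  have hL2 : (Pretriangulated.Triangle.mk α g δ).obj₂.IsLE 0 := hL'
  have hZ : (Pretriangulated.Triangle.mk α g δ).obj₃.IsLE (0 - 2) :=
    Groth.Agent.Lib.Helper35.KL.isLE_obj₃ _ hT 0 h0 h1
  have hZ' : DerivedCategory.TStructure.t.IsLE Z (-2) := hZ
  have hZ'' : DerivedCategory.TStructure.t.IsLE (Pretriangulated.Triangle.mk α g δ).obj₃ (-2) := hZ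
  have hG'' : DerivedCategory.TStructure.t.IsGE K' (-1) := hG'
  have h2 : α ≫ (f • 𝟙 K') = 0 := by
    have : α ≫ (f • 𝟙 K') = (f • 𝟙 K) ≫ α := by
      rw [Linear.comp_smul, Linear.smul_comp, Category.comp_id, Category.id_comp]
    rw [this, hf, Limits.zero_comp]
  obtain ⟨ζ, hζ⟩ := Pretriangulated.Triangle.yoneda_exact₂ _ hT (f • 𝟙 K') h2
  have h3 : ζ = 0 := DerivedCategory.TStructure.t.zero ζ (-2) (-1)
  rw [hζ, h3]
  exact Limits.comp_zero

end Groth.Agent.S7080
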