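import Groth.Statements.S7081
import Groth.Agent.Lib.Helper35.TwoTerm

set_option autoImplicit false
universe u
attribute [local instance] HasDerivedCategory.standard
open CategoryTheory
open DRing

namespace Groth.Agent.S7081

/-- Let R be a commutative ring and φ : K₁ → K₂, ψ : K₂ → K₃ morphisms in D(R) between objects whose
cohomology vanishes outside degrees -1 and 0. If φ induces the zero map on H^0 and ψ induces the
zero map on H^{-1}, then the composite K₁ → K₃ is zero. -/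
theorem result {R : Type u} [CommRing R] {K₁ K₂ K₃ : Dual.D R}
    (φ : K₁ ⟶ K₂) (ψ : K₂ ⟶ K₃)
    (h₁ : ∀ i : ℤ, i ≠ -1 → i ≠ 0 → Subsingleton (Dual.HD R K₁ i))
    (h₂ : ∀ i : ℤ, i ≠ -1 → i ≠ 0 → Subsingleton (Dual.HD R K₂ i))
    (h₃ : ∀ i : ℤ, i ≠ -1 → i ≠ 0 → Subsingleton (Dual.HD R K₃ i))
    (hφ : (DerivedCategory.homologyFunctor (ModuleCat.{u} R) 0).map φ = 0)
    (hψ : (DerivedCategory.homologyFunctor (ModuleCat.{u} R) (-1)).map ψ = 0) :
    φ ≫ ψ = 0 := by
  obtain ⟨hG1, hL1⟩ := Groth.Agent.Lib.Helper35.KL.isGE_and_isLE_of_twoTerm K₁ h₁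
  obtain ⟨hG2, hL2⟩ := Groth.Agent.Lib.Helper35.KL.isGE_and_isLE_of_twoTerm K₂ h₂
  obtain ⟨hG3, hL3⟩ := Groth.Agent.Lib.Helper35.KL.isGE_and_isLE_of_twoTerm K₃ h₃
  -- step 1: `φ ≫ π₂ = 0`
  have hLE1 : DerivedCategory.TStructure.t.IsLE ((DerivedCategory.TStructure.t.truncGE 0).obj K₁) 0 :=
    inferInstance
  have hLE2 : DerivedCategory.TStructure.t.IsLE ((DerivedCategory.TStructure.t.truncGE 0).obj K₂) 0 :=
    inferInstance
  have hGE1 : DerivedCategory.TStructure.t.IsGE ((DerivedCategory.TStructure.t.truncGE 0).obj K₁) 0 :=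
    inferInstance
  have hGE2 : DerivedCategory.TStructure.t.IsGE ((DerivedCategory.TStructure.t.truncGE 0).obj K₂) 0 :=
    inferInstance
  have hiso1 := Groth.Agent.Lib.Helper35.KL.isIso_homology_map_truncGEπ' K₁ 0 0 le_rfl
  have hnat1 := (DerivedCategory.TStructure.t.truncGEπ 0).naturality φ
  have hz1 : (DerivedCategory.TStructure.t.truncGE 0).map φ = 0 := by
    refine Groth.Agent.Lib.Helper35.KL.eq_zero_of_homology_map_eq_zero 0 _ ?_
    rw [← cancel_epi ((DerivedCategory.homologyFunctor (ModuleCat.{u} R) 0).map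
      ((DerivedCategory.TStructure.t.truncGEπ 0).app K₁)), ← Functor.map_comp, ← hnat1,
      Functor.id_map, Functor.map_comp, hφ, Limits.zero_comp, Limits.comp_zero]
  have hφπ : φ ≫ (DerivedCategory.TStructure.t.truncGEπ 0).app K₂ = 0 := by
    have := hnat1
    rw [Functor.id_map] at this
    rw [this, hz1, Limits.comp_zero]
  obtain ⟨φ', hφ'⟩ := Pretriangulated.Triangle.coyoneda_exact₂ _
    (DerivedCategory.TStructure.t.triangleLTGE_distinguished 0 K₂) φ hφπ
  -- step 2: `ι₂ ≫ ψ = 0`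
  have hLE2' : DerivedCategory.TStructure.t.IsLE ((DerivedCategory.TStructure.t.truncLT 0).obj K₂) (-1) :=
    DerivedCategory.TStructure.t.isLE_truncLT_obj K₂ 0 (-1)
  have hLE3' : DerivedCategory.TStructure.t.IsLE ((DerivedCategory.TStructure.t.truncLT 0).obj K₃) (-1) :=
    DerivedCategory.TStructure.t.isLE_truncLT_obj K₃ 0 (-1)
  have hGE2' : DerivedCategory.TStructure.t.IsGE ((DerivedCategory.TStructure.t.truncLT 0).obj K₂) (-1) :=
    inferInstance
  have hGE3' : DerivedCategory.TStructure.t.IsGE ((DerivedCategory.TStructure.t.truncLT 0).obj K₃) (-1) :=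
    inferInstance
  have hiso3 := Groth.Agent.Lib.Helper35.KL.isIso_homology_map_truncLTι' K₃ 0 (-1) (by omega)
  have hnat2 := (DerivedCategory.TStructure.t.truncLTι 0).naturality ψ
  have hz2 : (DerivedCategory.TStructure.t.truncLT 0).map ψ = 0 := by
    refine Groth.Agent.Lib.Helper35.KL.eq_zero_of_homology_map_eq_zero (-1) _ ?_
    rw [← cancel_mono ((DerivedCategory.homologyFunctor (ModuleCat.{u} R) (-1)).map
      ((DerivedCategory.TStructure.t.truncLTι 0).app K₃)), ← Functor.map_comp, hnat2,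
      Functor.id_map, Functor.map_comp, hψ, Limits.zero_comp, Limits.comp_zero]
  have hιψ : (DerivedCategory.TStructure.t.truncLTι 0).app K₂ ≫ ψ = 0 := by
    have := hnat2
    rw [Functor.id_map] at this
    rw [← this, hz2, Limits.zero_comp]
  let ι₂ : (DerivedCategory.TStructure.t.truncLT 0).obj K₂ ⟶ K₂ :=
    (DerivedCategory.TStructure.t.truncLTι 0).app K₂
  let φ'' : K₁ ⟶ (DerivedCategory.TStructure.t.truncLT 0).obj K₂ := φ'
  have hφ'' : φ = φ'' ≫ ι₂ := hφ'
  have h4 : ι₂ ≫ ψ = 0 := hιψ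
  rw [hφ'', Category.assoc, h4, Limits.comp_zero]

end Groth.Agent.S7081
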