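import Groth.Statements.S7082
import Groth.Agent.Lib.Helper35.TwoTermRep
import Groth.Agent.Lib.Helper35.HtpyZ
import Mathlib.Algebra.Category.ModuleCat.EnoughInjectives
import Mathlib.Algebra.Homology.DerivedCategory.Linear

set_option autoImplicit false
universe u
attribute [local instance] HasDerivedCategory.standard
open CategoryTheory
open DRing

namespace Groth.Agent.S7082

/-- (1)⇔(3): let R be a commutative ring, I an ideal and K an object of D(R) whose cohomology vanishes
outside degrees -1 and 0. Then I annihilates Ext^1_R(K, N) = Hom_{D(R)}(K, N[1]) for every R-module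
N if and only if, for every two-term complex E in degrees -1 and 0 with E^0 projective that
represents K, and every a in I, multiplication by a on E^{-1} factors through the differential
E^{-1} → E^0. -/
theorem result {R : Type u} [CommRing R] (I : Ideal R) (K : Dual.D R)
    (hK : ∀ i : ℤ, i ≠ -1 → i ≠ 0 → Subsingleton (Dual.HD R K i)) :
    (∀ (N : Type u) [AddCommGroup N] [Module R N] (a : R), a ∈ I →
        ∀ ξ : K ⟶ (Dual.inD R N)⟦(1 : ℤ)⟧, a • ξ = 0) ↔
      ∀ (E : DRing.Cx R), DRing.VanishesOutside E (-1) 0 → Module.Projective R (E.X 0) →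
        Nonempty (DRing.toD E ≅ K) → ∀ a : R, a ∈ I →
          ∃ h : E.X 0 ⟶ E.X (-1), E.d (-1) 0 ≫ h = a • 𝟙 (E.X (-1)) := by
  have hS : ∀ (N : ModuleCat.{u} R) (i : ℤ), i < -1 →
      Limits.IsZero ((Groth.Agent.Lib.Helper35.KL.sgl N).X i) := fun N i hi =>
    Groth.Agent.Lib.Helper35.KL.isZero_sgl_X N i (by omega)
  constructor
  · intro H E hE hE0 ⟨e⟩ a ha
    have hP : Projective (E.X 0) :=
      (IsProjective.iff_projective (R := R) (P := E.X 0)).mp hE0
    have hEpos : ∀ i : ℤ, 0 < i → Limits.IsZero (E.X i) := fun i hi => hE i (Or.inr hi)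
    -- the projection `E ⟶ E⁻¹[1]`
    let u : E ⟶ Groth.Agent.Lib.Helper35.KL.sgl (E.X (-1)) :=
      HomologicalComplex.mkHomToSingle (𝟙 (E.X (-1))) (fun i hi => by
        have hi' : i + 1 = -1 := hi
        exact (hE i (Or.inl (by omega))).eq_of_src _ _)
    have hu : u.f (-1) = 𝟙 (E.X (-1)) ≫
        (HomologicalComplex.singleObjXSelf (ComplexShape.up ℤ) (-1) (E.X (-1))).inv :=
      HomologicalComplex.mkHomToSingle_f _ _
    have h1 := H (E.X (-1)) a ha (e.inv ≫ DerivedCategory.Q.map u ≫
      (Groth.Agent.Lib.Helper35.KL.shiftSingleIso (E.X (-1))).inv)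
    have h2 : DerivedCategory.Q.map (a • u) = 0 := by
      rw [Functor.map_smul]
      rw [← cancel_mono (Groth.Agent.Lib.Helper35.KL.shiftSingleIso (E.X (-1))).inv,
        ← cancel_epi e.inv, Limits.zero_comp, Limits.comp_zero, Linear.smul_comp,
        Linear.comp_smul]
      exact h1
    obtain ⟨Hty⟩ := Groth.Agent.Lib.Helper35.KL.nonempty_homotopy_of_Q_map_eq_zero hEpos
      (hS (E.X (-1))) (a • u) h2
    obtain ⟨h', hh'⟩ := Groth.Agent.Lib.Helper35.KL.exists_factor_of_homotopy (a • u) Hty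
    refine ⟨h' ≫ (HomologicalComplex.singleObjXSelf (ComplexShape.up ℤ) (-1) (E.X (-1))).hom, ?_⟩
    rw [HomologicalComplex.smul_f_apply, hu, Category.id_comp] at hh'
    rw [← Category.assoc, ← hh', Linear.smul_comp, Iso.inv_hom_id]
  · intro H N _ _ a ha ξ
    obtain ⟨E, hE, hE0, ⟨e⟩⟩ : ∃ E : DRing.Cx R, DRing.VanishesOutside E (-1) 0 ∧
        Module.Projective R (E.X 0) ∧ Nonempty (DRing.toD E ≅ K) := by
      obtain ⟨hG, hL⟩ := Groth.Agent.Lib.Helper35.KL.isGE_and_isLE_of_twoTerm K hK
      let H0 : ModuleCat.{u} R := (DerivedCategory.homologyFunctor (ModuleCat.{u} R) 0).obj K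
      let F : ModuleCat.{u} R := ModuleCat.of R (H0 →₀ R)
      let p : F ⟶ H0 := ModuleCat.ofHom (Finsupp.linearCombination R (id : H0 → H0))
      have hp : Epi p := by
        rw [ModuleCat.epi_iff_surjective]
        exact Finsupp.linearCombination_id_surjective R H0
      have hF : Projective F :=
        (IsProjective.iff_projective (R := R) (P := (H0 →₀ R))).mp inferInstance
      obtain ⟨G, d, -, -, -, -, -, ⟨e⟩⟩ := Groth.Agent.Lib.Helper35.KL.exists_twoTerm_rep K F p
      refine ⟨Groth.Agent.Lib.Helper35.KL.twoTermCx d, ?_, ?_, ⟨e⟩⟩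
      · intro i hi
        exact Groth.Agent.Lib.Helper35.KL.isZero_twoTermCx_X d i (by omega) (by omega)
      · have : Module.Free R ((Groth.Agent.Lib.Helper35.KL.twoTermCx d).X 0) :=
          Module.Free.of_equiv
            (Groth.Agent.Lib.Helper35.KL.twoTermCxXZeroIso d).symm.toLinearEquiv
        infer_instance
    have hP : Projective (E.X 0) :=
      (IsProjective.iff_projective (R := R) (P := E.X 0)).mp hE0
    have hEpos : ∀ i : ℤ, 0 < i → Limits.IsZero (E.X i) := fun i hi => hE i (Or.inr hi)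
    obtain ⟨h, hh⟩ := H E hE hE0 ⟨e⟩ a ha
    obtain ⟨u, hu⟩ := Groth.Agent.Lib.Helper35.KL.exists_Q_map_eq hEpos (hS (ModuleCat.of R N))
      (e.hom ≫ ξ ≫ (Groth.Agent.Lib.Helper35.KL.shiftSingleIso (ModuleCat.of R N)).hom)
    have h1 : (a • u).f (-1) = E.d (-1) 0 ≫ (h ≫ u.f (-1)) := by
      rw [HomologicalComplex.smul_f_apply, ← Category.assoc, hh, Linear.smul_comp,
        Category.id_comp]
    obtain ⟨Hty⟩ := Groth.Agent.Lib.Helper35.KL.nonempty_homotopy_zero_of_factor (a • u) _ h1
    have h2 := Groth.Agent.Lib.Helper35.KL.Q_map_eq_zero_of_homotopy (a • u) Hty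
    rw [Functor.map_smul, hu] at h2
    rw [← cancel_mono (Groth.Agent.Lib.Helper35.KL.shiftSingleIso (ModuleCat.of R N)).hom,
      ← cancel_epi e.hom, Limits.zero_comp, Limits.comp_zero, Linear.smul_comp, Linear.comp_smul]
    exact h2

end Groth.Agent.S7082
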