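import Groth.Statements.S7084
import Groth.Agent.Lib.Helper35.NilTA2

set_option autoImplicit false
universe u
attribute [local instance] HasDerivedCategory.standard
open CategoryTheory
open LocCoh

namespace Groth.Agent.S7084

/-- Parts (1)–(2) in the case of a module killed by a power of the ideal: let R be a commutative ring, I
an ideal and K an object of D(R) such that K ⊗^L_R R/I has no cohomology in positive degrees. Then
for every R-module N annihilated by some power of I, K ⊗^L_R N has no cohomology in positive
degrees. (The published statement allows any I-power torsion module N; this row takes N annihilated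
by a single power of I, the case the published argument carries out in full, which contains the case
N = R/I^n.) The derived tensor products with modules are total left derived functors, assumed to
exist. -/
theorem result {R : Type u} [CommRing R] (I : Ideal R)
    [DRing.HasLTensor R (ModuleCat.of R (R ⧸ I))] (K : Dual.D R)
    (hK : ∀ i : ℤ, 0 < i → Subsingleton (Dual.HD R ((DRing.LTensor R (ModuleCat.of R (R ⧸ I))).obj K) i))
    (N : Type u) [AddCommGroup N] [Module R N] (n : ℕ) (hN : I ^ n • (⊤ : Submodule R N) = ⊥)
    [DRing.HasLTensor R (ModuleCat.of R N)] (i : ℤ) (hi : 0 < i) :
    Subsingleton (Dual.HD R ((DRing.LTensor R (ModuleCat.of R N)).obj K) i) := by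
  have h1 := Groth.Agent.Lib.Helper35.TA.isZero_homology_LTensor_of_pow I K 0
    (fun j hj => by
      have := hK j hj
      exact ModuleCat.isZero_of_subsingleton _)
    (ModuleCat.of R N) n (fun a ha x => by
      have h2 : a • (show N from x) ∈ I ^ n • (⊤ : Submodule R N) :=
        Submodule.smul_mem_smul ha Submodule.mem_top
      rw [hN] at h2
      exact h2) i hi
  exact ModuleCat.subsingleton_of_isZero h1

end Groth.Agent.S7084
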