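import Groth.Statements.S7085
import Mathlib.RingTheory.Finiteness.Ideal

set_option autoImplicit false
universe u
open LocCoh

namespace Groth.Agent.S7085

theorem mem_torsionBy_iff {R : Type u} [CommRing R] (I : Ideal R) (M : Type u) [AddCommGroup M]
    [Module R M] (x : M) : x ∈ LocCoh.torsionBy I M ↔ ∀ a ∈ I, a • x = 0 := by
  rw [LocCoh.torsionBy, Submodule.mem_torsionBySet_iff]
  exact ⟨fun h a ha => h ⟨a, ha⟩, fun h a => h a a.2⟩

theorem torsionBy_pow_eq_bot {R : Type u} [CommRing R] (I : Ideal R) (M : Type u) [AddCommGroup M]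
    [Module R M] (h : LocCoh.torsionBy I M = ⊥) (n : ℕ) (hn : 1 ≤ n) :
    LocCoh.torsionBy (I ^ n) M = ⊥ := by
  induction n, hn using Nat.le_induction with
  | base => rwa [pow_one]
  | succ n _ ih =>
    rw [eq_bot_iff]
    intro x hx
    rw [mem_torsionBy_iff] at hx
    rw [Submodule.mem_bot]
    have h1 : x ∈ LocCoh.torsionBy I M := by
      rw [mem_torsionBy_iff]
      intro a ha
      have h2 : a • x ∈ LocCoh.torsionBy (I ^ n) M := by
        rw [mem_torsionBy_iff]
        intro b hb
        rw [← mul_smul]
        exact hx _ (by rw [pow_succ]; exact Ideal.mul_mem_mul hb ha)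
      rw [ih] at h2
      exact (Submodule.mem_bot R).mp h2
    rw [h] at h1
    exact (Submodule.mem_bot R).mp h1

/-- Let R be a commutative ring, I an ideal generated by finitely many elements f_1, …, f_t, and M an
R-module. Then: M has no nonzero element killed by I if and only if it has no nonzero element killed
by I^n for every n ≥ 1; and M has no nonzero element killed by I if and only if an element of M
vanishing in every localization M_{f_i} is zero. -/
theorem result {R : Type u} [CommRing R] {t : ℕ} (f : Fin t → R)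
    (I : Ideal R) (hI : Ideal.span (Set.range f) = I) (M : Type u) [AddCommGroup M] [Module R M] :
    (LocCoh.torsionBy I M = ⊥ ↔ ∀ n : ℕ, 1 ≤ n → LocCoh.torsionBy (I ^ n) M = ⊥) ∧
    (LocCoh.torsionBy I M = ⊥ ↔
      ∀ m : M, (∀ i : Fin t, LocalizedModule.mkLinearMap (Submonoid.powers (f i)) M m = 0) → m = 0) := by
  refine ⟨⟨fun h n hn => torsionBy_pow_eq_bot I M h n hn, fun h => by simpa using h 1 le_rfl⟩, ?_⟩
  constructor
  · intro h m hm
    -- each `f i` has a power killing `m`
    have h1 : ∀ i : Fin t, ∃ k : ℕ, f i ^ k • m = 0 := by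
      intro i
      obtain ⟨⟨c, ⟨k, rfl⟩⟩, hc⟩ := (IsLocalizedModule.eq_zero_iff (Submonoid.powers (f i))
        (LocalizedModule.mkLinearMap (Submonoid.powers (f i)) M)).mp (hm i)
      exact ⟨k, hc⟩
    choose k hk using h1
    -- the ideal `J` generated by these powers kills `m`
    set J : Ideal R := Ideal.span (Set.range fun i => f i ^ k i) with hJ
    have hJm : ∀ a ∈ J, a • m = 0 := by
      intro a ha
      rw [hJ] at ha
      induction ha using Submodule.span_induction with
      | mem a ha => obtain ⟨i, rfl⟩ := ha; exact hk i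
      | zero => simp
      | add a b _ _ ha hb => rw [add_smul, ha, hb, add_zero]
      | smul c a _ ha => rw [smul_assoc, ha, smul_zero]
    have hIJ : I ≤ J.radical := by
      rw [← hI, Ideal.span_le]
      rintro _ ⟨i, rfl⟩
      exact ⟨k i, Ideal.subset_span ⟨i, rfl⟩⟩
    have hIfg : I.FG := by
      rw [← hI]
      exact Submodule.fg_span (Set.finite_range f)
    obtain ⟨N, hN⟩ := Ideal.exists_pow_le_of_le_radical_of_fg hIJ hIfg
    have h2 : m ∈ LocCoh.torsionBy (I ^ (N + 1)) M := by
      rw [mem_torsionBy_iff]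
      intro a ha
      exact hJm a (hN (Ideal.pow_le_pow_right (Nat.le_succ N) ha))
    rw [torsionBy_pow_eq_bot I M h (N + 1) (Nat.succ_le_succ (Nat.zero_le N))] at h2
    exact (Submodule.mem_bot R).mp h2
  · intro h
    rw [eq_bot_iff]
    intro x hx
    rw [mem_torsionBy_iff] at hx
    rw [Submodule.mem_bot]
    apply h
    intro i
    rw [IsLocalizedModule.eq_zero_iff (Submonoid.powers (f i))]
    refine ⟨⟨f i, Submonoid.mem_powers _⟩, ?_⟩
    exact hx (f i) (hI ▸ Ideal.subset_span ⟨i, rfl⟩)

end Groth.Agent.S7085
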