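import Groth.Statements.S7087
import Mathlib.RingTheory.Ideal.Operations

set_option autoImplicit false
universe u
open LocCoh

namespace Groth.Agent.S7087

/-- Let R be a commutative ring and f_1, …, f_n elements generating an ideal I. Let M be the module with
generators e_1, …, e_n and relations f_i e_j = f_j e_i. Then e_i ↦ f_i defines a surjection M → I
whose kernel is annihilated by I. Elementwise: if a tuple (a_1, …, a_n) in R^n satisfies Σ a_i f_i =
0, then for every b in I the tuple b • a lies in the submodule of R^n spanned by the vectors f_i e_j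
− f_j e_i. -/
theorem result {R : Type u} [CommRing R] {n : ℕ} (f : Fin n → R)
    (a : Fin n → R) (ha : ∑ i, a i * f i = 0) (b : R) (hb : b ∈ Ideal.span (Set.range f)) :
    b • a ∈ Submodule.span R {v : Fin n → R | ∃ i j : Fin n, v = f i • Pi.single j (1 : R) - f j • Pi.single i (1 : R)} := by
  have key : ∀ i, f i • a ∈ Submodule.span R {v : Fin n → R | ∃ i j : Fin n,
      v = f i • Pi.single j (1 : R) - f j • Pi.single i (1 : R)} := by
    intro i
    have h : f i • a = ∑ j, a j • (f i • Pi.single j (1 : R) - f j • Pi.single i (1 : R)) := by
      ext k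
      simp only [Pi.smul_apply, smul_eq_mul, Finset.sum_apply, Pi.sub_apply, Pi.single_apply,
        mul_sub, Finset.sum_sub_distrib]
      have h1 : ∑ j, a j * (f i * if k = j then (1 : R) else 0) = a k * f i := by
        simp [Finset.sum_ite_eq]
      have h2 : ∑ j, a j * (f j * if k = i then (1 : R) else 0) = 0 := by
        by_cases hk : k = i
        · simp only [hk, if_true, mul_one]; exact ha
        · simp [hk]
      rw [h1, h2, sub_zero, mul_comm]
    rw [h]
    exact Submodule.sum_mem _ fun j _ =>
      Submodule.smul_mem _ _ (Submodule.subset_span ⟨i, j, rfl⟩)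
  obtain ⟨c, rfl⟩ := Ideal.mem_span_range_iff_exists_fun.mp hb
  rw [Finset.sum_smul]
  exact Submodule.sum_mem _ fun i _ => by
    rw [mul_smul]; exact Submodule.smul_mem _ _ (key i)

end Groth.Agent.S7087
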