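import Groth.Statements.S7089
import Mathlib.Algebra.Homology.ShortComplex.ModuleCat
import Mathlib.Algebra.Homology.QuasiIso
import Mathlib.CategoryTheory.Abelian.Projective.Resolution

set_option autoImplicit false
universe u
open CategoryTheory
open LocCoh

namespace Groth.Agent.S7089

section Helpers

attribute [local instance] Classical.propDecidable

variable {R : Type u} [CommRing R] (I : Ideal R)

/-- Index set: elements killed by a power of `I`. -/
def torIdx (N : Type u) [AddCommGroup N] [Module R N] : Type u :=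
  {x : N // ∃ n : ℕ, ∀ a ∈ I ^ n, a • x = 0}

noncomputable def torExp (N : Type u) [AddCommGroup N] [Module R N] (x : torIdx I N) : ℕ :=
  x.2.choose

theorem torExp_spec (N : Type u) [AddCommGroup N] [Module R N] (x : torIdx I N) :
    ∀ a ∈ I ^ torExp I N x, a • x.1 = 0 := x.2.choose_spec

/-- The cover by a sum of `R/I^n`. -/
noncomputable def tcoverObj (N : ModuleCat.{u} R) : ModuleCat.{u} R :=
  ModuleCat.of R (DirectSum (torIdx I N) fun j => R ⧸ I ^ torExp I N j)

noncomputable def tcoverLin (N : Type u) [AddCommGroup N] [Module R N] :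
    (DirectSum (torIdx I N) fun j => R ⧸ I ^ torExp I N j) →ₗ[R] N :=
  DirectSum.toModule R _ N (fun j =>
    Submodule.liftQ (I ^ torExp I N j) (LinearMap.toSpanSingleton R N j.1) (by
      intro a ha
      rw [LinearMap.mem_ker, LinearMap.toSpanSingleton_apply]
      exact torExp_spec I N j a ha))

noncomputable def tcoverMap (N : ModuleCat.{u} R) : tcoverObj I N ⟶ N :=
  ModuleCat.ofHom (tcoverLin I N)

theorem tcoverLin_surjective (N : Type u) [AddCommGroup N] [Module R N]
    (hN : LocCoh.IsPowerTorsion I N) : Function.Surjective (tcoverLin I N) := by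
  intro x
  refine ⟨DirectSum.lof R _ (fun j : torIdx I N => R ⧸ I ^ torExp I N j) ⟨x, hN x⟩
    (Submodule.Quotient.mk 1), ?_⟩
  unfold tcoverLin
  rw [DirectSum.toModule_lof, Submodule.liftQ_apply, LinearMap.toSpanSingleton_apply, one_smul]

/-- Sums of `R/I^n`. -/
def IsSumQuot (X : ModuleCat.{u} R) : Prop :=
  ∃ (ι : Type u) (n : ι → ℕ), Nonempty (X ≅ ModuleCat.of R (DirectSum ι fun j => R ⧸ I ^ n j))

theorem isSumQuot_tcoverObj (N : ModuleCat.{u} R) : IsSumQuot I (tcoverObj I N) :=
  ⟨torIdx I N, fun j => torExp I N j, ⟨Iso.refl _⟩⟩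

theorem isPowerTorsion_directSum (ι : Type u) (n : ι → ℕ) :
    LocCoh.IsPowerTorsion I (DirectSum ι fun j => R ⧸ I ^ n j) := by
  classical
  intro m
  induction m using DirectSum.induction_on with
  | zero => exact ⟨0, fun a _ => smul_zero a⟩
  | of j y =>
    refine ⟨n j, fun a ha => ?_⟩
    obtain ⟨r, rfl⟩ := Submodule.Quotient.mk_surjective _ y
    have h0 : a • (Submodule.Quotient.mk r : R ⧸ I ^ n j) = 0 := by
      rw [← Submodule.Quotient.mk_smul, Submodule.Quotient.mk_eq_zero]
      exact Ideal.mul_mem_right _ _ ha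
    change a • DirectSum.lof R ι (fun j => R ⧸ I ^ n j) j (Submodule.Quotient.mk r) = 0
    rw [← map_smul, h0, map_zero]
  | add x y hx hy =>
    obtain ⟨k, hk⟩ := hx
    obtain ⟨l, hl⟩ := hy
    refine ⟨max k l, fun a ha => ?_⟩
    rw [smul_add, hk a (Ideal.pow_le_pow_right (le_max_left k l) ha),
      hl a (Ideal.pow_le_pow_right (le_max_right k l) ha), add_zero]

theorem IsSumQuot.isPowerTorsion {X : ModuleCat.{u} R} (h : IsSumQuot I X) :
    LocCoh.IsPowerTorsion I X := by
  obtain ⟨ι, n, ⟨e⟩⟩ := h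
  intro m
  obtain ⟨k, hk⟩ := isPowerTorsion_directSum I ι n (e.hom m)
  refine ⟨k, fun a ha => ?_⟩
  have h1 : e.hom (a • m) = 0 := by
    rw [map_smul]
    exact hk a ha
  have h2 : e.inv (e.hom (a • m)) = a • m := by
    rw [← ModuleCat.comp_apply, e.hom_inv_id, ModuleCat.id_apply]
  rw [← h2, h1, map_zero]

theorem isPowerTorsion_ker {X Y : ModuleCat.{u} R} (f : X ⟶ Y) (hX : LocCoh.IsPowerTorsion I X) :
    LocCoh.IsPowerTorsion I (LinearMap.ker f.hom) := by
  intro m
  obtain ⟨k, hk⟩ := hX m.1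
  exact ⟨k, fun a ha => Subtype.ext (hk a ha)⟩

/-- The syzygy step. -/
noncomputable def syz {X Y : ModuleCat.{u} R} (f : X ⟶ Y) :
    Σ' (Z : ModuleCat.{u} R) (d : Z ⟶ X), d ≫ f = 0 :=
  ⟨tcoverObj I (ModuleCat.of R (LinearMap.ker f.hom)),
    tcoverMap I (ModuleCat.of R (LinearMap.ker f.hom)) ≫ ModuleCat.ofHom (LinearMap.ker f.hom).subtype,
    by
      ext x
      exact ((tcoverMap I (ModuleCat.of R (LinearMap.ker f.hom))) x).2⟩

theorem syz_exact {X Y : ModuleCat.{u} R} (f : X ⟶ Y) (hX : LocCoh.IsPowerTorsion I X) :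
    (ShortComplex.mk (syz I f).2.1 f (syz I f).2.2).Exact := by
  rw [ShortComplex.moduleCat_exact_iff]
  intro x hx
  obtain ⟨y, hy⟩ := tcoverLin_surjective I (LinearMap.ker f.hom) (isPowerTorsion_ker I f hX) ⟨x, hx⟩
  refine ⟨y, ?_⟩
  change ((tcoverLin I (LinearMap.ker f.hom) y : LinearMap.ker f.hom) : X) = x
  rw [hy]

/-- The invariant carried along the inductive construction. -/
def SyzInv (S : ShortComplex (ModuleCat.{u} R)) : Prop :=
  S.Exact ∧ IsSumQuot I S.X₁ ∧ IsSumQuot I S.X₂ ∧ IsSumQuot I S.X₃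

theorem syzInv_step (S : ShortComplex (ModuleCat.{u} R)) (h : SyzInv I S) :
    SyzInv I (ShortComplex.mk (syz I S.f).2.1 S.f (syz I S.f).2.2) := by
  obtain ⟨-, h1, h2, -⟩ := h
  exact ⟨syz_exact I S.f h1.isPowerTorsion, isSumQuot_tcoverObj I _, h1, h2⟩

variable (M : ModuleCat.{u} R)

/-- The resolution complex. -/
noncomputable def resCx : ChainComplex (ModuleCat.{u} R) ℕ :=
  ChainComplex.mk (tcoverObj I M) (syz I (tcoverMap I M)).1 (syz I (syz I (tcoverMap I M)).2.1).1
    (syz I (tcoverMap I M)).2.1 (syz I (syz I (tcoverMap I M)).2.1).2.1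
    (syz I (syz I (tcoverMap I M)).2.1).2.2
    (fun S => syz I S.f)

theorem resCx_mkAux_inv (n : ℕ) :
    SyzInv I (ChainComplex.mkAux (tcoverObj I M) (syz I (tcoverMap I M)).1
      (syz I (syz I (tcoverMap I M)).2.1).1
      (syz I (tcoverMap I M)).2.1 (syz I (syz I (tcoverMap I M)).2.1).2.1
      (syz I (syz I (tcoverMap I M)).2.1).2.2
      (fun S => syz I S.f) n) := by
  induction n with
  | zero =>
    exact ⟨syz_exact I _ (isSumQuot_tcoverObj I _).isPowerTorsion, isSumQuot_tcoverObj I _,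
      isSumQuot_tcoverObj I _, isSumQuot_tcoverObj I _⟩
  | succ n ih => exact syzInv_step I _ ih

theorem resCx_isSumQuot (n : ℕ) : IsSumQuot I ((resCx I M).X n) :=
  (resCx_mkAux_inv I M n).2.2.2

theorem resCx_exactAt_succ (n : ℕ) : (resCx I M).ExactAt (n + 1) := by
  rw [HomologicalComplex.exactAt_iff' _ (n + 1 + 1) (n + 1) n (by simp) (by simp)]
  have h := (resCx_mkAux_inv I M n).1
  rw [ChainComplex.mkAux_eq_shortComplex_mk_d_comp_d] at h
  exact h

theorem resCx_d_one_zero : (resCx I M).d 1 0 = (syz I (tcoverMap I M)).2.1 :=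
  ChainComplex.mk_d_1_0 _ _ _ _ _ _ _

theorem resCx_d_comp : (resCx I M).d 1 0 ≫ tcoverMap I M = 0 := by
  rw [resCx_d_one_zero]
  exact (syz I (tcoverMap I M)).2.2

theorem resCx_exact_and_epi (hM : LocCoh.IsPowerTorsion I M)
    (f : (syz I (tcoverMap I M)).1 ⟶ tcoverObj I M) (g : tcoverObj I M ⟶ M)
    (w : f ≫ g = 0) (hf : f = (syz I (tcoverMap I M)).2.1) (hg : g = tcoverMap I M) :
    (ShortComplex.mk f g w).Exact ∧ Epi g := by
  subst hf
  subst hg
  refine ⟨syz_exact I _ (isSumQuot_tcoverObj I _).isPowerTorsion, ?_⟩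
  rw [ModuleCat.epi_iff_surjective]
  exact tcoverLin_surjective I M hM

theorem main (hM : LocCoh.IsPowerTorsion I M) :
    ∃ (K : ChainComplex (ModuleCat.{u} R) ℕ) (π : K ⟶ (ChainComplex.single₀ (ModuleCat.{u} R)).obj M),
      QuasiIso π ∧ ∀ i : ℕ, IsSumQuot I (K.X i) := by
  refine ⟨resCx I M, (ChainComplex.toSingle₀Equiv _ _).symm ⟨tcoverMap I M, resCx_d_comp I M⟩,
    ⟨fun n => ?_⟩, resCx_isSumQuot I M⟩
  cases n with
  | zero =>
    rw [ChainComplex.quasiIsoAt₀_iff, ShortComplex.quasiIso_iff_of_zeros']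
    · exact resCx_exact_and_epi I M hM ((resCx I M).d 1 0)
        ((((resCx I M).toSingle₀Equiv M).symm ⟨tcoverMap I M, resCx_d_comp I M⟩).f 0) _
        (resCx_d_one_zero I M)
        (ChainComplex.toSingle₀Equiv_symm_apply_f_zero (C := resCx I M) (tcoverMap I M)
          (resCx_d_comp I M))
    all_goals rfl
  | succ n =>
    rw [quasiIsoAt_iff_exactAt']
    · exact resCx_exactAt_succ I M n
    · apply ChainComplex.exactAt_succ_single_obj


end Helpers

/-- Let R be a commutative ring, I an ideal and M an R-module in which every element is killed by a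
power of I. Then M has a left resolution by modules each of which is a direct sum of copies of R/I^n
for varying n: there are a chain complex K of R-modules, a quasi-isomorphism from K to M placed in
degree 0, and for each i an isomorphism of K_i with such a direct sum. -/
theorem result {R : Type u} [CommRing R] (I : Ideal R)
    (M : Type u) [AddCommGroup M] [Module R M] (hM : LocCoh.IsPowerTorsion I M) :
    ∃ (K : ChainComplex (ModuleCat.{u} R) ℕ) (π : K ⟶ (ChainComplex.single₀ (ModuleCat.{u} R)).obj (ModuleCat.of R M)),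
      QuasiIso π ∧ ∀ i : ℕ, ∃ (ι : Type u) (n : ι → ℕ),
        Nonempty (K.X i ≅ ModuleCat.of R (DirectSum ι fun j => R ⧸ I ^ n j)) := by
  obtain ⟨K, π, hπ, hK⟩ := main I (ModuleCat.of R M) hM
  exact ⟨K, π, hπ, hK⟩

end Groth.Agent.S7089
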