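import Groth.Statements.S7090
import Groth.Agent.Lib.Helper73.FlatGlue

set_option maxSynthPendingDepth 3

set_option autoImplicit false
universe u
open TensorProduct
open EtAlg

namespace Groth.Agent.S7090

/-- Let R → S be a flat homomorphism of commutative rings and I = (f_1, …, f_t) a finitely generated
ideal such that R/I → S/IS is bijective. Then for every R-module M the glueing complex 0 → M → (S
⊗_R M) × ∏ M_{f_i} → ∏ (S ⊗_R M)_{f_i} × ∏ M_{f_i f_j} is exact. Concretely: an element of M with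
zero image in S ⊗_R M and in every M_{f_i} is zero; and given x in S ⊗_R M and elements m_1, …, m_t
of M and N ≥ 0 such that x and m_i / f_i^N have the same image in (S ⊗_R M)_{f_i} for each i, and
m_i / f_i^N, m_j / f_j^N have the same image in M_{f_i f_j} for all i, j, there is m in M with 1 ⊗ m
= x and m / 1 = m_i / f_i^N in M_{f_i} for every i. -/
theorem result {R S : Type u} [CommRing R] [CommRing S] [Algebra R S] [Module.Flat R S]
    {t : ℕ} (f : Fin t → R) (I : Ideal R) (hI : Ideal.span (Set.range f) = I)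
    (hq : Function.Bijective
      (Ideal.quotientMap (Ideal.map (algebraMap R S) I) (algebraMap R S) Ideal.le_comap_map))
    (M : Type u) [AddCommGroup M] [Module R M] :
    (∀ m : M, (1 : S) ⊗ₜ[R] m = 0 →
        (∀ i : Fin t, LocalizedModule.mkLinearMap (Submonoid.powers (f i)) M m = 0) → m = 0) ∧
    ∀ (x : S ⊗[R] M) (N : ℕ) (m : Fin t → M),
      (∀ i : Fin t, EtGlue.locOfTensor R S (f i) M x =
          EtGlue.tensorOfLoc R S (f i) M (LocalizedModule.mk (m i) ⟨f i ^ N, Submonoid.pow_mem _ (Submonoid.mem_powers (f i)) N⟩)) →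
      (∀ i j : Fin t, ∃ e : ℕ, (f i * f j) ^ e • (f j ^ N • m i - f i ^ N • m j) = 0) →
        ∃ μ : M, (1 : S) ⊗ₜ[R] μ = x ∧
          ∀ i : Fin t, LocalizedModule.mkLinearMap (Submonoid.powers (f i)) M μ =
            LocalizedModule.mk (m i) ⟨f i ^ N, Submonoid.pow_mem _ (Submonoid.mem_powers (f i)) N⟩ := by
  subst hI
  refine ⟨?_, ?_⟩
  · intro m hm0 hloc
    apply Groth.Agent.Lib.Helper73.FlatGlue.eq_zero_of_tmul_eq_zero f hq m hm0
    intro i
    have := hloc i
    rw [IsLocalizedModule.eq_zero_iff (Submonoid.powers (f i))] at this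
    obtain ⟨⟨_, e, rfl⟩, hc⟩ := this
    exact ⟨e, hc⟩
  · intro x N m hx hm
    have hx' : ∀ i, ∃ e : ℕ, f i ^ e • (f i ^ N • x - (1 : S) ⊗ₜ[R] m i) = 0 := by
      intro i
      have h := hx i
      have e1 : ∀ s : Submonoid.powers (f i), EtGlue.tensorOfLoc R S (f i) M (LocalizedModule.mk (m i) s) =
          LocalizedModule.mk ((1 : S) ⊗ₜ[R] m i) s := by
        intro s
        show IsLocalizedModule.map _ _ _ _ _ = _
        rw [IsLocalizedModule.mk_eq_mk', IsLocalizedModule.map_mk', ← IsLocalizedModule.mk_eq_mk']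
        rfl
      rw [e1, LocalizedModule.mkLinearMap_apply, LocalizedModule.mk_eq] at h
      obtain ⟨⟨_, e, rfl⟩, hu⟩ := h
      refine ⟨e, ?_⟩
      rw [smul_sub, sub_eq_zero]
      simpa [Submonoid.smul_def] using hu
    obtain ⟨μ, h1, h2⟩ := Groth.Agent.Lib.Helper73.FlatGlue.glueing_exact f hq x N m hx' hm
    refine ⟨μ, h1, fun i => ?_⟩
    obtain ⟨e, he⟩ := h2 i
    rw [LocalizedModule.mkLinearMap_apply, LocalizedModule.mk_eq]
    refine ⟨⟨f i ^ e, Submonoid.pow_mem _ (Submonoid.mem_powers (f i)) e⟩, ?_⟩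
    rw [smul_sub, sub_eq_zero] at he
    simpa [Submonoid.smul_def] using he

end Groth.Agent.S7090
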