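import Groth.Statements.S7106
import Groth.Agent.Lib.Helper35.HtpyZ
import Mathlib.Algebra.Category.ModuleCat.Projective
import Mathlib.Algebra.Category.ModuleCat.EnoughInjectives

set_option autoImplicit false
universe u
attribute [local instance] HasDerivedCategory.standard
open CategoryTheory
open DRing

namespace Groth.Agent.S7106

/-- Let R be a commutative ring, M a cochain complex of R-modules with M^i = 0 for i > 0 and M^0
projective, K a cochain complex with K^i = 0 for i outside [-1, 0] and K^0 projective, and a : M → K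
a chain map. Then precomposition with a is the zero map Ext^1_R(K, N) → Ext^1_R(M, N) (morphisms
into N[1] in D(R)) for every R-module N if and only if there is a map h : M^0 → K^{-1} with a^{-1} +
h ∘ d_M^{-1} = 0. (The published statement composes h^0 with the differential K^{-1} → K^0 of K,
which is not defined; this row composes it with the differential M^{-1} → M^0 of M, as the homotopy
in the published proof does.) -/
theorem result {R : Type u} [CommRing R] (M K : DRing.Cx R)
    (hM : ∀ i : ℤ, 0 < i → Limits.IsZero (M.X i)) (hM0 : Module.Projective R (M.X 0))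
    (hK : ∀ i : ℤ, i ≠ -1 → i ≠ 0 → Limits.IsZero (K.X i)) (hK0 : Module.Projective R (K.X 0))
    (a : M ⟶ K) :
    (∀ (N : Type u) [AddCommGroup N] [Module R N] (ξ : DRing.toD K ⟶ (Dual.inD R N)⟦(1 : ℤ)⟧),
        DerivedCategory.Q.map a ≫ ξ = 0) ↔
      ∃ h : M.X 0 ⟶ K.X (-1), a.f (-1) + M.d (-1) 0 ≫ h = 0 := by
  have hPM : Projective (M.X 0) :=
    (IsProjective.iff_projective (R := R) (P := M.X 0)).mp hM0
  have hPK : Projective (K.X 0) :=
    (IsProjective.iff_projective (R := R) (P := K.X 0)).mp hK0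
  have hKpos : ∀ i : ℤ, 0 < i → Limits.IsZero (K.X i) := fun i hi => hK i (by omega) (by omega)
  have hS : ∀ (N : ModuleCat.{u} R) (i : ℤ), i < -1 →
      Limits.IsZero ((Groth.Agent.Lib.Helper35.KL.sgl N).X i) := fun N i hi =>
    Groth.Agent.Lib.Helper35.KL.isZero_sgl_X N i (by omega)
  constructor
  · intro H
    -- the projection `K ⟶ K⁻¹[1]`
    let u : K ⟶ Groth.Agent.Lib.Helper35.KL.sgl (K.X (-1)) :=
      HomologicalComplex.mkHomToSingle (𝟙 (K.X (-1))) (fun i hi => by
        have hi' : i + 1 = -1 := hi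
        exact (hK i (by omega) (by omega)).eq_of_src _ _)
    have hu : u.f (-1) = 𝟙 (K.X (-1)) ≫
        (HomologicalComplex.singleObjXSelf (ComplexShape.up ℤ) (-1) (K.X (-1))).inv :=
      HomologicalComplex.mkHomToSingle_f _ _
    have h1 := H (K.X (-1)) (DerivedCategory.Q.map u ≫
      (Groth.Agent.Lib.Helper35.KL.shiftSingleIso (K.X (-1))).inv)
    rw [← Category.assoc, ← Functor.map_comp] at h1
    have h2 : DerivedCategory.Q.map (a ≫ u) = 0 := by
      rw [← cancel_mono (Groth.Agent.Lib.Helper35.KL.shiftSingleIso (K.X (-1))).inv, h1,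
        Limits.zero_comp]
    obtain ⟨Hty⟩ := Groth.Agent.Lib.Helper35.KL.nonempty_homotopy_of_Q_map_eq_zero hM
      (hS (K.X (-1))) (a ≫ u) h2
    obtain ⟨h', hh'⟩ := Groth.Agent.Lib.Helper35.KL.exists_factor_of_homotopy (a ≫ u) Hty
    refine ⟨-(h' ≫ (HomologicalComplex.singleObjXSelf (ComplexShape.up ℤ) (-1) (K.X (-1))).hom), ?_⟩
    rw [HomologicalComplex.comp_f, hu, Category.id_comp] at hh'
    have h3 : a.f (-1) = M.d (-1) 0 ≫ h' ≫
        (HomologicalComplex.singleObjXSelf (ComplexShape.up ℤ) (-1) (K.X (-1))).hom := by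
      rw [← Category.assoc, ← hh', Category.assoc, Iso.inv_hom_id, Category.comp_id]
    rw [Preadditive.comp_neg, ← h3, add_neg_cancel]
  · rintro ⟨h, hh⟩ N _ _ ξ
    obtain ⟨u, hu⟩ := Groth.Agent.Lib.Helper35.KL.exists_Q_map_eq hKpos (hS (ModuleCat.of R N))
      (ξ ≫ (Groth.Agent.Lib.Helper35.KL.shiftSingleIso (ModuleCat.of R N)).hom)
    have h1 : (a ≫ u).f (-1) = M.d (-1) 0 ≫ (-(h ≫ u.f (-1))) := by
      rw [HomologicalComplex.comp_f, Preadditive.comp_neg, ← Category.assoc, ← Preadditive.neg_comp]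
      congr 1
      exact eq_neg_of_add_eq_zero_left hh
    obtain ⟨Hty⟩ := Groth.Agent.Lib.Helper35.KL.nonempty_homotopy_zero_of_factor (a ≫ u) _ h1
    have h2 := Groth.Agent.Lib.Helper35.KL.Q_map_eq_zero_of_homotopy (a ≫ u) Hty
    rw [Functor.map_comp, hu, ← Category.assoc] at h2
    rw [← cancel_mono (Groth.Agent.Lib.Helper35.KL.shiftSingleIso (ModuleCat.of R N)).hom, h2,
      Limits.zero_comp]

end Groth.Agent.S7106
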