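import Groth.Statements.S7108
import Groth.Agent.Lib.Helper35.Swindle
import Mathlib.Algebra.Exact.Basic

set_option autoImplicit false
universe u
open CAlg

namespace Groth.Agent.S7108

/-- Every projective module P over a ring R becomes free after adding a suitable free module: P ⊕ F is
free for some free module F (here F is the free module on some index type). -/
theorem result (R : Type u) [CommRing R] (P : Type u) [AddCommGroup P]
    [Module R P] [Module.Projective R P] : ∃ ι : Type u, Module.Free R (P × (ι →₀ R)) := by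
  obtain ⟨s, hs⟩ := Module.projective_def'.mp ‹Module.Projective R P›
  have e0 := (Function.Exact.splitSurjectiveEquiv
    (LinearMap.exact_subtype_ker_map (Finsupp.linearCombination R (id : P → P)))
    (Submodule.injective_subtype _) ⟨s, hs⟩).1
  set Q := LinearMap.ker (Finsupp.linearCombination R (id : P → P))
  let e1 : (P × (Q × (ℕ × P →₀ R))) ≃ₗ[R] (ℕ × P →₀ R) :=
    (LinearEquiv.prodAssoc R P Q (ℕ × P →₀ R)).symm ≪≫ₗ
    (LinearEquiv.prodCongr ((LinearEquiv.prodComm R P Q) ≪≫ₗ e0.symm)
      (Finsupp.curryLinearEquiv (R := R) (α := ℕ) (β := P) (M := R))) ≪≫ₗ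
    (Groth.Agent.Lib.Helper35.finsuppNatShiftLEquiv (R := R) (M := P →₀ R)).symm ≪≫ₗ
    (Finsupp.curryLinearEquiv (R := R) (α := ℕ) (β := P) (M := R)).symm
  obtain ⟨e2⟩ := Groth.Agent.Lib.Helper35.eilenberg_swindle R P (Q × (ℕ × P →₀ R)) (ℕ × P) e1
  exact ⟨ℕ × P, Module.Free.of_equiv e2.symm⟩

end Groth.Agent.S7108
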