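import Groth.Statements.S7114
import Mathlib.RingTheory.Ideal.Span
import Mathlib.Tactic.LinearCombination
import Mathlib.Tactic.Ring
import Mathlib.RingTheory.Ideal.Quotient.Basic
import Mathlib.LinearAlgebra.Quotient.Basic

set_option autoImplicit false
universe u
open CAlg

namespace Groth.Agent.S7114

section
variable {R : Type u} [CommRing R] (x : R)

/-- multiplication by `x^n : R/(x) → R/(x^(n+1))` -/
noncomputable def mulMap (n : ℕ) :
    (R ⧸ Ideal.span {x}) →ₗ[R] (R ⧸ Ideal.span {x ^ (n + 1)}) :=
  Submodule.mapQ (Ideal.span {x}) (Ideal.span {x ^ (n + 1)}) (LinearMap.mulLeft R (x ^ n)) (by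
    intro y hy
    rw [Ideal.mem_span_singleton'] at hy
    obtain ⟨a, rfl⟩ := hy
    simp only [Submodule.mem_comap, LinearMap.mulLeft_apply]
    rw [Ideal.mem_span_singleton']
    exact ⟨a, by ring⟩)

/-- the projection `R/(x^(n+1)) → R/(x^n)` -/
noncomputable def projMap (n : ℕ) :
    (R ⧸ Ideal.span {x ^ (n + 1)}) →ₗ[R] (R ⧸ Ideal.span {x ^ n}) :=
  Submodule.mapQ (Ideal.span {x ^ (n + 1)}) (Ideal.span {x ^ n}) LinearMap.id (by
    intro y hy
    rw [Ideal.mem_span_singleton'] at hy
    obtain ⟨a, rfl⟩ := hy
    simp only [Submodule.mem_comap, LinearMap.id_apply]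
    rw [Ideal.mem_span_singleton']
    exact ⟨a * x, by ring⟩)

theorem mulMap_mk (n : ℕ) (b : R) :
    mulMap x n (Submodule.Quotient.mk b) = Submodule.Quotient.mk (x ^ n * b) := rfl

theorem projMap_mk (n : ℕ) (a : R) :
    projMap x n (Submodule.Quotient.mk a) = Submodule.Quotient.mk a := rfl

theorem projMap_surjective (n : ℕ) : Function.Surjective (projMap x n) := by
  intro y
  obtain ⟨a, rfl⟩ := Submodule.Quotient.mk_surjective _ y
  exact ⟨Submodule.Quotient.mk a, projMap_mk x n a⟩

theorem exact_mulMap_projMap (n : ℕ) : Function.Exact (mulMap x n) (projMap x n) := by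
  intro y
  obtain ⟨a, rfl⟩ := Submodule.Quotient.mk_surjective _ y
  rw [projMap_mk, Submodule.Quotient.mk_eq_zero]
  constructor
  · intro ha
    obtain ⟨b, rfl⟩ := Ideal.mem_span_singleton'.mp ha
    exact ⟨Submodule.Quotient.mk b, by rw [mulMap_mk, mul_comm]⟩
  · rintro ⟨c, hc⟩
    obtain ⟨b, rfl⟩ := Submodule.Quotient.mk_surjective _ c
    rw [mulMap_mk] at hc
    have h1 : (x ^ n * b - a) ∈ Ideal.span {x ^ (n + 1)} := by
      rw [← Submodule.Quotient.mk_eq_zero, Submodule.Quotient.mk_sub, hc, sub_self]
    obtain ⟨d, hd⟩ := Ideal.mem_span_singleton'.mp h1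
    rw [Ideal.mem_span_singleton']
    exact ⟨b - d * x, by linear_combination (-1 : R) * hd⟩

theorem mulMap_injective (hx : x ∈ nonZeroDivisors R) (n : ℕ) :
    Function.Injective (mulMap x n) := by
  rw [← LinearMap.ker_eq_bot, LinearMap.ker_eq_bot']
  intro c hc
  obtain ⟨b, rfl⟩ := Submodule.Quotient.mk_surjective _ c
  rw [mulMap_mk, Submodule.Quotient.mk_eq_zero] at hc
  obtain ⟨d, hd⟩ := Ideal.mem_span_singleton'.mp hc
  rw [Submodule.Quotient.mk_eq_zero, Ideal.mem_span_singleton']
  refine ⟨d, ?_⟩
  have hxn : x ^ n ∈ nonZeroDivisors R := pow_mem hx n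
  have h2 : (d * x - b) * x ^ n = 0 := by linear_combination hd
  have := (mem_nonZeroDivisors_iff_right.mp hxn) _ h2
  linear_combination this

theorem length_succ_le (n : ℕ) :
    Module.length R (R ⧸ Ideal.span {x ^ (n + 1)}) ≤
      Module.length R (R ⧸ Ideal.span {x}) + Module.length R (R ⧸ Ideal.span {x ^ n}) := by
  have hex := exact_mulMap_projMap x n
  rw [Module.length_eq_add_of_exact (LinearMap.ker (projMap x n)).subtype (projMap x n)
    (Submodule.subtype_injective _) (projMap_surjective x n)
    (LinearMap.exact_subtype_ker_map (projMap x n))]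
  gcongr
  rw [LinearMap.exact_iff.mp hex]
  exact Module.length_le_of_surjective (mulMap x n).rangeRestrict
    (LinearMap.surjective_rangeRestrict _)

theorem length_succ_eq (hx : x ∈ nonZeroDivisors R) (n : ℕ) :
    Module.length R (R ⧸ Ideal.span {x ^ (n + 1)}) =
      Module.length R (R ⧸ Ideal.span {x}) + Module.length R (R ⧸ Ideal.span {x ^ n}) :=
  Module.length_eq_add_of_exact (mulMap x n) (projMap x n) (mulMap_injective x hx n)
    (projMap_surjective x n) (exact_mulMap_projMap x n)

theorem length_zero : Module.length R (R ⧸ Ideal.span {x ^ 0}) = 0 := by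
  rw [Module.length_eq_zero_iff, pow_zero, Ideal.span_singleton_one]
  exact Ideal.Quotient.subsingleton_iff.mpr rfl

end

/-- Let R be a Noetherian local ring of Krull dimension one and x an element of the maximal ideal lying
in no minimal prime of R. Then for every n the length of R/xⁿR is at most n times the length of
R/xR, and equality holds when x is a nonzerodivisor. -/
theorem result (R : Type u) [CommRing R] [IsNoetherianRing R] [IsLocalRing R]
    (hdim : ringKrullDim R = 1) (x : R) (hx : x ∈ IsLocalRing.maximalIdeal R)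
    (hmin : ∀ p ∈ minimalPrimes R, x ∉ p) (n : ℕ) :
    Module.length R (R ⧸ Ideal.span {x ^ n}) ≤ (n : ℕ∞) * Module.length R (R ⧸ Ideal.span {x}) ∧
      (x ∈ nonZeroDivisors R →
        Module.length R (R ⧸ Ideal.span {x ^ n}) = (n : ℕ∞) * Module.length R (R ⧸ Ideal.span {x})) := by
  constructor
  · induction n with
    | zero => rw [length_zero]; simp
    | succ k ih =>
      refine (length_succ_le x k).trans ?_
      calc Module.length R (R ⧸ Ideal.span {x}) + Module.length R (R ⧸ Ideal.span {x ^ k})
          ≤ Module.length R (R ⧸ Ideal.span {x}) + (k : ℕ∞) * Module.length R (R ⧸ Ideal.span {x}) := by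
            gcongr
        _ = ((k + 1 : ℕ) : ℕ∞) * Module.length R (R ⧸ Ideal.span {x}) := by
            push_cast; ring
  · intro hxnzd
    induction n with
    | zero => rw [length_zero]; simp
    | succ k ih =>
      rw [length_succ_eq x hxnzd k, ih]
      push_cast; ring

end Groth.Agent.S7114
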