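import Groth.Statements.S7122
import Groth.Agent.Lib.Helper35.Bezout
import Mathlib.LinearAlgebra.Determinant
import Mathlib.LinearAlgebra.Dimension.Constructions
import Mathlib.LinearAlgebra.Dimension.Free
import Mathlib.RingTheory.Ideal.Operations

set_option autoImplicit false
universe u
open CAlg

namespace Groth.Agent.S7122

/-- Let R be a Bézout domain, n ≥ 1, and f_1, ..., f_n elements generating the unit ideal. Then some
invertible n × n matrix over R has (f_1, ..., f_n) as its first row. -/
theorem result (R : Type u) [CommRing R] [IsDomain R] [IsBezout R]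
    (n : ℕ) (f : Fin (n + 1) → R) (hf : Ideal.span (Set.range f) = ⊤) :
    ∃ A : Matrix (Fin (n + 1)) (Fin (n + 1)) R, IsUnit A.det ∧ A 0 = f := by
  classical
  -- the linear form `φ v = ∑ v i * f i`
  let φ : (Fin (n + 1) → R) →ₗ[R] R := Fintype.linearCombination R f
  have hφ : ∀ v, φ v = ∑ i, v i * f i := fun v => by
    simp [φ, Fintype.linearCombination_apply]
  obtain ⟨c, hc⟩ : ∃ c : Fin (n + 1) → R, ∑ i, c i * f i = 1 := by
    have h1 : (1 : R) ∈ Ideal.span (Set.range f) := by rw [hf]; trivial
    exact Ideal.mem_span_range_iff_exists_fun.mp h1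
  -- section of φ
  let s : R →ₗ[R] (Fin (n + 1) → R) := LinearMap.toSpanSingleton R _ c
  have hs : φ ∘ₗ s = LinearMap.id := by
    apply LinearMap.ext_ring
    simp [s, hφ, hc]
  have e := (Function.Exact.splitSurjectiveEquiv
    (LinearMap.exact_subtype_ker_map φ) (Submodule.injective_subtype _) ⟨s, hs⟩)
  obtain ⟨e, -, he2⟩ := e
  -- the kernel is finite free of rank `n`
  have hfin : Module.Finite R (LinearMap.ker φ) :=
    Module.Finite.of_surjective ((LinearMap.fst R (LinearMap.ker φ) R) ∘ₗ e.toLinearMap)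
      ((LinearMap.fst_surjective (R := R) (M := LinearMap.ker φ) (M₂ := R)).comp e.surjective)
  have hfree : Module.Free R (LinearMap.ker φ) :=
    Groth.Agent.Lib.Helper35.free_of_fg_submodule_of_free _ _ (Module.Finite.iff_fg.mp hfin)
  have hrank : Module.finrank R (LinearMap.ker φ) = n := by
    have h1 := e.finrank_eq
    rw [Module.finrank_prod, Module.finrank_fin_fun, Module.finrank_self] at h1
    omega
  let bK := Module.finBasisOfFinrankEq R (LinearMap.ker φ) hrank
  -- the automorphism
  let E : (Fin (n + 1) → R) ≃ₗ[R] (Fin (n + 1) → R) :=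
    e ≪≫ₗ (LinearEquiv.prodComm R (LinearMap.ker φ) R) ≪≫ₗ
      (LinearEquiv.prodCongr (LinearEquiv.refl R R) bK.equivFun) ≪≫ₗ
      (Fin.consLinearEquiv R (fun _ : Fin (n + 1) => R))
  have hE : ∀ v, E v 0 = φ v := by
    intro v
    have : φ v = (e v).2 := LinearMap.congr_fun he2 v
    simp [E, this]
  refine ⟨LinearMap.toMatrix' (E : (Fin (n + 1) → R) →ₗ[R] (Fin (n + 1) → R)), ?_, ?_⟩
  · have := LinearEquiv.isUnit_det E (Pi.basisFun R (Fin (n + 1))) (Pi.basisFun R (Fin (n + 1)))
    rwa [LinearMap.toMatrix_eq_toMatrix'] at this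
  · funext i
    rw [LinearMap.toMatrix'_apply]
    have := hE (Pi.single i 1)
    rw [hφ] at this
    simpa [Pi.single_apply] using this

end Groth.Agent.S7122
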