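import Groth.Statements.S7123
import Mathlib.RingTheory.Ideal.Quotient.Basic
import Mathlib.LinearAlgebra.Quotient.Basic
import Mathlib.LinearAlgebra.Span.Basic

set_option autoImplicit false
universe u
open CAlg

namespace Groth.Agent.S7123

theorem smul_mk_one {R : Type u} [CommRing R] (I : Ideal R) (x : R) :
    x • (Ideal.Quotient.mk I 1) = Ideal.Quotient.mk I x := by
  have : x • (Ideal.Quotient.mk I 1) = Ideal.Quotient.mk I (x • 1) := rfl
  rw [this, smul_eq_mul, mul_one]

/-- The map `R ⧸ (r) → B` sending `1` to `b`, when `r • b = 0`. -/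
noncomputable def cyc {R : Type u} [CommRing R] {B : Type u} [AddCommGroup B] [Module R B]
    (r : R) (b : B) (h : r • b = 0) : (R ⧸ Ideal.span {r}) →ₗ[R] B :=
  Submodule.liftQ (Ideal.span {r}) (LinearMap.toSpanSingleton R B b) (by
    rw [Ideal.span, Submodule.span_le]
    intro x hx
    rw [Set.mem_singleton_iff] at hx
    subst hx
    simp [LinearMap.mem_ker, h])

theorem cyc_mk {R : Type u} [CommRing R] {B : Type u} [AddCommGroup B] [Module R B]
    (r : R) (b : B) (h : r • b = 0) (x : R) :
    cyc r b h (Ideal.Quotient.mk (Ideal.span {r}) x) = x • b := by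
  change Submodule.liftQ _ _ _ (Submodule.Quotient.mk x) = _
  rw [Submodule.liftQ_apply]
  simp

theorem cyc_ext {R : Type u} [CommRing R] {B : Type u} [AddCommGroup B] [Module R B]
    (r : R) (φ ψ : (R ⧸ Ideal.span {r}) →ₗ[R] B)
    (h : φ (Ideal.Quotient.mk _ 1) = ψ (Ideal.Quotient.mk _ 1)) : φ = ψ := by
  apply LinearMap.ext
  intro x
  obtain ⟨x, rfl⟩ := Ideal.Quotient.mk_surjective x
  rw [← smul_mk_one, map_smul, map_smul, h]

open DirectSum in
/-- For a module P over a ring R these two conditions are equivalent: (1) P is a retract (direct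
summand) of a direct sum of cyclic modules R/fR, f ranging over R; (2) for every surjection of
R-modules π : B → C whose kernel A satisfies fA = A ∩ fB for every f in R, each linear map P → C
lifts through π. -/
theorem result (R : Type u) [CommRing R] (P : Type u)
    [AddCommGroup P] [Module R P] :
    (∃ (ι : Type u) (f : ι → R) (i : P →ₗ[R] (⨁ j, R ⧸ Ideal.span {f j}))
        (p : (⨁ j, R ⧸ Ideal.span {f j}) →ₗ[R] P), p ∘ₗ i = LinearMap.id) ↔
      ∀ (B C : Type u) [AddCommGroup B] [Module R B] [AddCommGroup C] [Module R C] (π : B →ₗ[R] C),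
        Function.Surjective π →
        (∀ (f : R) (b : B), π (f • b) = 0 → ∃ a : B, π a = 0 ∧ f • a = f • b) →
        ∀ ψ : P →ₗ[R] C, ∃ φ : P →ₗ[R] B, π ∘ₗ φ = ψ := by
  classical
  constructor
  · rintro ⟨ι, f, i, p, hpi⟩ B C _ _ _ _ π hπ hRD ψ
    -- the elements c_j
    let c : ι → C := fun j => ψ (p (DirectSum.lof R ι (fun j => R ⧸ Ideal.span {f j}) j
      (Ideal.Quotient.mk _ 1)))
    have hc : ∀ j, f j • c j = 0 := by
      intro j
      simp only [c]
      rw [← map_smul, ← map_smul, ← map_smul]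
      have : f j • (Ideal.Quotient.mk (Ideal.span {f j}) 1) = 0 := by
        rw [smul_mk_one, Ideal.Quotient.eq_zero_iff_mem]
        exact Ideal.subset_span (Set.mem_singleton (f j))
      rw [this]; simp
    have hb : ∀ j, ∃ b : B, π b = c j ∧ f j • b = 0 := by
      intro j
      obtain ⟨b, hb⟩ := hπ (c j)
      obtain ⟨a, ha0, ha⟩ := hRD (f j) b (by rw [map_smul, hb, hc])
      exact ⟨b - a, by rw [map_sub, ha0, sub_zero, hb], by rw [smul_sub, ha, sub_self]⟩
    choose b hb1 hb2 using hb
    let Ψ : (DirectSum ι fun j => R ⧸ Ideal.span {f j}) →ₗ[R] B :=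
      DirectSum.toModule R ι B (fun j => cyc (f j) (b j) (hb2 j))
    have hΨ : π ∘ₗ Ψ = ψ ∘ₗ p := by
      apply DirectSum.linearMap_ext
      intro j
      apply cyc_ext
      simp only [LinearMap.comp_apply, Ψ, DirectSum.toModule_lof, cyc_mk, one_smul]
      exact hb1 j
    refine ⟨Ψ ∘ₗ i, ?_⟩
    rw [← LinearMap.comp_assoc, hΨ, LinearMap.comp_assoc, hpi, LinearMap.comp_id]
  · intro h
    let ι := {x : R × P // x.1 • x.2 = 0}
    let f : ι → R := fun j => j.1.1
    let π : (DirectSum ι fun j => R ⧸ Ideal.span {f j}) →ₗ[R] P :=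
      DirectSum.toModule R ι P (fun j => cyc (f j) j.1.2 j.2)
    have hπe : ∀ j : ι, π (DirectSum.lof R ι (fun j => R ⧸ Ideal.span {f j}) j
        (Ideal.Quotient.mk _ 1)) = j.1.2 := by
      intro j
      simp only [π, DirectSum.toModule_lof, cyc_mk, one_smul]
    have hπ : Function.Surjective π := by
      intro x
      exact ⟨_, hπe ⟨(0, x), zero_smul R x⟩⟩
    have hRD : ∀ (r : R) (b : DirectSum ι fun j => R ⧸ Ideal.span {f j}), π (r • b) = 0 →
        ∃ a, π a = 0 ∧ r • a = r • b := by
      intro r b hrb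
      rw [map_smul] at hrb
      let j : ι := ⟨(r, π b), hrb⟩
      let e := DirectSum.lof R ι (fun j => R ⧸ Ideal.span {f j}) j (Ideal.Quotient.mk _ 1)
      have he : r • e = 0 := by
        simp only [e]
        rw [← map_smul]
        have : r • (Ideal.Quotient.mk (Ideal.span {f j}) 1) = 0 := by
          rw [smul_mk_one, Ideal.Quotient.eq_zero_iff_mem]
          exact Ideal.subset_span (Set.mem_singleton r)
        rw [this]; simp
      refine ⟨b - e, ?_, ?_⟩
      · rw [map_sub, hπe j, sub_self]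
      · rw [smul_sub, he, sub_zero]
    obtain ⟨φ, hφ⟩ := h _ P π hπ hRD LinearMap.id
    exact ⟨ι, f, φ, π, hφ⟩

end Groth.Agent.S7123
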