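import Groth.Statements.S7124
import Groth.Agent.Lib.Helper25.ValuationExt

set_option autoImplicit false
universe u
open CAlg

namespace Groth.Agent.S7124

/-- Let A ⊆ B be an extension of valuation rings (both valuation domains, the inclusion injective and
local) with fraction fields K ⊆ L such that L/K is finite. Then the residue field of B is finite
over that of A, the value group of A has finite index in the value group of B, and (index of value
groups) · (residue degree) ≤ [L : K]. Here the value group of B is written as Lˣ modulo the units of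
B, and that of A as the image of Kˣ in it. -/
theorem result (A B K L : Type u) [CommRing A] [IsDomain A]
    [ValuationRing A] [CommRing B] [IsDomain B] [ValuationRing B] [Field K] [Field L]
    [Algebra A K] [IsFractionRing A K] [Algebra B L] [IsFractionRing B L] [Algebra A B] [Algebra K L]
    [Algebra A L] [IsScalarTower A K L] [IsScalarTower A B L] (hinj : Function.Injective (algebraMap A B))
    [IsLocalHom (algebraMap A B)] [FiniteDimensional K L] :
    let UB : Subgroup Lˣ := (Units.map (algebraMap B L).toMonoidHom).range
    let ΓA : Subgroup (Lˣ ⧸ UB) := ((QuotientGroup.mk' UB).comp (Units.map (algebraMap K L).toMonoidHom)).range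
    Module.Finite (IsLocalRing.ResidueField A) (IsLocalRing.ResidueField B) ∧ ΓA.index ≠ 0 ∧
      ΓA.index * Module.finrank (IsLocalRing.ResidueField A) (IsLocalRing.ResidueField B) ≤
        Module.finrank K L := by
  intro UB ΓA
  have G := fun f e ωb hωb q hq =>
    Groth.Agent.Lib.Helper25.ValuationExt.mul_le_finrank (A := A) (B := B) (K := K) (L := L)
      f e ωb hωb q hq
  -- (1) the residue extension is finite
  have hfin : Module.Finite (IsLocalRing.ResidueField A) (IsLocalRing.ResidueField B) := by
    by_contra hnf
    have hrank : ((Module.finrank K L + 1 : ℕ) : Cardinal) ≤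
        Module.rank (IsLocalRing.ResidueField A) (IsLocalRing.ResidueField B) := by
      have := not_lt.mp (mt Module.rank_lt_aleph0_iff.mp hnf)
      exact Cardinal.natCast_lt_aleph0.le.trans this
    obtain ⟨ωb, hωb⟩ := exists_linearIndependent_of_le_rank hrank
    have := G (Module.finrank K L + 1) 1 ωb hωb
      (fun _ => QuotientGroup.mk (QuotientGroup.mk (1 : Lˣ)))
      (Function.injective_of_subsingleton _)
    omega
  -- (2) the index is finite
  have hidx : ΓA.index ≠ 0 := by
    intro h0
    have hinf : Infinite ((Lˣ ⧸ UB) ⧸ ΓA) := Subgroup.index_eq_zero_iff_infinite.mp h0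
    have hli : LinearIndependent (IsLocalRing.ResidueField A)
        (fun _ : Fin 1 => (1 : IsLocalRing.ResidueField B)) :=
      LinearIndependent.of_subsingleton 0 one_ne_zero
    have := G 1 (Module.finrank K L + 1) (fun _ => 1) hli
      (fun j => Infinite.natEmbedding ((Lˣ ⧸ UB) ⧸ ΓA) j.val)
      ((Infinite.natEmbedding ((Lˣ ⧸ UB) ⧸ ΓA)).injective.comp Fin.val_injective)
    omega
  refine ⟨hfin, hidx, ?_⟩
  have hfinQ : Finite ((Lˣ ⧸ UB) ⧸ ΓA) := by
    by_contra hinf
    rw [not_finite_iff_infinite] at hinf
    exact hidx (Subgroup.index_eq_zero_iff_infinite.mpr hinf)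
  have hcard : ΓA.index = Nat.card ((Lˣ ⧸ UB) ⧸ ΓA) := rfl
  have := G (Module.finrank (IsLocalRing.ResidueField A) (IsLocalRing.ResidueField B))
    (Nat.card ((Lˣ ⧸ UB) ⧸ ΓA))
    (Module.finBasis (IsLocalRing.ResidueField A) (IsLocalRing.ResidueField B))
    (Module.finBasis (IsLocalRing.ResidueField A) (IsLocalRing.ResidueField B)).linearIndependent
    (Finite.equivFin ((Lˣ ⧸ UB) ⧸ ΓA)).symm (Finite.equivFin ((Lˣ ⧸ UB) ⧸ ΓA)).symm.injective
  rw [hcard]
  exact this

end Groth.Agent.S7124
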