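import Groth.Statements.S7126
import Mathlib.RingTheory.Flat.Stability
import Mathlib.LinearAlgebra.TensorProduct.Tower
import Mathlib.RingTheory.TensorProduct.Basic

set_option autoImplicit false
universe u
open EtAlg

namespace Groth.Agent.S7126

open TensorProduct

/-- If `M` is a flat `S`-module, `T` an `S`-module which is flat over `C` (`S` a `C`-algebra),
then `M ⊗[S] T` is flat over `C`. -/
theorem flat_tensor_of_flat {C S M T : Type u} [CommRing C] [CommRing S] [Algebra C S]
    [AddCommGroup M] [Module S M] [Module C M] [IsScalarTower C S M]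
    [AddCommGroup T] [Module S T] [Module C T] [IsScalarTower C S T]
    [Module.Flat S M] [Module.Flat C T] : Module.Flat C (M ⊗[S] T) := by
  rw [Module.Flat.iff_lTensor_preserves_injective_linearMap]
  intro X Y _ _ _ _ f hf
  -- `(M ⊗[S] T) ⊗[C] X ≃ M ⊗[S] (T ⊗[C] X)`
  let eX := TensorProduct.AlgebraTensorModule.assoc C S S M T X
  let eY := TensorProduct.AlgebraTensorModule.assoc C S S M T Y
  let g : T ⊗[C] X →ₗ[S] T ⊗[C] Y := TensorProduct.AlgebraTensorModule.lTensor S T f
  have hg : Function.Injective g := by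
    have : (g : T ⊗[C] X → T ⊗[C] Y) = f.lTensor T := rfl
    rw [this]
    exact Module.Flat.lTensor_preserves_injective_linearMap f hf
  have hg2 : Function.Injective (g.lTensor M) :=
    Module.Flat.lTensor_preserves_injective_linearMap g hg
  have hcomm : ∀ z, eY (f.lTensor (M ⊗[S] T) z) = g.lTensor M (eX z) := by
    intro z
    induction z using TensorProduct.induction_on with
    | zero => simp
    | add a b ha hb => simp only [map_add, ha, hb]
    | tmul mt x =>
      induction mt using TensorProduct.induction_on with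
      | zero => simp
      | add a b ha hb => simp only [TensorProduct.add_tmul, map_add, ha, hb]
      | tmul m t => simp [eX, eY, g]
  intro z z' hzz'
  apply eX.injective
  apply hg2
  rw [← hcomm, ← hcomm, hzz']

attribute [local instance] Algebra.TensorProduct.rightAlgebra

/-- `(B₁ ⊗[A] B₂) ⊗[B₁] N ≃ B₂ ⊗[A] N` as `B₂`-modules. -/
noncomputable def tensorTensorEquiv (A B₁ B₂ : Type u) [CommRing A] [CommRing B₁] [CommRing B₂]
    [Algebra A B₁] [Algebra A B₂] (N : Type u) [AddCommGroup N] [Module B₁ N] [Module A N]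
    [IsScalarTower A B₁ N] :
    ((B₁ ⊗[A] B₂) ⊗[B₁] N) ≃ₗ[B₂] (B₂ ⊗[A] N) := by
  let e1 : ((B₁ ⊗[A] B₂) ⊗[B₁] N) ≃ₗ[B₁] N ⊗[B₁] (B₁ ⊗[A] B₂) := TensorProduct.comm B₁ _ _
  let e2 : N ⊗[B₁] (B₁ ⊗[A] B₂) ≃ₗ[B₁] N ⊗[A] B₂ :=
    TensorProduct.AlgebraTensorModule.cancelBaseChange A B₁ B₁ N B₂
  let e3 : N ⊗[A] B₂ ≃ₗ[A] B₂ ⊗[A] N := TensorProduct.comm A _ _
  let e : ((B₁ ⊗[A] B₂) ⊗[B₁] N) ≃+ (B₂ ⊗[A] N) :=
    (e1.toAddEquiv.trans e2.toAddEquiv).trans e3.toAddEquiv
  refine e.toLinearEquiv ?_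
  intro c x
  induction x using TensorProduct.induction_on with
  | zero => simp
  | add a b ha hb => simp only [smul_add, map_add, ha, hb]
  | tmul s n =>
    induction s using TensorProduct.induction_on with
    | zero => simp
    | add a b ha hb => simp only [TensorProduct.add_tmul, smul_add, map_add, ha, hb]
    | tmul b₁ b₂ =>
      simp [e, e1, e2, e3, TensorProduct.smul_tmul', Algebra.smul_def,
        Algebra.TensorProduct.right_algebraMap_apply]

/-- General form with the two copies of `B` kept apart. -/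
theorem flat_general (A B₁ B₂ B' : Type u) [CommRing A] [CommRing B₁] [CommRing B₂]
    [CommRing B'] [Algebra A B₁] [Algebra A B₂]
    [Algebra (B₁ ⊗[A] B₂) B'] [Algebra B₁ B'] [IsScalarTower B₁ (B₁ ⊗[A] B₂) B']
    [Algebra B₂ B'] [IsScalarTower B₂ (B₁ ⊗[A] B₂) B'] [SMulCommClass B₁ B₂ B']
    [Module.Flat (B₁ ⊗[A] B₂) B']
    (N : Type u) [AddCommGroup N] [Module B₁ N] [Module A N] [IsScalarTower A B₁ N]
    [Module.Flat A N] :
    Module.Flat B₂ (B' ⊗[B₁] N) := by
  -- `T = S ⊗[B₁] N` is flat over `B₂`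
  have hT : Module.Flat B₂ ((B₁ ⊗[A] B₂) ⊗[B₁] N) :=
    Module.Flat.of_linearEquiv (tensorTensorEquiv A B₁ B₂ N)
  have h1 : Module.Flat B₂ (B' ⊗[B₁ ⊗[A] B₂] ((B₁ ⊗[A] B₂) ⊗[B₁] N)) :=
    flat_tensor_of_flat (C := B₂) (S := B₁ ⊗[A] B₂) (M := B') (T := (B₁ ⊗[A] B₂) ⊗[B₁] N)
  let e : (B' ⊗[B₁ ⊗[A] B₂] ((B₁ ⊗[A] B₂) ⊗[B₁] N)) ≃ₗ[B'] B' ⊗[B₁] N :=
    TensorProduct.AlgebraTensorModule.cancelBaseChange B₁ (B₁ ⊗[A] B₂) B' B' N
  exact Module.Flat.of_linearEquiv (e.restrictScalars B₂).symm


/-- Suppose the multiplication map B ⊗_A B → B of an A-algebra B is flat. Then a B-module that is flat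
over A is also flat over B. -/
theorem result (A B : Type u) [CommRing A] [CommRing B] [Algebra A B]
    (h : (Algebra.TensorProduct.lmul' A (S := B)).Flat) (N : Type u) [AddCommGroup N] [Module B N] [Module A N]
    [IsScalarTower A B N] [Module.Flat A N] : Module.Flat B N := by
  letI : Algebra (B ⊗[A] B) B := (Algebra.TensorProduct.lmul' A (S := B)).toRingHom.toAlgebra
  have hμ : ∀ (b : B) (s : B ⊗[A] B), Algebra.TensorProduct.lmul' A (S := B) (b • s) =
      b * Algebra.TensorProduct.lmul' A (S := B) s := by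
    intro b s
    induction s using TensorProduct.induction_on with
    | zero => simp
    | add x y hx hy => rw [smul_add, map_add, hx, hy, map_add, mul_add]
    | tmul x y => simp [TensorProduct.smul_tmul', mul_assoc]
  haveI i1 : IsScalarTower B (B ⊗[A] B) B :=
    ⟨fun b s c => by
      change Algebra.TensorProduct.lmul' A (S := B) (b • s) * c =
        b * (Algebra.TensorProduct.lmul' A (S := B) s * c)
      rw [hμ, mul_assoc]⟩
  haveI i2 : @IsScalarTower B (B ⊗[A] B) B
      (Algebra.TensorProduct.rightAlgebra (R := A) (A := B) (B := B)).toSMul _ _ :=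
    @IsScalarTower.mk _ _ _ (Algebra.TensorProduct.rightAlgebra (R := A) (A := B) (B := B)).toSMul
      _ _ (fun b s c => by
      change Algebra.TensorProduct.lmul' A (S := B) ((1 ⊗ₜ[A] b) * s) * c =
        b * (Algebra.TensorProduct.lmul' A (S := B) s * c)
      rw [map_mul]
      simp [mul_assoc])
  haveI : Module.Flat (B ⊗[A] B) B := h
  have h2 := flat_general A B B B N
  exact Module.Flat.of_linearEquiv (TensorProduct.lid B N).symm

end Groth.Agent.S7126
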