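import Groth.Statements.S7133

set_option autoImplicit false
universe u
open EtAlg

namespace Groth.Agent.S7133

/-- For an injective local homomorphism A → B of discrete valuation rings whose fields of fractions are
K ⊆ L: if K has characteristic p > 0 and L/K is purely inseparable, then the ramification index of B
over A is a power of p. -/
theorem result (A B K L : Type u) [CommRing A] [IsDomain A]
    [IsDiscreteValuationRing A] [CommRing B] [IsDomain B] [IsDiscreteValuationRing B] [Algebra A B]
    (hinj : Function.Injective (algebraMap A B)) [IsLocalHom (algebraMap A B)]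
    [Field K] [Field L] [Algebra A K] [IsFractionRing A K] [Algebra B L] [IsFractionRing B L]
    [Algebra K L] [Algebra A L] [IsScalarTower A K L] [IsScalarTower A B L]
    (p : ℕ) (hp : p.Prime) [CharP K p] [IsPurelyInseparable K L] :
    ∃ k : ℕ, Ideal.ramificationIdx' (IsLocalRing.maximalIdeal A) (IsLocalRing.maximalIdeal B) =
      p ^ k := by
  classical
  set f := algebraMap A B with hf
  obtain ⟨ϖA, hA⟩ := IsDiscreteValuationRing.exists_irreducible A
  obtain ⟨ϖB, hB⟩ := IsDiscreteValuationRing.exists_irreducible B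
  have hmA : IsLocalRing.maximalIdeal A = Ideal.span {ϖA} := hA.maximalIdeal_eq
  have hmB : IsLocalRing.maximalIdeal B = Ideal.span {ϖB} := hB.maximalIdeal_eq
  have hfϖ : f ϖA ≠ 0 := by
    intro h
    exact hA.ne_zero (hinj (by rw [h, map_zero]))
  -- e := addVal (f ϖA)
  obtain ⟨e, he⟩ : ∃ e : ℕ, IsDiscreteValuationRing.addVal B (f ϖA) = e := by
    have : IsDiscreteValuationRing.addVal B (f ϖA) ≠ ⊤ := by
      rw [Ne, IsDiscreteValuationRing.addVal_eq_top_iff]; exact hfϖ
    obtain ⟨e, he⟩ := ENat.ne_top_iff_exists.mp this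
    exact ⟨e, he.symm⟩
  have hpowval : ∀ n : ℕ, IsDiscreteValuationRing.addVal B (ϖB ^ n) = n := by
    intro n
    rw [IsDiscreteValuationRing.addVal_pow, IsDiscreteValuationRing.addVal_uniformizer hB]
    simp
  have hle : ∀ n : ℕ, Ideal.map f (IsLocalRing.maximalIdeal A) ≤ IsLocalRing.maximalIdeal B ^ n ↔
      n ≤ e := by
    intro n
    rw [hmA, hmB, Ideal.map_span, Set.image_singleton, Ideal.span_singleton_pow,
      Ideal.span_singleton_le_span_singleton, ← IsDiscreteValuationRing.addVal_le_iff_dvd,
      hpowval, he]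
    exact Nat.cast_le
  have hram : Ideal.ramificationIdx' (IsLocalRing.maximalIdeal A) (IsLocalRing.maximalIdeal B) = e :=
    Ideal.ramificationIdx'_spec ((hle e).mpr le_rfl) (by rw [hle]; omega)
  rw [hram]
  -- valuations of images
  have hval : ∀ x : A, x ≠ 0 → ∃ i : ℕ, IsDiscreteValuationRing.addVal B (f x) = ((i * e : ℕ) : ℕ∞) := by
    intro x hx
    obtain ⟨i, u, rfl⟩ := IsDiscreteValuationRing.eq_unit_mul_pow_irreducible hx hA
    refine ⟨i, ?_⟩
    rw [map_mul, map_pow, IsDiscreteValuationRing.addVal_mul, IsDiscreteValuationRing.addVal_pow, he]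
    have : IsDiscreteValuationRing.addVal B (f (u : A)) = 0 :=
      IsDiscreteValuationRing.addVal_eq_zero_of_unit (Units.map (f : A →* B) u)
    rw [this, zero_add]
    push_cast
    simp
  -- purely inseparable
  have : ExpChar K p := ExpChar.prime hp
  obtain ⟨n, y, hy⟩ := IsPurelyInseparable.pow_mem K p (algebraMap B L ϖB)
  obtain ⟨a, b, hb, rfl⟩ := IsFractionRing.div_surjective (A := A) y
  have hb0 : b ≠ 0 := nonZeroDivisors.ne_zero hb
  have hbK : algebraMap A K b ≠ 0 := by
    rw [Ne, IsFractionRing.to_map_eq_zero_iff]; exact hb0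
  have hLinj : Function.Injective (algebraMap B L) := IsFractionRing.injective B L
  have key : ϖB ^ (p ^ n) * f b = f a := by
    apply hLinj
    rw [map_mul, map_pow, ← hy, ← IsScalarTower.algebraMap_apply A B L,
      ← IsScalarTower.algebraMap_apply A B L, IsScalarTower.algebraMap_apply A K L b,
      IsScalarTower.algebraMap_apply A K L a, ← map_mul, div_mul_cancel₀ _ hbK]
  have ha0 : a ≠ 0 := by
    rintro rfl
    rw [map_zero] at key
    have hfb : f b ≠ 0 := fun h => hb0 (hinj (by rw [h, map_zero]))
    exact mul_ne_zero (pow_ne_zero _ hB.ne_zero) hfb key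
  obtain ⟨i, hi⟩ := hval a ha0
  obtain ⟨j, hj⟩ := hval b hb0
  have h2 := congrArg (IsDiscreteValuationRing.addVal B) key
  rw [IsDiscreteValuationRing.addVal_mul, hpowval, hi, hj] at h2
  have h3 : p ^ n + j * e = i * e := by exact_mod_cast h2
  have hdvd : e ∣ p ^ n := by
    have : e ∣ p ^ n + j * e := ⟨i, by rw [h3]; ring⟩
    exact (Nat.dvd_add_left (Dvd.intro_left j rfl)).mp this
  obtain ⟨k, _, hk⟩ := (Nat.dvd_prime_pow hp).mp hdvd
  exact ⟨k, hk⟩


end Groth.Agent.S7133
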