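import Groth.Statements.S7134
import Groth.Agent.Lib.Helper47.FlatFibreSmooth
import Groth.Agent.Lib.Helper90.SmoothRegular3
import Groth.Agent.S2451

set_option autoImplicit false
universe u
open EtAlg

namespace Groth.Agent.S7134

/-- For an injective local homomorphism A → B of discrete valuation rings, A → B is formally smooth for
the adic topology of the maximal ideal of B if and only if A → B is weakly unramified and the
residue field of B is a separable (possibly transcendental, i.e. geometrically reduced) extension of
the residue field of A. -/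
theorem result (A B : Type u) [CommRing A]
    [IsDomain A] [IsDiscreteValuationRing A] [CommRing B] [IsDomain B] [IsDiscreteValuationRing B] [Algebra A B]
    (hinj : Function.Injective (algebraMap A B)) [IsLocalHom (algebraMap A B)] :
    CAlgX.IsAdicFormallySmooth A B (IsLocalRing.maximalIdeal B) ↔
      EtRam.IsWeaklyUnramified A B ∧
        Algebra.IsGeometricallyReduced (IsLocalRing.ResidueField A) (IsLocalRing.ResidueField B) := by
  haveI : Module.IsTorsionFree A B := by
    apply Module.IsTorsionFree.of_smul_eq_zero
    intro a b hab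
    rw [Algebra.smul_def, mul_eq_zero] at hab
    rcases hab with h | h
    · left
      exact (map_eq_zero_iff _ hinj).mp h
    · exact Or.inr h
  haveI : Module.Flat A B := inferInstance
  constructor
  · intro h
    have h1 := Groth.Agent.Lib.Helper47.isAdicFormallySmooth_fibre_of_flat h
    have hle : (IsLocalRing.maximalIdeal A).map (algebraMap A B) ≤ IsLocalRing.maximalIdeal B :=
      IsLocalRing.map_maximalIdeal_le (algebraMap A B)
    have hne : (IsLocalRing.maximalIdeal A).map (algebraMap A B) ≠ ⊤ :=
      fun htop => (IsLocalRing.maximalIdeal.isMaximal B).ne_top (top_le_iff.mp (htop ▸ hle))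
    haveI : Nontrivial (B ⧸ (IsLocalRing.maximalIdeal A).map (algebraMap A B)) :=
      Ideal.Quotient.nontrivial_iff.mpr hne
    haveI : IsLocalRing (B ⧸ (IsLocalRing.maximalIdeal A).map (algebraMap A B)) :=
      IsLocalRing.of_surjective' (Ideal.Quotient.mk _) Ideal.Quotient.mk_surjective
    let _ : Field (A ⧸ IsLocalRing.maximalIdeal A) := Ideal.Quotient.field _
    rw [IsLocalRing.map_maximalIdeal_of_surjective (Ideal.Quotient.mk _)
      Ideal.Quotient.mk_surjective] at h1
    haveI hreg : IsRegularLocalRing (B ⧸ (IsLocalRing.maximalIdeal A).map (algebraMap A B)) :=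
      Groth.Agent.Lib.Helper90.SmoothRegular.regular_of_smooth_general h1
    haveI : IsDomain (B ⧸ (IsLocalRing.maximalIdeal A).map (algebraMap A B)) :=
      Groth.Agent.Lib.Helper85.isDomain_of_isRegularLocalRing _
    -- the maximal ideal of `B` is contained in `𝔪_A B`
    have hwu : (IsLocalRing.maximalIdeal A).map (algebraMap A B) = IsLocalRing.maximalIdeal B := by
      apply le_antisymm hle
      obtain ⟨ϖ, hϖ⟩ := IsDiscreteValuationRing.exists_irreducible B
      have hmB : IsLocalRing.maximalIdeal B = Ideal.span {ϖ} := hϖ.maximalIdeal_eq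
      obtain ⟨a, ha⟩ := IsDiscreteValuationRing.exists_irreducible A
      have hmA : IsLocalRing.maximalIdeal A = Ideal.span {a} := ha.maximalIdeal_eq
      -- `algebraMap a = u * ϖ ^ n`
      have ha0 : algebraMap A B a ≠ 0 := fun h0 => ha.ne_zero ((map_eq_zero_iff _ hinj).mp h0)
      obtain ⟨n, c, hc⟩ := IsDiscreteValuationRing.eq_unit_mul_pow_irreducible ha0 hϖ
      -- `ϖ ^ n ∈ 𝔪_A B`, so its class is zero in the domain quotient
      have h2 : ϖ ^ n ∈ (IsLocalRing.maximalIdeal A).map (algebraMap A B) := by
        have h3 : algebraMap A B a ∈ (IsLocalRing.maximalIdeal A).map (algebraMap A B) :=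
          Ideal.mem_map_of_mem _ (by rw [hmA]; exact Ideal.mem_span_singleton_self a)
        rw [hc] at h3
        have h4 := Ideal.mul_mem_left _ ((c⁻¹ : Bˣ) : B) h3
        rwa [← mul_assoc, Units.inv_mul, one_mul] at h4
      have h5 : Ideal.Quotient.mk ((IsLocalRing.maximalIdeal A).map (algebraMap A B)) ϖ ^ n = 0 := by
        rw [← map_pow]
        exact Ideal.Quotient.eq_zero_iff_mem.mpr h2
      have h6 := eq_zero_of_pow_eq_zero h5
      rw [hmB, Ideal.span_le, Set.singleton_subset_iff]
      exact Ideal.Quotient.eq_zero_iff_mem.mp h6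
    refine ⟨hwu, ?_⟩
    -- the residue field is formally smooth, hence separable
    let e₀ : (B ⧸ (IsLocalRing.maximalIdeal A).map (algebraMap A B)) ≃+*
        IsLocalRing.ResidueField B := Ideal.quotEquivOfEq hwu
    have hfield : IsField (B ⧸ (IsLocalRing.maximalIdeal A).map (algebraMap A B)) :=
      e₀.toMulEquiv.isField (Field.toIsField _)
    have hbot : IsLocalRing.maximalIdeal (B ⧸ (IsLocalRing.maximalIdeal A).map (algebraMap A B)) = ⊥ :=
      IsLocalRing.isField_iff_maximalIdeal_eq.mp hfield
    have hsm' : Algebra.FormallySmooth (A ⧸ IsLocalRing.maximalIdeal A)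
        (B ⧸ (IsLocalRing.maximalIdeal A).map (algebraMap A B)) := by
      apply Algebra.FormallySmooth.of_comp_surjective
      intro C _ _ I hI ψ
      obtain ⟨χ, hχ⟩ := h1 C I hI ψ ⟨1, by
        intro x hx
        rw [hbot, pow_one] at hx
        rw [(Submodule.mem_bot _).mp hx, map_zero]⟩
      exact ⟨χ, hχ⟩
    let _ : Algebra (A ⧸ IsLocalRing.maximalIdeal A) (IsLocalRing.ResidueField B) :=
      inferInstanceAs (Algebra (IsLocalRing.ResidueField A) (IsLocalRing.ResidueField B))
    let e : (B ⧸ (IsLocalRing.maximalIdeal A).map (algebraMap A B)) ≃ₐ[A ⧸ IsLocalRing.maximalIdeal A]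
        IsLocalRing.ResidueField B :=
      AlgEquiv.ofRingEquiv (f := e₀) (by
        intro x
        obtain ⟨a, rfl⟩ := Ideal.Quotient.mk_surjective (I := IsLocalRing.maximalIdeal A) x
        rfl)
    have hsm₁ : Algebra.FormallySmooth (A ⧸ IsLocalRing.maximalIdeal A) (IsLocalRing.ResidueField B) :=
      Algebra.FormallySmooth.of_equiv e
    have hsm : Algebra.FormallySmooth (IsLocalRing.ResidueField A) (IsLocalRing.ResidueField B) := hsm₁
    exact Groth.Agent.S2451.result.mp hsm
  · rintro ⟨hwu, hsep⟩
    have hsm : Algebra.FormallySmooth (IsLocalRing.ResidueField A) (IsLocalRing.ResidueField B) :=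
      Groth.Agent.S2451.result.mpr hsep
    exact Groth.Agent.Lib.Helper47.isAdicFormallySmooth_of_isFormallySmoothAdic
      (IsLocalRing.maximalIdeal A) (IsLocalRing.maximalIdeal B)
      (IsLocalRing.map_maximalIdeal_le (algebraMap A B))
      (Groth.Agent.Lib.Helper47.isFormallySmoothAdic_of_flat_of_map_maximalIdeal_eq hwu hsm)

end Groth.Agent.S7134
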