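import Groth.Statements.S7136
import Groth.Agent.Lib.Helper75.HomQuotientSystems

set_option autoImplicit false
universe u
open CAlg

namespace Groth.Agent.S7136

/-- Let A be a Noetherian ring, I an ideal, and M, N finite A-modules; write N_n = N/IⁿN, so that
Hom_A(M/IⁿM, N_n) = Hom_A(M, N_n). Then (1) the inverse system (Hom_A(M, N_n))_n, with transition
maps induced by the projections N_k → N_n, is Mittag-Leffler; (2) there is c ≥ 0 such that for all n
the kernel and the cokernel of Hom_A(M, N)/IⁿHom_A(M, N) → Hom_A(M, N_n) are annihilated by I^c. -/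
theorem result (A : Type u) [CommRing A] [IsNoetherianRing A]
    (I : Ideal A) (M N : Type u) [AddCommGroup M] [Module A M] [Module.Finite A M] [AddCommGroup N] [Module A N]
    [Module.Finite A N] :
    let Nq : ℕ → Submodule A N := fun n => I ^ n • ⊤
    let pr : ∀ n k : ℕ, n ≤ k → (N ⧸ Nq k) →ₗ[A] (N ⧸ Nq n) :=
      fun n k hnk => Submodule.mapQ (Nq k) (Nq n) (LinearMap.id : N →ₗ[A] N) (Submodule.smul_mono_left (Ideal.pow_le_pow_right hnk))
    let red : ∀ n : ℕ, (M →ₗ[A] N) → (M →ₗ[A] N ⧸ Nq n) := fun n φ => (Nq n).mkQ ∘ₗ φ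
    (∀ n : ℕ, ∃ m : ℕ, n ≤ m ∧ ∀ (k : ℕ) (hmk : m ≤ k) (hnm : n ≤ m) (ψ : M →ₗ[A] N ⧸ Nq m),
        ∃ ψ' : M →ₗ[A] N ⧸ Nq k, pr n k (hnm.trans hmk) ∘ₗ ψ' = pr n m hnm ∘ₗ ψ) ∧
    ∃ c : ℕ, ∀ n : ℕ,
      (∀ φ : M →ₗ[A] N, red n φ = 0 → ∀ a ∈ I ^ c, a • φ ∈ (I ^ n • ⊤ : Submodule A (M →ₗ[A] N))) ∧
      (∀ (ψ : M →ₗ[A] N ⧸ Nq n), ∀ a ∈ I ^ c, ∃ φ : M →ₗ[A] N, red n φ = a • ψ) := by
  intro Nq pr red
  obtain ⟨r, π, hπ⟩ := Module.Finite.exists_fin' A M
  have hker : (LinearMap.ker π).FG := IsNoetherian.noetherian _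
  obtain ⟨s, g, hg⟩ := Submodule.fg_iff_exists_fin_generating_family.mp hker
  obtain ⟨c, hc0, hc⟩ := Groth.Agent.Lib.Helper75.ArtinReesHomology.artinRees_homology I PUnit.{u+1} (Fin r → N) (Fin s → N) 0 (Groth.Agent.Lib.Helper75.HomQuotientSystems.beta g N)
    (by simp)
  simp only [LinearMap.range_zero, bot_sup_eq] at hc
  -- lifting the values of a homomorphism to `N / I^n N`
  have K1 : ∀ (n : ℕ) (ψ : M →ₗ[A] N ⧸ Nq n), ∃ y : Fin r → N,
      (∀ i, (Nq n).mkQ (y i) = Groth.Agent.Lib.Helper75.HomQuotientSystems.ev π _ ψ i) ∧ Groth.Agent.Lib.Helper75.HomQuotientSystems.beta g N y ∈ (I ^ n • ⊤ : Submodule A (Fin s → N)) := by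
    intro n ψ
    choose y hy using fun i => (Nq n).mkQ_surjective (Groth.Agent.Lib.Helper75.HomQuotientSystems.ev π _ ψ i)
    refine ⟨y, hy, ?_⟩
    rw [Groth.Agent.Lib.Helper75.HomQuotientSystems.mem_smul_top_pi]
    intro j
    change Groth.Agent.Lib.Helper75.HomQuotientSystems.beta g N y j ∈ Nq n
    rw [← Submodule.Quotient.mk_eq_zero, ← Submodule.mkQ_apply, Groth.Agent.Lib.Helper75.HomQuotientSystems.beta_apply, map_sum]
    have h1 := congrFun (Groth.Agent.Lib.Helper75.HomQuotientSystems.beta_ev π g hg _ ψ) j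
    rw [Groth.Agent.Lib.Helper75.HomQuotientSystems.beta_apply] at h1
    change _ = (0 : N ⧸ Nq n) at h1
    rw [← h1]
    refine Finset.sum_congr rfl fun i _ => ?_
    rw [map_smul, hy]
  -- comparing homomorphisms through their values
  have K2 : ∀ (n : ℕ) (z : Fin r → N) (hz : Groth.Agent.Lib.Helper75.HomQuotientSystems.beta g N z = 0) (χ : M →ₗ[A] N ⧸ Nq n)
      (w : Fin r → N), (∀ i, (Nq n).mkQ (w i) = Groth.Agent.Lib.Helper75.HomQuotientSystems.ev π _ χ i) →
      w - z ∈ (I ^ n • ⊤ : Submodule A (Fin r → N)) →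
      red n (Groth.Agent.Lib.Helper75.HomQuotientSystems.lift π g hπ hg N z hz) = χ := by
    intro n z hz χ w hw hwz
    apply Groth.Agent.Lib.Helper75.HomQuotientSystems.ev_injective π hπ
    ext i
    rw [← hw i]
    change (Nq n).mkQ (Groth.Agent.Lib.Helper75.HomQuotientSystems.ev π N (Groth.Agent.Lib.Helper75.HomQuotientSystems.lift π g hπ hg N z hz) i) = _
    rw [Groth.Agent.Lib.Helper75.HomQuotientSystems.ev_lift]
    have h1 := (Groth.Agent.Lib.Helper75.HomQuotientSystems.mem_smul_top_pi _ _).mp hwz i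
    rw [Submodule.mkQ_apply, Submodule.mkQ_apply, eq_comm, Submodule.Quotient.eq]
    exact h1
  refine ⟨?_, c, fun n => ⟨?_, ?_⟩⟩
  · intro n
    refine ⟨n + c, Nat.le_add_right n c, ?_⟩
    intro k hmk hnm ψ
    obtain ⟨y, hy, hβy⟩ := K1 (n + c) ψ
    obtain ⟨z, hz, hyz⟩ := (hc n).1 y hβy
    rw [LinearMap.mem_ker] at hz
    refine ⟨red k (Groth.Agent.Lib.Helper75.HomQuotientSystems.lift π g hπ hg N z hz), ?_⟩
    have h1 : pr n k (hnm.trans hmk) ∘ₗ red k (Groth.Agent.Lib.Helper75.HomQuotientSystems.lift π g hπ hg N z hz) =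
        red n (Groth.Agent.Lib.Helper75.HomQuotientSystems.lift π g hπ hg N z hz) := by
      ext m
      rfl
    rw [h1]
    apply K2 n z hz _ y _ hyz
    intro i
    change _ = pr n (n + c) hnm (Groth.Agent.Lib.Helper75.HomQuotientSystems.ev π _ ψ i)
    rw [← hy i]
    rfl
  · intro φ hφ a ha
    have hz : Groth.Agent.Lib.Helper75.HomQuotientSystems.beta g N (Groth.Agent.Lib.Helper75.HomQuotientSystems.ev π N φ) = 0 := Groth.Agent.Lib.Helper75.HomQuotientSystems.beta_ev π g hg N φ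
    have hz' : Groth.Agent.Lib.Helper75.HomQuotientSystems.ev π N φ ∈ (I ^ n • ⊤ : Submodule A (Fin r → N)) := by
      rw [Groth.Agent.Lib.Helper75.HomQuotientSystems.mem_smul_top_pi]
      intro i
      change Groth.Agent.Lib.Helper75.HomQuotientSystems.ev π N φ i ∈ Nq n
      rw [← Submodule.Quotient.mk_eq_zero, Groth.Agent.Lib.Helper75.HomQuotientSystems.ev_apply]
      have := congrArg (fun f => f (π (Pi.single i 1))) hφ
      exact this
    have h1 := (hc n).2.1 (Groth.Agent.Lib.Helper75.HomQuotientSystems.ev π N φ) (LinearMap.mem_ker.mpr hz) hz' a ha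
    -- transfer from `I^n • ker β` to `I^n • Hom(M, N)`
    have hC : ∀ p ∈ I ^ n • LinearMap.ker (Groth.Agent.Lib.Helper75.HomQuotientSystems.beta g N),
        ∃ φ' ∈ (I ^ n • ⊤ : Submodule A (M →ₗ[A] N)), Groth.Agent.Lib.Helper75.HomQuotientSystems.ev π N φ' = p := by
      intro p hp
      refine Submodule.smul_induction_on
        (p := fun p => ∃ φ' ∈ (I ^ n • ⊤ : Submodule A (M →ₗ[A] N)), Groth.Agent.Lib.Helper75.HomQuotientSystems.ev π N φ' = p) hp ?_ ?_
      · intro b hb z hz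
        rw [LinearMap.mem_ker] at hz
        refine ⟨b • Groth.Agent.Lib.Helper75.HomQuotientSystems.lift π g hπ hg N z hz, Submodule.smul_mem_smul hb Submodule.mem_top, ?_⟩
        rw [map_smul, Groth.Agent.Lib.Helper75.HomQuotientSystems.ev_lift]
      · rintro x y ⟨φx, hφx, rfl⟩ ⟨φy, hφy, rfl⟩
        exact ⟨φx + φy, add_mem hφx hφy, map_add _ _ _⟩
    obtain ⟨φ', hφ', h2⟩ := hC _ h1
    have h3 : φ' = a • φ := by
      apply Groth.Agent.Lib.Helper75.HomQuotientSystems.ev_injective π hπ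
      rw [h2, map_smul]
    rw [← h3]
    exact hφ'
  · intro ψ a ha
    obtain ⟨y, hy, hβy⟩ := K1 n ψ
    obtain ⟨z, hz, hyz⟩ := (hc n).2.2 y hβy a ha
    rw [LinearMap.mem_ker] at hz
    refine ⟨Groth.Agent.Lib.Helper75.HomQuotientSystems.lift π g hπ hg N z hz, ?_⟩
    apply K2 n z hz _ (a • y) _ hyz
    intro i
    rw [Pi.smul_apply, map_smul, hy i]
    rfl


end Groth.Agent.S7136
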