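import Groth.Statements.S7135
import Groth.Agent.S7136
import Groth.Agent.Lib.Helper75.MLSystems
import Groth.Agent.Lib.Helper75.AdicQuotEquiv

set_option autoImplicit false
universe u
open CAlg

namespace Groth.Agent.S7135

/-- Let A be a Noetherian ring, I an ideal and M, N finite A-modules. If M/IⁿM and N/IⁿN are isomorphic
for every n, then the I-adic completions of M and N are isomorphic as modules over the I-adic
completion of A. -/
theorem result (A : Type u) [CommRing A] [IsNoetherianRing A] (I : Ideal A)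
    (M N : Type u) [AddCommGroup M] [Module A M] [Module.Finite A M] [AddCommGroup N] [Module A N]
    [Module.Finite A N]
    (h : ∀ n : ℕ, Nonempty ((M ⧸ (I ^ n • ⊤ : Submodule A M)) ≃ₗ[A] (N ⧸ (I ^ n • ⊤ : Submodule A N)))) :
    Nonempty (AdicCompletion I M ≃ₗ[AdicCompletion I A] AdicCompletion I N) := by
  have e₀ : ∀ n : ℕ, (M ⧸ (I ^ n • ⊤ : Submodule A M)) ≃ₗ[A] (N ⧸ (I ^ n • ⊤ : Submodule A N)) :=
    fun n => (h n).some
  have hML := (Groth.Agent.S7136.result A I M N).1
  dsimp only at hML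
  -- transition maps: identity and composition
  have tm_id : ∀ (n : ℕ) (q : N ⧸ (I ^ n • ⊤ : Submodule A N)),
      AdicCompletion.transitionMap I N (le_refl n) q = q := by
    intro n q
    obtain ⟨y, rfl⟩ := Submodule.mkQ_surjective _ q
    rfl
  have tm_comp : ∀ (n m k : ℕ) (h1 : n ≤ m) (h2 : m ≤ k) (q : N ⧸ (I ^ k • ⊤ : Submodule A N)),
      AdicCompletion.transitionMap I N h1 (AdicCompletion.transitionMap I N h2 q) =
        AdicCompletion.transitionMap I N (h1.trans h2) q := by
    intro n m k h1 h2 q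
    obtain ⟨y, rfl⟩ := Submodule.mkQ_surjective _ q
    rfl
  have tm_surj : ∀ (n k : ℕ) (h1 : n ≤ k),
      Function.Surjective (AdicCompletion.transitionMap I N h1) := by
    intro n k h1 q
    obtain ⟨y, rfl⟩ := Submodule.mkQ_surjective _ q
    exact ⟨Submodule.mkQ _ y, rfl⟩
  -- the shifted Mittag-Leffler system
  obtain ⟨x, hx, k₀, hx0⟩ := Groth.Agent.Lib.Helper75.MLSystems.exists_compatible
    (H := fun j => M →ₗ[A] N ⧸ (I ^ (j + 1) • ⊤ : Submodule A N))
    (fun n k hnk ψ => AdicCompletion.transitionMap I N (Nat.succ_le_succ hnk) ∘ₗ ψ)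
    (by
      intro n ψ
      ext m
      exact tm_id _ _)
    (by
      intro n m k h1 h2 ψ
      ext y
      exact tm_comp _ _ _ (Nat.succ_le_succ h1) (Nat.succ_le_succ h2) _)
    (by
      intro n
      obtain ⟨m, hnm, hm⟩ := hML (n + 1)
      obtain ⟨m', rfl⟩ : ∃ m', m = m' + 1 := ⟨m - 1, by omega⟩
      refine ⟨m', by omega, ?_⟩
      intro k hmk hnm' ψ
      obtain ⟨ψ', hψ'⟩ := hm (k + 1) (by omega) hnm ψ
      exact ⟨ψ', hψ'⟩)
    (fun k => (e₀ (k + 1)).toLinearMap ∘ₗ Submodule.mkQ _)
  -- each term is surjective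
  have hxsurj : ∀ j, Function.Surjective (x j) := by
    intro j
    apply Groth.Agent.Lib.Helper75.AdicQuotEquiv.surjective_of_surjective_mod I (j + 1) (by omega)
    have h1 := hx 0 j (Nat.zero_le j)
    rw [h1, hx0]
    simp only [LinearMap.coe_comp, LinearEquiv.coe_coe]
    exact (tm_surj _ _ _).comp ((e₀ (k₀ + 1)).surjective.comp (Submodule.mkQ_surjective _))
  -- descend to all levels
  set X : ∀ n, M →ₗ[A] N ⧸ (I ^ n • ⊤ : Submodule A N) :=
    fun n => AdicCompletion.transitionMap I N (Nat.le_succ n) ∘ₗ x n with hX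
  have hXsurj : ∀ n, Function.Surjective (X n) := fun n =>
    (tm_surj n (n + 1) (Nat.le_succ n)).comp (hxsurj n)
  have hXcompat : ∀ (n k : ℕ) (hnk : n ≤ k) (y : M),
      AdicCompletion.transitionMap I N hnk (X k y) = X n y := by
    intro n k hnk y
    have h1 := congrArg (fun f => f y) (hx n k hnk)
    simp only [LinearMap.comp_apply] at h1
    simp only [hX, LinearMap.comp_apply]
    rw [← h1, tm_comp, tm_comp]
  have hXker : ∀ n, (I ^ n • ⊤ : Submodule A M) ≤ LinearMap.ker (X n) := by
    intro n y hy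
    rw [LinearMap.mem_ker]
    have h1 : X n y ∈ Submodule.map (X n) (I ^ n • ⊤) := Submodule.mem_map_of_mem hy
    rw [Submodule.map_smul''] at h1
    have h2 : X n y ∈ (I ^ n • ⊤ : Submodule A (N ⧸ (I ^ n • ⊤ : Submodule A N))) :=
      Submodule.smul_mono le_rfl le_top h1
    rw [Groth.Agent.Lib.Helper75.AdicQuotEquiv.pow_smul_top_quot] at h2
    exact (Submodule.mem_bot A).mp h2
  set F : ∀ n, (M ⧸ (I ^ n • ⊤ : Submodule A M)) →ₗ[A] (N ⧸ (I ^ n • ⊤ : Submodule A N)) :=
    fun n => (I ^ n • ⊤ : Submodule A M).liftQ (X n) (hXker n) with hF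
  have hFsurj : ∀ n, Function.Surjective (F n) := by
    intro n
    rw [← LinearMap.range_eq_top, hF, Submodule.range_liftQ, LinearMap.range_eq_top]
    exact hXsurj n
  have hFinj : ∀ n, Function.Injective (F n) := by
    intro n
    have h1 : Function.Surjective ((e₀ n).symm.toLinearMap ∘ₗ F n) :=
      (e₀ n).symm.surjective.comp (hFsurj n)
    have h2 := OrzechProperty.injective_of_surjective_endomorphism _ h1
    exact Function.Injective.of_comp h2
  refine ⟨Groth.Agent.Lib.Helper75.AdicQuotEquiv.equivOfCompatible I (fun n => LinearEquiv.ofBijective (F n) ⟨hFinj n, hFsurj n⟩) ?_⟩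
  intro m n hmn q
  obtain ⟨y, rfl⟩ := Submodule.mkQ_surjective _ q
  exact hXcompat m n hmn y


end Groth.Agent.S7135
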