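import Groth.Statements.S7138
import Mathlib
import Groth.Agent.S0549
import Groth.Agent.Lib.Helper68.KrasnerDVR

set_option autoImplicit false
universe u
open EtAlg

namespace Groth.Agent.S7138

open Groth.Agent.Lib.Helper68.KrasnerDVR Polynomial

open TensorProduct in
/-- Let A be a discrete valuation ring, K its field of fractions, A^ its completion and K^ the fraction
field of A^. Every finite separable extension M of K^ arises by base change: M ≅ K^ ⊗_K L as
K^-algebras for some finite separable extension L/K. -/
theorem result (A K : Type u) [CommRing A] [IsDomain A]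
    [IsDiscreteValuationRing A] [Field K] [Algebra A K] [IsFractionRing A K]
    (Kh : Type u) [Field Kh] [Algebra (AdicCompletion (IsLocalRing.maximalIdeal A) A) Kh]
    [IsFractionRing (AdicCompletion (IsLocalRing.maximalIdeal A) A) Kh] [Algebra A Kh] [Algebra K Kh]
    [IsScalarTower A (AdicCompletion (IsLocalRing.maximalIdeal A) A) Kh] [IsScalarTower A K Kh]
    (M : Type u) [Field M] [Algebra Kh M] [FiniteDimensional Kh M] [Algebra.IsSeparable Kh M] :
    ∃ (L : Type u) (_ : Field L) (_ : Algebra K L), FiniteDimensional K L ∧ Algebra.IsSeparable K L ∧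
      Nonempty ((Kh ⊗[K] L) ≃ₐ[Kh] M) := by
  have hdomR : IsDomain (AdicCompletion (IsLocalRing.maximalIdeal A) A) :=
    (IsFractionRing.injective (AdicCompletion (IsLocalRing.maximalIdeal A) A) Kh).isDomain
  obtain ⟨_, hdvrR⟩ := (Groth.Agent.S0549.result A).mp ⟨inferInstance, inferInstance⟩
  obtain ⟨f, N, hfmonic, hD⟩ :=
    exists_equiv_adjoinRoot (AdicCompletion (IsLocalRing.maximalIdeal A) A) Kh M
  obtain ⟨g, hgmonic, hgdeg, hgapprox⟩ :=
    exists_monic_approx A (exists_sub_algebraMap_mem_pow A) f hfmonic N
  obtain ⟨e⟩ := hD (g.map (algebraMap A (AdicCompletion (IsLocalRing.maximalIdeal A) A)))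
    (hgmonic.map _) (by rw [hgmonic.natDegree_map, hgdeg]) hgapprox
  have hmap : (g.map (algebraMap A (AdicCompletion (IsLocalRing.maximalIdeal A) A))).map
      (algebraMap (AdicCompletion (IsLocalRing.maximalIdeal A) A) Kh) =
      (g.map (algebraMap A K)).map (algebraMap K Kh) := by
    rw [Polynomial.map_map, Polynomial.map_map, ← IsScalarTower.algebraMap_eq,
      ← IsScalarTower.algebraMap_eq]
  rw [hmap] at e
  exact exists_descent_of_equiv_adjoinRoot K Kh M (g.map (algebraMap A K)) (hgmonic.map _) e

end Groth.Agent.S7138
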