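import Mathlib
import Groth.Statements.S7139

set_option autoImplicit false
universe u
open EtAlg

namespace Groth.Agent.S7139



open Pointwise

lemma card_aut_eq_finSepDegree (F E : Type*) [Field F] [Field E] [Algebra F E] [Normal F E] :
    Nat.card (E ≃ₐ[F] E) = Field.finSepDegree F E := by
  unfold Field.finSepDegree Field.Emb
  exact (Nat.card_congr (Normal.algHomEquivAut F (AlgebraicClosure E) E)).symm

section gen
variable {R S G : Type*} [CommRing R] [CommRing S] [Algebra R S] [Group G] [Finite G]
  [MulSemiringAction G S] [IsGaloisGroup G R S]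

lemma card_stab_eq_e_mul_f [IsDomain R] [IsDomain S] [Module.Finite R S] [Module.Flat R S]
    (p : Ideal R) [p.IsPrime] (P : Ideal S) [P.IsPrime] [P.LiesOver p] :
    Nat.card (MulAction.stabilizer G P) = P.ramificationIdx R * P.inertiaDeg R := by
  have H := Ideal.ncard_primesOver_mul_ramificationIdxIn_mul_inertiaDegIn p S G
  rw [Ideal.ramificationIdxIn_eq_ramificationIdx p P G, Ideal.inertiaDegIn_eq_inertiaDeg p P G,
    ← Algebra.IsInvariant.orbit_eq_primesOver R S G p P] at H
  have h2 : (MulAction.orbit G P).ncard * Nat.card (MulAction.stabilizer G P) = Nat.card G := by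
    simpa using Nat.card_congr (MulAction.orbitProdStabilizerEquivGroup G P)
  have h3 : (MulAction.orbit G P).ncard ≠ 0 := by
    intro h0
    rw [h0, zero_mul] at h2
    exact (Nat.card_pos (α := G)).ne' h2.symm
  rw [← h2] at H
  exact (mul_left_cancel₀ h3 H).symm

attribute [local instance] Ideal.Quotient.field in
lemma card_stab_eq_card_inertia_mul_sep (p : Ideal R) [p.IsMaximal] (P : Ideal S) [P.IsMaximal]
    [P.LiesOver p] :
    Nat.card (MulAction.stabilizer G P) =
      Nat.card (P.inertia G) * Field.finSepDegree (R ⧸ p) (S ⧸ P) := by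
  have hn : Normal (R ⧸ p) (S ⧸ P) := Ideal.Quotient.normal G p P
  have : Subgroup.index _ = _ := Nat.card_congr
    (Ideal.Quotient.stabilizerQuotientInertiaEquiv G p P).toEquiv
  rw [← card_aut_eq_finSepDegree, ← this,
    ← ((P.inertia G).subgroupOf (MulAction.stabilizer G P)).card_mul_index,
    Nat.card_congr (Subgroup.subgroupOfEquivOfLe (Ideal.inertia_le_stabilizer (M := G) P)).toEquiv,
    AddSubgroup.subgroupOf_inertia]

lemma stab_card_of_forall (P : Ideal S) (h : ∀ g : G, g • P = P) :
    Nat.card (MulAction.stabilizer G P) = Nat.card G := by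
  have : MulAction.stabilizer G P = ⊤ := by
    rw [eq_top_iff]
    intro g _
    exact MulAction.mem_stabilizer_iff.mpr (h g)
  rw [this, Subgroup.card_top]

lemma inertia_card_of_forall (P : Ideal S) (h : ∀ (g : G) (x : S), g • x - x ∈ P) :
    Nat.card (P.inertia G) = Nat.card G := by
  have : P.inertia G = ⊤ := by
    rw [eq_top_iff]
    intro g _
    exact fun x => h g x
  rw [this, Subgroup.card_top]

end gen

section main
variable {A B' B G : Type*} [CommRing A] [CommRing B'] [CommRing B] [IsDomain A] [IsDomain B']
  [IsDomain B] [Algebra A B'] [Algebra B' B] [Algebra A B] [IsScalarTower A B' B]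
  [Module.Finite A B] [Module.Flat A B] [Module.Finite B' B] [Module.Flat B' B]
  [Module.Finite A B']
  [Group G] [Finite G] [MulSemiringAction G B] [IsGaloisGroup G A B]

attribute [local instance] Ideal.Quotient.field in
theorem counting (H : Subgroup G) [IsGaloisGroup H B' B]
    (p : Ideal A) [p.IsMaximal] (m' : Ideal B') [m'.IsMaximal] (m : Ideal B) [m.IsMaximal]
    [m.LiesOver m'] [m'.LiesOver p] [m.LiesOver p] (hH : H = m.inertia G) :
    m'.ramificationIdx A = 1 ∧ Algebra.IsSeparable (A ⧸ p) (B' ⧸ m') := by
  have h1 := card_stab_eq_e_mul_f (G := G) p m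
  have h2 := card_stab_eq_card_inertia_mul_sep (G := G) p m
  have h3 := card_stab_eq_e_mul_f (G := H) m' m
  have h4 := card_stab_eq_card_inertia_mul_sep (G := H) m' m
  have hmemH : ∀ g : H, ∀ x : B, g • x - x ∈ m := by
    rintro ⟨g, hg⟩ x
    have hg' : g ∈ m.inertia G := hH ▸ hg
    exact hg' x
  have hstabH : ∀ g : H, g • m = m := by
    rintro ⟨g, hg⟩
    have : g ∈ MulAction.stabilizer G m := Ideal.inertia_le_stabilizer m (hH ▸ hg)
    exact this
  have hcH : Nat.card (m.inertia G) = Nat.card H := by rw [hH]
  rw [stab_card_of_forall (G := H) m hstabH] at h3 h4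
  rw [inertia_card_of_forall (G := H) m hmemH] at h4
  have hHpos : 0 < Nat.card H := Nat.card_pos
  have hs'' : Field.finSepDegree (B' ⧸ m') (B ⧸ m) = 1 := by
    have : Nat.card H * 1 = Nat.card H * Field.finSepDegree (B' ⧸ m') (B ⧸ m) := by
      rw [mul_one]; exact h4
    exact (mul_left_cancel₀ hHpos.ne' this).symm
  have hte : m.ramificationIdx A = m'.ramificationIdx A * m.ramificationIdx B' :=
    Ideal.ramificationIdx_tower m' m
  have htf : m.inertiaDeg A = m'.inertiaDeg A * m.inertiaDeg B' :=
    Ideal.inertiaDeg_tower m' m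
  haveI : IsScalarTower (A ⧸ p) (B' ⧸ m') (B ⧸ m) := IsScalarTower.of_algebraMap_eq <| by
    rintro ⟨x⟩
    simp [Submodule.Quotient.quot_mk_eq_mk, IsScalarTower.algebraMap_apply A (B' ⧸ m') (B ⧸ m)]
  have hts := Field.finSepDegree_mul_finSepDegree_of_isAlgebraic (A ⧸ p) (B' ⧸ m') (B ⧸ m)
  rw [hs'', mul_one] at hts
  have hf' : m'.inertiaDeg A = Module.finrank (A ⧸ p) (B' ⧸ m') :=
    Ideal.inertiaDeg_eq_of_isMaximal p m'
  have hle : Field.finSepDegree (A ⧸ p) (B' ⧸ m') ≤ Module.finrank (A ⧸ p) (B' ⧸ m') :=
    Field.finSepDegree_le_finrank _ _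
  have he'pos : 0 < m'.ramificationIdx A := Ideal.ramificationIdx_pos m' A
  have hf'pos : 0 < m'.inertiaDeg A := Ideal.inertiaDeg_pos m' A
  -- combine
  have key : m'.ramificationIdx A * m'.inertiaDeg A = Field.finSepDegree (A ⧸ p) (B' ⧸ m') := by
    have e1 : Nat.card H * (m'.ramificationIdx A * m'.inertiaDeg A) =
        Nat.card H * Field.finSepDegree (A ⧸ p) (B' ⧸ m') := by
      calc Nat.card H * (m'.ramificationIdx A * m'.inertiaDeg A)
          = (m'.ramificationIdx A * m.ramificationIdx B') *
              (m'.inertiaDeg A * m.inertiaDeg B') := by rw [h3]; ring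
        _ = Nat.card (MulAction.stabilizer G m) := by rw [h1, hte, htf]
        _ = Nat.card H * Field.finSepDegree (A ⧸ p) (B' ⧸ m') := by rw [h2, hcH, hts]
    exact mul_left_cancel₀ hHpos.ne' e1
  have he' : m'.ramificationIdx A = 1 := by
    by_contra hne
    have h2le : 2 ≤ m'.ramificationIdx A := by omega
    have : 2 * m'.inertiaDeg A ≤ m'.ramificationIdx A * m'.inertiaDeg A :=
      Nat.mul_le_mul_right _ h2le
    rw [key] at this
    rw [← hf'] at hle
    omega
  refine ⟨he', ?_⟩
  rw [he', one_mul, hf'] at key
  exact (Field.finSepDegree_eq_finrank_iff _ _).mp key.symm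

end main


section fp
variable (A : Type*) [CommRing A] [IsLocalRing A] [IsNoetherianRing A]
  (C : Type*) [CommRing C] [IsDedekindDomain C] [Algebra A C] [Module.Finite A C]

include A in
lemma exists_sep_elt (q : Ideal C) [hq : q.IsMaximal] :
    ∃ s : C, s ∉ q ∧ ∀ M : Ideal C, M.IsMaximal → M ≠ q → s ∈ M := by
  classical
  have hfin : ((IsLocalRing.maximalIdeal A).primesOver C).Finite :=
    Algebra.QuasiFinite.finite_primesOver _
  have hint : Algebra.IsIntegral A C := Algebra.IsIntegral.of_finite A C
  set T : Finset (Ideal C) := hfin.toFinset.erase q with hT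
  by_contra hcon
  push Not at hcon
  have hle : T.inf (fun M => M) ≤ q := by
    intro s hs
    by_contra hsq
    obtain ⟨M, hM, hMq, hsM⟩ := hcon s hsq
    apply hsM
    have hMT : M ∈ T := by
      rw [hT, Finset.mem_erase]
      refine ⟨hMq, ?_⟩
      rw [Set.Finite.mem_toFinset]
      refine ⟨hM.isPrime, ⟨?_⟩⟩
      have hMu : (M.under A).IsMaximal := Ideal.isMaximal_comap_of_isIntegral_of_isMaximal M
      exact (IsLocalRing.eq_maximalIdeal hMu).symm
    have := (Finset.inf_le hMT : T.inf (fun M => M) ≤ M)
    exact this hs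
  obtain ⟨M, hMT, hMq⟩ := (Ideal.IsPrime.inf_le' hq.isPrime).mp hle
  rw [hT, Finset.mem_erase, Set.Finite.mem_toFinset] at hMT
  obtain ⟨hne, hMp, ⟨hMo⟩⟩ := hMT
  have hMmax : M.IsMaximal := by
    haveI := hMp
    apply Ideal.isMaximal_of_isIntegral_of_isMaximal_comap (R := A) M
    rw [← Ideal.under_def, ← hMo]
    infer_instance
  exact hne (hMmax.eq_of_le hq.ne_top hMq)

include A in
lemma finitePresentation_atPrime (q : Ideal C) [hq : q.IsMaximal] :
    Algebra.FinitePresentation A (Localization.AtPrime q) := by
  obtain ⟨s, hsq, hs⟩ := exists_sep_elt A C q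
  have hle : Submonoid.powers s ≤ q.primeCompl := by
    rintro _ ⟨n, rfl⟩
    show s ^ n ∉ q
    intro h
    exact hsq (hq.isPrime.mem_of_pow_mem n h)
  have hdvd : ∀ t ∈ q.primeCompl, ∃ u ∈ Submonoid.powers s, t ∣ u := by
    intro t ht
    have ht0 : t ≠ 0 := by
      rintro rfl
      exact ht (zero_mem q)
    have hrad : s ∈ (Ideal.span {t}).radical := by
      rw [Ideal.radical_eq_sInf, Ideal.mem_sInf]
      rintro P ⟨hPt, hP⟩
      have htP : t ∈ P := hPt (Ideal.subset_span rfl)
      have hPne : P ≠ ⊥ := by
        rintro rfl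
        exact ht0 (by simpa using htP)
      have hPmax : P.IsMaximal := hP.isMaximal hPne
      apply hs P hPmax
      rintro rfl
      exact ht htP
    obtain ⟨n, hn⟩ := hrad
    exact ⟨s ^ n, ⟨n, rfl⟩, Ideal.mem_span_singleton.mp hn⟩
  haveI : IsLocalization q.primeCompl (Localization.Away s) :=
    IsLocalization.of_le_of_exists_dvd (Submonoid.powers s) q.primeCompl hle hdvd
  let e : Localization.AtPrime q ≃ₐ[C] Localization.Away s :=
    IsLocalization.algEquiv q.primeCompl _ _
  have h1 : Algebra.FinitePresentation A C :=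
    Algebra.FinitePresentation.of_finiteType.mp inferInstance
  have h2 : Algebra.FinitePresentation A (Localization.Away s) :=
    Algebra.FinitePresentation.trans A C (Localization.Away s)
  exact Algebra.FinitePresentation.equiv (e.symm.restrictScalars A)

attribute [local instance] Ideal.Quotient.field in
lemma etale_of_counting [Module.Flat A C] (q : Ideal C) [hq : q.IsMaximal]
    [q.LiesOver (IsLocalRing.maximalIdeal A)] (he : q.ramificationIdx A = 1)
    (hsep : Algebra.IsSeparable (A ⧸ IsLocalRing.maximalIdeal A) (C ⧸ q)) :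
    Algebra.Etale A (Localization.AtPrime q) := by
  let := Localization.AtPrime.algebraOfLiesOver (IsLocalRing.maximalIdeal A) q
  have hunr : Algebra.IsUnramifiedAt A q := by
    rw [Algebra.isUnramifiedAt_iff_map_eq A (IsLocalRing.maximalIdeal A) q]
    refine ⟨inferInstance, ?_⟩
    rw [Ideal.ramificationIdx_eq (IsLocalRing.maximalIdeal A) q,
      ENat.toNat_eq_iff_eq_natCast, Nat.cast_one, Module.length_eq_one_iff,
      isSimpleModule_iff_isCoatom, ← Ideal.isMaximal_def, IsLocalRing.isMaximal_iff] at he
    exact he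
  haveI : Algebra.FormallyUnramified A (Localization.AtPrime q) := hunr
  haveI := finitePresentation_atPrime A C q
  haveI : Module.Flat A (Localization.AtPrime q) := Module.Flat.trans A C _
  exact Algebra.Etale.of_formallyUnramified_of_flat

end fp


section conc
variable (A K L B : Type u) [CommRing A] [IsDomain A]
    [IsDiscreteValuationRing A] [Field K] [Field L] [Algebra A K] [IsFractionRing A K] [Algebra K L]
    [Algebra A L] [IsScalarTower A K L] [FiniteDimensional K L] [IsGalois K L]
    [CommRing B] [Algebra A B] [Algebra B L] [IsScalarTower A B L] [IsIntegralClosure B A L]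
    [MulSemiringAction (L ≃ₐ[K] L) B]
    (hact : ∀ (σ : L ≃ₐ[K] L) (b : B), algebraMap B L (σ • b) = σ (algebraMap B L b))
    (m : Ideal B) [m.IsMaximal]
    (B' : Type u) [CommRing B'] [Algebra A B'] [Algebra B' B] [IsScalarTower A B' B] [Algebra B' L]
    [IsScalarTower B' B L]
    [Algebra B' (IntermediateField.fixedField (m.inertia (L ≃ₐ[K] L)))]
    [IsScalarTower B' (IntermediateField.fixedField (m.inertia (L ≃ₐ[K] L))) L]
    [IsIntegralClosure B' A (IntermediateField.fixedField (m.inertia (L ≃ₐ[K] L)))]

include A hact in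
lemma part1 (b : B) :
    (∀ σ ∈ m.inertia (L ≃ₐ[K] L), σ • b = b) ↔ b ∈ Set.range (algebraMap B' B) := by
  have hinjB : Function.Injective (algebraMap B L) := IsIntegralClosure.algebraMap_injective B A L
  constructor
  · intro h
    have hx : algebraMap B L b ∈ IntermediateField.fixedField (m.inertia (L ≃ₐ[K] L)) := by
      rw [IntermediateField.mem_fixedField_iff]
      intro σ hσ
      rw [← hact, h σ hσ]
    have hint : IsIntegral A (algebraMap B L b) := (IsIntegralClosure.isIntegral A L b).algebraMap
    haveI : IsScalarTower A (IntermediateField.fixedField (m.inertia (L ≃ₐ[K] L))) L :=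
      IsScalarTower.of_algebraMap_eq (fun _ => rfl)
    have hint' : IsIntegral A
        (⟨algebraMap B L b, hx⟩ : IntermediateField.fixedField (m.inertia (L ≃ₐ[K] L))) := by
      refine (isIntegral_algHom_iff (IsScalarTower.toAlgHom A
        (IntermediateField.fixedField (m.inertia (L ≃ₐ[K] L))) L)
        (FaithfulSMul.algebraMap_injective _ _)).mp ?_
      exact hint
    obtain ⟨b', hb'⟩ := (IsIntegralClosure.isIntegral_iff (A := B')).mp hint'
    refine ⟨b', hinjB ?_⟩
    rw [← IsScalarTower.algebraMap_apply, IsScalarTower.algebraMap_apply B'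
      (IntermediateField.fixedField (m.inertia (L ≃ₐ[K] L))) L, hb']
    rfl
  · rintro ⟨b', rfl⟩ σ hσ
    apply hinjB
    rw [hact, ← IsScalarTower.algebraMap_apply, IsScalarTower.algebraMap_apply B'
      (IntermediateField.fixedField (m.inertia (L ≃ₐ[K] L))) L]
    exact (IntermediateField.mem_fixedField_iff _ _).mp
      (algebraMap B' (IntermediateField.fixedField (m.inertia (L ≃ₐ[K] L))) b').2 σ hσ

include hact in
theorem part2 : Algebra.Etale A (Localization.AtPrime (m.comap (algebraMap B' B))) := by
  classical
  have hinjB : Function.Injective (algebraMap B L) := IsIntegralClosure.algebraMap_injective B A L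
  have hinjB'F : Function.Injective
      (algebraMap B' (IntermediateField.fixedField (m.inertia (L ≃ₐ[K] L)))) :=
    IsIntegralClosure.algebraMap_injective B' A _
  have hinjB'L : Function.Injective (algebraMap B' L) := by
    rw [IsScalarTower.algebraMap_eq B' (IntermediateField.fixedField (m.inertia (L ≃ₐ[K] L))) L]
    exact (algebraMap _ L).injective.comp hinjB'F
  have hinjB'B : Function.Injective (algebraMap B' B) := by
    have h : algebraMap B' L = (algebraMap B L).comp (algebraMap B' B) :=
      IsScalarTower.algebraMap_eq B' B L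
    rw [h] at hinjB'L
    exact Function.Injective.of_comp hinjB'L
  have hinjAL : Function.Injective (algebraMap A L) := by
    rw [IsScalarTower.algebraMap_eq A K L]
    exact (algebraMap K L).injective.comp (IsFractionRing.injective A K)
  have hinjAB : Function.Injective (algebraMap A B) := by
    have h : algebraMap A L = (algebraMap B L).comp (algebraMap A B) :=
      IsScalarTower.algebraMap_eq A B L
    rw [h] at hinjAL
    exact Function.Injective.of_comp hinjAL
  have hinjAB' : Function.Injective (algebraMap A B') := by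
    have h : algebraMap A B = (algebraMap B' B).comp (algebraMap A B') :=
      IsScalarTower.algebraMap_eq A B' B
    rw [h] at hinjAB
    exact Function.Injective.of_comp hinjAB
  haveI : IsDomain B := hinjB.isDomain _
  haveI : IsDomain B' := hinjB'F.isDomain _
  haveI : IsScalarTower A (IntermediateField.fixedField (m.inertia (L ≃ₐ[K] L))) L :=
    IsScalarTower.of_algebraMap_eq (fun _ => rfl)
  haveI : IsScalarTower A B' (IntermediateField.fixedField (m.inertia (L ≃ₐ[K] L))) :=
    IsScalarTower.of_algebraMap_eq (fun a => by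
      apply (algebraMap (IntermediateField.fixedField (m.inertia (L ≃ₐ[K] L))) L).injective
      rw [← IsScalarTower.algebraMap_apply B' _ L, IsScalarTower.algebraMap_apply B' B L,
        ← IsScalarTower.algebraMap_apply A B' B, ← IsScalarTower.algebraMap_apply A B L]
      rfl)
  haveI : Module.Finite A B := IsIntegralClosure.finite A K L B
  haveI : Module.Finite A B' :=
    IsIntegralClosure.finite A K (IntermediateField.fixedField (m.inertia (L ≃ₐ[K] L))) B'
  haveI : Module.Finite B' B := Module.Finite.of_restrictScalars_finite A B' B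
  haveI : IsDedekindDomain B' :=
    IsIntegralClosure.isDedekindDomain A K (IntermediateField.fixedField (m.inertia (L ≃ₐ[K] L))) B'
  haveI : FaithfulSMul A B := (faithfulSMul_iff_algebraMap_injective A B).mpr hinjAB
  haveI : FaithfulSMul A B' := (faithfulSMul_iff_algebraMap_injective A B').mpr hinjAB'
  haveI : FaithfulSMul B' B := (faithfulSMul_iff_algebraMap_injective B' B).mpr hinjB'B
  haveI : Module.IsTorsionFree A B := Module.isTorsionFree_iff_faithfulSMul.mpr inferInstance
  haveI : Module.IsTorsionFree A B' := Module.isTorsionFree_iff_faithfulSMul.mpr inferInstance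
  haveI : Module.IsTorsionFree B' B := Module.isTorsionFree_iff_faithfulSMul.mpr inferInstance
  haveI : Module.Flat A B := inferInstance
  haveI : Module.Flat A B' := inferInstance
  haveI : Module.Flat B' B := inferInstance
  haveI : IsFractionRing B L := IsIntegralClosure.isFractionRing_of_finite_extension A K L B
  haveI : SMulDistribClass (L ≃ₐ[K] L) B L :=
    ⟨fun σ b l => by simp [Algebra.smul_def, hact]⟩
  haveI : Algebra.IsIntegral A B := IsIntegralClosure.isIntegral_algebra A L
  haveI : IsGaloisGroup (L ≃ₐ[K] L) A B := IsGaloisGroup.of_isFractionRing (L ≃ₐ[K] L) A B K L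
  haveI : IsGaloisGroup (m.inertia (L ≃ₐ[K] L)) B' B :=
    { faithful := ⟨fun {g₁ g₂} h => Subtype.ext (by
        haveI := (inferInstance : IsGaloisGroup (L ≃ₐ[K] L) A B).faithful
        exact eq_of_smul_eq_smul (α := B) (fun b => h b))⟩
      commutes := ⟨fun g b' b => by
        rw [Algebra.smul_def, smul_mul', Algebra.smul_def]
        congr 1
        exact ((part1 A K L B hact m B' (algebraMap B' B b')).mpr ⟨b', rfl⟩) g.1 g.2⟩
      isInvariant := ⟨fun b hb => by
        obtain ⟨b', hb'⟩ := (part1 A K L B hact m B' b).mp (fun σ hσ => hb ⟨σ, hσ⟩)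
        exact ⟨b', hb'⟩⟩ }
  haveI : Algebra.IsIntegral B' B := Algebra.IsIntegral.of_finite B' B
  haveI : Algebra.IsIntegral A B' := Algebra.IsIntegral.of_finite A B'
  haveI hm' : (m.comap (algebraMap B' B)).IsMaximal :=
    Ideal.isMaximal_comap_of_isIntegral_of_isMaximal m
  haveI : m.LiesOver (m.comap (algebraMap B' B)) := ⟨rfl⟩
  haveI : (m.comap (algebraMap B' B)).LiesOver (IsLocalRing.maximalIdeal A) :=
    ⟨(IsLocalRing.eq_maximalIdeal
      (Ideal.isMaximal_comap_of_isIntegral_of_isMaximal (R := A) (m.comap (algebraMap B' B)))).symm⟩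
  haveI : m.LiesOver (IsLocalRing.maximalIdeal A) :=
    Ideal.LiesOver.trans m (m.comap (algebraMap B' B)) _
  obtain ⟨he, hsep⟩ := counting (G := L ≃ₐ[K] L) (m.inertia (L ≃ₐ[K] L))
    (IsLocalRing.maximalIdeal A) (m.comap (algebraMap B' B)) m rfl
  exact etale_of_counting A B' (m.comap (algebraMap B' B)) he hsep

end conc

/-- A is a discrete valuation ring, K its field of fractions, and L/K is finite Galois with Galois group
G. Write B for the integral closure of A in L, equipped with the induced G-action, m a maximal ideal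
of B and I ⊆ G its inertia group. Denote by B' the integral closure of A inside the fixed field L^I,
with a map to B compatible with L^I ⊆ L. Then the image of B' in B is the ring of invariants B^I,
and A → B'_{m'} is étale, where m' = m ∩ B'. -/
theorem result (A K L B : Type u) [CommRing A] [IsDomain A]
    [IsDiscreteValuationRing A] [Field K] [Field L] [Algebra A K] [IsFractionRing A K] [Algebra K L]
    [Algebra A L] [IsScalarTower A K L] [FiniteDimensional K L] [IsGalois K L]
    [CommRing B] [Algebra A B] [Algebra B L] [IsScalarTower A B L] [IsIntegralClosure B A L]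
    [MulSemiringAction (L ≃ₐ[K] L) B]
    (hact : ∀ (σ : L ≃ₐ[K] L) (b : B), algebraMap B L (σ • b) = σ (algebraMap B L b))
    (m : Ideal B) [m.IsMaximal]
    (B' : Type u) [CommRing B'] [Algebra A B'] [Algebra B' B] [IsScalarTower A B' B] [Algebra B' L]
    [IsScalarTower B' B L]
    [Algebra B' (IntermediateField.fixedField (m.inertia (L ≃ₐ[K] L)))]
    [IsScalarTower B' (IntermediateField.fixedField (m.inertia (L ≃ₐ[K] L))) L]
    [IsIntegralClosure B' A (IntermediateField.fixedField (m.inertia (L ≃ₐ[K] L)))] :
    (∀ b : B, (∀ σ ∈ m.inertia (L ≃ₐ[K] L), σ • b = b) ↔ b ∈ Set.range (algebraMap B' B)) ∧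
      Algebra.Etale A (Localization.AtPrime (m.comap (algebraMap B' B))) := by
  exact ⟨fun b => part1 A K L B hact m B' b, part2 A K L B hact m B'⟩

end Groth.Agent.S7139
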