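import Groth.Statements.S7140
import Mathlib.RingTheory.RootsOfUnity.Lemmas
import Mathlib.RingTheory.Polynomial.Cyclotomic.Roots
import Mathlib.NumberTheory.Wilson
import Mathlib.Data.Nat.Choose.Dvd
import Mathlib.RingTheory.AdjoinRoot
import Mathlib.RingTheory.MvPolynomial.Basic
import Mathlib.Algebra.MvPolynomial.Eval

set_option autoImplicit false
universe u
open EtAlg

namespace Groth.Agent.S7140
open Polynomial Finset

variable (p : ℕ) {A : Type*} [CommRing A]

/-- the unit `u = ∏_{k<p-1} (1 + ζ + ⋯ + ζ^k)`. -/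
def uu (ζ : A) : A := ∏ k ∈ range (p - 1), ∑ j ∈ range (k + 1), ζ ^ j

/-- the coefficients of `P`. -/
def cc (ζ : A) (i : ℕ) : A := uu p ζ * ((p.choose i / p : ℕ) : A) * (1 - ζ) ^ (i - 1)

/-- the polynomial `P`. -/
noncomputable def PP (ζ : A) : A[X] := X ^ p + ∑ i ∈ Ioo 0 p, C (cc p ζ i) * X ^ i

theorem uu_map {B : Type*} [CommRing B] (f : A →+* B) (ζ : A) : f (uu p ζ) = uu p (f ζ) := by
  simp [uu, map_prod, map_sum]

theorem cc_map {B : Type*} [CommRing B] (f : A →+* B) (ζ : A) (i : ℕ) :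
    f (cc p ζ i) = cc p (f ζ) i := by
  simp [cc, uu_map]

theorem PP_map {B : Type*} [CommRing B] (f : A →+* B) (ζ : A) :
    (PP p ζ).map f = PP p (f ζ) := by
  rw [PP, PP, Polynomial.map_add, Polynomial.map_pow, map_X, Polynomial.map_sum]
  congr 1
  apply Finset.sum_congr rfl
  intro i _
  rw [Polynomial.map_mul, Polynomial.map_pow, map_X, map_C, cc_map]

theorem natCast_eq_of_primitive {D : Type*} [CommRing D] [IsDomain D] (hp : p.Prime) {ζ : D}
    (h : IsPrimitiveRoot ζ p) : (p : D) = (1 - ζ) ^ (p - 1) * uu p ζ := by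
  obtain ⟨n, rfl⟩ : ∃ n, p = n + 1 := ⟨p - 1, (Nat.succ_pred_eq_of_pos hp.pos).symm⟩
  have := h.prod_one_sub_pow_eq_order
  simp only [Nat.add_sub_cancel, uu]
  calc ((n + 1 : ℕ) : D) = ∏ k ∈ range n, (1 - ζ ^ (k + 1)) := by rw [this]; push_cast; rfl
   _ = ∏ k ∈ range n, ((1 - ζ) * ∑ j ∈ range (k + 1), ζ ^ j) := by simp_rw [mul_neg_geom_sum]
   _ = _ := by rw [prod_mul_distrib, prod_const, card_range]

theorem uu_add_one_mem (hp : p.Prime) (ζ : A) (hpA : (p : A) = (1 - ζ) ^ (p - 1) * uu p ζ) :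
    uu p ζ + 1 ∈ Ideal.span {1 - ζ} := by
  set I := Ideal.span {1 - ζ} with hI
  rw [← Ideal.Quotient.eq_zero_iff_mem]
  have hζ : Ideal.Quotient.mk I ζ = 1 := by
    have : Ideal.Quotient.mk I (1 - ζ) = 0 :=
      Ideal.Quotient.eq_zero_iff_mem.mpr (Ideal.subset_span rfl)
    rw [map_sub, map_one, sub_eq_zero] at this
    exact this.symm
  have hu : Ideal.Quotient.mk I (uu p ζ) = ((p - 1).factorial : A ⧸ I) := by
    rw [uu_map, hζ, uu]
    simp only [one_pow, sum_const, card_range, nsmul_eq_mul, mul_one]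
    rw [← Finset.prod_range_add_one_eq_factorial, Nat.cast_prod]
  have hpI : ((p : ℕ) : A ⧸ I) = 0 := by
    have : Ideal.Quotient.mk I (p : A) = 0 := by
      rw [hpA, map_mul, map_pow, map_sub, hζ, map_one, sub_self,
        zero_pow (by have := hp.two_le; omega), zero_mul]
    simpa using this
  have hw : p ∣ (p - 1).factorial + 1 := by
    haveI := Fact.mk hp
    rw [← ZMod.natCast_eq_zero_iff]
    push_cast
    rw [ZMod.wilsons_lemma]; ring
  obtain ⟨m, hm⟩ := hw
  rw [map_add, map_one, hu]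
  have : (((p - 1).factorial + 1 : ℕ) : A ⧸ I) = 0 := by rw [hm, Nat.cast_mul, hpI, zero_mul]
  simpa using this

theorem key_mul (hp : p.Prime) (ζ : A) (hpA : (p : A) = (1 - ζ) ^ (p - 1) * uu p ζ) (i : ℕ)
    (hi : i ∈ Ioo 0 p) :
    (1 - ζ) ^ p * cc p ζ i = (1 - ζ) ^ i * (p.choose i : A) := by
  rw [mem_Ioo] at hi
  obtain ⟨m, hm⟩ := hp.dvd_choose_self hi.1.ne' hi.2
  have hdiv : p.choose i / p = m := by rw [hm, Nat.mul_div_cancel_left _ hp.pos]
  rw [cc, hdiv, hm, Nat.cast_mul, hpA]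
  obtain ⟨j, rfl⟩ : ∃ j, i = j + 1 := ⟨i - 1, by omega⟩
  obtain ⟨q, rfl⟩ : ∃ q, p = q + 1 := ⟨p - 1, by have := hp.pos; omega⟩
  simp only [Nat.add_sub_cancel]
  ring

theorem partA (hp : p.Prime) (ζ : A) (hpA : (p : A) = (1 - ζ) ^ (p - 1) * uu p ζ) :
    C ((1 - ζ) ^ p) * PP p ζ = (1 + C (1 - ζ) * X) ^ p - 1 := by
  rw [add_comm (1 : A[X]), add_pow]
  rw [Finset.sum_range_succ, Finset.range_eq_Ico, Finset.sum_eq_sum_Ico_succ_bot hp.pos]
  have hIco : Ico (0 + 1) p = Ioo 0 p := by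
    ext x; simp [Nat.succ_le_iff]
  rw [hIco, PP, mul_add, Finset.mul_sum]
  have hsum : ∑ i ∈ Ioo 0 p, C ((1 - ζ) ^ p) * (C (cc p ζ i) * X ^ i) =
      ∑ i ∈ Ioo 0 p, (C (1 - ζ) * X) ^ i * 1 ^ (p - i) * (p.choose i : A[X]) := by
    apply Finset.sum_congr rfl
    intro i hi
    rw [← mul_assoc, ← C_mul, key_mul p hp ζ hpA i hi, one_pow, mul_one, mul_pow, ← C_pow, C_mul,
      ← Polynomial.C_eq_natCast]
    ring
  rw [hsum]
  simp only [pow_zero, one_pow, mul_one, Nat.choose_zero_right, Nat.cast_one, Nat.sub_self,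
    Nat.choose_self, mul_pow, ← C_pow]
  ring

theorem eval₂_key {D S : Type*} [CommRing D] [CommRing S] (w : D) (P : D[X])
    (hP : C (w ^ p) * P = (1 + C w * X) ^ p - 1) (g : D →+* S) (z : S) :
    g w ^ p * eval₂ g z P = (1 + g w * z) ^ p - 1 := by
  have := congrArg (eval₂ g z) hP
  simpa [eval₂_mul, eval₂_sub, eval₂_pow, eval₂_add] using this

theorem partC_dom {D S : Type*} [CommRing D] [CommRing S] [IsDomain S] (w : D) (P : D[X])
    (hP : C (w ^ p) * P = (1 + C w * X) ^ p - 1) (g : D →+* S) (hw : g w ≠ 0) (z₁ z₂ : S) :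
    eval₂ g (z₁ + z₂ + g w * z₁ * z₂) P =
      eval₂ g z₁ P + eval₂ g z₂ P + g w ^ p * eval₂ g z₁ P * eval₂ g z₂ P := by
  have h₁ := eval₂_key p w P hP g z₁
  have h₂ := eval₂_key p w P hP g z₂
  have h₃ := eval₂_key p w P hP g (z₁ + z₂ + g w * z₁ * z₂)
  have h₃' : 1 + g w * (z₁ + z₂ + g w * z₁ * z₂) = (1 + g w * z₁) * (1 + g w * z₂) := by ring
  have e₁ : (1 + g w * z₁) ^ p = g w ^ p * eval₂ g z₁ P + 1 := by rw [h₁]; ring
  have e₂ : (1 + g w * z₂) ^ p = g w ^ p * eval₂ g z₂ P + 1 := by rw [h₂]; ring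
  rw [h₃', mul_pow, e₁, e₂] at h₃
  apply mul_left_cancel₀ (pow_ne_zero p hw)
  rw [h₃]
  ring

/-- the universal ring `ℤ[ζ_p]`. -/
abbrev U := AdjoinRoot (cyclotomic p ℤ)

theorem prime_cyc (hp : p.Prime) : Prime (cyclotomic p ℤ) :=
  (UniqueFactorizationMonoid.irreducible_iff_prime).mp (cyclotomic.irreducible hp.pos)

theorem U_isDomain (hp : p.Prime) : IsDomain (U p) := AdjoinRoot.isDomain_of_prime (prime_cyc p hp)

theorem U_of_injective (hp : p.Prime) : Function.Injective (AdjoinRoot.of (cyclotomic p ℤ)) := by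
  apply AdjoinRoot.of.injective_of_degree_ne_zero
  rw [degree_cyclotomic, Nat.totient_prime hp]
  have := hp.two_le
  intro h
  have h' : p - 1 = 0 := by exact_mod_cast h
  omega

theorem U_charZero (hp : p.Prime) : CharZero (U p) :=
  charZero_of_injective_ringHom (U_of_injective p hp)

theorem root_primitive (hp : p.Prime) : IsPrimitiveRoot (AdjoinRoot.root (cyclotomic p ℤ)) p := by
  haveI := U_isDomain p hp
  haveI := U_charZero p hp
  rw [← isRoot_cyclotomic_iff_charZero hp.pos, ← map_cyclotomic_int p (U p), IsRoot.def, eval_map]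
  have : Int.castRingHom (U p) = AdjoinRoot.of (cyclotomic p ℤ) := Subsingleton.elim _ _
  rw [this]
  exact AdjoinRoot.eval₂_root _

theorem natCast_eq_U (hp : p.Prime) :
    (p : U p) = (1 - AdjoinRoot.root (cyclotomic p ℤ)) ^ (p - 1) *
      uu p (AdjoinRoot.root (cyclotomic p ℤ)) := by
  haveI := U_isDomain p hp
  exact natCast_eq_of_primitive p hp (root_primitive p hp)

theorem one_sub_root_ne_zero (hp : p.Prime) : (1 - AdjoinRoot.root (cyclotomic p ℤ)) ≠ 0 := by
  haveI := U_charZero p hp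
  intro h
  have := natCast_eq_U p hp
  rw [h, zero_pow (by have := hp.two_le; omega), zero_mul] at this
  exact hp.ne_zero (by exact_mod_cast this)

end Groth.Agent.S7140


namespace Groth.Agent.S7140

open Polynomial in
/-- Let p be a prime and A a ring with an element ζ satisfying 1 + ζ + ... + ζ^(p-1) = 0 (so that A is
an algebra over the ring of integers of the p-th cyclotomic field); set w = 1 - ζ. Then the
polynomial ((1 + wz)^p - 1)/w^p makes sense in A[z]: there is P in A[z] with w^p·P = (1 + wz)^p - 1,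
of the form z^p - z + Σ_{0<i<p} a_i z^i with all a_i in the ideal (w), and P(z₁ + z₂ + w z₁ z₂) =
P(z₁) + P(z₂) + w^p P(z₁)P(z₂) for all z₁, z₂ in any A-algebra. (The published statement asks only
for a primitive p-th root of unity; this row asks that ζ be a root of the p-th cyclotomic
polynomial, the case its proof treats. With ζ only of multiplicative order p the published statement
fails, for example for ζ = (1, e^{2πi/p}) in ℂ × ℂ.) -/
theorem result (p : ℕ) (hp : p.Prime) (A : Type u) [CommRing A] (ζ : A)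
    (hζ : aeval ζ (cyclotomic p ℤ) = 0) :
    ∃ P : A[X], C ((1 - ζ) ^ p) * P = (1 + C (1 - ζ) * X) ^ p - 1 ∧
      (∃ a : ℕ → A, (∀ i, a i ∈ Ideal.span {1 - ζ}) ∧
        P = X ^ p - X + (Finset.Ioo 0 p).sum (fun i => C (a i) * X ^ i)) ∧
      ∀ (S : Type u) [CommRing S] [Algebra A S] (z₁ z₂ : S),
        aeval (z₁ + z₂ + algebraMap A S (1 - ζ) * z₁ * z₂) P =
          aeval z₁ P + aeval z₂ P + algebraMap A S ((1 - ζ) ^ p) * aeval z₁ P * aeval z₂ P := by
  classical
  have hζ' : (cyclotomic p ℤ).eval₂ (Int.castRingHom A) ζ = 0 := by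
    rw [← hζ, aeval_def]; rfl
  let f : U p →+* A := AdjoinRoot.lift (Int.castRingHom A) ζ hζ'
  have hf : f (AdjoinRoot.root (cyclotomic p ℤ)) = ζ := AdjoinRoot.lift_root hζ'
  have hpA : (p : A) = (1 - ζ) ^ (p - 1) * uu p ζ := by
    have := congrArg f (natCast_eq_U p hp)
    rw [map_natCast, map_mul, map_pow, map_sub, map_one, uu_map, hf] at this
    exact this
  refine ⟨PP p ζ, partA p hp ζ hpA, ?_, ?_⟩
  · refine ⟨fun i => if i = 1 then cc p ζ 1 + 1 else cc p ζ i, ?_, ?_⟩
    · intro i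
      by_cases hi : i = 1
      · simp only [hi, if_true]
        have : cc p ζ 1 = uu p ζ := by simp [cc, Nat.choose_one_right, Nat.div_self hp.pos]
        rw [this]; exact uu_add_one_mem p hp ζ hpA
      · simp only [hi, if_false]
        rcases Nat.eq_zero_or_pos i with h0 | hpos
        · subst h0
          have : (1 : ℕ) / p = 0 := Nat.div_eq_of_lt hp.one_lt
          simp [cc, this]
        · obtain ⟨j, rfl⟩ : ∃ j, i = j + 2 := ⟨i - 2, by omega⟩
          rw [cc, Ideal.mem_span_singleton]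
          refine ⟨uu p ζ * ((p.choose (j + 2) / p : ℕ) : A) * (1 - ζ) ^ j, ?_⟩
          have : j + 2 - 1 = j + 1 := by omega
          rw [this, pow_succ]
          ring
    · rw [PP]
      have h1 : 1 ∈ Finset.Ioo 0 p := by simp [hp.one_lt]
      have hsum : ∑ i ∈ Finset.Ioo 0 p, C (if i = 1 then cc p ζ 1 + 1 else cc p ζ i) * X ^ i =
          ∑ i ∈ Finset.Ioo 0 p, C (cc p ζ i) * X ^ i + X := by
        have hterm : ∀ i, C (if i = 1 then cc p ζ 1 + 1 else cc p ζ i) * X ^ i =
            C (cc p ζ i) * X ^ i + (if i = 1 then (X : A[X]) else 0) := by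
          intro i
          split_ifs with h
          · subst h; simp [add_mul]
          · simp
        simp_rw [hterm, Finset.sum_add_distrib, Finset.sum_ite_eq', h1, if_true]
      rw [hsum]; ring
  · intro S _ _ z₁ z₂
    haveI := U_isDomain p hp
    set r := AdjoinRoot.root (cyclotomic p ℤ) with hr
    have hP₀ : C ((1 - r) ^ p) * PP p r = (1 + C (1 - r) * X) ^ p - 1 :=
      partA p hp _ (natCast_eq_U p hp)
    have hM := partC_dom p (1 - r) (PP p r) hP₀
      (MvPolynomial.C : U p →+* MvPolynomial (Fin 2) (U p))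
      (by
        rw [Ne, map_eq_zero_iff _ (MvPolynomial.C_injective _ _)]
        exact one_sub_root_ne_zero p hp)
      (MvPolynomial.X 0) (MvPolynomial.X 1)
    let g : U p →+* S := (algebraMap A S).comp f
    let Φ : MvPolynomial (Fin 2) (U p) →+* S := MvPolynomial.eval₂Hom g ![z₁, z₂]
    have hΦC : Φ.comp MvPolynomial.C = g := RingHom.ext fun x => by simp [Φ]
    have hΦ0 : Φ (MvPolynomial.X 0) = z₁ := by simp [Φ]
    have hΦ1 : Φ (MvPolynomial.X 1) = z₂ := by simp [Φ]
    have hΦw : Φ (MvPolynomial.C (1 - r)) = algebraMap A S (1 - ζ) := by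
      have : Φ (MvPolynomial.C (1 - r)) = g (1 - r) := by simp [Φ]
      rw [this]
      change algebraMap A S (f (1 - r)) = _
      rw [map_sub, map_one, hf]
    have hPP : ∀ z : S, aeval z (PP p ζ) = eval₂ g z (PP p r) := by
      intro z
      rw [← hf, ← PP_map, aeval_def, eval₂_map]
    have := congrArg Φ hM
    simp only [map_add, map_mul, map_pow, hom_eval₂, hΦC, hΦ0, hΦ1, hΦw] at this
    rw [hPP, hPP, hPP, map_pow]
    exact this

end Groth.Agent.S7140
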