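import Groth.Statements.S7142
import Groth.Agent.Lib.Helper16.PerfK0.Main

set_option autoImplicit false
universe u
open CategoryTheory CategoryTheory.Limits
attribute [local instance] HasDerivedCategory.standard
open KZero

namespace Groth.Agent.S7142

open Groth.Agent.Lib.Helper16 Groth.Agent.Lib.Helper16.PerfK0 Groth.Agent.Lib.Helper16.ResK0
  Groth.Agent.Lib.Helper16.K0Db in
/-- finite projective modules form a class of "finite projectives" in `ModuleCat R` -/
theorem projClass_fgproj (R : Type u) [CommRing R] :
    ProjClass (fun M : ModuleCat.{u} R => Module.Finite R M ∧ Module.Projective R M) where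
  iso := by
    rintro X Y e ⟨h1, h2⟩
    exact ⟨Module.Finite.equiv e.toLinearEquiv, Module.Projective.of_equiv e.toLinearEquiv⟩
  zero := by
    intro Z hZ
    have : Subsingleton Z := ModuleCat.subsingleton_of_isZero hZ
    exact ⟨inferInstance, inferInstance⟩
  proj := by
    rintro X ⟨h1, h2⟩
    exact (IsProjective.iff_projective (R := R) (P := X)).1 h2
  biprod := by
    rintro X Y ⟨h1, h2⟩ ⟨h3, h4⟩
    let e := (ModuleCat.biprodIsoProd X Y).toLinearEquiv
    exact ⟨Module.Finite.equiv e.symm, Module.Projective.of_equiv e.symm⟩
  ker := by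
    rintro K L A ⟨i, p, w, hS⟩ ⟨h1, h2⟩ ⟨h3, h4⟩
    have hA : Projective A := (IsProjective.iff_projective (R := R) (P := A)).1 h4
    have : Epi p := hS.epi_g
    let σ := ShortComplex.Splitting.ofExactOfSection _ hS.exact (Projective.factorThru (𝟙 A) p)
      (by simp) hS.mono_f
    have hri : σ.r.hom.comp i.hom = LinearMap.id := by
      have := σ.f_r
      ext x
      exact congrArg (fun t => t.hom x) this
    have hsurj : Function.Surjective σ.r.hom := fun x => ⟨i.hom x, by
      exact congrArg (fun t => t x) hri⟩
    exact ⟨Module.Finite.of_surjective σ.r.hom hsurj,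
      Module.Projective.of_split i.hom σ.r.hom hri⟩

/-- Let R be a ring. There is an isomorphism K₀(R) ≅ K₀(D_perf(R)) between the Grothendieck group of
finite projective R-modules and that of the triangulated category of perfect objects of D(R),
sending the class of a finite projective module M to the class of M placed in degree 0; under its
inverse the class of a bounded complex M^• of finite projective modules (vanishing outside [a, b])
goes to Σ_i (-1)^i [M^i]. -/
theorem result (R : Type u) [CommRing R] :
    ∃ φ : KZero.K0sub (fun M : ModuleCat.{u} R => Module.Finite R M ∧ Module.Projective R M) ≃+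
        KZero.K0tr (fun K : Dual.D R => DRing.IsPerfect R K),
      (∀ (M : Type u) [AddCommGroup M] [Module R M], Module.Finite R M → Module.Projective R M →
        φ (KZero.clSub (fun M : ModuleCat.{u} R => Module.Finite R M ∧ Module.Projective R M) (ModuleCat.of R M)) =
          KZero.clTr (fun K : Dual.D R => DRing.IsPerfect R K) (Dual.inD R M)) ∧
      ∀ (E : DRing.Cx R) (a b : ℤ), DRing.VanishesOutside E a b → DRing.TermwiseFiniteProjective E →
        φ.symm (KZero.clTr (fun K : Dual.D R => DRing.IsPerfect R K) (DRing.toD E)) =
          (Finset.Icc a b).sum (fun i => (i.negOnePow : ℤ) •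
            KZero.clSub (fun M : ModuleCat.{u} R => Module.Finite R M ∧ Module.Projective R M) (E.X i)) := by
  obtain ⟨φ, h1, h2⟩ := Groth.Agent.Lib.Helper16.PerfK0.main (projClass_fgproj R)
  refine ⟨φ, ?_, ?_⟩
  · intro M _ _ hfin hproj
    exact h1 (ModuleCat.of R M) ⟨hfin, hproj⟩
  · intro E a b hab hE
    have h3 := h2 E ⟨⟨a, b, hab⟩, hE⟩
    refine h3.trans ?_
    unfold Groth.Agent.Lib.Helper16.PerfK0.eul Groth.Agent.Lib.Helper16.K0Db.altsum
    refine finsum_eq_sum_of_support_subset _ (fun i hi => ?_)
    rw [Function.mem_support] at hi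
    rw [Finset.coe_Icc, Set.mem_Icc]
    by_contra hc
    apply hi
    beta_reduce
    rw [Groth.Agent.Lib.Helper16.K0Db.clSub_of_isZero, smul_zero]
    apply hab
    rw [not_and_or, not_le, not_le] at hc
    exact hc

end Groth.Agent.S7142
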