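import Groth.Statements.S7143
import Groth.Agent.S1968

set_option autoImplicit false
universe u
open CategoryTheory
open EtAlg

namespace Groth.Agent.S7143

/-- Every normal domain A with fraction field K is the fibre product V ×_L K for suitable rings V and L
with maps A → V, V → L, K → L (together with the given A → K), where every ideal of V is flat (weak
dimension at most one) and V → L is flat, injective and an epimorphism of rings. -/
theorem result (A K : Type u) [CommRing A] [IsDomain A] [Field K] [Algebra A K]
    [IsFractionRing A K] [IsIntegrallyClosed A] :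
    ∃ (V L : Type u) (_ : CommRing V) (_ : CommRing L) (f : A →+* V) (g : V →+* L) (h : K →+* L),
      g.comp f = h.comp (algebraMap A K) ∧
      (∀ I : Ideal V, Module.Flat V I) ∧ g.Flat ∧ Function.Injective g ∧ Epi (CommRingCat.ofHom g) ∧
      ∀ (v : V) (k : K), g v = h k → ∃! a : A, f a = v ∧ algebraMap A K a = k := by
  classical
  let J := {W : ValuationSubring K // ∀ a : A, algebraMap A K a ∈ W}
  obtain ⟨hflat, hloc⟩ := Groth.Agent.S1968.result (J := J) (fun j => ↥j.1) (fun _ => K)
  refine ⟨∀ j : J, ↥j.1, J → K, inferInstance, inferInstance,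
    Pi.ringHom (fun j => (algebraMap A K).codRestrict j.1.toSubring j.2),
    algebraMap (∀ j : J, ↥j.1) (J → K),
    Pi.ringHom (fun _ => RingHom.id K), ?_, hflat, ?_, ?_, ?_, ?_⟩
  · ext a j
    rfl
  · exact RingHom.flat_algebraMap_iff.mpr
      (IsLocalization.flat (J → K) (nonZeroDivisors (∀ j : J, ↥j.1)))
  · exact IsLocalization.injective (J → K) (le_refl (nonZeroDivisors (∀ j : J, ↥j.1)))
  · exact IsLocalization.epi (nonZeroDivisors (∀ j : J, ↥j.1)) (J → K)
  · intro v k hvk
    have hk : ∀ j : J, ((v j : ↥j.1) : K) = k := fun j => congrFun hvk j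
    have hmem : ∃ a : A, algebraMap A K a = k := by
      by_contra hne
      have hx : k ∉ (integralClosure A K).toSubring := by
        intro hk'
        have hk'' : k ∈ integralClosure A K := hk'
        rw [IsIntegrallyClosed.integralClosure_eq_bot, Algebra.mem_bot] at hk''
        exact hne hk''
      obtain ⟨W, hW, hxW⟩ := Subring.exists_le_valuationSubring_of_isIntegrallyClosedIn hx
      apply hxW
      have hj : ∀ a : A, algebraMap A K a ∈ W := fun a =>
        hW ((integralClosure A K).algebraMap_mem a)
      rw [← hk ⟨W, hj⟩]
      exact (v ⟨W, hj⟩).2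
    obtain ⟨a, ha⟩ := hmem
    refine ⟨a, ⟨?_, ha⟩, fun b hb => IsFractionRing.injective A K (hb.2.trans ha.symm)⟩
    funext j
    apply Subtype.ext
    show algebraMap A K a = _
    rw [ha, hk j]

end Groth.Agent.S7143
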