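import Groth.Statements.S7145
import Mathlib

set_option autoImplicit false
universe u
open CategoryTheory CategoryTheory.Limits
open CAlg

namespace Groth.Agent.S7145


section
variable {R : Type u} [CommRing R] (F : CochainComplex (ModuleCat.{u} R) ℤ)
  {ι : ℤ → Type u} (B : ∀ n, Module.Basis (ι n) R (F.X n))

open Classical in
/-- support of an element, as a finite set of the total index type. -/
noncomputable def supp (n : ℤ) (x : F.X n) : Finset (Σ n : ℤ, ι n) :=
  ((B n).repr x).support.image (fun j => (⟨n, j⟩ : Σ n : ℤ, ι n))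

lemma mem_supp {n : ℤ} {x : F.X n} {e : Σ n : ℤ, ι n} :
    e ∈ supp F B n x ↔ ∃ j ∈ ((B n).repr x).support, (⟨n, j⟩ : Σ n : ℤ, ι n) = e := by
  classical
  unfold supp
  rw [Finset.mem_image]

lemma supp_fst {n : ℤ} {x : F.X n} {e : Σ n : ℤ, ι n} (h : e ∈ supp F B n x) : e.1 = n := by
  obtain ⟨j, _, rfl⟩ := (mem_supp F B).mp h
  rfl

lemma supp_zero (n : ℤ) : supp F B n 0 = ∅ := by
  classical
  unfold supp
  simp

open Classical in
noncomputable def step (S : Finset (Σ n : ℤ, ι n)) : Finset (Σ n : ℤ, ι n) :=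
  S.biUnion fun e => supp F B (e.1 + 1) (F.d e.1 (e.1 + 1) (B e.1 e.2))

lemma mem_step {S : Finset (Σ n : ℤ, ι n)} {e' : Σ n : ℤ, ι n} :
    e' ∈ step F B S ↔ ∃ e ∈ S, e' ∈ supp F B (e.1 + 1) (F.d e.1 (e.1 + 1) (B e.1 e.2)) := by
  classical
  unfold step
  rw [Finset.mem_biUnion]

/-- the submodule spanned by the basis vectors in `S`. -/
def G (S : Finset (Σ n : ℤ, ι n)) (n : ℤ) : Submodule R (F.X n) :=
  Submodule.span R (Set.range (fun j : {j : ι n // (⟨n, j⟩ : Σ n : ℤ, ι n) ∈ S} => B n j.1))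

lemma mem_G_of_supp_subset {S : Finset (Σ n : ℤ, ι n)} {n : ℤ} (x : F.X n)
    (h : supp F B n x ⊆ S) : x ∈ G F B S n := by
  classical
  have h1 := (B n).mem_span_repr_support x
  refine Submodule.span_mono ?_ h1
  rintro _ ⟨j, hj, rfl⟩
  refine ⟨⟨j, h ((mem_supp F B).mpr ⟨j, hj, rfl⟩)⟩, rfl⟩

lemma finite_G (S : Finset (Σ n : ℤ, ι n)) (n : ℤ) : Module.Finite R (G F B S n) := by
  have : Finite {j : ι n // (⟨n, j⟩ : Σ n : ℤ, ι n) ∈ S} := by
    refine Finite.of_injective
      (fun j => (⟨⟨n, j.1⟩, j.2⟩ : {e : Σ n : ℤ, ι n // e ∈ S})) ?_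
    intro j j' h
    have h1 := congrArg Subtype.val h
    simp only [Sigma.mk.injEq, heq_eq_eq, true_and] at h1
    exact Subtype.ext h1
  exact Module.Finite.span_of_finite R (Set.finite_range _)

lemma free_G (S : Finset (Σ n : ℤ, ι n)) (n : ℤ) : Module.Free R (G F B S n) := by
  have li : LinearIndependent R
      (fun j : {j : ι n // (⟨n, j⟩ : Σ n : ℤ, ι n) ∈ S} => B n j.1) :=
    (B n).linearIndependent.comp _ Subtype.val_injective
  exact Module.Free.of_basis (Module.Basis.span li)

end


section main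
variable {R : Type u} [CommRing R] (F : CochainComplex (ModuleCat.{u} R) ℤ)
  {ι : ℤ → Type u} (B : ∀ n, Module.Basis (ι n) R (F.X n))
  (S : Finset (Σ n : ℤ, ι n)) (hS : step F B S ⊆ S)

include hS in
lemma d_mem (i j : ℤ) (x : F.X i) (hx : x ∈ G F B S i) : (F.d i j).hom x ∈ G F B S j := by
  by_cases hij : i + 1 = j
  · subst hij
    induction hx using Submodule.span_induction with
    | mem x hx =>
      obtain ⟨j0, rfl⟩ := hx
      apply mem_G_of_supp_subset
      intro e he
      exact hS ((mem_step F B).mpr ⟨⟨i, j0.1⟩, j0.2, he⟩)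
    | zero => rw [map_zero]; exact zero_mem _
    | add x y _ _ hx hy => rw [map_add]; exact add_mem hx hy
    | smul r x _ hx => rw [map_smul]; exact Submodule.smul_mem _ _ hx
  · rw [F.shape i j hij]
    exact zero_mem _

/-- the subcomplex -/
noncomputable def Gc : CochainComplex (ModuleCat.{u} R) ℤ where
  X n := ModuleCat.of R (G F B S n)
  d i j := ModuleCat.ofHom ((F.d i j).hom.restrict (d_mem F B S hS i j))
  shape i j hij := by
    ext x
    change (F.d i j).hom x.1 = 0
    rw [F.shape i j hij]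
    rfl
  d_comp_d' i j k _ _ := by
    ext x
    change (F.d j k).hom ((F.d i j).hom x.1) = 0
    have := F.d_comp_d i j k
    have h2 := congrArg (fun t => t.hom x.1) this
    exact h2

noncomputable def Gι : Gc F B S hS ⟶ F where
  f n := ModuleCat.ofHom (G F B S n).subtype
  comm' i j _ := by
    ext x
    rfl

end main


section closure
variable {R : Type u} [CommRing R] (F : CochainComplex (ModuleCat.{u} R) ℤ)
  {ι : ℤ → Type u} (B : ∀ n, Module.Basis (ι n) R (F.X n))

lemma iter_fst (a : ℤ) (S0 : Finset (Σ n : ℤ, ι n)) (h0 : ∀ e ∈ S0, a ≤ e.1) (k : ℕ) :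
    ∀ e ∈ (step F B)^[k] S0, a + k ≤ e.1 := by
  induction k with
  | zero => simpa using h0
  | succ k ih =>
    rw [Function.iterate_succ_apply']
    intro e he
    obtain ⟨e0, he0, h⟩ := (mem_step F B).mp he
    have h1 := supp_fst F B h
    have h2 := ih e0 he0
    push_cast
    omega

open Classical in
/-- the closure of `S0` under `step`. -/
noncomputable def closure (S0 : Finset (Σ n : ℤ, ι n)) (K : ℕ) : Finset (Σ n : ℤ, ι n) :=
  (Finset.range (K + 1)).biUnion fun k => (step F B)^[k] S0

lemma mem_closure {S0 : Finset (Σ n : ℤ, ι n)} {K : ℕ} {e : Σ n : ℤ, ι n} :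
    e ∈ closure F B S0 K ↔ ∃ k ≤ K, e ∈ (step F B)^[k] S0 := by
  classical
  unfold closure
  rw [Finset.mem_biUnion]
  constructor
  · rintro ⟨k, hk, h⟩
    exact ⟨k, by have := Finset.mem_range.mp hk; omega, h⟩
  · rintro ⟨k, hk, h⟩
    exact ⟨k, Finset.mem_range.mpr (by omega), h⟩

lemma step_closure_subset (a b : ℤ) (hb : ∀ n : ℤ, b < n → IsZero (F.X n))
    (S0 : Finset (Σ n : ℤ, ι n)) (h0 : ∀ e ∈ S0, a ≤ e.1) (K : ℕ) (hK : b < a + K) :
    step F B (closure F B S0 K) ⊆ closure F B S0 K := by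
  intro e' he'
  obtain ⟨e, he, h⟩ := (mem_step F B).mp he'
  obtain ⟨k, hk, hek⟩ := (mem_closure F B).mp he
  by_cases hkK : k < K
  · refine (mem_closure F B).mpr ⟨k + 1, by omega, ?_⟩
    rw [Function.iterate_succ_apply']
    exact (mem_step F B).mpr ⟨e, hek, h⟩
  · have hkK' : k = K := by omega
    subst hkK'
    have h1 := iter_fst F B a S0 h0 k e hek
    have h2 : IsZero (F.X (e.1 + 1)) := hb _ (by omega)
    have h3 : Subsingleton (F.X (e.1 + 1)) := ModuleCat.subsingleton_of_isZero h2
    have h4 : (F.d e.1 (e.1 + 1)).hom (B e.1 e.2) = 0 := Subsingleton.elim _ _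
    rw [h4, supp_zero] at h
    exact absurd h (Finset.notMem_empty _)

lemma closure_fst (a : ℤ) (S0 : Finset (Σ n : ℤ, ι n)) (h0 : ∀ e ∈ S0, a ≤ e.1) (K : ℕ) :
    ∀ e ∈ closure F B S0 K, a ≤ e.1 := by
  intro e he
  obtain ⟨k, _, hek⟩ := (mem_closure F B).mp he
  have := iter_fst F B a S0 h0 k e hek
  omega

lemma subset_closure (S0 : Finset (Σ n : ℤ, ι n)) (K : ℕ) : S0 ⊆ closure F B S0 K := by
  intro e he
  exact (mem_closure F B).mpr ⟨0, Nat.zero_le _, he⟩

end closure


/-- Let R be a ring and F a cochain complex of free R-modules that is zero in all sufficiently large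
degrees. Given finitely many elements f_i of F, f_i lying in degree n_i, there is a subcomplex G of
F (a map of complexes G → F injective in every degree) through which every f_i passes, such that G
is zero outside a finite range of degrees and each term of G is a finitely generated free R-module. -/
theorem result (R : Type u) [CommRing R]
    (F : CochainComplex (ModuleCat.{u} R) ℤ) (hfree : ∀ n : ℤ, Module.Free R (F.X n))
    (b : ℤ) (hb : ∀ n : ℤ, b < n → IsZero (F.X n))
    (N : ℕ) (deg : Fin N → ℤ) (f : ∀ i : Fin N, F.X (deg i)) :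
    ∃ (G : CochainComplex (ModuleCat.{u} R) ℤ) (ι : G ⟶ F),
      (∀ n : ℤ, Function.Injective (ι.f n)) ∧
      (∃ a c : ℤ, ∀ n : ℤ, (n < a ∨ c < n) → IsZero (G.X n)) ∧
      (∀ n : ℤ, Module.Finite R (G.X n) ∧ Module.Free R (G.X n)) ∧
      ∀ i : Fin N, f i ∈ Set.range (ι.f (deg i)) := by
  classical
  set B : ∀ n, Module.Basis (Module.Free.ChooseBasisIndex R (F.X n)) R (F.X n) :=
    fun n => Module.Free.chooseBasis R (F.X n) with hB
  obtain ⟨a, ha⟩ : ∃ a : ℤ, ∀ i : Fin N, a ≤ deg i := by
    obtain ⟨M, hM⟩ := Finset.exists_le (Finset.univ.image fun i => -deg i)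
    refine ⟨-M, fun i => ?_⟩
    have := hM _ (Finset.mem_image_of_mem _ (Finset.mem_univ i))
    omega
  set S0 : Finset (Σ n : ℤ, Module.Free.ChooseBasisIndex R (F.X n)) :=
    Finset.univ.biUnion fun i => supp F B (deg i) (f i) with hS0
  have h0 : ∀ e ∈ S0, a ≤ e.1 := by
    intro e he
    obtain ⟨i, _, hi⟩ := Finset.mem_biUnion.mp he
    rw [supp_fst F B hi]
    exact ha i
  set K : ℕ := (b - a).toNat + 1 with hK
  have hK' : b < a + K := by
    rw [hK]; push_cast; omega
  set S := closure F B S0 K with hS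
  have hstep : step F B S ⊆ S := step_closure_subset F B a b hb S0 h0 K hK'
  refine ⟨Gc F B S hstep, Gι F B S hstep, ?_, ⟨a, b, ?_⟩, ?_, ?_⟩
  · intro n
    exact Subtype.val_injective
  · rintro n (hn | hn)
    · change IsZero (ModuleCat.of R (G F B S n))
      rw [ModuleCat.isZero_of_iff_subsingleton]
      have : G F B S n = ⊥ := by
        unfold G
        rw [Submodule.span_eq_bot]
        rintro _ ⟨j, rfl⟩
        have := closure_fst F B a S0 h0 K _ j.2
        simp only at this
        omega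
      rw [this]
      infer_instance
    · have h3 : Subsingleton (F.X n) := ModuleCat.subsingleton_of_isZero (hb n hn)
      change IsZero (ModuleCat.of R (G F B S n))
      rw [ModuleCat.isZero_of_iff_subsingleton]
      exact Subtype.val_injective.subsingleton
  · intro n
    exact ⟨finite_G F B S n, free_G F B S n⟩
  · intro i
    have h1 : f i ∈ G F B S (deg i) := by
      apply mem_G_of_supp_subset
      refine subset_trans ?_ (subset_closure F B S0 K)
      intro e he
      exact Finset.mem_biUnion.mpr ⟨i, Finset.mem_univ _, he⟩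
    exact ⟨⟨f i, h1⟩, rfl⟩


end Groth.Agent.S7145
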