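import Groth.Statements.S7147
import Mathlib

set_option autoImplicit false
universe u
open CAlg

namespace Groth.Agent.S7147

-- HELPERS BEGIN
section
variable {R : Type u} [CommRing R] {M : Type u} [AddCommGroup M] [Module R M] (x : Ideal R)

/-- elements all of whose linear forms land in `x`. -/
def T : Submodule R M where
  carrier := {m : M | ∀ φ : M →ₗ[R] R, φ m ∈ x}
  add_mem' := fun {a b} ha hb φ => by rw [map_add]; exact x.add_mem (ha φ) (hb φ)
  zero_mem' := fun φ => by rw [map_zero]; exact x.zero_mem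
  smul_mem' := fun c m hm φ => by rw [map_smul]; exact x.mul_mem_left c (hm φ)

lemma smul_top_le_T : (x • ⊤ : Submodule R M) ≤ T x := by
  rw [Submodule.smul_le]
  intro a ha m _ φ
  rw [map_smul, smul_eq_mul]
  exact x.mul_mem_right _ ha

lemma exists_of_mem_span (v : M ⧸ (x • ⊤ : Submodule R M))
    (hv : v ∈ Submodule.span (R ⧸ x)
      ((x • ⊤ : Submodule R M).mkQ '' {m : M | ∀ φ : M →ₗ[R] R, φ m ∈ x})) :
    ∃ m ∈ T x, (x • ⊤ : Submodule R M).mkQ m = v := by
  induction hv using Submodule.span_induction with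
  | mem v hv => obtain ⟨m, hm, rfl⟩ := hv; exact ⟨m, hm, rfl⟩
  | zero => exact ⟨0, (T x).zero_mem, map_zero _⟩
  | add v w _ _ hv hw =>
    obtain ⟨m1, h1, rfl⟩ := hv
    obtain ⟨m2, h2, rfl⟩ := hw
    exact ⟨m1 + m2, (T x).add_mem h1 h2, map_add _ _ _⟩
  | smul c v _ hv =>
    obtain ⟨a, rfl⟩ := Ideal.Quotient.mk_surjective c
    obtain ⟨m, hm, rfl⟩ := hv
    exact ⟨a • m, (T x).smul_mem a hm, rfl⟩

lemma mkQ_mem_span_iff (m : M) :
    (x • ⊤ : Submodule R M).mkQ m ∈ Submodule.span (R ⧸ x)
      ((x • ⊤ : Submodule R M).mkQ '' {m : M | ∀ φ : M →ₗ[R] R, φ m ∈ x}) ↔ m ∈ T x := by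
  constructor
  · intro h
    obtain ⟨m', hm', h'⟩ := exists_of_mem_span x _ h
    have h1 : m - m' ∈ (x • ⊤ : Submodule R M) := by
      rw [← Submodule.Quotient.mk_eq_zero, Submodule.Quotient.mk_sub]
      exact sub_eq_zero.mpr h'.symm
    have h2 : m = (m - m') + m' := by abel
    rw [h2]
    exact (T x).add_mem (smul_top_le_T x h1) hm'
  · intro h
    exact Submodule.subset_span ⟨m, h, rfl⟩

lemma li_iff {r : ℕ} (s : Fin r → M) :
    LinearIndependent (R ⧸ x) (fun i => (Submodule.span (R ⧸ x)
      ((x • ⊤ : Submodule R M).mkQ '' {m : M | ∀ φ : M →ₗ[R] R, φ m ∈ x})).mkQ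
        ((x • ⊤ : Submodule R M).mkQ (s i))) ↔
    ∀ c : Fin r → R, ∑ i, c i • s i ∈ T x → ∀ i, c i ∈ x := by
  rw [Fintype.linearIndependent_iff]
  have key : ∀ c : Fin r → R, ∑ i, (Ideal.Quotient.mk x (c i)) • (Submodule.span (R ⧸ x)
      ((x • ⊤ : Submodule R M).mkQ '' {m : M | ∀ φ : M →ₗ[R] R, φ m ∈ x})).mkQ
        ((x • ⊤ : Submodule R M).mkQ (s i)) = (Submodule.span (R ⧸ x)
      ((x • ⊤ : Submodule R M).mkQ '' {m : M | ∀ φ : M →ₗ[R] R, φ m ∈ x})).mkQ
        ((x • ⊤ : Submodule R M).mkQ (∑ i, c i • s i)) := by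
    intro c
    rw [map_sum, map_sum]
    refine Finset.sum_congr rfl fun i _ => ?_
    rw [← map_smul]
    rfl
  constructor
  · intro h c hc i
    have := h (fun i => Ideal.Quotient.mk x (c i)) (by
      rw [key, Submodule.mkQ_apply, Submodule.Quotient.mk_eq_zero]
      exact (mkQ_mem_span_iff x _).mpr hc) i
    exact Ideal.Quotient.eq_zero_iff_mem.mp this
  · intro h g hg i
    choose c hc using fun i => Ideal.Quotient.mk_surjective (g i)
    have hgc : g = fun i => Ideal.Quotient.mk x (c i) := funext fun i => (hc i).symm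
    rw [hgc] at hg
    rw [key, Submodule.mkQ_apply, Submodule.Quotient.mk_eq_zero] at hg
    rw [hgc]
    exact Ideal.Quotient.eq_zero_iff_mem.mpr (h c ((mkQ_mem_span_iff x _).mp hg) i)

lemma forward [x.IsMaximal] [Module.FinitePresentation R M] {r : ℕ} (s : Fin r → M) (f : R)
    (hf : f ∉ x)
    (g : LocalizedModule (Submonoid.powers f) M →ₗ[Localization.Away f]
      (Fin r → Localization.Away f))
    (hg : g ∘ₗ Fintype.linearCombination (Localization.Away f)
            (fun i => LocalizedModule.mkLinearMap (Submonoid.powers f) M (s i)) = LinearMap.id)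
    (c : Fin r → R) (hc : ∑ i, c i • s i ∈ T x) (j : Fin r) : c j ∈ x := by
  let γ : M →ₗ[R] Localization.Away f :=
    ((LinearMap.proj j ∘ₗ g).restrictScalars R) ∘ₗ
      LocalizedModule.mkLinearMap (Submonoid.powers f) M
  obtain ⟨h, t, ht⟩ := Module.FinitePresentation.exists_lift_of_isLocalizedModule
    (Submonoid.powers f) (Algebra.linearMap R (Localization.Away f)) γ
  have h1 : γ (∑ i, c i • s i) = algebraMap R _ (c j) := by
    have := LinearMap.congr_fun hg (fun i => algebraMap R _ (c i))
    simp only [LinearMap.comp_apply, Fintype.linearCombination_apply, LinearMap.id_apply] at this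
    have h' : LocalizedModule.mkLinearMap (Submonoid.powers f) M (∑ i, c i • s i) =
        ∑ i, (algebraMap R (Localization.Away f) (c i)) •
          LocalizedModule.mkLinearMap (Submonoid.powers f) M (s i) := by
      rw [map_sum]
      refine Finset.sum_congr rfl fun i _ => ?_
      rw [map_smul, algebraMap_smul]
    simp only [γ, LinearMap.comp_apply, LinearMap.restrictScalars_apply, LinearMap.proj_apply]
    rw [h', this]
  have h2 := LinearMap.congr_fun ht (∑ i, c i • s i)
  simp only [LinearMap.comp_apply, Algebra.linearMap_apply, LinearMap.smul_apply] at h2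
  rw [h1] at h2
  have h3 : algebraMap R (Localization.Away f) (h (∑ i, c i • s i)) =
      algebraMap R _ ((t : R) * c j) := by
    rw [h2, map_mul, Submonoid.smul_def, Algebra.smul_def]
  obtain ⟨u, hu⟩ := (IsLocalization.eq_iff_exists (Submonoid.powers f) _).mp h3
  have hx : (u : R) * h (∑ i, c i • s i) ∈ x := x.mul_mem_left _ (hc h)
  rw [hu] at hx
  have hprime : x.IsPrime := inferInstance
  have hpow : ∀ w : Submonoid.powers f, (w : R) ∉ x := by
    rintro ⟨_, n, rfl⟩ hw
    exact hf (hprime.mem_of_pow_mem n hw)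
  rcases hprime.mem_or_mem hx with h' | h'
  · exact absurd h' (hpow u)
  · rcases hprime.mem_or_mem h' with h'' | h''
    · exact absurd h'' (hpow t)
    · exact h''

lemma backward [x.IsMaximal] {r : ℕ} (s : Fin r → M)
    (H : ∀ c : Fin r → R, ∑ i, c i • s i ∈ T x → ∀ i, c i ∈ x) :
    ∃ φ : Fin r → (M →ₗ[R] R), ∀ i j,
      Ideal.Quotient.mk x (φ j (s i)) = if i = j then 1 else 0 := by
  classical
  let _ : Field (R ⧸ x) := Ideal.Quotient.field x
  let Φ : (M →ₗ[R] R) →ₗ[R] (Fin r → R ⧸ x) :=
    LinearMap.pi fun i => (Ideal.Quotient.mkₐ R x).toLinearMap ∘ₗ (LinearMap.applyₗ (s i))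
  have hΦ : ∀ φ i, Φ φ i = Ideal.Quotient.mk x (φ (s i)) := fun φ i => rfl
  let W : Submodule (R ⧸ x) (Fin r → R ⧸ x) :=
    { carrier := Set.range Φ
      add_mem' := by rintro _ _ ⟨a, rfl⟩ ⟨b, rfl⟩; exact ⟨a + b, map_add _ _ _⟩
      zero_mem' := ⟨0, map_zero _⟩
      smul_mem' := by
        rintro c _ ⟨a, rfl⟩
        obtain ⟨c, rfl⟩ := Ideal.Quotient.mk_surjective c
        refine ⟨c • a, ?_⟩
        ext i
        rw [hΦ, LinearMap.smul_apply, smul_eq_mul, map_mul, Pi.smul_apply, hΦ, smul_eq_mul] }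
  have hW : W = ⊤ := by
    by_contra hne
    obtain ⟨ℓ, hℓ0, hℓ⟩ := Submodule.exists_le_ker_of_lt_top W (lt_top_iff_ne_top.mpr hne)
    choose c hc using fun i => Ideal.Quotient.mk_surjective (ℓ (Pi.single i 1))
    have hℓv : ∀ v : Fin r → R ⧸ x, ℓ v = ∑ i, v i * ℓ (Pi.single i 1) := by
      intro v
      conv_lhs => rw [pi_eq_sum_univ v]
      rw [map_sum]
      refine Finset.sum_congr rfl fun i _ => ?_
      rw [map_smul, smul_eq_mul]
      congr 2
      ext k
      simp [Pi.single_apply, eq_comm]
    have hT : ∑ i, c i • s i ∈ T x := by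
      intro φ
      have h1 : ℓ (Φ φ) = 0 := hℓ ⟨φ, rfl⟩
      rw [hℓv] at h1
      rw [← Ideal.Quotient.eq_zero_iff_mem, map_sum, map_sum]
      rw [← h1]
      refine Finset.sum_congr rfl fun i _ => ?_
      rw [map_smul, smul_eq_mul, map_mul, hΦ, hc, mul_comm]
    have hci := H c hT
    apply hℓ0
    apply LinearMap.ext
    intro v
    rw [hℓv, LinearMap.zero_apply]
    refine Finset.sum_eq_zero fun i _ => ?_
    rw [← hc, Ideal.Quotient.eq_zero_iff_mem.mpr (hci i), mul_zero]
  have hex : ∀ j, ∃ φ, Φ φ = Pi.single j 1 := fun j => by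
    have : (Pi.single j 1 : Fin r → R ⧸ x) ∈ W := hW ▸ Submodule.mem_top
    exact this
  choose φ hφ using hex
  refine ⟨φ, fun i j => ?_⟩
  have := congr_fun (hφ j) i
  rw [hΦ] at this
  rw [this, Pi.single_apply]

lemma construct [x.IsMaximal] {r : ℕ} (s : Fin r → M) (φ : Fin r → (M →ₗ[R] R))
    (hφ : ∀ i j, Ideal.Quotient.mk x (φ j (s i)) = if i = j then 1 else 0) :
    ∃ f : R, f ∉ x ∧ ∃ g : LocalizedModule (Submonoid.powers f) M →ₗ[Localization.Away f]
        (Fin r → Localization.Away f),
      g ∘ₗ Fintype.linearCombination (Localization.Away f)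
        (fun i => LocalizedModule.mkLinearMap (Submonoid.powers f) M (s i)) = LinearMap.id := by
  classical
  let A : Matrix (Fin r) (Fin r) R := Matrix.of fun j i => φ j (s i)
  have hA : (Ideal.Quotient.mk x).mapMatrix A = 1 := by
    ext j i
    simp only [RingHom.mapMatrix_apply, Matrix.map_apply, A, Matrix.of_apply, hφ,
      Matrix.one_apply]
    simp only [eq_comm]
  have hdet : Ideal.Quotient.mk x A.det = 1 := by
    rw [RingHom.map_det, hA, Matrix.det_one]
  have hne : Nontrivial (R ⧸ x) := Ideal.Quotient.nontrivial_iff.mpr (Ideal.IsPrime.ne_top inferInstance)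
  refine ⟨A.det, fun h => ?_, ?_⟩
  · rw [Ideal.Quotient.eq_zero_iff_mem.mpr h] at hdet
    exact zero_ne_one hdet
  generalize hf : A.det = f
  let Af : Matrix (Fin r) (Fin r) (Localization.Away f) :=
    (algebraMap R (Localization.Away f)).mapMatrix A
  have hAf : IsUnit Af.det := by
    have : Af.det = algebraMap R (Localization.Away f) f := by
      have h0 : Af.det = algebraMap R (Localization.Away f) A.det := (RingHom.map_det _ _).symm
      rw [h0, hf]
    rw [this]
    exact IsLocalization.Away.algebraMap_isUnit f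
  have hBA : Af⁻¹ * Af = 1 := Matrix.nonsing_inv_mul _ hAf
  let ψ : LocalizedModule (Submonoid.powers f) M →ₗ[Localization.Away f]
      (Fin r → Localization.Away f) :=
    LinearMap.pi fun j => LinearMap.extendScalarsOfIsLocalization (Submonoid.powers f)
      (Localization.Away f)
      (IsLocalizedModule.map (Submonoid.powers f)
        (LocalizedModule.mkLinearMap (Submonoid.powers f) M)
        (Algebra.linearMap R (Localization.Away f)) (φ j))
  have hψ : ∀ m j, ψ (LocalizedModule.mkLinearMap (Submonoid.powers f) M m) j =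
      algebraMap R (Localization.Away f) (φ j m) := by
    intro m j
    simp only [ψ, LinearMap.pi_apply, LinearMap.extendScalarsOfIsLocalization_apply']
    rw [IsLocalizedModule.map_apply]
    rfl
  refine ⟨(Matrix.mulVecLin Af⁻¹) ∘ₗ ψ, ?_⟩
  apply LinearMap.pi_ext'
  intro i
  apply LinearMap.ext_ring
  simp only [LinearMap.comp_apply, LinearMap.single_apply,
    Fintype.linearCombination_apply_single, one_smul, LinearMap.id_apply]
  have h1 : ψ (LocalizedModule.mkLinearMap (Submonoid.powers f) M (s i)) =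
      Af.mulVec (Pi.single i 1) := by
    ext j
    rw [hψ, Matrix.mulVec_single_one]
    rfl
  rw [h1, Matrix.mulVecLin_apply, Matrix.mulVec_mulVec, hBA, Matrix.one_mulVec]

end
-- HELPERS END


/-- Let R be a ring, M a finitely presented R-module and x a maximal ideal of R with residue field κ(x);
write M(x) = M/xM and let B(x) ⊆ M(x) be the orthogonal of the image of Hom_R(M, R) in the dual of
M(x), i.e. the classes of those m in M with φ(m) in x for every linear form φ on M, and V(x) =
M(x)/B(x). For s_1, ..., s_r in M the following are equivalent: (1) there is f in R, f not in x,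
such that the map R_f^r → M_f given by the s_i is the inclusion of a direct summand; (2) the images
of s_1, ..., s_r in V(x) are linearly independent over κ(x). -/
theorem result (R : Type u) [CommRing R] (M : Type u)
    [AddCommGroup M] [Module R M] [Module.FinitePresentation R M] (x : Ideal R) [x.IsMaximal]
    (r : ℕ) (s : Fin r → M) :
    let Mx := M ⧸ (x • ⊤ : Submodule R M)
    let Bx : Submodule (R ⧸ x) Mx :=
      Submodule.span (R ⧸ x) ((x • ⊤ : Submodule R M).mkQ '' {m : M | ∀ φ : M →ₗ[R] R, φ m ∈ x})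
    (∃ f : R, f ∉ x ∧
      ∃ g : LocalizedModule (Submonoid.powers f) M →ₗ[Localization.Away f] (Fin r → Localization.Away f),
        g ∘ₗ Fintype.linearCombination (Localization.Away f)
            (fun i => LocalizedModule.mkLinearMap (Submonoid.powers f) M (s i)) = LinearMap.id) ↔
    LinearIndependent (R ⧸ x) (fun i => Bx.mkQ ((x • ⊤ : Submodule R M).mkQ (s i))) := by
  intro Mx Bx
  rw [li_iff]
  constructor
  · rintro ⟨f, hf, g, hg⟩ c hc j
    exact forward x s f hf g hg c hc j
  · intro H
    obtain ⟨φ, hφ⟩ := backward x s H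
    exact construct x s φ hφ

end Groth.Agent.S7147
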