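import Groth.Statements.S7150
import Mathlib
import Groth.Agent.S2451

set_option autoImplicit false
universe u
open EtAlg

namespace Groth.Agent.S7150

/-- lifting a formally smooth field extension along a surjection with nilpotent kernel,
compatibly with a given lift of the base field -/
theorem exists_ringHom_section {κ κ' B : Type*} [Field κ] [Field κ'] [Algebra κ κ']
    [Algebra.FormallySmooth κ κ'] [CommRing B] (φ : κ →+* B) (π : B →+* κ')
    (hπ : Function.Surjective π) (hnil : IsNilpotent (RingHom.ker π))
    (hφ : ∀ c, π (φ c) = algebraMap κ κ' c) :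
    ∃ τ : κ' →+* B, π.comp τ = RingHom.id _ ∧ τ.comp (algebraMap κ κ') = φ := by
  letI : Algebra κ B := φ.toAlgebra
  let g : B →ₐ[κ] κ' := { π with commutes' := fun c => hφ c }
  have hg : Function.Surjective g := hπ
  have hg' : IsNilpotent (RingHom.ker (g : B →+* κ')) := hnil
  let τ := Algebra.FormallySmooth.liftOfSurjective (AlgHom.id κ κ') g hg hg'
  refine ⟨τ.toRingHom, ?_, ?_⟩
  · ext x
    exact Algebra.FormallySmooth.liftOfSurjective_apply (AlgHom.id κ κ') g hg hg' x
  · ext c
    exact τ.commutes c


/-- Suppose p is a prime with p·1 = 0 in the local ring A and some power of the maximal ideal of A is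
zero. Then the residue map A → κ_A has a section σ : κ_A → A that is a ring map. If moreover A → A'
is a local homomorphism to another local ring whose maximal ideal has a vanishing power, and the
residue field extension κ_{A'}/κ_A is separable (possibly transcendental, i.e. geometrically
reduced), then for any such σ there is a section σ' : κ_{A'} → A' compatible with σ. -/
theorem result (p : ℕ) (hp : p.Prime) (A : Type u) [CommRing A]
    [IsLocalRing A] [CharP A p] (hnil : ∃ n : ℕ, IsLocalRing.maximalIdeal A ^ n = ⊥) :
    (∃ σ : IsLocalRing.ResidueField A →+* A, (IsLocalRing.residue A).comp σ = RingHom.id _) ∧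
    ∀ (A' : Type u) [CommRing A'] [IsLocalRing A'] [Algebra A A'] [IsLocalHom (algebraMap A A')],
      (∃ n : ℕ, IsLocalRing.maximalIdeal A' ^ n = ⊥) →
      Algebra.IsGeometricallyReduced (IsLocalRing.ResidueField A) (IsLocalRing.ResidueField A') →
      ∀ σ : IsLocalRing.ResidueField A →+* A, (IsLocalRing.residue A).comp σ = RingHom.id _ →
        ∃ σ' : IsLocalRing.ResidueField A' →+* A', (IsLocalRing.residue A').comp σ' = RingHom.id _ ∧
          σ'.comp (IsLocalRing.ResidueField.map (algebraMap A A')) = (algebraMap A A').comp σ := by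
  haveI : Fact p.Prime := ⟨hp⟩
  have hker : ∀ (B : Type u) [CommRing B] [IsLocalRing B],
      (∃ n : ℕ, IsLocalRing.maximalIdeal B ^ n = ⊥) →
      IsNilpotent (RingHom.ker (IsLocalRing.residue B)) := by
    intro B _ _ ⟨n, hn⟩
    rw [IsLocalRing.ker_residue]
    exact ⟨n, hn⟩
  constructor
  · letI : Algebra (ZMod p) A := ZMod.algebra A p
    letI : Algebra (ULift.{u} (ZMod p)) A := ULift.algebra' (ZMod p) A
    have : PerfectRing (ULift.{u} (ZMod p)) p := PerfectRing.ofFiniteOfIsReduced p _
    have : Algebra.FormallySmooth (ULift.{u} (ZMod p)) (IsLocalRing.ResidueField A) :=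
      Groth.Agent.Lib.Helper81.FieldSmooth.formallySmooth_of_perfectRing p
    obtain ⟨τ, hτ, -⟩ := exists_ringHom_section (κ := ULift.{u} (ZMod p))
      (κ' := IsLocalRing.ResidueField A) (algebraMap (ULift.{u} (ZMod p)) A) (IsLocalRing.residue A)
      IsLocalRing.residue_surjective (hker A hnil) (fun c => rfl)
    exact ⟨τ, hτ⟩
  · intro A' _ _ _ _ hnil' hGR σ hσ
    have : Algebra.FormallySmooth (IsLocalRing.ResidueField A) (IsLocalRing.ResidueField A') :=
      (Groth.Agent.S2451.result).mpr hGR
    obtain ⟨τ, hτ1, hτ2⟩ := exists_ringHom_section (κ := IsLocalRing.ResidueField A)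
      (κ' := IsLocalRing.ResidueField A') ((algebraMap A A').comp σ) (IsLocalRing.residue A')
      IsLocalRing.residue_surjective (hker A' hnil') (by
        intro c
        have hc : c = IsLocalRing.residue A (σ c) := (congr($hσ c)).symm
        conv_rhs => rw [hc]
        rfl)
    exact ⟨τ, hτ1, hτ2⟩

end Groth.Agent.S7150
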