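import Groth.Statements.S7155
import Mathlib
import Groth.Agent.Lib.Helper9.ASWeak.Main

set_option autoImplicit false
universe u
open EtAlg

namespace Groth.Agent.S7155

set_option maxHeartbeats 2000000 in
/-- Let A → B → C be injective local homomorphisms of discrete valuation rings whose fields of fractions
are K ⊆ L ⊆ M, where A → B is weakly unramified, K has characteristic p, M/L is Galois of degree p,
and κ_A, inside κ_B, is exactly the set of elements admitting a pⁿ-th root for every n. Then some
finite separable extension K₁/K that is totally ramified with respect to A is a weak solution for A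
→ C. (The published statement asks for K₁/K Galois; this row asks only that K₁/K be separable, which
is what the printed construction provides.) -/
theorem result (p : ℕ) (hp : p.Prime) (A B C K L M : Type u)
    [CommRing A] [IsDomain A] [IsDiscreteValuationRing A] [CommRing B] [IsDomain B] [IsDiscreteValuationRing B]
    [CommRing C] [IsDomain C] [IsDiscreteValuationRing C]
    [Algebra A B] [Algebra B C] [Algebra A C] [IsScalarTower A B C]
    (hAB : Function.Injective (algebraMap A B)) (hBC : Function.Injective (algebraMap B C))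
    [IsLocalHom (algebraMap A B)] [IsLocalHom (algebraMap B C)]
    [Field K] [Field L] [Field M] [Algebra A K] [IsFractionRing A K] [Algebra B L] [IsFractionRing B L]
    [Algebra C M] [IsFractionRing C M] [Algebra K L] [Algebra L M] [Algebra K M] [IsScalarTower K L M]
    [Algebra A L] [IsScalarTower A K L] [IsScalarTower A B L] [Algebra B M] [IsScalarTower B L M] [IsScalarTower B C M]
    [Algebra A M] [IsScalarTower A K M] [IsScalarTower A C M]
    (hw : EtRam.IsWeaklyUnramified A B) [CharP K p] [IsGalois L M] (hdeg : Module.finrank L M = p)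
    (hk : ∀ x : IsLocalRing.ResidueField B, (∀ n : ℕ, ∃ y : IsLocalRing.ResidueField B, y ^ (p ^ n) = x) ↔
      x ∈ Set.range (algebraMap (IsLocalRing.ResidueField A) (IsLocalRing.ResidueField B))) :
    ∃ (K₁ : Type u) (_ : Field K₁) (_ : Algebra K K₁), FiniteDimensional K K₁ ∧ Algebra.IsSeparable K K₁ ∧
      EtRam.IsTotallyRamified A ((algebraMap K K₁).comp (algebraMap A K)) ∧ EtRam.IsWeakSolution C K M K₁ := by
  classical
  haveI : Fact p.Prime := ⟨hp⟩
  haveI hLp : CharP L p := charP_of_injective_algebraMap (algebraMap K L).injective p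
  haveI hfdLM : FiniteDimensional L M :=
    Module.finite_of_finrank_pos (by rw [hdeg]; exact hp.pos)
  obtain ⟨π, hπ⟩ := IsDiscreteValuationRing.exists_irreducible A
  have hw' : (IsLocalRing.maximalIdeal A).map (algebraMap A B) = IsLocalRing.maximalIdeal B := hw
  have hπ' : Irreducible (algebraMap A B π) := by
    rw [IsDiscreteValuationRing.irreducible_iff_uniformizer, ← hw', hπ.maximalIdeal_eq,
      Ideal.map_span, Set.image_singleton]
  have hk' : Groth.Agent.Lib.Helper9.ASWeak.ResHyp p A B := hk
  obtain ⟨z, ξ, hz, hznot, hzgen⟩ :=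
    Groth.Agent.Lib.Helper9.ASWeak.exists_artinSchreier (L := L) (M := M) hp hdeg
  have hzgen' : Algebra.adjoin L {z} = ⊤ := by
    have halg : IsAlgebraic L z := Algebra.IsAlgebraic.isAlgebraic z
    have h1 := IntermediateField.adjoin_simple_toSubalgebra_of_isAlgebraic halg
    rw [← h1, hzgen, IntermediateField.top_toSubalgebra]
  -- the pole order of `ξ`
  obtain ⟨n, x, hx⟩ : ∃ (n : ℕ) (x : B), ξ * algebraMap A L π ^ n = algebraMap B L x := by
    obtain ⟨x₀, s, hs, hxs⟩ := IsFractionRing.div_surjective (A := B) ξ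
    have hs0 : s ≠ 0 := nonZeroDivisors.ne_zero hs
    obtain ⟨n, u, hu⟩ := IsDiscreteValuationRing.eq_unit_mul_pow_irreducible hs0 hπ'
    refine ⟨n, x₀ * ((u⁻¹ : Bˣ) : B), ?_⟩
    have hsL : algebraMap B L s ≠ 0 := fun h =>
      hs0 (IsFractionRing.injective B L (by rw [h, map_zero]))
    have h1 : algebraMap B L s = algebraMap B L (u : B) * algebraMap A L π ^ n := by
      rw [hu, map_mul, map_pow, ← IsScalarTower.algebraMap_apply A B L]
    have h2 : algebraMap B L ((u⁻¹ : Bˣ) : B) * algebraMap B L (u : B) = 1 := by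
      rw [← map_mul, Units.inv_mul, map_one]
    rw [← hxs, map_mul, div_mul_eq_mul_div, div_eq_iff hsL, h1]
    calc algebraMap B L x₀ * algebraMap A L π ^ n
        = algebraMap B L x₀ * (algebraMap B L ((u⁻¹ : Bˣ) : B) * algebraMap B L (u : B)) *
            algebraMap A L π ^ n := by rw [h2, mul_one]
      _ = _ := by ring
  obtain ⟨y, b, t, d, a, hexp, ht, ha, -⟩ :=
    Groth.Agent.Lib.Helper9.ASWeak.reduce hp hk' hπ' n ξ ⟨x, hx⟩
  by_cases hJ : ∃ i, i < n ∧ t (i + 1) ≠ 0
  · exact Groth.Agent.Lib.Helper9.ASWeak.caseJ A B C K L M hp hAB hw hπ hk' ξ z hz hdeg n y b t d a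
      hexp ht ha hJ
  · push Not at hJ
    obtain ⟨aK, haK⟩ : ∃ aK : K, aK = ∑ i ∈ Finset.range n,
        algebraMap A K (a (i + 1)) / algebraMap A K π ^ (i + 1) := ⟨_, rfl⟩
    have hexp2 : ξ - (y ^ p - y) = algebraMap K L aK + algebraMap B L b := by
      rw [hexp, haK, map_sum]
      congr 1
      refine Finset.sum_congr rfl (fun i hi => ?_)
      rw [hJ i (Finset.mem_range.mp hi), map_zero, zero_pow (pow_pos hp.pos _).ne', zero_add,
        map_div₀, map_pow, ← IsScalarTower.algebraMap_apply A K L,
        ← IsScalarTower.algebraMap_apply A K L]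
    obtain ⟨-, h0 | ⟨n₀, hn₀, hpn₀, u, hu⟩⟩ :=
      Groth.Agent.Lib.Helper9.ASWeak.polar_unit (K := K) (p := p) hπ a ha n
    · rw [← haK] at h0
      have hϖ0 : algebraMap A K π ≠ 0 := fun h =>
        hπ.ne_zero (IsFractionRing.injective A K (by rw [h, map_zero]))
      refine Groth.Agent.Lib.Helper9.ASWeak.caseI A B C K L M hp hAB hw hπ ξ z hz hzgen'
        (1 / algebraMap A K π) 1 1 ?_ Nat.one_pos ?_ 0 (zero_pow hp.ne_zero) y b ?_
      · rw [pow_one, Units.val_one, map_one, one_div, inv_mul_cancel₀ hϖ0]
      · intro h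
        exact hp.one_lt.ne' (Nat.dvd_one.mp h)
      · rw [hexp2, h0, zero_mul]
    · rw [← haK] at hu
      exact Groth.Agent.Lib.Helper9.ASWeak.caseI A B C K L M hp hAB hw hπ ξ z hz hzgen'
        aK n₀ u hu hn₀ hpn₀ 1 (one_pow p) y b (by rw [one_mul]; exact hexp2)

end Groth.Agent.S7155
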