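import Groth.Statements.S7156
import Mathlib
import Groth.Agent.S7157
import Groth.Agent.S1984
import Groth.Agent.Lib.Helper9.PInsep.Basic
import Groth.Agent.Lib.Helper9.PInsep.Dichotomy
import Groth.Agent.Lib.Helper9.PInsep.CaseThree

set_option autoImplicit false
universe u
open EtAlg

namespace Groth.Agent.S7156

open TensorProduct in
set_option maxHeartbeats 2000000 in
/-- Let A → B → C be injective local homomorphisms of discrete valuation rings whose fields of fractions
are K ⊆ L ⊆ M, and let π be a uniformizer of A; suppose B is a Nagata ring, A → B is weakly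
unramified, and M/L is purely inseparable of prime degree p. Then one of the following holds: the
extension A → C is itself weakly unramified; or else C = B[π^(1/p)]; or else there is a separable
degree-p extension K₁/K, totally ramified with respect to A, for which L ⊗_K K₁ and M ⊗_K K₁ are
fields and the integral closures A₁ → B₁ → C₁ are weakly unramified extensions, i.e. K₁ is a weak
solution for A ⊆ B and for A ⊆ C. -/
theorem result (p : ℕ) (hp : p.Prime) (A B C K L M : Type u)
    [CommRing A] [IsDomain A] [IsDiscreteValuationRing A] [CommRing B] [IsDomain B] [IsDiscreteValuationRing B]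
    [CommRing C] [IsDomain C] [IsDiscreteValuationRing C]
    [Algebra A B] [Algebra B C] [Algebra A C] [IsScalarTower A B C]
    (hAB : Function.Injective (algebraMap A B)) (hBC : Function.Injective (algebraMap B C))
    [IsLocalHom (algebraMap A B)] [IsLocalHom (algebraMap B C)]
    [Field K] [Field L] [Field M] [Algebra A K] [IsFractionRing A K] [Algebra B L] [IsFractionRing B L]
    [Algebra C M] [IsFractionRing C M] [Algebra K L] [Algebra L M] [Algebra K M] [IsScalarTower K L M]
    [Algebra A L] [IsScalarTower A K L] [IsScalarTower A B L] [Algebra B M] [IsScalarTower B L M] [IsScalarTower B C M]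
    [Algebra A M] [IsScalarTower A K M] [IsScalarTower A C M]
    (π : A) (hπ : IsLocalRing.maximalIdeal A = Ideal.span {π}) (hB : CAlg.IsNagata B)
    (hw : EtRam.IsWeaklyUnramified A B) [IsPurelyInseparable L M] (hdeg : Module.finrank L M = p) :
    EtRam.IsWeaklyUnramified A C ∨
      (∃ c : C, c ^ p = algebraMap A C π ∧ Algebra.adjoin B {c} = ⊤) ∨
      ∃ (K₁ : Type u) (_ : Field K₁) (_ : Algebra K K₁),
        Module.finrank K K₁ = p ∧ Algebra.IsSeparable K K₁ ∧
          EtRam.IsTotallyRamified A ((algebraMap K K₁).comp (algebraMap A K)) ∧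
          IsField (L ⊗[K] K₁) ∧ IsField (M ⊗[K] K₁) ∧
          EtRam.IsWeakSolution B K L K₁ ∧ EtRam.IsWeakSolution C K M K₁ := by
  classical
  haveI hfdLM : FiniteDimensional L M :=
    Module.finite_of_finrank_pos (by rw [hdeg]; exact hp.pos)
  have hπirr : Irreducible π := by
    rw [IsDiscreteValuationRing.irreducible_iff_uniformizer]; exact hπ
  have hw' : (IsLocalRing.maximalIdeal A).map (algebraMap A B) = IsLocalRing.maximalIdeal B := hw
  have hπ'irr : Irreducible (algebraMap A B π) := by
    rw [IsDiscreteValuationRing.irreducible_iff_uniformizer, ← hw', hπ, Ideal.map_span,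
      Set.image_singleton]
  have hπC : algebraMap A C π = algebraMap B C (algebraMap A B π) :=
    IsScalarTower.algebraMap_apply A B C π
  rcases Groth.Agent.Lib.Helper9.PInsep.ram_cases (L := L) (M := M) hp hdeg hBC hπ'irr with
    he1 | ⟨hep, ϖ, u, hϖ, hϖp⟩
  · -- ramification index one
    left
    show (IsLocalRing.maximalIdeal A).map (algebraMap A C) = IsLocalRing.maximalIdeal C
    rw [hπ, Ideal.map_span, Set.image_singleton, hπC]
    obtain ⟨τ, hτ⟩ := IsDiscreteValuationRing.exists_irreducible C
    have hne : algebraMap B C (algebraMap A B π) ≠ 0 := fun h =>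
      hπ'irr.ne_zero (hBC (by rw [h, map_zero]))
    obtain ⟨n, w, hnw⟩ := IsDiscreteValuationRing.eq_unit_mul_pow_irreducible hne hτ
    have hn : n = 1 := by
      have h1 := congrArg (IsDiscreteValuationRing.addVal C) hnw
      rw [he1, IsDiscreteValuationRing.addVal_mul, IsDiscreteValuationRing.addVal_pow,
        IsDiscreteValuationRing.addVal_uniformizer hτ,
        IsDiscreteValuationRing.addVal_eq_zero_of_unit w, zero_add] at h1
      have : ((n : ℕ) : ℕ∞) = 1 := by simpa using h1.symm
      exact_mod_cast this
    rw [hn, pow_one] at hnw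
    rw [hτ.maximalIdeal_eq, hnw]
    exact Ideal.span_singleton_eq_span_singleton.mpr
      ⟨w⁻¹, by rw [mul_comm (w : C), mul_assoc, Units.mul_inv, mul_one]⟩
  · -- ramification index `p`
    right
    have hres : ∀ x : C, ∃ b : B, x - algebraMap B C b ∈ IsLocalRing.maximalIdeal C :=
      Groth.Agent.Lib.Helper9.PInsep.residue_surjective_of_addVal_eq_finrank L M hBC hπ'irr
        (by rw [hdeg]; exact hep)
    haveI hfinBC : Module.Finite B C :=
      Groth.Agent.Lib.Helper9.PInsep.finite_of_isNagata (L := L) (M := M) hB hp hdeg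
    rcases Groth.Agent.Lib.Helper9.PInsep.dichotomy (L := L) (M := M) hB hp hdeg hπ'irr u hϖp with
      ⟨θ, hθ⟩ | ⟨m, v, b, hv, hb⟩
    · -- `u⁻¹` is a `p`-th power: `C = B[π^{1/p}]`
      left
      have hθu : IsUnit θ := by
        have : IsUnit (θ ^ p) := IsUnit.of_mul_eq_one _ hθ
        exact (isUnit_pow_iff hp.ne_zero).mp this
      have hc : Irreducible (θ * ϖ) := by
        obtain ⟨w, rfl⟩ := hθu
        exact (irreducible_units_mul w).mpr hϖ
      have hcp : (θ * ϖ) ^ p = algebraMap B C (algebraMap A B π) := by
        rw [mul_pow, hϖp, map_mul, ← mul_assoc, hθ, one_mul]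
      refine ⟨θ * ϖ, by rw [hcp, hπC], ?_⟩
      exact Groth.Agent.Lib.Helper9.PInsep.adjoin_eq_top (p := p) (θ * ϖ) hc hres
        ⟨algebraMap A B π, (IsLocalRing.mem_maximalIdeal _).mpr hπ'irr.not_isUnit, hcp⟩
    · -- the third case
      right
      haveI hLp : CharP L p := Groth.Agent.Lib.Helper9.PInsep.charP_of_finrank (M := M) hp hdeg
      haveI hKp : CharP K p := RingHom.charP (algebraMap K L) (algebraMap K L).injective p
      haveI hAp : CharP A p := RingHom.charP (algebraMap A K) (IsFractionRing.injective A K) p
      haveI hkp : CharP (IsLocalRing.ResidueField A) p :=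
        CharP.of_ringHom_of_ne_zero (IsLocalRing.residue A) p hp.ne_zero
      obtain ⟨K₁, fK₁, algKK₁, algAK₁, towAKK₁, hfr, hsep, ht, πB, b₁, b', hπB, hb₁, hb', h1, h2⟩ :=
        Groth.Agent.S7157.result p hp A K π hπ (m + 2) (by omega) 1
      rw [pow_one] at hfr h1 h2
      haveI hfdKK₁ : FiniteDimensional K K₁ :=
        Module.finite_of_finrank_pos (by rw [hfr]; exact hp.pos)
      have ht' : EtRam.IsTotallyRamified A ((algebraMap K K₁).comp (algebraMap A K)) := by
        rw [← IsScalarTower.algebraMap_eq A K K₁]
        exact ht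
      obtain ⟨hLK₁, hwsB⟩ := Groth.Agent.S1984.result A B K L hAB hw K₁ ht'
      -- data for the local step
      have hvϖ : Irreducible ((v : C) * ϖ) := (irreducible_units_mul v).mpr hϖ
      have hpow : ((v : C) * ϖ) ^ p =
          (1 + algebraMap B C b * algebraMap A C π ^ m) * algebraMap A C π := by
        have hv' : algebraMap B C (u : B) * (v : C) ^ p =
            1 + algebraMap B C b * algebraMap B C (algebraMap A B π) ^ m := by
          rw [hv, map_mul, map_pow]
        rw [mul_pow, hϖp, map_mul, hπC, ← hv']
        ring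
      have hu' : IsUnit (1 + algebraMap B C b * algebraMap A C π ^ m) := by
        have : 1 + algebraMap B C b * algebraMap A C π ^ m =
            algebraMap B C (u : B) * (v : C) ^ p := by
          rw [hv, hπC, map_mul, map_pow]
        rw [this]
        exact (u.isUnit.map (algebraMap B C)).mul (v.isUnit.pow p)
      have hb₀ : ∀ r : C, IsLocalRing.residue C (algebraMap B C b) ≠ IsLocalRing.residue C r ^ p := by
        intro r hr
        obtain ⟨r', hr'⟩ := hres r
        have h3 : IsLocalRing.residue C r = IsLocalRing.residue C (algebraMap B C r') := by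
          rw [← sub_eq_zero, ← map_sub]
          exact (IsLocalRing.residue_eq_zero_iff _).mpr hr'
        rw [h3, ← map_pow, ← map_pow, ← sub_eq_zero, ← map_sub, ← map_sub,
          IsLocalRing.residue_eq_zero_iff] at hr
        have h4 : b - r' ^ p ∈ IsLocalRing.maximalIdeal B := by
          rw [IsLocalRing.mem_maximalIdeal, mem_nonunits_iff]
          intro hunit
          exact (IsLocalRing.mem_maximalIdeal _).mp hr (hunit.map (algebraMap B C))
        apply hb r'
        rw [← map_pow, ← sub_eq_zero, ← map_sub]
        exact (IsLocalRing.residue_eq_zero_iff _).mpr h4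
      have hstep := fun (N : Type u) [Field N] [Algebra K N] [Algebra M N] [Algebra K₁ N]
          [IsScalarTower K M N] [IsScalarTower K K₁ N]
          (hgen : Algebra.adjoin M (Set.range (algebraMap K₁ N)) = ⊤) (W : ValuationSubring N)
          (hW : EtRam.Dominates C ((algebraMap M N).comp (algebraMap C M)) W) =>
        Groth.Agent.Lib.Helper9.PInsep.local_step A C K M K₁ hp hfr π hvϖ (algebraMap B C b) m hu'
          hpow hb₀ πB b₁ b' hπB hb₁ hb' h1 h2 N hgen W hW
      refine ⟨K₁, fK₁, algKK₁, hfr, hsep, ht', hLK₁, ?_, hwsB, ?_⟩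
      · apply Groth.Agent.Lib.Helper9.PInsep.isField_tensor C K M K₁
        intro N _ _ _ _ _ _ hgen W hW
        rw [hfr]
        exact (hstep N hgen W hW).1
      · intro N _ _ _ _ _ _ hgen W hW
        exact (hstep N hgen W hW).2

end Groth.Agent.S7156
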