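import Mathlib
import Groth.Statements.S7159
import Groth.Agent.S7158

set_option autoImplicit false
universe u
open EtAlg

namespace Groth.Agent.S7159


open IsLocalRing EtRam Groth.Agent.S7158
open Groth.Agent.Lib.Helper9 Groth.Agent.Lib.Helper9.DVRExt Groth.Agent.Lib.Helper9.TameBase
  Groth.Agent.Lib.Helper9.TotRam Groth.Agent.Lib.Helper9.AbhyankarCore
open Polynomial

section Cyc

variable {A : Type u} [CommRing A] [IsDomain A] {p : ℕ} {ζ : A}

/-- `p = U * (1 - ζ)^(p-1)` with `U` a unit. -/
theorem exists_unit_mul_pow (hp : p.Prime) (hζ : IsPrimitiveRoot ζ p) :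
    ∃ U : A, IsUnit U ∧ (p : A) = U * (1 - ζ) ^ (p - 1) := by
  obtain ⟨n, rfl⟩ : ∃ n, p = n + 1 := ⟨p - 1, (Nat.sub_add_cancel hp.one_le).symm⟩
  have h1 := hζ.prod_one_sub_pow_eq_order
  have h2 : ∀ k ∈ Finset.range n,
      (1 - ζ ^ (k + 1)) = (1 - ζ) * ∑ i ∈ Finset.range (k + 1), ζ ^ i :=
    fun k _ => (mul_neg_geom_sum ζ (k + 1)).symm
  rw [Finset.prod_congr rfl h2, Finset.prod_mul_distrib, Finset.prod_const,
    Finset.card_range] at h1
  refine ⟨∏ k ∈ Finset.range n, ∑ i ∈ Finset.range (k + 1), ζ ^ i, ?_, ?_⟩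
  · apply Finset.prod_induction _ IsUnit (fun a b => IsUnit.mul) isUnit_one
    intro k hk
    apply hζ.geom_sum_isUnit hp.two_le
    have hlt : k + 1 < n + 1 := Nat.succ_lt_succ (Finset.mem_range.mp hk)
    exact Nat.Coprime.symm ((Nat.Prime.coprime_iff_not_dvd hp).mpr
      (Nat.not_dvd_of_pos_of_lt (Nat.succ_pos k) hlt))
  · rw [Nat.add_sub_cancel, mul_comm]
    push_cast
    exact h1.symm

theorem deriv_P (hp : p.Prime) (P : A[X])
    (hP : C ((1 - ζ) ^ p) * P = (1 + C (1 - ζ) * X) ^ p - 1) (U : A)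
    (hU : (p : A) = U * (1 - ζ) ^ (p - 1)) (hw : 1 - ζ ≠ 0) :
    derivative P = C U * (1 + C (1 - ζ) * X) ^ (p - 1) := by
  have h := congrArg derivative hP
  rw [derivative_mul, derivative_C, zero_mul, zero_add, derivative_sub, derivative_one, sub_zero,
    derivative_pow, derivative_add, derivative_one, zero_add, derivative_mul, derivative_C,
    zero_mul, zero_add, derivative_X, mul_one] at h
  apply mul_left_cancel₀ (a := C ((1 - ζ) ^ p)) (C_ne_zero.mpr (pow_ne_zero _ hw))
  have hwp : (1 - ζ) ^ p = (1 - ζ) ^ (p - 1) * (1 - ζ) := by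
    rw [← pow_succ, Nat.sub_add_cancel hp.one_le]
  rw [h, hU, hwp]
  simp only [map_mul, map_pow]
  ring

theorem P_monic_natDegree (hp : p.Prime) (P : A[X])
    (hP : C ((1 - ζ) ^ p) * P = (1 + C (1 - ζ) * X) ^ p - 1) (hw : 1 - ζ ≠ 0) :
    P.Monic ∧ P.natDegree = p := by
  have hwp : (1 - ζ) ^ p ≠ 0 := pow_ne_zero _ hw
  have hQ : (1 + C (1 - ζ) * X : A[X]) = C (1 - ζ) * X + C 1 := by rw [C_1, add_comm]
  have hd1 : (1 + C (1 - ζ) * X : A[X]).natDegree = 1 := by rw [hQ]; exact natDegree_linear hw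
  have hl1 : (1 + C (1 - ζ) * X : A[X]).leadingCoeff = 1 - ζ := by
    rw [hQ]; exact leadingCoeff_linear hw
  have hdp : ((1 + C (1 - ζ) * X : A[X]) ^ p).natDegree = p := by
    rw [natDegree_pow, hd1, mul_one]
  have hlp : ((1 + C (1 - ζ) * X : A[X]) ^ p).leadingCoeff = (1 - ζ) ^ p := by
    rw [leadingCoeff_pow, hl1]
  have hR1 : ((1 + C (1 - ζ) * X : A[X]) ^ p - 1).natDegree = p := by
    have h0 := natDegree_sub_C (p := (1 + C (1 - ζ) * X : A[X]) ^ p) (a := (1 : A))
    rw [C_1] at h0
    rw [h0, hdp]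
  have hR2 : ((1 + C (1 - ζ) * X : A[X]) ^ p - 1).leadingCoeff = (1 - ζ) ^ p := by
    rw [leadingCoeff_sub_of_degree_lt, hlp]
    rw [degree_one, degree_eq_natDegree (by
      intro h0
      rw [h0, leadingCoeff_zero] at hlp
      exact hwp hlp.symm), hdp]
    exact_mod_cast hp.pos
  have h1 : P.natDegree = p := by
    rw [← natDegree_C_mul hwp, hP, hR1]
  have h2 : P.leadingCoeff = 1 := by
    have := congrArg leadingCoeff hP
    rw [leadingCoeff_mul, leadingCoeff_C, hR2] at this
    exact mul_left_cancel₀ hwp (this.trans (mul_one _).symm)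
  exact ⟨h2, h1⟩

end Cyc

section KM

variable {A K L : Type u} [CommRing A] [IsDomain A] [Field K] [Algebra A K]
  [IsFractionRing A K] [Field L] [Algebra K L] [Algebra A L] [IsScalarTower A K L]

theorem kummer_main (p : ℕ) (hp : p.Prime) (ζ w : A) (hwζ : w = 1 - ζ)
    (hζ : IsPrimitiveRoot ζ p) (hw : w ≠ 0) (P : A[X])
    (hP : C (w ^ p) * P = (1 + C w * X) ^ p - 1) (ξ : K) (z : L)
    (hz : aeval z P = algebraMap K L ξ) (hgen : IntermediateField.adjoin K {z} = ⊤) :
    ∃ (_ : FiniteDimensional K L) (_ : IsGalois K L),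
      (Module.finrank K L = 1 ∨ Module.finrank K L = p) ∧
      (Module.finrank K L = p → ∃ σ : L ≃ₐ[K] L, ∃ j : ℕ, 0 < j ∧ j < p ∧
        σ z - z = -(algebraMap A L (∑ i ∈ Finset.range j, ζ ^ i)) *
          (1 + algebraMap A L w * z)) := by
  haveI : NeZero p := ⟨hp.ne_zero⟩
  have hinjAL : Function.Injective (algebraMap A L) := algebraMap_injective_of_tower A K
  have hinjAK : Function.Injective (algebraMap A K) := IsFractionRing.injective A K
  have hwL0 : algebraMap A L w ≠ 0 := fun h => hw (hinjAL (by rw [h, map_zero]))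
  have hx : (1 + algebraMap A L w * z) ^ p =
      algebraMap K L (1 + (algebraMap A K w) ^ p * ξ) := by
    have h1 := congrArg (aeval z) hP
    simp only [map_mul, map_sub, map_pow, map_add, map_one, aeval_C, aeval_X] at h1
    rw [hz] at h1
    rw [map_add, map_one, map_mul, map_pow, ← IsScalarTower.algebraMap_apply, h1]
    ring
  obtain ⟨x, hxdef⟩ : ∃ x : L, x = 1 + algebraMap A L w * z := ⟨_, rfl⟩
  obtain ⟨η, hη⟩ : ∃ η : K, η = 1 + (algebraMap A K w) ^ p * ξ := ⟨_, rfl⟩
  rw [← hxdef, ← hη] at hx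
  have hzx : z = (x - 1) * (algebraMap A L w)⁻¹ := by
    rw [hxdef]
    field_simp
    ring
  have hζK : IsPrimitiveRoot (algebraMap A K ζ) p := hζ.map_of_injective hinjAK
  have hζL : IsPrimitiveRoot (algebraMap K L (algebraMap A K ζ)) p :=
    hζK.map_of_injective (algebraMap K L).injective
  have hprim : (primitiveRoots p K).Nonempty := ⟨_, (mem_primitiveRoots hp.pos).mpr hζK⟩
  have hxroot : aeval x (X ^ p - C η : K[X]) = 0 := by
    rw [map_sub, map_pow, aeval_X, aeval_C, hx, sub_self]
  have hxalg : IsAlgebraic K x := ⟨X ^ p - C η, X_pow_sub_C_ne_zero hp.pos η, hxroot⟩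
  have hgenx : IntermediateField.adjoin K {x} = ⊤ := by
    rw [eq_top_iff, ← hgen, IntermediateField.adjoin_simple_le_iff, hzx]
    apply mul_mem
    · exact sub_mem (IntermediateField.mem_adjoin_simple_self K x) (one_mem _)
    · apply inv_mem
      rw [IsScalarTower.algebraMap_apply A K L]
      exact IntermediateField.algebraMap_mem _ _
  have hadjx : Algebra.adjoin K {x} = ⊤ := by
    rw [← IntermediateField.adjoin_simple_toSubalgebra_of_isAlgebraic hxalg, hgenx,
      IntermediateField.top_toSubalgebra]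
  by_cases hb : ∃ b : K, b ^ p = η
  · obtain ⟨b, hb⟩ := hb
    have h := congrArg (aeval x) (X_pow_sub_C_eq_prod hζK hp.pos hb)
    simp only [map_sub, map_pow, aeval_X, aeval_C, map_prod] at h
    rw [hx, sub_self] at h
    obtain ⟨i, -, hi⟩ := Finset.prod_eq_zero_iff.mp h.symm
    have hxK : x ∈ (⊥ : IntermediateField K L) := by
      rw [IntermediateField.mem_bot]
      exact ⟨_, (sub_eq_zero.mp hi).symm⟩
    have hbt : (⊥ : IntermediateField K L) = ⊤ := by
      rw [← hgenx]
      exact (IntermediateField.adjoin_simple_eq_bot_iff.mpr hxK).symm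
    have hfr : Module.finrank K L = 1 :=
      IntermediateField.bot_eq_top_iff_finrank_eq_one.mp hbt
    haveI hfd : FiniteDimensional K L :=
      Module.finite_of_finrank_pos (by rw [hfr]; exact one_pos)
    haveI hgal : IsGalois K L := by
      rw [← isGalois_iff_isGalois_top, ← hbt]
      exact isGalois_bot
    exact ⟨hfd, hgal, Or.inl hfr, fun hd => absurd (hfr.symm.trans hd) hp.one_lt.ne⟩
  · push Not at hb
    have H : Irreducible (X ^ p - C η) := X_pow_sub_C_irreducible_of_prime hp hb
    haveI hsf : IsSplittingField K L (X ^ p - C η) := ⟨by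
      rw [Polynomial.map_sub, Polynomial.map_pow, map_C, map_X]
      exact X_pow_sub_C_splits_of_isPrimitiveRoot hζL hx, by
      rw [eq_top_iff, ← hadjx]
      apply Algebra.adjoin_mono
      rw [Set.singleton_subset_iff, mem_rootSet]
      exact ⟨X_pow_sub_C_ne_zero hp.pos η, hxroot⟩⟩
    haveI hfd : FiniteDimensional K L := IsSplittingField.finiteDimensional L (X ^ p - C η)
    haveI hgal : IsGalois K L := isGalois_of_isSplittingField_X_pow_sub_C hprim H L
    have hfr : Module.finrank K L = p := finrank_of_isSplittingField_X_pow_sub_C hprim H L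
    refine ⟨hfd, hgal, Or.inr hfr, fun _ => ?_⟩
    have h1 : 1 < Nat.card (L ≃ₐ[K] L) := by
      rw [IsGalois.card_aut_eq_finrank, hfr]
      exact hp.one_lt
    haveI : Nontrivial (L ≃ₐ[K] L) := Finite.one_lt_card_iff_nontrivial.mp h1
    obtain ⟨σ, hσ⟩ := exists_ne (1 : L ≃ₐ[K] L)
    have hσx : σ x ≠ x := fun h => hσ (eq_one_of_fix hadjx σ h)
    have hx0 : x ≠ 0 := by
      intro h0
      apply hb 0
      rw [zero_pow hp.ne_zero]
      apply (algebraMap K L).injective
      rw [map_zero, ← hx, h0, zero_pow hp.ne_zero]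
    have hpow : (σ x * x⁻¹) ^ p = 1 := by
      rw [mul_pow, ← map_pow, hx, AlgEquiv.commutes, ← hx, inv_pow,
        mul_inv_cancel₀ (pow_ne_zero _ hx0)]
    obtain ⟨j, hjp, hj⟩ := hζL.eq_pow_of_pow_eq_one hpow
    have hσx' : σ x = algebraMap K L (algebraMap A K ζ) ^ j * x := by
      rw [hj, mul_assoc, inv_mul_cancel₀ hx0, mul_one]
    have hj0 : 0 < j := by
      rcases Nat.eq_zero_or_pos j with h0 | h0
      · exfalso
        apply hσx
        rw [hσx', h0, pow_zero, one_mul]
      · exact h0
    refine ⟨σ, j, hj0, hjp, ?_⟩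
    have hσw : σ (algebraMap A L w) = algebraMap A L w := by
      rw [IsScalarTower.algebraMap_apply A K L, AlgEquiv.commutes]
    have hgeo : algebraMap A L w * algebraMap A L (∑ i ∈ Finset.range j, ζ ^ i) =
        1 - algebraMap K L (algebraMap A K ζ) ^ j := by
      rw [← map_mul, hwζ, mul_neg_geom_sum, map_sub, map_one, map_pow,
        IsScalarTower.algebraMap_apply A K L]
    have hσx'' : σ x = 1 + algebraMap A L w * σ z := by
      rw [hxdef, map_add, map_one, map_mul, hσw]
    apply mul_left_cancel₀ hwL0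
    linear_combination hσx' - hσx'' + (1 + algebraMap A L w * z) * hgeo +
      algebraMap K L (algebraMap A K ζ) ^ j * hxdef

end KM

section Main

theorem main (p : ℕ) (hp : p.Prime) (A K L : Type u) [CommRing A] [IsDomain A]
    [IsDiscreteValuationRing A] [Field K] [Algebra A K] [IsFractionRing A K] [Field L]
    [Algebra K L] [Algebra A L] [IsScalarTower A K L] [CharZero K]
    [CharP (ResidueField A) p] (ζ : A) (hζ : aeval ζ (cyclotomic p ℤ) = 0) (P : A[X])
    (hP : C ((1 - ζ) ^ p) * P = (1 + C (1 - ζ) * X) ^ p - 1) (π : A)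
    (hπ : maximalIdeal A = Ideal.span {π}) (ξ : K) (z : L)
    (hz : aeval z P = algebraMap K L ξ) (hgen : IntermediateField.adjoin K {z} = ⊤) :
    IsGalois K L ∧
    (Module.finrank K L = 1 ∨ (IsUnramifiedExt A (algebraMap A L) ∧ Module.finrank K L = p) ∨
      (IsTotallyRamified A (algebraMap A L) ∧ Module.finrank K L = p) ∨
      Case4 A (algebraMap A L) p) ∧
    ((∃ a : A, algebraMap A K a = ξ) →
      Module.finrank K L = 1 ∨ (IsUnramifiedExt A (algebraMap A L) ∧ Module.finrank K L = p)) ∧
    (∀ (n : ℕ) (a : Aˣ), 0 < n → ¬ p ∣ n → ξ * algebraMap A K π ^ n = algebraMap A K a →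
      IsTotallyRamified A (algebraMap A L) ∧ Module.finrank K L = p) ∧
    (∀ (n : ℕ) (a : A), 0 < n → p ∣ n → (∀ r : A, residue A a ≠ residue A r ^ p) →
      ξ * algebraMap A K π ^ n = algebraMap A K a → Case4 A (algebraMap A L) p) := by
  haveI : CharZero A := (algebraMap A K).charZero
  have hζ' : IsPrimitiveRoot ζ p := by
    haveI : NeZero ((p : ℕ) : A) := ⟨Nat.cast_ne_zero.mpr hp.ne_zero⟩
    rw [← isRoot_cyclotomic_iff, IsRoot.def, ← map_cyclotomic_int, eval_map, ← algebraMap_int_eq,
      ← aeval_def]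
    exact hζ
  have hw : (1 - ζ) ≠ 0 := by
    intro h0
    exact hζ'.ne_one hp.one_lt (sub_eq_zero.mp h0).symm
  obtain ⟨U, hUu, hU⟩ := exists_unit_mul_pow hp hζ'
  obtain ⟨hPm, hPd⟩ := P_monic_natDegree hp P hP hw
  obtain ⟨hfd, hgal, hdeg, hσ⟩ := kummer_main p hp ζ (1 - ζ) rfl hζ' hw P hP ξ z hz hgen
  haveI := hfd
  haveI := hgal
  refine ⟨hgal, ?_⟩
  have hwm : (1 - ζ) ∈ maximalIdeal A := by
    have hpm : ((p : ℕ) : A) ∈ maximalIdeal A := by
      rw [← residue_eq_zero_iff, map_natCast]
      exact CharP.cast_eq_zero _ p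
    rw [hU] at hpm
    rcases (maximalIdeal.isMaximal A).isPrime.mem_or_mem hpm with h | h
    · exact absurd hUu ((mem_maximalIdeal _).mp h)
    · exact (maximalIdeal.isMaximal A).isPrime.mem_of_pow_mem _ h
  refine assemble A K p hp hdeg P hPm hPd π hπ ξ z hz (fun a₀ ha₀ hd => ⟨?_, ?_⟩)
  · rw [separable_def]
    have hder : derivative ((P - C a₀).map (residue A)) = C (residue A U) := by
      rw [derivative_map, derivative_sub, derivative_C, sub_zero, deriv_P hp P hP U hU hw]
      simp only [Polynomial.map_mul, Polynomial.map_pow, Polynomial.map_add,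
        Polynomial.map_one, map_C, map_X]
      rw [(residue_eq_zero_iff _).mpr hwm, C_0, zero_mul, add_zero, one_pow, mul_one]
    rw [hder]
    have hu : IsUnit (C (residue A U) : (ResidueField A)[X]) := isUnit_C.mpr (hUu.map _)
    exact ⟨0, ↑hu.unit⁻¹, by rw [zero_mul, zero_add, IsUnit.val_inv_mul]⟩
  · obtain ⟨σ, j, hj0, hjp, hσz⟩ := hσ hd
    refine ⟨σ, fun V hV hlt => ?_⟩
    have hz' : eval₂ (algebraMap A L) z P = algebraMap A L a₀ := by
      rw [← aeval_def, hz, ← ha₀, ← IsScalarTower.algebraMap_apply]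
    have hzint : IsIntegral A z := by
      refine ⟨P - C a₀, hPm.sub_of_left ?_, by rw [eval₂_sub, eval₂_C, hz', sub_self]⟩
      refine degree_C_le.trans_lt ?_
      rw [degree_eq_natDegree hPm.ne_zero, hPd]
      exact_mod_cast hp.pos
    have hzV : z ∈ V := mem_of_isIntegral V hV.1 hzint
    have hcop : j.Coprime p := Nat.Coprime.symm ((Nat.Prime.coprime_iff_not_dvd hp).mpr
      (Nat.not_dvd_of_pos_of_lt hj0 hjp))
    have hsU : IsUnit (RingHom.codRestrict (algebraMap A L) V hV.1
        (∑ i ∈ Finset.range j, ζ ^ i)) :=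
      (hζ'.geom_sum_isUnit hp.two_le hcop).map _
    have hxU : IsUnit (1 + RingHom.codRestrict (algebraMap A L) V hV.1 (1 - ζ) * ⟨z, hzV⟩ : V) := by
      apply isUnit_of_mem_nonunits_one_sub_self
      have : (1 : V) - (1 + RingHom.codRestrict (algebraMap A L) V hV.1 (1 - ζ) * ⟨z, hzV⟩) =
          -(RingHom.codRestrict (algebraMap A L) V hV.1 (1 - ζ) * ⟨z, hzV⟩) := by ring
      rw [this]
      exact (mem_maximalIdeal _).mp ((maximalIdeal V).neg_mem
        (Ideal.mul_mem_right _ _ (cod_mem _ V hV hwm)))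
    have heU := hsU.neg.mul hxU
    have hem : (-(RingHom.codRestrict (algebraMap A L) V hV.1 (∑ i ∈ Finset.range j, ζ ^ i)) *
        (1 + RingHom.codRestrict (algebraMap A L) V hV.1 (1 - ζ) * ⟨z, hzV⟩) : V) ∈
        maximalIdeal V := by
      rw [V.valuation_lt_one_iff]
      rw [hσz] at hlt
      exact hlt
    exact (mem_maximalIdeal _).mp hem heU

end Main


open Polynomial in
/-- Let A be a discrete valuation ring whose fraction field K has characteristic 0 and whose residue
field has characteristic p, and suppose A contains an element ζ with 1 + ζ + ... + ζ^(p-1) = 0 (a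
primitive p-th root of unity); set w = 1 - ζ and let P in A[t] be the polynomial with w^p·P(t) = (1
+ wt)^p - 1. Let ξ be an element of K and let L = K(z) be obtained by adjoining a root z of P(z) =
ξ. Then L/K is a Galois extension, and it falls under one of four cases: (1) L = K; (2) L/K has
degree p and is unramified with respect to A; (3) L/K has degree p and is totally ramified with
respect to A (ramification index p); (4) exactly one valuation ring of L dominates A (so B, the
integral closure of A in L, is itself a discrete valuation ring), the extension A → B is weakly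
unramified, and its residue field extension is purely inseparable of degree p. Moreover, with π a
uniformizer of A: (A) if ξ lies in A, case (1) or (2) holds; (B) if ξ = π⁻ⁿa with n > 0 prime to p
and a a unit of A, case (3) holds; (C) if ξ = π⁻ⁿa with n > 0 divisible by p and the residue class
of a not a p-th power, case (4) holds. -/
theorem result (p : ℕ) (hp : p.Prime) (A K L : Type u) [CommRing A] [IsDomain A]
    [IsDiscreteValuationRing A] [Field K] [Algebra A K] [IsFractionRing A K] [Field L] [Algebra K L] [Algebra A L]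
    [IsScalarTower A K L] [CharZero K] [CharP (IsLocalRing.ResidueField A) p] (ζ : A)
    (hζ : aeval ζ (cyclotomic p ℤ) = 0) (P : A[X]) (hP : C ((1 - ζ) ^ p) * P = (1 + C (1 - ζ) * X) ^ p - 1) (π : A) (hπ : IsLocalRing.maximalIdeal A = Ideal.span {π})
    (ξ : K) (z : L) (hz : aeval z P = algebraMap K L ξ) (hgen : IntermediateField.adjoin K {z} = ⊤) :
    let g : A →+* L := algebraMap A L
    let case1 : Prop := Module.finrank K L = 1
    let case2 : Prop := EtRam.IsUnramifiedExt A g ∧ Module.finrank K L = p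
    let case3 : Prop := EtRam.IsTotallyRamified A g ∧ Module.finrank K L = p
    let case4 : Prop := (∃ V : ValuationSubring L, EtRam.Dominates A g V) ∧
      (∀ V V' : ValuationSubring L, EtRam.Dominates A g V → EtRam.Dominates A g V' → V = V') ∧
      ∀ (V : ValuationSubring L) (h : EtRam.Dominates A g V),
        letI : Algebra A V := (RingHom.codRestrict g V h.1).toAlgebra
        ∀ [IsLocalHom (algebraMap A V)],
          EtRam.IsWeaklyUnramified A V ∧
            IsPurelyInseparable (IsLocalRing.ResidueField A) (IsLocalRing.ResidueField V) ∧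
            Module.finrank (IsLocalRing.ResidueField A) (IsLocalRing.ResidueField V) = p
    IsGalois K L ∧ (case1 ∨ case2 ∨ case3 ∨ case4) ∧
      ((∃ a : A, algebraMap A K a = ξ) → case1 ∨ case2) ∧
      (∀ (n : ℕ) (a : Aˣ), 0 < n → ¬ p ∣ n → ξ * algebraMap A K π ^ n = algebraMap A K a → case3) ∧
      (∀ (n : ℕ) (a : A), 0 < n → p ∣ n → (∀ r : A, IsLocalRing.residue A a ≠ IsLocalRing.residue A r ^ p) →
          ξ * algebraMap A K π ^ n = algebraMap A K a → case4) := by
  exact main p hp A K L ζ hζ P hP π hπ ξ z hz hgen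

end Groth.Agent.S7159
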