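import Groth.Statements.S7160
import Mathlib.Algebra.Homology.ShortComplex.Linear

set_option autoImplicit false
universe u
open CategoryTheory CategoryTheory.Pretriangulated
attribute [local instance] HasDerivedCategory.standard
open CAlg

namespace Groth.Agent.S7160

section
universe w v' u'
variable (R : Type*) [Ring R] {C : Type u'} [Category.{v'} C] [Abelian C] [Linear R C]
  {ι : Type*} (c : ComplexShape ι)

/-- The homology functor on homological complexes is linear. -/
instance homologyFunctor_linear (i : ι) :
    Functor.Linear R (HomologicalComplex.homologyFunctor C c i) where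
  map_smul {X Y} f r := by
    have h : (HomologicalComplex.shortComplexFunctor C c i).map (r • f) =
        r • (HomologicalComplex.shortComplexFunctor C c i).map f := rfl
    show ShortComplex.homologyMap ((HomologicalComplex.shortComplexFunctor C c i).map (r • f)) =
      r • ShortComplex.homologyMap ((HomologicalComplex.shortComplexFunctor C c i).map f)
    rw [h]
    exact ShortComplex.homologyMap_smul _ _

/-- The homology functor on the derived category is linear. -/
instance derived_homologyFunctor_linear [HasDerivedCategory.{w} C] (n : ℤ) :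
    Functor.Linear R (DerivedCategory.homologyFunctor C n) := by
  let _ : Localization.Lifting DerivedCategory.Q (HomologicalComplex.quasiIso C (ComplexShape.up ℤ))
      (HomologicalComplex.homologyFunctor C _ n) (DerivedCategory.homologyFunctor C n) :=
    ⟨DerivedCategory.homologyFunctorFactors C n⟩
  exact (Localization.functor_linear_iff DerivedCategory.Q
    (HomologicalComplex.quasiIso C (ComplexShape.up ℤ)) R
    (HomologicalComplex.homologyFunctor C _ n) (DerivedCategory.homologyFunctor C n)).mp
    (homologyFunctor_linear R _ n)

end

/-- Let R be a ring, f an element of R, M an object of D(R) and C the cone of f : M → M. Suppose that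
H^i(M)_f = 0 whenever i < 0 (every element of H^i(M) is killed by a power of f) and that H^i(C) = 0
whenever i < -1. Then H^i(M) vanishes for every i < 0. -/
theorem result (R : Type u) [CommRing R] (f : R) (M C : Dual.D R)
    (g : M ⟶ C) (h : C ⟶ M⟦(1 : ℤ)⟧) (hT : Triangle.mk (f • 𝟙 M) g h ∈ distinguishedTriangles)
    (hloc : ∀ i : ℤ, i < 0 → ∀ x : Dual.HD R M i, ∃ n : ℕ, f ^ n • x = 0)
    (hC : ∀ i : ℤ, i < -1 → Subsingleton (Dual.HD R C i)) :
    ∀ i : ℤ, i < 0 → Subsingleton (Dual.HD R M i) := by
  intro i hi
  have hmono : Mono ((DerivedCategory.homologyFunctor (ModuleCat.{u} R) i).map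
      (Triangle.mk (f • 𝟙 M) g h).mor₁) := by
    rw [DerivedCategory.HomologySequence.mono_homologyMap_mor₁_iff _ hT (i - 1) i (by omega)]
    have hs : Subsingleton (Dual.HD R C (i - 1)) := hC (i - 1) (by omega)
    have hz : Limits.IsZero ((DerivedCategory.homologyFunctor (ModuleCat.{u} R) (i - 1)).obj C) :=
      @ModuleCat.isZero_of_subsingleton R _ _ hs
    exact hz.eq_of_src _ _
  have hmap : (DerivedCategory.homologyFunctor (ModuleCat.{u} R) i).map (f • 𝟙 M) =
      f • 𝟙 ((DerivedCategory.homologyFunctor (ModuleCat.{u} R) i).obj M) := by
    rw [Functor.map_smul, CategoryTheory.Functor.map_id]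
  have hinj : ∀ x : Dual.HD R M i, f • x = 0 → x = 0 := by
    intro x hx
    have hi' := (ModuleCat.mono_iff_injective _).mp hmono
    have h0 : ((DerivedCategory.homologyFunctor (ModuleCat.{u} R) i).map (f • 𝟙 M)).hom x = 0 := by
      rw [hmap]
      simpa using hx
    exact hi' (h0.trans (map_zero _).symm)
  refine ⟨fun x y => ?_⟩
  suffices hz : ∀ z : Dual.HD R M i, z = 0 by rw [hz x, hz y]
  intro z
  obtain ⟨n, hn⟩ := hloc i hi z
  induction n with
  | zero => simpa using hn
  | succ n ih =>
    apply ih
    apply hinj
    rw [← mul_smul, ← pow_succ']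
    exact hn

end Groth.Agent.S7160
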