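import Groth.Statements.S7162
import Mathlib
import Groth.Agent.Lib.Helper9.SHSquare.Descent

set_option autoImplicit false
universe u
open EtAlg

namespace Groth.Agent.S7162

/-- Let A → B be an injective local homomorphism of discrete valuation rings whose fields of fractions
are K ⊆ L. There is a commutative square of such extensions A ⊆ A', B ⊆ B', A' ⊆ B' (with fraction
fields K', L') such that (1) K'/K and L'/L are separable algebraic, (2) the residue field of A' is a
separable algebraic closure of that of A, and likewise for B' over B, and (3) whenever A' ⊆ B'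
admits a solution (respectively a separable solution), so does A ⊆ B. (The published statement
asserts (3) for weak solutions as well; that clause is left out here: a weak solution for A' ⊆ B'
descends to a finite extension of K but controls only those local extensions attached to embeddings
compatible with K ⊆ K', and weak solutions, unlike solutions, are not preserved under passing to a
normal closure; the clause can fail when the residue field of A is not separably closed in that of
B.) -/
theorem result (A B K L : Type u) [CommRing A] [IsDomain A]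
    [IsDiscreteValuationRing A] [CommRing B] [IsDomain B] [IsDiscreteValuationRing B] [Algebra A B]
    (hinj : Function.Injective (algebraMap A B)) [IsLocalHom (algebraMap A B)]
    [Field K] [Field L] [Algebra A K] [IsFractionRing A K] [Algebra B L] [IsFractionRing B L]
    [Algebra K L] [Algebra A L] [IsScalarTower A K L] [IsScalarTower A B L] :
    ∃ (A' B' K' L' : Type u) (_ : CommRing A') (_ : IsDomain A') (_ : IsDiscreteValuationRing A')
      (_ : CommRing B') (_ : IsDomain B') (_ : IsDiscreteValuationRing B') (_ : Field K') (_ : Field L')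
      (_ : Algebra A A') (_ : Algebra B B') (_ : Algebra A' B') (_ : Algebra A B')
      (_ : IsScalarTower A B B') (_ : IsScalarTower A A' B')
      (_ : Algebra A' K') (_ : IsFractionRing A' K') (_ : Algebra B' L') (_ : IsFractionRing B' L')
      (_ : Algebra K' L') (_ : Algebra A' L') (_ : IsScalarTower A' K' L') (_ : IsScalarTower A' B' L')
      (_ : Algebra K K') (_ : Algebra A K') (_ : IsScalarTower A K K') (_ : IsScalarTower A A' K')
      (_ : Algebra L L') (_ : Algebra B L') (_ : IsScalarTower B L L') (_ : IsScalarTower B B' L')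
      (hA : IsLocalHom (algebraMap A A')) (hB : IsLocalHom (algebraMap B B')) (_ : IsLocalHom (algebraMap A' B')),
      Function.Injective (algebraMap A A') ∧ Function.Injective (algebraMap B B') ∧
      Function.Injective (algebraMap A' B') ∧
      Algebra.IsSeparable K K' ∧ Algebra.IsSeparable L L' ∧
      (letI := (IsLocalRing.ResidueField.map (algebraMap A A')).toAlgebra
       IsSepClosure (IsLocalRing.ResidueField A) (IsLocalRing.ResidueField A')) ∧
      (letI := (IsLocalRing.ResidueField.map (algebraMap B B')).toAlgebra
       IsSepClosure (IsLocalRing.ResidueField B) (IsLocalRing.ResidueField B')) ∧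
      ((∃ (K₁ : Type u) (_ : Field K₁) (_ : Algebra K' K₁), FiniteDimensional K' K₁ ∧ EtRam.IsSolution B' K' L' K₁) →
        ∃ (K₁ : Type u) (_ : Field K₁) (_ : Algebra K K₁), FiniteDimensional K K₁ ∧ EtRam.IsSolution B K L K₁) ∧
      ((∃ (K₁ : Type u) (_ : Field K₁) (_ : Algebra K' K₁), FiniteDimensional K' K₁ ∧ Algebra.IsSeparable K' K₁ ∧
          EtRam.IsSolution B' K' L' K₁) →
        ∃ (K₁ : Type u) (_ : Field K₁) (_ : Algebra K K₁), FiniteDimensional K K₁ ∧ Algebra.IsSeparable K K₁ ∧
          EtRam.IsSolution B K L K₁) := by
  classical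
  -- the strict henselizations, as opaque rings
  obtain ⟨A', cA', lA', aAA', locAA', shA⟩ : ∃ (A' : Type u) (_ : CommRing A') (_ : IsLocalRing A')
      (_ : Algebra A A') (_ : IsLocalHom (algebraMap A A')), Hensel.IsStrictHenselization A A' :=
    ⟨Groth.Agent.Lib.Helper9.HensK.StrictHenselization A, inferInstance, inferInstance,
      inferInstance, inferInstance, inferInstance⟩
  obtain ⟨B', cB', lB', aBB', locBB', shB⟩ : ∃ (B' : Type u) (_ : CommRing B') (_ : IsLocalRing B')
      (_ : Algebra B B') (_ : IsLocalHom (algebraMap B B')), Hensel.IsStrictHenselization B B' :=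
    ⟨Groth.Agent.Lib.Helper9.HensK.StrictHenselization B, inferInstance, inferInstance,
      inferInstance, inferInstance, inferInstance⟩
  obtain ⟨hdomA', hdvrA'⟩ := Groth.Agent.Lib.Helper9.SHSquare.isDVR_of_isStrictHenselization A A'
  obtain ⟨hdomB', hdvrB'⟩ := Groth.Agent.Lib.Helper9.SHSquare.isDVR_of_isStrictHenselization B B'
  haveI ffA : Module.FaithfullyFlat A A' :=
    Groth.Agent.Lib.Helper9.HensK.faithfullyFlat_of_isStrictHenselization A A'
  haveI ffB : Module.FaithfullyFlat B B' :=
    Groth.Agent.Lib.Helper9.HensK.faithfullyFlat_of_isStrictHenselization B B'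
  have hinjAA' : Function.Injective (algebraMap A A') := FaithfulSMul.algebraMap_injective A A'
  have hinjBB' : Function.Injective (algebraMap B B') := FaithfulSMul.algebraMap_injective B B'
  obtain ⟨g, hg, hgloc⟩ :=
    Groth.Agent.Lib.Helper9.SHSquare.exists_strictHenselization_map A B A' B'
  haveI := hgloc
  have hginj : Function.Injective g := by
    obtain ⟨ϖ, hϖ⟩ := IsDiscreteValuationRing.exists_irreducible A
    have hmA : IsLocalRing.maximalIdeal A = Ideal.span {ϖ} := hϖ.maximalIdeal_eq
    have hmA' : IsLocalRing.maximalIdeal A' = Ideal.span {algebraMap A A' ϖ} := by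
      rw [← Groth.Agent.Lib.Helper9.HensK.map_maximalIdeal_of_isStrictHenselization A A', hmA,
        Ideal.map_span, Set.image_singleton]
    have hirr : Irreducible (algebraMap A A' ϖ) :=
      (IsDiscreteValuationRing.irreducible_iff_uniformizer _).mpr hmA'
    refine Groth.Agent.Lib.Helper9.SHSquare.injective_of_map_irreducible_ne_zero g _ hirr ?_
    have h0 : g (algebraMap A A' ϖ) = algebraMap B B' (algebraMap A B ϖ) :=
      DFunLike.congr_fun hg ϖ
    rw [h0]
    intro h0'
    have h1 : algebraMap A B ϖ = 0 := hinjBB' (by rw [h0', map_zero])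
    exact hϖ.ne_zero (hinj (by rw [h1, map_zero]))
  letI algA'B' : Algebra A' B' := g.toAlgebra
  letI algAB' : Algebra A B' := ((algebraMap B B').comp (algebraMap A B)).toAlgebra
  haveI towABB' : IsScalarTower A B B' := IsScalarTower.of_algebraMap_eq (fun _ => rfl)
  haveI towAA'B' : IsScalarTower A A' B' :=
    IsScalarTower.of_algebraMap_eq (fun a => (DFunLike.congr_fun hg a).symm)
  haveI locA'B' : IsLocalHom (algebraMap A' B') := hgloc
  -- fraction fields
  obtain ⟨K', fK', aA'K', frA'K'⟩ : ∃ (K' : Type u) (_ : Field K') (_ : Algebra A' K'),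
      IsFractionRing A' K' := ⟨FractionRing A', inferInstance, inferInstance, inferInstance⟩
  obtain ⟨L', fL', aB'L', frB'L'⟩ : ∃ (L' : Type u) (_ : Field L') (_ : Algebra B' L'),
      IsFractionRing B' L' := ⟨FractionRing B', inferInstance, inferInstance, inferInstance⟩
  have hinjA'K' : Function.Injective (algebraMap A' K') := IsFractionRing.injective A' K'
  have hinjB'L' : Function.Injective (algebraMap B' L') := IsFractionRing.injective B' L'
  letI algA'L' : Algebra A' L' := ((algebraMap B' L').comp (algebraMap A' B')).toAlgebra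
  haveI towA'B'L' : IsScalarTower A' B' L' := IsScalarTower.of_algebraMap_eq (fun _ => rfl)
  have hinjA'L' : Function.Injective (algebraMap A' L') := hinjB'L'.comp hginj
  letI algK'L' : Algebra K' L' := (IsFractionRing.lift hinjA'L').toAlgebra
  haveI towA'K'L' : IsScalarTower A' K' L' :=
    IsScalarTower.of_algebraMap_eq (fun a => (IsFractionRing.lift_algebraMap hinjA'L' a).symm)
  letI algAK' : Algebra A K' := ((algebraMap A' K').comp (algebraMap A A')).toAlgebra
  haveI towAA'K' : IsScalarTower A A' K' := IsScalarTower.of_algebraMap_eq (fun _ => rfl)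
  have hinjAK' : Function.Injective (algebraMap A K') := hinjA'K'.comp hinjAA'
  letI algKK' : Algebra K K' := (IsFractionRing.lift hinjAK').toAlgebra
  haveI towAKK' : IsScalarTower A K K' :=
    IsScalarTower.of_algebraMap_eq (fun a => (IsFractionRing.lift_algebraMap hinjAK' a).symm)
  letI algBL' : Algebra B L' := ((algebraMap B' L').comp (algebraMap B B')).toAlgebra
  haveI towBB'L' : IsScalarTower B B' L' := IsScalarTower.of_algebraMap_eq (fun _ => rfl)
  have hinjBL' : Function.Injective (algebraMap B L') := hinjB'L'.comp hinjBB'
  letI algLL' : Algebra L L' := (IsFractionRing.lift hinjBL').toAlgebra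
  haveI towBLL' : IsScalarTower B L L' :=
    IsScalarTower.of_algebraMap_eq (fun a => (IsFractionRing.lift_algebraMap hinjBL' a).symm)
  refine ⟨A', B', K', L', cA', hdomA', hdvrA', cB', hdomB', hdvrB', fK', fL', aAA', aBB', algA'B',
    algAB', towABB', towAA'B', aA'K', frA'K', aB'L', frB'L', algK'L', algA'L', towA'K'L',
    towA'B'L', algKK', algAK', towAKK', towAA'K', algLL', algBL', towBLL', towBB'L',
    locAA', locBB', locA'B', hinjAA', hinjBB', hginj, ?_, ?_, ?_, ?_, ?_, ?_⟩
  · exact Groth.Agent.Lib.Helper9.SHSquare.isSeparable_fractionRing_of_isEtaleCovered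
      (A := A) (S := A') (Groth.Agent.Lib.Helper9.isEtaleCovered_of_isStrictHenselization A A')
  · exact Groth.Agent.Lib.Helper9.SHSquare.isSeparable_fractionRing_of_isEtaleCovered
      (A := B) (S := B') (Groth.Agent.Lib.Helper9.isEtaleCovered_of_isStrictHenselization B B')
  · have heq : (IsLocalRing.ResidueField.map (algebraMap A A')).toAlgebra =
        (IsLocalRing.ResidueField.instAlgebra :
          Algebra (IsLocalRing.ResidueField A) (IsLocalRing.ResidueField A')) := by
      apply Algebra.algebra_ext
      intro r
      obtain ⟨x, rfl⟩ := IsLocalRing.residue_surjective r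
      rfl
    have h := shA.isSepClosure
    have key : ∀ (alg alg' : Algebra (IsLocalRing.ResidueField A) (IsLocalRing.ResidueField A')),
        alg = alg' → @IsSepClosure _ _ _ _ alg' → @IsSepClosure _ _ _ _ alg := by
      rintro _ _ rfl h
      exact h
    exact key _ _ heq h
  · have heq : (IsLocalRing.ResidueField.map (algebraMap B B')).toAlgebra =
        (IsLocalRing.ResidueField.instAlgebra :
          Algebra (IsLocalRing.ResidueField B) (IsLocalRing.ResidueField B')) := by
      apply Algebra.algebra_ext
      intro r
      obtain ⟨x, rfl⟩ := IsLocalRing.residue_surjective r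
      rfl
    have h := shB.isSepClosure
    have key : ∀ (alg alg' : Algebra (IsLocalRing.ResidueField B) (IsLocalRing.ResidueField B')),
        alg = alg' → @IsSepClosure _ _ _ _ alg' → @IsSepClosure _ _ _ _ alg := by
      rintro _ _ rfl h
      exact h
    exact key _ _ heq h
  · rintro ⟨K₁', fK₁', aK₁', hfin, hsol'⟩
    haveI := hfin
    obtain ⟨K₁, f₁, a₁, h1, _, h3⟩ :=
      Groth.Agent.Lib.Helper9.SHSquare.descent A B K L A' B' K' L' hinj K₁' hsol'
    exact ⟨K₁, f₁, a₁, h1, h3⟩
  · rintro ⟨K₁', fK₁', aK₁', hfin, hsep', hsol'⟩
    haveI := hfin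
    obtain ⟨K₁, f₁, a₁, h1, h2, h3⟩ :=
      Groth.Agent.Lib.Helper9.SHSquare.descent A B K L A' B' K' L' hinj K₁' hsol'
    exact ⟨K₁, f₁, a₁, h1, h2 hsep', h3⟩

end Groth.Agent.S7162
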