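import Groth.Statements.S7163
-- import your own Groth.Agent.* helpers here
import Groth.Agent.Lib.Helper89.SerreGP4

set_option autoImplicit false
universe u
open CAlg

namespace Groth.Agent.S7163

open Groth.Agent.Lib.Helper89 in
/-- Let R be a ring whose set Ω of closed points of Spec R is a Noetherian topological space and M a
finitely presented R-module; for x in Ω write M(x) = M/xM, B(x) for the classes of elements m with
φ(m) in x for every linear form φ, and V(x) = M(x)/B(x). Let s_1, ..., s_h be elements of M, F ⊆ Ω a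
closed subset containing the set Z(s_1, ..., s_h) of points where the images of the s_i in V(x) are
linearly dependent, x_1, ..., x_n pairwise distinct points of F, v_i elements of M(x_i), and k ≥ 0
an integer with h + k ≤ dim V(x) for all x in Ω. Then there are s in M and a closed F' ⊆ Ω such that
(a) s(x_i) and v_i have the same image in V(x_i), (b) Z(s_1, ..., s_h, s) ⊆ F ∪ F', and (c) each
irreducible component of F′ is of codimension at least k in Ω (equivalently, so is each irreducible
closed subset of Ω lying in F′). -/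
theorem result (R : Type u) [CommRing R] [TopologicalSpace.NoetherianSpace (MaximalSpectrum R)]
    (M : Type u) [AddCommGroup M] [Module R M] [Module.FinitePresentation R M]
    (h : ℕ) (s : Fin h → M) (F : Set (MaximalSpectrum R)) (hF : IsClosed F)
    (n : ℕ) (xs : Fin n → MaximalSpectrum R) (hxs : Function.Injective xs) (hxF : ∀ i, xs i ∈ F)
    (v : ∀ i : Fin n, M ⧸ ((xs i).asIdeal • ⊤ : Submodule R M)) (k : ℕ) :
    let Bq : ∀ x : MaximalSpectrum R, Submodule (R ⧸ x.asIdeal) (M ⧸ (x.asIdeal • ⊤ : Submodule R M)) :=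
      fun x => Submodule.span (R ⧸ x.asIdeal)
        ((x.asIdeal • ⊤ : Submodule R M).mkQ '' {m : M | ∀ φ : M →ₗ[R] R, φ m ∈ x.asIdeal})
    let img : ∀ x : MaximalSpectrum R, M → (M ⧸ (x.asIdeal • ⊤ : Submodule R M)) ⧸ Bq x :=
      fun x m => (Bq x).mkQ ((x.asIdeal • ⊤ : Submodule R M).mkQ m)
    (∀ x : MaximalSpectrum R, h + k ≤ Module.finrank (R ⧸ x.asIdeal) ((M ⧸ (x.asIdeal • ⊤ : Submodule R M)) ⧸ Bq x)) →
    (∀ x : MaximalSpectrum R, ¬ LinearIndependent (R ⧸ x.asIdeal) (fun i => img x (s i)) → x ∈ F) →
    ∃ (t : M) (F' : Set (MaximalSpectrum R)), IsClosed F' ∧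
      (∀ i : Fin n, img (xs i) t = (Bq (xs i)).mkQ (v i)) ∧
      (∀ x : MaximalSpectrum R,
        ¬ LinearIndependent (R ⧸ x.asIdeal) (Fin.snoc (fun i => img x (s i)) (img x t)) → x ∈ F ∪ F') ∧
      ∀ Z : TopologicalSpace.IrreducibleCloseds (MaximalSpectrum R), (Z : Set (MaximalSpectrum R)) ⊆ F' →
        (k : ℕ∞) ≤ Order.coheight Z := by
  intro Bq img hdim hZ
  classical
  -- lifts of the prescribed classes
  choose vt hvt using fun i : Fin n =>
    ((xs i).asIdeal • ⊤ : Submodule R M).mkQ_surjective (v i)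
  let vfun : MaximalSpectrum R → M := fun x =>
    if hx : ∃ i, xs i = x then vt hx.choose else 0
  have hvfun : ∀ i, vfun (xs i) = vt i := by
    intro i
    have hx : ∃ j, xs j = xs i := ⟨i, rfl⟩
    simp only [vfun, dif_pos hx]
    congr 1
    exact hxs hx.choose_spec
  obtain ⟨t, F', hF', hval, hsub, hcod⟩ :=
    SerreGP.master (R := R) (M := M) k h s F hF (Finset.univ.image xs)
      (by
        intro x hx
        obtain ⟨i, _, rfl⟩ := Finset.mem_image.mp hx
        exact hxF i)
      vfun 1 0 hdim (fun x hx => hZ x hx)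
  refine ⟨t, F', hF', ?_, ?_, hcod⟩
  · intro i
    have h1 := hval (xs i) (Finset.mem_image_of_mem xs (Finset.mem_univ i))
    rw [hvfun] at h1
    show SerreGP.img M (xs i) t = _
    rw [h1, ← hvt i]
    rfl
  · intro x hx
    simp only [zero_add, one_smul] at hsub
    have hx' : x ∈ SerreGP.Zloc R M (Fin.snoc s t : Fin (h + 1) → M) := by
      show ¬ SerreGP.Indep M x (Fin.snoc s t : Fin (h + 1) → M)
      unfold SerreGP.Indep
      rw [SerreGP.img_comp_snoc]
      exact hx
    rcases hsub hx' with (h1 | h1) | h1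
    · exact Or.inl h1
    · exfalso
      have : (1 : R) ∈ x.asIdeal := h1.1
      exact x.isMaximal.ne_top ((Ideal.eq_top_iff_one _).mpr this)
    · exact Or.inr h1

end Groth.Agent.S7163
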