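import Groth.Statements.S7173
import Groth.Agent.Lib.Helper35.RegTD
import Groth.Agent.S7067

set_option autoImplicit false
universe u
attribute [local instance] HasDerivedCategory.standard
open FlatMor

namespace Groth.Agent.S7173

open AlgebraicGeometry CategoryTheory Limits in
/-- sections over affine opens of a locally Noetherian scheme with regular local rings form regular
rings. -/
lemma isRegularRing_of_stalks {X : Scheme.{u}} [IsLocallyNoetherian X]
    (hX : ∀ x : X, IsRegularLocalRing ↑(X.presheaf.stalk x)) {U : X.Opens} (hU : IsAffineOpen U) :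
    IsRegularRing Γ(X, U) := by
  have : IsNoetherianRing Γ(X, U) := IsLocallyNoetherian.component_noetherian ⟨U, hU⟩
  rw [isRegularRing_iff]
  intro p hp
  have hx : hU.fromSpec (⟨p, hp⟩ : PrimeSpectrum Γ(X, U)) ∈ U := by
    have : hU.fromSpec (⟨p, hp⟩ : PrimeSpectrum Γ(X, U)) ∈ Set.range hU.fromSpec := ⟨_, rfl⟩
    rw [hU.range_fromSpec] at this
    exact this
  letI : Algebra Γ(X, U) (X.presheaf.stalk (hU.fromSpec (⟨p, hp⟩ : PrimeSpectrum Γ(X, U)))) :=
    TopCat.Presheaf.algebra_section_stalk X.presheaf ⟨_, hx⟩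
  have hloc : IsLocalization.AtPrime
      (X.presheaf.stalk (hU.fromSpec (⟨p, hp⟩ : PrimeSpectrum Γ(X, U))))
      (hU.primeIdealOf ⟨_, hx⟩).asIdeal := hU.isLocalization_stalk ⟨_, hx⟩
  have hpe : hU.primeIdealOf ⟨hU.fromSpec (⟨p, hp⟩ : PrimeSpectrum Γ(X, U)), hx⟩ = ⟨p, hp⟩ := by
    apply hU.fromSpec.isOpenEmbedding.injective
    exact hU.fromSpec_primeIdealOf ⟨hU.fromSpec (⟨p, hp⟩ : PrimeSpectrum Γ(X, U)), hx⟩
  rw [hpe] at hloc
  have := hX (hU.fromSpec (⟨p, hp⟩ : PrimeSpectrum Γ(X, U)))
  exact IsRegularLocalRing.of_ringEquiv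
    (IsLocalization.algEquiv p.primeCompl
      (X.presheaf.stalk (hU.fromSpec (⟨p, hp⟩ : PrimeSpectrum Γ(X, U))))
      (Localization.AtPrime p)).toRingEquiv

open AlgebraicGeometry CategoryTheory Limits in
/-- A morphism locally of finite type to a regular scheme S (locally Noetherian with all local rings
regular) whose affine opens have finite Krull dimension is perfect. (The published statement carries
no dimension hypothesis; its proof is the ring statement for a finite type algebra over a regular
ring of finite dimension, so finite Krull dimension of the affine opens of S is assumed here.) -/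
theorem result {X S : Scheme.{u}} (f : X ⟶ S) [LocallyOfFiniteType f] [IsLocallyNoetherian S]
    (hreg : ∀ s : S, IsRegularLocalRing (S.presheaf.stalk s))
    (hdim : ∀ V : S.Opens, IsAffineOpen V → ringKrullDim Γ(S, V) < ⊤) :
    MoreMor.IsPerfectMor f := by
  intro U V hU hV hUV
  letI := (f.appLE V U hUV).hom.toAlgebra
  have hft : Algebra.FiniteType Γ(S, V) Γ(X, U) := f.finiteType_appLE hV hU hUV
  have hreg' : IsRegularRing Γ(S, V) := isRegularRing_of_stalks hreg hV
  obtain ⟨d, hd⟩ := Groth.Agent.Lib.Helper35.RegTD.exists_nat_of_lt_top (hdim V hV)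
  exact ⟨Groth.Agent.S7067.result Γ(S, V) Γ(X, U),
    ⟨d, Groth.Agent.Lib.Helper35.RegTD.hasTorDimLE_of_isRegularRing d hd Γ(X, U)⟩⟩

end Groth.Agent.S7173
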