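import Groth.Statements.S7185
import Mathlib
import Groth.Agent.Lib.Helper7.FibreIntegral
-- import your own Groth.Agent.* helpers here

set_option autoImplicit false
universe u
open FlatMor

namespace Groth.Agent.S7185

open AlgebraicGeometry CategoryTheory Limits in
/-- The restriction of a weighting of a locally quasi-finite morphism f : X → Y (locally of finite type
with discrete fibres) to an open subscheme X' of X is a weighting of X' → Y. -/
theorem result {X Y : Scheme.{u}} (f : X ⟶ Y) [LocallyQuasiFinite f] [LocallyOfFiniteType f] (w : X → ℤ)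
    (hw : MoreMor.IsWeighting f w) (X' : X.Opens) : MoreMor.IsWeighting (X'.ι ≫ f) (fun x => w (X'.ι x)) := by
  intro V g _ U hU
  -- the canonical open immersion `X' ×_Y V ⟶ X ×_Y V`
  let j : pullback (X'.ι ≫ f) g ⟶ pullback f g :=
    pullback.map (X'.ι ≫ f) g f g X'.ι (𝟙 V) (𝟙 Y) (by simp) (by simp)
  have hj_fst : j ≫ pullback.fst f g = pullback.fst (X'.ι ≫ f) g ≫ X'.ι :=
    pullback.lift_fst _ _ _
  have hj_snd : j ≫ pullback.snd f g = pullback.snd (X'.ι ≫ f) g :=
    (pullback.lift_snd _ _ _).trans (Category.comp_id _)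
  let U' : (pullback f g).Opens := j ''ᵁ U
  let e : (U : Scheme.{u}) ≅ (U' : Scheme.{u}) := j.isoImage U
  have he : e.hom ≫ U'.ι = U.ι ≫ j := j.isoImage_hom_ι U
  have hcomp : e.hom ≫ (U'.ι ≫ pullback.snd f g) = U.ι ≫ pullback.snd (X'.ι ≫ f) g := by
    rw [← Category.assoc, he, Category.assoc, hj_snd]
  have hU' : IsFinite (U'.ι ≫ pullback.snd f g) := by
    have : IsFinite (e.hom ≫ (U'.ι ≫ pullback.snd f g)) := by rw [hcomp]; exact hU
    exact (MorphismProperty.cancel_left_of_respectsIso @IsFinite e.hom _).mp this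
  have hloc := hw V g U' hU'
  -- the two fibre integrals agree
  have hpb : IsPullback e.hom (U.ι ≫ pullback.snd (X'.ι ≫ f) g) (U'.ι ≫ pullback.snd f g) (𝟙 V) :=
    IsPullback.of_horiz_isIso ⟨by rw [hcomp, Category.comp_id]⟩
  have hfinfib : ∀ v : V, ((U'.ι ≫ pullback.snd f g) ⁻¹' {v}).Finite := fun v =>
    Scheme.Hom.finite_preimage_singleton _ v
  have hEq : MoreMor.fibreIntegral (U.ι ≫ pullback.snd (X'.ι ≫ f) g)
      (fun u => w (X'.ι (pullback.fst (X'.ι ≫ f) g (U.ι u)))) =
      MoreMor.fibreIntegral (U'.ι ≫ pullback.snd f g)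
        (fun u => w (pullback.fst f g (U'.ι u))) := by
    funext v
    have := Groth.Agent.Lib.Helper7.fibreIntegral_baseChange (U'.ι ≫ pullback.snd f g) hfinfib
      (U.ι ≫ pullback.snd (X'.ι ≫ f) g) e.hom (𝟙 V) hpb
      (fun u => w (pullback.fst f g (U'.ι u))) v
    have hid : (𝟙 V : V ⟶ V) v = v := rfl
    rw [hid] at this
    rw [← this]
    congr 1
    funext u
    simp only [Function.comp_apply]
    congr 1
    have h1 : (e.hom ≫ U'.ι ≫ pullback.fst f g) u =
        (U.ι ≫ pullback.fst (X'.ι ≫ f) g ≫ X'.ι) u := by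
      rw [← Category.assoc, he, Category.assoc, hj_fst]
    simpa using h1.symm
  rw [hEq]
  exact hloc

end Groth.Agent.S7185
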