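import Groth.Statements.S7191
import Mathlib
import Groth.Agent.Lib.Helper22.CDLimit
import Groth.Agent.Lib.Helper22.CDIndCons
import Groth.Agent.Lib.Helper22.PullbackDiagram
import Groth.Agent.Lib.Helper12.ProConsIff
import Groth.Agent.S4787
-- import your own Groth.Agent.* helpers here

set_option autoImplicit false
universe u
open CategoryTheory AlgebraicGeometry
open FlatMor

open Groth.Agent.Lib.Helper22.CD Groth.Agent.Lib.Helper22.PullbackDiagram CategoryTheory.Limits

namespace Groth.Agent.S7191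

/-- Let S = lim S_i be a cofiltered limit of schemes with affine transition morphisms, f₀ : X₀ → Y₀ a
morphism over some S_{i₀} with Y₀ quasi-compact and quasi-separated and f₀ locally of finite
presentation, and f : X → Y its base change to S. If f is completely decomposed (every point of Y is
the image of a point of X with the same residue field), then some base change f_i : X_i → Y_i of f₀
to an S_i, i → i₀, is completely decomposed. -/
theorem result {I : Type u} [SmallCategory I] [IsCofiltered I]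
    (D : I ⥤ Scheme.{u}) (c : Limits.Cone D) (hc : Limits.IsLimit c)
    [∀ (i j : I) (a : i ⟶ j), IsAffineHom (D.map a)]
    (i0 : I) {X0 Y0 X Y : Scheme.{u}} (f0 : X0 ⟶ Y0) (q0 : Y0 ⟶ D.obj i0) [CompactSpace ↥Y0] [QuasiSeparatedSpace ↥Y0]
    [LocallyOfFinitePresentation f0]
    (f : X ⟶ Y) (q : Y ⟶ c.pt) (pY : Y ⟶ Y0) (pX : X ⟶ X0)
    (hY : IsPullback pY q q0 (c.π.app i0)) (hX : IsPullback pX f f0 pY)
    (hcd : ∀ y : Y, ∃ x : X, f x = y ∧ Function.Bijective (f.residueFieldMap x)) :
    ∃ (i : I) (a : i ⟶ i0) (Xi Yi : Scheme.{u}) (fi : Xi ⟶ Yi) (qi : Yi ⟶ D.obj i) (pYi : Yi ⟶ Y0) (pXi : Xi ⟶ X0),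
      IsPullback pYi qi q0 (D.map a) ∧ IsPullback pXi fi f0 pYi ∧
      ∀ y : Yi, ∃ x : Xi, fi x = y ∧ Function.Bijective (fi.residueFieldMap x) := by
  classical
  haveI hDaff : ∀ {a b : I} (f : a ⟶ b), IsAffineHom (D.map f) := fun f => inferInstance
  haveI hDYaff : ∀ (a b : Over i0) (h : a ⟶ b), IsAffineHom ((DM D i0 q0).map h) :=
    fun a b h => isAffineHom_DM_map D i0 q0 h
  have hcY : IsLimit (cM D c i0 q0) := isLimitCM D c hc i0 q0
  -- the completely decomposed loci of the stages
  let F : ∀ a : Over i0, Set ((DM D i0 q0).obj a) :=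
    fun a => {y | IsCDAt (pullback.snd f0 (psnd D i0 q0 a)) y}
  let E : ∀ a : Over i0, Set ((DM D i0 q0).obj a) := fun _ => Set.univ
  have hE : ∀ a, ProCons.IsProConstructible (E a) :=
    fun a => Groth.Agent.Lib.Helper12.ProConsIff.isProConstructible_univ
  have hF : ∀ a, ProCons.IsIndConstructible (F a) :=
    fun a => isIndConstructible_setOf_isCDAt (pullback.snd f0 (psnd D i0 q0 a))
  have hEm : ∀ (a b : Over i0) (φ : a ⟶ b), E a ⊆ ⇑((DM D i0 q0).map φ) ⁻¹' E b :=
    fun a b φ y _ => Set.mem_univ _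
  have hFm : ∀ (a b : Over i0) (φ : a ⟶ b), ⇑((DM D i0 q0).map φ) ⁻¹' F b ⊆ F a := by
    intro a b φ y hy
    have hcond : pullback.fst f0 (psnd D i0 q0 a) ≫ f0 =
        (pullback.snd f0 (psnd D i0 q0 a) ≫ (DM D i0 q0).map φ) ≫ psnd D i0 q0 b := by
      rw [Category.assoc, DM_map_snd, pullback.condition]
    let gX : pullback f0 (psnd D i0 q0 a) ⟶ pullback f0 (psnd D i0 q0 b) :=
      pullback.lift _ _ hcond
    have hg1 : gX ≫ pullback.fst f0 (psnd D i0 q0 b) = pullback.fst f0 (psnd D i0 q0 a) :=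
      pullback.lift_fst _ _ _
    have hg2 : gX ≫ pullback.snd f0 (psnd D i0 q0 b) =
        pullback.snd f0 (psnd D i0 q0 a) ≫ (DM D i0 q0).map φ := pullback.lift_snd _ _ _
    have hpb : IsPullback gX (pullback.snd f0 (psnd D i0 q0 a))
        (pullback.snd f0 (psnd D i0 q0 b)) ((DM D i0 q0).map φ) := by
      refine IsPullback.of_right (h₁₂ := pullback.fst f0 (psnd D i0 q0 b))
        (h₂₂ := psnd D i0 q0 b) (v₁₃ := f0) ?_ hg2 (IsPullback.of_hasPullback f0 _)
      rw [hg1, DM_map_snd]
      exact IsPullback.of_hasPullback f0 _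
    exact IsCDAt.of_isPullback hpb y hy
  -- a quasi-compact stage
  let a0 : Over i0 := Over.mk (𝟙 i0)
  haveI : CompactSpace ((DM D i0 q0).obj a0) := by
    have hiso : IsIso (psnd D i0 q0 a0) := by
      have h1 : IsIso (D.map a0.hom) := by
        change IsIso (D.map (𝟙 i0))
        rw [D.map_id]; infer_instance
      exact MorphismProperty.of_isPullback (P := MorphismProperty.isomorphisms Scheme.{u})
        (IsPullback.of_hasPullback (D.map a0.hom) q0) h1
    exact (psnd D i0 q0 a0).homeomorph.symm.compactSpace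
  have key := (Groth.Agent.S4787.result (DM D i0 q0) (cM D c i0 q0) hcY a0 E F hE hF hEm hFm).mp ?_
  · obtain ⟨a, -, ha⟩ := key
    have hall := ha a (𝟙 a)
    refine ⟨a.left, a.hom, pullback f0 (psnd D i0 q0 a), (DM D i0 q0).obj a,
      pullback.snd f0 (psnd D i0 q0 a), pfst D i0 q0 a, psnd D i0 q0 a,
      pullback.fst f0 (psnd D i0 q0 a), ?_, ?_, ?_⟩
    · exact (IsPullback.of_hasPullback (D.map a.hom) q0).flip
    · exact IsPullback.of_hasPullback f0 _
    · intro y
      exact hall (Set.mem_univ y)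
  · -- every point of the limit is completely decomposed at some stage
    intro y _
    obtain ⟨e, he1, he2⟩ : ∃ e : (cM D c i0 q0).pt ⟶ Y,
        e ≫ pY = pullback.snd (c.π.app i0) q0 ∧ e ≫ q = pullback.fst (c.π.app i0) q0 :=
      ⟨hY.lift (pullback.snd (c.π.app i0) q0) (pullback.fst (c.π.app i0) q0)
        pullback.condition.symm, hY.lift_fst _ _ _, hY.lift_snd _ _ _⟩
    obtain ⟨σ, hσ⟩ := exists_section_of_isCDAt f (e y) (hcd (e y))
    obtain ⟨σ₀, hσ₀⟩ : ∃ σ₀ : Spec ((cM D c i0 q0).pt.residueField y) ⟶ X0,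
        σ₀ = Spec.map (e.residueFieldMap y) ≫ σ ≫ pX := ⟨_, rfl⟩
    have hσ₀f : σ₀ ≫ f0 = (cM D c i0 q0).pt.fromSpecResidueField y ≫
        pullback.snd (c.π.app i0) q0 := by
      rw [hσ₀, Category.assoc, Category.assoc, hX.w, ← Category.assoc σ, hσ,
        ← Category.assoc, Scheme.Hom.SpecMap_residueFieldMap_fromSpecResidueField, Category.assoc,
        he1]
    let t : DM D i0 q0 ⟶ (Functor.const (Over i0)).obj Y0 :=
      { app := fun a => psnd D i0 q0 a
        naturality := fun a b φ => by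
          simp only [Functor.const_obj_obj, Functor.const_obj_map, Category.comp_id]
          exact DM_map_snd D i0 q0 φ }
    obtain ⟨a, τ, hτ⟩ := exists_stage_section (DM D i0 q0) (cM D c i0 q0) y hcY f0 t σ₀
      (fun a => by
        rw [hσ₀f]
        congr 1
        exact (cM_π_snd D c i0 q0 a).symm)
    refine Set.mem_iUnion.mpr ⟨a, ?_⟩
    have hτ' : τ ≫ f0 = ((DM D i0 q0).obj a).fromSpecResidueField ((cM D c i0 q0).π.app a y) ≫
        psnd D i0 q0 a := hτ
    exact isCDAt_of_section _ _ (pullback.lift τ _ hτ') (pullback.lift_snd _ _ _)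

end Groth.Agent.S7191
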