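import Groth.Statements.S7192
import Mathlib
import Groth.Agent.Lib.Helper22.WeightingLimit
-- import your own Groth.Agent.* helpers here

set_option autoImplicit false
universe u
open CategoryTheory AlgebraicGeometry
open FlatMor

open Groth.Agent.Lib.Helper22.Weighting Groth.Agent.Lib.Helper22.PullbackDiagram Limits

namespace Groth.Agent.S7192

/-- Let Y = lim Y_i be a cofiltered limit of affine schemes and f₀ : X₀ → Y_{i₀} a quasi-finite morphism
of finite presentation between affine schemes, with base changes f : X → Y and f_i : X_i → Y_i. If w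
is a weighting of f, then for some i → i₀ there is a weighting w_i of f_i which pulls back to w
along X → X_i. -/
theorem result {I : Type u} [SmallCategory I] [IsCofiltered I]
    (D : I ⥤ Scheme.{u}) (c : Limits.Cone D) (hc : Limits.IsLimit c) [∀ i, IsAffine (D.obj i)]
    (i0 : I) {X0 X : Scheme.{u}} [IsAffine X0] (f0 : X0 ⟶ D.obj i0) [LocallyQuasiFinite f0] [LocallyOfFinitePresentation f0] [QuasiCompact f0]
    (f : X ⟶ c.pt) (pX : X ⟶ X0) (hX : IsPullback pX f f0 (c.π.app i0))
    (w : X → ℤ) (hw : MoreMor.IsWeighting f w) :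
    ∃ (i : I) (a : i ⟶ i0) (Xi : Scheme.{u}) (fi : Xi ⟶ D.obj i) (pXi : Xi ⟶ X0) (g : X ⟶ Xi) (wi : Xi → ℤ),
      IsPullback pXi fi f0 (D.map a) ∧ g ≫ fi = f ≫ c.π.app i ∧ g ≫ pXi = pX ∧
      MoreMor.IsWeighting fi wi ∧ ∀ x : X, wi (g x) = w x := by
  classical
  have hcpt : IsAffine c.pt := Scheme.isAffine_of_isLimit c hc
  have : LocallyQuasiFinite f :=
    MorphismProperty.of_isPullback (P := @LocallyQuasiFinite) hX inferInstance
  have : LocallyOfFiniteType f :=
    MorphismProperty.of_isPullback (P := @LocallyOfFiniteType) hX inferInstance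
  -- the concrete model of the base change to the limit
  obtain ⟨e, he₁, he₂⟩ : ∃ e : (cM D c i0 f0).pt ⟶ X, e ≫ pX = pLim D c i0 f0 ∧
      e ≫ f = fLim D c i0 f0 :=
    ⟨hX.lift (pLim D c i0 f0) (fLim D c i0 f0) (isPullback_pLim_fLim D c i0 f0).w,
      hX.lift_fst _ _ _, hX.lift_snd _ _ _⟩
  obtain ⟨e', he'₁, he'₂⟩ : ∃ e' : X ⟶ (cM D c i0 f0).pt, e' ≫ pLim D c i0 f0 = pX ∧
      e' ≫ fLim D c i0 f0 = f :=
    ⟨(isPullback_pLim_fLim D c i0 f0).lift pX f hX.w,
      (isPullback_pLim_fLim D c i0 f0).lift_fst _ _ _,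
      (isPullback_pLim_fLim D c i0 f0).lift_snd _ _ _⟩
  have hee : e' ≫ e = 𝟙 X := by
    apply hX.hom_ext
    · rw [Category.assoc, he₁, he'₁, Category.id_comp]
    · rw [Category.assoc, he₂, he'₂, Category.id_comp]
  have hbig : IsPullback (e ≫ pX) (fLim D c i0 f0) f0 (𝟙 c.pt ≫ c.π.app i0) := by
    rw [he₁, Category.id_comp]
    exact isPullback_pLim_fLim D c i0 f0
  have hsq : IsPullback e (fLim D c i0 f0) f (𝟙 c.pt) :=
    IsPullback.of_right hbig (by rw [he₂, Category.comp_id]) hX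
  have hw' : MoreMor.IsWeighting (fLim D c i0 f0) (w ∘ ⇑e) := isWeighting_baseChange hw hsq
  -- constructible level sets
  have : LocallyQuasiFinite (fLim D c i0 f0) :=
    MorphismProperty.of_isPullback (P := @LocallyQuasiFinite) (isPullback_pLim_fLim D c i0 f0)
      inferInstance
  have : LocallyOfFiniteType (fLim D c i0 f0) :=
    MorphismProperty.of_isPullback (P := @LocallyOfFiniteType) (isPullback_pLim_fLim D c i0 f0)
      inferInstance
  have : IsAffineHom (fLim D c i0 f0) :=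
    MorphismProperty.of_isPullback (P := @IsAffineHom) (isPullback_pLim_fLim D c i0 f0)
      inferInstance
  have : IsAffine (cM D c i0 f0).pt := isAffine_of_isAffineHom (fLim D c i0 f0)
  have hcons : ∀ n : ℤ, Topology.IsConstructible {x : (cM D c i0 f0).pt | (w ∘ ⇑e) x = n} :=
    fun n => (isLocallyConstructible_levelSet hw' n).isConstructible
  -- descend the function to a finite stage
  have : ∀ (a b : Over i0) (h : a ⟶ b), IsAffineHom ((DM D i0 f0).map h) :=
    fun a b h => isAffineHom_DM_map D i0 f0 h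
  let b0 : Over i0 := Over.mk (𝟙 i0)
  have : IsAffine ((DM D i0 f0).obj b0) := by rw [DM_obj]; infer_instance
  obtain ⟨j, wj, hwj, hj⟩ := exists_descended_function (DM D i0 f0) (cM D c i0 f0)
    (isLimitCM D c hc i0 f0) b0 (w ∘ ⇑e) hcons
  -- rebase at `j`
  have : IsAffine ((DM D i0 f0).obj j) := by rw [DM_obj]; infer_instance
  have : LocallyQuasiFinite (pfst D i0 f0 j) :=
    MorphismProperty.of_isPullback (P := @LocallyQuasiFinite) (isPullback_psnd_pfst D i0 f0 j)
      inferInstance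
  have : LocallyOfFinitePresentation (pfst D i0 f0 j) :=
    MorphismProperty.of_isPullback (P := @LocallyOfFinitePresentation)
      (isPullback_psnd_pfst D i0 f0 j) inferInstance
  have hwj' : ∀ n : ℤ, ProCons.IsIndConstructible {x : (DM D i0 f0).obj j | wj x = n} :=
    fun n => Groth.Agent.Lib.Helper16.isIndConstructible_of_isLocallyConstructible
      (hwj n).isLocallyConstructible
  have hwL : MoreMor.IsWeighting (fLim D c i0 f0) (wj ∘ ⇑((cM D c i0 f0).π.app j)) := by
    have : wj ∘ ⇑((cM D c i0 f0).π.app j) = w ∘ ⇑e := funext hj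
    rw [this]
    exact hw'
  obtain ⟨b, hb⟩ := exists_isWeighting_stage' D c hc j.left (pfst D i0 f0 j) (fLim D c i0 f0)
    ((cM D c i0 f0).π.app j) (isPullback_cM_π D c i0 f0 j) wj hwj' hwL
  -- the output
  have hpb1 := isPullback_psnd_pfst D j.left (pfst D i0 f0 j) b
  have hpb2 := isPullback_psnd_pfst D i0 f0 j
  have hpb : IsPullback (psnd D j.left (pfst D i0 f0 j) b ≫ psnd D i0 f0 j)
      (pfst D j.left (pfst D i0 f0 j) b) f0 (D.map (b.hom ≫ j.hom)) := by
    rw [D.map_comp]
    exact hpb1.paste_horiz hpb2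
  have hcomm : (e' ≫ (cM D c i0 f0).π.app j) ≫ pfst D i0 f0 j =
      (f ≫ c.π.app b.left) ≫ D.map b.hom := by
    rw [Category.assoc, cM_π_fLim, ← Category.assoc, he'₂, Category.assoc, c.w]
  obtain ⟨g, hg₁, hg₂⟩ : ∃ g : X ⟶ (DM D j.left (pfst D i0 f0 j)).obj b,
      g ≫ psnd D j.left (pfst D i0 f0 j) b = e' ≫ (cM D c i0 f0).π.app j ∧
      g ≫ pfst D j.left (pfst D i0 f0 j) b = f ≫ c.π.app b.left :=
    ⟨hpb1.lift _ _ hcomm, hpb1.lift_fst _ _ _, hpb1.lift_snd _ _ _⟩
  refine ⟨b.left, b.hom ≫ j.hom, (DM D j.left (pfst D i0 f0 j)).obj b,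
    pfst D j.left (pfst D i0 f0 j) b, psnd D j.left (pfst D i0 f0 j) b ≫ psnd D i0 f0 j, g,
    wj ∘ ⇑(psnd D j.left (pfst D i0 f0 j) b), hpb, hg₂, ?_, hb, ?_⟩
  · rw [← Category.assoc, hg₁, Category.assoc, cM_π_pLim, he'₁]
  · intro x
    simp only [Function.comp_apply]
    rw [← Scheme.Hom.comp_apply, hg₁, Scheme.Hom.comp_apply, hj]
    simp only [Function.comp_apply]
    rw [← Scheme.Hom.comp_apply, hee]
    rfl

end Groth.Agent.S7192
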