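import Groth.Statements.S7196
import Groth.Agent.Lib.Helper58.WeilQF

set_option autoImplicit false
universe u
open CategoryTheory AlgebraicGeometry
open FlatMor

namespace Groth.Agent.S7196

/-- For Z → S finite locally free and X → S separated, locally of finite type and with discrete fibres
(locally quasi-finite), the functor T ↦ {S-morphisms T ×_S Z → X} on S-schemes is represented by
some S-scheme. -/
theorem result {Z X S : Scheme.{u}} (g : Z ⟶ S) (f : X ⟶ S) (hg : Mor2.IsFinLocFree g)
    [IsSeparated f] [LocallyQuasiFinite f] [LocallyOfFiniteType f] :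
    (Flatn.morS g f).IsRepresentable := by
  exact Groth.Agent.Lib.Helper58.WeilAF.isRepresentable_of_AF hg
    (Groth.Agent.Lib.Helper58.WeilAF.AF.of_lqf f)

end Groth.Agent.S7196
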