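import Groth.Statements.S7204
import Mathlib.AlgebraicGeometry.Sites.Fpqc

open CategoryTheory CategoryTheory.Limits AlgebraicGeometry Opposite

namespace Groth.Agent.S7204.Aux

universe w' u'

/-- The representable presheaf of a scheme is a sheaf for any fpqc covering family. -/
theorem isSheafFor_yoneda {X : Scheme.{u'}} (E : PreZeroHypercover.{w'} X)
    (hE : E.presieve₀ ∈ Scheme.fpqcPrecoverage X) (Y : Scheme.{u'}) :
    Presieve.IsSheafFor (yoneda.obj Y) E.presieve₀ := by
  have h1 : Sieve.generate E.presieve₀ ∈ Scheme.fpqcTopology.{u'} X :=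
    Precoverage.generate_mem_toGrothendieck hE
  exact (GrothendieckTopology.Subcanonical.isSheaf_of_isRepresentable
    (J := Scheme.fpqcTopology.{u'}) (yoneda.obj Y)).isSheafFor E.presieve₀ h1

/-- Morphisms of schemes can be compared on an fpqc covering. -/
theorem hom_ext_of_fpqc {X Y : Scheme.{u'}} {ι : Type w'} {U : ι → Scheme.{u'}}
    (p : ∀ i, U i ⟶ X) (hE : Presieve.ofArrows U p ∈ Scheme.fpqcPrecoverage X) (f g : X ⟶ Y)
    (h : ∀ i, p i ≫ f = p i ≫ g) : f = g := by
  have hs := (isSheafFor_yoneda ⟨ι, U, p⟩ hE Y).isSeparatedFor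
  refine hs.ext ?_
  rintro Z q ⟨i⟩
  exact h i

end Groth.Agent.S7204.Aux

set_option autoImplicit false
universe w u
open FlatMor

namespace Groth.Agent.S7204

open AlgebraicGeometry CategoryTheory Limits in
/-- Let (X_i)_{i ∈ I} be a diagram of schemes and (W, X_i → W) a cocone under it. If there is an fpqc
covering {W_a → W} such that each W_a is the colimit (in schemes) of the base-changed diagram (X_i
×_W W_a), and each W_a ×_W W_b is the colimit of (X_i ×_W W_a ×_W W_b), then W is the colimit of
(X_i) in the category of schemes. -/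
theorem result {J : Type u} [SmallCategory J] (D : J ⥤ Scheme.{u}) (c : Cocone D)
    (F : PreZeroHypercover.{w} c.pt) (hF : F.presieve₀ ∈ Scheme.fpqcPrecoverage c.pt)
    (h1 : ∀ a : F.I₀, Nonempty (IsColimit ((Over.forgetCocone (F.X a)).whisker
      (D.toOver c.pt (fun j => c.ι.app j) (fun g => c.w g) ⋙ Over.pullback (F.f a)))))
    (h2 : ∀ a b : F.I₀, Nonempty (IsColimit ((Over.forgetCocone (pullback (F.f a) (F.f b))).whisker
      (D.toOver c.pt (fun j => c.ι.app j) (fun g => c.w g) ⋙ Over.pullback (pullback.fst (F.f a) (F.f b) ≫ F.f a))))) :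
    Nonempty (IsColimit c) := by
  refine ⟨IsColimit.ofExistsUnique fun s => ?_⟩
  -- the local descents
  have hex : ∀ a : F.I₀, ∃ ψ : F.X a ⟶ s.pt, ∀ j : J,
      pullback.snd (c.ι.app j) (F.f a) ≫ ψ = pullback.fst (c.ι.app j) (F.f a) ≫ s.ι.app j := by
    intro a
    let sa : Cocone ((D.toOver c.pt (fun j => c.ι.app j) (fun g => c.w g) ⋙
        Over.pullback (F.f a)) ⋙ Over.forget (F.X a)) :=
      { pt := s.pt
        ι := { app := fun j => pullback.fst (c.ι.app j) (F.f a) ≫ s.ι.app j
               naturality := fun j j' g => by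
                 have := s.w g
                 dsimp
                 simp only [Over.pullback_map_left, Functor.toOver_map_left, Category.comp_id]
                 refine (pullback.lift_fst_assoc _ _ _ _).trans ?_
                 exact congrArg (fun t => pullback.fst (c.ι.app j) (F.f a) ≫ t) this } }
    exact ⟨(h1 a).some.desc sa, fun j => (h1 a).some.fac sa j⟩
  choose ψ hψ using hex
  have huniq : ∀ (a : F.I₀) (m m' : F.X a ⟶ s.pt),
      (∀ j : J, pullback.snd (c.ι.app j) (F.f a) ≫ m =
        pullback.snd (c.ι.app j) (F.f a) ≫ m') → m = m' := by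
    intro a m m' h
    exact (h1 a).some.hom_ext (fun j => h j)
  -- compatibility on overlaps
  have hcomp : ∀ a b : F.I₀, pullback.fst (F.f a) (F.f b) ≫ ψ a =
      pullback.snd (F.f a) (F.f b) ≫ ψ b := by
    intro a b
    refine (h2 a b).some.hom_ext (fun j => ?_)
    change pullback.snd (c.ι.app j) (pullback.fst (F.f a) (F.f b) ≫ F.f a) ≫ _ =
      pullback.snd (c.ι.app j) (pullback.fst (F.f a) (F.f b) ≫ F.f a) ≫ _
    have e1 : pullback.snd (c.ι.app j) (pullback.fst (F.f a) (F.f b) ≫ F.f a) ≫
        pullback.fst (F.f a) (F.f b) =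
        pullback.lift (pullback.fst _ _)
          (pullback.snd (c.ι.app j) (pullback.fst (F.f a) (F.f b) ≫ F.f a) ≫
            pullback.fst (F.f a) (F.f b))
          (by rw [Category.assoc]; exact pullback.condition) ≫
        pullback.snd (c.ι.app j) (F.f a) := (pullback.lift_snd _ _ _).symm
    have e2 : pullback.snd (c.ι.app j) (pullback.fst (F.f a) (F.f b) ≫ F.f a) ≫
        pullback.snd (F.f a) (F.f b) =
        pullback.lift (pullback.fst _ _)
          (pullback.snd (c.ι.app j) (pullback.fst (F.f a) (F.f b) ≫ F.f a) ≫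
            pullback.snd (F.f a) (F.f b))
          (by rw [Category.assoc, ← pullback.condition (f := F.f a) (g := F.f b)]
              exact pullback.condition) ≫
        pullback.snd (c.ι.app j) (F.f b) := (pullback.lift_snd _ _ _).symm
    rw [reassoc_of% e1, reassoc_of% e2, hψ, hψ, pullback.lift_fst_assoc, pullback.lift_fst_assoc]
  -- glue
  have hsh := Groth.Agent.S7204.Aux.isSheafFor_yoneda F hF s.pt
  rw [Presieve.isSheafFor_arrows_iff_pullbacks] at hsh
  obtain ⟨Ψ, hΨ, hΨuniq⟩ := hsh (fun a => ψ a) (fun a b => hcomp a b)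
  have hΨ' : ∀ a, F.f a ≫ Ψ = ψ a := hΨ
  refine ⟨Ψ, fun j => ?_, fun m hm => ?_⟩
  · refine Groth.Agent.S7204.Aux.hom_ext_of_fpqc
      (fun a : F.I₀ => pullback.fst (c.ι.app j) (F.f a)) ?_ _ _ (fun a => ?_)
    · exact Precoverage.mem_coverings_of_isPullback F.f hF (c.ι.app j) _ _
        (fun a => IsPullback.of_hasPullback (c.ι.app j) (F.f a))
    · rw [pullback.condition_assoc, hΨ', hψ]
  · refine hΨuniq m (fun a => ?_)
    change F.f a ≫ m = ψ a
    refine huniq a _ _ (fun j => ?_)
    rw [← pullback.condition_assoc, hm, hψ]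

end Groth.Agent.S7204
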