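import Groth.Statements.S7210
import Groth.Agent.Lib.Helper30.AffinePush.QCohPush
import Groth.Agent.Lib.Helper28.RelPCLocal
import Groth.Agent.Lib.Helper6.PCMap3

set_option autoImplicit false
universe u
open CategoryTheory CategoryTheory.Limits AlgebraicGeometry Opposite TopologicalSpace
attribute [local instance] HasDerivedCategory.standard
open FlatMor

namespace Groth.Agent.S7210

open Groth.Agent.Lib.Helper30.RelPCLoc Groth.Agent.Lib.Helper30.AffinePush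
  Groth.Agent.Lib.Helper28.RelPCRing

section Chart

variable {X Y S : Scheme.{u}} (q : Y ⟶ S) [LocallyOfFiniteType q] (π : X ⟶ Y) [IsFinite π]
  [LocallyOfFiniteType (π ≫ q)] [DCoh.HasRpush π] (m : ℤ) (E : DCoh.D X)

/-- the ring-level comparison on a chart `W ⊆ q⁻¹V`, `U = π⁻¹W` -/
theorem relPC_chart_iff {W : Y.Opens} (hW : IsAffineOpen W) {V : S.Opens} (hV : IsAffineOpen V)
    (hWV : W ≤ q ⁻¹ᵁ V) (h : π ⁻¹ᵁ W ≤ (π ≫ q) ⁻¹ᵁ V)
    (MX : Dual.D Γ(X, π ⁻¹ᵁ W))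
    (eX : chartObj (hW.preimage π) E ≅ (DCoh.tildeD Γ(X, π ⁻¹ᵁ W)).obj MX)
    (MY : Dual.D Γ(Y, W))
    (eY : chartObj hW ((DCoh.Rpush π).obj E) ≅ (DCoh.tildeD Γ(Y, W)).obj MY) :
    @DerCA.IsRelPseudoCoherent Γ(S, V) Γ(X, π ⁻¹ᵁ W) _ _
        ((π ≫ q).appLE V (π ⁻¹ᵁ W) h).hom.toAlgebra m MX ↔
      @DerCA.IsRelPseudoCoherent Γ(S, V) Γ(Y, W) _ _ (q.appLE V W hWV).hom.toAlgebra m MY := by
  let _ : Algebra Γ(S, V) Γ(X, π ⁻¹ᵁ W) := ((π ≫ q).appLE V (π ⁻¹ᵁ W) h).hom.toAlgebra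
  let _ : Algebra Γ(S, V) Γ(Y, W) := (q.appLE V W hWV).hom.toAlgebra
  let _ : Algebra Γ(Y, W) Γ(X, π ⁻¹ᵁ W) := (π.appLE W (π ⁻¹ᵁ W) le_rfl).hom.toAlgebra
  have hcomp : q.appLE V W hWV ≫ π.appLE W (π ⁻¹ᵁ W) le_rfl = (π ≫ q).appLE V (π ⁻¹ᵁ W) h :=
    Scheme.Hom.appLE_comp_appLE π q V W (π ⁻¹ᵁ W) hWV le_rfl
  have : IsScalarTower Γ(S, V) Γ(Y, W) Γ(X, π ⁻¹ᵁ W) :=
    IsScalarTower.of_algebraMap_eq (fun r => by
      show ((π ≫ q).appLE V (π ⁻¹ᵁ W) h).hom r = _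
      rw [← hcomp]
      rfl)
  have : Algebra.FiniteType Γ(S, V) Γ(X, π ⁻¹ᵁ W) :=
    finiteType_appLE (f := π ≫ q) (hW.preimage π) hV h
  have : Algebra.FiniteType Γ(S, V) Γ(Y, W) := finiteType_appLE (f := q) hW hV hWV
  have : Module.Finite Γ(Y, W) Γ(X, π ⁻¹ᵁ W) := by
    have h1 := IsFinite.finite_app π W hW
    rw [Scheme.Hom.app_eq_appLE] at h1
    exact h1
  obtain ⟨e'⟩ := nonempty_chartObj_Rpush_iso_tildeD π hW E MX eX
  have ff := Groth.Agent.S0997.result Γ(Y, W)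
  have := ff.1
  have := ff.2.1
  let ι : MY ≅ (DRing.restrictD (algebraMap Γ(Y, W) Γ(X, π ⁻¹ᵁ W))).obj MX :=
    (DCoh.tildeD Γ(Y, W)).preimageIso (eY.symm ≪≫ e')
  rw [Groth.Agent.Lib.Helper6.RestrPC.relPC_restrict_iff_of_finite (R := Γ(S, V))
    (A := Γ(Y, W)) (B := Γ(X, π ⁻¹ᵁ W)) MX m]
  exact ⟨relPC_of_iso ι.symm, relPC_of_iso ι⟩

end Chart

/-- Let p : X ⟶ S and q : Y ⟶ S be locally of finite type and π : X ⟶ Y a finite morphism over S (π ≫ q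
= p). Let E be an object of D(O_X) all of whose cohomology sheaves are quasi-coherent, and m an
integer. Then, Rπ_* being assumed to exist, relative m-pseudo-coherence of E with respect to p is
equivalent to relative m-pseudo-coherence of Rπ_* E with respect to q (chart form). -/
theorem result {X Y S : Scheme.{u}} (p : X ⟶ S) (q : Y ⟶ S)
    [LocallyOfFiniteType p] [LocallyOfFiniteType q] (π : X ⟶ Y) [IsFinite π] (w : π ≫ q = p)
    [DCoh.HasRpush π] (m : ℤ) (E : DCoh.D X) (hE : DCoh.IsQCohD E) :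
    DerSch.IsPseudoCoherentRel p m E ↔ DerSch.IsPseudoCoherentRel q m ((DCoh.Rpush π).obj E) := by
  subst w
  have hK : DCoh.IsQCohD ((DCoh.Rpush π).obj E) := isQCohD_Rpush_of_isAffineHom π E hE
  -- choices of charts
  have cX : ∀ U : X.affineOpens, ∃ M : Dual.D Γ(X, (U : X.Opens)),
      Nonempty (chartObj U.2 E ≅ (DCoh.tildeD Γ(X, (U : X.Opens))).obj M) :=
    fun U => exists_chart U.2 E hE
  have cY : ∀ W : Y.affineOpens, ∃ M : Dual.D Γ(Y, (W : Y.Opens)),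
      Nonempty (chartObj W.2 ((DCoh.Rpush π).obj E) ≅
        (DCoh.tildeD Γ(Y, (W : Y.Opens))).obj M) :=
    fun W => exists_chart W.2 _ hK
  choose MX eX using cX
  choose MY eY using cY
  have eX' := fun U => (eX U).some
  have eY' := fun W => (eY W).some
  -- affine pairs around points
  have hpair : ∀ y : Y, ∃ (W : Y.affineOpens) (V : S.affineOpens),
      (W : Y.Opens) ≤ q ⁻¹ᵁ (V : S.Opens) ∧ y ∈ (W : Y.Opens) := by
    intro y
    obtain ⟨_, ⟨V, hV, rfl⟩, hyV, -⟩ := S.isBasis_affineOpens.exists_subset_of_mem_open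
      (Set.mem_univ (q y)) isOpen_univ
    obtain ⟨_, ⟨W, hW, rfl⟩, hyW, hWV⟩ := Y.isBasis_affineOpens.exists_subset_of_mem_open
      (show y ∈ ((q ⁻¹ᵁ V : Y.Opens) : Set Y) from hyV) (q ⁻¹ᵁ V).2
    exact ⟨⟨W, hW⟩, ⟨V, hV⟩, hWV, hyW⟩
  constructor
  · intro hrel
    have H := (isPseudoCoherentRel_iff_of_charts (π ≫ q) E hE MX eX' m).1 hrel
    refine isPseudoCoherentRel_of_local hK MY eY' (fun y => ?_)
    obtain ⟨W, V, hWV, hyW⟩ := hpair y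
    refine ⟨W, V, hWV, hyW, ?_⟩
    have h : π ⁻¹ᵁ (W : Y.Opens) ≤ (π ≫ q) ⁻¹ᵁ (V : S.Opens) := π.preimage_mono hWV
    exact (relPC_chart_iff q π m E W.2 V.2 hWV h _ (eX' ⟨_, W.2.preimage π⟩) _ (eY' W)).1
      (H ⟨_, W.2.preimage π⟩ V h)
  · intro hrel
    have H := (isPseudoCoherentRel_iff_of_charts q _ hK MY eY' m).1 hrel
    refine isPseudoCoherentRel_of_local hE MX eX' (fun x => ?_)
    obtain ⟨W, V, hWV, hyW⟩ := hpair (π x)
    have h : π ⁻¹ᵁ (W : Y.Opens) ≤ (π ≫ q) ⁻¹ᵁ (V : S.Opens) := π.preimage_mono hWV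
    refine ⟨⟨_, W.2.preimage π⟩, V, h, hyW, ?_⟩
    exact (relPC_chart_iff q π m E W.2 V.2 hWV h _ (eX' ⟨_, W.2.preimage π⟩) _ (eY' W)).2
      (H W V hWV)

end Groth.Agent.S7210
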