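import Groth.Statements.S7234
import Groth.Agent.Lib.Helper30.RelPC.Local

set_option autoImplicit false
universe u
open CategoryTheory CategoryTheory.Limits AlgebraicGeometry Opposite TopologicalSpace
attribute [local instance] HasDerivedCategory.standard
open FlatMor

namespace Groth.Agent.S7234

open Groth.Agent.Lib.Helper30.RelPCLoc Groth.Agent.Lib.Helper30.AffinePush

/-- (1) ⇔ (3): let f : X ⟶ S be locally of finite type, E an object of D(O_X) all of whose cohomology
sheaves are quasi-coherent, and m an integer. Then E is m-pseudo-coherent relative to f (chart form)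
if and only if for every affine open U of X mapping into an affine open V of S the complex RΓ(U, E),
viewed in D(Γ(X, U)), is m-pseudo-coherent relative to Γ(S, V) in the ring-level sense. Here RΓ(U,
E) is expressed through the equivalence of D(Γ(X, U)) with the quasi-coherent derived category of
the affine scheme U: the condition is asked of every object M of D(Γ(X, U)) whose associated complex
of modules on Spec Γ(X, U) is isomorphic to E|_U carried along U ≅ Spec Γ(X, U) (the functor M ↦ M~
being assumed left exact, which it is). -/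
theorem result {X S : Scheme.{u}} (f : X ⟶ S)
    [LocallyOfFiniteType f] [∀ U : X.affineOpens, PreservesFiniteLimits (tilde.functor (X.presheaf.obj (op (U : X.Opens))))]
    (E : DCoh.D X) (hE : DCoh.IsQCohD E) (m : ℤ) :
    DerSch.IsPseudoCoherentRel f m E ↔
      ∀ (U : X.affineOpens) (V : S.affineOpens) (h : (U : X.Opens) ≤ f ⁻¹ᵁ (V : S.Opens))
        (G : CochainComplex X.Modules ℤ), Nonempty (DCoh.toD X G ≅ E) →
        ∀ M : Dual.D Γ(X, (U : X.Opens)),
          Nonempty ((DCoh.tildeD (X.presheaf.obj (op (U : X.Opens)))).obj M ≅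
            DCoh.toD _ ((DerSch.pushCx U.2.isoSpec.hom).obj ((DCoh.restrictCx (U : X.Opens)).obj G))) →
          letI := (f.appLE (V : S.Opens) (U : X.Opens) h).hom.toAlgebra
          DerCA.IsRelPseudoCoherent Γ(S, (V : S.Opens)) Γ(X, (U : X.Opens)) m M := by
  constructor
  · intro hrel U V h G hG M hM
    obtain ⟨eG⟩ := hG
    obtain ⟨eM⟩ := hM
    have r := relPCOn_of_isPseudoCoherentRel hE hrel U.2 V.2 h
    exact r M ⟨(DCoh.restrictD U.2.isoSpec.inv).mapIso
        ((DCoh.restrictD (U : X.Opens).ι).mapIso eG.symm) ≪≫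
      (chartCxIso U.2 G).symm ≪≫ eM.symm⟩
  · intro H
    refine ⟨inferInstance, Set.univ, ?_, fun V _ =>
      ⟨{U | (U : X.Opens) ≤ f ⁻¹ᵁ (V : S.Opens)}, ?_, fun U _ h => ?_⟩⟩
    · rw [eq_top_iff]
      intro y _
      obtain ⟨_, ⟨W, hW, rfl⟩, hyW, -⟩ := S.isBasis_affineOpens.exists_subset_of_mem_open
        (Set.mem_univ y) isOpen_univ
      exact Opens.mem_iSup.2 ⟨⟨W, hW⟩, Opens.mem_iSup.2 ⟨Set.mem_univ _, hyW⟩⟩
    · apply le_antisymm
      · exact iSup₂_le fun U hU => hU
      · intro x hx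
        obtain ⟨_, ⟨W, hW, rfl⟩, hxW, hWV⟩ := X.isBasis_affineOpens.exists_subset_of_mem_open
          (show x ∈ ((f ⁻¹ᵁ (V : S.Opens) : X.Opens) : Set X) from hx) (f ⁻¹ᵁ (V : S.Opens)).2
        exact Opens.mem_iSup.2 ⟨⟨W, hW⟩, Opens.mem_iSup.2 ⟨hWV, hxW⟩⟩
    · let _ : Algebra Γ(S, (V : S.Opens)) Γ(X, (U : X.Opens)) :=
        (f.appLE (V : S.Opens) (U : X.Opens) h).hom.toAlgebra
      obtain ⟨M₀, ⟨e₀⟩⟩ := exists_chart U.2 E hE
      let G : CochainComplex X.Modules ℤ := DerivedCategory.Q.objPreimage E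
      let eG : DCoh.toD X G ≅ E := DerivedCategory.Q.objObjPreimageIso E
      have hM := H U V h G ⟨eG⟩ M₀ ⟨e₀.symm ≪≫
        (DCoh.restrictD U.2.isoSpec.inv).mapIso
          ((DCoh.restrictD (U : X.Opens).ι).mapIso eG.symm) ≪≫ (chartCxIso U.2 G).symm⟩
      obtain ⟨n, α, hα, hvia⟩ := hM
      refine ⟨n, (α : MvPolynomial (Fin n) Γ(S, (V : S.Opens)) →+* Γ(X, (U : X.Opens))),
        ⟨hα, ?_⟩, ?_⟩
      · ext r
        exact α.commutes r
      · intro G' hG'
        obtain ⟨eG'⟩ := hG'
        exact (isPC_restrictD_of_closedPush (m := m) U.2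
          (CommRingCat.of (MvPolynomial (Fin n) Γ(S, (V : S.Opens))))
          (CommRingCat.ofHom (α : MvPolynomial (Fin n) Γ(S, (V : S.Opens)) →+* Γ(X, (U : X.Opens))))
          hα G' M₀
          ((DCoh.restrictD U.2.isoSpec.inv).mapIso
            ((DCoh.restrictD (U : X.Opens).ι).mapIso eG') ≪≫ e₀)).2 hvia

end Groth.Agent.S7234
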