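import Groth.Statements.S7237
import Mathlib.Algebra.TrivSqZeroExt.Basic

set_option autoImplicit false
universe u
open TensorProduct
open FlatMor

open TensorProduct

namespace Groth.Agent.S7237

variable (A : Type u) [CommRing A] (M : Type u) [AddCommGroup M] [Module A M]

abbrev Cs := SymmetricAlgebra A M
abbrev Ns := Cs A M ⊗[A] M
abbrev Ts := TrivSqZeroExt (Cs A M) (Ns A M)

/-- `m ↦ (ι m, 1 ⊗ m)`. -/
noncomputable def ψlin : M →ₗ[A] Ts A M :=
  (TrivSqZeroExt.inlAlgHom A (Cs A M) (Ns A M)).toLinearMap ∘ₗ SymmetricAlgebra.ι A M +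
    ((TrivSqZeroExt.inrHom (Cs A M) (Ns A M)).restrictScalars A) ∘ₗ
      (TensorProduct.mk A (Cs A M) M 1)

noncomputable def ψ : Cs A M →ₐ[A] Ts A M := SymmetricAlgebra.lift (ψlin A M)

theorem ψ_ι (m : M) : ψ A M (SymmetricAlgebra.ι A M m) =
    TrivSqZeroExt.inl (SymmetricAlgebra.ι A M m) + TrivSqZeroExt.inr ((1 : Cs A M) ⊗ₜ[A] m) := by
  rw [ψ, SymmetricAlgebra.lift_ι_apply]
  rfl

theorem fst_ψ (x : Cs A M) : (ψ A M x).fst = x := by
  have : (TrivSqZeroExt.fstHom A (Cs A M) (Ns A M)).comp (ψ A M) = AlgHom.id A (Cs A M) := by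
    apply SymmetricAlgebra.algHom_ext
    ext m
    simp [ψ_ι]
  exact AlgHom.congr_fun this x

/-- The derivation `Sym M → Sym M ⊗ M`. -/
noncomputable def D' : Derivation A (Cs A M) (Ns A M) where
  toLinearMap := ((TrivSqZeroExt.sndHom (Cs A M) (Ns A M)).restrictScalars A) ∘ₗ (ψ A M).toLinearMap
  map_one_eq_zero' := by
    simp
  leibniz' a b := by
    simp only [LinearMap.coe_comp, LinearMap.coe_restrictScalars, Function.comp_apply,
      AlgHom.toLinearMap_apply, TrivSqZeroExt.sndHom_apply, map_mul, TrivSqZeroExt.snd_mul,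
      fst_ψ]
    congr 1
    exact op_smul_eq_smul _ _

theorem D'_apply (x : Cs A M) : D' A M x = (ψ A M x).snd := rfl

theorem D'_ι (m : M) : D' A M (SymmetricAlgebra.ι A M m) = (1 : Cs A M) ⊗ₜ[A] m := by
  rw [D'_apply, ψ_ι]
  simp

/-- the map of the statement -/
noncomputable abbrev Φ : Ns A M →ₗ[Cs A M] Ω[Cs A M⁄A] :=
  LinearMap.liftBaseChange (SymmetricAlgebra A M)
      ((KaehlerDifferential.D A (SymmetricAlgebra A M)).toLinearMap.restrictScalars A ∘ₗ
        SymmetricAlgebra.ι A M)

theorem Φ_tmul (c : Cs A M) (m : M) :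
    Φ A M (c ⊗ₜ[A] m) = c • KaehlerDifferential.D A (Cs A M) (SymmetricAlgebra.ι A M m) := by
  simp [Φ]

noncomputable abbrev L : Ω[Cs A M⁄A] →ₗ[Cs A M] Ns A M := (D' A M).liftKaehlerDifferential

theorem L_comp_Φ : (L A M) ∘ₗ (Φ A M) = LinearMap.id := by
  apply TensorProduct.AlgebraTensorModule.ext
  intro c m
  rw [LinearMap.comp_apply, Φ_tmul, map_smul, Derivation.liftKaehlerDifferential_comp_D, D'_ι,
    LinearMap.id_apply, TensorProduct.smul_tmul', smul_eq_mul, mul_one]

theorem Φ_D' (x : Cs A M) : Φ A M (D' A M x) = KaehlerDifferential.D A (Cs A M) x := by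
  induction x using SymmetricAlgebra.induction with
  | algebraMap r => simp
  | ι m => rw [D'_ι, Φ_tmul, one_smul]
  | mul a b ha hb => rw [Derivation.leibniz, Derivation.leibniz, map_add, map_smul, map_smul, ha, hb]
  | add a b ha hb => rw [map_add, map_add, map_add, ha, hb]

theorem Φ_comp_L : (Φ A M) ∘ₗ (L A M) = LinearMap.id := by
  apply Derivation.liftKaehlerDifferential_unique
  ext x
  change Φ A M (L A M (KaehlerDifferential.D A (Cs A M) x)) = KaehlerDifferential.D A (Cs A M) x
  rw [Derivation.liftKaehlerDifferential_comp_D]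
  exact Φ_D' A M x

theorem bij : Function.Bijective (Φ A M) := by
  refine ⟨?_, ?_⟩
  · exact Function.LeftInverse.injective (g := L A M) (fun x => LinearMap.congr_fun (L_comp_Φ A M) x)
  · exact Function.RightInverse.surjective (g := L A M)
      (fun x => LinearMap.congr_fun (Φ_comp_L A M) x)

end Groth.Agent.S7237


namespace Groth.Agent.S7237

/-- Let A be a ring and M a finitely generated A-module, and let C = Sym_A(M) be the symmetric algebra
of M with its canonical A-linear map ι : M → C. Then Ω_{C/A} = M ⊗_A C: the C-linear map C ⊗_A M →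
Ω_{C/A} obtained by extending scalars in the A-linear map m ↦ d(ι m), d being the universal
A-derivation of C, is bijective. (The published lemma also computes the whole naive cotangent
complex of the presentation of C attached to a surjection A^m → M with kernel K, namely as K ⊗_A C →
⊕_j C dy_j; only its consequence for Ω is asserted here.) -/
theorem result (A : Type u) [CommRing A] (M : Type u)
    [AddCommGroup M] [Module A M] [Module.Finite A M] :
    Function.Bijective (LinearMap.liftBaseChange (SymmetricAlgebra A M)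
      ((KaehlerDifferential.D A (SymmetricAlgebra A M)).toLinearMap.restrictScalars A ∘ₗ SymmetricAlgebra.ι A M)) := by
  exact bij A M

end Groth.Agent.S7237
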