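import Groth.Statements.S7240
import Mathlib
import Groth.Agent.Lib.Helper30.PerfRestrict
import Groth.Agent.Lib.Helper49.FreeNear
import Groth.Agent.Lib.Helper49.FinLocFree

set_option autoImplicit false
universe u
open CategoryTheory CategoryTheory.Limits AlgebraicGeometry
attribute [local instance] HasDerivedCategory.standard
open Perf

namespace Groth.Agent.S7240


open Groth.Agent.Lib.Helper30.PerfRestrict Groth.Agent.Lib.Helper49 Groth.Agent.Lib.Helper6 in
/-- the cohomology sheaves of a complex of quasi-coherent modules are quasi-coherent -/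
theorem isQCoh_homology {X : Scheme.{u}} (P : CochainComplex X.Modules ℤ)
    (hP : ∀ i : ℤ, (P.X i).IsQuasicoherent) (i : ℤ) : (P.homology i).IsQuasicoherent := by
  let S := P.sc' (i - 1) i (i + 1)
  have e : P.homology i ≅ cokernel (kernel.lift S.g S.f S.zero) :=
    P.homologyIsoSc' (i - 1) i (i + 1) (by simp) (by simp) ≪≫ S.homologyIsoCokernelLift
  have h1 : (kernel S.g).IsQuasicoherent := isQuasicoherent_kernel S.g (hP i) (hP (i + 1))
  have h2 : (cokernel (kernel.lift S.g S.f S.zero)).IsQuasicoherent :=
    isQuasicoherent_cokernel _ (hP (i - 1)) h1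
  exact (SheafOfModules.isQuasicoherent X.ringCatSheaf).prop_of_iso e.symm h2

/-- Let X be a scheme, m an integer and E an m-pseudo-coherent object of D(O_X). Then the cohomology
sheaf Hⁱ(E) is quasi-coherent for every i > m, and Hᵐ(E) is, locally on X, a quotient of a
quasi-coherent module: every point of X has an open neighbourhood V and a quasi-coherent O_V-module
mapping onto Hᵐ(E)|_V. (The published statement says that Hᵐ(E) is a quotient of a quasi-coherent
O_X-module; its proof gives this only locally on X, which is what this row states, and the global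
form fails: on the affine plane over ℚ, the direct image of an invertible module over the inverse
image of O_X on a triangle of three lines, twisted by the constant 2 around the cycle, is an
O_X-module of finite type with no nonzero global section, so it is not a quotient of any
quasi-coherent module.) -/
theorem result {X : Scheme.{u}} (m : ℤ) (E : DCoh.D X)
    (hE : DCoh.IsPseudoCoherentD m E) :
    (∀ i : ℤ, m < i → Coh.IsQCoh (DCoh.HD E i)) ∧
      ∀ x : X, ∃ (V : X.Opens) (Q : (V : Scheme.{u}).Modules)
        (π : Q ⟶ (Scheme.Modules.restrictFunctor V.ι).obj (DCoh.HD E m)), x ∈ V ∧ Coh.IsQCoh Q ∧ Epi π := by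
  rw [Groth.Agent.Lib.Helper30.PerfRestrict.isPseudoCoherentD_iff] at hE
  have key : ∀ x : X, ∃ (V : X.Opens) (P : CochainComplex (V : Scheme.{u}).Modules ℤ), x ∈ V ∧
      (∀ i, (P.homology i).IsQuasicoherent) ∧
      (∀ i : ℤ, m < i → Nonempty (P.homology i ≅
        (Scheme.Modules.restrictFunctor V.ι).obj (DCoh.HD E i))) ∧
      ∃ π : P.homology m ⟶ (Scheme.Modules.restrictFunctor V.ι).obj (DCoh.HD E m), Epi π := by
    intro x
    obtain ⟨V, hxV, P, α, ⟨-, hfl⟩, h1, h2⟩ := hE x
    have hq : ∀ i, (P.homology i).IsQuasicoherent := fun i =>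
      isQCoh_homology P (fun j => Groth.Agent.Lib.Helper49.isQuasicoherent_of_isFinitePresentation _
        (Groth.Agent.Lib.Helper49.isFinitePresentation_of_isFinLocFree _ (hfl j))) i
    refine ⟨V, P, hxV, hq, fun i hi => ?_, ?_⟩
    · have := h1 i hi
      exact ⟨((DerivedCategory.homologyFunctorFactors _ i).app P).symm ≪≫
        asIso ((DerivedCategory.homologyFunctor _ i).map α) ≪≫
        (Groth.Agent.Lib.Helper6.ExactDC.homologyIso (Scheme.Modules.restrictFunctor V.ι) i).app E⟩
    · refine ⟨((DerivedCategory.homologyFunctorFactors _ m).app P).inv ≫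
        (DerivedCategory.homologyFunctor _ m).map α ≫
        ((Groth.Agent.Lib.Helper6.ExactDC.homologyIso (Scheme.Modules.restrictFunctor V.ι) m).app E).hom, ?_⟩
      have h3 : Epi ((DerivedCategory.homologyFunctor _ m).map α ≫
        ((Groth.Agent.Lib.Helper6.ExactDC.homologyIso (Scheme.Modules.restrictFunctor V.ι) m).app E).hom) :=
        epi_comp _ _
      exact epi_comp _ _
  constructor
  · intro i hi
    choose V P hxV hq hiso hπ using key
    refine Groth.Agent.Lib.Helper49.isQuasicoherent_of_forall_restrict (DCoh.HD E i)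
      (fun x : X => (V x : Scheme.{u})) (fun x => (V x).ι)
      (fun x => ⟨x, ⟨⟨x, hxV x⟩, rfl⟩⟩) (fun x => ?_)
    obtain ⟨e⟩ := hiso x i hi
    exact (SheafOfModules.isQuasicoherent (V x : Scheme.{u}).ringCatSheaf).prop_of_iso e (hq x i)
  · intro x
    obtain ⟨V, P, hxV, hq, -, π, hπ⟩ := key x
    exact ⟨V, P.homology m, π, hxV, hq m, hπ⟩

end Groth.Agent.S7240
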