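import Groth.Statements.S7248
import Mathlib
import Groth.Agent.Lib.Helper30.PerfRestrict
import Groth.Agent.Lib.Helper49.FinLocFree

set_option autoImplicit false
universe u
open CategoryTheory CategoryTheory.Limits AlgebraicGeometry
attribute [local instance] HasDerivedCategory.standard
open Perf

namespace Groth.Agent.S7248

/-- a flat module on the source of a flat morphism is flat over the target -/
theorem isFlatOver_of_isFlat {X S : Scheme.{u}} (g : X ⟶ S) [Flat g] (M : X.Modules)
    (hM : FlatMod.IsFlat M) : FlatMod.IsFlatOver g M := by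
  intro x
  unfold FlatMod.IsFlatOverAt
  let alg : Algebra (S.presheaf.stalk (g.base x)) (X.presheaf.stalk x) :=
    (g.stalkMap x).hom.toAlgebra
  let modS : Module (S.presheaf.stalk (g.base x)) (M.presheaf.stalk x) :=
    FlatMod.moduleStalkOver g M x
  have : IsScalarTower (S.presheaf.stalk (g.base x)) (X.presheaf.stalk x) (M.presheaf.stalk x) :=
    IsScalarTower.of_compHom _ _ _
  have : Module.Flat (S.presheaf.stalk (g.base x)) (X.presheaf.stalk x) := Flat.stalkMap g x
  have : Module.Flat (X.presheaf.stalk x) (M.presheaf.stalk x) := hM x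
  exact Module.Flat.trans (S.presheaf.stalk (g.base x)) (X.presheaf.stalk x) (M.presheaf.stalk x)


/-- Let f : X ⟶ S be flat and locally of finite presentation. Then a perfect object E of D(O_X) is
S-perfect, that is, E is pseudo-coherent (m-pseudo-coherent for every m) and, locally on X, the tor
dimension of E over the sheaf of rings f⁻¹O_S is finite (locally represented by a bounded complex of
O_X-modules flat over S). -/
theorem result {X S : Scheme.{u}} (f : X ⟶ S) [Flat f] [LocallyOfFinitePresentation f]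
    (E : DCoh.D X) (hE : DCoh.IsPerfect E) :
    (∀ m : ℤ, DCoh.IsPseudoCoherentD m E) ∧ DCoh.LocHasFiniteRelTorDim f E := by
  rw [Groth.Agent.Lib.Helper30.PerfRestrict.isPerfect_iff] at hE
  refine ⟨fun m => ?_, fun x => ?_⟩
  · rw [Groth.Agent.Lib.Helper30.PerfRestrict.isPseudoCoherentD_iff]
    intro x
    obtain ⟨V, hxV, hV⟩ := hE x
    exact ⟨V, hxV, Groth.Agent.Lib.Helper30.PerfRestrict.PerfObj.pcObj hV m⟩
  · obtain ⟨V, hxV, P, ⟨⟨a, b, hab⟩, hfl⟩, ⟨e⟩⟩ := hE x
    refine ⟨V, a, b, hxV, fun F' ⟨e'⟩ => ⟨P, hab, fun i => ?_, ⟨?_⟩⟩⟩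
    · exact isFlatOver_of_isFlat (V.ι ≫ f) (P.X i)
        (Groth.Agent.Lib.Helper49.isFlat_of_isFinLocFree _ (hfl i))
    · exact e.symm ≪≫ (Groth.Agent.Lib.Helper30.PerfRestrict.rD V.ι).mapIso e'.symm ≪≫
        (Groth.Agent.Lib.Helper30.PerfRestrict.rDQ V.ι).app F'

end Groth.Agent.S7248
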