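import Groth.Statements.S7278
import Mathlib
import Groth.Agent.Lib.Helper30.RelTorRestrict
import Groth.Agent.S0997
import Groth.Agent.S7264
import Groth.Agent.S0914

set_option autoImplicit false
universe u
open CategoryTheory CategoryTheory.Limits AlgebraicGeometry Opposite
attribute [local instance] HasDerivedCategory.standard
open Perf

namespace Groth.Agent.S7278

open Groth.Agent.Lib.Helper30.PerfRestrict Groth.Agent.Lib.Helper30.RelTorRestrict

section Chart

variable {X S : Scheme.{u}} (f : X ⟶ S)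
  {U : X.Opens} (hU : IsAffineOpen U) {V : S.Opens} (hV : IsAffineOpen V) (hUV : U ≤ f ⁻¹ᵁ V)

/-- the object of `D(O_{Spec Γ(U)})` attached to `E` and the affine open `U` -/
noncomputable abbrev chartObj (E : DCoh.D X) : DCoh.D (Spec Γ(X, U)) :=
  (DCoh.restrictD hU.isoSpec.inv).obj ((DCoh.restrictD U.ι).obj E)

/-- it is the restriction of `E` along `Spec Γ(U) ⟶ X` -/
noncomputable def chartIso (E : DCoh.D X) :
    chartObj hU E ≅ (rD (hU.isoSpec.inv ≫ U.ι)).obj E :=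
  ((rDComp hU.isoSpec.inv U.ι).app E).symm

include hV in
lemma fac : (hU.isoSpec.inv ≫ U.ι) ≫ f = Spec.map (f.appLE V U hUV) ≫ hV.fromSpec :=
  (hV.SpecMap_appLE_fromSpec f hU hUV).symm

include hV in
theorem chart_of_global (E : DCoh.D X) (hpc : ∀ m : ℤ, DCoh.IsPseudoCoherentD m E)
    (htor : DCoh.LocHasFiniteRelTorDim f E) :
    (∀ m : ℤ, DCoh.IsPseudoCoherentD m (chartObj hU E)) ∧
      DCoh.LocHasFiniteRelTorDim (Spec.map (f.appLE V U hUV)) (chartObj hU E) := by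
  refine ⟨fun m => ?_, ?_⟩
  · exact Groth.Agent.S0914.isPseudoCoherentD_restrict hU.isoSpec.inv m _
      (Groth.Agent.S0914.isPseudoCoherentD_restrict U.ι m E (hpc m))
  · have h1 := locHasFiniteRelTorDim_restrict (hU.isoSpec.inv ≫ U.ι) f E htor
    have h2 := locHasFiniteRelTorDim_congr (fac f hU hV hUV) h1
    have h3 := (locHasFiniteRelTorDim_base_iff (Spec.map (f.appLE V U hUV)) hV.fromSpec _).mp h2
    exact locHasFiniteRelTorDim_of_iso _ (chartIso hU E).symm h3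

include hV in
theorem global_of_chart_aux (E : DCoh.D X)
    (htor : DCoh.LocHasFiniteRelTorDim (Spec.map (f.appLE V U hUV)) (chartObj hU E)) :
    DCoh.LocHasFiniteRelTorDim ((hU.isoSpec.inv ≫ U.ι) ≫ f) ((rD (hU.isoSpec.inv ≫ U.ι)).obj E) := by
  have h1 := locHasFiniteRelTorDim_of_iso _ (chartIso hU E) htor
  have h2 := (locHasFiniteRelTorDim_base_iff (Spec.map (f.appLE V U hUV)) hV.fromSpec _).mpr h1
  exact locHasFiniteRelTorDim_congr (fac f hU hV hUV).symm h2

theorem global_of_charts (E : DCoh.D X)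
    (h : ∀ x : X, ∃ (U : X.Opens) (hU : IsAffineOpen U) (V : S.Opens) (_ : IsAffineOpen V)
      (hUV : U ≤ f ⁻¹ᵁ V), x ∈ U ∧ (∀ m : ℤ, DCoh.IsPseudoCoherentD m (chartObj hU E)) ∧
        DCoh.LocHasFiniteRelTorDim (Spec.map (f.appLE V U hUV)) (chartObj hU E)) :
    (∀ m : ℤ, DCoh.IsPseudoCoherentD m E) ∧ DCoh.LocHasFiniteRelTorDim f E := by
  have hr : ∀ (U : X.Opens) (hU : IsAffineOpen U) (x : X), x ∈ U →
      x ∈ Set.range (hU.isoSpec.inv ≫ U.ι) := by
    intro U hU x hx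
    have : Set.range (hU.isoSpec.inv ≫ U.ι) = U := hU.range_fromSpec
    rw [this]
    exact hx
  refine ⟨fun m => ?_, ?_⟩
  · apply isPseudoCoherentD_of_cover
    intro x
    obtain ⟨U, hU, V, hV, hUV, hxU, hpc, -⟩ := h x
    exact ⟨_, hU.isoSpec.inv ≫ U.ι, inferInstance, hr U hU x hxU,
      isPseudoCoherentD_of_iso m (chartIso hU E) (hpc m)⟩
  · apply locHasFiniteRelTorDim_of_cover
    intro x
    obtain ⟨U, hU, V, hV, hUV, hxU, -, htor⟩ := h x
    exact ⟨_, hU.isoSpec.inv ≫ U.ι, inferInstance, hr U hU x hxU,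
      global_of_chart_aux f hU hV hUV E htor⟩

variable [Flat f] [LocallyOfFinitePresentation f]
  [∀ R : CommRingCat.{u}, PreservesFiniteLimits (tilde.functor R)]

include hV in
theorem chart_iff (E : DCoh.D X) (M : DerivedCategory (ModuleCat.{u} Γ(X, U)))
    (e : chartObj hU E ≅ (DCoh.tildeD Γ(X, U)).obj M) :
    ((∀ m : ℤ, DCoh.IsPseudoCoherentD m (chartObj hU E)) ∧
      DCoh.LocHasFiniteRelTorDim (Spec.map (f.appLE V U hUV)) (chartObj hU E)) ↔
    @Dual2.IsRelPerfect Γ(S, V) Γ(X, U) _ _ (f.appLE V U hUV).hom.toAlgebra M := by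
  let _ : Algebra Γ(S, V) Γ(X, U) := (f.appLE V U hUV).hom.toAlgebra
  have hflat : Module.Flat Γ(S, V) Γ(X, U) :=
    HasRingHomProperty.appLE @Flat f inferInstance ⟨V, hV⟩ ⟨U, hU⟩ hUV
  have hfp : Algebra.FinitePresentation Γ(S, V) Γ(X, U) :=
    HasRingHomProperty.appLE @LocallyOfFinitePresentation f inferInstance ⟨V, hV⟩ ⟨U, hU⟩ hUV
  have key := Groth.Agent.S7264.result Γ(S, V) Γ(X, U) M
  rw [← key]
  constructor
  · rintro ⟨h1, h2⟩
    exact ⟨fun m => isPseudoCoherentD_of_iso m e (h1 m), locHasFiniteRelTorDim_of_iso _ e h2⟩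
  · rintro ⟨h1, h2⟩
    exact ⟨fun m => isPseudoCoherentD_of_iso m e.symm (h1 m),
      locHasFiniteRelTorDim_of_iso _ e.symm h2⟩

end Chart

/-- Let f : X ⟶ S be flat and locally of finite presentation and E an object of D(O_X) with
quasi-coherent cohomology sheaves (tilde recorded as exact). For affine opens U ⊆ X and V ⊆ S with
f(U) ⊆ V, say that E is algebraically perfect on U over V when every M ∈ D(Γ(U, O_X)) whose
associated object M~ on Spec Γ(U, O_X) is isomorphic to the restriction E|_U (transported along U ≅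
Spec Γ(U, O_X)) is Γ(V, O_S)-perfect: pseudo-coherent as a complex of Γ(U, O_X)-modules and of
finite tor dimension over Γ(V, O_S) through f^♯ (such M exist and are unique up to isomorphism,
namely RΓ(U, E)). Then: E is S-perfect (pseudo-coherent, and locally on X represented by a bounded
complex of O_X-modules flat over S) if and only if E is algebraically perfect on every affine open U
over every affine open V with U ⊆ f⁻¹V; and E is S-perfect as soon as this holds for the members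
U_ij of affine open coverings f⁻¹V_i = ⋃ U_ij attached to an affine open covering S = ⋃ V_i. -/
theorem result {X S : Scheme.{u}} (f : X ⟶ S) [Flat f] [LocallyOfFinitePresentation f]
    [∀ R : CommRingCat.{u}, PreservesFiniteLimits (tilde.functor R)]
    (E : DCoh.D X) (hE : DCoh.IsQCohD E) :
    (((∀ m : ℤ, DCoh.IsPseudoCoherentD m E) ∧ DCoh.LocHasFiniteRelTorDim f E) ↔
      ∀ (U : X.Opens) (hU : IsAffineOpen U) (V : S.Opens) (hV : IsAffineOpen V) (hUV : U ≤ f ⁻¹ᵁ V)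
        (M : DerivedCategory (ModuleCat.{u} Γ(X, U))),
        Nonempty ((DCoh.restrictD hU.isoSpec.inv).obj ((DCoh.restrictD U.ι).obj E) ≅ (DCoh.tildeD Γ(X, U)).obj M) →
          @Dual2.IsRelPerfect Γ(S, V) Γ(X, U) _ _ (f.appLE V U hUV).hom.toAlgebra M) ∧
    (∀ (ι : Type u) (V : ι → S.Opens) (hV : ∀ i, IsAffineOpen (V i)) (hVcov : ⨆ i, V i = ⊤)
        (κ : ι → Type u) (U : ∀ i, κ i → X.Opens) (hU : ∀ i j, IsAffineOpen (U i j))
        (hUV : ∀ i j, U i j ≤ f ⁻¹ᵁ V i) (hUcov : ∀ i, ⨆ j, U i j = f ⁻¹ᵁ V i),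
        (∀ (i : ι) (j : κ i) (M : DerivedCategory (ModuleCat.{u} Γ(X, U i j))),
          Nonempty ((DCoh.restrictD (hU i j).isoSpec.inv).obj ((DCoh.restrictD (U i j).ι).obj E) ≅
              (DCoh.tildeD Γ(X, U i j)).obj M) →
            @Dual2.IsRelPerfect Γ(S, V i) Γ(X, U i j) _ _ (f.appLE (V i) (U i j) (hUV i j)).hom.toAlgebra M) →
        (∀ m : ℤ, DCoh.IsPseudoCoherentD m E) ∧ DCoh.LocHasFiniteRelTorDim f E) := by
  have hchart : ∀ (U : X.Opens) (hU : IsAffineOpen U), DCoh.IsQCohD (chartObj hU E) := fun U hU =>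
    isQCohD_restrict _ _ (isQCohD_restrict _ _ hE)
  have core : (∀ x : X, ∃ (U : X.Opens) (hU : IsAffineOpen U) (V : S.Opens) (hV : IsAffineOpen V)
      (hUV : U ≤ f ⁻¹ᵁ V), x ∈ U ∧ ∀ (M : DerivedCategory (ModuleCat.{u} Γ(X, U))),
        Nonempty (chartObj hU E ≅ (DCoh.tildeD Γ(X, U)).obj M) →
          @Dual2.IsRelPerfect Γ(S, V) Γ(X, U) _ _ (f.appLE V U hUV).hom.toAlgebra M) →
      (∀ m : ℤ, DCoh.IsPseudoCoherentD m E) ∧ DCoh.LocHasFiniteRelTorDim f E := by
    intro h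
    apply global_of_charts f E
    intro x
    obtain ⟨U, hU, V, hV, hUV, hxU, hM⟩ := h x
    refine ⟨U, hU, V, hV, hUV, hxU, ?_⟩
    obtain ⟨M, ⟨e⟩⟩ := ((Groth.Agent.S0997.result Γ(X, U)).2.2 (chartObj hU E)).mp (hchart U hU)
    exact (chart_iff f hU hV hUV E M e.symm).mpr (hM M ⟨e.symm⟩)
  refine ⟨⟨?_, ?_⟩, ?_⟩
  · rintro ⟨hpc, htor⟩ U hU V hV hUV M ⟨e⟩
    exact (chart_iff f hU hV hUV E M e).mp (chart_of_global f hU hV hUV E hpc htor)
  · intro h
    apply core
    intro x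
    obtain ⟨V, hV, hfxV⟩ : ∃ V : S.Opens, IsAffineOpen V ∧ f x ∈ V := by
      obtain ⟨_, ⟨V, hV, rfl⟩, hxV, -⟩ := S.isBasis_affineOpens.exists_subset_of_mem_open
        (Set.mem_univ (f x)) isOpen_univ
      exact ⟨V, hV, hxV⟩
    obtain ⟨U, hU, hxU, hUV⟩ : ∃ U : X.Opens, IsAffineOpen U ∧ x ∈ U ∧ U ≤ f ⁻¹ᵁ V := by
      obtain ⟨_, ⟨U, hU, rfl⟩, hxU, hUV⟩ := X.isBasis_affineOpens.exists_subset_of_mem_open
        (show x ∈ ((f ⁻¹ᵁ V : X.Opens) : Set X) from hfxV) (f ⁻¹ᵁ V).2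
      exact ⟨U, hU, hxU, hUV⟩
    exact ⟨U, hU, V, hV, hUV, hxU, fun M hM => h U hU V hV hUV M hM⟩
  · intro ι V hV hVcov κ U hU hUV hUcov h
    apply core
    intro x
    have h1 : f x ∈ (⨆ i, V i : S.Opens) := by rw [hVcov]; trivial
    obtain ⟨i, hi⟩ := TopologicalSpace.Opens.mem_iSup.mp h1
    have h2 : x ∈ (⨆ j, U i j : X.Opens) := by rw [hUcov i]; exact hi
    obtain ⟨j, hj⟩ := TopologicalSpace.Opens.mem_iSup.mp h2
    exact ⟨U i j, hU i j, V i, hV i, hUV i j, hj, fun M hM => h i j M hM⟩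

end Groth.Agent.S7278
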