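import Groth.Statements.S7250
import Mathlib
import Groth.Agent.S7278
import Groth.Agent.S0997
import Groth.Agent.Lib.Helper35.RelPerfTri
import Groth.Agent.Lib.Helper30.PCTriangle
import Groth.Agent.Lib.Helper30.PCQCoh
import Groth.Agent.Lib.Helper30.RelTorRestrict
import Groth.Agent.Lib.Helper49.FinLocFreeRetract
import Groth.Agent.Lib.Helper49.TildeExact
import Groth.Agent.Lib.Helper1.PushSupport

set_option autoImplicit false
universe u
open CategoryTheory CategoryTheory.Limits AlgebraicGeometry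
attribute [local instance] HasDerivedCategory.standard
open Perf

namespace Groth.Agent.S7250

open Groth.Agent.Lib.Helper30.PerfRestrict Groth.Agent.Lib.Helper30.PCTriangle
  Groth.Agent.Lib.Helper30.PCQCoh Groth.Agent.Lib.Helper30.RelTorRestrict
  Groth.Agent.Lib.Helper35.TA Pretriangulated ZeroObject

section Generic

variable {C D : Type*} [Category C] [Category D] [Preadditive C] [Preadditive D]
  [HasZeroObject C] [HasZeroObject D] [HasShift C ℤ] [HasShift D ℤ]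
  [∀ n : ℤ, (shiftFunctor C n).Additive] [∀ n : ℤ, (shiftFunctor D n).Additive]
  [Pretriangulated C] [Pretriangulated D]
  (F : C ⥤ D) [F.CommShift ℤ] [F.IsTriangulated]

/-- a distinguished triangle whose first two vertices are in the image of a full triangulated
functor comes, up to the third vertex, from a distinguished triangle upstairs -/
lemma exists_triangle_of_full [F.Full] (T : Triangle D) (hT : T ∈ distTriang D) {M₁ M₂ : C}
    (e₁ : T.obj₁ ≅ F.obj M₁) (e₂ : T.obj₂ ≅ F.obj M₂) :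
    ∃ (C₃ : C) (u : M₁ ⟶ M₂) (v : M₂ ⟶ C₃) (w : C₃ ⟶ M₁⟦(1 : ℤ)⟧),
      Triangle.mk u v w ∈ distTriang C ∧ Nonempty (T.obj₃ ≅ F.obj C₃) := by
  obtain ⟨u, hu⟩ := F.map_surjective (e₁.inv ≫ T.mor₁ ≫ e₂.hom)
  obtain ⟨C₃, v, w, h⟩ := distinguished_cocone_triangle u
  refine ⟨C₃, u, v, w, h, ⟨?_⟩⟩
  have h2 := F.map_distinguished _ h
  have iso := isoTriangleOfIso₁₂ T _ hT h2 e₁ e₂ (by
    change T.mor₁ ≫ e₂.hom = e₁.hom ≫ F.map u
    rw [hu, Iso.hom_inv_id_assoc])
  exact Triangle.π₃.mapIso iso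

omit [HasZeroObject C] [HasZeroObject D] [HasShift C ℤ] [HasShift D ℤ]
  [∀ n : ℤ, (shiftFunctor C n).Additive] [∀ n : ℤ, (shiftFunctor D n).Additive]
  [Pretriangulated C] [Pretriangulated D] [F.CommShift ℤ] [F.IsTriangulated] in
lemma isZero_of_isZero_obj [F.PreservesZeroMorphisms] [F.Faithful] {M : C} (h : IsZero (F.obj M)) :
    IsZero M := by
  rw [IsZero.iff_id_eq_zero]
  apply F.map_injective
  rw [F.map_id, F.map_zero]
  exact h.eq_of_src _ _

omit [HasZeroObject D] [HasShift D ℤ] [∀ n : ℤ, (shiftFunctor D n).Additive]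
  [Pretriangulated D] [Preadditive D] in
/-- a retract in a pretriangulated category is a direct summand -/
lemma exists_iso_biprod_of_retract {M' M : C} (i : M' ⟶ M) (r : M ⟶ M') (h : i ≫ r = 𝟙 M') :
    ∃ (N : C), Nonempty (M ≅ M' ⊞ N) := by
  obtain ⟨N, v, w, hT⟩ := distinguished_cocone_triangle i
  have hm : Mono i := (SplitMono.mk r h).mono
  have hz : (Triangle.mk i v w).mor₃ = 0 := (Triangle.mk i v w).mor₃_eq_zero_of_mono₁ hT hm
  obtain ⟨e, -, -⟩ := exists_iso_binaryBiproduct_of_distTriang _ hT hz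
  exact ⟨N, ⟨e⟩⟩

end Generic

section Chart

variable {X S : Scheme.{u}} (f : X ⟶ S) [Flat f] [LocallyOfFinitePresentation f]

/-- the property of being `S`-perfect -/
abbrev RP : ObjectProperty (DCoh.D X) := fun E =>
  (∀ m : ℤ, DCoh.IsPseudoCoherentD m E) ∧ DCoh.LocHasFiniteRelTorDim f E

/-- the chart functor `D(O_X) ⥤ D(O_{Spec Γ(U)})` -/
noncomputable abbrev Φ {U : X.Opens} (hU : IsAffineOpen U) : DCoh.D X ⥤ DCoh.D (Spec Γ(X, U)) :=
  DCoh.restrictD U.ι ⋙ DCoh.restrictD hU.isoSpec.inv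

instance tildeExact (R : CommRingCat.{u}) : PreservesFiniteLimits (tilde.functor R) :=
  Groth.Agent.Lib.Helper49.preservesFiniteLimits_tilde R

lemma tilde_full (R : CommRingCat.{u}) : (DCoh.tildeD R).Full := (Groth.Agent.S0997.result R).1
lemma tilde_faithful (R : CommRingCat.{u}) : (DCoh.tildeD R).Faithful :=
  (Groth.Agent.S0997.result R).2.1

lemma exists_chart {U : X.Opens} (hU : IsAffineOpen U) (E : DCoh.D X) (hE : DCoh.IsQCohD E) :
    ∃ M : DerivedCategory (ModuleCat.{u} Γ(X, U)),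
      Nonempty ((Φ hU).obj E ≅ (DCoh.tildeD Γ(X, U)).obj M) := by
  have h : DCoh.IsQCohD ((Φ hU).obj E) := isQCohD_restrict _ _ (isQCohD_restrict _ _ hE)
  obtain ⟨M, ⟨e⟩⟩ := ((Groth.Agent.S0997.result Γ(X, U)).2.2 _).mp h
  exact ⟨M, ⟨e.symm⟩⟩

/-- `S`-perfectness in terms of charts -/
lemma rp_iff (E : DCoh.D X) (hE : DCoh.IsQCohD E) :
    RP f E ↔ ∀ (U : X.Opens) (hU : IsAffineOpen U) (V : S.Opens) (_ : IsAffineOpen V)
      (hUV : U ≤ f ⁻¹ᵁ V) (M : DerivedCategory (ModuleCat.{u} Γ(X, U))),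
      Nonempty ((Φ hU).obj E ≅ (DCoh.tildeD Γ(X, U)).obj M) →
        @Dual2.IsRelPerfect Γ(S, V) Γ(X, U) _ _ (f.appLE V U hUV).hom.toAlgebra M :=
  (Groth.Agent.S7278.result f E hE).1

omit [Flat f] [LocallyOfFinitePresentation f] in
lemma isQCohD_of_rp {E : DCoh.D X} (h : RP f E) : DCoh.IsQCohD E :=
  isQCohD_of_isPseudoCoherentD E h.1

lemma isQCohD_of_isZero {E : DCoh.D X} (h : IsZero E) : DCoh.IsQCohD E := fun i =>
  Groth.Agent.Lib.Helper1.isQuasicoherent_of_isZero _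
    ((DerivedCategory.homologyFunctor X.Modules i).map_isZero h)

lemma isQCohD_of_retract {E' E : DCoh.D X} (r : Retract E' E) (h : DCoh.IsQCohD E) :
    DCoh.IsQCohD E' := fun i =>
  Groth.Agent.Lib.Helper49.isQuasicoherent_of_retract
    ((DerivedCategory.homologyFunctor X.Modules i).map r.i)
    ((DerivedCategory.homologyFunctor X.Modules i).map r.r)
    (by rw [← Functor.map_comp, r.retract, CategoryTheory.Functor.map_id]) (h i)

theorem rp_zero : RP f (0 : DCoh.D X) := by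
  rw [rp_iff f _ (isQCohD_of_isZero (isZero_zero _))]
  intro U hU V hV hUV M ⟨e⟩
  let _ : Algebra Γ(S, V) Γ(X, U) := (f.appLE V U hUV).hom.toAlgebra
  have := tilde_faithful Γ(X, U)
  have hz : IsZero ((DCoh.tildeD Γ(X, U)).obj M) :=
    (((Φ hU).map_isZero (isZero_zero _))).of_iso e.symm
  exact isRelPerfect_zero Γ(S, V) Γ(X, U) M (isZero_of_isZero_obj (DCoh.tildeD Γ(X, U)) hz)

theorem rp_shift {E : DCoh.D X} (h : RP f E) (n : ℤ) : RP f (E⟦n⟧) := by
  have hpc : ∀ m : ℤ, DCoh.IsPseudoCoherentD m (E⟦n⟧) := fun m => by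
    have := isPseudoCoherentD_shift E (m + n) n (h.1 (m + n))
    rwa [show m + n - n = m by ring] at this
  have hE := isQCohD_of_rp f h
  rw [rp_iff f _ (isQCohD_of_isPseudoCoherentD _ hpc)]
  intro U hU V hV hUV M ⟨e⟩
  let _ : Algebra Γ(S, V) Γ(X, U) := (f.appLE V U hUV).hom.toAlgebra
  have := tilde_faithful Γ(X, U)
  have := tilde_full Γ(X, U)
  obtain ⟨M₀, ⟨e₀⟩⟩ := exists_chart hU E hE
  have h₀ := (rp_iff f E hE).mp h U hU V hV hUV M₀ ⟨e₀⟩
  let g : (DCoh.tildeD Γ(X, U)).obj M ≅ (DCoh.tildeD Γ(X, U)).obj (M₀⟦n⟧) :=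
    e.symm ≪≫ ((Φ hU).commShiftIso n).app E ≪≫ (shiftFunctor _ n).mapIso e₀ ≪≫
      (((DCoh.tildeD Γ(X, U)).commShiftIso n).app M₀).symm
  exact isRelPerfect_of_iso Γ(S, V) Γ(X, U) ((DCoh.tildeD Γ(X, U)).preimageIso g).symm
    (isRelPerfect_shift Γ(S, V) Γ(X, U) h₀ n)

theorem rp_obj₂ (T : Triangle (DCoh.D X)) (hT : T ∈ distTriang _) (h₁ : RP f T.obj₁)
    (h₃ : RP f T.obj₃) : RP f T.obj₂ := by
  have hpc : ∀ m : ℤ, DCoh.IsPseudoCoherentD m T.obj₂ := fun m => by
    refine isPseudoCoherentD_obj₃ T.invRotate (inv_rot_of_distTriang _ hT) m ?_ (h₁.1 m)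
    have := isPseudoCoherentD_shift T.obj₃ m (-1) (h₃.1 m)
    rwa [show m - -1 = m + 1 by ring] at this
  have hE₁ := isQCohD_of_rp f h₁
  have hE₃ := isQCohD_of_rp f h₃
  rw [rp_iff f _ (isQCohD_of_isPseudoCoherentD _ hpc)]
  intro U hU V hV hUV M₂ ⟨e₂⟩
  let _ : Algebra Γ(S, V) Γ(X, U) := (f.appLE V U hUV).hom.toAlgebra
  have := tilde_full Γ(X, U)
  obtain ⟨M₁, ⟨e₁⟩⟩ := exists_chart hU T.obj₁ hE₁
  have hM₁ := (rp_iff f _ hE₁).mp h₁ U hU V hV hUV M₁ ⟨e₁⟩
  obtain ⟨C₃, u, v, w, hd, ⟨e₃⟩⟩ := exists_triangle_of_full (DCoh.tildeD Γ(X, U))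
    ((Φ hU).mapTriangle.obj T) ((Φ hU).map_distinguished T hT) e₁ e₂
  have hC₃ := (rp_iff f _ hE₃).mp h₃ U hU V hV hUV C₃ ⟨e₃⟩
  exact isRelPerfect_obj₂ Γ(S, V) Γ(X, U) _ hd hM₁ hC₃

theorem rp_retract {E' E : DCoh.D X} (r : Retract E' E) (h : RP f E) : RP f E' := by
  have hE := isQCohD_of_rp f h
  rw [rp_iff f _ (isQCohD_of_retract r hE)]
  intro U hU V hV hUV M' ⟨e'⟩
  let _ : Algebra Γ(S, V) Γ(X, U) := (f.appLE V U hUV).hom.toAlgebra
  have := tilde_faithful Γ(X, U)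
  have := tilde_full Γ(X, U)
  obtain ⟨M, ⟨e⟩⟩ := exists_chart hU E hE
  have hM := (rp_iff f E hE).mp h U hU V hV hUV M ⟨e⟩
  obtain ⟨i', hi'⟩ := (DCoh.tildeD Γ(X, U)).map_surjective (e'.inv ≫ (Φ hU).map r.i ≫ e.hom)
  obtain ⟨r', hr'⟩ := (DCoh.tildeD Γ(X, U)).map_surjective (e.inv ≫ (Φ hU).map r.r ≫ e'.hom)
  have hir : i' ≫ r' = 𝟙 M' := by
    apply (DCoh.tildeD Γ(X, U)).map_injective
    rw [Functor.map_comp, hi', hr', CategoryTheory.Functor.map_id]
    simp only [Category.assoc, Iso.hom_inv_id_assoc]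
    rw [← Functor.map_comp_assoc, r.retract, CategoryTheory.Functor.map_id, Category.id_comp,
      Iso.inv_hom_id]
  obtain ⟨N, ⟨g⟩⟩ := exists_iso_biprod_of_retract i' r' hir
  exact (isRelPerfect_of_biprod Γ(S, V) Γ(X, U) M' N
    (isRelPerfect_of_iso Γ(S, V) Γ(X, U) g hM)).1

end Chart


/-- Let f : X ⟶ S be flat and locally of finite presentation. The S-perfect objects of D(O_X)
(pseudo-coherent and locally of finite tor dimension over f⁻¹O_S, the latter in the form: locally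
represented by a bounded complex of O_X-modules flat over S) form a saturated triangulated
subcategory: the property contains zero, is stable under all shifts, is closed under the middle term
of distinguished triangles, and is stable under retracts. -/
theorem result {X S : Scheme.{u}} (f : X ⟶ S) [Flat f] [LocallyOfFinitePresentation f] :
    ObjectProperty.IsTriangulated (fun E : DCoh.D X => (∀ m : ℤ, DCoh.IsPseudoCoherentD m E) ∧ DCoh.LocHasFiniteRelTorDim f E) ∧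
    ObjectProperty.IsStableUnderRetracts (fun E : DCoh.D X => (∀ m : ℤ, DCoh.IsPseudoCoherentD m E) ∧ DCoh.LocHasFiniteRelTorDim f E) := by
  refine ⟨?_, ⟨fun r h => rp_retract f r h⟩⟩
  exact
    { exists_zero := ⟨0, isZero_zero _, rp_zero f⟩
      isStableUnderShiftBy := fun n => ⟨fun K hK => rp_shift f hK n⟩
      ext₂' := fun T hT h₁ h₃ => ObjectProperty.le_isoClosure _ _ (rp_obj₂ f T hT h₁ h₃) }

end Groth.Agent.S7250
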