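import Groth.Statements.S7251
-- import your own Groth.Agent.* helpers here
import Groth.Agent.S1054

set_option autoImplicit false
universe u
open CategoryTheory CategoryTheory.Limits AlgebraicGeometry
attribute [local instance] HasDerivedCategory.standard
open Perf

namespace Groth.Agent.S7251

/-- abstract form: `G : C ⥤ D` with left adjoint `L`, full subcategories with coreflections. -/
lemma isIso_homEquiv_map_counit {C D : Type*} [Category C] [Category D]
    (P : ObjectProperty C) (Q : ObjectProperty D)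
    (L : D ⥤ C) (G : C ⥤ D) (adj : L ⊣ G)
    (hL : ∀ M : D, Q M → P (L.obj M))
    {RX : C ⥤ P.FullSubcategory} {RY : D ⥤ Q.FullSubcategory}
    (adjX : P.ι ⊣ RX) (adjY : Q.ι ⊣ RY) (K : C)
    (hA : Q (G.obj (RX.obj K).obj)) :
    IsIso (adjY.homEquiv (⟨G.obj (RX.obj K).obj, hA⟩ : Q.FullSubcategory) (G.obj K)
      (G.map (adjX.counit.app K))) := by
  apply isIso_of_yoneda_map_bijective
  intro M
  -- the three bijections
  have h1 : Function.Bijective (fun g : M ⟶ (⟨G.obj (RX.obj K).obj, hA⟩ : Q.FullSubcategory) =>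
      (g.hom : M.obj ⟶ G.obj (RX.obj K).obj)) :=
    ⟨fun g₁ g₂ h => ObjectProperty.hom_ext _ h, fun g => ⟨ObjectProperty.homMk g, rfl⟩⟩
  have h2 : Function.Bijective (fun g : M.obj ⟶ G.obj (RX.obj K).obj =>
      g ≫ G.map (adjX.counit.app K)) := by
    -- transport along `adj`
    have h2a : Function.Bijective (fun g : L.obj M.obj ⟶ (RX.obj K).obj =>
        g ≫ adjX.counit.app K) := by
      let Lm : P.FullSubcategory := ⟨L.obj M.obj, hL _ M.property⟩
      have hb := ((adjX.homEquiv Lm K).symm.bijective).comp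
        (show Function.Bijective (fun g : L.obj M.obj ⟶ (RX.obj K).obj =>
          (ObjectProperty.homMk g : Lm ⟶ RX.obj K)) from
          ⟨fun g₁ g₂ h => congrArg (fun t => t.hom) h, fun g => ⟨g.hom, rfl⟩⟩)
      have he : (fun g : L.obj M.obj ⟶ (RX.obj K).obj => g ≫ adjX.counit.app K) =
          (adjX.homEquiv Lm K).symm ∘ (fun g : L.obj M.obj ⟶ (RX.obj K).obj =>
          (ObjectProperty.homMk g : Lm ⟶ RX.obj K)) := by
        funext g
        simp only [Function.comp_apply, Adjunction.homEquiv_counit]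
        rfl
      rw [he]
      exact hb
    have he : (fun g : M.obj ⟶ G.obj (RX.obj K).obj => g ≫ G.map (adjX.counit.app K)) =
        (adj.homEquiv M.obj K) ∘ (fun g : L.obj M.obj ⟶ (RX.obj K).obj =>
          g ≫ adjX.counit.app K) ∘ (adj.homEquiv M.obj (RX.obj K).obj).symm := by
      funext g
      simp only [Function.comp_apply]
      rw [Adjunction.homEquiv_naturality_right, Equiv.apply_symm_apply]
    rw [he]
    exact (adj.homEquiv _ _).bijective.comp (h2a.comp (adj.homEquiv _ _).symm.bijective)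
  have h3 := (adjY.homEquiv M (G.obj K)).bijective
  have he : (fun x : M ⟶ (⟨G.obj (RX.obj K).obj, hA⟩ : Q.FullSubcategory) =>
      x ≫ adjY.homEquiv (⟨G.obj (RX.obj K).obj, hA⟩ : Q.FullSubcategory) (G.obj K)
        (G.map (adjX.counit.app K))) =
      (adjY.homEquiv M (G.obj K)) ∘ (fun g : M.obj ⟶ G.obj (RX.obj K).obj =>
        g ≫ G.map (adjX.counit.app K)) ∘
      (fun g : M ⟶ (⟨G.obj (RX.obj K).obj, hA⟩ : Q.FullSubcategory) => g.hom) := by
    funext x
    simp only [Function.comp_apply]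
    exact (Adjunction.homEquiv_naturality_left adjY x (G.map (adjX.counit.app K))).symm
  rw [he]
  exact h3.comp (h2.comp h1)

/-- Let f : X ⟶ Y be a quasi-compact and quasi-separated morphism of schemes. Assume Rf_* exists and
sends D_QCoh(O_X) into D_QCoh(O_Y), let an adjunction Lf^* ⊣ Rf_* be given as data, and assume the
inclusion functors D_QCoh ⥤ D have (chosen) right adjoints DQ_X and DQ_Y. Then Rf_* ∘ DQ_X = DQ_Y ∘
Rf_*: for every K ∈ D(O_X) the comparison map Rf_*(DQ_X K) ⟶ DQ_Y(Rf_* K) in D_QCoh(O_Y),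
corresponding under the adjunction to Rf_* applied to the counit DQ_X K ⟶ K, is an isomorphism. -/
theorem result {X Y : Scheme.{u}} (f : X ⟶ Y) [QuasiCompact f] [QuasiSeparated f]
    [DCoh.HasRpush f] (h : DCoh.RpushPreservesQCoh f) [DCoh.HasLpull f] (adj : DCoh.Lpull f ⊣ DCoh.Rpush f)
    [(ObjectProperty.ι (DCoh.IsQCohD (X := X))).IsLeftAdjoint] [(ObjectProperty.ι (DCoh.IsQCohD (X := Y))).IsLeftAdjoint]
    (K : DCoh.D X) :
    IsIso ((Adjunction.ofIsLeftAdjoint (ObjectProperty.ι (DCoh.IsQCohD (X := Y)))).homEquiv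
      (⟨(DCoh.Rpush f).obj (((ObjectProperty.ι (DCoh.IsQCohD (X := X))).rightAdjoint.obj K).obj),
        h _ (((ObjectProperty.ι (DCoh.IsQCohD (X := X))).rightAdjoint.obj K).property)⟩ : DCoh.DQCoh Y)
      ((DCoh.Rpush f).obj K)
      ((DCoh.Rpush f).map ((Adjunction.ofIsLeftAdjoint (ObjectProperty.ι (DCoh.IsQCohD (X := X)))).counit.app K))) := by
  exact isIso_homEquiv_map_counit (DCoh.IsQCohD (X := X)) (DCoh.IsQCohD (X := Y))
    (DCoh.Lpull f) (DCoh.Rpush f) adj (fun M hM => Groth.Agent.S1054.result f M hM)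
    (Adjunction.ofIsLeftAdjoint (ObjectProperty.ι (DCoh.IsQCohD (X := X))))
    (Adjunction.ofIsLeftAdjoint (ObjectProperty.ι (DCoh.IsQCohD (X := Y)))) K _

end Groth.Agent.S7251
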