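import Groth.Statements.S7252
-- import your own Groth.Agent.* helpers here
import Groth.Agent.Lib.Helper32.BoundAffines
import Groth.Agent.Lib.Helper32.RpushQCohPlus
import Groth.Agent.Lib.Helper56.HZshQCoh
import Groth.Agent.S1035

set_option autoImplicit false
universe u
open CategoryTheory CategoryTheory.Limits AlgebraicGeometry
attribute [local instance] HasDerivedCategory.standard
open Perf

namespace Groth.Agent.S7252

section
open Pretriangulated DerivedCategory Scheme.Modules
open Groth.Agent.Lib.Helper32.KInjDerived Groth.Agent.Lib.Helper32.RDerCrit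
  Groth.Agent.Lib.Helper32.TriRF Groth.Agent.Lib.Helper32.OpenSupp Groth.Agent.Lib.Helper32.OpenKInj
  Groth.Agent.Lib.Helper32.RpushQCohPlus Groth.Agent.Lib.Helper32.BoundAffines
  Groth.Agent.H57.RpushBound Groth.Agent.Lib.Helper56.HZshQCoh
  Groth.Agent.Lib.Helper33.FunctorLES Groth.Agent.Lib.Helper32.MVOpens

/-- `R^p j_* G = 0` for `p ≥ max c 1` when the complement of `U` is locally cut out by at most
`c` equations -/
theorem isZero_Rpush_of_local_equations {X : Scheme.{u}} (U : X.Opens) (c : ℕ)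
    (hT : ∀ x : X, ∃ (V : X.Opens) (fs : Finset Γ(X, V)), x ∈ V ∧ fs.card ≤ c ∧
      X.zeroLocus (U := V) (↑fs : Set Γ(X, V)) ∩ (V : Set ↥X) = (U : Set ↥X)ᶜ ∩ (V : Set ↥X))
    (G : (U : Scheme.{u}).Modules) (hG : Coh.IsQCoh G) (p : ℕ) (hp1 : 1 ≤ p) (hp : c ≤ p) :
    IsZero ((Coh.Rpush U.ι p).obj G) := by
  classical
  have hA := hasKInjRes (U : Scheme.{u})
  obtain ⟨e2⟩ := nonempty_homology_single_iso (Scheme.Modules.pushforward U.ι)
    (DCoh.Rpush U.ι)
    ((DCoh.pushKh U.ι).totalRightDerivedUnit DerivedCategory.Qh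
      (HomotopyCategory.quasiIso (U : Scheme.{u}).Modules (ComplexShape.up ℤ))) hA G 0 p p (by simp)
  refine IsZero.of_iso ?_ e2.symm
  have hq : DCoh.IsQCohD ((singleFunctor (U : Scheme.{u}).Modules 0).obj G) := by
    intro j
    by_cases hj : j = 0
    · subst hj
      exact Groth.Agent.Lib.Helper49.isQuasicoherent_of_iso
        ((singleFunctorCompHomologyFunctorIso (U : Scheme.{u}).Modules 0).app G).symm hG
    · refine Groth.Agent.Lib.Helper1.isQuasicoherent_of_isZero _ ?_
      rcases lt_or_gt_of_ne hj with h | h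
      · exact DerivedCategory.isZero_of_isGE _ 0 j h
      · exact DerivedCategory.isZero_of_isLE _ 0 j h
  apply Groth.Agent.Lib.Helper28.LocFreeLocus.isZero_of_forall_restrict
  intro x
  obtain ⟨V, fs, hxV, hcard, hZ⟩ := hT x
  obtain ⟨V', hV', hxV', hV'V⟩ := exists_isAffineOpen_mem_and_subset (x := x) (U := V) hxV
  refine ⟨V', hxV', ?_⟩
  haveI : IsAffine (V' : Scheme.{u}) := hV'
  -- key set-theoretic facts
  have hU_of : ∀ y : X, y ∈ V' → ∀ f ∈ fs, y ∈ X.basicOpen f → y ∈ U := by
    intro y hy f hf hyf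
    by_contra hyU
    have h1 : y ∈ (U : Set ↥X)ᶜ ∩ (V : Set ↥X) := ⟨hyU, hV'V hy⟩
    rw [← hZ] at h1
    exact (X.mem_zeroLocus_iff _ y).mp h1.1 f (Finset.mem_coe.mpr hf) hyf
  have hex : ∀ y : X, y ∈ V' → y ∈ U → ∃ f ∈ fs, y ∈ X.basicOpen f := by
    intro y hy hyU
    by_contra hcon
    push_neg at hcon
    have h1 : y ∈ X.zeroLocus (U := V) (↑fs : Set Γ(X, V)) ∩ (V : Set ↥X) :=
      ⟨(X.mem_zeroLocus_iff _ y).mpr (fun f hf => hcon f (Finset.mem_coe.mp hf)), hV'V hy⟩
    rw [hZ] at h1
    exact h1.1 hyU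
  -- the bound
  have hN : Bound (U.ι ∣_ V') (p : ℤ) := by
    let ιY : ((U.ι ⁻¹ᵁ V' : (U : Scheme.{u}).Opens) : Scheme.{u}) ⟶ X := (U.ι ⁻¹ᵁ V').ι ≫ U.ι
    have hrange : ιY.opensRange = U ⊓ V' := by
      rw [Scheme.Hom.opensRange_comp, Scheme.Opens.opensRange_ι,
        Scheme.Hom.image_preimage_eq_opensRange_inf, Scheme.Opens.opensRange_ι]
    have hιY : ∀ y, ιY y ∈ U ⊓ V' := by
      intro y
      rw [← hrange]
      exact ⟨y, rfl⟩
    let s : Finset ((U.ι ⁻¹ᵁ V' : (U : Scheme.{u}).Opens) : Scheme.{u}).Opens :=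
      fs.image (fun f => ιY ⁻¹ᵁ (V' ⊓ X.basicOpen f))
    have hs : s.card ≤ (p - 1) + 1 := (Finset.card_image_le.trans hcard).trans (by omega)
    have haff : ∀ W ∈ s, IsAffineOpen W := by
      intro W hW
      obtain ⟨f, hf, rfl⟩ := Finset.mem_image.mp hW
      have h1 : IsAffineOpen (V' ⊓ X.basicOpen f) := by
        rw [← X.basicOpen_res f (homOfLE hV'V).op]
        exact hV'.basicOpen _
      refine h1.preimage_of_isOpenImmersion ιY ?_
      rw [hrange]
      intro y hy
      exact ⟨hU_of y hy.1 f hf hy.2, hy.1⟩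
    have hcov : ∀ y, ∃ W ∈ s, y ∈ W := by
      intro y
      obtain ⟨f, hf, hyf⟩ := hex (ιY y) (hιY y).2 (hιY y).1
      exact ⟨ιY ⁻¹ᵁ (V' ⊓ X.basicOpen f), Finset.mem_image_of_mem _ hf, ⟨(hιY y).2, hyf⟩⟩
    have hd : ∀ W W' : ((U.ι ⁻¹ᵁ V' : (U : Scheme.{u}).Opens) : Scheme.{u}).Opens,
        IsAffineOpen W → IsAffineOpen W' → IsAffineOpen (W ⊓ W') := by
      intro W W' hW hW'
      have hsep : IsAffineHom (pullback.diagonal (U.ι ∣_ V')) := inferInstance
      exact isAffineHom_diagonal_iff.mp hsep ⊤ (isAffineOpen_top _) W (by simp) W' (by simp) hW hW'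
    have := bound_of_finset_affine_cover (p - 1) _ (U.ι ∣_ V') s hs haff hcov hd
    exact this.mono _ (by push_cast; omega)
  exact Groth.Agent.S1035.isZero_restrict_HD_Rpush U.ι V' p hN _ hq 0 inferInstance p (by omega)

end

/-- Let X be a scheme, U ⊆ X an open subscheme and T = X ∖ U. Assume that, locally on X, T is the
vanishing set of no more than c functions from O_X: every point of X has an open neighbourhood V and
finitely many, at most c, sections of O_X over V whose common zero locus meets V exactly in T ∩ V.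
Then the local cohomology sheaves ℋ^i_T(F) (the right derived functors, computed with injective
resolutions, of the sheaf of sections with support in T, F ↦ ker(F → j_*(F|_U))) vanish for every i
> c and every quasi-coherent O_X-module F. -/
theorem result {X : Scheme.{u}} (U : X.Opens) [HasInjectiveResolutions X.Modules]
    (c : ℕ) (hT : ∀ x : X, ∃ (V : X.Opens) (fs : Finset Γ(X, V)), x ∈ V ∧ fs.card ≤ c ∧
      X.zeroLocus (U := V) (↑fs : Set Γ(X, V)) ∩ (V : Set ↥X) = (U : Set ↥X)ᶜ ∩ (V : Set ↥X))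
    (F : X.Modules) (hF : Coh.IsQCoh F) (i : ℕ) (hi : c < i) :
    IsZero (((DCoh.gammaZ U.ι).rightDerived i).obj F) := by
  have hE := Groth.Agent.Lib.Helper56.HZshQCoh.exactOnInjectives U
  match i, hi with
  | 0, hi => omega
  | 1, hi =>
    have hUemp : IsEmpty (U : Scheme.{u}) := ⟨fun y => by
      obtain ⟨V, fs, hxV, hcard, hZ⟩ := hT y.1
      have hfs : fs = ∅ := Finset.card_eq_zero.mp (by omega)
      subst hfs
      have h1 : y.1 ∈ X.zeroLocus (U := V) (↑(∅ : Finset Γ(X, V)) : Set Γ(X, V)) ∩ (V : Set ↥X) := by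
        refine ⟨?_, hxV⟩
        rw [Finset.coe_empty, Scheme.zeroLocus_empty_eq_univ]
        trivial
      rw [hZ] at h1
      exact h1.1 y.2⟩
    have h1 : IsZero (((𝟭 X.Modules).rightDerived 1).obj F) :=
      Groth.Agent.Lib.Helper33.FunctorLES.isZero_rightDerived_id_succ 0 F
    haveI : PreservesFiniteLimits (Groth.Agent.Lib.Helper32.MVOpens.T U) :=
      Groth.Agent.Lib.Helper56.HZshQCoh.preservesFiniteLimits_T U.ι
    have hepi : Epi ((Groth.Agent.Lib.Helper33.FunctorLES.ρ hE).app F) :=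
      Groth.Agent.Lib.Helper33.FunctorLES.epi_ρ_app hE F h1
    have hz0 : IsZero ((Scheme.Modules.restrictFunctor U.ι).obj F) :=
      Groth.Agent.Lib.Helper28.LocFreeLocus.isZero_of_forall_restrict _ (fun y => isEmptyElim y)
    have hz : IsZero ((Groth.Agent.Lib.Helper32.MVOpens.T U).obj F) :=
      (Scheme.Modules.pushforward U.ι).map_isZero hz0
    exact hz.of_epi ((Groth.Agent.Lib.Helper33.FunctorLES.ρ hE).app F)
  | q + 2, hi =>
    obtain ⟨e1⟩ := Groth.Agent.Lib.Helper33.FunctorLES.nonempty_iso_of_isZero hE (q + 1)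
      (fun F => Groth.Agent.Lib.Helper33.FunctorLES.isZero_rightDerived_id_succ q F)
      (fun F => Groth.Agent.Lib.Helper33.FunctorLES.isZero_rightDerived_id_succ (q + 1) F)
    haveI : (Scheme.Modules.restrictFunctor U.ι).PreservesInjectiveObjects :=
      Groth.Agent.Lib.Helper56.HZshQCoh.preservesInjectiveObjects_restrict U
    haveI : PreservesFiniteLimits (Scheme.Modules.restrictFunctor U.ι) := by
      have : PreservesLimitsOfSize.{0, 0} (Scheme.Modules.restrictFunctor U.ι) :=
        (CxOX.extZeroAdj U.ι).rightAdjoint_preservesLimits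
      exact PreservesLimitsOfSize.preservesFiniteLimits _
    haveI : PreservesFiniteColimits (Scheme.Modules.restrictFunctor U.ι) := by
      have : PreservesColimitsOfSize.{0, 0} (Scheme.Modules.restrictFunctor U.ι) :=
        (Scheme.Modules.restrictAdjunction U.ι).leftAdjoint_preservesColimits
      exact PreservesColimitsOfSize.preservesFiniteColimits _
    haveI : PreservesFiniteLimits (Scheme.Modules.pushforward U.ι) := by
      have : PreservesLimitsOfSize.{0, 0} (Scheme.Modules.pushforward U.ι) :=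
        (Scheme.Modules.restrictAdjunction U.ι).rightAdjoint_preservesLimits
      exact PreservesLimitsOfSize.preservesFiniteLimits _
    obtain ⟨e2⟩ := Groth.Agent.Lib.Helper33.ExtDelta.nonempty_rightDerived_exact_comp_iso
      (Scheme.Modules.restrictFunctor U.ι) (Scheme.Modules.pushforward U.ι) (q + 1)
    have e : ((DCoh.gammaZ U.ι).rightDerived (q + 2)).obj F ≅
        ((Scheme.Modules.pushforward U.ι).rightDerived (q + 1)).obj
          ((Scheme.Modules.restrictFunctor U.ι).obj F) :=
      (e1.symm ≪≫ e2).app F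
    haveI : Coh.IsQCoh ((Scheme.Modules.restrictFunctor U.ι).obj F) :=
      Scheme.Modules.isQuasicoherent_restrictFunctor _ _
    exact IsZero.of_iso (isZero_Rpush_of_local_equations U c hT _ inferInstance (q + 1)
      (by omega) (by omega)) e

end Groth.Agent.S7252
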