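import Groth.Statements.S7257
-- import your own Groth.Agent.* helpers here
import Groth.Agent.Lib.Helper32.AffineDetect
import Groth.Agent.Lib.Helper32.QCohTri
import Groth.Agent.Lib.Helper32.SectDetect
import Groth.Agent.Lib.Helper32.RGammaPush
import Groth.Agent.Lib.Helper32.RGammaTri

set_option autoImplicit false
universe u
open CategoryTheory CategoryTheory.Limits AlgebraicGeometry
attribute [local instance] HasDerivedCategory.standard
open Perf

namespace Groth.Agent.S7257

open Groth.Agent.Lib.Helper32.AffineDetect Groth.Agent.Lib.Helper32.QCohTri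
  Groth.Agent.Lib.Helper32.SectDetect Groth.Agent.Lib.Helper32.RGammaPush
  Groth.Agent.Lib.Helper32.RGammaTri Groth.Agent.Lib.Helper32.TriRF
  Groth.Agent.Lib.Helper32.OpenSupp Groth.Agent.Lib.Helper32.OpenKInj
  Groth.Agent.Lib.Helper32.KInjDerived Pretriangulated DerivedCategory Opposite

/-- a module whose restriction to `U` vanishes has no nonzero sections over `U` -/
lemma section_eq_zero_of_isZero_restrict {X : Scheme.{u}} (M : X.Modules) (U : X.Opens)
    (h : IsZero ((Scheme.Modules.restrictFunctor U.ι).obj M)) (k : Γ(M, U)) : k = 0 := by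
  have h1 : IsZero ((Scheme.Modules.restrictFunctor U.ι ⋙ DCoh.gammaAb (U : Scheme.{u})).obj M) :=
    Functor.map_isZero (DCoh.gammaAb (U : Scheme.{u})) h
  have h2 := IsZero.of_iso h1 ((restrictGammaIso U).app M).symm
  have h3 : Subsingleton (((T X ⋙ sheafToPresheaf _ _ ⋙
      (evaluation _ _).obj (op U)).obj M : AddCommGrpCat.{u}) : Type u) :=
    AddCommGrpCat.subsingleton_of_isZero h2
  exact @Subsingleton.elim _ h3 k 0

/-- Let f : X ⟶ S be an affine morphism of schemes. Assuming Rf_* exists on the unbounded derived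
category, Rf_* restricted to D_QCoh(O_X) reflects isomorphisms: if α : E ⟶ F is a morphism in D(O_X)
between objects with quasi-coherent cohomology sheaves and Rf_*(α) is an isomorphism, then α is an
isomorphism. -/
theorem result {X S : Scheme.{u}} (f : X ⟶ S) [IsAffineHom f] [DCoh.HasRpush f]
    {E F : DCoh.D X} (hE : DCoh.IsQCohD E) (hF : DCoh.IsQCohD F) (α : E ⟶ F)
    (hα : IsIso ((DCoh.Rpush f).map α)) : IsIso α := by
  obtain ⟨C, β, γ, hT⟩ := distinguished_cocone_triangle α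
  have hC : DCoh.IsQCohD C := isQCohD_obj₃ _ hT hE hF
  obtain ⟨h, hh⟩ := exists_distinguished (Scheme.Modules.pushforward f) (DCoh.Rpush f)
    ((DCoh.pushKh f).totalRightDerivedUnit DerivedCategory.Qh
      (HomotopyCategory.quasiIso X.Modules (ComplexShape.up ℤ))) (hasKInjRes X) _ hT
  have hRC : IsZero ((DCoh.Rpush f).obj C) := (Triangle.isZero₃_iff_isIso₁ _ hh).2 hα
  suffices hz : IsZero C from (Triangle.isZero₃_iff_isIso₁ _ hT).1 hz
  apply isZero_of_homology
  intro m
  haveI hM : ((DerivedCategory.homologyFunctor X.Modules m).obj C).IsQuasicoherent := hC m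
  rw [IsZero.iff_id_eq_zero]
  refine Groth.Agent.Lib.Helper22.Chev.hom_eq_zero_of_app_cover _
    {U : X.Opens | ∃ V : S.Opens, IsAffineOpen V ∧ U = f ⁻¹ᵁ V} ?_ ?_ ?_
  · rintro U ⟨V, hV, rfl⟩
    exact hV.preimage f
  · intro x
    obtain ⟨_, ⟨V, hV, rfl⟩, hxV, -⟩ :=
      S.isBasis_affineOpens.exists_subset_of_mem_open (Set.mem_univ (f.base x)) isOpen_univ
    exact ⟨f ⁻¹ᵁ V, ⟨V, hV, rfl⟩, hxV⟩
  · rintro U ⟨V, hV, rfl⟩ k
    have hU : IsAffineOpen (f ⁻¹ᵁ V) := hV.preimage f
    haveI : IsAffine ((f ⁻¹ᵁ V : X.Opens) : Scheme.{u}) := hU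
    haveI : DCoh.HasRΓ ((f ⁻¹ᵁ V : X.Opens) : Scheme.{u}) :=
      hasRightDerivedFunctor (hasKInjRes _) _
    haveI : DCoh.HasRΓ (V : Scheme.{u}) := hasRightDerivedFunctor (hasKInjRes _) _
    obtain ⟨e⟩ := nonempty_restrict_RΓ_iso f V
    have h1 : IsZero ((DCoh.RΓ ((f ⁻¹ᵁ V : X.Opens) : Scheme.{u})).obj
        ((DCoh.restrictD (f ⁻¹ᵁ V).ι).obj C)) :=
      IsZero.of_iso (isZero_rd_obj (hasKInjRes (V : Scheme.{u})) (DCoh.gammaAb (V : Scheme.{u})) _
        (Functor.map_isZero (DCoh.restrictD V.ι) hRC)) (e.app C)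
    have h2 : IsZero ((DCoh.restrictD (f ⁻¹ᵁ V).ι).obj C) :=
      isZero_of_isZero_RΓ _ (isQCohD_restrictD (f ⁻¹ᵁ V).ι C hC) h1
    obtain ⟨e2⟩ := Groth.Agent.Lib.Helper32.WayOut2.nonempty_homologyIso_mapDerivedCategory
      (Scheme.Modules.restrictFunctor (f ⁻¹ᵁ V).ι) C m
    have h3 : IsZero ((Scheme.Modules.restrictFunctor (f ⁻¹ᵁ V).ι).obj
        ((DerivedCategory.homologyFunctor X.Modules m).obj C)) :=
      IsZero.of_iso (Functor.map_isZero (DerivedCategory.homologyFunctor _ m) h2) e2.symm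
    exact section_eq_zero_of_isZero_restrict _ _ h3 _

end Groth.Agent.S7257
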