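import Groth.Statements.S7265
import Mathlib
import Groth.Agent.Lib.Helper30.ShriekD
import Groth.Agent.Lib.Helper30.PerfRestrict
import Groth.Agent.Lib.Helper30.PCTriangle
import Groth.Agent.Lib.Helper6.ExactDC
import Groth.Agent.Lib.Helper45.EpiStalk
import Groth.Agent.Lib.Helper49.StalkNbhd

set_option autoImplicit false
universe u
open CategoryTheory CategoryTheory.Limits AlgebraicGeometry
attribute [local instance] HasDerivedCategory.standard
open Perf

namespace Groth.Agent.S7265

open Groth.Agent.Lib.Helper30.ShriekD Groth.Agent.Lib.Helper30.PerfRestrict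
  Groth.Agent.Lib.Helper30.PCTriangle Groth.Agent.Lib.Helper49 Groth.Agent.Lib.Helper45
  Groth.Agent.Lib.Helper6 Scheme.Modules ZeroObject

private lemma subsingleton_stalk_of_not_mem {X : Scheme.{u}} {M : X.Modules} {T : Set X}
    (hM : CohB1.support M ⊆ T) {x : X} (hx : x ∉ T) : Subsingleton ↑(M.presheaf.stalk x) := by
  by_contra h
  exact hx (hM h)

private lemma stalkMap_bijective_of_isIso {X : Scheme.{u}} {M N : X.Modules} (ψ : M ⟶ N)
    [IsIso ψ] (y : X) : Function.Bijective (stalkMap ψ y).hom := by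
  have h1 : IsIso ((Scheme.Modules.toPresheaf X).map ψ) := inferInstance
  have h2 : IsIso ((TopCat.Presheaf.stalkFunctor Ab y).map
      ((Scheme.Modules.toPresheaf X).map ψ)) := inferInstance
  exact (ConcreteCategory.isIso_iff_bijective _).mp h2

/-- an isomorphism over `U` between modules supported on `T ⊆ U` is an isomorphism -/
private lemma isIso_of_isIso_restrict {X : Scheme.{u}} (U : X.Opens) (T : Set X)
    (hTU : T ⊆ (U : Set X)) {M N : X.Modules} (φ : M ⟶ N)
    (hM : CohB1.support M ⊆ T) (hN : CohB1.support N ⊆ T)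
    (h : IsIso ((restrictFunctor U.ι).map φ)) : IsIso φ := by
  apply isIso_of_stalkMap_bijective
  intro x
  by_cases hx : x ∈ U
  · obtain ⟨y, rfl⟩ : ∃ y : (U : Scheme.{u}), U.ι y = x := ⟨⟨x, hx⟩, rfl⟩
    have hb := stalkMap_bijective_of_isIso ((restrictFunctor U.ι).map φ) y
    have hM' := restrictStalkIso_hom_bijective U.ι M y
    have hN' := restrictStalkIso_hom_bijective U.ι N y
    constructor
    · intro a b hab
      obtain ⟨a', rfl⟩ := hM'.2 a
      obtain ⟨b', rfl⟩ := hM'.2 b
      rw [← stalkMap_restrict_apply, ← stalkMap_restrict_apply] at hab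
      rw [hb.1 (hN'.1 hab)]
    · intro b
      obtain ⟨b0, rfl⟩ := hN'.2 b
      obtain ⟨a0, rfl⟩ := hb.2 b0
      exact ⟨(restrictStalkIso U.ι M y).hom.hom a0, (stalkMap_restrict_apply U.ι φ y a0).symm⟩
  · have hxT : x ∉ T := fun h => hx (hTU h)
    have := subsingleton_stalk_of_not_mem hM hxT
    have := subsingleton_stalk_of_not_mem hN hxT
    exact ⟨fun a b _ => Subsingleton.elim _ _, fun b => ⟨0, Subsingleton.elim _ _⟩⟩

/-- an epimorphism over `U` onto a module supported on `T ⊆ U` is an epimorphism -/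
private lemma epi_of_epi_restrict {X : Scheme.{u}} (U : X.Opens) (T : Set X)
    (hTU : T ⊆ (U : Set X)) {M N : X.Modules} (φ : M ⟶ N)
    (hN : CohB1.support N ⊆ T)
    (h : Epi ((restrictFunctor U.ι).map φ)) : Epi φ := by
  apply epi_of_stalkMap_surjective
  intro x
  by_cases hx : x ∈ U
  · obtain ⟨y, rfl⟩ : ∃ y : (U : Scheme.{u}), U.ι y = x := ⟨⟨x, hx⟩, rfl⟩
    have hb := stalkMap_surjective_of_epi ((restrictFunctor U.ι).map φ) y
    have hN' := restrictStalkIso_hom_bijective U.ι N y
    intro b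
    obtain ⟨b0, rfl⟩ := hN'.2 b
    obtain ⟨a0, rfl⟩ := hb b0
    exact ⟨(restrictStalkIso U.ι M y).hom.hom a0, (stalkMap_restrict_apply U.ι φ y a0).symm⟩
  · have hxT : x ∉ T := fun h => hx (hTU h)
    have := subsingleton_stalk_of_not_mem hN hxT
    exact fun b => ⟨0, Subsingleton.elim _ _⟩

/-- an object of the derived category all of whose cohomology vanishes is zero -/
private lemma isZero_of_isZero_homology {C : Type*} [Category C] [Abelian C] [HasDerivedCategory C]
    (K : DerivedCategory C)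
    (h : ∀ i : ℤ, IsZero ((DerivedCategory.homologyFunctor C i).obj K)) : IsZero K := by
  have hiso : IsIso (0 : K ⟶ 0) := by
    rw [DerivedCategory.isIso_iff]
    intro n
    refine ⟨0, (h n).eq_of_src _ _, ?_⟩
    exact ((DerivedCategory.homologyFunctor C n).map_isZero (isZero_zero _)).eq_of_src _ _
  exact (isZero_zero _).of_iso (asIso (0 : K ⟶ 0))

private lemma perfObj_of_isZero {V : Scheme.{u}} {K : DCoh.D V} (h : IsZero K) : PerfObj K :=
  ⟨0, isStrictlyPerfect_zero, ⟨h.iso (DerivedCategory.Q.map_isZero (isZero_zero _))⟩⟩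

section
variable {C₁ : Type*} [Category C₁] [Abelian C₁] [HasDerivedCategory C₁]
  {C₂ : Type*} [Category C₂] [Abelian C₂] [HasDerivedCategory C₂]
  (F : C₁ ⥤ C₂) [F.Additive] [PreservesFiniteLimits F] [PreservesFiniteColimits F]

private lemma isIso_map_homology_of_isIso {K L : DerivedCategory C₁} (α : K ⟶ L) (i : ℤ)
    (h : IsIso ((DerivedCategory.homologyFunctor C₂ i).map (F.mapDerivedCategory.map α))) :
    IsIso (F.map ((DerivedCategory.homologyFunctor C₁ i).map α)) := by
  rw [ExactDC.homology_map_eq] at h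
  have h1 : IsIso (F.map ((DerivedCategory.homologyFunctor C₁ i).map α) ≫
      (ExactDC.homologyIso F i).inv.app L) :=
    IsIso.of_isIso_comp_left ((ExactDC.homologyIso F i).hom.app K) _
  exact IsIso.of_isIso_comp_right _ ((ExactDC.homologyIso F i).inv.app L)

private lemma epi_map_homology_of_epi {K L : DerivedCategory C₁} (α : K ⟶ L) (i : ℤ)
    (h : Epi ((DerivedCategory.homologyFunctor C₂ i).map (F.mapDerivedCategory.map α))) :
    Epi (F.map ((DerivedCategory.homologyFunctor C₁ i).map α)) := by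
  rw [ExactDC.homology_map_eq] at h
  have h3 : Epi (F.map ((DerivedCategory.homologyFunctor C₁ i).map α) ≫
      (ExactDC.homologyIso F i).inv.app L) := by
    have h5 : F.map ((DerivedCategory.homologyFunctor C₁ i).map α) ≫
        (ExactDC.homologyIso F i).inv.app L = (ExactDC.homologyIso F i).inv.app K ≫
        ((ExactDC.homologyIso F i).hom.app K ≫
          F.map ((DerivedCategory.homologyFunctor C₁ i).map α) ≫
          (ExactDC.homologyIso F i).inv.app L) := by simp
    rw [h5]
    infer_instance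
  have h4 : F.map ((DerivedCategory.homologyFunctor C₁ i).map α) =
      (F.map ((DerivedCategory.homologyFunctor C₁ i).map α) ≫
        (ExactDC.homologyIso F i).inv.app L) ≫ (ExactDC.homologyIso F i).hom.app L := by simp
  rw [h4]
  infer_instance

end

/-- Let X be a scheme, U ⊆ X an open subscheme, T ⊆ U a subset closed in X, E ∈ D(O_X) with
quasi-coherent cohomology sheaves and m ∈ ℤ. If approximation holds for (T, E|_U, m) on U (there are
a perfect P ∈ D(O_U) supported on T and P ⟶ E|_U inducing isomorphisms on Hⁱ for i > m and a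
surjection on Hᵐ) and the sheaves Hⁱ(E), i ≥ m, are supported on T, then approximation holds for (T,
E, m) on X. -/
theorem result {X : Scheme.{u}} (U : X.Opens) (T : Set ↥X) (hT : IsClosed T)
    (hTU : T ⊆ (U : Set ↥X)) (E : DCoh.D X) (hE : DCoh.IsQCohD E) (m : ℤ)
    (happ : ∃ (P : DCoh.D (U : Scheme.{u})) (α : P ⟶ (DCoh.restrictD U.ι).obj E), DCoh.IsPerfect P ∧
      (∀ i : ℤ, CohB1.support (DCoh.HD P i) ⊆ {v : ↥(U : Scheme.{u}) | U.ι.base v ∈ T}) ∧
      (∀ i : ℤ, m < i → IsIso ((DerivedCategory.homologyFunctor _ i).map α)) ∧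
      Epi ((DerivedCategory.homologyFunctor _ m).map α))
    (hsupp : ∀ i : ℤ, m ≤ i → CohB1.support (DCoh.HD E i) ⊆ T) :
    ∃ (P : DCoh.D X) (α : P ⟶ E), DCoh.IsPerfect P ∧ (∀ i : ℤ, CohB1.support (DCoh.HD P i) ⊆ T) ∧
      (∀ i : ℤ, m < i → IsIso ((DerivedCategory.homologyFunctor X.Modules i).map α)) ∧
      Epi ((DerivedCategory.homologyFunctor X.Modules m).map α) := by
  obtain ⟨P, α, hP, hPs, hiso, hepi⟩ := happ
  let P' : DCoh.D X := (shD U).obj P
  let α' : P' ⟶ E := ((adjD U).homEquiv P E).symm α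
  have hα : (adjD U).unit.app P ≫ (rD U.ι).map α' = α := by
    have h1 := (adjD U).homEquiv_unit (X := P) (Y := E) (f := α')
    rw [← h1]
    exact Equiv.apply_symm_apply _ _
  have hα' : (rD U.ι).map α' = inv ((adjD U).unit.app P) ≫ α := by
    rw [← hα, IsIso.inv_hom_id_assoc]
  have hi : ∀ i, DCoh.HD P' i ≅ (CxOX.extZero U.ι).obj (DCoh.HD P i) := fun i =>
    (ExactDC.homologyIso (CxOX.extZero U.ι) i).app P
  have hP's : ∀ i, CohB1.support (DCoh.HD P' i) ⊆ T := fun i => by
    rw [support_eq_of_iso (hi i)]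
    exact support_extZero_subset T hT _ (hPs i)
  refine ⟨P', α', ?_, hP's, ?_, ?_⟩
  · -- perfectness of `j_! P`
    apply isPerfect_of_openImmersions
    intro x
    by_cases hx : x ∈ U
    · obtain ⟨V, hxV, hV⟩ := (isPerfect_iff P).1 hP ⟨x, hx⟩
      refine ⟨(V : Scheme.{u}), V.ι ≫ U.ι, inferInstance, ⟨⟨⟨x, hx⟩, hxV⟩, rfl⟩, ?_⟩
      refine PerfObj.of_iso ?_ hV
      exact (rD V.ι).mapIso (asIso ((adjD U).unit.app P)) ≪≫ ((rDComp V.ι U.ι).app P').symm
    · have hxT : x ∉ T := fun h => hx (hTU h)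
      let W : X.Opens := ⟨Tᶜ, hT.isOpen_compl⟩
      refine ⟨(W : Scheme.{u}), W.ι, inferInstance, ⟨⟨x, hxT⟩, rfl⟩, ?_⟩
      apply perfObj_of_isZero
      apply isZero_of_isZero_homology
      intro i
      refine IsZero.of_iso ?_ ((ExactDC.homologyIso (restrictFunctor W.ι) i).app P')
      refine IsZero.of_iso ?_ ((restrictFunctor W.ι).mapIso (hi i))
      apply isZero_restrict_extZero
      intro v hv
      by_contra hns
      exact hv (hPs i hns)
  · intro i hi'
    apply isIso_of_isIso_restrict U T hTU _ (hP's i) (hsupp i hi'.le)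
    apply isIso_map_homology_of_isIso (restrictFunctor U.ι) α' i
    have := hiso i hi'
    change IsIso ((DerivedCategory.homologyFunctor _ i).map ((rD U.ι).map α'))
    rw [hα', Functor.map_comp]
    infer_instance
  · apply epi_of_epi_restrict U T hTU _ (hsupp m le_rfl)
    apply epi_map_homology_of_epi (restrictFunctor U.ι) α' m
    change Epi ((DerivedCategory.homologyFunctor _ m).map ((rD U.ι).map α'))
    rw [hα', Functor.map_comp]
    infer_instance

end Groth.Agent.S7265
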