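import Groth.Statements.S7290
-- import your own Groth.Agent.* helpers here

set_option autoImplicit false
open CategoryTheory CategoryTheory.Limits AlgebraicGeometry Opposite
universe u
open ProEtW

namespace Groth.Agent.S7290

open Topology PrimeSpectrum in
/-- every constructible subset of `Spec A` is determined by the vanishing pattern of a finite set -/
theorem exists_finset_determining (A : Type u) [CommRing A] (T : Set (PrimeSpectrum A))
    (hT : IsConstructible T) :
    ∃ E : Finset A, ∀ x y : PrimeSpectrum A, (∀ f ∈ E, f ∈ x.asIdeal ↔ f ∈ y.asIdeal) →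
      (x ∈ T → y ∈ T) := by
  classical
  induction T, hT using IsConstructible.induction_of_isTopologicalBasis
      _ (isTopologicalBasis_basic_opens (R := A)) with
  | isCompact_basis i => exact isCompact_basicOpen _
  | sdiff i s hs =>
    refine ⟨insert i hs.toFinset, fun x y hxy hx => ?_⟩
    simp only [Set.mem_sdiff, SetLike.mem_coe, mem_basicOpen, Set.mem_iUnion, exists_prop,
      not_exists, not_and, not_not] at hx ⊢
    refine ⟨fun h => hx.1 ((hxy i (Finset.mem_insert_self _ _)).mpr h), fun j hj => ?_⟩
    exact (hxy j (Finset.mem_insert_of_mem (hs.mem_toFinset.mpr hj))).mp (hx.2 j hj)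
  | union s hs t ht Hs Ht =>
    obtain ⟨E₁, h₁⟩ := Hs
    obtain ⟨E₂, h₂⟩ := Ht
    refine ⟨E₁ ∪ E₂, fun x y hxy hx => ?_⟩
    rcases hx with hx | hx
    · exact Or.inl (h₁ x y (fun f hf => hxy f (Finset.mem_union_left _ hf)) hx)
    · exact Or.inr (h₂ x y (fun f hf => hxy f (Finset.mem_union_right _ hf)) hx)


/-- Let A be a ring and let Spec A be the disjoint union of finitely many constructible subsets T_i.
Then there is a finite subset E of A such that the stratification of Spec A according to which
elements of E vanish at a point refines the given one: each nonempty stratum, consisting of the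
primes whose intersection with E is a prescribed subset, is contained in one of the T_i. -/
theorem result (A : Type u) [CommRing A] {ι : Type u} [Finite ι]
    (T : ι → Set (PrimeSpectrum A)) (hT : ∀ i, Topology.IsConstructible (T i))
    (hcov : ⋃ i, T i = Set.univ) (hdisj : Pairwise fun i j => Disjoint (T i) (T j)) :
    ∃ E : Finset A, ∀ E'' : Finset A, E'' ⊆ E →
      ∀ x : PrimeSpectrum A, (∀ f ∈ E, f ∈ x.asIdeal ↔ f ∈ E'') →
        ∃ i, {y : PrimeSpectrum A | ∀ f ∈ E, f ∈ y.asIdeal ↔ f ∈ E''} ⊆ T i := by
  classical
  have := Fintype.ofFinite ι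
  choose E hE using fun i => exists_finset_determining A (T i) (hT i)
  refine ⟨Finset.univ.biUnion E, fun E'' _ x hx => ?_⟩
  have hxmem : x ∈ ⋃ i, T i := hcov ▸ Set.mem_univ x
  obtain ⟨i, hi⟩ := Set.mem_iUnion.mp hxmem
  refine ⟨i, fun y hy => ?_⟩
  refine hE i x y (fun f hf => ?_) hi
  have hfE : f ∈ Finset.univ.biUnion E := Finset.mem_biUnion.mpr ⟨i, Finset.mem_univ _, hf⟩
  rw [hx f hfE, hy f hfE]

end Groth.Agent.S7290
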