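import Groth.Statements.S7291
-- import your own Groth.Agent.* helpers here
import Groth.Agent.Lib.Helper37.ValLift
import Groth.Agent.Lib.Helper55.SubtrLimit

set_option autoImplicit false
open CategoryTheory CategoryTheory.Limits AlgebraicGeometry Opposite
universe w u
open HTop

namespace Groth.Agent.S7291

open Groth.Agent.Lib.Helper37 IsLocalRing

attribute [local instance] IsCofiltered.isConnected

/-- The valuation-ring lifting property passes to a cofiltered limit of affine schemes over `Y`. -/
theorem hasValLift_of_isLimit {Y : Scheme.{u}} [IsAffine Y]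
    {I : Type u} [SmallCategory I] [IsCofiltered I] (D : I ⥤ Over Y) [∀ i, IsAffine (D.obj i).left]
    (c : Cone D) (hc : IsLimit ((Over.forget Y).mapCone c))
    (H : ∀ i, HTop.HasValLift (PreZeroHypercover.singleton.{w} (D.obj i).hom)) :
    HTop.HasValLift (PreZeroHypercover.singleton.{w} c.pt.hom) := by
  rw [hasValLift_singleton_iff]
  intro R _ _ g
  -- the limit cone of the base changes
  have hc' : IsLimit c := isLimitOfReflects (Over.forget Y) hc
  have hc₂ : IsLimit ((Over.pullback g).mapCone c) := isLimitOfPreserves (Over.pullback g) hc'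
  have hc₃ : IsLimit ((Over.forget (Spec R)).mapCone ((Over.pullback g).mapCone c)) :=
    isLimitOfPreserves (Over.forget (Spec R)) hc₂
  let 𝒳 : I ⥤ Scheme.{u} := (D ⋙ Over.pullback g) ⋙ Over.forget (Spec R)
  let 𝒴 : I ⥤ Scheme.{u} := (Functor.const I).obj (Spec R)
  let F : 𝒳 ⟶ 𝒴 := { app := fun i => ((Over.pullback g).obj (D.obj i)).hom
                     naturality := fun i j a => by
                       show ((Over.pullback g).map (D.map a)).left ≫ _ = _ ≫ 𝟙 _
                       rw [Category.comp_id]
                       exact Over.w ((Over.pullback g).map (D.map a)) }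
  let cY : Cone 𝒴 := { pt := Spec R, π := { app := fun _ => 𝟙 _ } }
  have haff : ∀ i, IsAffine (𝒳.obj i) := by
    intro i
    show IsAffine (pullback (D.obj i).hom g)
    infer_instance
  have haffhom : ∀ {i j : I} (a : i ⟶ j), IsAffineHom (𝒳.map a) := by
    intro i j a
    infer_instance
  obtain ⟨i₀⟩ := IsCofiltered.nonempty (C := I)
  obtain ⟨x, x', hxx', hx, hx'⟩ := Groth.Agent.Lib.Helper55.SubtrLimit.exists_lift_of_forall_of_qcqs 𝒳 𝒴 F
    ((Over.forget (Spec R)).mapCone ((Over.pullback g).mapCone c)) hc₃ cY
    ((Over.pullback g).obj c.pt).hom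
    (fun j => by
      show _ ≫ 𝟙 _ = ((Over.pullback g).map (c.π.app j)).left ≫ _
      rw [Category.comp_id]
      exact (Over.w ((Over.pullback g).map (c.π.app j))).symm)
    (fun p q h => h i₀) (y := closedPoint R) (y' := genericPt R)
    (fun j => by
      obtain ⟨k, w₀', w₀, hw₀, hw₀', hwc₀⟩ := exists_specializes_of_hasValLift _ (H j) g
        (specializes_closedPoint (genericPt R))
      let w' : ↑(pullback g (D.obj j).hom) := w₀'
      let w : ↑(pullback g (D.obj j).hom) := w₀
      have hw : w' ⤳ w := hw₀
      have hw' : pullback.fst g (D.obj j).hom w' = genericPt R := hw₀'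
      have hwc : pullback.fst g (D.obj j).hom w = closedPoint R := hwc₀
      refine ⟨(pullbackSymmetry g (D.obj j).hom).hom w, (pullbackSymmetry g (D.obj j).hom).hom w',
        hw.map (pullbackSymmetry g (D.obj j).hom).hom.continuous, ?_, ?_⟩
      · show (pullback.snd (D.obj j).hom g) ((pullbackSymmetry g (D.obj j).hom).hom w) = _
        rw [← Scheme.Hom.comp_apply, pullbackSymmetry_hom_comp_snd]
        exact hwc
      · show (pullback.snd (D.obj j).hom g) ((pullbackSymmetry g (D.obj j).hom).hom w') = _
        rw [← Scheme.Hom.comp_apply, pullbackSymmetry_hom_comp_snd]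
        exact hw')
  let P : Scheme.{u} := pullback c.pt.hom g
  let xP : P := x
  let xP' : P := x'
  have hxx'P : xP' ⤳ xP := hxx'
  have hxP : pullback.snd c.pt.hom g xP = closedPoint R := hx
  have hxP' : pullback.snd c.pt.hom g xP' = genericPt R := hx'
  obtain ⟨B, v, hvc, hvg⟩ := exists_valuationSubring_of_specializes hxx'P
  have hvgen : v (genericPt (CommRingCat.of B)) = xP' :=
    apply_genericPt_of_fromSpecResidueField B v hvg
  let ψ : Spec (CommRingCat.of B) ⟶ Spec R := v ≫ pullback.snd c.pt.hom g
  let φ : R ⟶ CommRingCat.of B := Spec.preimage ψ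
  have hφ : Spec.map φ = ψ := Spec.map_preimage ψ
  refine ⟨CommRingCat.of B, inferInstance, inferInstance, φ, ⟨?_, ?_⟩,
    v ≫ pullback.fst c.pt.hom g, ?_⟩
  · rw [RingHom.injective_iff_ker_eq_bot]
    have h1 : Spec.map φ (genericPt (CommRingCat.of B)) = genericPt R := by
      rw [hφ, Scheme.Hom.comp_apply, hvgen, hxP']
    exact congrArg PrimeSpectrum.asIdeal h1
  · rw [isLocalHom_iff_comap_closedPoint]
    have h1 : Spec.map φ (closedPoint (CommRingCat.of B)) = closedPoint R := by
      rw [hφ, Scheme.Hom.comp_apply, hvc, hxP]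
    exact h1
  · rw [hφ, Category.assoc, Category.assoc, pullback.condition]

end Groth.Agent.S7291

namespace Groth.Agent.S7291

/-- Let Y be an affine scheme and let X be the limit (as a scheme) of a cofiltered system of affine
schemes X_i over Y. Then the one-member family X over Y is a standard V covering exactly when, for
every i, the one-member family X_i over Y is a standard V covering. -/
theorem result {Y : Scheme.{u}} [IsAffine Y]
    {I : Type u} [SmallCategory I] [IsCofiltered I] (D : I ⥤ Over Y) [∀ i, IsAffine (D.obj i).left]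
    (c : Cone D) (hc : IsLimit ((Over.forget Y).mapCone c)) :
    HTop.IsStandardV (PreZeroHypercover.singleton.{w} c.pt.hom) ↔
      ∀ i, HTop.IsStandardV (PreZeroHypercover.singleton.{w} (D.obj i).hom) := by
  rw [Groth.Agent.Lib.Helper37.isStandardV_singleton_iff]
  have haffD : ∀ i, IsAffine ((D ⋙ Over.forget Y).obj i) := fun i =>
    inferInstanceAs (IsAffine (D.obj i).left)
  have hpt : IsAffine c.pt.left :=
    Scheme.isAffine_of_isLimit ((Over.forget Y).mapCone c) hc
  constructor
  · rintro ⟨-, -, h⟩ i
    rw [Groth.Agent.Lib.Helper37.isStandardV_singleton_iff]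
    refine ⟨inferInstance, inferInstance, ?_⟩
    rw [Groth.Agent.Lib.Helper37.hasValLift_singleton_iff] at h ⊢
    intro R _ _ g
    obtain ⟨W, hW1, hW2, φ, hφ, g', hg'⟩ := h R g
    refine ⟨W, hW1, hW2, φ, hφ, g' ≫ (c.π.app i).left, ?_⟩
    have hw : (c.π.app i).left ≫ (D.obj i).hom = c.pt.hom := Over.w (c.π.app i)
    rw [Category.assoc, hw, hg']
  · intro h
    refine ⟨inferInstance, hpt, hasValLift_of_isLimit D c hc fun i => ?_⟩
    exact ((Groth.Agent.Lib.Helper37.isStandardV_singleton_iff _).mp (h i)).2.2

end Groth.Agent.S7291
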