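import Groth.Statements.S7295
import Groth.Agent.Lib.Helper36.ProEtRestrictInj

set_option autoImplicit false
open CategoryTheory CategoryTheory.Limits AlgebraicGeometry Opposite
universe u
open ProEtS

namespace Groth.Agent.S7295

/-- Let f : T → S be a morphism of schemes and I an injective object of the category of abelian sheaves
on the big pro-etale site of S (the category of schemes over S with the pro-etale topology). Then
the restriction of I to the small pro-etale site of T, along the functor sending a scheme V weakly
etale over T to the S-scheme V → T → S, is injective. The case where T = S and f is the identity is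
the restriction to the small pro-etale site of S itself. (Continuity of the restriction functor is
carried as a binder.) -/
theorem result {T S : Scheme.{u}} (f : T ⟶ S)
    [(Scheme.ProEt.forget T ⋙ Over.map f).IsContinuous (Scheme.ProEt.topology T)
      (Scheme.proetaleTopology.over S)]
    (I : Sheaf (Scheme.proetaleTopology.over S) AddCommGrpCat.{u + 1}) [Injective I] :
    Injective (((Scheme.ProEt.forget T ⋙ Over.map f).sheafPushforwardContinuous AddCommGrpCat.{u + 1}
      (Scheme.ProEt.topology T) (Scheme.proetaleTopology.over S)).obj I) := by
  have h1 : Injective (((Over.map f).sheafPushforwardContinuous AddCommGrpCat.{u + 1}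
      (Scheme.proetaleTopology.over T) (Scheme.proetaleTopology.over S)).obj I) := by
    have := Groth.Agent.Lib.Helper36.ProEtRestrictInj.preservesInjectiveObjects_overMap f
    exact Functor.injective_obj_of_injective _ inferInstance
  have h2 : Injective (((Scheme.ProEt.forget T).sheafPushforwardContinuous AddCommGrpCat.{u + 1}
      (Scheme.ProEt.topology T) (Scheme.proetaleTopology.over T)).obj
      (((Over.map f).sheafPushforwardContinuous AddCommGrpCat.{u + 1}
      (Scheme.proetaleTopology.over T) (Scheme.proetaleTopology.over S)).obj I)) := by
    have := Groth.Agent.Lib.Helper36.ProEtRestrictInj.preservesInjectiveObjects_forget (T := T)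
    exact Functor.injective_obj_of_injective _ h1
  refine Injective.of_iso ?_ h2
  exact (fullyFaithfulSheafToPresheaf _ _).preimageIso (Iso.refl _)

end Groth.Agent.S7295
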