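import Groth.Statements.S7305
import Mathlib
import Groth.Agent.S1598

set_option autoImplicit false
universe u
open CategoryTheory CategoryTheory.Limits AlgebraicGeometry
open Resolve

namespace Groth.Agent.S7305.Aux

set_option linter.style.haveILetI false

open IsLocalRing CategoryTheory Groth.Agent.S1598.Aux

/-- quotient-bijectivity: `φ` induces bijections modulo all powers of the ideals of nonunits -/
def QB {R S : Type u} [CommRing R] [CommRing S] (φ : R →+* S) : Prop :=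
  ∀ n : ℕ, (∀ s : S, ∃ r : R, s - φ r ∈ Ideal.span (nonunits S) ^ n) ∧
    (∀ r : R, φ r ∈ Ideal.span (nonunits S) ^ n → r ∈ Ideal.span (nonunits R) ^ n)

theorem map_span_nonunits {S T : Type u} [CommRing S] [CommRing T] (e : S ≃+* T) :
    (Ideal.span (nonunits S)).map (e : S →+* T) = Ideal.span (nonunits T) := by
  rw [Ideal.map_span]
  congr 1
  ext t
  constructor
  · rintro ⟨s, hs, rfl⟩
    intro hu
    apply hs
    have := hu.map e.symm
    simpa using this
  · intro ht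
    refine ⟨e.symm t, ?_, by simp⟩
    intro hu
    apply ht
    have := hu.map e
    simpa using this

theorem mem_span_nonunits_pow_iff {S T : Type u} [CommRing S] [CommRing T] (e : S ≃+* T) (n : ℕ)
    (x : S) : e x ∈ Ideal.span (nonunits T) ^ n ↔ x ∈ Ideal.span (nonunits S) ^ n := by
  rw [← map_span_nonunits e, ← Ideal.map_pow]
  constructor
  · intro h
    have h2 := Ideal.mem_map_of_mem (e.symm : T →+* S) h
    rw [Ideal.map_map] at h2
    simpa using h2
  · intro h
    exact Ideal.mem_map_of_mem (e : S →+* T) h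

theorem qb_respectsIso : RingHom.RespectsIso @QB := by
  constructor
  · intro R S T _ _ _ f e hf n
    obtain ⟨h1, h2⟩ := hf n
    constructor
    · intro t
      obtain ⟨r, hr⟩ := h1 (e.symm t)
      refine ⟨r, ?_⟩
      have := (mem_span_nonunits_pow_iff e n _).mpr hr
      simpa using this
    · intro r hr
      apply h2
      rw [← mem_span_nonunits_pow_iff e n]
      exact hr
  · intro R S T _ _ _ f e hf n
    obtain ⟨h1, h2⟩ := hf n
    constructor
    · intro t
      obtain ⟨r, hr⟩ := h1 t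
      refine ⟨e.symm r, ?_⟩
      simpa using hr
    · intro r hr
      have := h2 (e r) hr
      exact (mem_span_nonunits_pow_iff e n r).mp this

theorem qb_localRingHom {R T : Type u} [CommRing R] [CommRing T] (φ : R →+* T)
    (Q : Ideal T) [Q.IsPrime] (P : Ideal R) [P.IsPrime] (hPQ : P = Q.comap φ)
    (J : Ideal T) (hJQ : J ≤ Q)
    (ha : ∀ (n : ℕ) (t : T), ∃ r : R, t - φ r ∈ J ^ n)
    (hb : ∀ n : ℕ, ∃ (K : Ideal R) (σ : T →+* R ⧸ K), K ≤ P ^ n ∧
      (∀ r, σ (φ r) = Ideal.Quotient.mk K r) ∧ ∀ x ∈ J ^ n, σ x = 0)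
    (hc : Q = P.map φ) :
    QB (Localization.localRingHom P Q φ hPQ) := by
  intro n
  rcases Nat.eq_zero_or_pos n with rfl | hn
  · simp only [pow_zero, Ideal.one_eq_top]
    exact ⟨fun s => ⟨0, trivial⟩, fun _ _ => trivial⟩
  rw [span_nonunits_eq, span_nonunits_eq, ← Localization.AtPrime.map_eq_maximalIdeal,
    ← Localization.AtPrime.map_eq_maximalIdeal, ← Ideal.map_pow, ← Ideal.map_pow]
  have hmem : ∀ a : R, a ∈ P ↔ φ a ∈ Q := fun a => by rw [hPQ]; rfl
  have hJn : J ^ n ≤ Q := (Ideal.pow_le_self hn.ne').trans hJQ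
  have hJQn : J ^ n ≤ Q ^ n := Ideal.pow_right_mono hJQ n
  have hnotP : ∀ (u : T) (u₀ : R), u ∉ Q → u - φ u₀ ∈ J ^ n → u₀ ∉ P := by
    intro u u₀ hu hsub h
    rw [hmem] at h
    have : u ∈ Q := by
      have := Q.add_mem (hJn hsub) h
      simpa using this
    exact hu this
  constructor
  · intro s
    obtain ⟨t, u, rfl⟩ := IsLocalization.exists_mk'_eq Q.primeCompl s
    obtain ⟨r, hr⟩ := ha n t
    obtain ⟨r', hr'⟩ := ha n u
    have hr'P : r' ∉ P := hnotP u r' u.2 hr'
    have hφr' : φ r' ∈ Q.primeCompl := by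
      intro h
      apply hr'P
      rw [hmem]; exact h
    refine ⟨IsLocalization.mk' _ r (⟨r', hr'P⟩ : P.primeCompl), ?_⟩
    rw [Localization.localRingHom_mk', IsLocalization.mem_map_algebraMap_iff Q.primeCompl]
    refine ⟨⟨⟨(t - φ r) * φ r' - φ r * (u - φ r'), ?_⟩, u * ⟨φ r', hφr'⟩⟩, ?_⟩
    · exact (Q ^ n).sub_mem (Ideal.mul_mem_right _ _ (hJQn hr)) (Ideal.mul_mem_left _ _ (hJQn hr'))
    · have h1 : IsLocalization.mk' (Localization.AtPrime Q) t u * algebraMap T _ (u : T) =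
          algebraMap T _ t := IsLocalization.mk'_spec _ t u
      have h2 : IsLocalization.mk' (Localization.AtPrime Q) (φ r) ⟨φ r', hφr'⟩ *
          algebraMap T _ (φ r') = algebraMap T _ (φ r) :=
        IsLocalization.mk'_spec _ (φ r) ⟨φ r', hφr'⟩
      simp only [Submonoid.coe_mul, map_mul, map_sub]
      linear_combination (algebraMap T (Localization.AtPrime Q) (φ r')) * h1 -
        (algebraMap T (Localization.AtPrime Q) (u : T)) * h2
  · intro z hz
    obtain ⟨r, w, rfl⟩ := IsLocalization.exists_mk'_eq P.primeCompl z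
    rw [Localization.localRingHom_mk', IsLocalization.mem_map_algebraMap_iff Q.primeCompl] at hz
    obtain ⟨⟨⟨x, hx⟩, v⟩, hxv⟩ := hz
    have hφw : φ w ∈ Q.primeCompl := by
      intro h
      apply w.2
      exact (hmem _).mpr h
    have h0 : IsLocalization.mk' (Localization.AtPrime Q) (φ r) ⟨φ w, hφw⟩ *
        algebraMap T _ (φ w) = algebraMap T _ (φ r) :=
      IsLocalization.mk'_spec _ (φ r) ⟨φ w, hφw⟩
    have h1 : algebraMap T (Localization.AtPrime Q) (φ r * v) = algebraMap T _ (x * φ w) := by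
      simp only [map_mul]
      simp only at hxv
      linear_combination (algebraMap T (Localization.AtPrime Q) (φ w)) * hxv -
        (algebraMap T (Localization.AtPrime Q) (v : T)) * h0
    obtain ⟨v', hv'⟩ := (IsLocalization.eq_iff_exists Q.primeCompl _).mp h1
    have huQ : (v' : T) * v ∉ Q := (v' * v).2
    have hu : (v' : T) * v * φ r ∈ Q ^ n := by
      have : (v' : T) * v * φ r = v' * (x * φ w) := by rw [← hv']; ring
      rw [this]
      exact Ideal.mul_mem_left _ _ (Ideal.mul_mem_right _ _ hx)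
    obtain ⟨K, σ, hK, hσφ, hσJ⟩ := hb n
    obtain ⟨u₀, hu₀⟩ := ha n ((v' : T) * v)
    have hu₀P : u₀ ∉ P := hnotP _ u₀ huQ hu₀
    have hσu : σ ((v' : T) * v) = Ideal.Quotient.mk K u₀ := by
      have := hσJ _ hu₀
      rw [map_sub, hσφ, sub_eq_zero] at this
      exact this
    have h2 : σ ((v' : T) * v * φ r) ∈ (P ^ n).map (Ideal.Quotient.mk K) := by
      have hQn : Q ^ n = (P ^ n).map φ := by rw [Ideal.map_pow, ← hc]
      rw [hQn] at hu
      have := Ideal.mem_map_of_mem σ hu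
      rw [Ideal.map_map] at this
      have hcomp : σ.comp φ = Ideal.Quotient.mk K := RingHom.ext hσφ
      rwa [hcomp] at this
    rw [map_mul, hσu, hσφ, ← map_mul, Ideal.mem_quotient_iff_mem hK] at h2
    rw [IsLocalization.mem_map_algebraMap_iff P.primeCompl]
    refine ⟨⟨⟨u₀ * r, h2⟩, w * (⟨u₀, hu₀P⟩ : P.primeCompl)⟩, ?_⟩
    have h3 : IsLocalization.mk' (Localization.AtPrime P) r w * algebraMap R _ (w : R) =
        algebraMap R _ r := IsLocalization.mk'_spec _ r w
    simp only [Submonoid.coe_mul, map_mul]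
    linear_combination (algebraMap R (Localization.AtPrime P) u₀) * h3

theorem exists_sub_mem_of_isPushout {A₀ R Ah B : Type u} [CommRing A₀] [CommRing R]
    [CommRing Ah] [CommRing B] [Algebra A₀ R] [Algebra A₀ Ah] [Algebra R B] [Algebra Ah B]
    [Algebra A₀ B] [IsScalarTower A₀ R B] [IsScalarTower A₀ Ah B] [Algebra.IsPushout A₀ R Ah B]
    (𝔪 : Ideal A₀)
    (hT : ∀ t : Ah, ∃ s : A₀, t - algebraMap A₀ Ah s ∈ 𝔪.map (algebraMap A₀ Ah)) (b : B) :
    ∃ r : R, b - algebraMap R B r ∈ 𝔪.map (algebraMap A₀ B) := by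
  have hbc : IsBaseChange R (IsScalarTower.toAlgHom A₀ Ah B).toLinearMap :=
    Algebra.IsPushout.out
  refine hbc.inductionOn b (fun b => ∃ r : R, b - algebraMap R B r ∈ 𝔪.map (algebraMap A₀ B))
    ?_ ?_ ?_ ?_
  · exact ⟨0, by simp⟩
  · intro t
    obtain ⟨s, hs⟩ := hT t
    refine ⟨algebraMap A₀ R s, ?_⟩
    have h1 := Ideal.mem_map_of_mem (algebraMap Ah B) hs
    rw [Ideal.map_map, ← IsScalarTower.algebraMap_eq, map_sub,
      ← IsScalarTower.algebraMap_apply] at h1
    rw [← IsScalarTower.algebraMap_apply]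
    exact h1
  · intro s n ⟨r, hr⟩
    refine ⟨s * r, ?_⟩
    rw [map_mul, Algebra.smul_def, ← mul_sub]
    exact Ideal.mul_mem_left _ _ hr
  · intro n₁ n₂ ⟨r₁, hr₁⟩ ⟨r₂, hr₂⟩
    refine ⟨r₁ + r₂, ?_⟩
    rw [map_add, add_sub_add_comm]
    exact Ideal.add_mem _ hr₁ hr₂

theorem qb_of_isPushout {A₀ R Ah T : Type u} [CommRing A₀] [CommRing R] [CommRing Ah]
    [CommRing T] [Algebra A₀ R] [Algebra A₀ Ah] [Algebra R T] [Algebra Ah T] [Algebra A₀ T]
    [IsScalarTower A₀ R T] [IsScalarTower A₀ Ah T] [Algebra.IsPushout A₀ R Ah T]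
    (𝔪 : Ideal A₀)
    (hT : ∀ (n : ℕ) (t : Ah), ∃ s : A₀,
      t - algebraMap A₀ Ah s ∈ (𝔪 ^ n).map (algebraMap A₀ Ah))
    (hC : ∀ (n : ℕ) (s : A₀), algebraMap A₀ Ah s ∈ (𝔪 ^ n).map (algebraMap A₀ Ah) → s ∈ 𝔪 ^ n)
    (Q : Ideal T) [Q.IsPrime] (hQ : 𝔪.map (algebraMap A₀ T) ≤ Q)
    (P : Ideal R) [P.IsPrime] (hPQ : P = Q.comap (algebraMap R T)) :
    QB (Localization.localRingHom P Q (algebraMap R T) hPQ) := by
  have hmP : 𝔪.map (algebraMap A₀ R) ≤ P := by
    rw [hPQ, Ideal.map_le_iff_le_comap]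
    intro a ha
    rw [Ideal.mem_comap, Ideal.mem_comap, ← IsScalarTower.algebraMap_apply]
    exact hQ (Ideal.mem_map_of_mem _ ha)
  refine qb_localRingHom (algebraMap R T) Q P hPQ (𝔪.map (algebraMap A₀ T)) hQ ?_ ?_ ?_
  · intro n t
    obtain ⟨r, hr⟩ := exists_sub_mem_of_isPushout (R := R) (𝔪 ^ n) (hT n) t
    exact ⟨r, by rw [← Ideal.map_pow]; exact hr⟩
  · intro n
    let K : Ideal R := (𝔪 ^ n).map (algebraMap A₀ R)
    let ψ : A₀ ⧸ 𝔪 ^ n →+* Ah ⧸ (𝔪 ^ n).map (algebraMap A₀ Ah) :=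
      Ideal.quotientMap _ (algebraMap A₀ Ah) Ideal.le_comap_map
    have hψ : Function.Bijective ψ := by
      constructor
      · rw [injective_iff_map_eq_zero]
        intro x hx
        obtain ⟨s, rfl⟩ := Ideal.Quotient.mk_surjective x
        rw [Ideal.quotientMap_mk, Ideal.Quotient.eq_zero_iff_mem] at hx
        exact Ideal.Quotient.eq_zero_iff_mem.mpr (hC n s hx)
      · intro y
        obtain ⟨t, rfl⟩ := Ideal.Quotient.mk_surjective y
        obtain ⟨s, hs⟩ := hT n t
        refine ⟨Ideal.Quotient.mk _ s, ?_⟩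
        rw [Ideal.quotientMap_mk]
        exact (Ideal.Quotient.eq.mpr hs).symm
    let e := RingEquiv.ofBijective ψ hψ
    let ρ : Ah →+* A₀ ⧸ 𝔪 ^ n := (e.symm.toRingHom).comp (Ideal.Quotient.mk _)
    have hρ : ∀ s : A₀, ρ (algebraMap A₀ Ah s) = Ideal.Quotient.mk _ s := by
      intro s
      show e.symm (Ideal.Quotient.mk _ (algebraMap A₀ Ah s)) = _
      rw [RingEquiv.symm_apply_eq]
      show _ = ψ (Ideal.Quotient.mk (𝔪 ^ n) s)
      rw [Ideal.quotientMap_mk]
    let τ : A₀ ⧸ 𝔪 ^ n →+* R ⧸ K := Ideal.quotientMap K (algebraMap A₀ R) Ideal.le_comap_map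
    let gA : Ah →ₐ[A₀] R ⧸ K :=
      { τ.comp ρ with
        commutes' := fun s => by
          show τ (ρ (algebraMap A₀ Ah s)) = _
          rw [hρ, Ideal.quotientMap_mk]
          rfl }
    let σ := Algebra.pushoutDesc T (Ideal.Quotient.mkₐ A₀ K) gA (fun _ _ => mul_comm _ _)
    refine ⟨K, σ.toRingHom, ?_, ?_, ?_⟩
    · show (𝔪 ^ n).map (algebraMap A₀ R) ≤ P ^ n
      rw [Ideal.map_pow]
      exact Ideal.pow_right_mono hmP n
    · intro r
      exact Algebra.pushoutDesc_left T (Ideal.Quotient.mkₐ A₀ K) gA _ r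
    · intro x hx
      have hle : (𝔪.map (algebraMap A₀ T)) ^ n ≤ RingHom.ker σ.toRingHom := by
        rw [← Ideal.map_pow, Ideal.map_le_iff_le_comap]
        intro a ha
        rw [Ideal.mem_comap, RingHom.mem_ker]
        show σ (algebraMap A₀ T a) = 0
        rw [σ.commutes]
        show Ideal.Quotient.mk K (algebraMap A₀ R a) = 0
        exact Ideal.Quotient.eq_zero_iff_mem.mpr (Ideal.mem_map_of_mem _ ha)
      exact hle hx
  · have h1 := eq_map_comap_of_isPushout (A₀ := A₀) (R := R) (Ah := Ah) (B := T) 𝔪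
      (fun t => by simpa using hT 1 t) Q hQ
    rw [← hPQ] at h1
    exact h1

section scheme
open AlgebraicGeometry TopologicalSpace CategoryTheory.Limits

theorem qb_stalkMap_fst_of_isPullback {P X S S' : Scheme.{u}} {g' : P ⟶ X}
    {f' : P ⟶ S'} {f : X ⟶ S} {g : S' ⟶ S} (H : IsPullback g' f' f g) (x' : P)
    (W : S.Opens) (hW : IsAffineOpen W) (W' : S'.Opens) (hW' : IsAffineOpen W')
    (eW' : W' ≤ g ⁻¹ᵁ W) (hxW' : f' x' ∈ W')
    (𝔪 : Ideal Γ(S, W))
    (hT : ∀ (n : ℕ) (t : Γ(S', W')), ∃ s : Γ(S, W),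
      t - (g.appLE W W' eW').hom s ∈ (𝔪 ^ n).map (g.appLE W W' eW').hom)
    (hC : ∀ (n : ℕ) (s : Γ(S, W)),
      (g.appLE W W' eW').hom s ∈ (𝔪 ^ n).map (g.appLE W W' eW').hom → s ∈ 𝔪 ^ n)
    (h𝔪 : 𝔪.map (g.appLE W W' eW').hom ≤ (hW'.primeIdealOf ⟨f' x', hxW'⟩).asIdeal) :
    QB (g'.stalkMap x').hom := by
  have hgf : g (f' x') = f (g' x') := by
    rw [← Scheme.Hom.comp_apply, ← Scheme.Hom.comp_apply, H.w]
  have hxW : f (g' x') ∈ W := by rw [← hgf]; exact eW' hxW'
  obtain ⟨V, hV0, hxV, eV⟩ := Opens.isBasis_iff_nbhd.mp X.isBasis_affineOpens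
    (show g' x' ∈ f ⁻¹ᵁ W from hxW)
  have hV : IsAffineOpen V := hV0
  set UY : P.Opens := g' ⁻¹ᵁ V ⊓ f' ⁻¹ᵁ W' with hUYdef
  have hxUY : x' ∈ UY := ⟨hxV, hxW'⟩
  have e1 : UY ≤ g' ⁻¹ᵁ V := inf_le_left
  have e2 : UY ≤ f' ⁻¹ᵁ W' := inf_le_right
  have hiso := isIso_pushoutSection_of_isAffineOpen H eW' eV hUYdef hW hW' hV
  have hpush := (isIso_pushoutSection_iff H eW' eV hUYdef).mp hiso
  have hUY : IsAffineOpen UY := by
    have : IsAffine (Scheme.Opens.toScheme W) := hW
    have : IsAffine (Scheme.Opens.toScheme W') := hW'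
    have : IsAffine (Scheme.Opens.toScheme V) := hV
    exact .of_isIso (Scheme.Hom.isPullback_resLE H eW' eV hUYdef).isoPullback.hom
  rw [qb_respectsIso.arrow_mk_iso_iff (IsAffineOpen.arrowStalkMapIso g' V hV UY hUY e1 hxUY)]
  algebraize [(f.appLE W V eV).hom, (g.appLE W W' eW').hom, (g'.appLE V UY e1).hom,
    (f'.appLE W' UY e2).hom, ((g'.appLE V UY e1).hom.comp (f.appLE W V eV).hom)]
  have : IsScalarTower Γ(S, W) Γ(X, V) Γ(P, UY) := .of_algebraMap_eq' rfl
  have : IsScalarTower Γ(S, W) Γ(S', W') Γ(P, UY) :=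
    .of_algebraMap_eq' congr($(hpush.w).hom)
  have hP : Algebra.IsPushout Γ(S, W) Γ(X, V) Γ(S', W') Γ(P, UY) :=
    CommRingCat.isPushout_iff_isPushout.mp hpush
  have hq := congr($(IsAffineOpen.comap_primeIdealOf_appLE W' hW' UY hUY e2 hxUY).1)
  simp only [PrimeSpectrum.comap_asIdeal] at hq
  have hp := congr($(IsAffineOpen.comap_primeIdealOf_appLE V hV UY hUY e1 hxUY).1)
  simp only [PrimeSpectrum.comap_asIdeal] at hp
  set Q := (hUY.primeIdealOf ⟨x', hxUY⟩).asIdeal with hQdef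
  have hQ : 𝔪.map (algebraMap Γ(S, W) Γ(P, UY)) ≤ Q := by
    rw [IsScalarTower.algebraMap_eq Γ(S, W) Γ(S', W') Γ(P, UY), ← Ideal.map_map,
      Ideal.map_le_iff_le_comap]
    refine h𝔪.trans ?_
    rw [← hq]
    exact le_rfl
  have hPQ : (hV.primeIdealOf ⟨g' x', e1 hxUY⟩).asIdeal = Q.comap (g'.appLE V UY e1).hom := hp.symm
  change QB (Localization.localRingHom (hV.primeIdealOf ⟨g' x', e1 hxUY⟩).asIdeal Q
    (g'.appLE V UY e1).hom hPQ)
  exact qb_of_isPushout (A₀ := Γ(S, W)) (R := Γ(X, V)) (Ah := Γ(S', W')) (T := Γ(P, UY)) 𝔪 hT hC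
    Q hQ _ hPQ

end scheme

section cpl
variable {A : Type u} [CommRing A] (I : Ideal A)

theorem mem_map_of_evalₐ_eq_zero (hI : I.FG) (n : ℕ) (y : AdicCompletion I A)
    (hy : AdicCompletion.evalₐ I n y = 0) :
    y ∈ (I ^ n).map (algebraMap A (AdicCompletion I A)) := by
  have h1 : AdicCompletion.eval I A n y = 0 := by
    have h2 := AdicCompletion.factor_evalₐ_eq_eval I y (n := n)
      (le_of_eq (by rw [smul_eq_mul, Ideal.mul_top]))
    rw [← h2, hy, map_zero]
  have h3 : y ∈ (I ^ n • ⊤ : Submodule A (AdicCompletion I A)) := by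
    rw [AdicCompletion.pow_smul_top_eq_ker_eval hI]
    exact h1
  rw [Ideal.smul_top_eq_map] at h3
  exact h3

theorem evalₐ_algebraMap (n : ℕ) (s : A) :
    AdicCompletion.evalₐ I n (algebraMap A (AdicCompletion I A) s) = Ideal.Quotient.mk _ s := by
  rw [AdicCompletion.algebraMap_apply, Algebra.algebraMap_self, RingHom.id_apply,
    AdicCompletion.evalₐ_of]

theorem cpl_eq_add_pow (hI : I.FG) (n : ℕ) (t : AdicCompletion I A) :
    ∃ s : A, t - algebraMap A (AdicCompletion I A) s ∈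
      (I ^ n).map (algebraMap A (AdicCompletion I A)) := by
  obtain ⟨s, hs⟩ := Ideal.Quotient.mk_surjective (AdicCompletion.evalₐ I n t)
  refine ⟨s, mem_map_of_evalₐ_eq_zero I hI n _ ?_⟩
  rw [map_sub, evalₐ_algebraMap, hs, sub_self]

theorem mem_pow_of_algebraMap_mem (n : ℕ) (s : A)
    (hs : algebraMap A (AdicCompletion I A) s ∈ (I ^ n).map (algebraMap A (AdicCompletion I A))) :
    s ∈ I ^ n := by
  have hle : (I ^ n).map (algebraMap A (AdicCompletion I A)) ≤
      RingHom.ker (AdicCompletion.evalₐ I n).toRingHom := by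
    rw [Ideal.map_le_iff_le_comap]
    intro a ha
    rw [Ideal.mem_comap, RingHom.mem_ker]
    show AdicCompletion.evalₐ I n (algebraMap A (AdicCompletion I A) a) = 0
    rw [evalₐ_algebraMap]
    exact Ideal.Quotient.eq_zero_iff_mem.mpr ha
  have := hle hs
  rw [RingHom.mem_ker] at this
  have h2 : AdicCompletion.evalₐ I n (algebraMap A (AdicCompletion I A) s) = 0 := this
  rw [evalₐ_algebraMap] at h2
  exact Ideal.Quotient.eq_zero_iff_mem.mp h2

end cpl

section final
open AlgebraicGeometry TopologicalSpace CategoryTheory.Limits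

set_option backward.isDefEq.respectTransparency.types false in
theorem qb_bcCplFst (A : Type u) [CommRing A] [IsLocalRing A] (hm : (maximalIdeal A).FG)
    (X : Scheme.{u}) (f : X ⟶ Spec (CommRingCat.of A))
    (q : Curv2.bcCpl A f)
    (hq : f.base ((Curv2.bcCplFst A f).base q) = IsLocalRing.closedPoint A) :
    QB ((Curv2.bcCplFst A f).stalkMap q).hom := by
  let φ : CommRingCat.of A ⟶ CommRingCat.of (Curv2.cpl A) :=
    CommRingCat.ofHom (algebraMap A (Curv2.cpl A))
  have H : IsPullback (Curv2.bcCplFst A f) (Curv2.bcCplSnd A f) f (Spec.map φ) :=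
    IsPullback.of_hasPullback f (Spec.map φ)
  let eA := Scheme.ΓSpecIso (CommRingCat.of A)
  let eC := Scheme.ΓSpecIso (CommRingCat.of (Curv2.cpl A))
  have eW' : (⊤ : (Spec (CommRingCat.of (Curv2.cpl A))).Opens) ≤ (Spec.map φ) ⁻¹ᵁ ⊤ := le_top
  have happ : (Spec.map φ).appLE ⊤ ⊤ eW' = (Spec.map φ).appTop := by
    simp [Scheme.Hom.appLE]
  have hnat : ∀ s, eC.hom.hom ((Spec.map φ).appTop.hom s) = φ.hom (eA.hom.hom s) := by
    intro s
    have := congr($(Scheme.ΓSpecIso_naturality φ).hom s)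
    exact this
  let EA : Γ(Spec (CommRingCat.of A), ⊤) ≃+* A := eA.commRingCatIsoToRingEquiv
  let EC : Γ(Spec (CommRingCat.of (Curv2.cpl A)), ⊤) ≃+* AdicCompletion (maximalIdeal A) A :=
    eC.commRingCatIsoToRingEquiv
  let G : Γ(Spec (CommRingCat.of A), ⊤) →+* Γ(Spec (CommRingCat.of (Curv2.cpl A)), ⊤) :=
    (Spec.map φ).appTop.hom
  let 𝔪 : Ideal Γ(Spec (CommRingCat.of A), ⊤) := (maximalIdeal A).comap EA.toRingHom
  have h2 : (EC.symm.toRingHom.comp (algebraMap A (AdicCompletion (maximalIdeal A) A))) =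
      G.comp EA.symm.toRingHom := by
    ext a
    change EC.symm (φ.hom a) = G (EA.symm a)
    rw [RingEquiv.symm_apply_eq]
    have := hnat (EA.symm a)
    change EC (G (EA.symm a)) = φ.hom (EA (EA.symm a)) at this
    rw [this, RingEquiv.apply_symm_apply]
  have h3 : (maximalIdeal A).map EA.symm.toRingHom = 𝔪 := Ideal.map_symm EA
  have h3n : ∀ n : ℕ, (maximalIdeal A ^ n).map EA.symm.toRingHom = 𝔪 ^ n := by
    intro n
    rw [Ideal.map_pow, h3]
  have hmem𝔪 : ∀ (n : ℕ) (s : Γ(Spec (CommRingCat.of A), ⊤)), s ∈ 𝔪 ^ n ↔ EA s ∈ maximalIdeal A ^ n := by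
    intro n s
    rw [← h3n n]
    have : (maximalIdeal A ^ n).map EA.symm.toRingHom = (maximalIdeal A ^ n).comap EA.toRingHom :=
      Ideal.map_symm EA
    rw [this, Ideal.mem_comap]
    rfl
  refine qb_stalkMap_fst_of_isPullback H q ⊤ (isAffineOpen_top _) ⊤ (isAffineOpen_top _) eW'
    (Opens.mem_top _) 𝔪 ?_ ?_ ?_
  · intro n t
    obtain ⟨s', hs'⟩ := cpl_eq_add_pow (maximalIdeal A) hm n (EC t)
    refine ⟨EA.symm s', ?_⟩
    rw [happ]
    have h1 := Ideal.mem_map_of_mem EC.symm.toRingHom hs'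
    rw [Ideal.map_map, h2, ← Ideal.map_map, h3n] at h1
    have h4 : EC.symm.toRingHom (EC t - algebraMap A (AdicCompletion (maximalIdeal A) A) s') =
        t - G (EA.symm s') := by
      rw [map_sub]
      congr 1
      · exact EC.symm_apply_apply t
      · exact RingHom.congr_fun h2 s'
    rw [h4] at h1
    exact h1
  · intro n s hs
    rw [happ] at hs
    rw [hmem𝔪]
    apply mem_pow_of_algebraMap_mem (maximalIdeal A) n
    have h1 := Ideal.mem_map_of_mem EC.toRingHom hs
    rw [Ideal.map_map] at h1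
    have h5 : EC.toRingHom.comp G =
        (algebraMap A (AdicCompletion (maximalIdeal A) A)).comp EA.toRingHom :=
      RingHom.ext fun a => hnat a
    rw [h5, ← Ideal.map_map] at h1
    have h6 : (𝔪 ^ n).map EA.toRingHom = maximalIdeal A ^ n := by
      rw [← h3n n, Ideal.map_map]
      have : EA.toRingHom.comp EA.symm.toRingHom = RingHom.id A := by
        ext a; exact EA.apply_symm_apply a
      rw [this, Ideal.map_id]
    rw [h6] at h1
    have h7 : EC.toRingHom (G s) = algebraMap A (AdicCompletion (maximalIdeal A) A) (EA s) := hnat s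
    rw [h7] at h1
    exact h1
  · rw [happ, Ideal.map_le_iff_le_comap]
    have hc := congr($(IsAffineOpen.comap_primeIdealOf_appLE (f := Spec.map φ)
      (x := (Curv2.bcCplSnd A f).base q) ⊤ (isAffineOpen_top _) ⊤ (isAffineOpen_top _) eW'
      (Opens.mem_top _)).1)
    simp only [PrimeSpectrum.comap_asIdeal] at hc
    rw [happ] at hc
    have hpt : (Spec.map φ).base ((Curv2.bcCplSnd A f).base q) = IsLocalRing.closedPoint A := by
      rw [← hq, ← Scheme.Hom.comp_apply, ← Scheme.Hom.comp_apply, H.w]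
    change 𝔪 ≤ Ideal.comap G _
    rw [hc]
    have hcl : IsClosed ({(Spec.map φ).base ((Curv2.bcCplSnd A f).base q)} :
        Set (Spec (CommRingCat.of A))) := by
      rw [hpt]
      exact IsLocalRing.isClosed_singleton_closedPoint _
    have hmax := (isAffineOpen_top (Spec (CommRingCat.of A))).primeIdealOf_isMaximal_of_isClosed
      ⟨(Spec.map φ).base ((Curv2.bcCplSnd A f).base q), Opens.mem_top _⟩ hcl
    haveI : IsLocalRing Γ(Spec (CommRingCat.of A), ⊤) := EA.symm.isLocalRing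
    rw [IsLocalRing.eq_maximalIdeal hmax]
    apply IsLocalRing.le_maximalIdeal
    exact Ideal.comap_ne_top _ (Ideal.IsPrime.ne_top inferInstance)

end final

end Groth.Agent.S7305.Aux

namespace Groth.Agent.S7305

/-- Let (A, m) be a local ring with m finitely generated, f : X → Spec A a scheme over A, and Y = X
×_{Spec A} Spec(A^) the base change to the m-adic completion. Take a point q of Y whose image p in X
maps to the closed point of Spec A. Then the map of local rings O_{X,p} → O_{Y,q} becomes an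
isomorphism after completing both sides: for every n ≥ 1 the induced map O_{X,p}/m_p^n →
O_{Y,q}/m_q^n is bijective. -/
theorem result (A : Type u) [CommRing A] [IsLocalRing A]
    (hm : (IsLocalRing.maximalIdeal A).FG) (X : Scheme.{u}) (f : X ⟶ Spec (CommRingCat.of A))
    (q : ↥(Curv2.bcCpl A f)) (hq : f.base ((Curv2.bcCplFst A f).base q) = IsLocalRing.closedPoint A) (n : ℕ) (hn : 1 ≤ n)
    (h : IsLocalRing.maximalIdeal (X.presheaf.stalk ((Curv2.bcCplFst A f).base q)) ^ n ≤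
      (IsLocalRing.maximalIdeal ((Curv2.bcCpl A f).presheaf.stalk q) ^ n).comap ((Curv2.bcCplFst A f).stalkMap q).hom) :
    Function.Bijective (Ideal.quotientMap (IsLocalRing.maximalIdeal ((Curv2.bcCpl A f).presheaf.stalk q) ^ n)
      ((Curv2.bcCplFst A f).stalkMap q).hom h) := by
  obtain ⟨h1, h2⟩ := Aux.qb_bcCplFst A hm X f q hq n
  rw [Groth.Agent.S1598.Aux.span_nonunits_eq] at h1 h2
  rw [Groth.Agent.S1598.Aux.span_nonunits_eq] at h2
  constructor
  · rw [injective_iff_map_eq_zero]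
    intro x hx
    obtain ⟨r, rfl⟩ := Ideal.Quotient.mk_surjective x
    rw [Ideal.quotientMap_mk, Ideal.Quotient.eq_zero_iff_mem] at hx
    exact Ideal.Quotient.eq_zero_iff_mem.mpr (h2 r hx)
  · intro y
    obtain ⟨s, rfl⟩ := Ideal.Quotient.mk_surjective y
    obtain ⟨r, hr⟩ := h1 s
    refine ⟨Ideal.Quotient.mk _ r, ?_⟩
    rw [Ideal.quotientMap_mk]
    exact (Ideal.Quotient.eq.mpr hr).symm

end Groth.Agent.S7305
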