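import Groth.Statements.S7340
import Mathlib

set_option autoImplicit false
universe u
open Polynomial
open Resolve

namespace Groth.Agent.S7340

section Helpers

theorem lam_facts (p : ℕ) (hp : p.Prime) (k : ℕ) (hk : k + 1 < p) :
    (p.choose (k + 1) / p) * (k + 1) = (p - 1).choose k ∧
    (p.choose (k + 1) / p) * (p - 1 - k) = (p - 1).choose (k + 1) := by
  obtain ⟨n, rfl⟩ : ∃ n, p = n + 1 := ⟨p - 1, (Nat.sub_add_cancel hp.pos).symm⟩
  have hdvd : (n + 1) ∣ (n + 1).choose (k + 1) := hp.dvd_choose_self (Nat.succ_ne_zero k) hk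
  obtain ⟨l, hl⟩ := hdvd
  have hl' : (n + 1).choose (k + 1) / (n + 1) = l := by
    rw [hl, Nat.mul_div_cancel_left _ (Nat.succ_pos n)]
  rw [hl']
  simp only [Nat.add_sub_cancel]
  have h1 := Nat.add_one_mul_choose_eq n k
  rw [hl] at h1
  have F1 : l * (k + 1) = n.choose k := by
    have : (n + 1) * (l * (k + 1)) = (n + 1) * n.choose k := by rw [h1]; ring
    exact Nat.eq_of_mul_eq_mul_left (Nat.succ_pos n) this
  refine ⟨F1, ?_⟩
  have h2 := Nat.choose_succ_right_eq n k
  rw [← F1] at h2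
  have : (k + 1) * (l * (n - k)) = (k + 1) * n.choose (k + 1) := by rw [mul_comm _ (n.choose (k+1)), h2]; ring
  exact Nat.eq_of_mul_eq_mul_left (Nat.succ_pos k) this

variable (p : ℕ) [Fact p.Prime] (R : Type u) [CommRing R] [CharP R p]

theorem psi_add {S : Type u} [CommRing S] [Algebra R S] {M : Type u} [AddCommGroup M] [Module R M]
    (T : Ω[S⁄R] →ₗ[R] M) (hK : ∀ u : S, T (KaehlerDifferential.D R S u) = 0) (g h : S) :
    T ((g + h) ^ (p - 1) • KaehlerDifferential.D R S (g + h)) =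
      T (g ^ (p - 1) • KaehlerDifferential.D R S g) + T (h ^ (p - 1) • KaehlerDifferential.D R S h) := by
  have hp : p.Prime := Fact.out
  obtain ⟨n, hn⟩ : ∃ n, n = p - 1 := ⟨_, rfl⟩
  have hpn : p = n + 1 := by rw [hn, Nat.sub_add_cancel hp.pos]
  rw [← hn]
  -- the primitive
  let E : S := ∑ k ∈ Finset.range n, (p.choose (k + 1) / p) • (g ^ (k + 1) * h ^ (n - k))
  have hterm : ∀ k ∈ Finset.range n,
      KaehlerDifferential.D R S ((p.choose (k + 1) / p) • (g ^ (k + 1) * h ^ (n - k))) =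
        (g ^ k * h ^ (n - k) * (n.choose k : S)) • KaehlerDifferential.D R S g +
        (g ^ (k + 1) * h ^ (n - (k + 1)) * (n.choose (k + 1) : S)) • KaehlerDifferential.D R S h := by
    intro k hk
    have hk' : k + 1 < p := by rw [hpn]; simpa using hk
    obtain ⟨F1, F2⟩ := lam_facts p hp k hk'
    rw [← hn] at F1 F2
    rw [map_nsmul, Derivation.leibniz, Derivation.leibniz_pow, Derivation.leibniz_pow,
      ← F1, ← F2]
    simp only [← Nat.cast_smul_eq_nsmul S, smul_smul, smul_add, Nat.add_sub_cancel]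
    rw [add_comm]
    congr 1
    · congr 1; push_cast; ring
    · congr 1
      have : n - (k + 1) = n - k - 1 := by omega
      rw [this]; push_cast; ring
  have hE : KaehlerDifferential.D R S E =
      ((g + h) ^ n - g ^ n) • KaehlerDifferential.D R S g +
        ((g + h) ^ n - h ^ n) • KaehlerDifferential.D R S h := by
    have e1 : (g + h) ^ n - g ^ n = ∑ k ∈ Finset.range n, g ^ k * h ^ (n - k) * (n.choose k : S) := by
      rw [add_pow, Finset.sum_range_succ]; simp
    have e2 : (g + h) ^ n - h ^ n =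
        ∑ k ∈ Finset.range n, g ^ (k + 1) * h ^ (n - (k + 1)) * (n.choose (k + 1) : S) := by
      rw [add_pow, Finset.sum_range_succ']; simp
    rw [e1, e2, Finset.sum_smul, Finset.sum_smul, ← Finset.sum_add_distrib, map_sum]
    exact Finset.sum_congr rfl hterm
  have key : (g + h) ^ n • KaehlerDifferential.D R S (g + h) =
      g ^ n • KaehlerDifferential.D R S g + h ^ n • KaehlerDifferential.D R S h +
        KaehlerDifferential.D R S E := by
    rw [hE, map_add, sub_smul, sub_smul, smul_add]; abel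
  rw [key, map_add, map_add, hK, add_zero]

/-- `T (g^i dg) = 0` for `i ≤ p - 2` when `T` kills exact forms -/
theorem ty_c1 {S : Type u} [CommRing S] [Algebra R S] {M : Type u} [AddCommGroup M] [Module R M]
    (T : Ω[S⁄R] →ₗ[R] M) (hK : ∀ u : S, T (KaehlerDifferential.D R S u) = 0) (g : S)
    (i : ℕ) (hi : i + 2 ≤ p) : T (g ^ i • KaehlerDifferential.D R S g) = 0 := by
  have hp : p.Prime := Fact.out
  have h := hK (g ^ (i + 1))
  rw [Derivation.leibniz_pow, map_nsmul, Nat.add_sub_cancel, ← Nat.cast_smul_eq_nsmul R] at h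
  have hu : IsUnit ((i + 1 : ℕ) : R) :=
    (CharP.isUnit_natCast_iff (R := R) hp).2 (Nat.not_dvd_of_pos_of_lt (Nat.succ_pos i) (by omega))
  exact (hu.smul_eq_zero).1 h

/-- general monomial formula -/
theorem t_mono {S : Type u} [CommRing S] [Algebra R S] {M : Type u} [AddCommGroup M] [Module R M]
    (T : Ω[S⁄R] →ₗ[R] M) (z : S) (β : R) (ω : M) (hz : z ^ p = algebraMap R S β)
    (hT : ∀ i : ℕ, i + 2 ≤ p → T (z ^ i • KaehlerDifferential.D R S z) = 0)
    (hT' : T (z ^ (p - 1) • KaehlerDifferential.D R S z) = ω) (m : ℕ) :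
    T (z ^ m • KaehlerDifferential.D R S z) = if m % p = p - 1 then β ^ (m / p) • ω else 0 := by
  have hp : 0 < p := (Fact.out : p.Prime).pos
  have hm : z ^ m = algebraMap R S (β ^ (m / p)) * z ^ (m % p) := by
    conv_lhs => rw [← Nat.div_add_mod m p, pow_add, pow_mul, hz, ← map_pow]
  rw [hm, mul_smul, algebraMap_smul, map_smul]
  split_ifs with h
  · rw [h, hT']
  · have hlt : m % p < p := Nat.mod_lt _ hp
    rw [hT _ (by omega), smul_zero]

variable (b : R)

theorem monic_poly : (X ^ p - C b : R[X]).Monic := by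
  have hp : p ≠ 0 := (Fact.out : p.Prime).ne_zero
  have := CharP.nontrivial_of_char_ne_one (R := R) (Fact.out : p.Prime).ne_one
  exact monic_X_pow_sub_C b hp

theorem root_pow : (AdjoinRoot.root (X ^ p - C b : R[X])) ^ p = algebraMap R (AdjoinRoot (X ^ p - C b : R[X])) b := by
  have h := AdjoinRoot.eval₂_root (X ^ p - C b : R[X])
  simp only [eval₂_sub, eval₂_pow, eval₂_X, eval₂_C] at h
  rw [sub_eq_zero] at h
  rw [h]; rfl

theorem algebraMap_inj : Function.Injective (algebraMap R (AdjoinRoot (X ^ p - C b : R[X]))) := by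
  have := CharP.nontrivial_of_char_ne_one (R := R) (Fact.out : p.Prime).ne_one
  have hp : p ≠ 0 := (Fact.out : p.Prime).ne_zero
  rw [injective_iff_map_eq_zero]
  intro c hc
  change AdjoinRoot.mk _ (C c) = 0 at hc
  rw [AdjoinRoot.mk_eq_zero] at hc
  by_contra hne
  refine (monic_poly p R b).not_dvd_of_degree_lt (by simpa using hne) ?_ hc
  rw [degree_X_pow_sub_C (Nat.pos_of_ne_zero hp), degree_C hne]
  exact_mod_cast Nat.pos_of_ne_zero hp

theorem frob_mk (Γ : R[X]) :
    (AdjoinRoot.mk (X ^ p - C b : R[X]) Γ) ^ p = algebraMap R (AdjoinRoot (X ^ p - C b : R[X])) (eval b (Γ.map (frobenius R p))) := by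
  have h : Γ ^ p = expand R p (Γ.map (frobenius R p)) := by
    rw [← map_frobenius_expand (p := p), map_expand]
  rw [← map_pow, h, ← AdjoinRoot.aeval_eq, expand_aeval, root_pow, aeval_algebraMap_apply]
  congr 1

theorem mk_monomial (j : ℕ) (c : R) : AdjoinRoot.mk (X ^ p - C b : R[X]) (monomial j c) =
    c • AdjoinRoot.root (X ^ p - C b) ^ j := by
  rw [← C_mul_X_pow_eq_monomial, map_mul, map_pow, AdjoinRoot.mk_X, AdjoinRoot.mk_C,
    Algebra.smul_def]
  rfl

variable (Ty : Ω[AdjoinRoot (X ^ p - C b : R[X])⁄R] →ₗ[R] Ω[R⁄ℤ])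

/-- `Ty` kills exact forms -/
theorem ty_exact
    (hTy : ∀ i : ℕ, i + 2 ≤ p →
      Ty (AdjoinRoot.root (X ^ p - C b) ^ i • KaehlerDifferential.D R _ (AdjoinRoot.root (X ^ p - C b))) = 0)
    (hTy' : Ty (AdjoinRoot.root (X ^ p - C b) ^ (p - 1) • KaehlerDifferential.D R _ (AdjoinRoot.root (X ^ p - C b))) =
      KaehlerDifferential.D ℤ R b) (u : AdjoinRoot (X ^ p - C b : R[X])) :
    Ty (KaehlerDifferential.D R _ u) = 0 := by
  have hp : 0 < p := (Fact.out : p.Prime).pos
  obtain ⟨Γ, rfl⟩ := AdjoinRoot.mk_surjective (g := (X ^ p - C b : R[X])) u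
  induction Γ using Polynomial.induction_on' with
  | add P Q hP hQ => rw [map_add, map_add, map_add, hP, hQ, add_zero]
  | monomial j c =>
    have e := mk_monomial p R b j c
    rw [e, Derivation.map_smul, map_smul, Derivation.leibniz_pow, map_nsmul]
    rcases Nat.eq_zero_or_pos j with rfl | hj
    · simp
    · rw [t_mono p R Ty _ b _ (root_pow p R b) hTy hTy']
      split_ifs with h
      · have hdvd : p ∣ j := by
          have : (j - 1 + 1) % p = 0 := by
            rw [Nat.add_mod, h]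
            have : 1 % p = 1 := Nat.mod_eq_of_lt (Fact.out : p.Prime).one_lt
            rw [this, Nat.sub_add_cancel hp, Nat.mod_self]
          rw [Nat.sub_add_cancel hj] at this
          exact Nat.dvd_of_mod_eq_zero this
        have : (j : R) = 0 := (CharP.cast_eq_zero_iff R p j).2 hdvd
        rw [← Nat.cast_smul_eq_nsmul R, this, zero_smul, smul_zero]
      · simp

/-- the value on monomials -/
theorem psi_mono
    (hTy : ∀ i : ℕ, i + 2 ≤ p →
      Ty (AdjoinRoot.root (X ^ p - C b) ^ i • KaehlerDifferential.D R _ (AdjoinRoot.root (X ^ p - C b))) = 0)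
    (hTy' : Ty (AdjoinRoot.root (X ^ p - C b) ^ (p - 1) • KaehlerDifferential.D R _ (AdjoinRoot.root (X ^ p - C b))) =
      KaehlerDifferential.D ℤ R b) (c : R) (j : ℕ) :
    Ty ((c • AdjoinRoot.root (X ^ p - C b : R[X]) ^ j) ^ (p - 1) •
        KaehlerDifferential.D R _ (c • AdjoinRoot.root (X ^ p - C b : R[X]) ^ j)) =
      KaehlerDifferential.D ℤ R (c ^ p * b ^ j) := by
  have hp : p.Prime := Fact.out
  have hp0 : (p : R) = 0 := CharP.cast_eq_zero R p
  have hcp : KaehlerDifferential.D ℤ R (c ^ p) = 0 := by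
    rw [Derivation.leibniz_pow, ← Nat.cast_smul_eq_nsmul R, hp0, zero_smul]
  obtain ⟨n, hn⟩ : ∃ n, n = p - 1 := ⟨_, rfl⟩
  have hpn : p = n + 1 := by rw [hn, Nat.sub_add_cancel hp.pos]
  rw [← hn]
  rcases Nat.eq_zero_or_pos j with rfl | hj
  · simp only [pow_zero, mul_one]
    rw [hcp]
    have : KaehlerDifferential.D R (AdjoinRoot (X ^ p - C b : R[X])) (c • 1) = 0 := by
      rw [Derivation.map_smul]; simp
    rw [this, smul_zero, map_zero]
  · obtain ⟨j', rfl⟩ : ∃ j', j = j' + 1 := ⟨j - 1, (Nat.sub_add_cancel hj).symm⟩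
    have key : ∀ (Y Cc : AdjoinRoot (X ^ p - C b : R[X])) (j' n P : ℕ), P = n + 1 →
        (Cc * Y ^ (j' + 1)) ^ n * (Cc * (((j' + 1 : ℕ) : AdjoinRoot (X ^ p - C b : R[X])) * Y ^ j')) =
          (((j' + 1 : ℕ) : AdjoinRoot (X ^ p - C b : R[X])) * Cc ^ (n + 1)) * Y ^ (j' * P + n) := by
      intro Y Cc j' n P hP; subst hP; ring
    have e : (c • AdjoinRoot.root (X ^ p - C b : R[X]) ^ (j' + 1)) ^ n •
        KaehlerDifferential.D R _ (c • AdjoinRoot.root (X ^ p - C b : R[X]) ^ (j' + 1)) =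
        (((j' + 1 : ℕ) : R) * c ^ (n + 1)) • (AdjoinRoot.root (X ^ p - C b : R[X]) ^ (j' * p + n) •
          KaehlerDifferential.D R _ (AdjoinRoot.root (X ^ p - C b : R[X]))) := by
      rw [Derivation.map_smul, Derivation.leibniz_pow, Nat.add_sub_cancel, Algebra.smul_def,
        ← algebraMap_smul (AdjoinRoot (X ^ p - C b : R[X])) c,
        ← algebraMap_smul (AdjoinRoot (X ^ p - C b : R[X])) (((j' + 1 : ℕ) : R) * c ^ (n + 1)),
        ← Nat.cast_smul_eq_nsmul (AdjoinRoot (X ^ p - C b : R[X])), smul_smul, smul_smul, smul_smul,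
        smul_smul, map_mul, map_pow, map_natCast]
      congr 1
      rw [← key _ _ j' n p hpn]
      ring
    rw [e, map_smul, t_mono p R Ty _ b _ (root_pow p R b) hTy hTy']
    have hnp : n < p := by omega
    have hmod : (j' * p + n) % p = p - 1 := by
      rw [Nat.mul_add_mod_of_lt hnp, hn]
    have hdiv : (j' * p + n) / p = j' := by
      rw [Nat.add_div_of_dvd_right (dvd_mul_left _ _), Nat.mul_div_cancel _ hp.pos,
        Nat.div_eq_of_lt hnp, add_zero]
    rw [if_pos hmod, hdiv, Derivation.leibniz, hcp, smul_zero, add_zero, Derivation.leibniz_pow,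
      ← Nat.cast_smul_eq_nsmul R, Nat.add_sub_cancel, ← hpn]
    simp only [smul_smul]
    congr 1; ring

theorem psi_gen
    (hTy : ∀ i : ℕ, i + 2 ≤ p →
      Ty (AdjoinRoot.root (X ^ p - C b) ^ i • KaehlerDifferential.D R _ (AdjoinRoot.root (X ^ p - C b))) = 0)
    (hTy' : Ty (AdjoinRoot.root (X ^ p - C b) ^ (p - 1) • KaehlerDifferential.D R _ (AdjoinRoot.root (X ^ p - C b))) =
      KaehlerDifferential.D ℤ R b) (Γ : R[X]) :
    Ty ((AdjoinRoot.mk (X ^ p - C b : R[X]) Γ) ^ (p - 1) •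
        KaehlerDifferential.D R _ (AdjoinRoot.mk (X ^ p - C b : R[X]) Γ)) =
      KaehlerDifferential.D ℤ R (eval b (Γ.map (frobenius R p))) := by
  induction Γ using Polynomial.induction_on' with
  | add P Q hP hQ =>
    rw [map_add, psi_add p R Ty (ty_exact p R b Ty hTy hTy'), hP, hQ, Polynomial.map_add, eval_add,
      map_add]
  | monomial j c =>
    rw [mk_monomial, psi_mono p R b Ty hTy hTy', Polynomial.map_monomial, eval_monomial,
      frobenius_def]

end Helpers

/-- Let p be a prime number and R an F_p-algebra, a, b ∈ R, S_a = R[x]/(x^p - a) and S_b = R[y]/(y^p -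
b). The trace Tr_x : Ω_{S_a/R} → Ω_R is the R-linear map with x^i dx ↦ 0 for 0 ≤ i ≤ p - 2 and
x^{p-1} dx ↦ da (these determine it, Ω_{S_a/R} being free over R on the x^i dx), and similarly Tr_y.
Then for every R-algebra homomorphism φ : S_a → S_b one has Tr_x = Tr_y ∘ φ_*: for all s, t ∈ S_a,
Tr_x(s dt) = Tr_y(φ(s) dφ(t)). Here Ω_R is the module of absolute differentials Ω_{R/Z}. -/
theorem result (p : ℕ) [Fact p.Prime] (R : Type u) [CommRing R] [CharP R p] (a b : R)
    (φ : AdjoinRoot (X ^ p - C a : R[X]) →ₐ[R] AdjoinRoot (X ^ p - C b : R[X]))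
    (Tx : Ω[AdjoinRoot (X ^ p - C a : R[X])⁄R] →ₗ[R] Ω[R⁄ℤ])
    (Ty : Ω[AdjoinRoot (X ^ p - C b : R[X])⁄R] →ₗ[R] Ω[R⁄ℤ])
    (hTx : ∀ i : ℕ, i + 2 ≤ p →
      Tx (AdjoinRoot.root (X ^ p - C a) ^ i • KaehlerDifferential.D R _ (AdjoinRoot.root (X ^ p - C a))) = 0)
    (hTx' : Tx (AdjoinRoot.root (X ^ p - C a) ^ (p - 1) • KaehlerDifferential.D R _ (AdjoinRoot.root (X ^ p - C a))) =
      KaehlerDifferential.D ℤ R a)
    (hTy : ∀ i : ℕ, i + 2 ≤ p →
      Ty (AdjoinRoot.root (X ^ p - C b) ^ i • KaehlerDifferential.D R _ (AdjoinRoot.root (X ^ p - C b))) = 0)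
    (hTy' : Ty (AdjoinRoot.root (X ^ p - C b) ^ (p - 1) • KaehlerDifferential.D R _ (AdjoinRoot.root (X ^ p - C b))) =
      KaehlerDifferential.D ℤ R b)
    (s t : AdjoinRoot (X ^ p - C a : R[X])) :
    Tx (s • KaehlerDifferential.D R _ t) = Ty (φ s • KaehlerDifferential.D R _ (φ t)) := by
  obtain ⟨x, hx⟩ : ∃ x, x = AdjoinRoot.root (X ^ p - C a : R[X]) := ⟨_, rfl⟩
  obtain ⟨f, hf⟩ : ∃ f, f = φ x := ⟨_, rfl⟩
  have hxp : x ^ p = algebraMap R _ a := by rw [hx]; exact root_pow p R a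
  have hfp : f ^ p = algebraMap R _ a := by
    rw [hf, ← map_pow, hxp, AlgHom.commutes]
  have hK := ty_exact p R b Ty hTy hTy'
  -- (C2)
  have hC2 : Ty (f ^ (p - 1) • KaehlerDifferential.D R _ f) = KaehlerDifferential.D ℤ R a := by
    obtain ⟨Γ, hΓ⟩ := AdjoinRoot.mk_surjective (g := (X ^ p - C b : R[X])) f
    have h1 := frob_mk p R b Γ
    rw [hΓ, hfp] at h1
    have h2 := algebraMap_inj p R b h1
    rw [← hΓ, psi_gen p R b Ty hTy hTy', ← h2]
  have hC1 : ∀ i : ℕ, i + 2 ≤ p → Ty (f ^ i • KaehlerDifferential.D R _ f) = 0 :=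
    fun i hi => ty_c1 p R Ty hK f i hi
  have monoX := t_mono p R Tx x a (KaehlerDifferential.D ℤ R a) hxp (by rw [hx]; exact hTx)
    (by rw [hx]; exact hTx')
  have monoF := t_mono p R Ty f a (KaehlerDifferential.D ℤ R a) hfp hC1 hC2
  have hG : ∀ G : R[X], Tx (aeval x G • KaehlerDifferential.D R _ x) =
      Ty (aeval f G • KaehlerDifferential.D R _ f) := by
    intro G
    induction G using Polynomial.induction_on' with
    | add P Q hP hQ => simp only [map_add, add_smul, hP, hQ]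
    | monomial m c =>
      rw [aeval_monomial, aeval_monomial, mul_smul, mul_smul, algebraMap_smul, algebraMap_smul,
        Tx.map_smul c, Ty.map_smul c, monoX, monoF]
  obtain ⟨S', rfl⟩ := AdjoinRoot.mk_surjective (g := (X ^ p - C a : R[X])) s
  obtain ⟨T', rfl⟩ := AdjoinRoot.mk_surjective (g := (X ^ p - C a : R[X])) t
  have hφ : ∀ P : R[X], φ (aeval x P) = aeval f P := fun P => by rw [hf, aeval_algHom_apply]
  rw [← AdjoinRoot.aeval_eq, ← AdjoinRoot.aeval_eq, ← hx, hφ, hφ, Derivation.map_aeval,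
    Derivation.map_aeval, smul_smul, smul_smul, ← map_mul, ← map_mul]
  exact hG _

end Groth.Agent.S7340
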