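import Groth.Statements.S7341
import Groth.Agent.Lib.Helper36.NTB

set_option autoImplicit false
open Finset
open Models Models.NumericalType

namespace Groth.Agent.S7341

open Groth.Agent.Lib.Helper36 in
/-- The classification of chains of three `(-2)`-indices, in embedding form. -/
theorem aux {n : ℕ} (T : Models.NumericalType n) (hn : 3 < n)
    (v : Fin 3 ↪ Fin n) (hv : ∀ j, T.IsMinusTwo (v j)) (h01 : T.a (v 0) (v 1) ≠ 0) (h12 : T.a (v 1) (v 2) ≠ 0) :
    (T.a (v 0) (v 2) = 0) ∧
    ∃ (u : Fin 3 → Fin n) (w : ℤ), ((∀ j, u j = v j) ∨ (∀ j, u j = v (Fin.rev j))) ∧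
      ((T.w (u 0) = w ∧ T.w (u 1) = w ∧ T.w (u 2) = w ∧ T.a (u 0) (u 1) = w ∧ T.a (u 1) (u 2) = w ∧ T.m (u 1) ≤ 2 * T.m (u 0) ∧ T.m (u 0) + T.m (u 2) ≤ 2 * T.m (u 1) ∧ T.m (u 1) ≤ 2 * T.m (u 2)) ∨
      (T.w (u 0) = w ∧ T.w (u 1) = w ∧ T.w (u 2) = 2 * w ∧ T.a (u 0) (u 1) = w ∧ T.a (u 1) (u 2) = 2 * w ∧ T.m (u 1) ≤ 2 * T.m (u 0) ∧ T.m (u 0) + 2 * T.m (u 2) ≤ 2 * T.m (u 1) ∧ T.m (u 1) ≤ 2 * T.m (u 2)) ∨
      (T.w (u 0) = 2 * w ∧ T.w (u 1) = 2 * w ∧ T.w (u 2) = w ∧ T.a (u 0) (u 1) = 2 * w ∧ T.a (u 1) (u 2) = 2 * w ∧ T.m (u 1) ≤ 2 * T.m (u 0) ∧ T.m (u 0) + T.m (u 2) ≤ 2 * T.m (u 1) ∧ T.m (u 1) ≤ T.m (u 2))) := by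
  have hne : ∀ s t : Fin 3, s ≠ t → v s ≠ v t := fun s t h => v.injective.ne h
  obtain ⟨b01, hb01⟩ := NT.exists_b T (v 0) (v 1)
  obtain ⟨b02, hb02⟩ := NT.exists_b T (v 0) (v 2)
  obtain ⟨b10, hb10⟩ := NT.exists_b T (v 1) (v 0)
  obtain ⟨b12, hb12⟩ := NT.exists_b T (v 1) (v 2)
  obtain ⟨b20, hb20⟩ := NT.exists_b T (v 2) (v 0)
  obtain ⟨b21, hb21⟩ := NT.exists_b T (v 2) (v 1)
  obtain ⟨n01, n10, z01, r01⟩ := NT.b_props T (hne 0 1 (by decide)) hb01 hb10
  obtain ⟨n02, n20, z02, r02⟩ := NT.b_props T (hne 0 2 (by decide)) hb02 hb20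
  obtain ⟨n12, n21, z12, r12⟩ := NT.b_props T (hne 1 2 (by decide)) hb12 hb21
  have l01 : 1 ≤ b01 := by
    have : b01 ≠ 0 := fun h => h01 (by rw [hb01, h, zero_mul])
    omega
  have l10 : 1 ≤ b10 := by omega
  have l12 : 1 ≤ b12 := by
    have : b12 ≠ 0 := fun h => h12 (by rw [hb12, h, zero_mul])
    omega
  have l21 : 1 ≤ b21 := by omega
  have hbmat : ∀ s t : Fin 3, s ≠ t → T.a (v s) (v t) =
      (![![0, b01, b02], ![b10, 0, b12], ![b20, b21, 0]] : Fin 3 → Fin 3 → ℤ) s t * T.w (v s) := by
    intro s t hst
    fin_cases s <;> fin_cases t <;> first | exact absurd rfl hst | assumption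
  have m0 := NT.m_ineq_b_one T (v 0) (hv 0) (v 1) (hne 1 0 (by decide)) hb01
  have m1 := NT.m_ineq_b_two T (v 1) (hv 1) (v 0) (v 2) (hne 0 1 (by decide)) (hne 2 1 (by decide)) (hne 0 2 (by decide)) hb10 hb12
  have m2 := NT.m_ineq_b_one T (v 2) (hv 2) (v 1) (hne 1 2 (by decide)) hb21
  have rv0 : (Fin.rev 0 : Fin 3) = 2 := rfl
  have rv1 : (Fin.rev 1 : Fin 3) = 1 := rfl
  have rv2 : (Fin.rev 2 : Fin 3) = 0 := rfl
  obtain ⟨u, hu⟩ : ∃ u : Fin 3 → Fin n, ∀ j, u j = v (Fin.rev j) := ⟨_, fun _ => rfl⟩
  rcases le_or_gt b02 0 with hc | hc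
  · -- b02 = 0
    rcases le_or_gt b01 1 with hc | hc
    · -- b01 = 1
      rcases le_or_gt b10 1 with hc | hc
      · -- b10 = 1
        rcases le_or_gt b12 1 with hc | hc
        · -- b12 = 1
          rcases le_or_gt b21 1 with hc | hc
          · -- b21 = 1
            have e01 : b01 = 1 := by omega
            have e02 : b02 = 0 := by omega
            have e10 : b10 = 1 := by omega
            have e12 : b12 = 1 := by omega
            have e20 : b20 = 0 := by omega
            have e21 : b21 = 1 := by omega
            subst e01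
            subst e02
            subst e10
            subst e12
            subst e20
            subst e21
            refine ⟨by linarith, v, T.w (v 0), Or.inl (fun _ => rfl), ?_⟩
            refine Or.inl ?_
            refine ⟨by linarith, by linarith, by linarith, by linarith, by linarith, by linarith, by linarith, by linarith⟩
          · -- b21 ≥ 2
            rcases le_or_gt b21 2 with hc | hc
            · -- b21 = 2
              have e01 : b01 = 1 := by omega
              have e02 : b02 = 0 := by omega
              have e10 : b10 = 1 := by omega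
              have e12 : b12 = 1 := by omega
              have e20 : b20 = 0 := by omega
              have e21 : b21 = 2 := by omega
              subst e01
              subst e02
              subst e10
              subst e12
              subst e20
              subst e21
              refine ⟨by linarith, v, T.w (v 2), Or.inl (fun _ => rfl), ?_⟩
              refine Or.inr (Or.inr (?_))
              refine ⟨by linarith, by linarith, by linarith, by linarith, by linarith, by linarith, by linarith, by linarith⟩
            · -- b21 ≥ 3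
              exact (NT.no_config_b T v hn hv _ hbmat ![![0, 1, 0], ![1, 0, 1], ![0, 3, 0]]
                (by intro s t hst; fin_cases s <;> fin_cases t <;> simp <;> omega)
                ![1, 2, 3] (by decide) (by decide) (by decide)).elim
        · -- b12 ≥ 2
          rcases le_or_gt b12 2 with hc | hc
          · -- b12 = 2
            rcases le_or_gt b21 1 with hc | hc
            · -- b21 = 1
              have e01 : b01 = 1 := by omega
              have e02 : b02 = 0 := by omega
              have e10 : b10 = 1 := by omega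
              have e12 : b12 = 2 := by omega
              have e20 : b20 = 0 := by omega
              have e21 : b21 = 1 := by omega
              subst e01
              subst e02
              subst e10
              subst e12
              subst e20
              subst e21
              refine ⟨by linarith, v, T.w (v 0), Or.inl (fun _ => rfl), ?_⟩
              refine Or.inr (Or.inl ?_)
              refine ⟨by linarith, by linarith, by linarith, by linarith, by linarith, by linarith, by linarith, by linarith⟩
            · -- b21 ≥ 2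
              exact (NT.no_config_b T v hn hv _ hbmat ![![0, 1, 0], ![1, 0, 2], ![0, 2, 0]]
                (by intro s t hst; fin_cases s <;> fin_cases t <;> simp <;> omega)
                ![1, 2, 2] (by decide) (by decide) (by decide)).elim
          · -- b12 ≥ 3
            exact (NT.no_config_b T v hn hv _ hbmat ![![0, 1, 0], ![1, 0, 3], ![0, 1, 0]]
              (by intro s t hst; fin_cases s <;> fin_cases t <;> simp <;> omega)
              ![1, 2, 1] (by decide) (by decide) (by decide)).elim
      · -- b10 ≥ 2
        rcases le_or_gt b10 2 with hc | hc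
        · -- b10 = 2
          rcases le_or_gt b12 1 with hc | hc
          · -- b12 = 1
            rcases le_or_gt b21 1 with hc | hc
            · -- b21 = 1
              have e01 : b01 = 1 := by omega
              have e02 : b02 = 0 := by omega
              have e10 : b10 = 2 := by omega
              have e12 : b12 = 1 := by omega
              have e20 : b20 = 0 := by omega
              have e21 : b21 = 1 := by omega
              subst e01
              subst e02
              subst e10
              subst e12
              subst e20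
              subst e21
              refine ⟨by linarith, u, T.w (v 2), Or.inr hu, ?_⟩
              rw [hu 0, hu 1, hu 2, rv0, rv1, rv2]
              refine Or.inr (Or.inl ?_)
              refine ⟨by linarith, by linarith, by linarith, by linarith, by linarith, by linarith, by linarith, by linarith⟩
            · -- b21 ≥ 2
              exact (NT.no_config_b T v hn hv _ hbmat ![![0, 1, 0], ![2, 0, 1], ![0, 2, 0]]
                (by intro s t hst; fin_cases s <;> fin_cases t <;> simp <;> omega)
                ![1, 2, 2] (by decide) (by decide) (by decide)).elim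
          · -- b12 ≥ 2
            exact (NT.no_config_b T v hn hv _ hbmat ![![0, 1, 0], ![2, 0, 2], ![0, 1, 0]]
              (by intro s t hst; fin_cases s <;> fin_cases t <;> simp <;> omega)
              ![1, 2, 1] (by decide) (by decide) (by decide)).elim
        · -- b10 ≥ 3
          exact (NT.no_config_b T v hn hv _ hbmat ![![0, 1, 0], ![3, 0, 1], ![0, 1, 0]]
            (by intro s t hst; fin_cases s <;> fin_cases t <;> simp <;> omega)
            ![1, 2, 1] (by decide) (by decide) (by decide)).elim
    · -- b01 ≥ 2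
      rcases le_or_gt b01 2 with hc | hc
      · -- b01 = 2
        rcases le_or_gt b10 1 with hc | hc
        · -- b10 = 1
          rcases le_or_gt b12 1 with hc | hc
          · -- b12 = 1
            rcases le_or_gt b21 1 with hc | hc
            · -- b21 = 1
              have e01 : b01 = 2 := by omega
              have e02 : b02 = 0 := by omega
              have e10 : b10 = 1 := by omega
              have e12 : b12 = 1 := by omega
              have e20 : b20 = 0 := by omega
              have e21 : b21 = 1 := by omega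
              subst e01
              subst e02
              subst e10
              subst e12
              subst e20
              subst e21
              refine ⟨by linarith, u, T.w (v 0), Or.inr hu, ?_⟩
              rw [hu 0, hu 1, hu 2, rv0, rv1, rv2]
              refine Or.inr (Or.inr (?_))
              refine ⟨by linarith, by linarith, by linarith, by linarith, by linarith, by linarith, by linarith, by linarith⟩
            · -- b21 ≥ 2
              exact (NT.no_config_b T v hn hv _ hbmat ![![0, 2, 0], ![1, 0, 1], ![0, 2, 0]]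
                (by intro s t hst; fin_cases s <;> fin_cases t <;> simp <;> omega)
                ![1, 1, 1] (by decide) (by decide) (by decide)).elim
          · -- b12 ≥ 2
            exact (NT.no_config_b T v hn hv _ hbmat ![![0, 2, 0], ![1, 0, 2], ![0, 1, 0]]
              (by intro s t hst; fin_cases s <;> fin_cases t <;> simp <;> omega)
              ![2, 2, 1] (by decide) (by decide) (by decide)).elim
        · -- b10 ≥ 2
          exact (NT.no_config_b T v hn hv _ hbmat ![![0, 2, 0], ![2, 0, 1], ![0, 1, 0]]
            (by intro s t hst; fin_cases s <;> fin_cases t <;> simp <;> omega)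
            ![2, 2, 1] (by decide) (by decide) (by decide)).elim
      · -- b01 ≥ 3
        exact (NT.no_config_b T v hn hv _ hbmat ![![0, 3, 0], ![1, 0, 1], ![0, 1, 0]]
          (by intro s t hst; fin_cases s <;> fin_cases t <;> simp <;> omega)
          ![3, 2, 1] (by decide) (by decide) (by decide)).elim
  · -- b02 ≥ 1
    exact (NT.no_config_b T v hn hv _ hbmat ![![0, 1, 1], ![1, 0, 1], ![1, 1, 0]]
      (by intro s t hst; fin_cases s <;> fin_cases t <;> simp <;> omega)
      ![1, 1, 1] (by decide) (by decide) (by decide)).elim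

/-- Classification of proper subgraphs which are chains of three vertices: let T be a numerical type on
n > 3 indices and i, j, k distinct (-2)-indices with a_ij > 0 and a_jk > 0. Then a_ik = 0 and, up to
reversing the order of i, j, k, one of the following holds for some integer w: (A3) w_i = w_j = w_k
= w, a_ij = a_jk = w, with 2 m_i ≥ m_j, 2 m_j ≥ m_i + m_k, 2 m_k ≥ m_j; (C3) w_i = w_j = w, w_k =
2w, a_ij = w, a_jk = 2w, with 2 m_i ≥ m_j, 2 m_j ≥ m_i + 2 m_k, 2 m_k ≥ m_j; (B3) w_i = w_j = 2w,
w_k = w, a_ij = a_jk = 2w, with 2 m_i ≥ m_j, 2 m_j ≥ m_i + m_k, m_k ≥ m_j. -/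
theorem result {n : ℕ} (T : Models.NumericalType n) (hn : 3 < n) (i j k : Fin n)
    (hij : i ≠ j) (hjk : j ≠ k) (hik : i ≠ k) (hi : T.IsMinusTwo i) (hj : T.IsMinusTwo j) (hk : T.IsMinusTwo k)
    (h1 : 0 < T.a i j) (h2 : 0 < T.a j k) :
    T.a i k = 0 ∧ ∃ (i' k' : Fin n) (w : ℤ), ((i' = i ∧ k' = k) ∨ (i' = k ∧ k' = i)) ∧
      ((T.w i' = w ∧ T.w j = w ∧ T.w k' = w ∧ T.a i' j = w ∧ T.a j k' = w ∧
          T.m j ≤ 2 * T.m i' ∧ T.m i' + T.m k' ≤ 2 * T.m j ∧ T.m j ≤ 2 * T.m k') ∨
        (T.w i' = w ∧ T.w j = w ∧ T.w k' = 2 * w ∧ T.a i' j = w ∧ T.a j k' = 2 * w ∧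
          T.m j ≤ 2 * T.m i' ∧ T.m i' + 2 * T.m k' ≤ 2 * T.m j ∧ T.m j ≤ 2 * T.m k') ∨
        (T.w i' = 2 * w ∧ T.w j = 2 * w ∧ T.w k' = w ∧ T.a i' j = 2 * w ∧ T.a j k' = 2 * w ∧
          T.m j ≤ 2 * T.m i' ∧ T.m i' + T.m k' ≤ 2 * T.m j ∧ T.m j ≤ T.m k')) := by
  have hinj : Function.Injective (![i, j, k] : Fin 3 → Fin n) := by
    intro s t hst
    fin_cases s <;> fin_cases t <;> first | rfl | (exfalso; simp at hst; first | exact hij hst | exact hij hst.symm | exact hjk hst | exact hjk hst.symm | exact hik hst | exact hik hst.symm)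
  let v : Fin 3 ↪ Fin n := ⟨![i, j, k], hinj⟩
  have hv : ∀ s, T.IsMinusTwo (v s) := by
    intro s; fin_cases s
    exacts [hi, hj, hk]
  obtain ⟨h02, u, w, hor, hcl⟩ := aux T hn v hv (show T.a i j ≠ 0 from h1.ne') (show T.a j k ≠ 0 from h2.ne')
  refine ⟨h02, ?_⟩
  rcases hor with hor | hor
  · have e0 : u 0 = i := hor 0
    have e1 : u 1 = j := hor 1
    have e2 : u 2 = k := hor 2
    rw [e0, e1, e2] at hcl
    exact ⟨i, k, w, Or.inl ⟨rfl, rfl⟩, hcl⟩
  · have e0 : u 0 = k := hor 0
    have e1 : u 1 = j := hor 1
    have e2 : u 2 = i := hor 2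
    rw [e0, e1, e2] at hcl
    exact ⟨k, i, w, Or.inr ⟨rfl, rfl⟩, hcl⟩

end Groth.Agent.S7341
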