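import Groth.Statements.S7342
import Groth.Agent.Lib.Helper36.NTRow

set_option autoImplicit false
open Finset
open Models Models.NumericalType

namespace Groth.Agent.S7342

open Groth.Agent.Lib.Helper36 in
/-- Let T be a numerical type on n indices, t ≥ 4 and n > t + 2. Then no t + 2 (-2)-indices of T,
pairwise distinct and numbered i_0, …, i_{t+1}, satisfy: a_{i_j i_{j+1}} > 0 for 1 ≤ j ≤ t - 1,
a_{i_0 i_2} > 0 and a_{i_{t-1} i_{t+1}} > 0. -/
theorem result {n : ℕ} (T : Models.NumericalType n) (t : ℕ) (ht : 4 ≤ t) (hn : t + 2 < n)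
    (v : Fin (t + 2) ↪ Fin n) (hv : ∀ j, T.IsMinusTwo (v j))
    (hchain : ∀ j j' : Fin (t + 2), 1 ≤ j.val → j.val + 1 ≤ t → j'.val = j.val + 1 → 0 < T.a (v j) (v j'))
    (h02 : ∀ j j' : Fin (t + 2), j.val = 0 → j'.val = 2 → 0 < T.a (v j) (v j'))
    (hlast : ∀ j j' : Fin (t + 2), j.val = t - 1 → j'.val = t + 1 → 0 < T.a (v j) (v j')) : False := by
  -- the weight vector of the extended Dynkin diagram
  let x : Fin (t + 2) → ℤ := fun j =>
    if j.val = 0 ∨ j.val = 1 ∨ j.val = t ∨ j.val = t + 1 then 1 else 2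
  have hx1 : ∀ j : Fin (t + 2), (j.val = 0 ∨ j.val = 1 ∨ j.val = t ∨ j.val = t + 1) → x j = 1 :=
    fun j h => if_pos h
  have hx2 : ∀ j : Fin (t + 2), ¬ (j.val = 0 ∨ j.val = 1 ∨ j.val = t ∨ j.val = t + 1) → x j = 2 :=
    fun j h => if_neg h
  have X1 : ∀ (j : Fin (t + 2)) (m : ℕ), j.val = m → (m = 0 ∨ m = 1 ∨ m = t ∨ m = t + 1) →
      x j = 1 := fun j m hm h => hx1 j (by omega)
  have X2 : ∀ (j : Fin (t + 2)) (m : ℕ), j.val = m → 2 ≤ m → m + 1 ≤ t → x j = 2 :=
    fun j m hm h1 h2 => hx2 j (by omega)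
  have hxpos : ∀ j, 0 < x j := by
    intro j
    by_cases h : j.val = 0 ∨ j.val = 1 ∨ j.val = t ∨ j.val = t + 1
    · rw [hx1 j h]; norm_num
    · rw [hx2 j h]; norm_num
  have hx0 : ∀ j, 0 ≤ x j := fun j => (hxpos j).le
  -- symmetric versions of the hypotheses
  have hchain' : ∀ j j' : Fin (t + 2), 1 ≤ j.val → j.val + 1 ≤ t → j'.val = j.val + 1 →
      T.a (v j') (v j) ≠ 0 := by
    intro j j' h1 h2 h3
    rw [NT.a_comm]; exact (hchain j j' h1 h2 h3).ne'
  have h02' : ∀ j j' : Fin (t + 2), j.val = 0 → j'.val = 2 → T.a (v j') (v j) ≠ 0 := by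
    intro j j' h1 h2
    rw [NT.a_comm]; exact (h02 j j' h1 h2).ne'
  have hlast' : ∀ j j' : Fin (t + 2), j.val = t - 1 → j'.val = t + 1 → T.a (v j') (v j) ≠ 0 := by
    intro j j' h1 h2
    rw [NT.a_comm]; exact (hlast j j' h1 h2).ne'
  have NE : ∀ (j j' : Fin (t + 2)), j.val ≠ j'.val → j ≠ j' := fun j j' h => Fin.ne_of_val_ne h
  refine NT.no_nonneg_vector_emb T v (by omega) hn x hxpos fun s => ?_
  have hsv := s.isLt
  -- case analysis on the position of `s`
  by_cases c0 : s.val = 0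
  · let p : Fin (t + 2) := ⟨2, by omega⟩
    have hp : p.val = 2 := rfl
    refine NT.row_nonneg_one T v x hx0 s (hv s) p (NE _ _ (by omega)) (h02 s p c0 hp).ne' ?_
    rw [X1 s 0 c0 (by omega), X2 p 2 hp (by omega) (by omega)]
    norm_num
  by_cases c1 : s.val = 1
  · let p : Fin (t + 2) := ⟨2, by omega⟩
    have hp : p.val = 2 := rfl
    refine NT.row_nonneg_one T v x hx0 s (hv s) p (NE _ _ (by omega))
      (hchain s p (by omega) (by omega) (by omega)).ne' ?_
    rw [X1 s 1 c1 (by omega), X2 p 2 hp (by omega) (by omega)]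
    norm_num
  by_cases c2 : s.val = 2
  · let p : Fin (t + 2) := ⟨0, by omega⟩
    let q : Fin (t + 2) := ⟨1, by omega⟩
    let r : Fin (t + 2) := ⟨3, by omega⟩
    have hp : p.val = 0 := rfl
    have hq : q.val = 1 := rfl
    have hr : r.val = 3 := rfl
    refine NT.row_nonneg_three T v x hx0 s (hv s) p q r
      (NE _ _ (by omega)) (NE _ _ (by omega)) (NE _ _ (by omega))
      (NE _ _ (by omega)) (NE _ _ (by omega)) (NE _ _ (by omega))
      (h02' p s hp c2)
      (hchain' q s (by omega) (by omega) (by omega))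
      (hchain s r (by omega) (by omega) (by omega)).ne' ?_
    rw [X2 s 2 c2 (by omega) (by omega), X1 p 0 hp (by omega), X1 q 1 hq (by omega),
      X2 r 3 hr (by omega) (by omega)]
    norm_num
  by_cases c3 : s.val + 2 ≤ t
  · -- middle vertex, `3 ≤ s ≤ t - 2`
    let p : Fin (t + 2) := ⟨s.val - 1, by omega⟩
    let q : Fin (t + 2) := ⟨s.val + 1, by omega⟩
    have hp : p.val = s.val - 1 := rfl
    have hq : q.val = s.val + 1 := rfl
    refine NT.row_nonneg_two T v x hx0 s (hv s) p q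
      (NE _ _ (by omega)) (NE _ _ (by omega)) (NE _ _ (by omega))
      (hchain' p s (by omega) (by omega) (by omega))
      (hchain s q (by omega) (by omega) (by omega)).ne' ?_
    rw [X2 s s.val rfl (by omega) (by omega), X2 p _ hp (by omega) (by omega),
      X2 q _ hq (by omega) (by omega)]
    norm_num
  by_cases c4 : s.val + 1 = t
  · -- `s = t - 1`
    let p : Fin (t + 2) := ⟨t - 2, by omega⟩
    let q : Fin (t + 2) := ⟨t, by omega⟩
    let r : Fin (t + 2) := ⟨t + 1, by omega⟩
    have hp : p.val = t - 2 := rfl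
    have hq : q.val = t := rfl
    have hr : r.val = t + 1 := rfl
    refine NT.row_nonneg_three T v x hx0 s (hv s) p q r
      (NE _ _ (by omega)) (NE _ _ (by omega)) (NE _ _ (by omega))
      (NE _ _ (by omega)) (NE _ _ (by omega)) (NE _ _ (by omega))
      (hchain' p s (by omega) (by omega) (by omega))
      (hchain s q (by omega) (by omega) (by omega)).ne'
      (hlast s r (by omega) hr).ne' ?_
    rw [X2 s s.val rfl (by omega) (by omega), X2 p _ hp (by omega) (by omega),
      X1 q _ hq (by omega), X1 r _ hr (by omega)]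
    norm_num
  by_cases c5 : s.val = t
  · let p : Fin (t + 2) := ⟨t - 1, by omega⟩
    have hp : p.val = t - 1 := rfl
    refine NT.row_nonneg_one T v x hx0 s (hv s) p (NE _ _ (by omega))
      (hchain' p s (by omega) (by omega) (by omega)) ?_
    rw [X1 s _ c5 (by omega), X2 p _ hp (by omega) (by omega)]
    norm_num
  · have c6 : s.val = t + 1 := by omega
    let p : Fin (t + 2) := ⟨t - 1, by omega⟩
    have hp : p.val = t - 1 := rfl
    refine NT.row_nonneg_one T v x hx0 s (hv s) p (NE _ _ (by omega)) (hlast' p s hp c6) ?_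
    rw [X1 s _ c6 (by omega), X2 p _ hp (by omega) (by omega)]
    norm_num

end Groth.Agent.S7342
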