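import Groth.Statements.S7346
import Groth.Agent.Lib.Helper36.NTLaced
import Groth.Agent.Lib.Helper36.NTMult

set_option autoImplicit false
open Finset
open Models Models.NumericalType

namespace Groth.Agent.S7346

open Groth.Agent.Lib.Helper36 in
/-- Classification of proper subgraphs of type D4 (one vertex joined to three others): let T be a
numerical type on n > 4 indices and i_1, …, i_4 distinct (-2)-indices with a_{12}, a_{13}, a_{14}
nonzero. Then for some integer w all w_{i_j} equal w, these intersection numbers equal w, all other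
a_{i_j i_k} (j ≠ k) vanish, and 2 m_1 ≥ m_2 + m_3 + m_4, 2 m_2 ≥ m_1, 2 m_3 ≥ m_1, 2 m_4 ≥ m_1. -/
theorem result {n : ℕ} (T : Models.NumericalType n) (hn : 4 < n)
    (v : Fin 4 ↪ Fin n) (hv : ∀ j, T.IsMinusTwo (v j)) (h01 : T.a (v 0) (v 1) ≠ 0) (h02 : T.a (v 0) (v 2) ≠ 0) (h03 : T.a (v 0) (v 3) ≠ 0) :
    ∃ w : ℤ, (∀ j : Fin 4, T.w (v j) = w) ∧
      T.a (v 0) (v 1) = w ∧
      T.a (v 0) (v 2) = w ∧
      T.a (v 0) (v 3) = w ∧
      T.a (v 1) (v 2) = 0 ∧
      T.a (v 1) (v 3) = 0 ∧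
      T.a (v 2) (v 3) = 0 ∧
      T.m (v 1) + T.m (v 2) + T.m (v 3) ≤ 2 * T.m (v 0) ∧
      T.m (v 0) ≤ 2 * T.m (v 1) ∧
      T.m (v 0) ≤ 2 * T.m (v 2) ∧
      T.m (v 0) ≤ 2 * T.m (v 3) := by
  have hne : ∀ s t : Fin 4, s ≠ t → v s ≠ v t := fun s t h => v.injective.ne h
  have hE : ∀ e ∈ ([(0, 1), (0, 2), (0, 3)] : List (Fin 4 × Fin 4)), e.1 ≠ e.2 ∧ T.a (v e.1) (v e.2) ≠ 0 := by
    simp only [List.mem_cons, List.not_mem_nil, or_false, forall_eq_or_imp, forall_eq]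
    exact ⟨⟨by decide, h01⟩, ⟨by decide, h02⟩, ⟨by decide, h03⟩⟩
  have key := NT.simply_laced T v (by norm_num) hn hv [(0, 1), (0, 2), (0, 3)] hE
    ![![![1, 1, 1, 1], ![2, 1, 1, 1], ![2, 1, 1, 1], ![2, 1, 1, 1]],
      ![![2, 2, 1, 1], ![1, 1, 1, 1], ![2, 2, 2, 1], ![2, 2, 1, 2]],
      ![![2, 1, 2, 1], ![2, 2, 2, 1], ![1, 1, 1, 1], ![2, 1, 2, 2]],
      ![![2, 1, 1, 2], ![2, 2, 1, 2], ![2, 1, 2, 2], ![1, 1, 1, 1]]]
    (by decide)
  have a01 : T.a (v 0) (v 1) = T.w (v 0) := (key 0 1 (by decide)).trans (if_pos (by decide))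
  have a02 : T.a (v 0) (v 2) = T.w (v 0) := (key 0 2 (by decide)).trans (if_pos (by decide))
  have a03 : T.a (v 0) (v 3) = T.w (v 0) := (key 0 3 (by decide)).trans (if_pos (by decide))
  have a10 : T.a (v 1) (v 0) = T.w (v 1) := (key 1 0 (by decide)).trans (if_pos (by decide))
  have a12 : T.a (v 1) (v 2) = 0 := (key 1 2 (by decide)).trans (if_neg (by decide))
  have a13 : T.a (v 1) (v 3) = 0 := (key 1 3 (by decide)).trans (if_neg (by decide))
  have a20 : T.a (v 2) (v 0) = T.w (v 2) := (key 2 0 (by decide)).trans (if_pos (by decide))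
  have a23 : T.a (v 2) (v 3) = 0 := (key 2 3 (by decide)).trans (if_neg (by decide))
  have a30 : T.a (v 3) (v 0) = T.w (v 3) := (key 3 0 (by decide)).trans (if_pos (by decide))
  have hw1 : T.w (v 1) = T.w (v 0) := (NT.simply_laced_w_eq T v [(0, 1), (0, 2), (0, 3)] key 0 1 (by decide) (by decide)).symm
  have hw2 : T.w (v 2) = T.w (v 0) := (NT.simply_laced_w_eq T v [(0, 1), (0, 2), (0, 3)] key 0 2 (by decide) (by decide)).symm
  have hw3 : T.w (v 3) = T.w (v 0) := (NT.simply_laced_w_eq T v [(0, 1), (0, 2), (0, 3)] key 0 3 (by decide) (by decide)).symm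
  refine ⟨T.w (v 0), ?_, ?_, ?_, ?_, ?_, ?_, ?_, ?_, ?_, ?_, ?_⟩
  · intro j; fin_cases j
    exacts [rfl, hw1, hw2, hw3]
  · exact a01
  · exact a02
  · exact a03
  · exact a12
  · exact a13
  · exact a23
  · have h := NT.m_ineq_three T (v 0) (hv 0) (v 1) (v 2) (v 3) (hne 1 0 (by decide)) (hne 2 0 (by decide)) (hne 3 0 (by decide)) (hne 1 2 (by decide)) (hne 1 3 (by decide)) (hne 2 3 (by decide))
    rw [a01, a02, a03] at h
    have hw := T.w_pos (v 0)
    exact le_of_mul_le_mul_left (by linarith : T.w (v 0) * (T.m (v 1) + T.m (v 2) + T.m (v 3)) ≤ T.w (v 0) * (2 * T.m (v 0))) hw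
  · have h := NT.m_ineq_one T (v 1) (hv 1) (v 0) (hne 0 1 (by decide))
    rw [a10] at h
    have hw := T.w_pos (v 1)
    exact le_of_mul_le_mul_left (by linarith : T.w (v 1) * (T.m (v 0)) ≤ T.w (v 1) * (2 * T.m (v 1))) hw
  · have h := NT.m_ineq_one T (v 2) (hv 2) (v 0) (hne 0 2 (by decide))
    rw [a20] at h
    have hw := T.w_pos (v 2)
    exact le_of_mul_le_mul_left (by linarith : T.w (v 2) * (T.m (v 0)) ≤ T.w (v 2) * (2 * T.m (v 2))) hw
  · have h := NT.m_ineq_one T (v 3) (hv 3) (v 0) (hne 0 3 (by decide))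
    rw [a30] at h
    have hw := T.w_pos (v 3)
    exact le_of_mul_le_mul_left (by linarith : T.w (v 3) * (T.m (v 0)) ≤ T.w (v 3) * (2 * T.m (v 3))) hw

end Groth.Agent.S7346
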