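import Groth.Statements.S7347
import Groth.Agent.Lib.Helper36.NTLaced
import Groth.Agent.Lib.Helper36.NTMult

set_option autoImplicit false
open Finset
open Models Models.NumericalType

namespace Groth.Agent.S7347

open Groth.Agent.Lib.Helper36 in
/-- Classification of proper subgraphs of type D5 (a chain i_1 i_2 i_3 with i_4 and i_5 both joined to
i_3): let T be a numerical type on n > 5 indices and i_1, …, i_5 distinct (-2)-indices with a_{12},
a_{23}, a_{34}, a_{35} nonzero. Then for some integer w all w_{i_j} equal w, these intersection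
numbers equal w, all other a_{i_j i_k} (j ≠ k) vanish, and 2 m_1 ≥ m_2, 2 m_2 ≥ m_1 + m_3, 2 m_3 ≥
m_2 + m_4 + m_5, 2 m_4 ≥ m_3, 2 m_5 ≥ m_3. -/
theorem result {n : ℕ} (T : Models.NumericalType n) (hn : 5 < n)
    (v : Fin 5 ↪ Fin n) (hv : ∀ j, T.IsMinusTwo (v j)) (h01 : T.a (v 0) (v 1) ≠ 0) (h12 : T.a (v 1) (v 2) ≠ 0) (h23 : T.a (v 2) (v 3) ≠ 0) (h24 : T.a (v 2) (v 4) ≠ 0) :
    ∃ w : ℤ, (∀ j : Fin 5, T.w (v j) = w) ∧
      T.a (v 0) (v 1) = w ∧
      T.a (v 1) (v 2) = w ∧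
      T.a (v 2) (v 3) = w ∧
      T.a (v 2) (v 4) = w ∧
      T.a (v 0) (v 2) = 0 ∧
      T.a (v 0) (v 3) = 0 ∧
      T.a (v 0) (v 4) = 0 ∧
      T.a (v 1) (v 3) = 0 ∧
      T.a (v 1) (v 4) = 0 ∧
      T.a (v 3) (v 4) = 0 ∧
      T.m (v 1) ≤ 2 * T.m (v 0) ∧
      T.m (v 0) + T.m (v 2) ≤ 2 * T.m (v 1) ∧
      T.m (v 1) + T.m (v 3) + T.m (v 4) ≤ 2 * T.m (v 2) ∧
      T.m (v 2) ≤ 2 * T.m (v 3) ∧
      T.m (v 2) ≤ 2 * T.m (v 4) := by
  have hne : ∀ s t : Fin 5, s ≠ t → v s ≠ v t := fun s t h => v.injective.ne h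
  have hE : ∀ e ∈ ([(0, 1), (1, 2), (2, 3), (2, 4)] : List (Fin 5 × Fin 5)), e.1 ≠ e.2 ∧ T.a (v e.1) (v e.2) ≠ 0 := by
    simp only [List.mem_cons, List.not_mem_nil, or_false, forall_eq_or_imp, forall_eq]
    exact ⟨⟨by decide, h01⟩, ⟨by decide, h12⟩, ⟨by decide, h23⟩, ⟨by decide, h24⟩⟩
  have key := NT.simply_laced T v (by norm_num) hn hv [(0, 1), (1, 2), (2, 3), (2, 4)] hE
    ![![![1, 1, 1, 1, 1], ![2, 2, 2, 1, 1], ![2, 2, 2, 1, 1], ![2, 2, 2, 2, 1], ![2, 2, 2, 1, 2]],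
      ![![1, 2, 2, 1, 1], ![1, 1, 1, 1, 1], ![2, 5, 4, 2, 2], ![1, 2, 2, 2, 1], ![1, 2, 2, 1, 2]],
      ![![2, 2, 2, 1, 1], ![1, 2, 4, 2, 2], ![1, 1, 1, 1, 1], ![3, 6, 10, 5, 5], ![3, 6, 10, 5, 5]],
      ![![2, 2, 2, 2, 1], ![1, 2, 2, 2, 1], ![3, 6, 10, 10, 5], ![1, 1, 1, 1, 1], ![1, 2, 4, 3, 3]],
      ![![2, 2, 2, 1, 2], ![1, 2, 2, 1, 2], ![3, 6, 10, 5, 10], ![1, 2, 4, 3, 3], ![1, 1, 1, 1, 1]]]
    (by decide)
  have a01 : T.a (v 0) (v 1) = T.w (v 0) := (key 0 1 (by decide)).trans (if_pos (by decide))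
  have a02 : T.a (v 0) (v 2) = 0 := (key 0 2 (by decide)).trans (if_neg (by decide))
  have a03 : T.a (v 0) (v 3) = 0 := (key 0 3 (by decide)).trans (if_neg (by decide))
  have a04 : T.a (v 0) (v 4) = 0 := (key 0 4 (by decide)).trans (if_neg (by decide))
  have a10 : T.a (v 1) (v 0) = T.w (v 1) := (key 1 0 (by decide)).trans (if_pos (by decide))
  have a12 : T.a (v 1) (v 2) = T.w (v 1) := (key 1 2 (by decide)).trans (if_pos (by decide))
  have a13 : T.a (v 1) (v 3) = 0 := (key 1 3 (by decide)).trans (if_neg (by decide))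
  have a14 : T.a (v 1) (v 4) = 0 := (key 1 4 (by decide)).trans (if_neg (by decide))
  have a21 : T.a (v 2) (v 1) = T.w (v 2) := (key 2 1 (by decide)).trans (if_pos (by decide))
  have a23 : T.a (v 2) (v 3) = T.w (v 2) := (key 2 3 (by decide)).trans (if_pos (by decide))
  have a24 : T.a (v 2) (v 4) = T.w (v 2) := (key 2 4 (by decide)).trans (if_pos (by decide))
  have a32 : T.a (v 3) (v 2) = T.w (v 3) := (key 3 2 (by decide)).trans (if_pos (by decide))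
  have a34 : T.a (v 3) (v 4) = 0 := (key 3 4 (by decide)).trans (if_neg (by decide))
  have a42 : T.a (v 4) (v 2) = T.w (v 4) := (key 4 2 (by decide)).trans (if_pos (by decide))
  have hw1 : T.w (v 1) = T.w (v 0) := (NT.simply_laced_w_eq T v [(0, 1), (1, 2), (2, 3), (2, 4)] key 0 1 (by decide) (by decide)).symm
  have hw2 : T.w (v 2) = T.w (v 0) := (NT.simply_laced_w_eq T v [(0, 1), (1, 2), (2, 3), (2, 4)] key 1 2 (by decide) (by decide)).symm.trans hw1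
  have hw3 : T.w (v 3) = T.w (v 0) := (NT.simply_laced_w_eq T v [(0, 1), (1, 2), (2, 3), (2, 4)] key 2 3 (by decide) (by decide)).symm.trans hw2
  have hw4 : T.w (v 4) = T.w (v 0) := (NT.simply_laced_w_eq T v [(0, 1), (1, 2), (2, 3), (2, 4)] key 2 4 (by decide) (by decide)).symm.trans hw2
  refine ⟨T.w (v 0), ?_, ?_, ?_, ?_, ?_, ?_, ?_, ?_, ?_, ?_, ?_, ?_, ?_, ?_, ?_, ?_⟩
  · intro j; fin_cases j
    exacts [rfl, hw1, hw2, hw3, hw4]
  · exact a01
  · exact a12.trans hw1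
  · exact a23.trans hw2
  · exact a24.trans hw2
  · exact a02
  · exact a03
  · exact a04
  · exact a13
  · exact a14
  · exact a34
  · have h := NT.m_ineq_one T (v 0) (hv 0) (v 1) (hne 1 0 (by decide))
    rw [a01] at h
    have hw := T.w_pos (v 0)
    exact le_of_mul_le_mul_left (by linarith : T.w (v 0) * (T.m (v 1)) ≤ T.w (v 0) * (2 * T.m (v 0))) hw
  · have h := NT.m_ineq_two T (v 1) (hv 1) (v 0) (v 2) (hne 0 1 (by decide)) (hne 2 1 (by decide)) (hne 0 2 (by decide))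
    rw [a10, a12] at h
    have hw := T.w_pos (v 1)
    exact le_of_mul_le_mul_left (by linarith : T.w (v 1) * (T.m (v 0) + T.m (v 2)) ≤ T.w (v 1) * (2 * T.m (v 1))) hw
  · have h := NT.m_ineq_three T (v 2) (hv 2) (v 1) (v 3) (v 4) (hne 1 2 (by decide)) (hne 3 2 (by decide)) (hne 4 2 (by decide)) (hne 1 3 (by decide)) (hne 1 4 (by decide)) (hne 3 4 (by decide))
    rw [a21, a23, a24] at h
    have hw := T.w_pos (v 2)
    exact le_of_mul_le_mul_left (by linarith : T.w (v 2) * (T.m (v 1) + T.m (v 3) + T.m (v 4)) ≤ T.w (v 2) * (2 * T.m (v 2))) hw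
  · have h := NT.m_ineq_one T (v 3) (hv 3) (v 2) (hne 2 3 (by decide))
    rw [a32] at h
    have hw := T.w_pos (v 3)
    exact le_of_mul_le_mul_left (by linarith : T.w (v 3) * (T.m (v 2)) ≤ T.w (v 3) * (2 * T.m (v 3))) hw
  · have h := NT.m_ineq_one T (v 4) (hv 4) (v 2) (hne 2 4 (by decide))
    rw [a42] at h
    have hw := T.w_pos (v 4)
    exact le_of_mul_le_mul_left (by linarith : T.w (v 4) * (T.m (v 2)) ≤ T.w (v 4) * (2 * T.m (v 4))) hw

end Groth.Agent.S7347
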