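import Groth.Statements.S7350
import Groth.Agent.Lib.Helper36.NTLaced
import Groth.Agent.Lib.Helper36.NTMult

set_option autoImplicit false
open Finset
open Models Models.NumericalType

namespace Groth.Agent.S7350

open Groth.Agent.Lib.Helper36 in
/-- Classification of proper subgraphs of type E8 (a chain i_1 … i_7 with i_8 joined to i_5): let T be a
numerical type on n > 8 indices and i_1, …, i_8 distinct (-2)-indices with a_{12}, a_{23}, a_{34},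
a_{45}, a_{56}, a_{67}, a_{58} nonzero. Then for some integer w all w_{i_j} equal w, these
intersection numbers equal w, all other a_{i_j i_k} (j ≠ k) vanish, and 2 m_1 ≥ m_2, 2 m_2 ≥ m_1 +
m_3, 2 m_3 ≥ m_2 + m_4, 2 m_4 ≥ m_3 + m_5, 2 m_5 ≥ m_4 + m_6 + m_8, 2 m_6 ≥ m_5 + m_7, 2 m_7 ≥ m_6,
2 m_8 ≥ m_5. (The published statement lists a_{65} and a_{57} among the nonzero entries, which
contradicts its own conclusion a_{57} = 0; this row uses the edges of the E8 graph, a_{67} and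
a_{58}, as the pictured graph and the matrix give them.) -/
theorem result {n : ℕ} (T : Models.NumericalType n) (hn : 8 < n)
    (v : Fin 8 ↪ Fin n) (hv : ∀ j, T.IsMinusTwo (v j)) (h01 : T.a (v 0) (v 1) ≠ 0) (h12 : T.a (v 1) (v 2) ≠ 0) (h23 : T.a (v 2) (v 3) ≠ 0) (h34 : T.a (v 3) (v 4) ≠ 0) (h45 : T.a (v 4) (v 5) ≠ 0) (h56 : T.a (v 5) (v 6) ≠ 0) (h47 : T.a (v 4) (v 7) ≠ 0) :
    ∃ w : ℤ, (∀ j : Fin 8, T.w (v j) = w) ∧
      T.a (v 0) (v 1) = w ∧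
      T.a (v 1) (v 2) = w ∧
      T.a (v 2) (v 3) = w ∧
      T.a (v 3) (v 4) = w ∧
      T.a (v 4) (v 5) = w ∧
      T.a (v 5) (v 6) = w ∧
      T.a (v 4) (v 7) = w ∧
      T.a (v 0) (v 2) = 0 ∧
      T.a (v 0) (v 3) = 0 ∧
      T.a (v 0) (v 4) = 0 ∧
      T.a (v 0) (v 5) = 0 ∧
      T.a (v 0) (v 6) = 0 ∧
      T.a (v 0) (v 7) = 0 ∧
      T.a (v 1) (v 3) = 0 ∧
      T.a (v 1) (v 4) = 0 ∧
      T.a (v 1) (v 5) = 0 ∧
      T.a (v 1) (v 6) = 0 ∧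
      T.a (v 1) (v 7) = 0 ∧
      T.a (v 2) (v 4) = 0 ∧
      T.a (v 2) (v 5) = 0 ∧
      T.a (v 2) (v 6) = 0 ∧
      T.a (v 2) (v 7) = 0 ∧
      T.a (v 3) (v 5) = 0 ∧
      T.a (v 3) (v 6) = 0 ∧
      T.a (v 3) (v 7) = 0 ∧
      T.a (v 4) (v 6) = 0 ∧
      T.a (v 5) (v 7) = 0 ∧
      T.a (v 6) (v 7) = 0 ∧
      T.m (v 1) ≤ 2 * T.m (v 0) ∧
      T.m (v 0) + T.m (v 2) ≤ 2 * T.m (v 1) ∧
      T.m (v 1) + T.m (v 3) ≤ 2 * T.m (v 2) ∧
      T.m (v 2) + T.m (v 4) ≤ 2 * T.m (v 3) ∧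
      T.m (v 3) + T.m (v 5) + T.m (v 7) ≤ 2 * T.m (v 4) ∧
      T.m (v 4) + T.m (v 6) ≤ 2 * T.m (v 5) ∧
      T.m (v 5) ≤ 2 * T.m (v 6) ∧
      T.m (v 4) ≤ 2 * T.m (v 7) := by
  have hne : ∀ s t : Fin 8, s ≠ t → v s ≠ v t := fun s t h => v.injective.ne h
  have hE : ∀ e ∈ ([(0, 1), (1, 2), (2, 3), (3, 4), (4, 5), (5, 6), (4, 7)] : List (Fin 8 × Fin 8)), e.1 ≠ e.2 ∧ T.a (v e.1) (v e.2) ≠ 0 := by
    simp only [List.mem_cons, List.not_mem_nil, or_false, forall_eq_or_imp, forall_eq]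
    exact ⟨⟨by decide, h01⟩, ⟨by decide, h12⟩, ⟨by decide, h23⟩, ⟨by decide, h34⟩, ⟨by decide, h45⟩, ⟨by decide, h56⟩, ⟨by decide, h47⟩⟩
  have key := NT.simply_laced T v (by norm_num) hn hv [(0, 1), (1, 2), (2, 3), (3, 4), (4, 5), (5, 6), (4, 7)] hE
    ![![![1, 1, 1, 1, 1, 1, 1, 1], ![12, 12, 13, 14, 16, 10, 5, 8], ![6, 6, 8, 5, 4, 2, 1, 2], ![4, 3, 4, 5, 4, 2, 1, 2], ![3, 2, 2, 3, 4, 2, 1, 2], ![3, 3, 3, 3, 4, 4, 2, 2], ![3, 3, 3, 3, 4, 3, 3, 2], ![2, 2, 2, 3, 4, 2, 1, 3]],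
      ![![6, 12, 13, 14, 16, 10, 5, 8], ![1, 1, 1, 1, 1, 1, 1, 1], ![5, 10, 8, 7, 7, 4, 2, 3], ![3, 6, 6, 7, 5, 2, 1, 2], ![2, 4, 3, 3, 5, 2, 1, 2], ![1, 2, 2, 2, 2, 2, 1, 1], ![1, 2, 2, 2, 2, 2, 2, 1], ![2, 4, 3, 3, 4, 2, 1, 3]],
      ![![6, 6, 8, 5, 4, 2, 1, 2], ![2, 5, 8, 7, 7, 4, 2, 3], ![1, 1, 1, 1, 1, 1, 1, 1], ![1, 3, 5, 4, 4, 2, 1, 2], ![1, 2, 5, 5, 6, 3, 1, 2], ![1, 2, 5, 4, 4, 5, 2, 2], ![1, 2, 4, 3, 4, 3, 3, 2], ![1, 2, 4, 4, 4, 2, 1, 4]],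
      ![![4, 3, 4, 5, 4, 2, 1, 2], ![3, 6, 6, 7, 5, 2, 1, 2], ![1, 2, 4, 6, 5, 3, 1, 2], ![1, 1, 1, 1, 1, 1, 1, 1], ![1, 2, 4, 7, 5, 3, 1, 2], ![1, 2, 5, 10, 9, 9, 4, 4], ![1, 2, 4, 7, 7, 6, 6, 3], ![1, 2, 5, 9, 8, 4, 2, 7]],
      ![![3, 2, 2, 3, 4, 2, 1, 2], ![2, 4, 3, 3, 5, 2, 1, 2], ![1, 2, 5, 5, 6, 3, 1, 2], ![1, 2, 4, 7, 11, 6, 3, 5], ![1, 1, 1, 1, 1, 1, 1, 1], ![1, 2, 4, 6, 10, 6, 3, 5], ![1, 2, 5, 9, 17, 12, 12, 7], ![1, 2, 4, 6, 9, 5, 2, 4]],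
      ![![3, 3, 3, 3, 4, 4, 2, 2], ![1, 2, 2, 2, 2, 2, 1, 1], ![1, 2, 5, 4, 4, 5, 2, 2], ![1, 2, 5, 10, 9, 9, 4, 4], ![1, 2, 4, 6, 10, 12, 5, 5], ![1, 1, 1, 1, 1, 1, 1, 1], ![1, 2, 3, 5, 7, 6, 3, 3], ![1, 2, 5, 8, 15, 14, 6, 12]],
      ![![3, 3, 3, 3, 4, 3, 3, 2], ![1, 2, 2, 2, 2, 2, 2, 1], ![1, 2, 4, 3, 4, 3, 3, 2], ![1, 2, 4, 7, 7, 6, 6, 3], ![1, 2, 5, 9, 17, 12, 12, 7], ![1, 2, 3, 5, 7, 6, 6, 3], ![1, 1, 1, 1, 1, 1, 1, 1], ![1, 2, 4, 6, 10, 8, 7, 8]],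
      ![![2, 2, 2, 3, 4, 2, 1, 3], ![2, 4, 3, 3, 4, 2, 1, 3], ![1, 2, 4, 4, 4, 2, 1, 4], ![1, 2, 5, 9, 8, 4, 2, 7], ![1, 2, 4, 6, 9, 5, 2, 8], ![1, 2, 5, 8, 15, 14, 6, 12], ![1, 2, 4, 6, 10, 8, 7, 8], ![1, 1, 1, 1, 1, 1, 1, 1]]]
    (by decide)
  have a01 : T.a (v 0) (v 1) = T.w (v 0) := (key 0 1 (by decide)).trans (if_pos (by decide))
  have a02 : T.a (v 0) (v 2) = 0 := (key 0 2 (by decide)).trans (if_neg (by decide))
  have a03 : T.a (v 0) (v 3) = 0 := (key 0 3 (by decide)).trans (if_neg (by decide))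
  have a04 : T.a (v 0) (v 4) = 0 := (key 0 4 (by decide)).trans (if_neg (by decide))
  have a05 : T.a (v 0) (v 5) = 0 := (key 0 5 (by decide)).trans (if_neg (by decide))
  have a06 : T.a (v 0) (v 6) = 0 := (key 0 6 (by decide)).trans (if_neg (by decide))
  have a07 : T.a (v 0) (v 7) = 0 := (key 0 7 (by decide)).trans (if_neg (by decide))
  have a10 : T.a (v 1) (v 0) = T.w (v 1) := (key 1 0 (by decide)).trans (if_pos (by decide))
  have a12 : T.a (v 1) (v 2) = T.w (v 1) := (key 1 2 (by decide)).trans (if_pos (by decide))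
  have a13 : T.a (v 1) (v 3) = 0 := (key 1 3 (by decide)).trans (if_neg (by decide))
  have a14 : T.a (v 1) (v 4) = 0 := (key 1 4 (by decide)).trans (if_neg (by decide))
  have a15 : T.a (v 1) (v 5) = 0 := (key 1 5 (by decide)).trans (if_neg (by decide))
  have a16 : T.a (v 1) (v 6) = 0 := (key 1 6 (by decide)).trans (if_neg (by decide))
  have a17 : T.a (v 1) (v 7) = 0 := (key 1 7 (by decide)).trans (if_neg (by decide))
  have a21 : T.a (v 2) (v 1) = T.w (v 2) := (key 2 1 (by decide)).trans (if_pos (by decide))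
  have a23 : T.a (v 2) (v 3) = T.w (v 2) := (key 2 3 (by decide)).trans (if_pos (by decide))
  have a24 : T.a (v 2) (v 4) = 0 := (key 2 4 (by decide)).trans (if_neg (by decide))
  have a25 : T.a (v 2) (v 5) = 0 := (key 2 5 (by decide)).trans (if_neg (by decide))
  have a26 : T.a (v 2) (v 6) = 0 := (key 2 6 (by decide)).trans (if_neg (by decide))
  have a27 : T.a (v 2) (v 7) = 0 := (key 2 7 (by decide)).trans (if_neg (by decide))
  have a32 : T.a (v 3) (v 2) = T.w (v 3) := (key 3 2 (by decide)).trans (if_pos (by decide))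
  have a34 : T.a (v 3) (v 4) = T.w (v 3) := (key 3 4 (by decide)).trans (if_pos (by decide))
  have a35 : T.a (v 3) (v 5) = 0 := (key 3 5 (by decide)).trans (if_neg (by decide))
  have a36 : T.a (v 3) (v 6) = 0 := (key 3 6 (by decide)).trans (if_neg (by decide))
  have a37 : T.a (v 3) (v 7) = 0 := (key 3 7 (by decide)).trans (if_neg (by decide))
  have a43 : T.a (v 4) (v 3) = T.w (v 4) := (key 4 3 (by decide)).trans (if_pos (by decide))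
  have a45 : T.a (v 4) (v 5) = T.w (v 4) := (key 4 5 (by decide)).trans (if_pos (by decide))
  have a46 : T.a (v 4) (v 6) = 0 := (key 4 6 (by decide)).trans (if_neg (by decide))
  have a47 : T.a (v 4) (v 7) = T.w (v 4) := (key 4 7 (by decide)).trans (if_pos (by decide))
  have a54 : T.a (v 5) (v 4) = T.w (v 5) := (key 5 4 (by decide)).trans (if_pos (by decide))
  have a56 : T.a (v 5) (v 6) = T.w (v 5) := (key 5 6 (by decide)).trans (if_pos (by decide))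
  have a57 : T.a (v 5) (v 7) = 0 := (key 5 7 (by decide)).trans (if_neg (by decide))
  have a65 : T.a (v 6) (v 5) = T.w (v 6) := (key 6 5 (by decide)).trans (if_pos (by decide))
  have a67 : T.a (v 6) (v 7) = 0 := (key 6 7 (by decide)).trans (if_neg (by decide))
  have a74 : T.a (v 7) (v 4) = T.w (v 7) := (key 7 4 (by decide)).trans (if_pos (by decide))
  have hw1 : T.w (v 1) = T.w (v 0) := (NT.simply_laced_w_eq T v [(0, 1), (1, 2), (2, 3), (3, 4), (4, 5), (5, 6), (4, 7)] key 0 1 (by decide) (by decide)).symm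
  have hw2 : T.w (v 2) = T.w (v 0) := (NT.simply_laced_w_eq T v [(0, 1), (1, 2), (2, 3), (3, 4), (4, 5), (5, 6), (4, 7)] key 1 2 (by decide) (by decide)).symm.trans hw1
  have hw3 : T.w (v 3) = T.w (v 0) := (NT.simply_laced_w_eq T v [(0, 1), (1, 2), (2, 3), (3, 4), (4, 5), (5, 6), (4, 7)] key 2 3 (by decide) (by decide)).symm.trans hw2
  have hw4 : T.w (v 4) = T.w (v 0) := (NT.simply_laced_w_eq T v [(0, 1), (1, 2), (2, 3), (3, 4), (4, 5), (5, 6), (4, 7)] key 3 4 (by decide) (by decide)).symm.trans hw3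
  have hw5 : T.w (v 5) = T.w (v 0) := (NT.simply_laced_w_eq T v [(0, 1), (1, 2), (2, 3), (3, 4), (4, 5), (5, 6), (4, 7)] key 4 5 (by decide) (by decide)).symm.trans hw4
  have hw6 : T.w (v 6) = T.w (v 0) := (NT.simply_laced_w_eq T v [(0, 1), (1, 2), (2, 3), (3, 4), (4, 5), (5, 6), (4, 7)] key 5 6 (by decide) (by decide)).symm.trans hw5
  have hw7 : T.w (v 7) = T.w (v 0) := (NT.simply_laced_w_eq T v [(0, 1), (1, 2), (2, 3), (3, 4), (4, 5), (5, 6), (4, 7)] key 4 7 (by decide) (by decide)).symm.trans hw4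
  refine ⟨T.w (v 0), ?_, ?_, ?_, ?_, ?_, ?_, ?_, ?_, ?_, ?_, ?_, ?_, ?_, ?_, ?_, ?_, ?_, ?_, ?_, ?_, ?_, ?_, ?_, ?_, ?_, ?_, ?_, ?_, ?_, ?_, ?_, ?_, ?_, ?_, ?_, ?_, ?_⟩
  · intro j; fin_cases j
    exacts [rfl, hw1, hw2, hw3, hw4, hw5, hw6, hw7]
  · exact a01
  · exact a12.trans hw1
  · exact a23.trans hw2
  · exact a34.trans hw3
  · exact a45.trans hw4
  · exact a56.trans hw5
  · exact a47.trans hw4
  · exact a02
  · exact a03
  · exact a04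
  · exact a05
  · exact a06
  · exact a07
  · exact a13
  · exact a14
  · exact a15
  · exact a16
  · exact a17
  · exact a24
  · exact a25
  · exact a26
  · exact a27
  · exact a35
  · exact a36
  · exact a37
  · exact a46
  · exact a57
  · exact a67
  · have h := NT.m_ineq_one T (v 0) (hv 0) (v 1) (hne 1 0 (by decide))
    rw [a01] at h
    have hw := T.w_pos (v 0)
    exact le_of_mul_le_mul_left (by linarith : T.w (v 0) * (T.m (v 1)) ≤ T.w (v 0) * (2 * T.m (v 0))) hw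
  · have h := NT.m_ineq_two T (v 1) (hv 1) (v 0) (v 2) (hne 0 1 (by decide)) (hne 2 1 (by decide)) (hne 0 2 (by decide))
    rw [a10, a12] at h
    have hw := T.w_pos (v 1)
    exact le_of_mul_le_mul_left (by linarith : T.w (v 1) * (T.m (v 0) + T.m (v 2)) ≤ T.w (v 1) * (2 * T.m (v 1))) hw
  · have h := NT.m_ineq_two T (v 2) (hv 2) (v 1) (v 3) (hne 1 2 (by decide)) (hne 3 2 (by decide)) (hne 1 3 (by decide))
    rw [a21, a23] at h
    have hw := T.w_pos (v 2)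
    exact le_of_mul_le_mul_left (by linarith : T.w (v 2) * (T.m (v 1) + T.m (v 3)) ≤ T.w (v 2) * (2 * T.m (v 2))) hw
  · have h := NT.m_ineq_two T (v 3) (hv 3) (v 2) (v 4) (hne 2 3 (by decide)) (hne 4 3 (by decide)) (hne 2 4 (by decide))
    rw [a32, a34] at h
    have hw := T.w_pos (v 3)
    exact le_of_mul_le_mul_left (by linarith : T.w (v 3) * (T.m (v 2) + T.m (v 4)) ≤ T.w (v 3) * (2 * T.m (v 3))) hw
  · have h := NT.m_ineq_three T (v 4) (hv 4) (v 3) (v 5) (v 7) (hne 3 4 (by decide)) (hne 5 4 (by decide)) (hne 7 4 (by decide)) (hne 3 5 (by decide)) (hne 3 7 (by decide)) (hne 5 7 (by decide))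
    rw [a43, a45, a47] at h
    have hw := T.w_pos (v 4)
    exact le_of_mul_le_mul_left (by linarith : T.w (v 4) * (T.m (v 3) + T.m (v 5) + T.m (v 7)) ≤ T.w (v 4) * (2 * T.m (v 4))) hw
  · have h := NT.m_ineq_two T (v 5) (hv 5) (v 4) (v 6) (hne 4 5 (by decide)) (hne 6 5 (by decide)) (hne 4 6 (by decide))
    rw [a54, a56] at h
    have hw := T.w_pos (v 5)
    exact le_of_mul_le_mul_left (by linarith : T.w (v 5) * (T.m (v 4) + T.m (v 6)) ≤ T.w (v 5) * (2 * T.m (v 5))) hw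
  · have h := NT.m_ineq_one T (v 6) (hv 6) (v 5) (hne 5 6 (by decide))
    rw [a65] at h
    have hw := T.w_pos (v 6)
    exact le_of_mul_le_mul_left (by linarith : T.w (v 6) * (T.m (v 5)) ≤ T.w (v 6) * (2 * T.m (v 6))) hw
  · have h := NT.m_ineq_one T (v 7) (hv 7) (v 4) (hne 4 7 (by decide))
    rw [a74] at h
    have hw := T.w_pos (v 7)
    exact le_of_mul_le_mul_left (by linarith : T.w (v 7) * (T.m (v 4)) ≤ T.w (v 7) * (2 * T.m (v 7))) hw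

end Groth.Agent.S7350
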