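import Groth.Statements.S7351
import Groth.Agent.Lib.Helper36.NTSub

set_option autoImplicit false
open Finset
open Models Models.NumericalType

namespace Groth.Agent.S7351

open Groth.Agent.Lib.Helper36 in
/-- Let T be a numerical type on n > 5 indices. There do not exist five distinct (-2)-indices h, i, j,
k, l with a_hi > 0, a_hj > 0, a_hk > 0 and a_hl > 0. -/
theorem result {n : ℕ} (T : Models.NumericalType n) (hn : 5 < n)
    (v : Fin 5 ↪ Fin n) (hv : ∀ j, T.IsMinusTwo (v j))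
    (h01 : 0 < T.a (v 0) (v 1)) (h02 : 0 < T.a (v 0) (v 2)) (h03 : 0 < T.a (v 0) (v 3)) (h04 : 0 < T.a (v 0) (v 4)) : False := by
  have hne : ∀ s t : Fin 5, s ≠ t → v s ≠ v t := fun s t h => v.injective.ne h
  have nn : ∀ s t : Fin 5, s ≠ t → 0 ≤ T.a (v s) (v t) :=
    fun s t h => T.offDiag_nonneg _ _ (hne s t h)
  have cm : ∀ s t : Fin 5, T.a (v s) (v t) = T.a (v t) (v s) := fun s t => NT.a_comm T _ _
  have d : ∀ s : Fin 5, T.a (v s) (v s) = -2 * T.w (v s) := fun s => (hv s).2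
  have e1 := NT.w_le_of_ne_zero T (hne 0 1 (by decide)) h01.ne'
  have e2 := NT.w_le_of_ne_zero T (hne 0 2 (by decide)) h02.ne'
  have e3 := NT.w_le_of_ne_zero T (hne 0 3 (by decide)) h03.ne'
  have e4 := NT.w_le_of_ne_zero T (hne 0 4 (by decide)) h04.ne'
  refine NT.no_nonneg_vector_emb T v (by norm_num) hn ![2, 1, 1, 1, 1] ?_ ?_
  · intro s; fin_cases s <;> simp
  · intro s
    fin_cases s <;> simp [Fin.sum_univ_five]
    · rw [d 0]; linarith
    · rw [d 1, cm 1 0]; linarith [nn 1 2 (by decide), nn 1 3 (by decide), nn 1 4 (by decide)]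
    · rw [d 2, cm 2 0]; linarith [nn 2 1 (by decide), nn 2 3 (by decide), nn 2 4 (by decide)]
    · rw [d 3, cm 3 0]; linarith [nn 3 1 (by decide), nn 3 2 (by decide), nn 3 4 (by decide)]
    · rw [d 4, cm 4 0]; linarith [nn 4 1 (by decide), nn 4 2 (by decide), nn 4 3 (by decide)]

end Groth.Agent.S7351
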