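import Groth.Statements.S7352
import Groth.Agent.Lib.Helper36.NTB

set_option autoImplicit false
open Finset
open Models Models.NumericalType

namespace Groth.Agent.S7352

open Groth.Agent.Lib.Helper36 in
/-- Classification of proper subgraphs which are chains of four vertices: let T be a numerical type on n
> 4 indices and i_1, …, i_4 distinct (-2)-indices with a_{i_j i_{j+1}} nonzero for j < 4. Then
a_{i_j i_l} = 0 for |j - l| ≥ 2 and, after possibly reversing the order of the indices, for some
integer w one of the following holds: (A4) w = (w, w, w, w), consecutive a = (w, w, w), with 2m_1 ≥
m_2, 2m_2 ≥ m_1 + m_3, 2m_3 ≥ m_2 + m_4, 2m_4 ≥ m_3; (C4) w = (w, w, w, 2w), consecutive a = (w, w,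
2w), with 2m_1 ≥ m_2, 2m_2 ≥ m_1 + m_3, 2m_3 ≥ m_2 + 2m_4, 2m_4 ≥ m_3; (B4) w = (2w, 2w, 2w, w),
consecutive a = (2w, 2w, 2w), with 2m_1 ≥ m_2, 2m_2 ≥ m_1 + m_3, 2m_3 ≥ m_2 + m_4, m_4 ≥ m_3; (F4) w
= (w, w, 2w, 2w), consecutive a = (w, 2w, 2w), with 2m_1 ≥ m_2, 2m_2 ≥ m_1 + 2m_3, 2m_3 ≥ m_2 + m_4,
2m_4 ≥ m_3. -/
theorem result {n : ℕ} (T : Models.NumericalType n) (hn : 4 < n)
    (v : Fin 4 ↪ Fin n) (hv : ∀ j, T.IsMinusTwo (v j)) (h01 : T.a (v 0) (v 1) ≠ 0) (h12 : T.a (v 1) (v 2) ≠ 0) (h23 : T.a (v 2) (v 3) ≠ 0) :
    (T.a (v 0) (v 2) = 0 ∧ T.a (v 0) (v 3) = 0 ∧ T.a (v 1) (v 3) = 0) ∧
    ∃ (u : Fin 4 → Fin n) (w : ℤ), ((∀ j, u j = v j) ∨ (∀ j, u j = v (Fin.rev j))) ∧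
      ((T.w (u 0) = w ∧ T.w (u 1) = w ∧ T.w (u 2) = w ∧ T.w (u 3) = w ∧ T.a (u 0) (u 1) = w ∧ T.a (u 1) (u 2) = w ∧ T.a (u 2) (u 3) = w ∧ T.m (u 1) ≤ 2 * T.m (u 0) ∧ T.m (u 0) + T.m (u 2) ≤ 2 * T.m (u 1) ∧ T.m (u 1) + T.m (u 3) ≤ 2 * T.m (u 2) ∧ T.m (u 2) ≤ 2 * T.m (u 3)) ∨
      (T.w (u 0) = w ∧ T.w (u 1) = w ∧ T.w (u 2) = w ∧ T.w (u 3) = 2 * w ∧ T.a (u 0) (u 1) = w ∧ T.a (u 1) (u 2) = w ∧ T.a (u 2) (u 3) = 2 * w ∧ T.m (u 1) ≤ 2 * T.m (u 0) ∧ T.m (u 0) + T.m (u 2) ≤ 2 * T.m (u 1) ∧ T.m (u 1) + 2 * T.m (u 3) ≤ 2 * T.m (u 2) ∧ T.m (u 2) ≤ 2 * T.m (u 3)) ∨
      (T.w (u 0) = 2 * w ∧ T.w (u 1) = 2 * w ∧ T.w (u 2) = 2 * w ∧ T.w (u 3) = w ∧ T.a (u 0) (u 1) = 2 * w ∧ T.a (u 1) (u 2) = 2 * w ∧ T.a (u 2) (u 3) = 2 * w ∧ T.m (u 1) ≤ 2 * T.m (u 0) ∧ T.m (u 0) + T.m (u 2) ≤ 2 * T.m (u 1) ∧ T.m (u 1) + T.m (u 3) ≤ 2 * T.m (u 2) ∧ T.m (u 2) ≤ T.m (u 3)) ∨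
      (T.w (u 0) = w ∧ T.w (u 1) = w ∧ T.w (u 2) = 2 * w ∧ T.w (u 3) = 2 * w ∧ T.a (u 0) (u 1) = w ∧ T.a (u 1) (u 2) = 2 * w ∧ T.a (u 2) (u 3) = 2 * w ∧ T.m (u 1) ≤ 2 * T.m (u 0) ∧ T.m (u 0) + 2 * T.m (u 2) ≤ 2 * T.m (u 1) ∧ T.m (u 1) + T.m (u 3) ≤ 2 * T.m (u 2) ∧ T.m (u 2) ≤ 2 * T.m (u 3))) := by
  have hne : ∀ s t : Fin 4, s ≠ t → v s ≠ v t := fun s t h => v.injective.ne h
  obtain ⟨b01, hb01⟩ := NT.exists_b T (v 0) (v 1)
  obtain ⟨b02, hb02⟩ := NT.exists_b T (v 0) (v 2)
  obtain ⟨b03, hb03⟩ := NT.exists_b T (v 0) (v 3)
  obtain ⟨b10, hb10⟩ := NT.exists_b T (v 1) (v 0)
  obtain ⟨b12, hb12⟩ := NT.exists_b T (v 1) (v 2)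
  obtain ⟨b13, hb13⟩ := NT.exists_b T (v 1) (v 3)
  obtain ⟨b20, hb20⟩ := NT.exists_b T (v 2) (v 0)
  obtain ⟨b21, hb21⟩ := NT.exists_b T (v 2) (v 1)
  obtain ⟨b23, hb23⟩ := NT.exists_b T (v 2) (v 3)
  obtain ⟨b30, hb30⟩ := NT.exists_b T (v 3) (v 0)
  obtain ⟨b31, hb31⟩ := NT.exists_b T (v 3) (v 1)
  obtain ⟨b32, hb32⟩ := NT.exists_b T (v 3) (v 2)
  obtain ⟨n01, n10, z01, r01⟩ := NT.b_props T (hne 0 1 (by decide)) hb01 hb10
  obtain ⟨n02, n20, z02, r02⟩ := NT.b_props T (hne 0 2 (by decide)) hb02 hb20
  obtain ⟨n03, n30, z03, r03⟩ := NT.b_props T (hne 0 3 (by decide)) hb03 hb30
  obtain ⟨n12, n21, z12, r12⟩ := NT.b_props T (hne 1 2 (by decide)) hb12 hb21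
  obtain ⟨n13, n31, z13, r13⟩ := NT.b_props T (hne 1 3 (by decide)) hb13 hb31
  obtain ⟨n23, n32, z23, r23⟩ := NT.b_props T (hne 2 3 (by decide)) hb23 hb32
  have l01 : 1 ≤ b01 := by
    have : b01 ≠ 0 := fun h => h01 (by rw [hb01, h, zero_mul])
    omega
  have l10 : 1 ≤ b10 := by omega
  have l12 : 1 ≤ b12 := by
    have : b12 ≠ 0 := fun h => h12 (by rw [hb12, h, zero_mul])
    omega
  have l21 : 1 ≤ b21 := by omega
  have l23 : 1 ≤ b23 := by
    have : b23 ≠ 0 := fun h => h23 (by rw [hb23, h, zero_mul])
    omega
  have l32 : 1 ≤ b32 := by omega
  have hbmat : ∀ s t : Fin 4, s ≠ t → T.a (v s) (v t) =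
      (![![0, b01, b02, b03], ![b10, 0, b12, b13], ![b20, b21, 0, b23], ![b30, b31, b32, 0]] : Fin 4 → Fin 4 → ℤ) s t * T.w (v s) := by
    intro s t hst
    fin_cases s <;> fin_cases t <;> first | exact absurd rfl hst | assumption
  have m0 := NT.m_ineq_b_one T (v 0) (hv 0) (v 1) (hne 1 0 (by decide)) hb01
  have m1 := NT.m_ineq_b_two T (v 1) (hv 1) (v 0) (v 2) (hne 0 1 (by decide)) (hne 2 1 (by decide)) (hne 0 2 (by decide)) hb10 hb12
  have m2 := NT.m_ineq_b_two T (v 2) (hv 2) (v 1) (v 3) (hne 1 2 (by decide)) (hne 3 2 (by decide)) (hne 1 3 (by decide)) hb21 hb23
  have m3 := NT.m_ineq_b_one T (v 3) (hv 3) (v 2) (hne 2 3 (by decide)) hb32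
  have rv0 : (Fin.rev 0 : Fin 4) = 3 := rfl
  have rv1 : (Fin.rev 1 : Fin 4) = 2 := rfl
  have rv2 : (Fin.rev 2 : Fin 4) = 1 := rfl
  have rv3 : (Fin.rev 3 : Fin 4) = 0 := rfl
  obtain ⟨u, hu⟩ : ∃ u : Fin 4 → Fin n, ∀ j, u j = v (Fin.rev j) := ⟨_, fun _ => rfl⟩
  rcases le_or_gt b02 0 with hc | hc
  · -- b02 = 0
    rcases le_or_gt b03 0 with hc | hc
    · -- b03 = 0
      rcases le_or_gt b13 0 with hc | hc
      · -- b13 = 0
        rcases le_or_gt b01 1 with hc | hc
        · -- b01 = 1
          rcases le_or_gt b10 1 with hc | hc
          · -- b10 = 1
            rcases le_or_gt b12 1 with hc | hc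
            · -- b12 = 1
              rcases le_or_gt b21 1 with hc | hc
              · -- b21 = 1
                rcases le_or_gt b23 1 with hc | hc
                · -- b23 = 1
                  rcases le_or_gt b32 1 with hc | hc
                  · -- b32 = 1
                    have e01 : b01 = 1 := by omega
                    have e02 : b02 = 0 := by omega
                    have e03 : b03 = 0 := by omega
                    have e10 : b10 = 1 := by omega
                    have e12 : b12 = 1 := by omega
                    have e13 : b13 = 0 := by omega
                    have e20 : b20 = 0 := by omega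
                    have e21 : b21 = 1 := by omega
                    have e23 : b23 = 1 := by omega
                    have e30 : b30 = 0 := by omega
                    have e31 : b31 = 0 := by omega
                    have e32 : b32 = 1 := by omega
                    subst e01
                    subst e02
                    subst e03
                    subst e10
                    subst e12
                    subst e13
                    subst e20
                    subst e21
                    subst e23
                    subst e30
                    subst e31
                    subst e32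
                    refine ⟨⟨by linarith, by linarith, by linarith⟩, v, T.w (v 0), Or.inl (fun _ => rfl), ?_⟩
                    refine Or.inl ?_
                    refine ⟨by linarith, by linarith, by linarith, by linarith, by linarith, by linarith, by linarith, by linarith, by linarith, by linarith, by linarith⟩
                  · -- b32 ≥ 2
                    rcases le_or_gt b32 2 with hc | hc
                    · -- b32 = 2
                      have e01 : b01 = 1 := by omega
                      have e02 : b02 = 0 := by omega
                      have e03 : b03 = 0 := by omega
                      have e10 : b10 = 1 := by omega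
                      have e12 : b12 = 1 := by omega
                      have e13 : b13 = 0 := by omega
                      have e20 : b20 = 0 := by omega
                      have e21 : b21 = 1 := by omega
                      have e23 : b23 = 1 := by omega
                      have e30 : b30 = 0 := by omega
                      have e31 : b31 = 0 := by omega
                      have e32 : b32 = 2 := by omega
                      subst e01
                      subst e02
                      subst e03
                      subst e10
                      subst e12
                      subst e13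
                      subst e20
                      subst e21
                      subst e23
                      subst e30
                      subst e31
                      subst e32
                      refine ⟨⟨by linarith, by linarith, by linarith⟩, v, T.w (v 3), Or.inl (fun _ => rfl), ?_⟩
                      refine Or.inr (Or.inr (Or.inl ?_))
                      refine ⟨by linarith, by linarith, by linarith, by linarith, by linarith, by linarith, by linarith, by linarith, by linarith, by linarith, by linarith⟩
                    · -- b32 ≥ 3
                      exact (NT.no_config_b T v hn hv _ hbmat ![![0, 1, 0, 0], ![1, 0, 1, 0], ![0, 1, 0, 1], ![0, 0, 3, 0]]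
                        (by intro s t hst; fin_cases s <;> fin_cases t <;> simp <;> omega)
                        ![2, 4, 7, 10] (by decide) (by decide) (by decide)).elim
                · -- b23 ≥ 2
                  rcases le_or_gt b23 2 with hc | hc
                  · -- b23 = 2
                    rcases le_or_gt b32 1 with hc | hc
                    · -- b32 = 1
                      have e01 : b01 = 1 := by omega
                      have e02 : b02 = 0 := by omega
                      have e03 : b03 = 0 := by omega
                      have e10 : b10 = 1 := by omega
                      have e12 : b12 = 1 := by omega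
                      have e13 : b13 = 0 := by omega
                      have e20 : b20 = 0 := by omega
                      have e21 : b21 = 1 := by omega
                      have e23 : b23 = 2 := by omega
                      have e30 : b30 = 0 := by omega
                      have e31 : b31 = 0 := by omega
                      have e32 : b32 = 1 := by omega
                      subst e01
                      subst e02
                      subst e03
                      subst e10
                      subst e12
                      subst e13
                      subst e20
                      subst e21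
                      subst e23
                      subst e30
                      subst e31
                      subst e32
                      refine ⟨⟨by linarith, by linarith, by linarith⟩, v, T.w (v 0), Or.inl (fun _ => rfl), ?_⟩
                      refine Or.inr (Or.inl ?_)
                      refine ⟨by linarith, by linarith, by linarith, by linarith, by linarith, by linarith, by linarith, by linarith, by linarith, by linarith, by linarith⟩
                    · -- b32 ≥ 2
                      exact (NT.no_config_b T v hn hv _ hbmat ![![0, 1, 0, 0], ![1, 0, 1, 0], ![0, 1, 0, 2], ![0, 0, 2, 0]]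
                        (by intro s t hst; fin_cases s <;> fin_cases t <;> simp <;> omega)
                        ![1, 2, 4, 4] (by decide) (by decide) (by decide)).elim
                  · -- b23 ≥ 3
                    exact (NT.no_config_b T v hn hv _ hbmat ![![0, 1, 0, 0], ![1, 0, 1, 0], ![0, 1, 0, 3], ![0, 0, 1, 0]]
                      (by intro s t hst; fin_cases s <;> fin_cases t <;> simp <;> omega)
                      ![3, 6, 10, 5] (by decide) (by decide) (by decide)).elim
              · -- b21 ≥ 2
                rcases le_or_gt b21 2 with hc | hc
                · -- b21 = 2
                  rcases le_or_gt b23 1 with hc | hc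
                  · -- b23 = 1
                    rcases le_or_gt b32 1 with hc | hc
                    · -- b32 = 1
                      have e01 : b01 = 1 := by omega
                      have e02 : b02 = 0 := by omega
                      have e03 : b03 = 0 := by omega
                      have e10 : b10 = 1 := by omega
                      have e12 : b12 = 1 := by omega
                      have e13 : b13 = 0 := by omega
                      have e20 : b20 = 0 := by omega
                      have e21 : b21 = 2 := by omega
                      have e23 : b23 = 1 := by omega
                      have e30 : b30 = 0 := by omega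
                      have e31 : b31 = 0 := by omega
                      have e32 : b32 = 1 := by omega
                      subst e01
                      subst e02
                      subst e03
                      subst e10
                      subst e12
                      subst e13
                      subst e20
                      subst e21
                      subst e23
                      subst e30
                      subst e31
                      subst e32
                      refine ⟨⟨by linarith, by linarith, by linarith⟩, u, T.w (v 3), Or.inr hu, ?_⟩
                      rw [hu 0, hu 1, hu 2, hu 3, rv0, rv1, rv2, rv3]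
                      refine Or.inr (Or.inr (Or.inr (?_)))
                      refine ⟨by linarith, by linarith, by linarith, by linarith, by linarith, by linarith, by linarith, by linarith, by linarith, by linarith, by linarith⟩
                    · -- b32 ≥ 2
                      exact (NT.no_config_b T v hn hv _ hbmat ![![0, 1, 0, 0], ![1, 0, 1, 0], ![0, 2, 0, 1], ![0, 0, 2, 0]]
                        (by intro s t hst; fin_cases s <;> fin_cases t <;> simp <;> omega)
                        ![2, 4, 7, 7] (by decide) (by decide) (by decide)).elim
                  · -- b23 ≥ 2
                    exact (NT.no_config_b T v hn hv _ hbmat ![![0, 1, 0, 0], ![1, 0, 1, 0], ![0, 2, 0, 2], ![0, 0, 1, 0]]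
                      (by intro s t hst; fin_cases s <;> fin_cases t <;> simp <;> omega)
                      ![1, 2, 4, 2] (by decide) (by decide) (by decide)).elim
                · -- b21 ≥ 3
                  exact (NT.no_config_b T v hn hv _ hbmat ![![0, 1, 0, 0], ![1, 0, 1, 0], ![0, 3, 0, 1], ![0, 0, 1, 0]]
                    (by intro s t hst; fin_cases s <;> fin_cases t <;> simp <;> omega)
                    ![1, 2, 4, 2] (by decide) (by decide) (by decide)).elim
            · -- b12 ≥ 2
              rcases le_or_gt b12 2 with hc | hc
              · -- b12 = 2
                rcases le_or_gt b21 1 with hc | hc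
                · -- b21 = 1
                  rcases le_or_gt b23 1 with hc | hc
                  · -- b23 = 1
                    rcases le_or_gt b32 1 with hc | hc
                    · -- b32 = 1
                      have e01 : b01 = 1 := by omega
                      have e02 : b02 = 0 := by omega
                      have e03 : b03 = 0 := by omega
                      have e10 : b10 = 1 := by omega
                      have e12 : b12 = 2 := by omega
                      have e13 : b13 = 0 := by omega
                      have e20 : b20 = 0 := by omega
                      have e21 : b21 = 1 := by omega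
                      have e23 : b23 = 1 := by omega
                      have e30 : b30 = 0 := by omega
                      have e31 : b31 = 0 := by omega
                      have e32 : b32 = 1 := by omega
                      subst e01
                      subst e02
                      subst e03
                      subst e10
                      subst e12
                      subst e13
                      subst e20
                      subst e21
                      subst e23
                      subst e30
                      subst e31
                      subst e32
                      refine ⟨⟨by linarith, by linarith, by linarith⟩, v, T.w (v 0), Or.inl (fun _ => rfl), ?_⟩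
                      refine Or.inr (Or.inr (Or.inr (?_)))
                      refine ⟨by linarith, by linarith, by linarith, by linarith, by linarith, by linarith, by linarith, by linarith, by linarith, by linarith, by linarith⟩
                    · -- b32 ≥ 2
                      exact (NT.no_config_b T v hn hv _ hbmat ![![0, 1, 0, 0], ![1, 0, 2, 0], ![0, 1, 0, 1], ![0, 0, 2, 0]]
                        (by intro s t hst; fin_cases s <;> fin_cases t <;> simp <;> omega)
                        ![1, 2, 2, 2] (by decide) (by decide) (by decide)).elim
                  · -- b23 ≥ 2
                    exact (NT.no_config_b T v hn hv _ hbmat ![![0, 1, 0, 0], ![1, 0, 2, 0], ![0, 1, 0, 2], ![0, 0, 1, 0]]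
                      (by intro s t hst; fin_cases s <;> fin_cases t <;> simp <;> omega)
                      ![2, 5, 4, 2] (by decide) (by decide) (by decide)).elim
                · -- b21 ≥ 2
                  exact (NT.no_config_b T v hn hv _ hbmat ![![0, 1, 0, 0], ![1, 0, 2, 0], ![0, 2, 0, 1], ![0, 0, 1, 0]]
                    (by intro s t hst; fin_cases s <;> fin_cases t <;> simp <;> omega)
                    ![1, 2, 2, 1] (by decide) (by decide) (by decide)).elim
              · -- b12 ≥ 3
                exact (NT.no_config_b T v hn hv _ hbmat ![![0, 1, 0, 0], ![1, 0, 3, 0], ![0, 1, 0, 1], ![0, 0, 1, 0]]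
                  (by intro s t hst; fin_cases s <;> fin_cases t <;> simp <;> omega)
                  ![2, 4, 2, 1] (by decide) (by decide) (by decide)).elim
          · -- b10 ≥ 2
            rcases le_or_gt b10 2 with hc | hc
            · -- b10 = 2
              rcases le_or_gt b12 1 with hc | hc
              · -- b12 = 1
                rcases le_or_gt b21 1 with hc | hc
                · -- b21 = 1
                  rcases le_or_gt b23 1 with hc | hc
                  · -- b23 = 1
                    rcases le_or_gt b32 1 with hc | hc
                    · -- b32 = 1
                      have e01 : b01 = 1 := by omega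
                      have e02 : b02 = 0 := by omega
                      have e03 : b03 = 0 := by omega
                      have e10 : b10 = 2 := by omega
                      have e12 : b12 = 1 := by omega
                      have e13 : b13 = 0 := by omega
                      have e20 : b20 = 0 := by omega
                      have e21 : b21 = 1 := by omega
                      have e23 : b23 = 1 := by omega
                      have e30 : b30 = 0 := by omega
                      have e31 : b31 = 0 := by omega
                      have e32 : b32 = 1 := by omega
                      subst e01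
                      subst e02
                      subst e03
                      subst e10
                      subst e12
                      subst e13
                      subst e20
                      subst e21
                      subst e23
                      subst e30
                      subst e31
                      subst e32
                      refine ⟨⟨by linarith, by linarith, by linarith⟩, u, T.w (v 3), Or.inr hu, ?_⟩
                      rw [hu 0, hu 1, hu 2, hu 3, rv0, rv1, rv2, rv3]
                      refine Or.inr (Or.inl ?_)
                      refine ⟨by linarith, by linarith, by linarith, by linarith, by linarith, by linarith, by linarith, by linarith, by linarith, by linarith, by linarith⟩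
                    · -- b32 ≥ 2
                      exact (NT.no_config_b T v hn hv _ hbmat ![![0, 1, 0, 0], ![2, 0, 1, 0], ![0, 1, 0, 1], ![0, 0, 2, 0]]
                        (by intro s t hst; fin_cases s <;> fin_cases t <;> simp <;> omega)
                        ![1, 2, 2, 2] (by decide) (by decide) (by decide)).elim
                  · -- b23 ≥ 2
                    exact (NT.no_config_b T v hn hv _ hbmat ![![0, 1, 0, 0], ![2, 0, 1, 0], ![0, 1, 0, 2], ![0, 0, 1, 0]]
                      (by intro s t hst; fin_cases s <;> fin_cases t <;> simp <;> omega)
                      ![1, 2, 2, 1] (by decide) (by decide) (by decide)).elim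
                · -- b21 ≥ 2
                  exact (NT.no_config_b T v hn hv _ hbmat ![![0, 1, 0, 0], ![2, 0, 1, 0], ![0, 2, 0, 1], ![0, 0, 1, 0]]
                    (by intro s t hst; fin_cases s <;> fin_cases t <;> simp <;> omega)
                    ![2, 4, 5, 2] (by decide) (by decide) (by decide)).elim
              · -- b12 ≥ 2
                exact (NT.no_config_b T v hn hv _ hbmat ![![0, 1, 0, 0], ![2, 0, 2, 0], ![0, 1, 0, 1], ![0, 0, 1, 0]]
                  (by intro s t hst; fin_cases s <;> fin_cases t <;> simp <;> omega)
                  ![2, 4, 2, 1] (by decide) (by decide) (by decide)).elim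
            · -- b10 ≥ 3
              exact (NT.no_config_b T v hn hv _ hbmat ![![0, 1, 0, 0], ![3, 0, 1, 0], ![0, 1, 0, 1], ![0, 0, 1, 0]]
                (by intro s t hst; fin_cases s <;> fin_cases t <;> simp <;> omega)
                ![5, 10, 6, 3] (by decide) (by decide) (by decide)).elim
        · -- b01 ≥ 2
          rcases le_or_gt b01 2 with hc | hc
          · -- b01 = 2
            rcases le_or_gt b10 1 with hc | hc
            · -- b10 = 1
              rcases le_or_gt b12 1 with hc | hc
              · -- b12 = 1
                rcases le_or_gt b21 1 with hc | hc
                · -- b21 = 1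
                  rcases le_or_gt b23 1 with hc | hc
                  · -- b23 = 1
                    rcases le_or_gt b32 1 with hc | hc
                    · -- b32 = 1
                      have e01 : b01 = 2 := by omega
                      have e02 : b02 = 0 := by omega
                      have e03 : b03 = 0 := by omega
                      have e10 : b10 = 1 := by omega
                      have e12 : b12 = 1 := by omega
                      have e13 : b13 = 0 := by omega
                      have e20 : b20 = 0 := by omega
                      have e21 : b21 = 1 := by omega
                      have e23 : b23 = 1 := by omega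
                      have e30 : b30 = 0 := by omega
                      have e31 : b31 = 0 := by omega
                      have e32 : b32 = 1 := by omega
                      subst e01
                      subst e02
                      subst e03
                      subst e10
                      subst e12
                      subst e13
                      subst e20
                      subst e21
                      subst e23
                      subst e30
                      subst e31
                      subst e32
                      refine ⟨⟨by linarith, by linarith, by linarith⟩, u, T.w (v 0), Or.inr hu, ?_⟩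
                      rw [hu 0, hu 1, hu 2, hu 3, rv0, rv1, rv2, rv3]
                      refine Or.inr (Or.inr (Or.inl ?_))
                      refine ⟨by linarith, by linarith, by linarith, by linarith, by linarith, by linarith, by linarith, by linarith, by linarith, by linarith, by linarith⟩
                    · -- b32 ≥ 2
                      exact (NT.no_config_b T v hn hv _ hbmat ![![0, 2, 0, 0], ![1, 0, 1, 0], ![0, 1, 0, 1], ![0, 0, 2, 0]]
                        (by intro s t hst; fin_cases s <;> fin_cases t <;> simp <;> omega)
                        ![1, 1, 1, 1] (by decide) (by decide) (by decide)).elim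
                  · -- b23 ≥ 2
                    exact (NT.no_config_b T v hn hv _ hbmat ![![0, 2, 0, 0], ![1, 0, 1, 0], ![0, 1, 0, 2], ![0, 0, 1, 0]]
                      (by intro s t hst; fin_cases s <;> fin_cases t <;> simp <;> omega)
                      ![2, 2, 2, 1] (by decide) (by decide) (by decide)).elim
                · -- b21 ≥ 2
                  exact (NT.no_config_b T v hn hv _ hbmat ![![0, 2, 0, 0], ![1, 0, 1, 0], ![0, 2, 0, 1], ![0, 0, 1, 0]]
                    (by intro s t hst; fin_cases s <;> fin_cases t <;> simp <;> omega)
                    ![2, 2, 2, 1] (by decide) (by decide) (by decide)).elim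
              · -- b12 ≥ 2
                exact (NT.no_config_b T v hn hv _ hbmat ![![0, 2, 0, 0], ![1, 0, 2, 0], ![0, 1, 0, 1], ![0, 0, 1, 0]]
                  (by intro s t hst; fin_cases s <;> fin_cases t <;> simp <;> omega)
                  ![7, 7, 4, 2] (by decide) (by decide) (by decide)).elim
            · -- b10 ≥ 2
              exact (NT.no_config_b T v hn hv _ hbmat ![![0, 2, 0, 0], ![2, 0, 1, 0], ![0, 1, 0, 1], ![0, 0, 1, 0]]
                (by intro s t hst; fin_cases s <;> fin_cases t <;> simp <;> omega)
                ![4, 4, 2, 1] (by decide) (by decide) (by decide)).elim
          · -- b01 ≥ 3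
            exact (NT.no_config_b T v hn hv _ hbmat ![![0, 3, 0, 0], ![1, 0, 1, 0], ![0, 1, 0, 1], ![0, 0, 1, 0]]
              (by intro s t hst; fin_cases s <;> fin_cases t <;> simp <;> omega)
              ![10, 7, 4, 2] (by decide) (by decide) (by decide)).elim
      · -- b13 ≥ 1
        exact (NT.no_config_b T v hn hv _ hbmat ![![0, 1, 0, 0], ![1, 0, 1, 1], ![0, 1, 0, 1], ![0, 1, 1, 0]]
          (by intro s t hst; fin_cases s <;> fin_cases t <;> simp <;> omega)
          ![1, 2, 2, 2] (by decide) (by decide) (by decide)).elim
    · -- b03 ≥ 1
      exact (NT.no_config_b T v hn hv _ hbmat ![![0, 1, 0, 1], ![1, 0, 1, 0], ![0, 1, 0, 1], ![1, 0, 1, 0]]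
        (by intro s t hst; fin_cases s <;> fin_cases t <;> simp <;> omega)
        ![1, 1, 1, 1] (by decide) (by decide) (by decide)).elim
  · -- b02 ≥ 1
    exact (NT.no_config_b T v hn hv _ hbmat ![![0, 1, 1, 0], ![1, 0, 1, 0], ![1, 1, 0, 1], ![0, 0, 1, 0]]
      (by intro s t hst; fin_cases s <;> fin_cases t <;> simp <;> omega)
      ![2, 2, 2, 1] (by decide) (by decide) (by decide)).elim

end Groth.Agent.S7352
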