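import Groth.Statements.S7353
import Groth.Agent.Lib.Helper36.NTB

set_option autoImplicit false
open Finset
open Models Models.NumericalType

namespace Groth.Agent.S7353

open Groth.Agent.Lib.Helper36 in
/-- Classification of proper subgraphs which are chains of five vertices: let T be a numerical type on n
> 5 indices and i_1, …, i_5 distinct (-2)-indices with a_{i_j i_{j+1}} nonzero for j < 5. Then
a_{i_j i_l} = 0 for |j - l| ≥ 2 and, after possibly reversing the order of the indices, for some
integer w one of the following holds: (A5) w = (w, w, w, w, w), consecutive a = (w, w, w, w), with
2m_1 ≥ m_2, 2m_2 ≥ m_1 + m_3, 2m_3 ≥ m_2 + m_4, 2m_4 ≥ m_3 + m_5, 2m_5 ≥ m_4; (C5) w = (w, w, w, w,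
2w), consecutive a = (w, w, w, 2w), with 2m_1 ≥ m_2, 2m_2 ≥ m_1 + m_3, 2m_3 ≥ m_2 + m_4, 2m_4 ≥ m_3
+ 2m_5, 2m_5 ≥ m_4; (B5) w = (2w, 2w, 2w, 2w, w), consecutive a = (2w, 2w, 2w, 2w), with 2m_1 ≥ m_2,
2m_2 ≥ m_1 + m_3, 2m_3 ≥ m_2 + m_4, 2m_4 ≥ m_3 + m_5, m_5 ≥ m_4. (The inequalities are those given
by the rows Σ_l a_{kl} m_l = 0 of the displayed matrices; the published text has 2m_3 ≥ m_2 + 2m_4
and 2m_4 ≥ m_3 + m_5 in case C5 and m_4 ≥ m_3 in case B5, of which the first does not follow — for
the numerical type with six indices, weights (1,1,1,1,2,1), chain intersection numbers (1,1,1,2)
plus a_{16} = 1, a_{66} = -1 and multiplicities (2,2,2,2,1,2) one has 2m_3 = 4 < m_2 + 2m_4 = 6 — so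
the matrix inequalities are stated.) -/
theorem result {n : ℕ} (T : Models.NumericalType n) (hn : 5 < n)
    (v : Fin 5 ↪ Fin n) (hv : ∀ j, T.IsMinusTwo (v j)) (h01 : T.a (v 0) (v 1) ≠ 0) (h12 : T.a (v 1) (v 2) ≠ 0) (h23 : T.a (v 2) (v 3) ≠ 0) (h34 : T.a (v 3) (v 4) ≠ 0) :
    (T.a (v 0) (v 2) = 0 ∧ T.a (v 0) (v 3) = 0 ∧ T.a (v 0) (v 4) = 0 ∧ T.a (v 1) (v 3) = 0 ∧ T.a (v 1) (v 4) = 0 ∧ T.a (v 2) (v 4) = 0) ∧
    ∃ (u : Fin 5 → Fin n) (w : ℤ), ((∀ j, u j = v j) ∨ (∀ j, u j = v (Fin.rev j))) ∧
      ((T.w (u 0) = w ∧ T.w (u 1) = w ∧ T.w (u 2) = w ∧ T.w (u 3) = w ∧ T.w (u 4) = w ∧ T.a (u 0) (u 1) = w ∧ T.a (u 1) (u 2) = w ∧ T.a (u 2) (u 3) = w ∧ T.a (u 3) (u 4) = w ∧ T.m (u 1) ≤ 2 * T.m (u 0) ∧ T.m (u 0) + T.m (u 2) ≤ 2 * T.m (u 1) ∧ T.m (u 1) + T.m (u 3) ≤ 2 * T.m (u 2) ∧ T.m (u 2) + T.m (u 4) ≤ 2 * T.m (u 3) ∧ T.m (u 3) ≤ 2 * T.m (u 4)) ∨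
      (T.w (u 0) = w ∧ T.w (u 1) = w ∧ T.w (u 2) = w ∧ T.w (u 3) = w ∧ T.w (u 4) = 2 * w ∧ T.a (u 0) (u 1) = w ∧ T.a (u 1) (u 2) = w ∧ T.a (u 2) (u 3) = w ∧ T.a (u 3) (u 4) = 2 * w ∧ T.m (u 1) ≤ 2 * T.m (u 0) ∧ T.m (u 0) + T.m (u 2) ≤ 2 * T.m (u 1) ∧ T.m (u 1) + T.m (u 3) ≤ 2 * T.m (u 2) ∧ T.m (u 2) + 2 * T.m (u 4) ≤ 2 * T.m (u 3) ∧ T.m (u 3) ≤ 2 * T.m (u 4)) ∨
      (T.w (u 0) = 2 * w ∧ T.w (u 1) = 2 * w ∧ T.w (u 2) = 2 * w ∧ T.w (u 3) = 2 * w ∧ T.w (u 4) = w ∧ T.a (u 0) (u 1) = 2 * w ∧ T.a (u 1) (u 2) = 2 * w ∧ T.a (u 2) (u 3) = 2 * w ∧ T.a (u 3) (u 4) = 2 * w ∧ T.m (u 1) ≤ 2 * T.m (u 0) ∧ T.m (u 0) + T.m (u 2) ≤ 2 * T.m (u 1) ∧ T.m (u 1) + T.m (u 3) ≤ 2 * T.m (u 2) ∧ T.m (u 2) + T.m (u 4) ≤ 2 * T.m (u 3) ∧ T.m (u 3) ≤ T.m (u 4))) := by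
  have hne : ∀ s t : Fin 5, s ≠ t → v s ≠ v t := fun s t h => v.injective.ne h
  obtain ⟨b01, hb01⟩ := NT.exists_b T (v 0) (v 1)
  obtain ⟨b02, hb02⟩ := NT.exists_b T (v 0) (v 2)
  obtain ⟨b03, hb03⟩ := NT.exists_b T (v 0) (v 3)
  obtain ⟨b04, hb04⟩ := NT.exists_b T (v 0) (v 4)
  obtain ⟨b10, hb10⟩ := NT.exists_b T (v 1) (v 0)
  obtain ⟨b12, hb12⟩ := NT.exists_b T (v 1) (v 2)
  obtain ⟨b13, hb13⟩ := NT.exists_b T (v 1) (v 3)
  obtain ⟨b14, hb14⟩ := NT.exists_b T (v 1) (v 4)
  obtain ⟨b20, hb20⟩ := NT.exists_b T (v 2) (v 0)
  obtain ⟨b21, hb21⟩ := NT.exists_b T (v 2) (v 1)
  obtain ⟨b23, hb23⟩ := NT.exists_b T (v 2) (v 3)
  obtain ⟨b24, hb24⟩ := NT.exists_b T (v 2) (v 4)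
  obtain ⟨b30, hb30⟩ := NT.exists_b T (v 3) (v 0)
  obtain ⟨b31, hb31⟩ := NT.exists_b T (v 3) (v 1)
  obtain ⟨b32, hb32⟩ := NT.exists_b T (v 3) (v 2)
  obtain ⟨b34, hb34⟩ := NT.exists_b T (v 3) (v 4)
  obtain ⟨b40, hb40⟩ := NT.exists_b T (v 4) (v 0)
  obtain ⟨b41, hb41⟩ := NT.exists_b T (v 4) (v 1)
  obtain ⟨b42, hb42⟩ := NT.exists_b T (v 4) (v 2)
  obtain ⟨b43, hb43⟩ := NT.exists_b T (v 4) (v 3)
  obtain ⟨n01, n10, z01, r01⟩ := NT.b_props T (hne 0 1 (by decide)) hb01 hb10
  obtain ⟨n02, n20, z02, r02⟩ := NT.b_props T (hne 0 2 (by decide)) hb02 hb20
  obtain ⟨n03, n30, z03, r03⟩ := NT.b_props T (hne 0 3 (by decide)) hb03 hb30
  obtain ⟨n04, n40, z04, r04⟩ := NT.b_props T (hne 0 4 (by decide)) hb04 hb40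
  obtain ⟨n12, n21, z12, r12⟩ := NT.b_props T (hne 1 2 (by decide)) hb12 hb21
  obtain ⟨n13, n31, z13, r13⟩ := NT.b_props T (hne 1 3 (by decide)) hb13 hb31
  obtain ⟨n14, n41, z14, r14⟩ := NT.b_props T (hne 1 4 (by decide)) hb14 hb41
  obtain ⟨n23, n32, z23, r23⟩ := NT.b_props T (hne 2 3 (by decide)) hb23 hb32
  obtain ⟨n24, n42, z24, r24⟩ := NT.b_props T (hne 2 4 (by decide)) hb24 hb42
  obtain ⟨n34, n43, z34, r34⟩ := NT.b_props T (hne 3 4 (by decide)) hb34 hb43
  have l01 : 1 ≤ b01 := by
    have : b01 ≠ 0 := fun h => h01 (by rw [hb01, h, zero_mul])
    omega
  have l10 : 1 ≤ b10 := by omega
  have l12 : 1 ≤ b12 := by
    have : b12 ≠ 0 := fun h => h12 (by rw [hb12, h, zero_mul])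
    omega
  have l21 : 1 ≤ b21 := by omega
  have l23 : 1 ≤ b23 := by
    have : b23 ≠ 0 := fun h => h23 (by rw [hb23, h, zero_mul])
    omega
  have l32 : 1 ≤ b32 := by omega
  have l34 : 1 ≤ b34 := by
    have : b34 ≠ 0 := fun h => h34 (by rw [hb34, h, zero_mul])
    omega
  have l43 : 1 ≤ b43 := by omega
  have hbmat : ∀ s t : Fin 5, s ≠ t → T.a (v s) (v t) =
      (![![0, b01, b02, b03, b04], ![b10, 0, b12, b13, b14], ![b20, b21, 0, b23, b24], ![b30, b31, b32, 0, b34], ![b40, b41, b42, b43, 0]] : Fin 5 → Fin 5 → ℤ) s t * T.w (v s) := by
    intro s t hst
    fin_cases s <;> fin_cases t <;> first | exact absurd rfl hst | assumption
  have m0 := NT.m_ineq_b_one T (v 0) (hv 0) (v 1) (hne 1 0 (by decide)) hb01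
  have m1 := NT.m_ineq_b_two T (v 1) (hv 1) (v 0) (v 2) (hne 0 1 (by decide)) (hne 2 1 (by decide)) (hne 0 2 (by decide)) hb10 hb12
  have m2 := NT.m_ineq_b_two T (v 2) (hv 2) (v 1) (v 3) (hne 1 2 (by decide)) (hne 3 2 (by decide)) (hne 1 3 (by decide)) hb21 hb23
  have m3 := NT.m_ineq_b_two T (v 3) (hv 3) (v 2) (v 4) (hne 2 3 (by decide)) (hne 4 3 (by decide)) (hne 2 4 (by decide)) hb32 hb34
  have m4 := NT.m_ineq_b_one T (v 4) (hv 4) (v 3) (hne 3 4 (by decide)) hb43
  have rv0 : (Fin.rev 0 : Fin 5) = 4 := rfl
  have rv1 : (Fin.rev 1 : Fin 5) = 3 := rfl
  have rv2 : (Fin.rev 2 : Fin 5) = 2 := rfl
  have rv3 : (Fin.rev 3 : Fin 5) = 1 := rfl
  have rv4 : (Fin.rev 4 : Fin 5) = 0 := rfl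
  obtain ⟨u, hu⟩ : ∃ u : Fin 5 → Fin n, ∀ j, u j = v (Fin.rev j) := ⟨_, fun _ => rfl⟩
  rcases le_or_gt b02 0 with hc | hc
  · -- b02 = 0
    rcases le_or_gt b03 0 with hc | hc
    · -- b03 = 0
      rcases le_or_gt b04 0 with hc | hc
      · -- b04 = 0
        rcases le_or_gt b13 0 with hc | hc
        · -- b13 = 0
          rcases le_or_gt b14 0 with hc | hc
          · -- b14 = 0
            rcases le_or_gt b24 0 with hc | hc
            · -- b24 = 0
              rcases le_or_gt b01 1 with hc | hc
              · -- b01 = 1
                rcases le_or_gt b10 1 with hc | hc
                · -- b10 = 1
                  rcases le_or_gt b12 1 with hc | hc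
                  · -- b12 = 1
                    rcases le_or_gt b21 1 with hc | hc
                    · -- b21 = 1
                      rcases le_or_gt b23 1 with hc | hc
                      · -- b23 = 1
                        rcases le_or_gt b32 1 with hc | hc
                        · -- b32 = 1
                          rcases le_or_gt b34 1 with hc | hc
                          · -- b34 = 1
                            rcases le_or_gt b43 1 with hc | hc
                            · -- b43 = 1
                              have e01 : b01 = 1 := by omega
                              have e02 : b02 = 0 := by omega
                              have e03 : b03 = 0 := by omega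
                              have e04 : b04 = 0 := by omega
                              have e10 : b10 = 1 := by omega
                              have e12 : b12 = 1 := by omega
                              have e13 : b13 = 0 := by omega
                              have e14 : b14 = 0 := by omega
                              have e20 : b20 = 0 := by omega
                              have e21 : b21 = 1 := by omega
                              have e23 : b23 = 1 := by omega
                              have e24 : b24 = 0 := by omega
                              have e30 : b30 = 0 := by omega
                              have e31 : b31 = 0 := by omega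
                              have e32 : b32 = 1 := by omega
                              have e34 : b34 = 1 := by omega
                              have e40 : b40 = 0 := by omega
                              have e41 : b41 = 0 := by omega
                              have e42 : b42 = 0 := by omega
                              have e43 : b43 = 1 := by omega
                              subst e01
                              subst e02
                              subst e03
                              subst e04
                              subst e10
                              subst e12
                              subst e13
                              subst e14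
                              subst e20
                              subst e21
                              subst e23
                              subst e24
                              subst e30
                              subst e31
                              subst e32
                              subst e34
                              subst e40
                              subst e41
                              subst e42
                              subst e43
                              refine ⟨⟨by linarith, by linarith, by linarith, by linarith, by linarith, by linarith⟩, v, T.w (v 0), Or.inl (fun _ => rfl), ?_⟩
                              refine Or.inl ?_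
                              refine ⟨by linarith, by linarith, by linarith, by linarith, by linarith, by linarith, by linarith, by linarith, by linarith, by linarith, by linarith, by linarith, by linarith, by linarith⟩
                            · -- b43 ≥ 2
                              rcases le_or_gt b43 2 with hc | hc
                              · -- b43 = 2
                                have e01 : b01 = 1 := by omega
                                have e02 : b02 = 0 := by omega
                                have e03 : b03 = 0 := by omega
                                have e04 : b04 = 0 := by omega
                                have e10 : b10 = 1 := by omega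
                                have e12 : b12 = 1 := by omega
                                have e13 : b13 = 0 := by omega
                                have e14 : b14 = 0 := by omega
                                have e20 : b20 = 0 := by omega
                                have e21 : b21 = 1 := by omega
                                have e23 : b23 = 1 := by omega
                                have e24 : b24 = 0 := by omega
                                have e30 : b30 = 0 := by omega
                                have e31 : b31 = 0 := by omega
                                have e32 : b32 = 1 := by omega
                                have e34 : b34 = 1 := by omega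
                                have e40 : b40 = 0 := by omega
                                have e41 : b41 = 0 := by omega
                                have e42 : b42 = 0 := by omega
                                have e43 : b43 = 2 := by omega
                                subst e01
                                subst e02
                                subst e03
                                subst e04
                                subst e10
                                subst e12
                                subst e13
                                subst e14
                                subst e20
                                subst e21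
                                subst e23
                                subst e24
                                subst e30
                                subst e31
                                subst e32
                                subst e34
                                subst e40
                                subst e41
                                subst e42
                                subst e43
                                refine ⟨⟨by linarith, by linarith, by linarith, by linarith, by linarith, by linarith⟩, v, T.w (v 4), Or.inl (fun _ => rfl), ?_⟩
                                refine Or.inr (Or.inr (?_))
                                refine ⟨by linarith, by linarith, by linarith, by linarith, by linarith, by linarith, by linarith, by linarith, by linarith, by linarith, by linarith, by linarith, by linarith, by linarith⟩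
                              · -- b43 ≥ 3
                                exact (NT.no_config_b T v hn hv _ hbmat ![![0, 1, 0, 0, 0], ![1, 0, 1, 0, 0], ![0, 1, 0, 1, 0], ![0, 0, 1, 0, 1], ![0, 0, 0, 3, 0]]
                                  (by intro s t hst; fin_cases s <;> fin_cases t <;> simp <;> omega)
                                  ![1, 2, 3, 5, 7] (by decide) (by decide) (by decide)).elim
                          · -- b34 ≥ 2
                            rcases le_or_gt b34 2 with hc | hc
                            · -- b34 = 2
                              rcases le_or_gt b43 1 with hc | hc
                              · -- b43 = 1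
                                have e01 : b01 = 1 := by omega
                                have e02 : b02 = 0 := by omega
                                have e03 : b03 = 0 := by omega
                                have e04 : b04 = 0 := by omega
                                have e10 : b10 = 1 := by omega
                                have e12 : b12 = 1 := by omega
                                have e13 : b13 = 0 := by omega
                                have e14 : b14 = 0 := by omega
                                have e20 : b20 = 0 := by omega
                                have e21 : b21 = 1 := by omega
                                have e23 : b23 = 1 := by omega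
                                have e24 : b24 = 0 := by omega
                                have e30 : b30 = 0 := by omega
                                have e31 : b31 = 0 := by omega
                                have e32 : b32 = 1 := by omega
                                have e34 : b34 = 2 := by omega
                                have e40 : b40 = 0 := by omega
                                have e41 : b41 = 0 := by omega
                                have e42 : b42 = 0 := by omega
                                have e43 : b43 = 1 := by omega
                                subst e01
                                subst e02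
                                subst e03
                                subst e04
                                subst e10
                                subst e12
                                subst e13
                                subst e14
                                subst e20
                                subst e21
                                subst e23
                                subst e24
                                subst e30
                                subst e31
                                subst e32
                                subst e34
                                subst e40
                                subst e41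
                                subst e42
                                subst e43
                                refine ⟨⟨by linarith, by linarith, by linarith, by linarith, by linarith, by linarith⟩, v, T.w (v 0), Or.inl (fun _ => rfl), ?_⟩
                                refine Or.inr (Or.inl ?_)
                                refine ⟨by linarith, by linarith, by linarith, by linarith, by linarith, by linarith, by linarith, by linarith, by linarith, by linarith, by linarith, by linarith, by linarith, by linarith⟩
                              · -- b43 ≥ 2
                                exact (NT.no_config_b T v hn hv _ hbmat ![![0, 1, 0, 0, 0], ![1, 0, 1, 0, 0], ![0, 1, 0, 1, 0], ![0, 0, 1, 0, 2], ![0, 0, 0, 2, 0]]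
                                  (by intro s t hst; fin_cases s <;> fin_cases t <;> simp <;> omega)
                                  ![1, 2, 4, 8, 7] (by decide) (by decide) (by decide)).elim
                            · -- b34 ≥ 3
                              exact (NT.no_config_b T v hn hv _ hbmat ![![0, 1, 0, 0, 0], ![1, 0, 1, 0, 0], ![0, 1, 0, 1, 0], ![0, 0, 1, 0, 3], ![0, 0, 0, 1, 0]]
                                (by intro s t hst; fin_cases s <;> fin_cases t <;> simp <;> omega)
                                ![2, 4, 7, 10, 5] (by decide) (by decide) (by decide)).elim
                        · -- b32 ≥ 2
                          exact (NT.no_config_b T v hn hv _ hbmat ![![0, 1, 0, 0, 0], ![1, 0, 1, 0, 0], ![0, 1, 0, 1, 0], ![0, 0, 2, 0, 1], ![0, 0, 0, 1, 0]]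
                            (by intro s t hst; fin_cases s <;> fin_cases t <;> simp <;> omega)
                            ![1, 2, 3, 4, 2] (by decide) (by decide) (by decide)).elim
                      · -- b23 ≥ 2
                        exact (NT.no_config_b T v hn hv _ hbmat ![![0, 1, 0, 0, 0], ![1, 0, 1, 0, 0], ![0, 1, 0, 2, 0], ![0, 0, 1, 0, 1], ![0, 0, 0, 1, 0]]
                          (by intro s t hst; fin_cases s <;> fin_cases t <;> simp <;> omega)
                          ![1, 2, 3, 2, 1] (by decide) (by decide) (by decide)).elim
                    · -- b21 ≥ 2
                      exact (NT.no_config_b T v hn hv _ hbmat ![![0, 1, 0, 0, 0], ![1, 0, 1, 0, 0], ![0, 2, 0, 1, 0], ![0, 0, 1, 0, 1], ![0, 0, 0, 1, 0]]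
                        (by intro s t hst; fin_cases s <;> fin_cases t <;> simp <;> omega)
                        ![1, 2, 3, 2, 1] (by decide) (by decide) (by decide)).elim
                  · -- b12 ≥ 2
                    exact (NT.no_config_b T v hn hv _ hbmat ![![0, 1, 0, 0, 0], ![1, 0, 2, 0, 0], ![0, 1, 0, 1, 0], ![0, 0, 1, 0, 1], ![0, 0, 0, 1, 0]]
                      (by intro s t hst; fin_cases s <;> fin_cases t <;> simp <;> omega)
                      ![2, 4, 3, 2, 1] (by decide) (by decide) (by decide)).elim
                · -- b10 ≥ 2
                  rcases le_or_gt b10 2 with hc | hc
                  · -- b10 = 2
                    rcases le_or_gt b12 1 with hc | hc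
                    · -- b12 = 1
                      rcases le_or_gt b21 1 with hc | hc
                      · -- b21 = 1
                        rcases le_or_gt b23 1 with hc | hc
                        · -- b23 = 1
                          rcases le_or_gt b32 1 with hc | hc
                          · -- b32 = 1
                            rcases le_or_gt b34 1 with hc | hc
                            · -- b34 = 1
                              rcases le_or_gt b43 1 with hc | hc
                              · -- b43 = 1
                                have e01 : b01 = 1 := by omega
                                have e02 : b02 = 0 := by omega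
                                have e03 : b03 = 0 := by omega
                                have e04 : b04 = 0 := by omega
                                have e10 : b10 = 2 := by omega
                                have e12 : b12 = 1 := by omega
                                have e13 : b13 = 0 := by omega
                                have e14 : b14 = 0 := by omega
                                have e20 : b20 = 0 := by omega
                                have e21 : b21 = 1 := by omega
                                have e23 : b23 = 1 := by omega
                                have e24 : b24 = 0 := by omega
                                have e30 : b30 = 0 := by omega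
                                have e31 : b31 = 0 := by omega
                                have e32 : b32 = 1 := by omega
                                have e34 : b34 = 1 := by omega
                                have e40 : b40 = 0 := by omega
                                have e41 : b41 = 0 := by omega
                                have e42 : b42 = 0 := by omega
                                have e43 : b43 = 1 := by omega
                                subst e01
                                subst e02
                                subst e03
                                subst e04
                                subst e10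
                                subst e12
                                subst e13
                                subst e14
                                subst e20
                                subst e21
                                subst e23
                                subst e24
                                subst e30
                                subst e31
                                subst e32
                                subst e34
                                subst e40
                                subst e41
                                subst e42
                                subst e43
                                refine ⟨⟨by linarith, by linarith, by linarith, by linarith, by linarith, by linarith⟩, u, T.w (v 4), Or.inr hu, ?_⟩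
                                rw [hu 0, hu 1, hu 2, hu 3, hu 4, rv0, rv1, rv2, rv3, rv4]
                                refine Or.inr (Or.inl ?_)
                                refine ⟨by linarith, by linarith, by linarith, by linarith, by linarith, by linarith, by linarith, by linarith, by linarith, by linarith, by linarith, by linarith, by linarith, by linarith⟩
                              · -- b43 ≥ 2
                                exact (NT.no_config_b T v hn hv _ hbmat ![![0, 1, 0, 0, 0], ![2, 0, 1, 0, 0], ![0, 1, 0, 1, 0], ![0, 0, 1, 0, 1], ![0, 0, 0, 2, 0]]
                                  (by intro s t hst; fin_cases s <;> fin_cases t <;> simp <;> omega)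
                                  ![1, 2, 2, 2, 2] (by decide) (by decide) (by decide)).elim
                            · -- b34 ≥ 2
                              exact (NT.no_config_b T v hn hv _ hbmat ![![0, 1, 0, 0, 0], ![2, 0, 1, 0, 0], ![0, 1, 0, 1, 0], ![0, 0, 1, 0, 2], ![0, 0, 0, 1, 0]]
                                (by intro s t hst; fin_cases s <;> fin_cases t <;> simp <;> omega)
                                ![1, 2, 2, 2, 1] (by decide) (by decide) (by decide)).elim
                          · -- b32 ≥ 2
                            exact (NT.no_config_b T v hn hv _ hbmat ![![0, 1, 0, 0, 0], ![2, 0, 1, 0, 0], ![0, 1, 0, 1, 0], ![0, 0, 2, 0, 1], ![0, 0, 0, 1, 0]]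
                              (by intro s t hst; fin_cases s <;> fin_cases t <;> simp <;> omega)
                              ![2, 4, 5, 6, 3] (by decide) (by decide) (by decide)).elim
                        · -- b23 ≥ 2
                          exact (NT.no_config_b T v hn hv _ hbmat ![![0, 1, 0, 0, 0], ![2, 0, 1, 0, 0], ![0, 1, 0, 2, 0], ![0, 0, 1, 0, 1], ![0, 0, 0, 1, 0]]
                            (by intro s t hst; fin_cases s <;> fin_cases t <;> simp <;> omega)
                            ![3, 6, 7, 4, 2] (by decide) (by decide) (by decide)).elim
                      · -- b21 ≥ 2
                        exact (NT.no_config_b T v hn hv _ hbmat ![![0, 1, 0, 0, 0], ![2, 0, 1, 0, 0], ![0, 2, 0, 1, 0], ![0, 0, 1, 0, 1], ![0, 0, 0, 1, 0]]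
                          (by intro s t hst; fin_cases s <;> fin_cases t <;> simp <;> omega)
                          ![1, 3, 4, 2, 1] (by decide) (by decide) (by decide)).elim
                    · -- b12 ≥ 2
                      exact (NT.no_config_b T v hn hv _ hbmat ![![0, 1, 0, 0, 0], ![2, 0, 2, 0, 0], ![0, 1, 0, 1, 0], ![0, 0, 1, 0, 1], ![0, 0, 0, 1, 0]]
                        (by intro s t hst; fin_cases s <;> fin_cases t <;> simp <;> omega)
                        ![3, 6, 4, 2, 1] (by decide) (by decide) (by decide)).elim
                  · -- b10 ≥ 3
                    exact (NT.no_config_b T v hn hv _ hbmat ![![0, 1, 0, 0, 0], ![3, 0, 1, 0, 0], ![0, 1, 0, 1, 0], ![0, 0, 1, 0, 1], ![0, 0, 0, 1, 0]]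
                      (by intro s t hst; fin_cases s <;> fin_cases t <;> simp <;> omega)
                      ![5, 10, 7, 4, 2] (by decide) (by decide) (by decide)).elim
              · -- b01 ≥ 2
                rcases le_or_gt b01 2 with hc | hc
                · -- b01 = 2
                  rcases le_or_gt b10 1 with hc | hc
                  · -- b10 = 1
                    rcases le_or_gt b12 1 with hc | hc
                    · -- b12 = 1
                      rcases le_or_gt b21 1 with hc | hc
                      · -- b21 = 1
                        rcases le_or_gt b23 1 with hc | hc
                        · -- b23 = 1
                          rcases le_or_gt b32 1 with hc | hc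
                          · -- b32 = 1
                            rcases le_or_gt b34 1 with hc | hc
                            · -- b34 = 1
                              rcases le_or_gt b43 1 with hc | hc
                              · -- b43 = 1
                                have e01 : b01 = 2 := by omega
                                have e02 : b02 = 0 := by omega
                                have e03 : b03 = 0 := by omega
                                have e04 : b04 = 0 := by omega
                                have e10 : b10 = 1 := by omega
                                have e12 : b12 = 1 := by omega
                                have e13 : b13 = 0 := by omega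
                                have e14 : b14 = 0 := by omega
                                have e20 : b20 = 0 := by omega
                                have e21 : b21 = 1 := by omega
                                have e23 : b23 = 1 := by omega
                                have e24 : b24 = 0 := by omega
                                have e30 : b30 = 0 := by omega
                                have e31 : b31 = 0 := by omega
                                have e32 : b32 = 1 := by omega
                                have e34 : b34 = 1 := by omega
                                have e40 : b40 = 0 := by omega
                                have e41 : b41 = 0 := by omega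
                                have e42 : b42 = 0 := by omega
                                have e43 : b43 = 1 := by omega
                                subst e01
                                subst e02
                                subst e03
                                subst e04
                                subst e10
                                subst e12
                                subst e13
                                subst e14
                                subst e20
                                subst e21
                                subst e23
                                subst e24
                                subst e30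
                                subst e31
                                subst e32
                                subst e34
                                subst e40
                                subst e41
                                subst e42
                                subst e43
                                refine ⟨⟨by linarith, by linarith, by linarith, by linarith, by linarith, by linarith⟩, u, T.w (v 0), Or.inr hu, ?_⟩
                                rw [hu 0, hu 1, hu 2, hu 3, hu 4, rv0, rv1, rv2, rv3, rv4]
                                refine Or.inr (Or.inr (?_))
                                refine ⟨by linarith, by linarith, by linarith, by linarith, by linarith, by linarith, by linarith, by linarith, by linarith, by linarith, by linarith, by linarith, by linarith, by linarith⟩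
                              · -- b43 ≥ 2
                                exact (NT.no_config_b T v hn hv _ hbmat ![![0, 2, 0, 0, 0], ![1, 0, 1, 0, 0], ![0, 1, 0, 1, 0], ![0, 0, 1, 0, 1], ![0, 0, 0, 2, 0]]
                                  (by intro s t hst; fin_cases s <;> fin_cases t <;> simp <;> omega)
                                  ![1, 1, 1, 1, 1] (by decide) (by decide) (by decide)).elim
                            · -- b34 ≥ 2
                              exact (NT.no_config_b T v hn hv _ hbmat ![![0, 2, 0, 0, 0], ![1, 0, 1, 0, 0], ![0, 1, 0, 1, 0], ![0, 0, 1, 0, 2], ![0, 0, 0, 1, 0]]
                                (by intro s t hst; fin_cases s <;> fin_cases t <;> simp <;> omega)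
                                ![2, 2, 2, 2, 1] (by decide) (by decide) (by decide)).elim
                          · -- b32 ≥ 2
                            exact (NT.no_config_b T v hn hv _ hbmat ![![0, 2, 0, 0, 0], ![1, 0, 1, 0, 0], ![0, 1, 0, 1, 0], ![0, 0, 2, 0, 1], ![0, 0, 0, 1, 0]]
                              (by intro s t hst; fin_cases s <;> fin_cases t <;> simp <;> omega)
                              ![3, 3, 3, 4, 2] (by decide) (by decide) (by decide)).elim
                        · -- b23 ≥ 2
                          exact (NT.no_config_b T v hn hv _ hbmat ![![0, 2, 0, 0, 0], ![1, 0, 1, 0, 0], ![0, 1, 0, 2, 0], ![0, 0, 1, 0, 1], ![0, 0, 0, 1, 0]]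
                            (by intro s t hst; fin_cases s <;> fin_cases t <;> simp <;> omega)
                            ![3, 3, 3, 2, 1] (by decide) (by decide) (by decide)).elim
                      · -- b21 ≥ 2
                        exact (NT.no_config_b T v hn hv _ hbmat ![![0, 2, 0, 0, 0], ![1, 0, 1, 0, 0], ![0, 2, 0, 1, 0], ![0, 0, 1, 0, 1], ![0, 0, 0, 1, 0]]
                          (by intro s t hst; fin_cases s <;> fin_cases t <;> simp <;> omega)
                          ![3, 3, 4, 2, 1] (by decide) (by decide) (by decide)).elim
                    · -- b12 ≥ 2
                      exact (NT.no_config_b T v hn hv _ hbmat ![![0, 2, 0, 0, 0], ![1, 0, 2, 0, 0], ![0, 1, 0, 1, 0], ![0, 0, 1, 0, 1], ![0, 0, 0, 1, 0]]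
                        (by intro s t hst; fin_cases s <;> fin_cases t <;> simp <;> omega)
                        ![5, 6, 4, 2, 1] (by decide) (by decide) (by decide)).elim
                  · -- b10 ≥ 2
                    exact (NT.no_config_b T v hn hv _ hbmat ![![0, 2, 0, 0, 0], ![2, 0, 1, 0, 0], ![0, 1, 0, 1, 0], ![0, 0, 1, 0, 1], ![0, 0, 0, 1, 0]]
                      (by intro s t hst; fin_cases s <;> fin_cases t <;> simp <;> omega)
                      ![7, 8, 4, 2, 1] (by decide) (by decide) (by decide)).elim
                · -- b01 ≥ 3
                  exact (NT.no_config_b T v hn hv _ hbmat ![![0, 3, 0, 0, 0], ![1, 0, 1, 0, 0], ![0, 1, 0, 1, 0], ![0, 0, 1, 0, 1], ![0, 0, 0, 1, 0]]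
                    (by intro s t hst; fin_cases s <;> fin_cases t <;> simp <;> omega)
                    ![7, 5, 3, 2, 1] (by decide) (by decide) (by decide)).elim
            · -- b24 ≥ 1
              exact (NT.no_config_b T v hn hv _ hbmat ![![0, 1, 0, 0, 0], ![1, 0, 1, 0, 0], ![0, 1, 0, 1, 1], ![0, 0, 1, 0, 1], ![0, 0, 1, 1, 0]]
                (by intro s t hst; fin_cases s <;> fin_cases t <;> simp <;> omega)
                ![1, 2, 4, 3, 3] (by decide) (by decide) (by decide)).elim
          · -- b14 ≥ 1
            exact (NT.no_config_b T v hn hv _ hbmat ![![0, 1, 0, 0, 0], ![1, 0, 1, 0, 1], ![0, 1, 0, 1, 0], ![0, 0, 1, 0, 1], ![0, 1, 0, 1, 0]]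
              (by intro s t hst; fin_cases s <;> fin_cases t <;> simp <;> omega)
              ![1, 2, 2, 2, 2] (by decide) (by decide) (by decide)).elim
        · -- b13 ≥ 1
          exact (NT.no_config_b T v hn hv _ hbmat ![![0, 1, 0, 0, 0], ![1, 0, 1, 1, 0], ![0, 1, 0, 1, 0], ![0, 1, 1, 0, 1], ![0, 0, 0, 1, 0]]
            (by intro s t hst; fin_cases s <;> fin_cases t <;> simp <;> omega)
            ![1, 2, 2, 2, 1] (by decide) (by decide) (by decide)).elim
      · -- b04 ≥ 1
        exact (NT.no_config_b T v hn hv _ hbmat ![![0, 1, 0, 0, 1], ![1, 0, 1, 0, 0], ![0, 1, 0, 1, 0], ![0, 0, 1, 0, 1], ![1, 0, 0, 1, 0]]
          (by intro s t hst; fin_cases s <;> fin_cases t <;> simp <;> omega)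
          ![1, 1, 1, 1, 1] (by decide) (by decide) (by decide)).elim
    · -- b03 ≥ 1
      exact (NT.no_config_b T v hn hv _ hbmat ![![0, 1, 0, 1, 0], ![1, 0, 1, 0, 0], ![0, 1, 0, 1, 0], ![1, 0, 1, 0, 1], ![0, 0, 0, 1, 0]]
        (by intro s t hst; fin_cases s <;> fin_cases t <;> simp <;> omega)
        ![2, 2, 2, 2, 1] (by decide) (by decide) (by decide)).elim
  · -- b02 ≥ 1
    exact (NT.no_config_b T v hn hv _ hbmat ![![0, 1, 1, 0, 0], ![1, 0, 1, 0, 0], ![1, 1, 0, 1, 0], ![0, 0, 1, 0, 1], ![0, 0, 0, 1, 0]]
      (by intro s t hst; fin_cases s <;> fin_cases t <;> simp <;> omega)
      ![3, 3, 4, 2, 1] (by decide) (by decide) (by decide)).elim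

end Groth.Agent.S7353
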