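import Groth.Statements.S7354
import Groth.Agent.Lib.Helper36.NTChainN

set_option autoImplicit false
open Finset
open Models Models.NumericalType

namespace Groth.Agent.S7354

open Groth.Agent.Lib.Helper36 in
/-- The classification for a chain whose left end bond is simple. -/
theorem key {n : ℕ} (T : Models.NumericalType n) (t : ℕ) (ht : 5 < t) (hn : t < n)
    (W : ℕ → Fin n) (u : Fin t → Fin n) (hW : NT.IsChain T W t) (hu : ∀ j : Fin t, u j = W j.val)
    (hl : T.w (W 0) = T.w (W 1) ∧ T.a (W 0) (W 1) = T.w (W 0)) :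
    ∃ w : ℤ, (∀ j k : Fin t, j.val + 1 < k.val → T.a (u j) (u k) = 0) ∧
      ((∀ j : Fin t, T.w (u j) = w) ∧ (∀ j j' : Fin t, j'.val = j.val + 1 → T.a (u j) (u j') = w) ∨
        ((∀ j : Fin t, j.val + 1 < t → T.w (u j) = w) ∧ (∀ j : Fin t, j.val + 1 = t → T.w (u j) = 2 * w) ∧
          (∀ j j' : Fin t, j'.val = j.val + 1 → j'.val + 1 < t → T.a (u j) (u j') = w) ∧
          (∀ j j' : Fin t, j'.val = j.val + 1 → j'.val + 1 = t → T.a (u j) (u j') = 2 * w)) ∨
        ((∀ j : Fin t, j.val + 1 < t → T.w (u j) = 2 * w) ∧ (∀ j : Fin t, j.val + 1 = t → T.w (u j) = w) ∧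
          (∀ j j' : Fin t, j'.val = j.val + 1 → T.a (u j) (u j') = 2 * w))) := by
  obtain ⟨hw, ha⟩ := hW.weights_of_left_simple hn (by omega) hl
  have hz : ∀ j k : Fin t, j.val + 1 < k.val → T.a (u j) (u k) = 0 := by
    intro j k hjk
    rw [hu j, hu k]
    exact hW.nonadj_zero hn j.val k.val hjk k.isLt
  have hcomm := NT.a_comm T (W (t - 1)) (W (t - 2))
  have hwt2 : T.w (W (t - 2)) = T.w (W 0) := hw (t - 2) (by omega)
  have et : t - 2 + 1 = t - 1 := by omega
  rcases hW.right_end hn (by omega) with hr | hr | hr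
  · -- all bonds simple
    refine ⟨T.w (W 0), hz, Or.inl ⟨?_, ?_⟩⟩
    · intro j
      rw [hu j]
      by_cases hj : j.val + 1 < t
      · exact hw _ hj
      · have : j.val = t - 1 := by have := j.isLt; omega
        rw [this, hr.1, hwt2]
    · intro j j' hjj'
      rw [hu j, hu j', hjj']
      by_cases hj : j.val + 2 < t
      · exact ha _ hj
      · have : j.val = t - 2 := by have := j'.isLt; omega
        rw [this, et, ← hcomm, hr.2, hr.1, hwt2]
  · -- the last weight is doubled
    refine ⟨T.w (W 0), hz, Or.inr (Or.inl ⟨?_, ?_, ?_, ?_⟩)⟩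
    · intro j hj
      rw [hu j]; exact hw _ hj
    · intro j hj
      rw [hu j]
      have : j.val = t - 1 := by omega
      rw [this, hr.1, hwt2]
    · intro j j' hjj' hj'
      rw [hu j, hu j', hjj']
      exact ha _ (by omega)
    · intro j j' hjj' hj'
      rw [hu j, hu j', hjj']
      have : j.val = t - 2 := by omega
      rw [this, et, ← hcomm, hr.2, hr.1, hwt2]
  · -- the last weight is halved
    refine ⟨T.w (W (t - 1)), hz, Or.inr (Or.inr ⟨?_, ?_, ?_⟩)⟩
    · intro j hj
      rw [hu j, hw _ hj, ← hwt2, hr.1]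
    · intro j hj
      rw [hu j]
      have : j.val = t - 1 := by omega
      rw [this]
    · intro j j' hjj'
      rw [hu j, hu j', hjj']
      by_cases hj : j.val + 2 < t
      · rw [ha _ hj, ← hwt2, hr.1]
      · have : j.val = t - 2 := by have := j'.isLt; omega
        rw [this, et, ← hcomm, hr.2, hr.1]

open Groth.Agent.Lib.Helper36 in
/-- Let T be a numerical type on n indices, t > 5 with n > t, and i_1, …, i_t distinct (-2)-indices with
a_{i_j i_{j+1}} nonzero for j = 1, …, t - 1. Then, after possibly reversing the order of the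
indices, for some integer w either (A) w_{i_1} = … = w_{i_t} = w and a_{i_j i_{j+1}} = w for all j;
or (C) w_{i_1} = … = w_{i_{t-1}} = w, w_{i_t} = 2w, a_{i_j i_{j+1}} = w for j < t - 1 and a_{i_{t-1}
i_t} = 2w; or (B) w_{i_1} = … = w_{i_{t-1}} = 2w, w_{i_t} = w and a_{i_j i_{j+1}} = 2w for all j;
and in every case a_{i_j i_k} = 0 whenever k > j + 1. -/
theorem result {n : ℕ} (T : Models.NumericalType n) (t : ℕ) (ht : 5 < t) (hn : t < n)
    (v : Fin t ↪ Fin n) (hv : ∀ j, T.IsMinusTwo (v j))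
    (hchain : ∀ j j' : Fin t, j'.val = j.val + 1 → T.a (v j) (v j') ≠ 0) :
    ∃ (u : Fin t → Fin n) (w : ℤ), ((∀ j, u j = v j) ∨ (∀ j, u j = v (Fin.rev j))) ∧
      (∀ j k : Fin t, j.val + 1 < k.val → T.a (u j) (u k) = 0) ∧
      ((∀ j : Fin t, T.w (u j) = w) ∧ (∀ j j' : Fin t, j'.val = j.val + 1 → T.a (u j) (u j') = w) ∨
        ((∀ j : Fin t, j.val + 1 < t → T.w (u j) = w) ∧ (∀ j : Fin t, j.val + 1 = t → T.w (u j) = 2 * w) ∧
          (∀ j j' : Fin t, j'.val = j.val + 1 → j'.val + 1 < t → T.a (u j) (u j') = w) ∧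
          (∀ j j' : Fin t, j'.val = j.val + 1 → j'.val + 1 = t → T.a (u j) (u j') = 2 * w)) ∨
        ((∀ j : Fin t, j.val + 1 < t → T.w (u j) = 2 * w) ∧ (∀ j : Fin t, j.val + 1 = t → T.w (u j) = w) ∧
          (∀ j j' : Fin t, j'.val = j.val + 1 → T.a (u j) (u j') = 2 * w))) := by
  have ht0 : 0 < t := by omega
  let V : ℕ → Fin n := fun j => if h : j < t then v ⟨j, h⟩ else v ⟨0, ht0⟩
  have hV : ∀ (j : ℕ) (hj : j < t), V j = v ⟨j, hj⟩ := fun j hj => dif_pos hj
  have hch : NT.IsChain T V t := by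
    refine ⟨?_, ?_, ?_⟩
    · intro i j hi hj hij
      rw [hV i hi, hV j hj] at hij
      exact congrArg Fin.val (v.injective hij)
    · intro i hi
      rw [hV i hi]; exact hv _
    · intro i hi
      rw [hV i (by omega), hV (i + 1) hi]
      exact hchain _ _ rfl
  rcases hch.left_or_right_simple hn (by omega) with hl | hr
  · obtain ⟨w, hw⟩ := key T t ht hn V v hch (fun j => (hV j.val j.isLt).symm) hl
    exact ⟨v, w, Or.inl (fun _ => rfl), hw⟩
  · have hrev : ∀ j : Fin t, v (Fin.rev j) = (fun i => V (t - 1 - i)) j.val := by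
      intro j
      show v (Fin.rev j) = V (t - 1 - j.val)
      rw [hV (t - 1 - j.val) (by omega)]
      congr 1
      apply Fin.ext
      simp [Fin.rev]
      omega
    have hl' : T.w ((fun i => V (t - 1 - i)) 0) = T.w ((fun i => V (t - 1 - i)) 1) ∧
        T.a ((fun i => V (t - 1 - i)) 0) ((fun i => V (t - 1 - i)) 1) =
          T.w ((fun i => V (t - 1 - i)) 0) := by
      have e : t - 1 - 1 = t - 2 := by omega
      simpa [e] using hr
    obtain ⟨w, hw⟩ := key T t ht hn (fun i => V (t - 1 - i)) (fun j => v (Fin.rev j)) hch.reverse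
      hrev hl'
    exact ⟨fun j => v (Fin.rev j), w, Or.inr (fun _ => rfl), hw⟩

end Groth.Agent.S7354
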