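import Groth.Statements.S7355
import Groth.Agent.S7347
import Groth.Agent.Lib.Helper36.NTChainN

set_option autoImplicit false
open Finset
open Models Models.NumericalType

namespace Groth.Agent.S7355

open Groth.Agent.Lib.Helper36 in
/-- In a configuration of type `D`, the bond at the far end of the long arm is simple
(certificate of type `B̃`). -/
theorem left_simple {n : ℕ} (T : Models.NumericalType n) (t : ℕ) (ht : 4 < t) (hn : t + 1 < n)
    (v : Fin (t + 1) ↪ Fin n) (hv : ∀ j, T.IsMinusTwo (v j))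
    (hchain : ∀ j j' : Fin (t + 1), j'.val = j.val + 1 → j'.val < t → T.a (v j) (v j') ≠ 0)
    (hbranch : ∀ j j' : Fin (t + 1), j.val + 2 = t → j'.val = t → T.a (v j) (v j') ≠ 0)
    (i0 i1 : Fin (t + 1)) (hi0 : i0.val = 0) (hi1 : i1.val = 1)
    (hb : NT.EndBond T (v i0) (v i1)) :
    T.w (v i0) = T.w (v i1) ∧ T.a (v i0) (v i1) = T.w (v i0) := by
  by_contra hcon
  obtain ⟨e0, c0, d0, he0, hc0, hd0, r0, r1⟩ := hb.multiple_data hcon
  let x : Fin (t + 1) → ℤ := fun s =>
    if s.val = 0 then e0 else if s.val = t - 1 ∨ s.val = t then 1 else 2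
  have hxa : ∀ s : Fin (t + 1), s.val = 0 → x s = e0 := fun s hs => if_pos hs
  have hxb : ∀ s : Fin (t + 1), (s.val = t - 1 ∨ s.val = t) → x s = 1 := fun s hs => by
    have : ¬ s.val = 0 := by omega
    simp only [x, if_neg this, if_pos hs]
  have hxc : ∀ s : Fin (t + 1), s.val ≠ 0 → s.val ≠ t - 1 → s.val ≠ t → x s = 2 :=
    fun s h1 h2 h3 => by
      have : ¬ (s.val = t - 1 ∨ s.val = t) := by omega
      simp only [x, if_neg h1, if_neg this]
  have hxpos : ∀ s : Fin (t + 1), 0 < x s := by
    intro s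
    by_cases h1 : s.val = 0
    · rw [hxa s h1]; exact he0
    by_cases h2 : s.val = t - 1 ∨ s.val = t
    · rw [hxb s h2]; norm_num
    · rw [hxc s h1 (by omega) (by omega)]; norm_num
  have hx0 : ∀ s : Fin (t + 1), 0 ≤ x s := fun s => (hxpos s).le
  have NE : ∀ (s s' : Fin (t + 1)), s.val ≠ s'.val → s ≠ s' := fun s s' h => Fin.ne_of_val_ne h
  have hchain' : ∀ j j' : Fin (t + 1), j'.val = j.val + 1 → j'.val < t → T.a (v j') (v j) ≠ 0 := by
    intro j j' h1 h2
    rw [NT.a_comm]; exact hchain j j' h1 h2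
  have hbranch' : ∀ j j' : Fin (t + 1), j.val + 2 = t → j'.val = t → T.a (v j') (v j) ≠ 0 := by
    intro j j' h1 h2
    rw [NT.a_comm]; exact hbranch j j' h1 h2
  refine NT.no_nonneg_vector_emb T v (by omega) hn x hxpos fun s => ?_
  have hsv := s.isLt
  by_cases c0' : s.val = 0
  · have es : s = i0 := Fin.ext (by omega)
    refine NT.row_nonneg_one_w T v x hx0 s (hv s) i1 (NE _ _ (by omega)) c0 ?_ ?_
    · rw [es]; exact hc0
    · rw [hxa s c0', hxc i1 (by omega) (by omega) (by omega)]; linarith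
  by_cases c1' : s.val = 1
  · have es : s = i1 := Fin.ext (by omega)
    let q : Fin (t + 1) := ⟨2, by omega⟩
    have hq : q.val = 2 := rfl
    refine NT.row_nonneg_two_w T v x hx0 s (hv s) i0 q (NE _ _ (by omega)) (NE _ _ (by omega))
      (NE _ _ (by omega)) d0 1 ?_ ?_ ?_
    · rw [es]; exact hd0
    · rw [one_mul]
      exact (NT.w_le_of_ne_zero T (v.injective.ne (NE _ _ (by omega)))
        (hchain s q (by omega) (by omega))).1
    · rw [hxc s (by omega) (by omega) (by omega), hxa i0 hi0, hxc q (by omega) (by omega) (by omega)]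
      linarith
  by_cases c2' : s.val + 3 ≤ t
  · -- `2 ≤ s ≤ t - 3`
    let p : Fin (t + 1) := ⟨s.val - 1, by omega⟩
    let q : Fin (t + 1) := ⟨s.val + 1, by omega⟩
    have hp : p.val = s.val - 1 := rfl
    have hq : q.val = s.val + 1 := rfl
    refine NT.row_nonneg_two T v x hx0 s (hv s) p q (NE _ _ (by omega)) (NE _ _ (by omega))
      (NE _ _ (by omega)) (hchain' p s (by omega) (by omega)) (hchain s q (by omega) (by omega)) ?_
    rw [hxc s (by omega) (by omega) (by omega), hxc p (by omega) (by omega) (by omega),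
      hxc q (by omega) (by omega) (by omega)]
    norm_num
  by_cases c3' : s.val + 2 = t
  · -- the branch vertex `t - 2`
    let p : Fin (t + 1) := ⟨t - 3, by omega⟩
    let q : Fin (t + 1) := ⟨t - 1, by omega⟩
    let r : Fin (t + 1) := ⟨t, by omega⟩
    have hp : p.val = t - 3 := rfl
    have hq : q.val = t - 1 := rfl
    have hr : r.val = t := rfl
    refine NT.row_nonneg_three T v x hx0 s (hv s) p q r (NE _ _ (by omega)) (NE _ _ (by omega))
      (NE _ _ (by omega)) (NE _ _ (by omega)) (NE _ _ (by omega)) (NE _ _ (by omega))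
      (hchain' p s (by omega) (by omega)) (hchain s q (by omega) (by omega))
      (hbranch s r c3' hr) ?_
    rw [hxc s (by omega) (by omega) (by omega), hxc p (by omega) (by omega) (by omega),
      hxb q (Or.inl hq), hxb r (Or.inr hr)]
    norm_num
  by_cases c4' : s.val + 1 = t
  · -- the short arm `t - 1`
    let p : Fin (t + 1) := ⟨t - 2, by omega⟩
    have hp : p.val = t - 2 := rfl
    refine NT.row_nonneg_one T v x hx0 s (hv s) p (NE _ _ (by omega))
      (hchain' p s (by omega) (by omega)) ?_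
    rw [hxb s (Or.inl (by omega)), hxc p (by omega) (by omega) (by omega)]
    norm_num
  · -- the extra vertex `t`
    have es : s.val = t := by omega
    let p : Fin (t + 1) := ⟨t - 2, by omega⟩
    have hp : p.val = t - 2 := rfl
    refine NT.row_nonneg_one T v x hx0 s (hv s) p (NE _ _ (by omega))
      (hbranch' p s (by omega) es) ?_
    rw [hxb s (Or.inr es), hxc p (by omega) (by omega) (by omega)]
    norm_num

open Groth.Agent.Lib.Helper36 in
/-- In a configuration of type `D`, the extra vertex does not meet the members `j ≤ t - 3` of the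
long arm (otherwise there is a cycle). -/
theorem extra_zero {n : ℕ} (T : Models.NumericalType n) (t : ℕ) (ht : 4 < t) (hn : t + 1 < n)
    (v : Fin (t + 1) ↪ Fin n) (hv : ∀ j, T.IsMinusTwo (v j))
    (hchain : ∀ j j' : Fin (t + 1), j'.val = j.val + 1 → j'.val < t → T.a (v j) (v j') ≠ 0)
    (hbranch : ∀ j j' : Fin (t + 1), j.val + 2 = t → j'.val = t → T.a (v j) (v j') ≠ 0)
    (i k : Fin (t + 1)) (hi : i.val + 3 ≤ t) (hk : k.val = t) : T.a (v i) (v k) = 0 := by
  by_contra hne
  have hne' : T.a (v k) (v i) ≠ 0 := by rwa [NT.a_comm]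
  let x : Fin (t + 1) → ℤ := fun s => if (i.val ≤ s.val ∧ s.val + 2 ≤ t) ∨ s.val = t then 1 else 0
  have hx1 : ∀ s : Fin (t + 1), ((i.val ≤ s.val ∧ s.val + 2 ≤ t) ∨ s.val = t) → x s = 1 :=
    fun s h => if_pos h
  have hx0 : ∀ s : Fin (t + 1), 0 ≤ x s := by
    intro s
    by_cases hs : (i.val ≤ s.val ∧ s.val + 2 ≤ t) ∨ s.val = t
    · rw [hx1 s hs]; norm_num
    · have : x s = 0 := if_neg hs
      rw [this]
  have hxpos : ∀ s : Fin (t + 1), 0 < x s → (i.val ≤ s.val ∧ s.val + 2 ≤ t) ∨ s.val = t := by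
    intro s hs
    by_contra hcon
    have : x s = 0 := if_neg hcon
    rw [this] at hs
    exact lt_irrefl _ hs
  have NE : ∀ (s s' : Fin (t + 1)), s.val ≠ s'.val → s ≠ s' := fun s s' h => Fin.ne_of_val_ne h
  have hchain' : ∀ j j' : Fin (t + 1), j'.val = j.val + 1 → j'.val < t → T.a (v j') (v j) ≠ 0 := by
    intro j j' h1 h2
    rw [NT.a_comm]; exact hchain j j' h1 h2
  have hbranch' : ∀ j j' : Fin (t + 1), j.val + 2 = t → j'.val = t → T.a (v j') (v j) ≠ 0 := by
    intro j j' h1 h2
    rw [NT.a_comm]; exact hbranch j j' h1 h2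
  refine NT.no_nonneg_vector_emb_supp T v hn x hx0 ⟨i, ?_⟩ ?_
  · rw [hx1 i (Or.inl ⟨le_rfl, by omega⟩)]; norm_num
  · intro s hs
    have hsupp := hxpos s hs
    have hsv := s.isLt
    by_cases c1 : s.val = t
    · -- the extra vertex: neighbours `t - 2` and `i`
      have es : s = k := Fin.ext (by omega)
      let p : Fin (t + 1) := ⟨t - 2, by omega⟩
      have hp : p.val = t - 2 := rfl
      refine NT.row_nonneg_two T v x hx0 s (hv s) p i (NE _ _ (by omega)) (NE _ _ (by omega))
        (NE _ _ (by omega)) (hbranch' p s (by omega) c1) (by rw [es]; exact hne') ?_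
      rw [hx1 s (Or.inr c1), hx1 p (Or.inl ⟨by omega, by omega⟩), hx1 i (Or.inl ⟨le_rfl, by omega⟩)]
      norm_num
    have hs' : i.val ≤ s.val ∧ s.val + 2 ≤ t := by
      rcases hsupp with h | h
      · exact h
      · exact absurd h c1
    by_cases c2 : s.val = i.val
    · have es : s = i := Fin.ext c2
      by_cases c3 : s.val + 2 = t
      · omega
      · -- neighbours `i + 1` and the extra vertex
        let q : Fin (t + 1) := ⟨s.val + 1, by omega⟩
        have hq : q.val = s.val + 1 := rfl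
        refine NT.row_nonneg_two T v x hx0 s (hv s) q k (NE _ _ (by omega)) (NE _ _ (by omega))
          (NE _ _ (by omega)) (hchain s q (by omega) (by omega)) (by rw [es]; exact hne) ?_
        rw [hx1 s (Or.inl hs'), hx1 q (Or.inl ⟨by omega, by omega⟩), hx1 k (Or.inr hk)]
        norm_num
    by_cases c3 : s.val + 2 = t
    · -- the branch vertex: neighbours `t - 3` and the extra vertex
      let p : Fin (t + 1) := ⟨s.val - 1, by omega⟩
      have hp : p.val = s.val - 1 := rfl
      refine NT.row_nonneg_two T v x hx0 s (hv s) p k (NE _ _ (by omega)) (NE _ _ (by omega))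
        (NE _ _ (by omega)) (hchain' p s (by omega) (by omega)) (hbranch s k c3 hk) ?_
      rw [hx1 s (Or.inl hs'), hx1 p (Or.inl ⟨by omega, by omega⟩), hx1 k (Or.inr hk)]
      norm_num
    · -- interior of the cycle
      let p : Fin (t + 1) := ⟨s.val - 1, by omega⟩
      let q : Fin (t + 1) := ⟨s.val + 1, by omega⟩
      have hp : p.val = s.val - 1 := rfl
      have hq : q.val = s.val + 1 := rfl
      refine NT.row_nonneg_two T v x hx0 s (hv s) p q (NE _ _ (by omega)) (NE _ _ (by omega))
        (NE _ _ (by omega)) (hchain' p s (by omega) (by omega))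
        (hchain s q (by omega) (by omega)) ?_
      rw [hx1 s (Or.inl hs'), hx1 p (Or.inl ⟨by omega, by omega⟩),
        hx1 q (Or.inl ⟨by omega, by omega⟩)]
      norm_num

open Groth.Agent.Lib.Helper36 in
/-- Classification of proper subgraphs of type D: let T be a numerical type on n indices, t > 4 with n >
t + 1, and i_1, …, i_{t+1} distinct (-2)-indices such that a_{i_j i_{j+1}} is nonzero for j = 1, …,
t - 1 and a_{i_{t-1} i_{t+1}} is nonzero. Then for some integer w one has w_{i_1} = … = w_{i_{t+1}}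
= w, a_{i_j i_{j+1}} = w for j < t, a_{i_{t-1} i_{t+1}} = w, and a_{i_j i_k} = 0 for all other pairs
j ≠ k. -/
theorem result {n : ℕ} (T : Models.NumericalType n) (t : ℕ) (ht : 4 < t) (hn : t + 1 < n)
    (v : Fin (t + 1) ↪ Fin n) (hv : ∀ j, T.IsMinusTwo (v j))
    (hchain : ∀ j j' : Fin (t + 1), j'.val = j.val + 1 → j'.val < t → T.a (v j) (v j') ≠ 0)
    (hbranch : ∀ j j' : Fin (t + 1), j.val + 2 = t → j'.val = t → T.a (v j) (v j') ≠ 0) :
    ∃ w : ℤ, (∀ j : Fin (t + 1), T.w (v j) = w) ∧
      (∀ j j' : Fin (t + 1), j'.val = j.val + 1 → j'.val < t → T.a (v j) (v j') = w) ∧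
      (∀ j j' : Fin (t + 1), j.val + 2 = t → j'.val = t → T.a (v j) (v j') = w) ∧
      (∀ j k : Fin (t + 1), j.val < k.val → ¬ (k.val = j.val + 1 ∧ k.val < t) → ¬ (j.val + 2 = t ∧ k.val = t) →
        T.a (v j) (v k) = 0) := by
  have hcomm : ∀ i j, T.a i j = T.a j i := NT.a_comm T
  let V : ℕ → Fin n := fun j => if h : j < t + 1 then v ⟨j, h⟩ else v ⟨0, by omega⟩
  have hV : ∀ (j : ℕ) (hj : j < t + 1), V j = v ⟨j, hj⟩ := fun j hj => dif_pos hj
  have hVinj : ∀ i j, i < t + 1 → j < t + 1 → V i = V j → i = j := by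
    intro i j hi hj hij
    rw [hV i hi, hV j hj] at hij
    exact congrArg Fin.val (v.injective hij)
  have hVm2 : ∀ i, i < t + 1 → T.IsMinusTwo (V i) := by
    intro i hi
    rw [hV i hi]; exact hv _
  have hVadj : ∀ i, i + 1 < t → T.a (V i) (V (i + 1)) ≠ 0 := by
    intro i hi
    rw [hV i (by omega), hV (i + 1) (by omega)]
    exact hchain _ _ rfl hi
  have hVbr : T.a (V (t - 2)) (V t) ≠ 0 := by
    rw [hV (t - 2) (by omega), hV t (by omega)]
    exact hbranch _ _ (by show t - 2 + 2 = t; omega) rfl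
  have hch : NT.IsChain T V t :=
    ⟨fun i j hi hj => hVinj i j (by omega) (by omega), fun i hi => hVm2 i (by omega), hVadj⟩
  -- the `D5` configuration at the branch
  have inj5 : Function.Injective (![V (t - 4), V (t - 3), V (t - 2), V (t - 1), V t] : Fin 5 → Fin n) := by
    intro s s' hss'
    fin_cases s <;> fin_cases s' <;> first
      | rfl
      | (exfalso
         have := hVinj _ _ (by omega) (by omega) hss'
         omega)
  let v5 : Fin 5 ↪ Fin n := ⟨![V (t - 4), V (t - 3), V (t - 2), V (t - 1), V t], inj5⟩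
  have hv5 : ∀ s, T.IsMinusTwo (v5 s) := by
    intro s; fin_cases s
    exacts [hVm2 _ (by omega), hVm2 _ (by omega), hVm2 _ (by omega), hVm2 _ (by omega),
      hVm2 _ (by omega)]
  have e43 : t - 4 + 1 = t - 3 := by omega
  have e32 : t - 3 + 1 = t - 2 := by omega
  have e21 : t - 2 + 1 = t - 1 := by omega
  have h01 : T.a (v5 0) (v5 1) ≠ 0 := by
    show T.a (V (t - 4)) (V (t - 3)) ≠ 0
    rw [← e43]; exact hVadj _ (by omega)
  have h12 : T.a (v5 1) (v5 2) ≠ 0 := by
    show T.a (V (t - 3)) (V (t - 2)) ≠ 0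
    rw [← e32]; exact hVadj _ (by omega)
  have h23 : T.a (v5 2) (v5 3) ≠ 0 := by
    show T.a (V (t - 2)) (V (t - 1)) ≠ 0
    rw [← e21]; exact hVadj _ (by omega)
  have h24 : T.a (v5 2) (v5 4) ≠ 0 := hVbr
  obtain ⟨w5, hw5, -, -, a23, a24, -, -, -, -, -, z34, -⟩ :=
    Groth.Agent.S7347.result T (by omega) v5 hv5 h01 h12 h23 h24
  have hw5_2 : T.w (V (t - 2)) = w5 := hw5 2
  have hw5_3 : T.w (V (t - 1)) = w5 := hw5 3
  have hw5_4 : T.w (V t) = w5 := hw5 4
  have a23' : T.a (V (t - 2)) (V (t - 1)) = w5 := a23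
  have a24' : T.a (V (t - 2)) (V t) = w5 := a24
  have z34' : T.a (V (t - 1)) (V t) = 0 := z34
  -- the far end bond is simple
  have hend := hch.left_end (by omega : t < n) (by omega)
  have hl : T.w (V 0) = T.w (V 1) ∧ T.a (V 0) (V 1) = T.w (V 0) := by
    have := left_simple T t ht hn v hv hchain hbranch ⟨0, by omega⟩ ⟨1, by omega⟩ rfl rfl
      (by rw [← hV 0 (by omega), ← hV 1 (by omega)]; exact hend)
    rw [← hV 0 (by omega), ← hV 1 (by omega)] at this
    exact this
  obtain ⟨hw, ha⟩ := hch.weights_of_left_simple (by omega : t < n) (by omega) hl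
  have hw5' : w5 = T.w (V 0) := by rw [← hw5_2]; exact hw (t - 2) (by omega)
  refine ⟨T.w (V 0), ?_, ?_, ?_, ?_⟩
  · intro j
    have hj := j.isLt
    rw [← hV j.val hj]
    by_cases c1 : j.val + 1 < t
    · exact hw _ c1
    by_cases c2 : j.val + 1 = t
    · have : j.val = t - 1 := by omega
      rw [this, hw5_3, hw5']
    · have : j.val = t := by omega
      rw [this, hw5_4, hw5']
  · intro j j' hjj' hj't
    rw [← hV j.val j.isLt, ← hV j'.val j'.isLt, hjj']
    by_cases c1 : j.val + 2 < t
    · exact ha _ c1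
    · have : j.val = t - 2 := by omega
      rw [this, e21, a23', hw5']
  · intro j j' hj hj'
    rw [← hV j.val j.isLt, ← hV j'.val j'.isLt, hj']
    have : j.val = t - 2 := by omega
    rw [this, a24', hw5']
  · intro j k hjk hn1 hn2
    by_cases c1 : k.val < t
    · rw [← hV j.val j.isLt, ← hV k.val k.isLt]
      exact hch.nonadj_zero (by omega : t < n) j.val k.val (by omega) c1
    · have hk : k.val = t := by have := k.isLt; omega
      by_cases c2 : j.val + 3 ≤ t
      · exact extra_zero T t ht hn v hv hchain hbranch j k c2 hk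
      · have hj : j.val = t - 1 := by omega
        rw [← hV j.val j.isLt, ← hV k.val k.isLt, hj, hk]
        exact z34'

end Groth.Agent.S7355
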