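import Groth.Statements.S7362
import Groth.Agent.Lib.Helper36.NTGenusOne

set_option autoImplicit false
open Finset
open Models Models.NumericalType

namespace Groth.Agent.S7362

open Groth.Agent.Lib.Helper36 in
/-- Genus one classification: case n = 2: let T be a minimal numerical type of genus 1 on two indices.
Then for some ordering i, j of the indices and some integers m, w, either m_i = m_j = m, a_ii = a_jj
= -2w, a_ij = 2w, w_i = w_j = w, g_i = g_j = 0; or m_i = 2m, m_j = m, a_ii = -2w, a_ij = 4w, a_jj =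
-8w, w_i = w, w_j = 4w, g_i = g_j = 0. Only the classification direction is stated. -/
theorem result (T : Models.NumericalType 2) (hmin : T.IsMinimal) (hg : T.genus = 1) :
    ∃ (i j : Fin 2) (m w : ℤ), i ≠ j ∧ T.g i = 0 ∧ T.g j = 0 ∧
      ((T.m i = m ∧ T.m j = m ∧ T.a i i = -2 * w ∧ T.a i j = 2 * w ∧ T.a j j = -2 * w ∧ T.w i = w ∧ T.w j = w) ∨
        (T.m i = 2 * m ∧ T.m j = m ∧ T.a i i = -2 * w ∧ T.a i j = 4 * w ∧ T.a j j = -8 * w ∧ T.w i = w ∧ T.w j = 4 * w)) := by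
  have h0 := NT.all_minusTwo_of_genus_one T (by norm_num) hmin hg 0
  have h1 := NT.all_minusTwo_of_genus_one T (by norm_num) hmin hg 1
  obtain ⟨b01, hb01⟩ := NT.exists_b T 0 1
  obtain ⟨b10, hb10⟩ := NT.exists_b T 1 0
  obtain ⟨n01, n10, -, r01⟩ := NT.b_props T (by decide : (0 : Fin 2) ≠ 1) hb01 hb10
  have hm0 := T.m_pos 0
  have hm1 := T.m_pos 1
  have hw0 := T.w_pos 0
  have hw1 := T.w_pos 1
  -- the two row equations
  have e0 : b01 * T.m 1 = 2 * T.m 0 := by
    have h := NT.row_sum T 0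
    rw [Fin.sum_univ_two, h0.2, hb01] at h
    have : T.w 0 * (b01 * T.m 1 - 2 * T.m 0) = 0 := by linarith
    rcases mul_eq_zero.mp this with h | h
    · omega
    · linarith
  have e1 : b10 * T.m 0 = 2 * T.m 1 := by
    have h := NT.row_sum T 1
    rw [Fin.sum_univ_two, h1.2, hb10] at h
    have : T.w 1 * (b10 * T.m 0 - 2 * T.m 1) = 0 := by linarith
    rcases mul_eq_zero.mp this with h | h
    · omega
    · linarith
  have hprod : b01 * b10 = 4 := by
    have h : b01 * b10 * (T.m 0 * T.m 1) = 4 * (T.m 0 * T.m 1) := by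
      calc b01 * b10 * (T.m 0 * T.m 1) = (b01 * T.m 1) * (b10 * T.m 0) := by ring
        _ = 4 * (T.m 0 * T.m 1) := by rw [e0, e1]; ring
    exact mul_right_cancel₀ (mul_pos hm0 hm1).ne' h
  have hb01pos : 1 ≤ b01 := by
    by_contra hlt
    have : b01 = 0 := by omega
    rw [this] at hprod
    omega
  have hb10pos : 1 ≤ b10 := by
    by_contra hlt
    have : b10 = 0 := by omega
    rw [this] at hprod
    omega
  have hb01le : b01 ≤ 4 := by nlinarith
  have hcases : (b01 = 2 ∧ b10 = 2) ∨ (b01 = 1 ∧ b10 = 4) ∨ (b01 = 4 ∧ b10 = 1) := by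
    interval_cases b01 <;> omega
  rcases hcases with ⟨rfl, rfl⟩ | ⟨rfl, rfl⟩ | ⟨rfl, rfl⟩
  · refine ⟨0, 1, T.m 0, T.w 0, by decide, h0.1, h1.1, Or.inl ⟨rfl, by linarith, ?_, ?_, ?_, rfl, by linarith⟩⟩
    · rw [h0.2]
    · rw [hb01]
    · rw [h1.2]; linarith
  · refine ⟨1, 0, T.m 0, T.w 1, by decide, h1.1, h0.1, Or.inr ⟨by linarith, rfl, ?_, ?_, ?_, rfl, by linarith⟩⟩
    · rw [h1.2]
    · rw [hb10]
    · rw [h0.2]; linarith
  · refine ⟨0, 1, T.m 1, T.w 0, by decide, h0.1, h1.1, Or.inr ⟨by linarith, rfl, ?_, ?_, ?_, rfl, by linarith⟩⟩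
    · rw [h0.2]
    · rw [hb01]
    · rw [h1.2]; linarith

end Groth.Agent.S7362
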