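import Groth.Statements.S7363
import Groth.Agent.Lib.Helper36.NTAffine

set_option autoImplicit false
open Finset
open Models Models.NumericalType

namespace Groth.Agent.S7363

open Groth.Agent.Lib.Helper36 in
/-- Genus one classification: case n = 3: let T be a minimal numerical type of genus 1 on three indices.
Then all g = 0 and, for some ordering i, j, k of the indices and some integers m, w, the data (m; a;
w) is one of: (m,m,m; a_ii = a_jj = a_kk = -2w, a_ij = a_ik = a_jk = w; w,w,w); (m,2m,m; a_ii = -2w,
a_ij = w, a_ik = 0, a_jj = -2w, a_jk = 3w, a_kk = -6w; w,w,3w); (m,2m,3m; a_ii = -6w, a_ij = 3w,
a_ik = 0, a_jj = -6w, a_jk = 3w, a_kk = -2w; 3w,3w,w); (2m,2m,m; a_ii = -2w, a_ij = 2w, a_ik = 0,
a_jj = -4w, a_jk = 4w, a_kk = -8w; w,2w,4w); (m,m,m; a_ii = -2w, a_ij = 2w, a_ik = 0, a_jj = -4w,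
a_jk = 2w, a_kk = -2w; w,2w,w); (m,2m,m; a_ii = -4w, a_ij = 2w, a_ik = 0, a_jj = -2w, a_jk = 2w,
a_kk = -4w; 2w,w,2w). Only the classification direction is stated. -/
theorem result (T : Models.NumericalType 3) (hmin : T.IsMinimal) (hg : T.genus = 1) :
    ∃ (i j k : Fin 3) (m w : ℤ), i ≠ j ∧ j ≠ k ∧ i ≠ k ∧ T.g i = 0 ∧ T.g j = 0 ∧ T.g k = 0 ∧
      ((T.m i = m ∧ T.m j = m ∧ T.m k = m ∧ T.a i i = -2 * w ∧ T.a j j = -2 * w ∧ T.a k k = -2 * w ∧
          T.a i j = w ∧ T.a i k = w ∧ T.a j k = w ∧ T.w i = w ∧ T.w j = w ∧ T.w k = w) ∨
        (T.m i = m ∧ T.m j = 2 * m ∧ T.m k = m ∧ T.a i i = -2 * w ∧ T.a i j = w ∧ T.a i k = 0 ∧ T.a j j = -2 * w ∧
          T.a j k = 3 * w ∧ T.a k k = -6 * w ∧ T.w i = w ∧ T.w j = w ∧ T.w k = 3 * w) ∨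
        (T.m i = m ∧ T.m j = 2 * m ∧ T.m k = 3 * m ∧ T.a i i = -6 * w ∧ T.a i j = 3 * w ∧ T.a i k = 0 ∧ T.a j j = -6 * w ∧
          T.a j k = 3 * w ∧ T.a k k = -2 * w ∧ T.w i = 3 * w ∧ T.w j = 3 * w ∧ T.w k = w) ∨
        (T.m i = 2 * m ∧ T.m j = 2 * m ∧ T.m k = m ∧ T.a i i = -2 * w ∧ T.a i j = 2 * w ∧ T.a i k = 0 ∧ T.a j j = -4 * w ∧
          T.a j k = 4 * w ∧ T.a k k = -8 * w ∧ T.w i = w ∧ T.w j = 2 * w ∧ T.w k = 4 * w) ∨
        (T.m i = m ∧ T.m j = m ∧ T.m k = m ∧ T.a i i = -2 * w ∧ T.a i j = 2 * w ∧ T.a i k = 0 ∧ T.a j j = -4 * w ∧
          T.a j k = 2 * w ∧ T.a k k = -2 * w ∧ T.w i = w ∧ T.w j = 2 * w ∧ T.w k = w) ∨
        (T.m i = m ∧ T.m j = 2 * m ∧ T.m k = m ∧ T.a i i = -4 * w ∧ T.a i j = 2 * w ∧ T.a i k = 0 ∧ T.a j j = -2 * w ∧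
          T.a j k = 2 * w ∧ T.a k k = -4 * w ∧ T.w i = 2 * w ∧ T.w j = w ∧ T.w k = 2 * w)) := by
  have hm2 : ∀ s : Fin 3, T.IsMinusTwo s := NT.all_minusTwo_of_genus_one T (by norm_num) hmin hg
  obtain ⟨b01, hb01⟩ := NT.exists_b T 0 1
  obtain ⟨b02, hb02⟩ := NT.exists_b T 0 2
  obtain ⟨b10, hb10⟩ := NT.exists_b T 1 0
  obtain ⟨b12, hb12⟩ := NT.exists_b T 1 2
  obtain ⟨b20, hb20⟩ := NT.exists_b T 2 0
  obtain ⟨b21, hb21⟩ := NT.exists_b T 2 1
  obtain ⟨n01, n10, z01, r01⟩ := NT.b_props T (by decide : (0 : Fin 3) ≠ 1) hb01 hb10
  obtain ⟨n02, n20, z02, r02⟩ := NT.b_props T (by decide : (0 : Fin 3) ≠ 2) hb02 hb20
  obtain ⟨n12, n21, z12, r12⟩ := NT.b_props T (by decide : (1 : Fin 3) ≠ 2) hb12 hb21
  have hbmat : ∀ s t : Fin 3, s ≠ t → T.a s t =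
      (![![0, b01, b02], ![b10, 0, b12], ![b20, b21, 0]] : Fin 3 → Fin 3 → ℤ) s t * T.w s := by
    intro s t hst
    fin_cases s <;> fin_cases t <;> first | exact absurd rfl hst | assumption
  have row0 : b01 * T.m 1 + b02 * T.m 2 = 2 * T.m 0 := by
    have h := NT.row_eq_b T (Equiv.refl (Fin 3)) hm2 _ hbmat 0
    simp [Fin.sum_univ_three] at h
    linarith
  have row1 : b10 * T.m 0 + b12 * T.m 2 = 2 * T.m 1 := by
    have h := NT.row_eq_b T (Equiv.refl (Fin 3)) hm2 _ hbmat 1
    simp [Fin.sum_univ_three] at h
    linarith
  have row2 : b20 * T.m 0 + b21 * T.m 1 = 2 * T.m 2 := by
    have h := NT.row_eq_b T (Equiv.refl (Fin 3)) hm2 _ hbmat 2
    simp [Fin.sum_univ_three] at h
    linarith
  have d0 : T.a 0 0 = -2 * T.w 0 := (hm2 0).2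
  have pm0 := T.m_pos 0
  have pw0 := T.w_pos 0
  have d1 : T.a 1 1 = -2 * T.w 1 := (hm2 1).2
  have pm1 := T.m_pos 1
  have pw1 := T.w_pos 1
  have d2 : T.a 2 2 = -2 * T.w 2 := (hm2 2).2
  have pm2 := T.m_pos 2
  have pw2 := T.w_pos 2
  rcases le_or_gt b01 3 with hc | hc
  · -- b01 ≤ 3
    rcases le_or_gt b02 3 with hc | hc
    · -- b02 ≤ 3
      rcases le_or_gt b10 3 with hc | hc
      · -- b10 ≤ 3
        rcases le_or_gt b12 3 with hc | hc
        · -- b12 ≤ 3
          rcases le_or_gt b20 3 with hc | hc
          · -- b20 ≤ 3
            rcases le_or_gt b21 3 with hc | hc
            · -- b21 ≤ 3
              rcases le_or_gt b01 0 with hc | hc
              · -- b01 ≤ 0
                rcases le_or_gt b02 0 with hc | hc
                · -- b02 ≤ 0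
                  rcases le_or_gt b12 0 with hc | hc
                  · -- b12 ≤ 0
                    exact (NT.too_small_b T hm2 _ hbmat ![![0, 0, 0], ![0, 0, 0], ![0, 0, 0]]
                      (by intro s t hst; fin_cases s <;> fin_cases t <;> simp <;> omega)
                      ![1, 1, 1] (by decide) (by decide) (by decide)).elim
                  · -- b12 ≥ 1
                    rcases le_or_gt b12 1 with hc | hc
                    · -- b12 ≤ 1
                      exact (NT.too_small_b T hm2 _ hbmat ![![0, 0, 0], ![0, 0, 1], ![0, 3, 0]]
                        (by intro s t hst; fin_cases s <;> fin_cases t <;> simp <;> omega)
                        ![1, 1, 2] (by decide) (by decide) (by decide)).elim
                    · -- b12 ≥ 2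
                      rcases le_or_gt b12 2 with hc | hc
                      · -- b12 ≤ 2
                        rcases le_or_gt b21 1 with hc | hc
                        · -- b21 ≤ 1
                          exact (NT.too_small_b T hm2 _ hbmat ![![0, 0, 0], ![0, 0, 2], ![0, 1, 0]]
                            (by intro s t hst; fin_cases s <;> fin_cases t <;> simp <;> omega)
                            ![1, 1, 1] (by decide) (by decide) (by decide)).elim
                        · -- b21 ≥ 2
                          exact (NT.too_big_b T hm2 _ hbmat ![![0, 0, 0], ![0, 0, 2], ![0, 2, 0]]
                            (by intro s t hst; fin_cases s <;> fin_cases t <;> simp <;> omega)
                            ![0, 1, 1] (by decide) (by decide) (by decide) (by decide)).elim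
                      · -- b12 ≥ 3
                        rcases le_or_gt b21 1 with hc | hc
                        · -- b21 ≤ 1
                          exact (NT.too_small_b T hm2 _ hbmat ![![0, 0, 0], ![0, 0, 3], ![0, 1, 0]]
                            (by intro s t hst; fin_cases s <;> fin_cases t <;> simp <;> omega)
                            ![1, 2, 1] (by decide) (by decide) (by decide)).elim
                        · -- b21 ≥ 2
                          exact (NT.too_big_b T hm2 _ hbmat ![![0, 0, 0], ![0, 0, 3], ![0, 2, 0]]
                            (by intro s t hst; fin_cases s <;> fin_cases t <;> simp <;> omega)
                            ![0, 1, 1] (by decide) (by decide) (by decide) (by decide)).elim
                · -- b02 ≥ 1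
                  rcases le_or_gt b02 1 with hc | hc
                  · -- b02 ≤ 1
                    rcases le_or_gt b12 0 with hc | hc
                    · -- b12 ≤ 0
                      exact (NT.too_small_b T hm2 _ hbmat ![![0, 0, 1], ![0, 0, 0], ![3, 0, 0]]
                        (by intro s t hst; fin_cases s <;> fin_cases t <;> simp <;> omega)
                        ![1, 1, 2] (by decide) (by decide) (by decide)).elim
                    · -- b12 ≥ 1
                      rcases le_or_gt b12 1 with hc | hc
                      · -- b12 ≤ 1
                        rcases le_or_gt b20 1 with hc | hc
                        · -- b20 ≤ 1
                          rcases le_or_gt b21 1 with hc | hc
                          · -- b21 ≤ 1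
                            exact (NT.too_small_b T hm2 _ hbmat ![![0, 0, 1], ![0, 0, 1], ![1, 1, 0]]
                              (by intro s t hst; fin_cases s <;> fin_cases t <;> simp <;> omega)
                              ![1, 1, 1] (by decide) (by decide) (by decide)).elim
                          · -- b21 ≥ 2
                            rcases le_or_gt b21 2 with hc | hc
                            · -- b21 ≤ 2
                              exact (NT.too_small_b T hm2 _ hbmat ![![0, 0, 1], ![0, 0, 1], ![1, 2, 0]]
                                (by intro s t hst; fin_cases s <;> fin_cases t <;> simp <;> omega)
                                ![1, 1, 2] (by decide) (by decide) (by decide)).elim
                            · -- b21 ≥ 3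
                              have e01 : b01 = 0 := by omega
                              have e02 : b02 = 1 := by omega
                              have e10 : b10 = 0 := by omega
                              have e12 : b12 = 1 := by omega
                              have e20 : b20 = 1 := by omega
                              have e21 : b21 = 3 := by omega
                              subst e01
                              subst e02
                              subst e10
                              subst e12
                              subst e20
                              subst e21
                              refine ⟨0, 2, 1, T.m 0, T.w 0, by decide, by decide, by decide, (hm2 _).1, (hm2 _).1, (hm2 _).1, ?_⟩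
                              refine Or.inr (Or.inl ?_)
                              refine ⟨by linarith, by linarith, by linarith, by linarith, by linarith, by linarith, by linarith, by linarith, by linarith, by linarith, by linarith, by linarith⟩
                        · -- b20 ≥ 2
                          rcases le_or_gt b20 2 with hc | hc
                          · -- b20 ≤ 2
                            rcases le_or_gt b21 1 with hc | hc
                            · -- b21 ≤ 1
                              exact (NT.too_small_b T hm2 _ hbmat ![![0, 0, 1], ![0, 0, 1], ![2, 1, 0]]
                                (by intro s t hst; fin_cases s <;> fin_cases t <;> simp <;> omega)
                                ![1, 1, 2] (by decide) (by decide) (by decide)).elim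
                            · -- b21 ≥ 2
                              rcases le_or_gt b21 2 with hc | hc
                              · -- b21 ≤ 2
                                have e01 : b01 = 0 := by omega
                                have e02 : b02 = 1 := by omega
                                have e10 : b10 = 0 := by omega
                                have e12 : b12 = 1 := by omega
                                have e20 : b20 = 2 := by omega
                                have e21 : b21 = 2 := by omega
                                subst e01
                                subst e02
                                subst e10
                                subst e12
                                subst e20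
                                subst e21
                                refine ⟨0, 2, 1, T.m 0, T.w 2, by decide, by decide, by decide, (hm2 _).1, (hm2 _).1, (hm2 _).1, ?_⟩
                                refine Or.inr (Or.inr (Or.inr (Or.inr (Or.inr (?_)))))
                                refine ⟨by linarith, by linarith, by linarith, by linarith, by linarith, by linarith, by linarith, by linarith, by linarith, by linarith, by linarith, by linarith⟩
                              · -- b21 ≥ 3
                                exact (NT.too_big_whole_b T hm2 _ hbmat ![![0, 0, 1], ![0, 0, 1], ![2, 3, 0]]
                                  (by intro s t hst; fin_cases s <;> fin_cases t <;> simp <;> omega)
                                  ![1, 1, 2] (by decide) (by decide) (by decide)).elim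
                          · -- b20 ≥ 3
                            rcases le_or_gt b21 1 with hc | hc
                            · -- b21 ≤ 1
                              have e01 : b01 = 0 := by omega
                              have e02 : b02 = 1 := by omega
                              have e10 : b10 = 0 := by omega
                              have e12 : b12 = 1 := by omega
                              have e20 : b20 = 3 := by omega
                              have e21 : b21 = 1 := by omega
                              subst e01
                              subst e02
                              subst e10
                              subst e12
                              subst e20
                              subst e21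
                              refine ⟨1, 2, 0, T.m 1, T.w 1, by decide, by decide, by decide, (hm2 _).1, (hm2 _).1, (hm2 _).1, ?_⟩
                              refine Or.inr (Or.inl ?_)
                              refine ⟨by linarith, by linarith, by linarith, by linarith, by linarith, by linarith, by linarith, by linarith, by linarith, by linarith, by linarith, by linarith⟩
                            · -- b21 ≥ 2
                              exact (NT.too_big_whole_b T hm2 _ hbmat ![![0, 0, 1], ![0, 0, 1], ![3, 2, 0]]
                                (by intro s t hst; fin_cases s <;> fin_cases t <;> simp <;> omega)
                                ![1, 1, 2] (by decide) (by decide) (by decide)).elim
                      · -- b12 ≥ 2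
                        rcases le_or_gt b12 2 with hc | hc
                        · -- b12 ≤ 2
                          rcases le_or_gt b20 1 with hc | hc
                          · -- b20 ≤ 1
                            rcases le_or_gt b21 1 with hc | hc
                            · -- b21 ≤ 1
                              exact (NT.too_small_b T hm2 _ hbmat ![![0, 0, 1], ![0, 0, 2], ![1, 1, 0]]
                                (by intro s t hst; fin_cases s <;> fin_cases t <;> simp <;> omega)
                                ![1, 2, 2] (by decide) (by decide) (by decide)).elim
                            · -- b21 ≥ 2
                              exact (NT.too_big_b T hm2 _ hbmat ![![0, 0, 1], ![0, 0, 2], ![1, 2, 0]]
                                (by intro s t hst; fin_cases s <;> fin_cases t <;> simp <;> omega)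
                                ![0, 1, 1] (by decide) (by decide) (by decide) (by decide)).elim
                          · -- b20 ≥ 2
                            rcases le_or_gt b20 2 with hc | hc
                            · -- b20 ≤ 2
                              rcases le_or_gt b21 1 with hc | hc
                              · -- b21 ≤ 1
                                have e01 : b01 = 0 := by omega
                                have e02 : b02 = 1 := by omega
                                have e10 : b10 = 0 := by omega
                                have e12 : b12 = 2 := by omega
                                have e20 : b20 = 2 := by omega
                                have e21 : b21 = 1 := by omega
                                subst e01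
                                subst e02
                                subst e10
                                subst e12
                                subst e20
                                subst e21
                                refine ⟨1, 2, 0, T.m 0, T.w 1, by decide, by decide, by decide, (hm2 _).1, (hm2 _).1, (hm2 _).1, ?_⟩
                                refine Or.inr (Or.inr (Or.inr (Or.inl ?_)))
                                refine ⟨by linarith, by linarith, by linarith, by linarith, by linarith, by linarith, by linarith, by linarith, by linarith, by linarith, by linarith, by linarith⟩
                              · -- b21 ≥ 2
                                exact (NT.too_big_b T hm2 _ hbmat ![![0, 0, 1], ![0, 0, 2], ![2, 2, 0]]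
                                  (by intro s t hst; fin_cases s <;> fin_cases t <;> simp <;> omega)
                                  ![0, 1, 1] (by decide) (by decide) (by decide) (by decide)).elim
                            · -- b20 ≥ 3
                              exact (NT.too_big_whole_b T hm2 _ hbmat ![![0, 0, 1], ![0, 0, 2], ![3, 1, 0]]
                                (by intro s t hst; fin_cases s <;> fin_cases t <;> simp <;> omega)
                                ![1, 2, 2] (by decide) (by decide) (by decide)).elim
                        · -- b12 ≥ 3
                          rcases le_or_gt b20 1 with hc | hc
                          · -- b20 ≤ 1
                            rcases le_or_gt b21 1 with hc | hc
                            · -- b21 ≤ 1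
                              have e01 : b01 = 0 := by omega
                              have e02 : b02 = 1 := by omega
                              have e10 : b10 = 0 := by omega
                              have e12 : b12 = 3 := by omega
                              have e20 : b20 = 1 := by omega
                              have e21 : b21 = 1 := by omega
                              subst e01
                              subst e02
                              subst e10
                              subst e12
                              subst e20
                              subst e21
                              refine ⟨0, 2, 1, T.m 0, T.w 1, by decide, by decide, by decide, (hm2 _).1, (hm2 _).1, (hm2 _).1, ?_⟩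
                              refine Or.inr (Or.inr (Or.inl ?_))
                              refine ⟨by linarith, by linarith, by linarith, by linarith, by linarith, by linarith, by linarith, by linarith, by linarith, by linarith, by linarith, by linarith⟩
                            · -- b21 ≥ 2
                              exact (NT.too_big_b T hm2 _ hbmat ![![0, 0, 1], ![0, 0, 3], ![1, 2, 0]]
                                (by intro s t hst; fin_cases s <;> fin_cases t <;> simp <;> omega)
                                ![0, 1, 1] (by decide) (by decide) (by decide) (by decide)).elim
                          · -- b20 ≥ 2
                            exact (NT.too_big_whole_b T hm2 _ hbmat ![![0, 0, 1], ![0, 0, 3], ![2, 1, 0]]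
                              (by intro s t hst; fin_cases s <;> fin_cases t <;> simp <;> omega)
                              ![1, 3, 2] (by decide) (by decide) (by decide)).elim
                  · -- b02 ≥ 2
                    rcases le_or_gt b02 2 with hc | hc
                    · -- b02 ≤ 2
                      rcases le_or_gt b12 0 with hc | hc
                      · -- b12 ≤ 0
                        rcases le_or_gt b20 1 with hc | hc
                        · -- b20 ≤ 1
                          exact (NT.too_small_b T hm2 _ hbmat ![![0, 0, 2], ![0, 0, 0], ![1, 0, 0]]
                            (by intro s t hst; fin_cases s <;> fin_cases t <;> simp <;> omega)
                            ![1, 1, 1] (by decide) (by decide) (by decide)).elim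
                        · -- b20 ≥ 2
                          exact (NT.too_big_b T hm2 _ hbmat ![![0, 0, 2], ![0, 0, 0], ![2, 0, 0]]
                            (by intro s t hst; fin_cases s <;> fin_cases t <;> simp <;> omega)
                            ![1, 0, 1] (by decide) (by decide) (by decide) (by decide)).elim
                      · -- b12 ≥ 1
                        rcases le_or_gt b12 1 with hc | hc
                        · -- b12 ≤ 1
                          rcases le_or_gt b20 1 with hc | hc
                          · -- b20 ≤ 1
                            rcases le_or_gt b21 1 with hc | hc
                            · -- b21 ≤ 1
                              exact (NT.too_small_b T hm2 _ hbmat ![![0, 0, 2], ![0, 0, 1], ![1, 1, 0]]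
                                (by intro s t hst; fin_cases s <;> fin_cases t <;> simp <;> omega)
                                ![2, 1, 2] (by decide) (by decide) (by decide)).elim
                            · -- b21 ≥ 2
                              rcases le_or_gt b21 2 with hc | hc
                              · -- b21 ≤ 2
                                have e01 : b01 = 0 := by omega
                                have e02 : b02 = 2 := by omega
                                have e10 : b10 = 0 := by omega
                                have e12 : b12 = 1 := by omega
                                have e20 : b20 = 1 := by omega
                                have e21 : b21 = 2 := by omega
                                subst e01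
                                subst e02
                                subst e10
                                subst e12
                                subst e20
                                subst e21
                                refine ⟨0, 2, 1, T.m 1, T.w 0, by decide, by decide, by decide, (hm2 _).1, (hm2 _).1, (hm2 _).1, ?_⟩
                                refine Or.inr (Or.inr (Or.inr (Or.inl ?_)))
                                refine ⟨by linarith, by linarith, by linarith, by linarith, by linarith, by linarith, by linarith, by linarith, by linarith, by linarith, by linarith, by linarith⟩
                              · -- b21 ≥ 3
                                exact (NT.too_big_whole_b T hm2 _ hbmat ![![0, 0, 2], ![0, 0, 1], ![1, 3, 0]]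
                                  (by intro s t hst; fin_cases s <;> fin_cases t <;> simp <;> omega)
                                  ![2, 1, 2] (by decide) (by decide) (by decide)).elim
                          · -- b20 ≥ 2
                            exact (NT.too_big_b T hm2 _ hbmat ![![0, 0, 2], ![0, 0, 1], ![2, 1, 0]]
                              (by intro s t hst; fin_cases s <;> fin_cases t <;> simp <;> omega)
                              ![1, 0, 1] (by decide) (by decide) (by decide) (by decide)).elim
                        · -- b12 ≥ 2
                          rcases le_or_gt b12 2 with hc | hc
                          · -- b12 ≤ 2
                            rcases le_or_gt b20 1 with hc | hc
                            · -- b20 ≤ 1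
                              rcases le_or_gt b21 1 with hc | hc
                              · -- b21 ≤ 1
                                have e01 : b01 = 0 := by omega
                                have e02 : b02 = 2 := by omega
                                have e10 : b10 = 0 := by omega
                                have e12 : b12 = 2 := by omega
                                have e20 : b20 = 1 := by omega
                                have e21 : b21 = 1 := by omega
                                subst e01
                                subst e02
                                subst e10
                                subst e12
                                subst e20
                                subst e21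
                                refine ⟨0, 2, 1, T.m 0, T.w 0, by decide, by decide, by decide, (hm2 _).1, (hm2 _).1, (hm2 _).1, ?_⟩
                                refine Or.inr (Or.inr (Or.inr (Or.inr (Or.inl ?_))))
                                refine ⟨by linarith, by linarith, by linarith, by linarith, by linarith, by linarith, by linarith, by linarith, by linarith, by linarith, by linarith, by linarith⟩
                              · -- b21 ≥ 2
                                exact (NT.too_big_b T hm2 _ hbmat ![![0, 0, 2], ![0, 0, 2], ![1, 2, 0]]
                                  (by intro s t hst; fin_cases s <;> fin_cases t <;> simp <;> omega)
                                  ![0, 1, 1] (by decide) (by decide) (by decide) (by decide)).elim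
                            · -- b20 ≥ 2
                              exact (NT.too_big_b T hm2 _ hbmat ![![0, 0, 2], ![0, 0, 2], ![2, 1, 0]]
                                (by intro s t hst; fin_cases s <;> fin_cases t <;> simp <;> omega)
                                ![1, 0, 1] (by decide) (by decide) (by decide) (by decide)).elim
                          · -- b12 ≥ 3
                            exact (NT.too_big_whole_b T hm2 _ hbmat ![![0, 0, 2], ![0, 0, 3], ![1, 1, 0]]
                              (by intro s t hst; fin_cases s <;> fin_cases t <;> simp <;> omega)
                              ![2, 3, 2] (by decide) (by decide) (by decide)).elim
                    · -- b02 ≥ 3
                      rcases le_or_gt b12 0 with hc | hc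
                      · -- b12 ≤ 0
                        rcases le_or_gt b20 1 with hc | hc
                        · -- b20 ≤ 1
                          exact (NT.too_small_b T hm2 _ hbmat ![![0, 0, 3], ![0, 0, 0], ![1, 0, 0]]
                            (by intro s t hst; fin_cases s <;> fin_cases t <;> simp <;> omega)
                            ![2, 1, 1] (by decide) (by decide) (by decide)).elim
                        · -- b20 ≥ 2
                          exact (NT.too_big_b T hm2 _ hbmat ![![0, 0, 3], ![0, 0, 0], ![2, 0, 0]]
                            (by intro s t hst; fin_cases s <;> fin_cases t <;> simp <;> omega)
                            ![1, 0, 1] (by decide) (by decide) (by decide) (by decide)).elim
                      · -- b12 ≥ 1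
                        rcases le_or_gt b12 1 with hc | hc
                        · -- b12 ≤ 1
                          rcases le_or_gt b20 1 with hc | hc
                          · -- b20 ≤ 1
                            rcases le_or_gt b21 1 with hc | hc
                            · -- b21 ≤ 1
                              have e01 : b01 = 0 := by omega
                              have e02 : b02 = 3 := by omega
                              have e10 : b10 = 0 := by omega
                              have e12 : b12 = 1 := by omega
                              have e20 : b20 = 1 := by omega
                              have e21 : b21 = 1 := by omega
                              subst e01
                              subst e02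
                              subst e10
                              subst e12
                              subst e20
                              subst e21
                              refine ⟨1, 2, 0, T.m 1, T.w 0, by decide, by decide, by decide, (hm2 _).1, (hm2 _).1, (hm2 _).1, ?_⟩
                              refine Or.inr (Or.inr (Or.inl ?_))
                              refine ⟨by linarith, by linarith, by linarith, by linarith, by linarith, by linarith, by linarith, by linarith, by linarith, by linarith, by linarith, by linarith⟩
                            · -- b21 ≥ 2
                              exact (NT.too_big_whole_b T hm2 _ hbmat ![![0, 0, 3], ![0, 0, 1], ![1, 2, 0]]
                                (by intro s t hst; fin_cases s <;> fin_cases t <;> simp <;> omega)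
                                ![3, 1, 2] (by decide) (by decide) (by decide)).elim
                          · -- b20 ≥ 2
                            exact (NT.too_big_b T hm2 _ hbmat ![![0, 0, 3], ![0, 0, 1], ![2, 1, 0]]
                              (by intro s t hst; fin_cases s <;> fin_cases t <;> simp <;> omega)
                              ![1, 0, 1] (by decide) (by decide) (by decide) (by decide)).elim
                        · -- b12 ≥ 2
                          exact (NT.too_big_whole_b T hm2 _ hbmat ![![0, 0, 3], ![0, 0, 2], ![1, 1, 0]]
                            (by intro s t hst; fin_cases s <;> fin_cases t <;> simp <;> omega)
                            ![3, 2, 2] (by decide) (by decide) (by decide)).elim
              · -- b01 ≥ 1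
                rcases le_or_gt b01 1 with hc | hc
                · -- b01 ≤ 1
                  rcases le_or_gt b02 0 with hc | hc
                  · -- b02 ≤ 0
                    rcases le_or_gt b10 1 with hc | hc
                    · -- b10 ≤ 1
                      rcases le_or_gt b12 0 with hc | hc
                      · -- b12 ≤ 0
                        exact (NT.too_small_b T hm2 _ hbmat ![![0, 1, 0], ![1, 0, 0], ![0, 0, 0]]
                          (by intro s t hst; fin_cases s <;> fin_cases t <;> simp <;> omega)
                          ![1, 1, 1] (by decide) (by decide) (by decide)).elim
                      · -- b12 ≥ 1
                        rcases le_or_gt b12 1 with hc | hc
                        · -- b12 ≤ 1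
                          rcases le_or_gt b21 1 with hc | hc
                          · -- b21 ≤ 1
                            exact (NT.too_small_b T hm2 _ hbmat ![![0, 1, 0], ![1, 0, 1], ![0, 1, 0]]
                              (by intro s t hst; fin_cases s <;> fin_cases t <;> simp <;> omega)
                              ![1, 1, 1] (by decide) (by decide) (by decide)).elim
                          · -- b21 ≥ 2
                            rcases le_or_gt b21 2 with hc | hc
                            · -- b21 ≤ 2
                              exact (NT.too_small_b T hm2 _ hbmat ![![0, 1, 0], ![1, 0, 1], ![0, 2, 0]]
                                (by intro s t hst; fin_cases s <;> fin_cases t <;> simp <;> omega)
                                ![1, 2, 2] (by decide) (by decide) (by decide)).elim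
                            · -- b21 ≥ 3
                              have e01 : b01 = 1 := by omega
                              have e02 : b02 = 0 := by omega
                              have e10 : b10 = 1 := by omega
                              have e12 : b12 = 1 := by omega
                              have e20 : b20 = 0 := by omega
                              have e21 : b21 = 3 := by omega
                              subst e01
                              subst e02
                              subst e10
                              subst e12
                              subst e20
                              subst e21
                              refine ⟨0, 1, 2, T.m 0, T.w 2, by decide, by decide, by decide, (hm2 _).1, (hm2 _).1, (hm2 _).1, ?_⟩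
                              refine Or.inr (Or.inr (Or.inl ?_))
                              refine ⟨by linarith, by linarith, by linarith, by linarith, by linarith, by linarith, by linarith, by linarith, by linarith, by linarith, by linarith, by linarith⟩
                        · -- b12 ≥ 2
                          rcases le_or_gt b12 2 with hc | hc
                          · -- b12 ≤ 2
                            rcases le_or_gt b21 1 with hc | hc
                            · -- b21 ≤ 1
                              exact (NT.too_small_b T hm2 _ hbmat ![![0, 1, 0], ![1, 0, 2], ![0, 1, 0]]
                                (by intro s t hst; fin_cases s <;> fin_cases t <;> simp <;> omega)
                                ![1, 2, 1] (by decide) (by decide) (by decide)).elim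
                            · -- b21 ≥ 2
                              exact (NT.too_big_b T hm2 _ hbmat ![![0, 1, 0], ![1, 0, 2], ![0, 2, 0]]
                                (by intro s t hst; fin_cases s <;> fin_cases t <;> simp <;> omega)
                                ![0, 1, 1] (by decide) (by decide) (by decide) (by decide)).elim
                          · -- b12 ≥ 3
                            rcases le_or_gt b21 1 with hc | hc
                            · -- b21 ≤ 1
                              have e01 : b01 = 1 := by omega
                              have e02 : b02 = 0 := by omega
                              have e10 : b10 = 1 := by omega
                              have e12 : b12 = 3 := by omega
                              have e20 : b20 = 0 := by omega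
                              have e21 : b21 = 1 := by omega
                              subst e01
                              subst e02
                              subst e10
                              subst e12
                              subst e20
                              subst e21
                              refine ⟨0, 1, 2, T.m 0, T.w 0, by decide, by decide, by decide, (hm2 _).1, (hm2 _).1, (hm2 _).1, ?_⟩
                              refine Or.inr (Or.inl ?_)
                              refine ⟨by linarith, by linarith, by linarith, by linarith, by linarith, by linarith, by linarith, by linarith, by linarith, by linarith, by linarith, by linarith⟩
                            · -- b21 ≥ 2
                              exact (NT.too_big_b T hm2 _ hbmat ![![0, 1, 0], ![1, 0, 3], ![0, 2, 0]]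
                                (by intro s t hst; fin_cases s <;> fin_cases t <;> simp <;> omega)
                                ![0, 1, 1] (by decide) (by decide) (by decide) (by decide)).elim
                    · -- b10 ≥ 2
                      rcases le_or_gt b10 2 with hc | hc
                      · -- b10 ≤ 2
                        rcases le_or_gt b12 0 with hc | hc
                        · -- b12 ≤ 0
                          exact (NT.too_small_b T hm2 _ hbmat ![![0, 1, 0], ![2, 0, 0], ![0, 0, 0]]
                            (by intro s t hst; fin_cases s <;> fin_cases t <;> simp <;> omega)
                            ![1, 1, 1] (by decide) (by decide) (by decide)).elim
                        · -- b12 ≥ 1
                          rcases le_or_gt b12 1 with hc | hc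
                          · -- b12 ≤ 1
                            rcases le_or_gt b21 1 with hc | hc
                            · -- b21 ≤ 1
                              exact (NT.too_small_b T hm2 _ hbmat ![![0, 1, 0], ![2, 0, 1], ![0, 1, 0]]
                                (by intro s t hst; fin_cases s <;> fin_cases t <;> simp <;> omega)
                                ![1, 2, 1] (by decide) (by decide) (by decide)).elim
                            · -- b21 ≥ 2
                              rcases le_or_gt b21 2 with hc | hc
                              · -- b21 ≤ 2
                                have e01 : b01 = 1 := by omega
                                have e02 : b02 = 0 := by omega
                                have e10 : b10 = 2 := by omega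
                                have e12 : b12 = 1 := by omega
                                have e20 : b20 = 0 := by omega
                                have e21 : b21 = 2 := by omega
                                subst e01
                                subst e02
                                subst e10
                                subst e12
                                subst e20
                                subst e21
                                refine ⟨2, 1, 0, T.m 0, T.w 2, by decide, by decide, by decide, (hm2 _).1, (hm2 _).1, (hm2 _).1, ?_⟩
                                refine Or.inr (Or.inr (Or.inr (Or.inl ?_)))
                                refine ⟨by linarith, by linarith, by linarith, by linarith, by linarith, by linarith, by linarith, by linarith, by linarith, by linarith, by linarith, by linarith⟩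
                              · -- b21 ≥ 3
                                exact (NT.too_big_whole_b T hm2 _ hbmat ![![0, 1, 0], ![2, 0, 1], ![0, 3, 0]]
                                  (by intro s t hst; fin_cases s <;> fin_cases t <;> simp <;> omega)
                                  ![1, 2, 3] (by decide) (by decide) (by decide)).elim
                          · -- b12 ≥ 2
                            rcases le_or_gt b12 2 with hc | hc
                            · -- b12 ≤ 2
                              rcases le_or_gt b21 1 with hc | hc
                              · -- b21 ≤ 1
                                have e01 : b01 = 1 := by omega
                                have e02 : b02 = 0 := by omega
                                have e10 : b10 = 2 := by omega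
                                have e12 : b12 = 2 := by omega
                                have e20 : b20 = 0 := by omega
                                have e21 : b21 = 1 := by omega
                                subst e01
                                subst e02
                                subst e10
                                subst e12
                                subst e20
                                subst e21
                                refine ⟨0, 1, 2, T.m 0, T.w 1, by decide, by decide, by decide, (hm2 _).1, (hm2 _).1, (hm2 _).1, ?_⟩
                                refine Or.inr (Or.inr (Or.inr (Or.inr (Or.inr (?_)))))
                                refine ⟨by linarith, by linarith, by linarith, by linarith, by linarith, by linarith, by linarith, by linarith, by linarith, by linarith, by linarith, by linarith⟩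
                              · -- b21 ≥ 2
                                exact (NT.too_big_b T hm2 _ hbmat ![![0, 1, 0], ![2, 0, 2], ![0, 2, 0]]
                                  (by intro s t hst; fin_cases s <;> fin_cases t <;> simp <;> omega)
                                  ![0, 1, 1] (by decide) (by decide) (by decide) (by decide)).elim
                            · -- b12 ≥ 3
                              exact (NT.too_big_whole_b T hm2 _ hbmat ![![0, 1, 0], ![2, 0, 3], ![0, 1, 0]]
                                (by intro s t hst; fin_cases s <;> fin_cases t <;> simp <;> omega)
                                ![1, 2, 1] (by decide) (by decide) (by decide)).elim
                      · -- b10 ≥ 3
                        rcases le_or_gt b12 0 with hc | hc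
                        · -- b12 ≤ 0
                          exact (NT.too_small_b T hm2 _ hbmat ![![0, 1, 0], ![3, 0, 0], ![0, 0, 0]]
                            (by intro s t hst; fin_cases s <;> fin_cases t <;> simp <;> omega)
                            ![1, 2, 1] (by decide) (by decide) (by decide)).elim
                        · -- b12 ≥ 1
                          rcases le_or_gt b12 1 with hc | hc
                          · -- b12 ≤ 1
                            rcases le_or_gt b21 1 with hc | hc
                            · -- b21 ≤ 1
                              have e01 : b01 = 1 := by omega
                              have e02 : b02 = 0 := by omega
                              have e10 : b10 = 3 := by omega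
                              have e12 : b12 = 1 := by omega
                              have e20 : b20 = 0 := by omega
                              have e21 : b21 = 1 := by omega
                              subst e01
                              subst e02
                              subst e10
                              subst e12
                              subst e20
                              subst e21
                              refine ⟨2, 1, 0, T.m 2, T.w 2, by decide, by decide, by decide, (hm2 _).1, (hm2 _).1, (hm2 _).1, ?_⟩
                              refine Or.inr (Or.inl ?_)
                              refine ⟨by linarith, by linarith, by linarith, by linarith, by linarith, by linarith, by linarith, by linarith, by linarith, by linarith, by linarith, by linarith⟩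
                            · -- b21 ≥ 2
                              exact (NT.too_big_whole_b T hm2 _ hbmat ![![0, 1, 0], ![3, 0, 1], ![0, 2, 0]]
                                (by intro s t hst; fin_cases s <;> fin_cases t <;> simp <;> omega)
                                ![1, 2, 2] (by decide) (by decide) (by decide)).elim
                          · -- b12 ≥ 2
                            exact (NT.too_big_whole_b T hm2 _ hbmat ![![0, 1, 0], ![3, 0, 2], ![0, 1, 0]]
                              (by intro s t hst; fin_cases s <;> fin_cases t <;> simp <;> omega)
                              ![1, 2, 1] (by decide) (by decide) (by decide)).elim
                  · -- b02 ≥ 1
                    rcases le_or_gt b02 1 with hc | hc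
                    · -- b02 ≤ 1
                      rcases le_or_gt b10 1 with hc | hc
                      · -- b10 ≤ 1
                        rcases le_or_gt b12 0 with hc | hc
                        · -- b12 ≤ 0
                          rcases le_or_gt b20 1 with hc | hc
                          · -- b20 ≤ 1
                            exact (NT.too_small_b T hm2 _ hbmat ![![0, 1, 1], ![1, 0, 0], ![1, 0, 0]]
                              (by intro s t hst; fin_cases s <;> fin_cases t <;> simp <;> omega)
                              ![1, 1, 1] (by decide) (by decide) (by decide)).elim
                          · -- b20 ≥ 2
                            rcases le_or_gt b20 2 with hc | hc
                            · -- b20 ≤ 2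
                              exact (NT.too_small_b T hm2 _ hbmat ![![0, 1, 1], ![1, 0, 0], ![2, 0, 0]]
                                (by intro s t hst; fin_cases s <;> fin_cases t <;> simp <;> omega)
                                ![2, 1, 2] (by decide) (by decide) (by decide)).elim
                            · -- b20 ≥ 3
                              have e01 : b01 = 1 := by omega
                              have e02 : b02 = 1 := by omega
                              have e10 : b10 = 1 := by omega
                              have e12 : b12 = 0 := by omega
                              have e20 : b20 = 3 := by omega
                              have e21 : b21 = 0 := by omega
                              subst e01
                              subst e02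
                              subst e10
                              subst e12
                              subst e20
                              subst e21
                              refine ⟨1, 0, 2, T.m 1, T.w 2, by decide, by decide, by decide, (hm2 _).1, (hm2 _).1, (hm2 _).1, ?_⟩
                              refine Or.inr (Or.inr (Or.inl ?_))
                              refine ⟨by linarith, by linarith, by linarith, by linarith, by linarith, by linarith, by linarith, by linarith, by linarith, by linarith, by linarith, by linarith⟩
                        · -- b12 ≥ 1
                          rcases le_or_gt b12 1 with hc | hc
                          · -- b12 ≤ 1
                            rcases le_or_gt b20 1 with hc | hc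
                            · -- b20 ≤ 1
                              rcases le_or_gt b21 1 with hc | hc
                              · -- b21 ≤ 1
                                have e01 : b01 = 1 := by omega
                                have e02 : b02 = 1 := by omega
                                have e10 : b10 = 1 := by omega
                                have e12 : b12 = 1 := by omega
                                have e20 : b20 = 1 := by omega
                                have e21 : b21 = 1 := by omega
                                subst e01
                                subst e02
                                subst e10
                                subst e12
                                subst e20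
                                subst e21
                                refine ⟨0, 1, 2, T.m 0, T.w 0, by decide, by decide, by decide, (hm2 _).1, (hm2 _).1, (hm2 _).1, ?_⟩
                                refine Or.inl ?_
                                refine ⟨by linarith, by linarith, by linarith, by linarith, by linarith, by linarith, by linarith, by linarith, by linarith, by linarith, by linarith, by linarith⟩
                              · -- b21 ≥ 2
                                exact (NT.too_big_whole_b T hm2 _ hbmat ![![0, 1, 1], ![1, 0, 1], ![1, 2, 0]]
                                  (by intro s t hst; fin_cases s <;> fin_cases t <;> simp <;> omega)
                                  ![1, 1, 1] (by decide) (by decide) (by decide)).elim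
                            · -- b20 ≥ 2
                              exact (NT.too_big_whole_b T hm2 _ hbmat ![![0, 1, 1], ![1, 0, 1], ![2, 1, 0]]
                                (by intro s t hst; fin_cases s <;> fin_cases t <;> simp <;> omega)
                                ![1, 1, 1] (by decide) (by decide) (by decide)).elim
                          · -- b12 ≥ 2
                            exact (NT.too_big_whole_b T hm2 _ hbmat ![![0, 1, 1], ![1, 0, 2], ![1, 1, 0]]
                              (by intro s t hst; fin_cases s <;> fin_cases t <;> simp <;> omega)
                              ![1, 1, 1] (by decide) (by decide) (by decide)).elim
                      · -- b10 ≥ 2
                        rcases le_or_gt b10 2 with hc | hc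
                        · -- b10 ≤ 2
                          rcases le_or_gt b12 0 with hc | hc
                          · -- b12 ≤ 0
                            rcases le_or_gt b20 1 with hc | hc
                            · -- b20 ≤ 1
                              exact (NT.too_small_b T hm2 _ hbmat ![![0, 1, 1], ![2, 0, 0], ![1, 0, 0]]
                                (by intro s t hst; fin_cases s <;> fin_cases t <;> simp <;> omega)
                                ![2, 2, 1] (by decide) (by decide) (by decide)).elim
                            · -- b20 ≥ 2
                              rcases le_or_gt b20 2 with hc | hc
                              · -- b20 ≤ 2
                                have e01 : b01 = 1 := by omega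
                                have e02 : b02 = 1 := by omega
                                have e10 : b10 = 2 := by omega
                                have e12 : b12 = 0 := by omega
                                have e20 : b20 = 2 := by omega
                                have e21 : b21 = 0 := by omega
                                subst e01
                                subst e02
                                subst e10
                                subst e12
                                subst e20
                                subst e21
                                refine ⟨1, 0, 2, T.m 1, T.w 1, by decide, by decide, by decide, (hm2 _).1, (hm2 _).1, (hm2 _).1, ?_⟩
                                refine Or.inr (Or.inr (Or.inr (Or.inr (Or.inl ?_))))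
                                refine ⟨by linarith, by linarith, by linarith, by linarith, by linarith, by linarith, by linarith, by linarith, by linarith, by linarith, by linarith, by linarith⟩
                              · -- b20 ≥ 3
                                exact (NT.too_big_whole_b T hm2 _ hbmat ![![0, 1, 1], ![2, 0, 0], ![3, 0, 0]]
                                  (by intro s t hst; fin_cases s <;> fin_cases t <;> simp <;> omega)
                                  ![2, 2, 3] (by decide) (by decide) (by decide)).elim
                          · -- b12 ≥ 1
                            exact (NT.too_big_whole_b T hm2 _ hbmat ![![0, 1, 1], ![2, 0, 1], ![1, 1, 0]]
                              (by intro s t hst; fin_cases s <;> fin_cases t <;> simp <;> omega)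
                              ![1, 1, 1] (by decide) (by decide) (by decide)).elim
                        · -- b10 ≥ 3
                          rcases le_or_gt b12 0 with hc | hc
                          · -- b12 ≤ 0
                            rcases le_or_gt b20 1 with hc | hc
                            · -- b20 ≤ 1
                              have e01 : b01 = 1 := by omega
                              have e02 : b02 = 1 := by omega
                              have e10 : b10 = 3 := by omega
                              have e12 : b12 = 0 := by omega
                              have e20 : b20 = 1 := by omega
                              have e21 : b21 = 0 := by omega
                              subst e01
                              subst e02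
                              subst e10
                              subst e12
                              subst e20
                              subst e21
                              refine ⟨2, 0, 1, T.m 2, T.w 1, by decide, by decide, by decide, (hm2 _).1, (hm2 _).1, (hm2 _).1, ?_⟩
                              refine Or.inr (Or.inr (Or.inl ?_))
                              refine ⟨by linarith, by linarith, by linarith, by linarith, by linarith, by linarith, by linarith, by linarith, by linarith, by linarith, by linarith, by linarith⟩
                            · -- b20 ≥ 2
                              exact (NT.too_big_whole_b T hm2 _ hbmat ![![0, 1, 1], ![3, 0, 0], ![2, 0, 0]]
                                (by intro s t hst; fin_cases s <;> fin_cases t <;> simp <;> omega)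
                                ![2, 3, 2] (by decide) (by decide) (by decide)).elim
                          · -- b12 ≥ 1
                            exact (NT.too_big_whole_b T hm2 _ hbmat ![![0, 1, 1], ![3, 0, 1], ![1, 1, 0]]
                              (by intro s t hst; fin_cases s <;> fin_cases t <;> simp <;> omega)
                              ![1, 2, 1] (by decide) (by decide) (by decide)).elim
                    · -- b02 ≥ 2
                      rcases le_or_gt b02 2 with hc | hc
                      · -- b02 ≤ 2
                        rcases le_or_gt b10 1 with hc | hc
                        · -- b10 ≤ 1
                          rcases le_or_gt b12 0 with hc | hc
                          · -- b12 ≤ 0
                            rcases le_or_gt b20 1 with hc | hc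
                            · -- b20 ≤ 1
                              exact (NT.too_small_b T hm2 _ hbmat ![![0, 1, 2], ![1, 0, 0], ![1, 0, 0]]
                                (by intro s t hst; fin_cases s <;> fin_cases t <;> simp <;> omega)
                                ![2, 1, 1] (by decide) (by decide) (by decide)).elim
                            · -- b20 ≥ 2
                              exact (NT.too_big_b T hm2 _ hbmat ![![0, 1, 2], ![1, 0, 0], ![2, 0, 0]]
                                (by intro s t hst; fin_cases s <;> fin_cases t <;> simp <;> omega)
                                ![1, 0, 1] (by decide) (by decide) (by decide) (by decide)).elim
                          · -- b12 ≥ 1
                            exact (NT.too_big_whole_b T hm2 _ hbmat ![![0, 1, 2], ![1, 0, 1], ![1, 1, 0]]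
                              (by intro s t hst; fin_cases s <;> fin_cases t <;> simp <;> omega)
                              ![1, 1, 1] (by decide) (by decide) (by decide)).elim
                        · -- b10 ≥ 2
                          rcases le_or_gt b10 2 with hc | hc
                          · -- b10 ≤ 2
                            rcases le_or_gt b12 0 with hc | hc
                            · -- b12 ≤ 0
                              rcases le_or_gt b20 1 with hc | hc
                              · -- b20 ≤ 1
                                have e01 : b01 = 1 := by omega
                                have e02 : b02 = 2 := by omega
                                have e10 : b10 = 2 := by omega
                                have e12 : b12 = 0 := by omega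
                                have e20 : b20 = 1 := by omega
                                have e21 : b21 = 0 := by omega
                                subst e01
                                subst e02
                                subst e10
                                subst e12
                                subst e20
                                subst e21
                                refine ⟨1, 0, 2, T.m 2, T.w 1, by decide, by decide, by decide, (hm2 _).1, (hm2 _).1, (hm2 _).1, ?_⟩
                                refine Or.inr (Or.inr (Or.inr (Or.inl ?_)))
                                refine ⟨by linarith, by linarith, by linarith, by linarith, by linarith, by linarith, by linarith, by linarith, by linarith, by linarith, by linarith, by linarith⟩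
                              · -- b20 ≥ 2
                                exact (NT.too_big_b T hm2 _ hbmat ![![0, 1, 2], ![2, 0, 0], ![2, 0, 0]]
                                  (by intro s t hst; fin_cases s <;> fin_cases t <;> simp <;> omega)
                                  ![1, 0, 1] (by decide) (by decide) (by decide) (by decide)).elim
                            · -- b12 ≥ 1
                              exact (NT.too_big_whole_b T hm2 _ hbmat ![![0, 1, 2], ![2, 0, 1], ![1, 1, 0]]
                                (by intro s t hst; fin_cases s <;> fin_cases t <;> simp <;> omega)
                                ![1, 1, 1] (by decide) (by decide) (by decide)).elim
                          · -- b10 ≥ 3
                            exact (NT.too_big_whole_b T hm2 _ hbmat ![![0, 1, 2], ![3, 0, 0], ![1, 0, 0]]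
                              (by intro s t hst; fin_cases s <;> fin_cases t <;> simp <;> omega)
                              ![2, 3, 1] (by decide) (by decide) (by decide)).elim
                      · -- b02 ≥ 3
                        rcases le_or_gt b10 1 with hc | hc
                        · -- b10 ≤ 1
                          rcases le_or_gt b12 0 with hc | hc
                          · -- b12 ≤ 0
                            rcases le_or_gt b20 1 with hc | hc
                            · -- b20 ≤ 1
                              have e01 : b01 = 1 := by omega
                              have e02 : b02 = 3 := by omega
                              have e10 : b10 = 1 := by omega
                              have e12 : b12 = 0 := by omega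
                              have e20 : b20 = 1 := by omega
                              have e21 : b21 = 0 := by omega
                              subst e01
                              subst e02
                              subst e10
                              subst e12
                              subst e20
                              subst e21
                              refine ⟨1, 0, 2, T.m 1, T.w 1, by decide, by decide, by decide, (hm2 _).1, (hm2 _).1, (hm2 _).1, ?_⟩
                              refine Or.inr (Or.inl ?_)
                              refine ⟨by linarith, by linarith, by linarith, by linarith, by linarith, by linarith, by linarith, by linarith, by linarith, by linarith, by linarith, by linarith⟩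
                            · -- b20 ≥ 2
                              exact (NT.too_big_b T hm2 _ hbmat ![![0, 1, 3], ![1, 0, 0], ![2, 0, 0]]
                                (by intro s t hst; fin_cases s <;> fin_cases t <;> simp <;> omega)
                                ![1, 0, 1] (by decide) (by decide) (by decide) (by decide)).elim
                          · -- b12 ≥ 1
                            exact (NT.too_big_whole_b T hm2 _ hbmat ![![0, 1, 3], ![1, 0, 1], ![1, 1, 0]]
                              (by intro s t hst; fin_cases s <;> fin_cases t <;> simp <;> omega)
                              ![2, 1, 1] (by decide) (by decide) (by decide)).elim
                        · -- b10 ≥ 2
                          exact (NT.too_big_whole_b T hm2 _ hbmat ![![0, 1, 3], ![2, 0, 0], ![1, 0, 0]]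
                            (by intro s t hst; fin_cases s <;> fin_cases t <;> simp <;> omega)
                            ![2, 2, 1] (by decide) (by decide) (by decide)).elim
                · -- b01 ≥ 2
                  rcases le_or_gt b01 2 with hc | hc
                  · -- b01 ≤ 2
                    rcases le_or_gt b02 0 with hc | hc
                    · -- b02 ≤ 0
                      rcases le_or_gt b10 1 with hc | hc
                      · -- b10 ≤ 1
                        rcases le_or_gt b12 0 with hc | hc
                        · -- b12 ≤ 0
                          exact (NT.too_small_b T hm2 _ hbmat ![![0, 2, 0], ![1, 0, 0], ![0, 0, 0]]
                            (by intro s t hst; fin_cases s <;> fin_cases t <;> simp <;> omega)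
                            ![1, 1, 1] (by decide) (by decide) (by decide)).elim
                        · -- b12 ≥ 1
                          rcases le_or_gt b12 1 with hc | hc
                          · -- b12 ≤ 1
                            rcases le_or_gt b21 1 with hc | hc
                            · -- b21 ≤ 1
                              exact (NT.too_small_b T hm2 _ hbmat ![![0, 2, 0], ![1, 0, 1], ![0, 1, 0]]
                                (by intro s t hst; fin_cases s <;> fin_cases t <;> simp <;> omega)
                                ![2, 2, 1] (by decide) (by decide) (by decide)).elim
                            · -- b21 ≥ 2
                              rcases le_or_gt b21 2 with hc | hc
                              · -- b21 ≤ 2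
                                have e01 : b01 = 2 := by omega
                                have e02 : b02 = 0 := by omega
                                have e10 : b10 = 1 := by omega
                                have e12 : b12 = 1 := by omega
                                have e20 : b20 = 0 := by omega
                                have e21 : b21 = 2 := by omega
                                subst e01
                                subst e02
                                subst e10
                                subst e12
                                subst e20
                                subst e21
                                refine ⟨0, 1, 2, T.m 0, T.w 0, by decide, by decide, by decide, (hm2 _).1, (hm2 _).1, (hm2 _).1, ?_⟩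
                                refine Or.inr (Or.inr (Or.inr (Or.inr (Or.inl ?_))))
                                refine ⟨by linarith, by linarith, by linarith, by linarith, by linarith, by linarith, by linarith, by linarith, by linarith, by linarith, by linarith, by linarith⟩
                              · -- b21 ≥ 3
                                exact (NT.too_big_whole_b T hm2 _ hbmat ![![0, 2, 0], ![1, 0, 1], ![0, 3, 0]]
                                  (by intro s t hst; fin_cases s <;> fin_cases t <;> simp <;> omega)
                                  ![2, 2, 3] (by decide) (by decide) (by decide)).elim
                          · -- b12 ≥ 2
                            rcases le_or_gt b12 2 with hc | hc
                            · -- b12 ≤ 2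
                              rcases le_or_gt b21 1 with hc | hc
                              · -- b21 ≤ 1
                                have e01 : b01 = 2 := by omega
                                have e02 : b02 = 0 := by omega
                                have e10 : b10 = 1 := by omega
                                have e12 : b12 = 2 := by omega
                                have e20 : b20 = 0 := by omega
                                have e21 : b21 = 1 := by omega
                                subst e01
                                subst e02
                                subst e10
                                subst e12
                                subst e20
                                subst e21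
                                refine ⟨0, 1, 2, T.m 2, T.w 0, by decide, by decide, by decide, (hm2 _).1, (hm2 _).1, (hm2 _).1, ?_⟩
                                refine Or.inr (Or.inr (Or.inr (Or.inl ?_)))
                                refine ⟨by linarith, by linarith, by linarith, by linarith, by linarith, by linarith, by linarith, by linarith, by linarith, by linarith, by linarith, by linarith⟩
                              · -- b21 ≥ 2
                                exact (NT.too_big_b T hm2 _ hbmat ![![0, 2, 0], ![1, 0, 2], ![0, 2, 0]]
                                  (by intro s t hst; fin_cases s <;> fin_cases t <;> simp <;> omega)
                                  ![0, 1, 1] (by decide) (by decide) (by decide) (by decide)).elim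
                            · -- b12 ≥ 3
                              exact (NT.too_big_whole_b T hm2 _ hbmat ![![0, 2, 0], ![1, 0, 3], ![0, 1, 0]]
                                (by intro s t hst; fin_cases s <;> fin_cases t <;> simp <;> omega)
                                ![2, 2, 1] (by decide) (by decide) (by decide)).elim
                      · -- b10 ≥ 2
                        exact (NT.too_big_b T hm2 _ hbmat ![![0, 2, 0], ![2, 0, 0], ![0, 0, 0]]
                          (by intro s t hst; fin_cases s <;> fin_cases t <;> simp <;> omega)
                          ![1, 1, 0] (by decide) (by decide) (by decide) (by decide)).elim
                    · -- b02 ≥ 1
                      rcases le_or_gt b02 1 with hc | hc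
                      · -- b02 ≤ 1
                        rcases le_or_gt b10 1 with hc | hc
                        · -- b10 ≤ 1
                          rcases le_or_gt b12 0 with hc | hc
                          · -- b12 ≤ 0
                            rcases le_or_gt b20 1 with hc | hc
                            · -- b20 ≤ 1
                              exact (NT.too_small_b T hm2 _ hbmat ![![0, 2, 1], ![1, 0, 0], ![1, 0, 0]]
                                (by intro s t hst; fin_cases s <;> fin_cases t <;> simp <;> omega)
                                ![2, 1, 1] (by decide) (by decide) (by decide)).elim
                            · -- b20 ≥ 2
                              rcases le_or_gt b20 2 with hc | hc
                              · -- b20 ≤ 2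
                                have e01 : b01 = 2 := by omega
                                have e02 : b02 = 1 := by omega
                                have e10 : b10 = 1 := by omega
                                have e12 : b12 = 0 := by omega
                                have e20 : b20 = 2 := by omega
                                have e21 : b21 = 0 := by omega
                                subst e01
                                subst e02
                                subst e10
                                subst e12
                                subst e20
                                subst e21
                                refine ⟨2, 0, 1, T.m 1, T.w 2, by decide, by decide, by decide, (hm2 _).1, (hm2 _).1, (hm2 _).1, ?_⟩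
                                refine Or.inr (Or.inr (Or.inr (Or.inl ?_)))
                                refine ⟨by linarith, by linarith, by linarith, by linarith, by linarith, by linarith, by linarith, by linarith, by linarith, by linarith, by linarith, by linarith⟩
                              · -- b20 ≥ 3
                                exact (NT.too_big_whole_b T hm2 _ hbmat ![![0, 2, 1], ![1, 0, 0], ![3, 0, 0]]
                                  (by intro s t hst; fin_cases s <;> fin_cases t <;> simp <;> omega)
                                  ![2, 1, 3] (by decide) (by decide) (by decide)).elim
                          · -- b12 ≥ 1
                            exact (NT.too_big_whole_b T hm2 _ hbmat ![![0, 2, 1], ![1, 0, 1], ![1, 1, 0]]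
                              (by intro s t hst; fin_cases s <;> fin_cases t <;> simp <;> omega)
                              ![1, 1, 1] (by decide) (by decide) (by decide)).elim
                        · -- b10 ≥ 2
                          exact (NT.too_big_b T hm2 _ hbmat ![![0, 2, 1], ![2, 0, 0], ![1, 0, 0]]
                            (by intro s t hst; fin_cases s <;> fin_cases t <;> simp <;> omega)
                            ![1, 1, 0] (by decide) (by decide) (by decide) (by decide)).elim
                      · -- b02 ≥ 2
                        rcases le_or_gt b02 2 with hc | hc
                        · -- b02 ≤ 2
                          rcases le_or_gt b10 1 with hc | hc
                          · -- b10 ≤ 1
                            rcases le_or_gt b12 0 with hc | hc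
                            · -- b12 ≤ 0
                              rcases le_or_gt b20 1 with hc | hc
                              · -- b20 ≤ 1
                                have e01 : b01 = 2 := by omega
                                have e02 : b02 = 2 := by omega
                                have e10 : b10 = 1 := by omega
                                have e12 : b12 = 0 := by omega
                                have e20 : b20 = 1 := by omega
                                have e21 : b21 = 0 := by omega
                                subst e01
                                subst e02
                                subst e10
                                subst e12
                                subst e20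
                                subst e21
                                refine ⟨1, 0, 2, T.m 1, T.w 0, by decide, by decide, by decide, (hm2 _).1, (hm2 _).1, (hm2 _).1, ?_⟩
                                refine Or.inr (Or.inr (Or.inr (Or.inr (Or.inr (?_)))))
                                refine ⟨by linarith, by linarith, by linarith, by linarith, by linarith, by linarith, by linarith, by linarith, by linarith, by linarith, by linarith, by linarith⟩
                              · -- b20 ≥ 2
                                exact (NT.too_big_b T hm2 _ hbmat ![![0, 2, 2], ![1, 0, 0], ![2, 0, 0]]
                                  (by intro s t hst; fin_cases s <;> fin_cases t <;> simp <;> omega)
                                  ![1, 0, 1] (by decide) (by decide) (by decide) (by decide)).elim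
                            · -- b12 ≥ 1
                              exact (NT.too_big_whole_b T hm2 _ hbmat ![![0, 2, 2], ![1, 0, 1], ![1, 1, 0]]
                                (by intro s t hst; fin_cases s <;> fin_cases t <;> simp <;> omega)
                                ![2, 1, 1] (by decide) (by decide) (by decide)).elim
                          · -- b10 ≥ 2
                            exact (NT.too_big_b T hm2 _ hbmat ![![0, 2, 2], ![2, 0, 0], ![1, 0, 0]]
                              (by intro s t hst; fin_cases s <;> fin_cases t <;> simp <;> omega)
                              ![1, 1, 0] (by decide) (by decide) (by decide) (by decide)).elim
                        · -- b02 ≥ 3
                          exact (NT.too_big_whole_b T hm2 _ hbmat ![![0, 2, 3], ![1, 0, 0], ![1, 0, 0]]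
                            (by intro s t hst; fin_cases s <;> fin_cases t <;> simp <;> omega)
                            ![2, 1, 1] (by decide) (by decide) (by decide)).elim
                  · -- b01 ≥ 3
                    rcases le_or_gt b02 0 with hc | hc
                    · -- b02 ≤ 0
                      rcases le_or_gt b10 1 with hc | hc
                      · -- b10 ≤ 1
                        rcases le_or_gt b12 0 with hc | hc
                        · -- b12 ≤ 0
                          exact (NT.too_small_b T hm2 _ hbmat ![![0, 3, 0], ![1, 0, 0], ![0, 0, 0]]
                            (by intro s t hst; fin_cases s <;> fin_cases t <;> simp <;> omega)
                            ![2, 1, 1] (by decide) (by decide) (by decide)).elim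
                        · -- b12 ≥ 1
                          rcases le_or_gt b12 1 with hc | hc
                          · -- b12 ≤ 1
                            rcases le_or_gt b21 1 with hc | hc
                            · -- b21 ≤ 1
                              have e01 : b01 = 3 := by omega
                              have e02 : b02 = 0 := by omega
                              have e10 : b10 = 1 := by omega
                              have e12 : b12 = 1 := by omega
                              have e20 : b20 = 0 := by omega
                              have e21 : b21 = 1 := by omega
                              subst e01
                              subst e02
                              subst e10
                              subst e12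
                              subst e20
                              subst e21
                              refine ⟨2, 1, 0, T.m 2, T.w 0, by decide, by decide, by decide, (hm2 _).1, (hm2 _).1, (hm2 _).1, ?_⟩
                              refine Or.inr (Or.inr (Or.inl ?_))
                              refine ⟨by linarith, by linarith, by linarith, by linarith, by linarith, by linarith, by linarith, by linarith, by linarith, by linarith, by linarith, by linarith⟩
                            · -- b21 ≥ 2
                              exact (NT.too_big_whole_b T hm2 _ hbmat ![![0, 3, 0], ![1, 0, 1], ![0, 2, 0]]
                                (by intro s t hst; fin_cases s <;> fin_cases t <;> simp <;> omega)
                                ![3, 2, 2] (by decide) (by decide) (by decide)).elim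
                          · -- b12 ≥ 2
                            exact (NT.too_big_whole_b T hm2 _ hbmat ![![0, 3, 0], ![1, 0, 2], ![0, 1, 0]]
                              (by intro s t hst; fin_cases s <;> fin_cases t <;> simp <;> omega)
                              ![3, 2, 1] (by decide) (by decide) (by decide)).elim
                      · -- b10 ≥ 2
                        exact (NT.too_big_b T hm2 _ hbmat ![![0, 3, 0], ![2, 0, 0], ![0, 0, 0]]
                          (by intro s t hst; fin_cases s <;> fin_cases t <;> simp <;> omega)
                          ![1, 1, 0] (by decide) (by decide) (by decide) (by decide)).elim
                    · -- b02 ≥ 1
                      rcases le_or_gt b02 1 with hc | hc
                      · -- b02 ≤ 1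
                        rcases le_or_gt b10 1 with hc | hc
                        · -- b10 ≤ 1
                          rcases le_or_gt b12 0 with hc | hc
                          · -- b12 ≤ 0
                            rcases le_or_gt b20 1 with hc | hc
                            · -- b20 ≤ 1
                              have e01 : b01 = 3 := by omega
                              have e02 : b02 = 1 := by omega
                              have e10 : b10 = 1 := by omega
                              have e12 : b12 = 0 := by omega
                              have e20 : b20 = 1 := by omega
                              have e21 : b21 = 0 := by omega
                              subst e01
                              subst e02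
                              subst e10
                              subst e12
                              subst e20
                              subst e21
                              refine ⟨2, 0, 1, T.m 2, T.w 2, by decide, by decide, by decide, (hm2 _).1, (hm2 _).1, (hm2 _).1, ?_⟩
                              refine Or.inr (Or.inl ?_)
                              refine ⟨by linarith, by linarith, by linarith, by linarith, by linarith, by linarith, by linarith, by linarith, by linarith, by linarith, by linarith, by linarith⟩
                            · -- b20 ≥ 2
                              exact (NT.too_big_whole_b T hm2 _ hbmat ![![0, 3, 1], ![1, 0, 0], ![2, 0, 0]]
                                (by intro s t hst; fin_cases s <;> fin_cases t <;> simp <;> omega)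
                                ![2, 1, 2] (by decide) (by decide) (by decide)).elim
                          · -- b12 ≥ 1
                            exact (NT.too_big_whole_b T hm2 _ hbmat ![![0, 3, 1], ![1, 0, 1], ![1, 1, 0]]
                              (by intro s t hst; fin_cases s <;> fin_cases t <;> simp <;> omega)
                              ![2, 1, 1] (by decide) (by decide) (by decide)).elim
                        · -- b10 ≥ 2
                          exact (NT.too_big_b T hm2 _ hbmat ![![0, 3, 1], ![2, 0, 0], ![1, 0, 0]]
                            (by intro s t hst; fin_cases s <;> fin_cases t <;> simp <;> omega)
                            ![1, 1, 0] (by decide) (by decide) (by decide) (by decide)).elim
                      · -- b02 ≥ 2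
                        exact (NT.too_big_whole_b T hm2 _ hbmat ![![0, 3, 2], ![1, 0, 0], ![1, 0, 0]]
                          (by intro s t hst; fin_cases s <;> fin_cases t <;> simp <;> omega)
                          ![2, 1, 1] (by decide) (by decide) (by decide)).elim
            · -- b21 ≥ 4
              exact (NT.too_big_b T hm2 _ hbmat ![![0, 0, 0], ![0, 0, 1], ![0, 4, 0]]
                (by intro s t hst; fin_cases s <;> fin_cases t <;> simp <;> omega)
                ![0, 1, 2] (by decide) (by decide) (by decide) (by decide)).elim
          · -- b20 ≥ 4
            exact (NT.too_big_b T hm2 _ hbmat ![![0, 0, 1], ![0, 0, 0], ![4, 0, 0]]
              (by intro s t hst; fin_cases s <;> fin_cases t <;> simp <;> omega)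
              ![1, 0, 2] (by decide) (by decide) (by decide) (by decide)).elim
        · -- b12 ≥ 4
          exact (NT.too_big_b T hm2 _ hbmat ![![0, 0, 0], ![0, 0, 4], ![0, 1, 0]]
            (by intro s t hst; fin_cases s <;> fin_cases t <;> simp <;> omega)
            ![0, 2, 1] (by decide) (by decide) (by decide) (by decide)).elim
      · -- b10 ≥ 4
        exact (NT.too_big_b T hm2 _ hbmat ![![0, 1, 0], ![4, 0, 0], ![0, 0, 0]]
          (by intro s t hst; fin_cases s <;> fin_cases t <;> simp <;> omega)
          ![1, 2, 0] (by decide) (by decide) (by decide) (by decide)).elim
    · -- b02 ≥ 4
      exact (NT.too_big_b T hm2 _ hbmat ![![0, 0, 4], ![0, 0, 0], ![1, 0, 0]]
        (by intro s t hst; fin_cases s <;> fin_cases t <;> simp <;> omega)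
        ![2, 0, 1] (by decide) (by decide) (by decide) (by decide)).elim
  · -- b01 ≥ 4
    exact (NT.too_big_b T hm2 _ hbmat ![![0, 4, 0], ![1, 0, 0], ![0, 0, 0]]
      (by intro s t hst; fin_cases s <;> fin_cases t <;> simp <;> omega)
      ![2, 1, 0] (by decide) (by decide) (by decide) (by decide)).elim

end Groth.Agent.S7363
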