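import Groth.Statements.S7364
import Groth.Agent.Lib.Helper36.G4.P0
import Groth.Agent.Lib.Helper36.G4.P1
import Groth.Agent.Lib.Helper36.G4.P2
import Groth.Agent.Lib.Helper36.G4.P3
import Groth.Agent.Lib.Helper36.G4.P4
import Groth.Agent.Lib.Helper36.G4.P5
import Groth.Agent.Lib.Helper36.G4.P6
import Groth.Agent.Lib.Helper36.G4.P7
import Groth.Agent.Lib.Helper36.G4.P8
import Groth.Agent.Lib.Helper36.G4.P9
import Groth.Agent.Lib.Helper36.G4.P10
import Groth.Agent.Lib.Helper36.G4.P11
import Groth.Agent.Lib.Helper36.G4.P12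

set_option autoImplicit false
open Finset
open Models Models.NumericalType

namespace Groth.Agent.S7364

open Groth.Agent.Lib.Helper36 Groth.Agent.Lib.Helper36.G4 in
/-- Genus one classification: case n = 4: let T be a minimal numerical type of genus 1 on 4 indices.
Then all g_i = 0 and, for some permutation σ of the indices and some integers m, w, the
multiplicities, weights and intersection matrix (m_{σ(i)}, w_{σ(i)}, a_{σ(i)σ(j)}) are those of one
of the following 6 types: [four cycle] m = (m, m, m, m), w = (w, w, w, w), a = (-2 * w w 0 w / w -2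
* w w 0 / 0 w -2 * w w / w 0 w -2 * w); [up equal up] m = (2 * m, 2 * m, 2 * m, m), w = (w, 2 * w, 2
* w, 4 * w), a = (-2 * w 2 * w 0 0 / 2 * w -4 * w 2 * w 0 / 0 2 * w -4 * w 4 * w / 0 0 4 * w -8 *
w); [up equal down] m = (m, m, m, m), w = (w, 2 * w, 2 * w, w), a = (-2 * w 2 * w 0 0 / 2 * w -4 * w
2 * w 0 / 0 2 * w -4 * w 2 * w / 0 0 2 * w -2 * w); [down equal up] m = (m, 2 * m, 2 * m, m), w = (2
* w, w, w, 2 * w), a = (-4 * w 2 * w 0 0 / 2 * w -2 * w w 0 / 0 w -2 * w 2 * w / 0 0 2 * w -4 * w);
[triple with up] m = (2 * m, m, m, m), w = (w, w, w, 2 * w), a = (-2 * w w w 2 * w / w -2 * w 0 0 /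
w 0 -2 * w 0 / 2 * w 0 0 -4 * w); [triple with down] m = (2 * m, m, m, 2 * m), w = (2 * w, 2 * w, 2
* w, w), a = (-4 * w 2 * w 2 * w 2 * w / 2 * w -4 * w 0 0 / 2 * w 0 -4 * w 0 / 2 * w 0 0 -2 * w).
Only the classification direction is stated. -/
theorem result (T : Models.NumericalType 4) (hmin : T.IsMinimal) (hg : T.genus = 1) :
    (∀ i, T.g i = 0) ∧ ∃ (σ : Equiv.Perm (Fin 4)) (m w : ℤ),
      ((T.m (σ 0) = m ∧ T.m (σ 1) = m ∧ T.m (σ 2) = m ∧ T.m (σ 3) = m ∧ T.w (σ 0) = w ∧ T.w (σ 1) = w ∧ T.w (σ 2) = w ∧ T.w (σ 3) = w ∧ T.a (σ 0) (σ 0) = -2 * w ∧ T.a (σ 0) (σ 1) = w ∧ T.a (σ 0) (σ 2) = 0 ∧ T.a (σ 0) (σ 3) = w ∧ T.a (σ 1) (σ 1) = -2 * w ∧ T.a (σ 1) (σ 2) = w ∧ T.a (σ 1) (σ 3) = 0 ∧ T.a (σ 2) (σ 2) = -2 * w ∧ T.a (σ 2) (σ 3) = w ∧ T.a (σ 3) (σ 3) = -2 * w) ∨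
      (T.m (σ 0) = 2 * m ∧ T.m (σ 1) = 2 * m ∧ T.m (σ 2) = 2 * m ∧ T.m (σ 3) = m ∧ T.w (σ 0) = w ∧ T.w (σ 1) = 2 * w ∧ T.w (σ 2) = 2 * w ∧ T.w (σ 3) = 4 * w ∧ T.a (σ 0) (σ 0) = -2 * w ∧ T.a (σ 0) (σ 1) = 2 * w ∧ T.a (σ 0) (σ 2) = 0 ∧ T.a (σ 0) (σ 3) = 0 ∧ T.a (σ 1) (σ 1) = -4 * w ∧ T.a (σ 1) (σ 2) = 2 * w ∧ T.a (σ 1) (σ 3) = 0 ∧ T.a (σ 2) (σ 2) = -4 * w ∧ T.a (σ 2) (σ 3) = 4 * w ∧ T.a (σ 3) (σ 3) = -8 * w) ∨
      (T.m (σ 0) = m ∧ T.m (σ 1) = m ∧ T.m (σ 2) = m ∧ T.m (σ 3) = m ∧ T.w (σ 0) = w ∧ T.w (σ 1) = 2 * w ∧ T.w (σ 2) = 2 * w ∧ T.w (σ 3) = w ∧ T.a (σ 0) (σ 0) = -2 * w ∧ T.a (σ 0) (σ 1) = 2 * w ∧ T.a (σ 0) (σ 2) = 0 ∧ T.a (σ 0) (σ 3) = 0 ∧ T.a (σ 1) (σ 1) = -4 * w ∧ T.a (σ 1) (σ 2) = 2 * w ∧ T.a (σ 1) (σ 3) = 0 ∧ T.a (σ 2) (σ 2) = -4 * w ∧ T.a (σ 2) (σ 3) = 2 * w ∧ T.a (σ 3) (σ 3) = -2 * w) ∨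
      (T.m (σ 0) = m ∧ T.m (σ 1) = 2 * m ∧ T.m (σ 2) = 2 * m ∧ T.m (σ 3) = m ∧ T.w (σ 0) = 2 * w ∧ T.w (σ 1) = w ∧ T.w (σ 2) = w ∧ T.w (σ 3) = 2 * w ∧ T.a (σ 0) (σ 0) = -4 * w ∧ T.a (σ 0) (σ 1) = 2 * w ∧ T.a (σ 0) (σ 2) = 0 ∧ T.a (σ 0) (σ 3) = 0 ∧ T.a (σ 1) (σ 1) = -2 * w ∧ T.a (σ 1) (σ 2) = w ∧ T.a (σ 1) (σ 3) = 0 ∧ T.a (σ 2) (σ 2) = -2 * w ∧ T.a (σ 2) (σ 3) = 2 * w ∧ T.a (σ 3) (σ 3) = -4 * w) ∨
      (T.m (σ 0) = 2 * m ∧ T.m (σ 1) = m ∧ T.m (σ 2) = m ∧ T.m (σ 3) = m ∧ T.w (σ 0) = w ∧ T.w (σ 1) = w ∧ T.w (σ 2) = w ∧ T.w (σ 3) = 2 * w ∧ T.a (σ 0) (σ 0) = -2 * w ∧ T.a (σ 0) (σ 1) = w ∧ T.a (σ 0) (σ 2) = w ∧ T.a (σ 0) (σ 3) = 2 * w ∧ T.a (σ 1) (σ 1) = -2 * w ∧ T.a (σ 1) (σ 2) = 0 ∧ T.a (σ 1) (σ 3) = 0 ∧ T.a (σ 2) (σ 2) = -2 * w ∧ T.a (σ 2) (σ 3) = 0 ∧ T.a (σ 3) (σ 3) = -4 * w) ∨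
      (T.m (σ 0) = 2 * m ∧ T.m (σ 1) = m ∧ T.m (σ 2) = m ∧ T.m (σ 3) = 2 * m ∧ T.w (σ 0) = 2 * w ∧ T.w (σ 1) = 2 * w ∧ T.w (σ 2) = 2 * w ∧ T.w (σ 3) = w ∧ T.a (σ 0) (σ 0) = -4 * w ∧ T.a (σ 0) (σ 1) = 2 * w ∧ T.a (σ 0) (σ 2) = 2 * w ∧ T.a (σ 0) (σ 3) = 2 * w ∧ T.a (σ 1) (σ 1) = -4 * w ∧ T.a (σ 1) (σ 2) = 0 ∧ T.a (σ 1) (σ 3) = 0 ∧ T.a (σ 2) (σ 2) = -4 * w ∧ T.a (σ 2) (σ 3) = 0 ∧ T.a (σ 3) (σ 3) = -2 * w)) := by
  obtain ⟨b, C⟩ := NT.AffCtx.exists_of_all_minusTwo T (NT.all_minusTwo_of_genus_one T (by norm_num) hmin hg)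
  have L01 : 0 ≤ b 0 1 := C.nonneg (by decide)
  have L02 : 0 ≤ b 0 2 := C.nonneg (by decide)
  have L03 : 0 ≤ b 0 3 := C.nonneg (by decide)
  have L10 : 0 ≤ b 1 0 := C.nonneg (by decide)
  have L12 : 0 ≤ b 1 2 := C.nonneg (by decide)
  have L13 : 0 ≤ b 1 3 := C.nonneg (by decide)
  have L20 : 0 ≤ b 2 0 := C.nonneg (by decide)
  have L21 : 0 ≤ b 2 1 := C.nonneg (by decide)
  have L23 : 0 ≤ b 2 3 := C.nonneg (by decide)
  have L30 : 0 ≤ b 3 0 := C.nonneg (by decide)
  have L31 : 0 ≤ b 3 1 := C.nonneg (by decide)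
  have L32 : 0 ≤ b 3 2 := C.nonneg (by decide)
  show Goal T
  unfold Goal
  rcases le_or_gt (b 0 1) 3 with hc | hc
  · have U01 : b 0 1 ≤ 3 := hc
    rcases le_or_gt (b 0 2) 3 with hc | hc
    · have U02 : b 0 2 ≤ 3 := hc
      rcases le_or_gt (b 0 3) 3 with hc | hc
      · have U03 : b 0 3 ≤ 3 := hc
        rcases le_or_gt (b 1 0) 3 with hc | hc
        · have U10 : b 1 0 ≤ 3 := hc
          rcases le_or_gt (b 1 2) 3 with hc | hc
          · have U12 : b 1 2 ≤ 3 := hc
            rcases le_or_gt (b 1 3) 3 with hc | hc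
            · have U13 : b 1 3 ≤ 3 := hc
              rcases le_or_gt (b 2 0) 3 with hc | hc
              · have U20 : b 2 0 ≤ 3 := hc
                rcases le_or_gt (b 2 1) 3 with hc | hc
                · have U21 : b 2 1 ≤ 3 := hc
                  rcases le_or_gt (b 2 3) 3 with hc | hc
                  · have U23 : b 2 3 ≤ 3 := hc
                    rcases le_or_gt (b 3 0) 3 with hc | hc
                    · have U30 : b 3 0 ≤ 3 := hc
                      rcases le_or_gt (b 3 1) 3 with hc | hc
                      · have U31 : b 3 1 ≤ 3 := hc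
                        rcases le_or_gt (b 3 2) 3 with hc | hc
                        · have U32 : b 3 2 ≤ 3 := hc
                          rcases le_or_gt (b 0 1) 0 with hc | hc
                          · have U01 : b 0 1 ≤ 0 := hc
                            have U10 : b 1 0 ≤ 0 := C.le_zero_symm (by decide) hc
                            rcases le_or_gt (b 0 2) 0 with hc | hc
                            · have U02 : b 0 2 ≤ 0 := hc
                              have U20 : b 2 0 ≤ 0 := C.le_zero_symm (by decide) hc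
                              rcases le_or_gt (b 0 3) 0 with hc | hc
                              · have U03 : b 0 3 ≤ 0 := hc
                                have U30 : b 3 0 ≤ 0 := C.le_zero_symm (by decide) hc
                                exact part0 T b C L01 L02 L03 L10 L12 L13 L20 L21 L23 L30 L31 L32 U01 U02 U03 U10 U12 U13 U20 U21 U23 U30 U31 U32
                              · have L03 : 1 ≤ b 0 3 := by omega
                                have L30 : 1 ≤ b 3 0 := C.pos_symm (by decide) (by omega)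
                                rcases le_or_gt (b 0 3) 1 with hc | hc
                                · have U03 : b 0 3 ≤ 1 := hc
                                  rcases le_or_gt (b 1 2) 0 with hc | hc
                                  · have U12 : b 1 2 ≤ 0 := hc
                                    have U21 : b 2 1 ≤ 0 := C.le_zero_symm (by decide) hc
                                    exact part1 T b C L01 L02 L03 L10 L12 L13 L20 L21 L23 L30 L31 L32 U01 U02 U03 U10 U12 U13 U20 U21 U23 U30 U31 U32
                                  · have L12 : 1 ≤ b 1 2 := by omega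
                                    have L21 : 1 ≤ b 2 1 := C.pos_symm (by decide) (by omega)
                                    exact part2 T b C L01 L02 L03 L10 L12 L13 L20 L21 L23 L30 L31 L32 U01 U02 U03 U10 U12 U13 U20 U21 U23 U30 U31 U32
                                · have L03 : 2 ≤ b 0 3 := by omega
                                  exact part3 T b C L01 L02 L03 L10 L12 L13 L20 L21 L23 L30 L31 L32 U01 U02 U03 U10 U12 U13 U20 U21 U23 U30 U31 U32
                            · have L02 : 1 ≤ b 0 2 := by omega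
                              have L20 : 1 ≤ b 2 0 := C.pos_symm (by decide) (by omega)
                              rcases le_or_gt (b 0 2) 1 with hc | hc
                              · have U02 : b 0 2 ≤ 1 := hc
                                rcases le_or_gt (b 0 3) 0 with hc | hc
                                · have U03 : b 0 3 ≤ 0 := hc
                                  have U30 : b 3 0 ≤ 0 := C.le_zero_symm (by decide) hc
                                  rcases le_or_gt (b 1 2) 0 with hc | hc
                                  · have U12 : b 1 2 ≤ 0 := hc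
                                    have U21 : b 2 1 ≤ 0 := C.le_zero_symm (by decide) hc
                                    exact part4 T b C L01 L02 L03 L10 L12 L13 L20 L21 L23 L30 L31 L32 U01 U02 U03 U10 U12 U13 U20 U21 U23 U30 U31 U32
                                  · have L12 : 1 ≤ b 1 2 := by omega
                                    have L21 : 1 ≤ b 2 1 := C.pos_symm (by decide) (by omega)
                                    exact part5 T b C L01 L02 L03 L10 L12 L13 L20 L21 L23 L30 L31 L32 U01 U02 U03 U10 U12 U13 U20 U21 U23 U30 U31 U32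
                                · have L03 : 1 ≤ b 0 3 := by omega
                                  have L30 : 1 ≤ b 3 0 := C.pos_symm (by decide) (by omega)
                                  exact part6 T b C L01 L02 L03 L10 L12 L13 L20 L21 L23 L30 L31 L32 U01 U02 U03 U10 U12 U13 U20 U21 U23 U30 U31 U32
                              · have L02 : 2 ≤ b 0 2 := by omega
                                exact part7 T b C L01 L02 L03 L10 L12 L13 L20 L21 L23 L30 L31 L32 U01 U02 U03 U10 U12 U13 U20 U21 U23 U30 U31 U32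
                          · have L01 : 1 ≤ b 0 1 := by omega
                            have L10 : 1 ≤ b 1 0 := C.pos_symm (by decide) (by omega)
                            rcases le_or_gt (b 0 1) 1 with hc | hc
                            · have U01 : b 0 1 ≤ 1 := hc
                              rcases le_or_gt (b 0 2) 0 with hc | hc
                              · have U02 : b 0 2 ≤ 0 := hc
                                have U20 : b 2 0 ≤ 0 := C.le_zero_symm (by decide) hc
                                rcases le_or_gt (b 0 3) 0 with hc | hc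
                                · have U03 : b 0 3 ≤ 0 := hc
                                  have U30 : b 3 0 ≤ 0 := C.le_zero_symm (by decide) hc
                                  rcases le_or_gt (b 1 0) 1 with hc | hc
                                  · have U10 : b 1 0 ≤ 1 := hc
                                    exact part8 T b C L01 L02 L03 L10 L12 L13 L20 L21 L23 L30 L31 L32 U01 U02 U03 U10 U12 U13 U20 U21 U23 U30 U31 U32
                                  · have L10 : 2 ≤ b 1 0 := by omega
                                    exact part9 T b C L01 L02 L03 L10 L12 L13 L20 L21 L23 L30 L31 L32 U01 U02 U03 U10 U12 U13 U20 U21 U23 U30 U31 U32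
                                · have L03 : 1 ≤ b 0 3 := by omega
                                  have L30 : 1 ≤ b 3 0 := C.pos_symm (by decide) (by omega)
                                  exact part10 T b C L01 L02 L03 L10 L12 L13 L20 L21 L23 L30 L31 L32 U01 U02 U03 U10 U12 U13 U20 U21 U23 U30 U31 U32
                              · have L02 : 1 ≤ b 0 2 := by omega
                                have L20 : 1 ≤ b 2 0 := C.pos_symm (by decide) (by omega)
                                exact part11 T b C L01 L02 L03 L10 L12 L13 L20 L21 L23 L30 L31 L32 U01 U02 U03 U10 U12 U13 U20 U21 U23 U30 U31 U32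
                            · have L01 : 2 ≤ b 0 1 := by omega
                              exact part12 T b C L01 L02 L03 L10 L12 L13 L20 L21 L23 L30 L31 L32 U01 U02 U03 U10 U12 U13 U20 U21 U23 U30 U31 U32
                        · have L32 : 4 ≤ b 3 2 := by omega
                          have L23 : 1 ≤ b 2 3 := C.pos_symm (by decide) (by omega)
                          exact (C.too_big ![![0, 0, 0, 0], ![0, 0, 0, 0], ![0, 0, 0, 1], ![0, 0, 4, 0]] (fun s t hst => by fin_cases s <;> fin_cases t <;> first | exact absurd rfl hst | assumption)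
                            ![0, 0, 1, 2] (by decide) (by decide) (by decide) (by decide)).elim
                      · have L31 : 4 ≤ b 3 1 := by omega
                        have L13 : 1 ≤ b 1 3 := C.pos_symm (by decide) (by omega)
                        exact (C.too_big ![![0, 0, 0, 0], ![0, 0, 0, 1], ![0, 0, 0, 0], ![0, 4, 0, 0]] (fun s t hst => by fin_cases s <;> fin_cases t <;> first | exact absurd rfl hst | assumption)
                          ![0, 1, 0, 2] (by decide) (by decide) (by decide) (by decide)).elim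
                    · have L30 : 4 ≤ b 3 0 := by omega
                      have L03 : 1 ≤ b 0 3 := C.pos_symm (by decide) (by omega)
                      exact (C.too_big ![![0, 0, 0, 1], ![0, 0, 0, 0], ![0, 0, 0, 0], ![4, 0, 0, 0]] (fun s t hst => by fin_cases s <;> fin_cases t <;> first | exact absurd rfl hst | assumption)
                        ![1, 0, 0, 2] (by decide) (by decide) (by decide) (by decide)).elim
                  · have L23 : 4 ≤ b 2 3 := by omega
                    have L32 : 1 ≤ b 3 2 := C.pos_symm (by decide) (by omega)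
                    exact (C.too_big ![![0, 0, 0, 0], ![0, 0, 0, 0], ![0, 0, 0, 4], ![0, 0, 1, 0]] (fun s t hst => by fin_cases s <;> fin_cases t <;> first | exact absurd rfl hst | assumption)
                      ![0, 0, 2, 1] (by decide) (by decide) (by decide) (by decide)).elim
                · have L21 : 4 ≤ b 2 1 := by omega
                  have L12 : 1 ≤ b 1 2 := C.pos_symm (by decide) (by omega)
                  exact (C.too_big ![![0, 0, 0, 0], ![0, 0, 1, 0], ![0, 4, 0, 0], ![0, 0, 0, 0]] (fun s t hst => by fin_cases s <;> fin_cases t <;> first | exact absurd rfl hst | assumption)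
                    ![0, 1, 2, 0] (by decide) (by decide) (by decide) (by decide)).elim
              · have L20 : 4 ≤ b 2 0 := by omega
                have L02 : 1 ≤ b 0 2 := C.pos_symm (by decide) (by omega)
                exact (C.too_big ![![0, 0, 1, 0], ![0, 0, 0, 0], ![4, 0, 0, 0], ![0, 0, 0, 0]] (fun s t hst => by fin_cases s <;> fin_cases t <;> first | exact absurd rfl hst | assumption)
                  ![1, 0, 2, 0] (by decide) (by decide) (by decide) (by decide)).elim
            · have L13 : 4 ≤ b 1 3 := by omega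
              have L31 : 1 ≤ b 3 1 := C.pos_symm (by decide) (by omega)
              exact (C.too_big ![![0, 0, 0, 0], ![0, 0, 0, 4], ![0, 0, 0, 0], ![0, 1, 0, 0]] (fun s t hst => by fin_cases s <;> fin_cases t <;> first | exact absurd rfl hst | assumption)
                ![0, 2, 0, 1] (by decide) (by decide) (by decide) (by decide)).elim
          · have L12 : 4 ≤ b 1 2 := by omega
            have L21 : 1 ≤ b 2 1 := C.pos_symm (by decide) (by omega)
            exact (C.too_big ![![0, 0, 0, 0], ![0, 0, 4, 0], ![0, 1, 0, 0], ![0, 0, 0, 0]] (fun s t hst => by fin_cases s <;> fin_cases t <;> first | exact absurd rfl hst | assumption)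
              ![0, 2, 1, 0] (by decide) (by decide) (by decide) (by decide)).elim
        · have L10 : 4 ≤ b 1 0 := by omega
          have L01 : 1 ≤ b 0 1 := C.pos_symm (by decide) (by omega)
          exact (C.too_big ![![0, 1, 0, 0], ![4, 0, 0, 0], ![0, 0, 0, 0], ![0, 0, 0, 0]] (fun s t hst => by fin_cases s <;> fin_cases t <;> first | exact absurd rfl hst | assumption)
            ![1, 2, 0, 0] (by decide) (by decide) (by decide) (by decide)).elim
      · have L03 : 4 ≤ b 0 3 := by omega
        have L30 : 1 ≤ b 3 0 := C.pos_symm (by decide) (by omega)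
        exact (C.too_big ![![0, 0, 0, 4], ![0, 0, 0, 0], ![0, 0, 0, 0], ![1, 0, 0, 0]] (fun s t hst => by fin_cases s <;> fin_cases t <;> first | exact absurd rfl hst | assumption)
          ![2, 0, 0, 1] (by decide) (by decide) (by decide) (by decide)).elim
    · have L02 : 4 ≤ b 0 2 := by omega
      have L20 : 1 ≤ b 2 0 := C.pos_symm (by decide) (by omega)
      exact (C.too_big ![![0, 0, 4, 0], ![0, 0, 0, 0], ![1, 0, 0, 0], ![0, 0, 0, 0]] (fun s t hst => by fin_cases s <;> fin_cases t <;> first | exact absurd rfl hst | assumption)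
        ![2, 0, 1, 0] (by decide) (by decide) (by decide) (by decide)).elim
  · have L01 : 4 ≤ b 0 1 := by omega
    have L10 : 1 ≤ b 1 0 := C.pos_symm (by decide) (by omega)
    exact (C.too_big ![![0, 4, 0, 0], ![1, 0, 0, 0], ![0, 0, 0, 0], ![0, 0, 0, 0]] (fun s t hst => by fin_cases s <;> fin_cases t <;> first | exact absurd rfl hst | assumption)
      ![2, 1, 0, 0] (by decide) (by decide) (by decide) (by decide)).elim

end Groth.Agent.S7364
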