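import Groth.Statements.S7380
import Groth.Agent.S2078
import Groth.Agent.S7379
import Groth.Agent.Lib.Helper14.FTImmF

set_option autoImplicit false
universe u
open CategoryTheory AlgebraicGeometry
open Lim

namespace Groth.Agent.S7380

/-- Let `f : X → S` be locally of finite type with `X` quasi-compact and quasi-separated and `S`
quasi-separated. Then, in the category of schemes over `S`, `X` is the limit of a nonempty directed
inverse system of schemes `X_i → S` of finite presentation (locally of finite presentation,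
quasi-compact and quasi-separated), each `X_i` being a quasi-compact and quasi-separated scheme,
whose transition morphisms are closed immersions. -/
theorem result {X S : Scheme.{u}}
    (f : X ⟶ S) [LocallyOfFiniteType f] [CompactSpace X] [QuasiSeparatedSpace X] [QuasiSeparatedSpace S] :
    ∃ (I : Type u) (_ : Preorder I) (_ : IsDirected I (fun a b => a ≤ b)) (_ : Nonempty I)
      (D : Iᵒᵖ ⥤ Over S) (c : Limits.Cone D) (_ : Limits.IsLimit c),
      (∀ i, LocallyOfFinitePresentation (D.obj i).hom ∧ QuasiCompact (D.obj i).hom ∧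
        QuasiSeparated (D.obj i).hom ∧ CompactSpace (D.obj i).left ∧ QuasiSeparatedSpace (D.obj i).left) ∧
      (∀ (i j : Iᵒᵖ) (a : i ⟶ j), IsClosedImmersion (D.map a).left) ∧
      Nonempty (c.pt ≅ Over.mk f) := by
  classical
  obtain ⟨X', f', j, h1, h2, h3, h4, hjf⟩ := Groth.Agent.S2078.result f
  have hqsX' : QuasiSeparatedSpace X' := quasiSeparatedSpace_of_quasiSeparated f'
  obtain ⟨U, hUc, hUr, hUcl⟩ :=
    Groth.Agent.Lib.Helper14.FTImm.exists_compact_open_isClosedImmersion j
  have hj' := Groth.Agent.Lib.Helper14.FTImm.isClosedImmersion_lift_of_restrict j U hUr hUcl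
  have hUcs : CompactSpace U.toScheme := isCompact_iff_compactSpace.mp hUc
  have hUqs : QuasiSeparatedSpace U.toScheme := quasiSeparatedSpace_of_quasiSeparated U.ι
  have hr : Set.range j ⊆ Set.range U.ι := by rw [Scheme.Opens.range_ι]; exact hUr
  have hj'' : IsClosedImmersion (IsOpenImmersion.lift U.ι j hr) := hj'
  obtain ⟨I, i1, i2, i3, D, c, hc, hD, ⟨e⟩⟩ := Groth.Agent.S7379.result
    (IsOpenImmersion.lift U.ι j hr)
  have hfac : IsOpenImmersion.lift U.ι j hr ≫ U.ι = j :=
    IsOpenImmersion.lift_fac _ _ _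
  have hp1 : LocallyOfFinitePresentation (U.ι ≫ f') := inferInstance
  have hp2 : QuasiCompact (U.ι ≫ f') := inferInstance
  have hp3 : QuasiSeparated (U.ι ≫ f') := inferInstance
  have hconn : IsConnected Iᵒᵖ := IsCofiltered.isConnected _
  have hcS : Limits.IsLimit ((Over.map (U.ι ≫ f')).mapCone c) := by
    have h1 : Limits.IsLimit ((Over.forget U.toScheme).mapCone c) :=
      Limits.isLimitOfPreserves (Over.forget U.toScheme) hc
    exact Limits.isLimitOfReflects (Over.forget S) h1
  refine ⟨I, i1, i2, i3, D ⋙ Over.map (U.ι ≫ f'), (Over.map (U.ι ≫ f')).mapCone c, hcS,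
    ?_, ?_, ?_⟩
  · intro i
    obtain ⟨hi1, hi2⟩ := hD i
    have hcsi : CompactSpace (D.obj i).left :=
      Groth.Agent.Lib.Helper14.FTImm.compactSpace_of_isClosedImmersion (D.obj i).hom hi1
    have hqsi : QuasiSeparatedSpace (D.obj i).left :=
      Groth.Agent.Lib.Helper14.FTImm.quasiSeparatedSpace_of_isClosedImmersion (D.obj i).hom hi1
    refine ⟨?_, ?_, ?_, hcsi, hqsi⟩
    · change LocallyOfFinitePresentation ((D.obj i).hom ≫ (U.ι ≫ f'))
      exact MorphismProperty.comp_mem _ _ _ hi2 hp1
    · change QuasiCompact ((D.obj i).hom ≫ (U.ι ≫ f'))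
      exact MorphismProperty.comp_mem _ _ _ inferInstance hp2
    · change QuasiSeparated ((D.obj i).hom ≫ (U.ι ≫ f'))
      exact MorphismProperty.comp_mem _ _ _ inferInstance hp3
  · intro i j a
    change IsClosedImmersion (D.map a).left
    have hj1 := (hD j).1
    have hcomp : IsClosedImmersion ((D.map a).left ≫ (D.obj j).hom) := by
      rw [Over.w]
      exact (hD i).1
    exact IsClosedImmersion.of_comp _ (D.obj j).hom
  · refine ⟨(Over.map (U.ι ≫ f')).mapIso e ≪≫ Over.isoMk (Iso.refl _) ?_⟩
    change 𝟙 _ ≫ f = _ ≫ (U.ι ≫ f')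
    rw [Category.id_comp, ← Category.assoc]
    erw [hfac]
    exact hjf.symm

end Groth.Agent.S7380
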