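import Groth.Statements.S7385
import Groth.Agent.Lib.Helper37.GenericPointNhd
import Mathlib.AlgebraicGeometry.Limits

set_option autoImplicit false
universe u
open CategoryTheory AlgebraicGeometry
open Mor

namespace Groth.Agent.S7385

/-- Let `X` be a quasi-separated scheme and `η_1, …, η_n` pairwise distinct points, each the generic
point of an irreducible component of `X`. Then there are affine open neighbourhoods `U_i ∋ η_i`
which are pairwise disjoint, and their union is an affine open containing all the `η_i`. -/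
theorem result (X : Scheme.{u}) [QuasiSeparatedSpace X] {n : ℕ}
    (η : Fin n → X) (hη : ∀ i, closure ({η i} : Set X) ∈ irreducibleComponents (X : Type u))
    (hinj : Function.Injective η) :
    ∃ U : Fin n → X.Opens, (∀ i, IsAffineOpen (U i) ∧ η i ∈ U i) ∧
      (∀ i j, i ≠ j → Disjoint (U i) (U j)) ∧ IsAffineOpen (⨆ i, U i) := by
  classical
  -- Step 1: affine opens `V i ∋ η i` not containing the other `η j`
  have step1 : ∀ i, ∃ V : X.Opens, IsAffineOpen V ∧ η i ∈ V ∧ ∀ j, j ≠ i → η j ∉ V := by
    intro i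
    -- opens separating `η i` from `η j`
    have hsep : ∀ j, j ≠ i → ∃ O : X.Opens, η i ∈ O ∧ η j ∉ O := by
      intro j hji
      have hns : ¬ (η j ⤳ η i) := fun hspec =>
        hji (hinj (Groth.Agent.Lib.Helper37.eq_of_specializes_of_mem_irreducibleComponents
          (hη i) hspec))
      rw [specializes_iff_forall_open] at hns
      push Not at hns
      obtain ⟨O, hO, hiO, hjO⟩ := hns
      exact ⟨⟨O, hO⟩, hiO, hjO⟩
    choose! O hO₁ hO₂ using hsep
    have hopen : IsOpen (⋂ j ∈ (Finset.univ.erase i : Finset (Fin n)), (O j : Set X)) :=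
      isOpen_biInter_finset (fun j _ => (O j).2)
    have hmem : η i ∈ ⋂ j ∈ (Finset.univ.erase i : Finset (Fin n)), (O j : Set X) := by
      simp only [Set.mem_iInter]
      intro j hj
      exact hO₁ j (Finset.ne_of_mem_erase hj)
    obtain ⟨_, ⟨V, hV, rfl⟩, hiV, hVO⟩ :=
      X.isBasis_affineOpens.exists_subset_of_mem_open hmem hopen
    refine ⟨V, hV, hiV, fun j hji hjV => hO₂ j hji ?_⟩
    have := hVO hjV
    simp only [Set.mem_iInter] at this
    exact this j (Finset.mem_erase.mpr ⟨hji, Finset.mem_univ j⟩)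
  choose V hV hiV hjV using step1
  -- Step 2: shrink `V i` to be disjoint from the other `V j`
  have step2 : ∀ i, ∃ f : Γ(X, V i), η i ∈ X.basicOpen f ∧
      Disjoint (X.basicOpen f) (⨆ j ∈ (Finset.univ.erase i : Finset (Fin n)), V j) := by
    intro i
    have hWc : IsCompact ((⨆ j ∈ (Finset.univ.erase i : Finset (Fin n)), V j : X.Opens) :
        Set X) := by
      have : ((⨆ j ∈ (Finset.univ.erase i : Finset (Fin n)), V j : X.Opens) : Set X) =
          ⋃ j ∈ (Finset.univ.erase i : Finset (Fin n)), (V j : Set X) := by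
        simp
      rw [this]
      exact (Finset.univ.erase i).isCompact_biUnion (fun j _ => (hV j).isCompact)
    have hc : IsCompact ((V i : Set X) ∩
        (⨆ j ∈ (Finset.univ.erase i : Finset (Fin n)), V j : X.Opens)) :=
      QuasiSeparatedSpace.inter_isCompact _ _ (V i).2 (hV i).isCompact
        (⨆ j ∈ (Finset.univ.erase i : Finset (Fin n)), V j : X.Opens).2 hWc
    apply Groth.Agent.Lib.Helper37.exists_basicOpen_disjoint (hV i) _ hc (η i) (hη i) (hiV i)
    intro hmem
    simp only [TopologicalSpace.Opens.mem_iSup] at hmem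
    obtain ⟨j, hj, hjm⟩ := hmem
    exact hjV j i (Finset.ne_of_mem_erase hj).symm hjm
  choose f hf₁ hf₂ using step2
  have hdisj : ∀ i j, i ≠ j → Disjoint (X.basicOpen (f i)) (X.basicOpen (f j)) := by
    intro i j hij
    refine (hf₂ i).mono_right ?_
    refine le_trans (X.basicOpen_le (f j)) ?_
    exact le_iSup₂_of_le j (Finset.mem_erase.mpr ⟨hij.symm, Finset.mem_univ j⟩) le_rfl
  refine ⟨fun i => X.basicOpen (f i), fun i => ⟨(hV i).basicOpen (f i), hf₁ i⟩, hdisj, ?_⟩
  exact IsAffineOpen.iSup_of_disjoint (fun i => (hV i).basicOpen (f i))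
    (fun i j hij => hdisj i j hij)

end Groth.Agent.S7385
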