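import Groth.Statements.S7389
import Groth.Agent.Lib.Helper37.PrimeAvoidOpen
import Mathlib.AlgebraicGeometry.Morphisms.Immersion

set_option autoImplicit false
universe u
open CategoryTheory AlgebraicGeometry
open Mor

namespace Groth.Agent.S7389

/-- Let `X` be a scheme admitting an immersion into an affine scheme. Then any finite set of points of
`X` is contained in an affine open of `X`. -/
theorem result {X Y : Scheme.{u}} [IsAffine Y] (ι : X ⟶ Y)
    [IsImmersion ι] (E : Set X) (hE : E.Finite) :
    ∃ U : X.Opens, IsAffineOpen U ∧ E ⊆ U := by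
  obtain ⟨f, hf₁, hf₂⟩ := Groth.Agent.Lib.Helper37.exists_basicOpen_le_of_finite_of_isAffineOpen
    (isAffineOpen_top Y) ι.coborderRange (ι '' E) (hE.image _) (fun _ _ => trivial)
    (by
      rintro _ ⟨x, _, rfl⟩
      exact subset_coborder ⟨x, rfl⟩)
  have hD : IsAffineOpen (Y.basicOpen f) := (isAffineOpen_top Y).basicOpen f
  have hcl : IsClosedImmersion (ι ∣_ Y.basicOpen f) := by
    apply IsClosedImmersion.of_isPreimmersion
    have hrange : Set.range (ι ∣_ Y.basicOpen f) =
        (Y.basicOpen f).ι ⁻¹' closure (Set.range ι) := by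
      ext x
      constructor
      · rintro ⟨w, rfl⟩
        apply subset_closure
        exact ⟨w.1, (morphismRestrict_base_coe ι (Y.basicOpen f) w).symm⟩
      · intro hx
        have hx' : x.1 ∈ coborder (Set.range ι) ∩ closure (Set.range ι) := ⟨hf₂ x.2, hx⟩
        rw [coborder_inter_closure] at hx'
        obtain ⟨w, hw⟩ := hx'
        have hwD : w ∈ ι ⁻¹ᵁ Y.basicOpen f := by
          show ι w ∈ Y.basicOpen f
          rw [hw]
          exact x.2
        refine ⟨⟨w, hwD⟩, Subtype.ext ?_⟩
        rw [morphismRestrict_base_coe]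
        exact hw
    rw [hrange]
    exact isClosed_closure.preimage (Y.basicOpen f).ι.continuous
  have : IsAffine (Y.basicOpen f : Scheme.{u}) := hD
  obtain ⟨haff, -⟩ := IsClosedImmersion.isAffine_surjective_of_isAffine (ι ∣_ Y.basicOpen f)
  exact ⟨ι ⁻¹ᵁ Y.basicOpen f, haff, fun x hx => hf₁ ⟨x, hx, rfl⟩⟩

end Groth.Agent.S7389
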