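import Groth.Statements.S7390
import Mathlib
import Groth.Agent.Lib.Helper11.GenLocus

set_option autoImplicit false
universe u
open CategoryTheory AlgebraicGeometry
open Mor

namespace Groth.Agent.S7390

section helpers

open AlgebraicGeometry CategoryTheory Limits TopologicalSpace
open Groth.Agent.Lib.Helper11.GenLocus

/-- if `W.ι` is affine and `V` is affine then `W ⊓ V` is affine. -/
theorem isAffineOpen_inf_of_isAffineHom_ι {X : Scheme.{u}} (W V : X.Opens) [IsAffineHom W.ι]
    (hV : IsAffineOpen V) : IsAffineOpen (W ⊓ V) := by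
  have h1 : IsAffineOpen (W.ι ⁻¹ᵁ V) := hV.preimage W.ι
  rw [← Scheme.Hom.isAffineOpen_iff_of_isOpenImmersion W.ι,
    W.ι.image_preimage_eq_opensRange_inf, W.opensRange_ι] at h1
  exact h1

theorem main_S7390 (X : Scheme.{u})
    (h : ∀ x : X, ∃ (L : X.Modules) (s : Coh.structureModule X ⟶ L), PicF.IsInvertible L ∧
      x ∈ CohB1.genLocus L s ∧ IsAffineOpen (CohB1.genLocus L s)) :
    IsAffineHom (Limits.pullback.diagonal (Limits.terminal.from X)) := by
  have key : ∀ V : X.Opens, IsAffineOpen V → IsAffineHom V.ι := by
    intro V hV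
    apply isAffineHom_of_forall_exists_isAffineOpen
    intro x
    obtain ⟨L, s, hL, hx, ha⟩ := h x
    refine ⟨CohB1.genLocus L s, hx, ha, ?_⟩
    have := isAffineHom_genLocus_ι hL s
    have h1 := isAffineOpen_inf_of_isAffineHom_ι (CohB1.genLocus L s) V hV
    rw [← Scheme.Hom.isAffineOpen_iff_of_isOpenImmersion V.ι,
      V.ι.image_preimage_eq_opensRange_inf, V.opensRange_ι, inf_comm]
    exact h1
  rw [isAffineHom_diagonal_iff]
  intro U hU V₁ _ V₂ _ h1 h2
  have := key V₁ h1
  exact isAffineOpen_inf_of_isAffineHom_ι V₁ V₂ h2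


end helpers

/-- Let `X` be a scheme such that every point lies in some affine open `X_s`, the locus where a global
section `s` generates an invertible `O_X`-module `L` (both depending on the point). Then the
diagonal of `X` is an affine morphism. -/
theorem result (X : Scheme.{u})
    (h : ∀ x : X, ∃ (L : X.Modules) (s : Coh.structureModule X ⟶ L), PicF.IsInvertible L ∧
      x ∈ CohB1.genLocus L s ∧ IsAffineOpen (CohB1.genLocus L s)) :
    IsAffineHom (Limits.pullback.diagonal (Limits.terminal.from X)) := by
  exact main_S7390 X h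

end Groth.Agent.S7390
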