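import Groth.Statements.S7391
import Mathlib
import Groth.Agent.Lib.Helper7.SqZero.PiProjective
import Groth.Agent.Lib.Helper45.FiniteType

set_option autoImplicit false
universe u
open CategoryTheory AlgebraicGeometry
open Opposite
open Mor

namespace Groth.Agent.S7391
set_option linter.style.haveILetI false


/-- Let `F` be a quasi-coherent `O_X`-module on a scheme `X`. Then `F(U)` is a projective
`O_X(U)`-module for every affine open `U` (that is, `F` is locally projective) if and only if `X`
has a covering by affine opens `U_i` with `F(U_i)` projective over `O_X(U_i)`. -/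
theorem result (X : Scheme.{u}) (F : X.Modules) [Coh.IsQCoh F] :
    (∀ U : X.Opens, IsAffineOpen U → Module.Projective (X.ringCatSheaf.obj.obj (op U)) (F.val.obj (op U))) ↔
      ∃ (I : Type u) (U : I → X.Opens), (⨆ i, U i) = ⊤ ∧ ∀ i, IsAffineOpen (U i) ∧
        Module.Projective (X.ringCatSheaf.obj.obj (op (U i))) (F.val.obj (op (U i))) := by
  haveI hFq : F.IsQuasicoherent := ‹Coh.IsQCoh F›
  constructor
  · intro h
    refine ⟨X.affineOpens, fun U => U.1, ?_, fun U => ⟨U.2, h U.1 U.2⟩⟩
    exact iSup_affineOpens_eq_top X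
  · rintro ⟨I, V, hVtop, hV⟩ U hU
    -- local charts
    have hcov : ∀ x : U, ∃ g : Γ(X, U), x.1 ∈ X.basicOpen g ∧
        Module.Projective Γ(X, X.basicOpen g) Γ(F, X.basicOpen g) := by
      intro x
      have hx : x.1 ∈ (⨆ i, V i) := by rw [hVtop]; trivial
      obtain ⟨i, hxi⟩ := TopologicalSpace.Opens.mem_iSup.mp hx
      obtain ⟨g, g', e, hxg⟩ := exists_basicOpen_le_affine_inter hU (hV i).1 x.1 ⟨x.2, hxi⟩
      refine ⟨g, hxg, ?_⟩
      rw [e]
      -- localization of a projective module
      haveI : Module.Projective Γ(X, V i) Γ(F, V i) := (hV i).2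
      letI := Groth.Agent.Lib.Helper45.sectionsBasicOpenModule F g'
      have hloc := Groth.Agent.Lib.Helper45.isLocalizedModule_restrictBasicOpenₗ (hV i).1 F g'
      haveI : IsLocalization.Away g' Γ(X, X.basicOpen g') := (hV i).1.isLocalization_basicOpen g'
      have hbc : IsBaseChange Γ(X, X.basicOpen g')
          (Groth.Agent.Lib.Helper45.restrictBasicOpenₗ F g') :=
        IsLocalizedModule.isBaseChange (.powers g') _ _
      exact Module.Projective.of_equiv hbc.equiv
    choose g hxg hproj using hcov
    have hspan : Ideal.span (Set.range g) = ⊤ := by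
      rw [← hU.iSup_basicOpen_eq_self_iff]
      apply le_antisymm
      · exact iSup_le fun a => X.basicOpen_le _
      · intro x hx
        exact TopologicalSpace.Opens.mem_iSup.mpr ⟨⟨g ⟨x, hx⟩, ⟨⟨x, hx⟩, rfl⟩⟩, hxg ⟨x, hx⟩⟩
    obtain ⟨s', hs'sub, hs'span⟩ := (Ideal.span_eq_top_iff_finite _).mp hspan
    have hchart : ∀ a : s', ∃ x : U, g x = a.1 := fun a => hs'sub a.2
    choose xa hxa using hchart
    change Module.Projective Γ(X, U) Γ(F, U)
    haveI : ∀ a : s', IsLocalization.Away a.1 Γ(X, X.basicOpen a.1) :=
      fun a => hU.isLocalization_basicOpen a.1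
    refine Groth.Agent.Lib.Helper7.PiProjective.projective_of_span_away Γ(X, U)
      (ι := s') (fun a => a.1) (fun a => Γ(X, X.basicOpen a.1)) Γ(F, U) ?_ ?_
    · have : Set.range (fun a : s' => a.1) = (s' : Set Γ(X, U)) := Subtype.range_coe
      rw [this]
      exact hs'span
    · intro a
      have hp : Module.Projective Γ(X, X.basicOpen a.1) Γ(F, X.basicOpen a.1) := by
        rw [← hxa a]; exact hproj (xa a)
      letI := Groth.Agent.Lib.Helper45.sectionsBasicOpenModule F a.1
      have hloc := Groth.Agent.Lib.Helper45.isLocalizedModule_restrictBasicOpenₗ hU F a.1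
      have hbc : IsBaseChange Γ(X, X.basicOpen a.1)
          (Groth.Agent.Lib.Helper45.restrictBasicOpenₗ F a.1) :=
        IsLocalizedModule.isBaseChange (.powers a.1) _ _
      exact Module.Projective.of_equiv hbc.equiv.symm

end Groth.Agent.S7391
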