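import Groth.Statements.S7392
import Groth.Agent.Lib.Helper49.PullbackSections

set_option autoImplicit false
universe u
open CategoryTheory AlgebraicGeometry
open Opposite
open Mor

namespace Groth.Agent.S7392
open Groth.Agent.Lib.Helper49

/-- The ring isomorphism `A ≃ Γ(Spec A, ⊤)`. -/
noncomputable def σ (A : CommRingCat.{u}) : A ≃+* Γ(Spec A, ⊤) :=
  (Scheme.ΓSpecIso A).symm.commRingCatIsoToRingEquiv

theorem projective_top_iff (A : CommRingCat.{u}) (M : ModuleCat.{u} A) :
    Module.Projective Γ(Spec A, ⊤) Γ(tilde M, ⊤) ↔ Module.Projective A M := by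
  have := RingHomInvPair.of_ringEquiv (σ A)
  have := RingHomInvPair.of_ringEquiv_symm (σ A)
  let e : M ≃ₛₗ[((σ A : A ≃+* Γ(Spec A, ⊤)) : A →+* Γ(Spec A, ⊤))] Γ(tilde M, ⊤) :=
    { (tilde.isoTop M).toLinearEquiv.toAddEquiv with
      map_smul' := by
        intro r m
        have h1 := (tilde.isoTop M).toLinearEquiv.map_smul r m
        refine h1.trans ?_
        have h3 : ∀ x : Γ(tilde M, ⊤), r • x =
            (((Spec A).presheaf.map (⊤ : (Spec A).Opens).leTop.op) ((Scheme.ΓSpecIso A).inv r)) • x :=
          fun x => Scheme.Modules.smul_Spec_def r x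
        have h4 : ((Spec A).presheaf.map (⊤ : (Spec A).Opens).leTop.op) ((Scheme.ΓSpecIso A).inv r)
            = (σ A) r := by
          have : ((⊤ : (Spec A).Opens).leTop.op) = 𝟙 _ := rfl
          rw [this, CategoryTheory.Functor.map_id]
          rfl
        have h5 := h3 ((tilde.isoTop M).toLinearEquiv m)
        rw [h4] at h5
        exact h5 }
  constructor
  · intro h
    exact Module.Projective.of_equiv e.symm
  · intro h
    exact Module.Projective.of_equiv e

/-- An isomorphism of `𝒪_X`-modules induces a linear equivalence on sections. -/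
noncomputable def sectionsEquivOfIso {X : Scheme.{u}} {F G : X.Modules} (e : F ≅ G) (U : X.Opens) :
    Γ(F, U) ≃ₗ[Γ(X, U)] Γ(G, U) where
  toFun := e.hom.app U
  invFun := e.inv.app U
  map_add' x y := map_add _ x y
  map_smul' r x := Scheme.Modules.Hom.app_smul e.hom r x
  left_inv x := by
    have h : (e.hom ≫ e.inv).app U = 𝟙 _ := by rw [e.hom_inv_id]; rfl
    have h' := congr($(h) x)
    exact h'
  right_inv x := by
    have h : (e.inv ≫ e.hom).app U = 𝟙 _ := by rw [e.inv_hom_id]; rfl
    have h' := congr($(h) x)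
    exact h'


/-- For a ring `A` and an `A`-module `M`, the module `M~` on `Spec A` is locally projective (projective
sections over every affine open) if and only if `M` is a projective `A`-module. -/
theorem result (A : CommRingCat.{u}) (M : ModuleCat.{u} A) :
    (∀ U : (Spec A).Opens, IsAffineOpen U →
      Module.Projective ((Spec A).ringCatSheaf.obj.obj (op U)) ((tilde M).val.obj (op U))) ↔
      Module.Projective A M := by
  constructor
  · intro h
    exact (projective_top_iff A M).mp (h ⊤ (isAffineOpen_top _))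
  · intro h U hU
    have htop : Module.Projective Γ(Spec A, ⊤) Γ(tilde M, ⊤) := (projective_top_iff A M).mpr h
    have hWU : U ≤ (𝟙 (Spec A)) ⁻¹ᵁ ⊤ := le_top
    let e1 := pullbackSectionsEquiv (𝟙 (Spec A)) (isAffineOpen_top _) hU hWU (tilde M)
    let e2 := sectionsEquivOfIso ((Scheme.Modules.pullbackId (Spec A)).app (tilde M)) U
    let _ := ((𝟙 (Spec A) : Spec A ⟶ Spec A).appLE ⊤ U hWU).hom.toAlgebra
    have h3 : Module.Projective Γ(Spec A, U) (TensorProduct Γ(Spec A, ⊤) Γ(Spec A, U) Γ(tilde M, ⊤)) :=
      inferInstance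
    have h4 : Module.Projective Γ(Spec A, U) Γ(tilde M, U) :=
      Module.Projective.of_equiv' (e1.symm.trans e2)
    exact h4

end Groth.Agent.S7392
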