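import Groth.Statements.S7393
import Groth.Agent.H8.ClosedPt
import Groth.Agent.H8.GRingMax
import Groth.Agent.H8.GRingLocal
import Groth.Agent.H8.ExcellentDVR
import Groth.Agent.Lib.Helper50.StalkSpecializes

set_option autoImplicit false
universe u
open CategoryTheory AlgebraicGeometry
open Mor

namespace Groth.Agent.S7393

/-- A scheme `X` is a G-scheme (every point has an affine open neighbourhood whose coordinate ring is a
G-ring) if and only if `X` is locally Noetherian and, for every closed point `x`, the completion map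
of the local ring `O_{X,x} → O_{X,x}^∧` is a regular ring map. -/
theorem result (X : Scheme.{u}) :
    (∀ x : X, ∃ U : X.Opens, x ∈ U ∧ IsAffineOpen U ∧ CAlg.IsGRing Γ(X, U)) ↔
      IsLocallyNoetherian X ∧ ∀ x : X, IsClosed ({x} : Set X) →
        CAlg.IsRegularHom (X.presheaf.stalk x)
          (AdicCompletion (IsLocalRing.maximalIdeal (X.presheaf.stalk x)) (X.presheaf.stalk x)) := by
  constructor
  · intro h
    choose U hxU hU hG using h
    have hLN : IsLocallyNoetherian X := by
      refine isLocallyNoetherian_of_affine_cover (S := fun x : X => (⟨U x, hU x⟩ : X.affineOpens))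
        ?_ (fun x => (hG x).1)
      rw [eq_top_iff]
      intro x _
      exact TopologicalSpace.Opens.mem_iSup.mpr ⟨x, hxU x⟩
    refine ⟨hLN, fun x _ => ?_⟩
    haveI := hLN
    letI := TopCat.Presheaf.algebra_section_stalk X.presheaf ⟨x, hxU x⟩
    haveI hloc : IsLocalization.AtPrime (X.presheaf.stalk x)
        ((hU x).primeIdealOf ⟨x, hxU x⟩).asIdeal := (hU x).isLocalization_stalk ⟨x, hxU x⟩
    haveI := (hG x).1
    haveI : IsNoetherianRing (Localization.AtPrime ((hU x).primeIdealOf ⟨x, hxU x⟩).asIdeal) :=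
      IsLocalization.isNoetherianRing ((hU x).primeIdealOf ⟨x, hxU x⟩).asIdeal.primeCompl _
        inferInstance
    let e := IsLocalization.algEquiv ((hU x).primeIdealOf ⟨x, hxU x⟩).asIdeal.primeCompl
      (X.presheaf.stalk x) (Localization.AtPrime ((hU x).primeIdealOf ⟨x, hxU x⟩).asIdeal)
    exact Groth.Agent.H8.GRing.isRegularHom_cpl_of_ringEquiv e.toRingEquiv
      ((hG x).2 ((hU x).primeIdealOf ⟨x, hxU x⟩).asIdeal)
  · rintro ⟨hLN, h⟩ x
    haveI := hLN
    obtain ⟨_, ⟨U, hU, rfl⟩, hxU, -⟩ :=
      X.isBasis_affineOpens.exists_subset_of_mem_open (Set.mem_univ x) isOpen_univ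
    refine ⟨U, hxU, hU, ?_⟩
    haveI hN : IsNoetherianRing Γ(X, U) := IsLocallyNoetherian.component_noetherian ⟨U, hU⟩
    refine ⟨hN, fun p hp => ?_⟩
    let y : X := hU.fromSpec ⟨p, hp⟩
    have hyU : y ∈ U := by
      have : y ∈ Set.range hU.fromSpec := ⟨⟨p, hp⟩, rfl⟩
      rw [hU.range_fromSpec] at this
      exact this
    letI := TopCat.Presheaf.algebra_section_stalk X.presheaf ⟨y, hyU⟩
    haveI hloc : IsLocalization.AtPrime (X.presheaf.stalk y) p :=
      hU.isLocalization_stalk' ⟨p, hp⟩ hyU
    obtain ⟨z, hz, hyz⟩ := Groth.Agent.H8.ClosedPt.exists_isClosed_specializes X y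
    have hGz : CAlg.IsGRing (X.presheaf.stalk z) :=
      Groth.Agent.H8.GRingMax.isGRing_of_isRegularHom_cpl (X.presheaf.stalk z) (h z hz)
    letI := (X.presheaf.stalkSpecializes hyz).hom.toAlgebra
    obtain ⟨M, hM⟩ := Groth.Agent.Lib.Helper50.exists_isLocalization_stalkSpecializes hyz
    have hGy : CAlg.IsGRing (X.presheaf.stalk y) :=
      Groth.Agent.H8.GRing.isGRing_of_isLocalization (X.presheaf.stalk z) hGz M
        (X.presheaf.stalk y)
    have hry := Groth.Agent.H8.GRing.isRegularHom_cpl_of_atPrime_maximalIdeal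
      (X.presheaf.stalk y) (hGy.2 (IsLocalRing.maximalIdeal (X.presheaf.stalk y)))
    haveI : IsNoetherianRing (Localization.AtPrime p) :=
      IsLocalization.isNoetherianRing p.primeCompl _ inferInstance
    let e := IsLocalization.algEquiv p.primeCompl (Localization.AtPrime p) (X.presheaf.stalk y)
    exact Groth.Agent.H8.GRing.isRegularHom_cpl_of_ringEquiv e.toRingEquiv hry

end Groth.Agent.S7393
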