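import Groth.Statements.S7396
import Groth.Agent.Lib.Helper18.FiniteFP

set_option autoImplicit false
universe u
open CategoryTheory AlgebraicGeometry
open Lim

namespace Groth.Agent.S7396

/-- Let `f : X → S` be finite with `S` quasi-compact and quasi-separated. Then there are a morphism `f'
: X' → S` which is finite and of finite presentation and a closed immersion `X → X'` over `S`. -/
theorem result {X S : Scheme.{u}} (f : X ⟶ S) [IsFinite f]
    [CompactSpace S] [QuasiSeparatedSpace S] :
    ∃ (X' : Scheme.{u}) (f' : X' ⟶ S) (j : X ⟶ X'), IsFinite f' ∧ LocallyOfFinitePresentation f' ∧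
      IsClosedImmersion j ∧ j ≫ f' = f := by
  obtain ⟨W, p, c, K₀, hp, hlfp, hc, hcf, hWc, hWq, hK₀, hK₀fg, hfin⟩ :=
    Groth.Agent.Lib.Helper18.SymQC.exists_embedding_finite f
  have h1 : LocallyOfFinitePresentation K₀.subschemeι :=
    Groth.Agent.Lib.Helper49.PrinPartFP.locallyOfFinitePresentation_subschemeι K₀ hK₀fg
  let j : X ⟶ K₀.subscheme := c.toImage ≫ Scheme.IdealSheafData.inclusion hK₀
  have hj : j ≫ K₀.subschemeι = c := by
    rw [Category.assoc, Scheme.IdealSheafData.inclusion_subschemeι]
    exact c.toImage_imageι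
  have hjc : IsClosedImmersion (j ≫ K₀.subschemeι) := hj ▸ hc
  refine ⟨K₀.subscheme, K₀.subschemeι ≫ p, j, hfin K₀ le_rfl, inferInstance,
    IsClosedImmersion.of_comp j K₀.subschemeι, ?_⟩
  rw [← Category.assoc, hj, hcf]

end Groth.Agent.S7396
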