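import Groth.Statements.S7397
import Mathlib.Tactic

set_option autoImplicit false
universe u
open Mor

namespace Groth.Agent.S7397

/-- Let `A ⊆ B` be a ring extension and `b ∈ B`, `b ∉ A`, with `b^n, b^(n+1) ∈ A` for some `n ≥ 2`. Then
some `b' ∈ B` with `b' ∉ A` has `b'^2 ∈ A` and `b'^3 ∈ A`. -/
theorem result {B : Type u} [CommRing B] (A : Subring B) (b : B) (hb : b ∉ A)
    (n : ℕ) (hn : 2 ≤ n) (h1 : b ^ n ∈ A) (h2 : b ^ (n + 1) ∈ A) :
    ∃ b' : B, b' ∉ A ∧ b' ^ 2 ∈ A ∧ b' ^ 3 ∈ A := by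
  classical
  -- all sufficiently large powers of `b` lie in `A`
  have hlarge : ∀ k, n * n ≤ k → b ^ k ∈ A := by
    intro k hk
    have hn0 : 0 < n := by omega
    have hq : n ≤ k / n := (Nat.le_div_iff_mul_le hn0).mpr hk
    have hr : k % n < n := Nat.mod_lt k hn0
    have hk' : k = (k / n - k % n) * n + (k % n) * (n + 1) := by
      have h := Nat.div_add_mod k n
      have h3 : (k / n - k % n) * n + (k % n) * n = (k / n) * n := by
        rw [← Nat.add_mul, Nat.sub_add_cancel (by omega)]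
      nlinarith [Nat.mul_comm n (k / n)]
    rw [hk', pow_add, pow_mul', pow_mul']
    exact A.mul_mem (A.pow_mem h1 _) (A.pow_mem h2 _)
  have hex : ∃ m, ∀ k, m ≤ k → b ^ k ∈ A := ⟨n * n, hlarge⟩
  set m := Nat.find hex with hm
  have hmP : ∀ k, m ≤ k → b ^ k ∈ A := Nat.find_spec hex
  have hm2 : 2 ≤ m := by
    by_contra hlt
    exact hb (by simpa using hmP 1 (by omega))
  have hmin : ¬ ∀ k, m - 1 ≤ k → b ^ k ∈ A := Nat.find_min hex (by omega)
  refine ⟨b ^ (m - 1), ?_, ?_, ?_⟩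
  · intro hmem
    apply hmin
    intro k hk
    rcases Nat.eq_or_lt_of_le hk with rfl | hlt
    · exact hmem
    · exact hmP k (by omega)
  · rw [← pow_mul]
    exact hmP _ (by omega)
  · rw [← pow_mul]
    exact hmP _ (by omega)

end Groth.Agent.S7397
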