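import Groth.Statements.S7412
import Mathlib.Algebra.Module.CharacterModule

set_option autoImplicit false
universe u
open Desc

namespace Groth.Agent.S7412

/-- Let `R` be a ring and `f : M → N` a map of `R`-modules. Then `f` is universally injective (`f ⊗ 1_P`
is injective for every `R`-module `P`; here `P` ranges over modules in the same universe, which
suffices) if and only if the map of character modules `C(N) → C(M)`, `C(-) = Hom_ℤ(-, ℚ/ℤ)`, is a
split surjection of `R`-modules. -/
theorem result {R : Type u} [CommRing R] {M N : Type u}
    [AddCommGroup M] [Module R M] [AddCommGroup N] [Module R N] (f : M →ₗ[R] N) :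
    (∀ (P : Type u) [AddCommGroup P] [Module R P], Function.Injective (f.lTensor P)) ↔
      ∃ g : CharacterModule M →ₗ[R] CharacterModule N, (CharacterModule.dual f).comp g = LinearMap.id := by
  constructor
  · intro h
    have hinj := h (CharacterModule M)
    have hsurj : Function.Surjective (CharacterModule.dual (f.lTensor (CharacterModule M))) :=
      CharacterModule.dual_surjective_of_injective _ hinj
    obtain ⟨c', hc'⟩ := hsurj (CharacterModule.uncurry (LinearMap.id : CharacterModule M →ₗ[R] CharacterModule M))
    refine ⟨CharacterModule.curry c', ?_⟩
    apply LinearMap.ext
    intro φ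
    apply CharacterModule.ext
    intro m
    have h1 : (CharacterModule.dual (f.lTensor (CharacterModule M)) c') (φ ⊗ₜ[R] m) =
        (CharacterModule.uncurry (LinearMap.id : CharacterModule M →ₗ[R] CharacterModule M))
          (φ ⊗ₜ[R] m) := by rw [hc']
    exact h1
  · rintro ⟨g, hg⟩ P _ _
    rw [← CharacterModule.dual_surjective_iff_injective]
    intro c
    refine ⟨CharacterModule.uncurry (g ∘ₗ CharacterModule.curry c), ?_⟩
    apply CharacterModule.ext
    intro z
    induction z using TensorProduct.induction_on with
    | zero => simp
    | tmul p m =>
      have h2 : (CharacterModule.dual f) (g (CharacterModule.curry c p)) = CharacterModule.curry c p := by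
        have := congrArg (fun l : CharacterModule M →ₗ[R] CharacterModule M => l (CharacterModule.curry c p)) hg
        simpa using this
      have h3 : ((CharacterModule.dual f) (g (CharacterModule.curry c p))) m =
          (CharacterModule.curry c p) m := by rw [h2]
      exact h3
    | add a b ha hb => simp only [map_add, ha, hb]

end Groth.Agent.S7412
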