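import Groth.Statements.S7413
import Mathlib
import Groth.Agent.Lib.Helper16.FlatPull.Chart
import Groth.Agent.Lib.Helper7.SqZero.PiProjective
import Groth.Agent.Lib.Helper49.UnitChart
import Groth.Agent.Lib.Helper45.FiniteType

set_option autoImplicit false
universe u
open CategoryTheory AlgebraicGeometry
open Opposite
open Mor

namespace Groth.Agent.S7413
set_option linter.style.haveILetI false


/-- Let `f : X → Y` be a morphism of schemes and `G` a quasi-coherent, locally projective `O_Y`-module
(projective sections over every affine open). Then `f^* G` is locally projective on `X`. -/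
theorem result {X Y : Scheme.{u}} (f : X ⟶ Y) (G : Y.Modules) [Coh.IsQCoh G]
    (hG : ∀ V : Y.Opens, IsAffineOpen V → Module.Projective (Y.ringCatSheaf.obj.obj (op V)) (G.val.obj (op V)))
    (U : X.Opens) (hU : IsAffineOpen U) :
    Module.Projective (X.ringCatSheaf.obj.obj (op U)) (((Scheme.Modules.pullback f).obj G).val.obj (op U)) := by
  haveI hGq : G.IsQuasicoherent := ‹Coh.IsQCoh G›
  haveI hPq : ((Scheme.Modules.pullback f).obj G).IsQuasicoherent :=
    Groth.Agent.Lib.Helper16.FlatPull.isQuasicoherent_pullback f G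
  -- local charts
  have hcov : ∀ x : U, ∃ g : Γ(X, U), x.1 ∈ X.basicOpen g ∧ ∃ V : Y.Opens, IsAffineOpen V ∧
      X.basicOpen g ≤ f ⁻¹ᵁ V := by
    intro x
    obtain ⟨V, hV, hxV, -⟩ := exists_isAffineOpen_mem_and_subset (x := f.base x.1) (U := ⊤) trivial
    obtain ⟨g, hgle, hxg⟩ := hU.exists_basicOpen_le (V := f ⁻¹ᵁ V) ⟨x.1, hxV⟩ x.2
    exact ⟨g, hxg, V, hV, hgle⟩
  choose g hxg V hV hgV using hcov
  have hspan : Ideal.span (Set.range g) = ⊤ := by
    rw [← hU.iSup_basicOpen_eq_self_iff]
    apply le_antisymm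
    · exact iSup_le fun a => X.basicOpen_le _
    · intro x hx
      exact TopologicalSpace.Opens.mem_iSup.mpr ⟨⟨g ⟨x, hx⟩, ⟨⟨x, hx⟩, rfl⟩⟩, hxg ⟨x, hx⟩⟩
  obtain ⟨s', hs'sub, hs'span⟩ := (Ideal.span_eq_top_iff_finite _).mp hspan
  have hchart : ∀ a : s', ∃ x : U, g x = a.1 := fun a => hs'sub a.2
  choose xa hxa using hchart
  -- apply the local criterion
  change Module.Projective Γ(X, U) Γ((Scheme.Modules.pullback f).obj G, U)
  haveI : ∀ a : s', IsLocalization.Away a.1 Γ(X, X.basicOpen a.1) :=
    fun a => hU.isLocalization_basicOpen a.1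
  refine Groth.Agent.Lib.Helper7.PiProjective.projective_of_span_away Γ(X, U)
    (ι := s') (fun a => a.1) (fun a => Γ(X, X.basicOpen a.1))
    Γ((Scheme.Modules.pullback f).obj G, U) ?_ ?_
  · have : Set.range (fun a : s' => a.1) = (s' : Set Γ(X, U)) := Subtype.range_coe
    rw [this]
    exact hs'span
  · intro a
    have hW : IsAffineOpen (X.basicOpen a.1) := hU.basicOpen a.1
    have hWV : X.basicOpen a.1 ≤ f ⁻¹ᵁ V (xa a) := by
      rw [← hxa a]; exact hgV (xa a)
    have hproj : Module.Projective Γ(X, X.basicOpen a.1)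
        Γ((Scheme.Modules.pullback f).obj G, X.basicOpen a.1) := by
      have key := Groth.Agent.Lib.Helper49.UnitChart.exists_isBaseChange_pullSLE f
        (hV (xa a)) hW hWV G
      letI := (f.appLE (V (xa a)) (X.basicOpen a.1) hWV).hom.toAlgebra
      letI : Module Γ(Y, V (xa a)) Γ((Scheme.Modules.pullback f).obj G, X.basicOpen a.1) :=
        Module.compHom _ (f.appLE (V (xa a)) (X.basicOpen a.1) hWV).hom
      haveI : IsScalarTower Γ(Y, V (xa a)) Γ(X, X.basicOpen a.1)
          Γ((Scheme.Modules.pullback f).obj G, X.basicOpen a.1) := IsScalarTower.of_compHom _ _ _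
      obtain ⟨φ, -, hφ⟩ := key
      haveI : Module.Projective Γ(Y, V (xa a)) Γ(G, V (xa a)) := hG _ (hV (xa a))
      exact Module.Projective.of_equiv hφ.equiv
    letI := Groth.Agent.Lib.Helper45.sectionsBasicOpenModule
      ((Scheme.Modules.pullback f).obj G) a.1
    have hloc := Groth.Agent.Lib.Helper45.isLocalizedModule_restrictBasicOpenₗ hU
      ((Scheme.Modules.pullback f).obj G) a.1
    have hbc : IsBaseChange Γ(X, X.basicOpen a.1)
        (Groth.Agent.Lib.Helper45.restrictBasicOpenₗ ((Scheme.Modules.pullback f).obj G) a.1) :=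
      IsLocalizedModule.isBaseChange (.powers a.1) _ _
    exact Module.Projective.of_equiv hbc.equiv.symm

end Groth.Agent.S7413
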