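import Groth.Statements.S7414
import Groth.Agent.H8.GRingLocal

set_option autoImplicit false
universe u
open CategoryTheory AlgebraicGeometry
open Mor

namespace Groth.Agent.S7414

/-- A scheme `X` is a G-scheme (every point has an affine open neighbourhood with G-ring coordinate
ring) if and only if `O_X(U)` is a G-ring for every affine open `U ⊆ X`. -/
theorem result (X : Scheme.{u}) :
    (∀ x : X, ∃ U : X.Opens, x ∈ U ∧ IsAffineOpen U ∧ CAlg.IsGRing Γ(X, U)) ↔
      ∀ U : X.Opens, IsAffineOpen U → CAlg.IsGRing Γ(X, U) := by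
  constructor
  · intro h U hU
    choose W hxW hWaff hWG using h
    refine of_affine_open_cover (X := X) (P := fun V => CAlg.IsGRing Γ(X, V.1))
      (fun x : X => (⟨W x, hWaff x⟩ : X.affineOpens)) ?_ ⟨U, hU⟩ ?_ ?_ (fun x => hWG x)
    · rw [eq_top_iff]
      intro x _
      exact TopologicalSpace.Opens.mem_iSup.mpr ⟨x, hxW x⟩
    · intro V f hV
      haveI := V.2.isLocalization_basicOpen f
      exact Groth.Agent.H8.GRing.isGRing_of_isLocalization Γ(X, V.1) hV (Submonoid.powers f)
        Γ(X, X.basicOpen f)
    · intro V s hs hV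
      refine Groth.Agent.H8.GRing.isGRing_of_span_eq_top s hs (fun f => ?_)
      haveI := V.2.isLocalization_basicOpen f.1
      exact Groth.Agent.H8.GRing.isGRing_of_ringEquiv
        (IsLocalization.algEquiv (Submonoid.powers f.1) Γ(X, X.basicOpen f.1)
          (Localization.Away f.1)).toRingEquiv (hV f)
  · intro h x
    obtain ⟨_, ⟨U, hU, rfl⟩, hxU, -⟩ := X.isBasis_affineOpens.exists_subset_of_mem_open
      (Set.mem_univ x) isOpen_univ
    exact ⟨U, hxU, hU, h U hU⟩

end Groth.Agent.S7414
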