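import Groth.Statements.S7415
import Mathlib.AlgebraicGeometry.SpreadingOut
import Mathlib.AlgebraicGeometry.Properties

set_option autoImplicit false
universe u
open CategoryTheory AlgebraicGeometry
open Mor

namespace Groth.Agent.S7415

/-- Let `X` be a reduced scheme with finitely many irreducible components and `x ∈ X`. Then `x` has an
affine open neighbourhood `U` such that `O_X(U) → O_{X,x}` is injective. -/
theorem result (X : Scheme.{u}) [AlgebraicGeometry.IsReduced X]
    (hirr : (irreducibleComponents (X : Type u)).Finite) (x : X) : X.IsGermInjectiveAt x := by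
  classical
  -- an affine open neighbourhood of `x`
  obtain ⟨(V : X.Opens), hV, hxV, -⟩ := TopologicalSpace.Opens.isBasis_iff_nbhd.mp
    X.isBasis_affineOpens (TopologicalSpace.Opens.mem_top x)
  -- the union of the irreducible components not containing `x`
  let S : Set (Set X) := {Z | Z ∈ irreducibleComponents (X : Type u) ∧ x ∉ Z}
  have hSfin : S.Finite := hirr.subset (fun Z hZ => hZ.1)
  have hSclosed : IsClosed (⋃₀ S) := by
    rw [Set.sUnion_eq_biUnion]
    exact hSfin.isClosed_biUnion (fun Z hZ => isClosed_of_mem_irreducibleComponents Z hZ.1)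
  have hxS : x ∉ ⋃₀ S := by
    rintro ⟨Z, hZ, hxZ⟩
    exact hZ.2 hxZ
  let W : X.Opens := ⟨(⋃₀ S)ᶜ, hSclosed.isOpen_compl⟩
  have hxW : x ∈ W := hxS
  obtain ⟨f, hfle, hxf⟩ := hV.exists_basicOpen_le (V := V ⊓ W) ⟨x, ⟨hxV, hxW⟩⟩ hxV
  refine ⟨⟨X.basicOpen f, hxf, hV.basicOpen f, ?_⟩⟩
  rw [injective_iff_map_eq_zero]
  intro t ht
  have ht' : X.presheaf.germ (X.basicOpen f) x hxf t =
      X.presheaf.germ (X.basicOpen f) x hxf 0 := by rw [ht, map_zero]
  obtain ⟨N, hxN, iU, iV, e⟩ := X.presheaf.germ_eq x hxf hxf t 0 ht'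
  rw [map_zero] at e
  rw [← basicOpen_eq_bot_iff, eq_bot_iff]
  intro y hy
  exfalso
  have hyU : y ∈ X.basicOpen f := X.basicOpen_le t hy
  -- an irreducible component through `y` contains `x`
  have hZ : irreducibleComponent y ∈ irreducibleComponents (X : Type u) :=
    irreducibleComponent_mem_irreducibleComponents y
  have hxZ : x ∈ irreducibleComponent y := by
    by_contra hx
    have : y ∈ ⋃₀ S := ⟨irreducibleComponent y, ⟨hZ, hx⟩, mem_irreducibleComponent⟩
    exact (hfle hyU).2 this
  have hirrZ : IsPreirreducible (irreducibleComponent y) := hZ.1.isPreirreducible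
  obtain ⟨z, hzZ, hzt, hzN⟩ := hirrZ (X.basicOpen t : Set X) (N : Set X) (X.basicOpen t).2 N.2
    ⟨y, mem_irreducibleComponent, hy⟩ ⟨x, hxZ, hxN⟩
  have h0 : X.basicOpen (X.presheaf.map iU.op t) = ⊥ := by
    rw [e]
    exact Scheme.basicOpen_zero X N
  rw [Scheme.basicOpen_res] at h0
  have : z ∈ (N ⊓ X.basicOpen t : X.Opens) := ⟨hzN, hzt⟩
  rw [h0] at this
  exact this

end Groth.Agent.S7415
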