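import Groth.Statements.S7416
-- import your own Groth.Agent.* helpers here

set_option autoImplicit false
universe u
open CategoryTheory AlgebraicGeometry
open Mor

namespace Groth.Agent.S7416

/-- Let `U`, `V` be affine schemes and `W → U`, `W → V` open immersions. Then every `w ∈ W` has an open
neighbourhood `W' ⊆ W` whose images in `U` and in `V` are standard opens `D(f) ⊆ U`, `D(g) ⊆ V` (in
particular `W'` is affine). -/
theorem result {U V W : Scheme.{u}} [IsAffine U]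
    [IsAffine V] (i : W ⟶ U) (j : W ⟶ V) [IsOpenImmersion i] [IsOpenImmersion j] (w : W) :
    ∃ (W' : W.Opens) (f : Γ(U, ⊤)) (g : Γ(V, ⊤)), w ∈ W' ∧ i ''ᵁ W' = U.basicOpen f ∧ j ''ᵁ W' = V.basicOpen g := by
  obtain ⟨f, hf₁, hf₂⟩ := (isAffineOpen_top U).exists_basicOpen_le (V := i.opensRange)
    ⟨i w, ⟨w, rfl⟩⟩ trivial
  have hOw : w ∈ i ⁻¹ᵁ U.basicOpen f := hf₂
  obtain ⟨g, hg₁, hg₂⟩ := (isAffineOpen_top V).exists_basicOpen_le
    (V := j ''ᵁ (i ⁻¹ᵁ U.basicOpen f)) ⟨j w, ⟨w, hOw, rfl⟩⟩ trivial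
  have hjW' : j ''ᵁ (j ⁻¹ᵁ V.basicOpen g) = V.basicOpen g := by
    rw [Scheme.Hom.image_preimage_eq_opensRange_inf, inf_eq_right]
    exact hg₁.trans (j.image_le_opensRange _)
  have hle : j ⁻¹ᵁ V.basicOpen g ≤ i ⁻¹ᵁ U.basicOpen f := by
    rw [← j.image_le_image_iff, hjW']
    exact hg₁
  have hiO : i ''ᵁ (i ⁻¹ᵁ U.basicOpen f) = U.basicOpen f := by
    rw [Scheme.Hom.image_preimage_eq_opensRange_inf, inf_eq_right]
    exact hf₁
  -- the key: `i ''ᵁ W'` is a basic open of the affine `U.basicOpen f`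
  have key : ∀ (D : U.Opens) (hD : D = U.basicOpen f) (b : Γ(U, D)),
      ∃ f' : Γ(U, ⊤), U.basicOpen f' = U.basicOpen b := by
    rintro D rfl b
    exact (isAffineOpen_top U).basicOpen_basicOpen_is_basicOpen f b
  have e : W.basicOpen (j.app ⊤ g) = j ⁻¹ᵁ V.basicOpen g := (Scheme.preimage_basicOpen j g).symm
  have hle' : i ⁻¹ᵁ U.basicOpen f ≤ j ⁻¹ᵁ ⊤ := le_top
  obtain ⟨f', hf'⟩ := key _ hiO
    ((i.appIso (i ⁻¹ᵁ U.basicOpen f)).inv
      (W.presheaf.map (homOfLE hle').op (j.app ⊤ g)))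
  refine ⟨j ⁻¹ᵁ V.basicOpen g, f', g, hg₂, ?_, hjW'⟩
  rw [hf', ← Scheme.image_basicOpen, Scheme.basicOpen_res, e, inf_eq_right.mpr hle]

end Groth.Agent.S7416
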