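import Groth.Statements.S7426
import Mathlib
import Groth.Agent.Lib.Helper70.AWNSchemeC

set_option autoImplicit false
universe u
open CategoryTheory AlgebraicGeometry
open HTop

namespace Groth.Agent.S7426

/-- For a scheme `X` the following are equivalent: `X` is absolutely weakly normal; `X^awn → X` is an
isomorphism (equivalently, the identity of `X` is an absolute weak normalization); every universal
homeomorphism `Y → X` with `Y` reduced is an isomorphism. -/
theorem result (X : Scheme.{u}) :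
    (HTop.IsAWN X ↔ HTop.IsAWNormalization (𝟙 X)) ∧
    (HTop.IsAWN X ↔ ∀ (Y : Scheme.{u}) (π : Y ⟶ X), FlatMor.IsUnivHomeo π → AlgebraicGeometry.IsReduced Y → IsIso π) := by
  obtain ⟨X₀, ν₀, hν₀, hX₀⟩ := Groth.Agent.Lib.Helper70.AWNScheme.exists_isAWNormalization_isAWN X
  have hX₀red : IsReduced X₀ := Groth.Agent.Lib.Helper70.AWNLift.isReduced_of_isAWN hX₀
  refine ⟨⟨fun hX => ?_, fun hid => ?_⟩, ⟨fun hX Y π hπ hY => ?_, fun hall => ?_⟩⟩
  · exact ⟨Groth.Agent.Lib.Helper2.IsUnivHomeo.id X, fun Y π hπ =>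
      Groth.Agent.Lib.Helper70.AWNLift.existsUnique_lift_of_isAWN π hπ hX (𝟙 X)⟩
  · exact Groth.Agent.Lib.Helper70.AWNScheme.isAWN_of_isAWNormalization (𝟙 X) hid
  · exact Groth.Agent.Lib.Helper70.AWNLift.isIso_of_isAWN π hπ hX
  · have hiso : IsIso ν₀ := hall X₀ ν₀ hν₀.1 hX₀red
    exact Groth.Agent.Lib.Helper70.AWNScheme.isAWN_of_isIso (inv ν₀) hX₀

end Groth.Agent.S7426
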