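import Groth.Statements.S7429
import Groth.Agent.Lib.Helper37.LargestOpen

set_option autoImplicit false
universe u
open CategoryTheory AlgebraicGeometry
open Desc

namespace Groth.Agent.S7429

/-- Suppose `P` is a property of scheme morphisms that is local on the source for the étale topology.
For every morphism `f : X → Y` there is a largest open `W(f) ⊆ X` such that `f|_{W(f)}` has `P`;
moreover for `g : X' → X` étale and `f' = f ∘ g` one has `W(f') = g⁻¹(W(f))`. -/
theorem result (P : MorphismProperty Scheme.{u})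
    [P.IsLocalAtSource Scheme.etalePrecoverage] {X Y : Scheme.{u}} (f : X ⟶ Y) :
    ∃ W : X.Opens, (P (W.ι ≫ f) ∧ ∀ W' : X.Opens, P (W'.ι ≫ f) → W' ≤ W) ∧
      ∀ (X' : Scheme.{u}) (g : X' ⟶ X) [Etale g] (V : X'.Opens),
        (P (V.ι ≫ g ≫ f) ∧ ∀ V' : X'.Opens, P (V'.ι ≫ g ≫ f) → V' ≤ V) → V = g ⁻¹ᵁ W := by
  have : P.IsLocalAtSource (Scheme.precoverage @Etale) :=
    ‹P.IsLocalAtSource Scheme.etalePrecoverage›
  have h := Groth.Agent.Lib.Helper37.exists_largest_open (Q := @Etale) (P := P)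
    (fun g _ => inferInstance) (fun g (hg : Etale g) => g.isOpenMap) f
  obtain ⟨W, hW, hW'⟩ := h
  exact ⟨W, hW, fun X' g hg V hV => hW' X' g hg V hV⟩

end Groth.Agent.S7429
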