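import Groth.Statements.S7431
import Mathlib.AlgebraicGeometry.Morphisms.OpenImmersion
import Mathlib.CategoryTheory.Limits.Types.Pullbacks

set_option autoImplicit false
universe u
open CategoryTheory AlgebraicGeometry
open Lim

namespace Groth.Agent.S7431


section Algebra

variable {B B' R R' : Type u} [CommRing B] [CommRing B'] [CommRing R] [CommRing R']
  (s : B →+* R) (t : R' →+* R) (p : B' →+* B) (q : B' →+* R')

include s t p q in
/-- Element-level description of a cartesian square of commutative rings. -/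
theorem pullback_elems
    (hsq : IsPullback (CommRingCat.ofHom p) (CommRingCat.ofHom q) (CommRingCat.ofHom s)
      (CommRingCat.ofHom t)) :
    (∀ x, s (p x) = t (q x)) ∧ (∀ x y, p x = p y → q x = q y → x = y) ∧
      (∀ b r', s b = t r' → ∃ x, p x = b ∧ q x = r') := by
  have h := hsq.map (forget CommRingCat)
  rw [Limits.Types.isPullback_iff] at h
  obtain ⟨h1, h2, h3⟩ := h
  refine ⟨fun x => ?_, fun x y hp hq => h2 x y ⟨hp, hq⟩, fun b r' hbr => h3 b r' hbr⟩
  exact congrArg (fun f => f.hom x) hsq.w

include s t p in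
/-- Localization commutes with the fibre product: if `B_g → R_{s g}` is bijective then so is
`B'_h → R'_{q h}` for `h = (g, f)`. -/
theorem awayMap_bijective_of_pullback
    (h1 : ∀ x, s (p x) = t (q x)) (h2 : ∀ x y, p x = p y → q x = q y → x = y)
    (h3 : ∀ b r', s b = t r' → ∃ x, p x = b ∧ q x = r')
    (g : B) (h : B') (hp : p h = g)
    (hiso : Function.Bijective (Localization.awayMap s g)) :
    Function.Bijective (Localization.awayMap q h) := by
  obtain ⟨hinj, hsurj⟩ := hiso
  rw [Localization.awayMap_injective_iff] at hinj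
  rw [Localization.awayMap_surjective_iff] at hsurj
  constructor
  · rw [Localization.awayMap_injective_iff]
    intro a ha
    have h0 : s (p a) = 0 := by rw [h1, ha, map_zero]
    obtain ⟨n, hn⟩ := hinj _ h0
    refine ⟨n, h2 _ _ ?_ ?_⟩
    · rw [map_mul, map_pow, hp, hn, map_zero]
    · rw [map_mul, ha, mul_zero, map_zero]
  · rw [Localization.awayMap_surjective_iff]
    intro r'
    obtain ⟨b, m, hb⟩ := hsurj (t r')
    have hsg : s g = t (q h) := by rw [← hp, h1]
    have : s b = t (q h ^ m * r') := by rw [hb, hsg, map_mul, map_pow]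
    obtain ⟨x, -, hx⟩ := h3 _ _ this
    exact ⟨x, m, hx⟩

end Algebra

/-- Let `B' = B ×_R R'` be a cartesian square of rings with maps `s : B → R`, `t : R' → R`, and let `W'
= D(f_1) ∪ … ∪ D(f_n) ⊆ Spec R'` with `t(f_i) = s(g_i)` for elements `g_i ∈ B` such that `B_{g_i} →
R_{s(g_i)}` is an isomorphism for each `i`. Then the composite `W' → Spec R' → Spec B'`, the second
map coming from `B' → R'`, is an open immersion. -/
theorem result {B B' R R' : Type u} [CommRing B] [CommRing B']
    [CommRing R] [CommRing R'] (s : B →+* R) (t : R' →+* R) (p : B' →+* B) (q : B' →+* R')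
    (hsq : IsPullback (CommRingCat.ofHom p) (CommRingCat.ofHom q) (CommRingCat.ofHom s) (CommRingCat.ofHom t))
    {n : ℕ} (f : Fin n → R') (g : Fin n → B) (hfg : ∀ i, t (f i) = s (g i))
    (hiso : ∀ i, Function.Bijective (Localization.awayMap s (g i))) :
    IsOpenImmersion (Scheme.Opens.ι (X := Spec (CommRingCat.of R')) (⨆ i, PrimeSpectrum.basicOpen (f i)) ≫
      Spec.map (CommRingCat.ofHom q)) := by
  obtain ⟨h1, h2, h3⟩ := pullback_elems s t p q hsq
  choose h hhp hhq using fun i => h3 (g i) (f i) (hfg i).symm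
  obtain rfl : f = fun i => q (h i) := funext fun i => (hhq i).symm
  have hbij : ∀ i, Function.Bijective (Localization.awayMap q (h i)) := fun i =>
    awayMap_bijective_of_pullback s t p q h1 h2 h3 (g i) (h i) (hhp i) (hiso i)
  set W' : (Spec (CommRingCat.of R')).Opens := ⨆ i, PrimeSpectrum.basicOpen (q (h i)) with hW'
  set F : (W' : Scheme.{u}) ⟶ Spec (CommRingCat.of B') := W'.ι ≫ Spec.map (CommRingCat.ofHom q)
    with hF
  -- the charts
  let α : ∀ i, CommRingCat.of R' ⟶ CommRingCat.of (Localization.Away (q (h i))) := fun i =>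
    CommRingCat.ofHom (algebraMap R' (Localization.Away (q (h i))))
  have hrange : ∀ i, Set.range ⇑(Spec.map (α i)) =
      (PrimeSpectrum.basicOpen (q (h i)) : Set (PrimeSpectrum R')) := fun i =>
    PrimeSpectrum.localization_away_comap_range _ _
  have hle : ∀ i, Set.range ⇑(Spec.map (α i)) ⊆ Set.range ⇑W'.ι := by
    intro i
    rw [hrange, Scheme.Opens.range_ι]
    exact (le_iSup (fun i => PrimeSpectrum.basicOpen (q (h i))) i : _)
  let ι : ∀ i, Spec (CommRingCat.of (Localization.Away (q (h i)))) ⟶ (W' : Scheme.{u}) := fun i =>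
    IsOpenImmersion.lift W'.ι (Spec.map (α i)) (hle i)
  have hι : ∀ i, ι i ≫ W'.ι = Spec.map (α i) := fun i => IsOpenImmersion.lift_fac _ _ _
  have hιopen : ∀ i, IsOpenImmersion (ι i) := fun i => by
    have : IsOpenImmersion (ι i ≫ W'.ι) := by rw [hι]; infer_instance
    exact IsOpenImmersion.of_comp (ι i) W'.ι
  have hιrange : ∀ i (x : (W' : Scheme.{u})), x ∈ Set.range ⇑(ι i) ↔
      q (h i) ∉ (W'.ι x).asIdeal := by
    intro i x
    have hx : W'.ι x ∈ Set.range ⇑(Spec.map (α i)) ↔ q (h i) ∉ (W'.ι x).asIdeal := by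
      rw [hrange]; rfl
    rw [← hx, ← hι, Scheme.Hom.comp_base, TopCat.coe_comp, Set.range_comp]
    constructor
    · rintro ⟨y, rfl⟩
      exact ⟨_, ⟨y, rfl⟩, rfl⟩
    · rintro ⟨_, ⟨y, rfl⟩, hy⟩
      exact ⟨y, W'.ι.isOpenEmbedding.injective hy⟩
  -- the composites are open immersions
  have hG : ∀ i, IsOpenImmersion (ι i ≫ F) := by
    intro i
    let ε : CommRingCat.of (Localization.Away (h i)) ⟶
        CommRingCat.of (Localization.Away (q (h i))) :=
      CommRingCat.ofHom (Localization.awayMap q (h i))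
    have hε : IsIso ε := (ConcreteCategory.isIso_iff_bijective ε).mpr (hbij i)
    have hcomp : CommRingCat.ofHom q ≫ α i =
        CommRingCat.ofHom (algebraMap B' (Localization.Away (h i))) ≫ ε := by
      ext x
      simp [α, ε, Localization.awayMap, IsLocalization.Away.map]
    have : ι i ≫ F = Spec.map ε ≫
        Spec.map (CommRingCat.ofHom (algebraMap B' (Localization.Away (h i)))) := by
      rw [hF, ← Category.assoc, hι, ← Spec.map_comp, ← Spec.map_comp, hcomp]
    rw [this]
    infer_instance
  -- membership in the charts is detected on `Spec B'`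
  have hmem : ∀ i (x : (W' : Scheme.{u})), x ∈ Set.range ⇑(ι i) ↔ h i ∉ (F x).asIdeal := by
    intro i x
    rw [hιrange]
    rfl
  have hcover : ∀ x : (W' : Scheme.{u}), ∃ i, q (h i) ∉ (W'.ι x).asIdeal := by
    intro x
    have hx2 : (x.1 : PrimeSpectrum R') ∈
        (⨆ i, PrimeSpectrum.basicOpen (q (h i)) : TopologicalSpace.Opens (PrimeSpectrum R')) := x.2
    obtain ⟨i, hi⟩ := TopologicalSpace.Opens.mem_iSup.mp hx2
    exact ⟨i, hi⟩
  refine IsOpenImmersion.of_forall_source_exists F ?_ ?_
  · intro x y hxy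
    obtain ⟨i, hi⟩ := hcover x
    have hx : x ∈ Set.range ⇑(ι i) := (hιrange i x).mpr hi
    have hy : y ∈ Set.range ⇑(ι i) := by
      rw [hmem, ← hxy, ← hmem]; exact hx
    obtain ⟨x', rfl⟩ := hx
    obtain ⟨y', rfl⟩ := hy
    have := (hG i)
    have hinj := (ι i ≫ F).isOpenEmbedding.injective
    exact congrArg _ (hinj (by simpa using hxy))
  · intro x
    obtain ⟨i, hi⟩ := hcover x
    exact ⟨_, ι i, hιopen i, (hιrange i x).mpr hi, hG i⟩

end Groth.Agent.S7431
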