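import Groth.Statements.S7434
import Groth.Agent.S7433

set_option autoImplicit false
universe u
open CategoryTheory AlgebraicGeometry
open BddFib

namespace Groth.Agent.S7434

/-- When every fibre of `f : X → Y` has degree at most `n`, then for every field `k` and `Spec k → Y`
the scheme `X_k = Spec k ×_Y X` has at most `n` points. (The published statement also bounds the sum
of the residue degrees `[κ(x_i) : k]` by `n`; that sharper bound is a separate row, and this row
states only the count of points.) -/
theorem result {X Y : Scheme.{u}} (f : X ⟶ Y) (n : ℕ) (hf : BddFib.FibreDegLE f n)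
    (k : Type u) [Field k] (g : Spec (CommRingCat.of k) ⟶ Y) :
    Finite ↥(Limits.pullback f g) ∧ Nat.card ↥(Limits.pullback f g) ≤ n := by
  obtain ⟨haff, hfin, hrank⟩ := (Groth.Agent.S7433.result f n).mp hf k g
  let _ : Algebra k Γ(Limits.pullback f g, ⊤) :=
    BddFib.secAlgebra (CommRingCat.of k) (Limits.pullback.snd f g)
  have hfin' : Module.Finite k Γ(Limits.pullback f g, ⊤) := hfin
  have hart : IsArtinianRing Γ(Limits.pullback f g, ⊤) := IsArtinianRing.of_finite k _
  have hfinite : Finite (PrimeSpectrum Γ(Limits.pullback f g, ⊤)) := inferInstance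
  let e : ↥(Limits.pullback f g) ≃ PrimeSpectrum Γ(Limits.pullback f g, ⊤) :=
    (Limits.pullback f g).isoSpec.hom.homeomorph.toEquiv
  refine ⟨Finite.of_equiv _ e.symm, ?_⟩
  rw [Nat.card_congr e]
  have := Fintype.ofFinite (PrimeSpectrum Γ(Limits.pullback f g, ⊤))
  rw [Nat.card_eq_fintype_card]
  have hloc : ∀ p : PrimeSpectrum Γ(Limits.pullback f g, ⊤),
      Module.Finite k (Localization.AtPrime p.asIdeal) := fun p =>
    Module.Finite.of_surjective (Algebra.algHom k _ (Localization.AtPrime p.asIdeal)).toLinearMap
      (IsArtinianRing.localization_surjective p.asIdeal.primeCompl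
        (Localization.AtPrime p.asIdeal))
  calc Fintype.card (PrimeSpectrum Γ(Limits.pullback f g, ⊤))
      = ∑ _p : PrimeSpectrum Γ(Limits.pullback f g, ⊤), 1 := by simp
    _ ≤ ∑ p : PrimeSpectrum Γ(Limits.pullback f g, ⊤),
          Module.finrank k (Localization.AtPrime p.asIdeal) :=
        Finset.sum_le_sum (fun p _ => by
          have := hloc p
          exact Module.finrank_pos)
    _ = Module.finrank k Γ(Limits.pullback f g, ⊤) :=
        (IsArtinianRing.finrank_eq_sum_primeSpectrum _ k).symm
    _ ≤ n := hrank

end Groth.Agent.S7434
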