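import Groth.Statements.S7435
import Mathlib.AlgebraicGeometry.Morphisms.FlatRank
import Mathlib.AlgebraicGeometry.Fiber

set_option autoImplicit false
universe u
open CategoryTheory AlgebraicGeometry
open BddFib

namespace Groth.Agent.S7435

/-- If `f` is finite locally free of degree `d`, then `d` bounds the degrees of the fibres of `f`. -/
theorem result {X Y : Scheme.{u}} (f : X ⟶ Y) (d : ℕ) (hf : Mor2.IsFinLocFreeOfDeg d f) :
    BddFib.FibreDegLE f d := by
  obtain ⟨⟨hfin, hflat, hfp⟩, hd⟩ := hf
  intro y
  have hpfin : IsFinite (f.fiberToSpecResidueField y) := by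
    unfold Scheme.Hom.fiberToSpecResidueField
    exact MorphismProperty.pullback_snd (P := @IsFinite) _ _ hfin
  have hpflat : Flat (f.fiberToSpecResidueField y) := by
    unfold Scheme.Hom.fiberToSpecResidueField
    exact MorphismProperty.pullback_snd (P := @Flat) _ _ hflat
  have haff : IsAffine (f.fiber y) := isAffine_of_isAffineHom (f.fiberToSpecResidueField y)
  -- the factorisation of `p` through `Spec Γ`
  have hfac : f.fiberToSpecResidueField y = (f.fiber y).isoSpec.hom ≫
      Spec.map ((Scheme.ΓSpecIso (Y.residueField y)).inv ≫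
        (f.fiberToSpecResidueField y).appTop) := by
    rw [Spec.map_comp, Scheme.isoSpec_hom, ← Category.assoc, ← Scheme.toSpecΓ_naturality,
      Category.assoc, toSpecΓ_SpecMap_ΓSpecIso_inv, Category.comp_id]
  have hφfin : IsFinite (Spec.map ((Scheme.ΓSpecIso (Y.residueField y)).inv ≫
      (f.fiberToSpecResidueField y).appTop)) := by
    rw [← MorphismProperty.cancel_left_of_respectsIso (P := @IsFinite)
      (f.fiber y).isoSpec.hom, ← hfac]
    exact hpfin
  have hφflat : Flat (Spec.map ((Scheme.ΓSpecIso (Y.residueField y)).inv ≫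
      (f.fiberToSpecResidueField y).appTop)) := by
    rw [← MorphismProperty.cancel_left_of_respectsIso (P := @Flat)
      (f.fiber y).isoSpec.hom, ← hfac]
    exact hpflat
  have hφfin' := (IsFinite.SpecMap_iff _).mp hφfin
  have hφflat' := Flat.SpecMap_iff.mp hφflat
  -- the rank
  have hrank : (f.fiberToSpecResidueField y).finrank (IsLocalRing.closedPoint (Y.residueField y)) =
      f.finrank y := by
    have := Scheme.Hom.finrank_of_isPullback (f.fiberι y) (f.fiberToSpecResidueField y) f
      (Y.fromSpecResidueField y) (IsPullback.of_hasPullback _ _)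
      (IsLocalRing.closedPoint (Y.residueField y))
    rw [this, Scheme.fromSpecResidueField_apply]
  have hrank2 : (f.fiberToSpecResidueField y).finrank
      (IsLocalRing.closedPoint (Y.residueField y)) =
      ((Scheme.ΓSpecIso (Y.residueField y)).inv ≫
        (f.fiberToSpecResidueField y).appTop).hom.finrank
        (IsLocalRing.closedPoint (Y.residueField y)) := by
    conv_lhs => rw [hfac]
    rw [Scheme.Hom.finrank_comp_left_of_isIso, Scheme.Hom.finrank_SpecMap_eq_finrank hφfin' hφflat']
  letI : Algebra (Y.residueField y) Γ(f.fiber y, ⊤) :=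
    BddFib.secAlgebra _ (f.fiberToSpecResidueField y)
  have hfinite : Module.Finite (Y.residueField y) Γ(f.fiber y, ⊤) := hφfin'
  refine ⟨haff, hfinite, le_of_eq ?_⟩
  rw [← hd y, ← hrank, hrank2]
  show Module.finrank (Y.residueField y) Γ(f.fiber y, ⊤) = Module.rankAtStalk _ _
  rw [Module.rankAtStalk_eq_finrank_of_free]
  rfl

end Groth.Agent.S7435
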