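import Groth.Statements.S7436
import Groth.Agent.S7433
import Groth.Agent.Lib.Helper37.FibreDegComp

set_option autoImplicit false
universe u
open CategoryTheory AlgebraicGeometry
open BddFib

namespace Groth.Agent.S7436

/-- When every fibre of `f : X → Y` has degree at most `n` and every fibre of `g : Y → Z` has degree at
most `m`, every fibre of `g ∘ f` has degree at most `n m`. -/
theorem result {X Y Z : Scheme.{u}} (f : X ⟶ Y) (g : Y ⟶ Z) (n m : ℕ) (hf : BddFib.FibreDegLE f n)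
    (hg : BddFib.FibreDegLE g m) : BddFib.FibreDegLE (f ≫ g) (n * m) := by
  open Groth.Agent.Lib.Helper37 Limits in
  rw [Groth.Agent.S7433.result]
  intro k _ ζ
  obtain ⟨haffY, hfinY, hrankY⟩ := (Groth.Agent.S7433.result g m).mp hg k ζ
  let πT : pullback (f ≫ g) ζ ⟶ X := pullback.fst (f ≫ g) ζ
  let φ : pullback (f ≫ g) ζ ⟶ pullback g ζ :=
    pullback.lift (πT ≫ f) (pullback.snd (f ≫ g) ζ)
      (by rw [Category.assoc]; exact pullback.condition)
  have hφ1 : φ ≫ pullback.fst g ζ = πT ≫ f := pullback.lift_fst _ _ _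
  have hφ2 : φ ≫ pullback.snd g ζ = pullback.snd (f ≫ g) ζ := pullback.lift_snd _ _ _
  have hpb : IsPullback πT φ f (pullback.fst g ζ) := by
    refine IsPullback.of_bot ?_ hφ1.symm (IsPullback.of_hasPullback g ζ)
    rw [hφ2]
    exact IsPullback.of_hasPullback (f ≫ g) ζ
  -- `Y_k` is finite and discrete
  obtain ⟨hYfin, hYdisc⟩ := finite_discrete_of_finiteOfDegLE (Field.toIsField k)
    (pullback.snd g ζ) m ⟨haffY, hfinY, hrankY⟩
  -- `X_k` is finite and discrete, hence affine
  obtain ⟨hXfin, hXdisc⟩ := finite_discrete_of_fibres φ φ.continuous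
    (fun y => finite_discrete_preimage_singleton_of_fibreDegLE f n hf πT φ _ hpb y)
  have haffX : IsAffine (pullback (f ≫ g) ζ) := inferInstance
  -- the same square over `Spec B`
  let B : CommRingCat.{u} := Γ(pullback g ζ, ⊤)
  let w : Spec B ⟶ Y := (pullback g ζ).isoSpec.inv ≫ pullback.fst g ζ
  let pT : pullback (f ≫ g) ζ ⟶ Spec B := φ ≫ (pullback g ζ).isoSpec.hom
  have hpb' : IsPullback πT pT f w :=
    hpb.of_iso (Iso.refl _) (Iso.refl _) (pullback g ζ).isoSpec (Iso.refl _)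
      (by simp) (by simp [pT]) (by simp) (by simp [w])
  have hF := fun q hq => exists_generators_of_fibreDegLE f n hf B w πT pT hpb' q hq
  -- instances
  letI a1 : Algebra k B := BddFib.secAlgebra (CommRingCat.of k) (pullback.snd g ζ)
  letI a2 : Algebra B Γ(pullback (f ≫ g) ζ, ⊤) := BddFib.secAlgebra B pT
  letI a3 : Algebra k Γ(pullback (f ≫ g) ζ, ⊤) :=
    BddFib.secAlgebra (CommRingCat.of k) (pullback.snd (f ≫ g) ζ)
  have hfinB : Module.Finite k B := hfinY
  have hcomp : (Scheme.ΓSpecIso (CommRingCat.of k)).inv ≫ (pullback.snd (f ≫ g) ζ).appTop =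
      ((Scheme.ΓSpecIso (CommRingCat.of k)).inv ≫ (pullback.snd g ζ).appTop) ≫
        ((Scheme.ΓSpecIso B).inv ≫ pT.appTop) := by
    have h1 : (Scheme.ΓSpecIso B).inv ≫ (pullback g ζ).toSpecΓ.appTop = 𝟙 _ := by
      rw [Scheme.toSpecΓ_appTop]
      exact Iso.inv_hom_id _
    simp only [pT, Scheme.Hom.comp_appTop, Scheme.isoSpec_hom, Category.assoc, ← hφ2]
    rw [reassoc_of% h1]
  have t : IsScalarTower k B Γ(pullback (f ≫ g) ζ, ⊤) :=
    .of_algebraMap_eq' (congrArg CommRingCat.Hom.hom hcomp)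
  obtain ⟨h1, h2⟩ := finite_and_finrank_le_of_fibre_generators (k := k) (B := B)
    (M := Γ(pullback (f ≫ g) ζ, ⊤)) n hF
  exact ⟨haffX, h1, h2.trans (Nat.mul_le_mul_left n hrankY)⟩

end Groth.Agent.S7436
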