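import Groth.Statements.S7439
-- import your own Groth.Agent.* helpers here

set_option autoImplicit false
universe u
open CategoryTheory AlgebraicGeometry
open BddFib

namespace Groth.Agent.S7439

/-- Every immersion has universally bounded fibres, with `1` as a bound for the degrees of its fibres. -/
theorem result {X Y : Scheme.{u}} (f : X ⟶ Y) [IsImmersion f] :
    BddFib.FibreDegLE f 1 := by
  intro y
  have himm : IsImmersion (f.fiberToSpecResidueField y) := by
    unfold Scheme.Hom.fiberToSpecResidueField
    exact MorphismProperty.pullback_snd (P := @IsImmersion) _ _ ‹IsImmersion f›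
  have hcl : IsClosedImmersion (f.fiberToSpecResidueField y) := by
    apply IsClosedImmersion.of_isPreimmersion
    exact isClosed_discrete _
  obtain ⟨haff, hsurj⟩ :=
    IsClosedImmersion.isAffine_surjective_of_isAffine (f.fiberToSpecResidueField y)
  let _ : Algebra (Y.residueField y) Γ(f.fiber y, ⊤) :=
    BddFib.secAlgebra _ (f.fiberToSpecResidueField y)
  have hs : Function.Surjective (algebraMap (Y.residueField y) Γ(f.fiber y, ⊤)) := by
    show Function.Surjective
      ((Scheme.ΓSpecIso _).inv ≫ (f.fiberToSpecResidueField y).appTop).hom
    rw [CommRingCat.hom_comp, RingHom.coe_comp]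
    exact hsurj.comp (ConcreteCategory.bijective_of_isIso (Scheme.ΓSpecIso _).inv).2
  have hfin : Module.Finite (Y.residueField y) Γ(f.fiber y, ⊤) :=
    Module.Finite.of_surjective (Algebra.linearMap _ _) hs
  refine ⟨haff, hfin, ?_⟩
  calc Module.finrank (Y.residueField y) Γ(f.fiber y, ⊤)
      ≤ Module.finrank (Y.residueField y) (Y.residueField y) :=
        LinearMap.finrank_le_finrank_of_surjective (f := Algebra.linearMap _ _) hs
    _ = 1 := Module.finrank_self _

end Groth.Agent.S7439
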