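import Groth.Statements.S7440
import Groth.Agent.Lib.Helper37.EtaleFibre
import Mathlib.FieldTheory.IsAlgClosed.AlgebraicClosure

set_option autoImplicit false
universe u
open CategoryTheory AlgebraicGeometry
open BddFib

namespace Groth.Agent.S7440

/-- Let `f : X → Y` be étale and `n ≥ 0`. If for every field `k` and every `Spec k → Y` the base change
`X_k = Spec k ×_Y X` has finitely many, and at most `n`, points, then `n` bounds the degrees of the
fibres of `f`. (The converse implication holds for every morphism of schemes, étale or not, and is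
not restated here.) -/
theorem result {X Y : Scheme.{u}} (f : X ⟶ Y) [Etale f] (n : ℕ)
    (h : ∀ (k : Type u) [Field k] (g : Spec (CommRingCat.of k) ⟶ Y),
      Finite ↥(Limits.pullback f g) ∧ Nat.card ↥(Limits.pullback f g) ≤ n) :
    BddFib.FibreDegLE f n := by
  intro y
  let ρ : Y.residueField y ⟶ CommRingCat.of (AlgebraicClosure (Y.residueField y)) :=
    CommRingCat.ofHom (algebraMap (Y.residueField y) (AlgebraicClosure (Y.residueField y)))
  obtain ⟨hfin, hcard⟩ := h (AlgebraicClosure (Y.residueField y))
    (Spec.map ρ ≫ Y.fromSpecResidueField y)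
  have t : IsPullback (f.fiberι y) (f.fiberToSpecResidueField y) f
      (Y.fromSpecResidueField y) := IsPullback.of_hasPullback f (Y.fromSpecResidueField y)
  have s := IsPullback.of_hasPullback f (Spec.map ρ ≫ Y.fromSpecResidueField y)
  have hpb := IsPullback.of_right' s t
  have h1 := Groth.Agent.Lib.Helper37.finiteOfDegLE_card_of_etale
    (AlgebraicClosure (Y.residueField y))
    (Limits.pullback.snd f (Spec.map ρ ≫ Y.fromSpecResidueField y))
  have h2 : BddFib.FiniteOfDegLE (CommRingCat.of (AlgebraicClosure (Y.residueField y)))
      (Limits.pullback.snd f (Spec.map ρ ≫ Y.fromSpecResidueField y)) n :=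
    ⟨h1.1, h1.2.1, h1.2.2.trans hcard⟩
  exact Groth.Agent.Lib.Helper37.finiteOfDegLE_of_isPullback'
    (Field.toIsField _) (Field.toIsField (AlgebraicClosure (Y.residueField y))) ρ _ _ _ hpb n h2

end Groth.Agent.S7440
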