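import Groth.Statements.S7441
import Groth.Agent.S7436
import Groth.Agent.S7439
import Groth.Agent.Lib.Helper37.FibreDegUnion
import Mathlib.RingTheory.ZariskisMainTheorem
import Mathlib.AlgebraicGeometry.Morphisms.QuasiFinite

set_option autoImplicit false
universe u
open CategoryTheory AlgebraicGeometry
open BddFib

namespace Groth.Agent.S7441


open Groth.Agent.Lib.Helper37 TopologicalSpace in
/-- Local form: every point of the source of a locally quasi-finite morphism locally of finite type
has an open neighbourhood on which the fibre degrees are bounded. -/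
theorem exists_openImmersion_fibreDegLE {X Y : Scheme.{u}} (f : X ⟶ Y) [LocallyQuasiFinite f]
    [LocallyOfFiniteType f] (x : X) :
    ∃ (W : Scheme.{u}) (j : W ⟶ X) (_ : IsOpenImmersion j) (N : ℕ),
      x ∈ Set.range j ∧ BddFib.FibreDegLE (j ≫ f) N := by
  obtain ⟨(V : Y.Opens), hV, hfxV, -⟩ :=
    Opens.isBasis_iff_nbhd.mp Y.isBasis_affineOpens (Opens.mem_top (f x))
  obtain ⟨(U₀ : X.Opens), hU₀, hxU₀, hle⟩ :=
    Opens.isBasis_iff_nbhd.mp X.isBasis_affineOpens (show x ∈ f ⁻¹ᵁ V from hfxV)
  set φ := f.appLE V U₀ hle with hφ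
  have hft : φ.hom.FiniteType := f.finiteType_appLE hV hU₀ hle
  have hqf : φ.hom.QuasiFinite := LocallyQuasiFinite.quasiFinite_appLE hV hU₀ hle
  letI alg : Algebra Γ(Y, V) Γ(X, U₀) := φ.hom.toAlgebra
  have hft' : Algebra.FiniteType Γ(Y, V) Γ(X, U₀) := hft
  have hqf' : Algebra.QuasiFinite Γ(Y, V) Γ(X, U₀) := hqf
  let p := hU₀.primeIdealOf ⟨x, hxU₀⟩
  obtain ⟨S', hS', r, hrp, hbij⟩ :=
    Algebra.QuasiFiniteAt.exists_fg_and_exists_notMem_and_awayMap_bijective
      (R := Γ(Y, V)) p.asIdeal
  have hfinS' : Module.Finite Γ(Y, V) S' := Module.Finite.iff_fg.mpr hS'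
  obtain ⟨N, a, ha⟩ := Module.Finite.exists_fin (R := Γ(Y, V)) (M := S')
  -- rings
  let S'c : CommRingCat.{u} := CommRingCat.of S'
  let ψ : Γ(Y, V) ⟶ S'c := CommRingCat.ofHom (algebraMap Γ(Y, V) S')
  let rS : Γ(X, U₀) := S'.val.toRingHom r
  let e : Localization.Away r ≃+* Localization.Away rS := RingEquiv.ofBijective _ hbij
  let S'r : CommRingCat.{u} := CommRingCat.of (Localization.Away r)
  let Sr : CommRingCat.{u} := CommRingCat.of (Localization.Away rS)
  let loc : Γ(X, U₀) ⟶ Sr := CommRingCat.ofHom (algebraMap Γ(X, U₀) (Localization.Away rS))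
  let ε : Sr ⟶ S'r := CommRingCat.ofHom e.symm.toRingHom
  have hε : IsIso ε := (ConcreteCategory.isIso_iff_bijective ε).mpr e.symm.bijective
  let θ : Γ(X, U₀) ⟶ S'r := loc ≫ ε
  let j : Spec S'r ⟶ X := Spec.map θ ≫ hU₀.fromSpec
  have hθ : IsOpenImmersion (Spec.map θ) := by
    rw [Spec.map_comp]
    infer_instance
  have hfs : IsOpenImmersion hU₀.fromSpec := hU₀.isOpenImmersion_fromSpec
  have hj : IsOpenImmersion j := inferInstanceAs (IsOpenImmersion (Spec.map θ ≫ hU₀.fromSpec))
  refine ⟨Spec S'r, j, hj, 1 * (N * 1), ?_, ?_⟩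
  · -- `x` is in the range
    have hx : hU₀.fromSpec p = x := hU₀.fromSpec_primeIdealOf ⟨x, hxU₀⟩
    have hp : p ∈ Set.range ⇑(Spec.map loc) := by
      have := PrimeSpectrum.localization_away_comap_range (Localization.Away rS) rS
      change p ∈ Set.range (PrimeSpectrum.comap (algebraMap Γ(X, U₀) (Localization.Away rS)))
      rw [this]
      exact hrp
    obtain ⟨y, hy⟩ := hp
    obtain ⟨z, hz⟩ := (Spec.map ε).homeomorph.surjective y
    refine ⟨z, ?_⟩
    rw [← hx, ← hy]
    change (Spec.map θ ≫ hU₀.fromSpec) z = _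
    rw [Scheme.Hom.comp_apply, Spec.map_comp, Scheme.Hom.comp_apply]
    have hz' : (Spec.map ε) z = y := hz
    rw [hz']
  · -- the bound
    have hfac : φ ≫ θ = ψ ≫ CommRingCat.ofHom (algebraMap S' (Localization.Away r)) := by
      ext c
      change e.symm (algebraMap Γ(X, U₀) (Localization.Away rS) (φ.hom c)) =
        algebraMap S' (Localization.Away r) (algebraMap Γ(Y, V) S' c)
      rw [RingEquiv.symm_apply_eq]
      change _ = Localization.awayMap S'.val.toRingHom r _
      rw [Localization.awayMap, IsLocalization.Away.map, IsLocalization.map_eq]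
      rfl
    have hjf : j ≫ f = Spec.map (CommRingCat.ofHom (algebraMap S' (Localization.Away r))) ≫
        (Spec.map ψ ≫ hV.fromSpec) := by
      change (Spec.map θ ≫ hU₀.fromSpec) ≫ f = _
      rw [Category.assoc, ← IsAffineOpen.SpecMap_appLE_fromSpec f hV hU₀ hle, ← Category.assoc,
        ← Spec.map_comp, ← hφ, hfac, Spec.map_comp, Category.assoc]
    rw [hjf]
    have h1 : BddFib.FibreDegLE
        (Spec.map (CommRingCat.ofHom (algebraMap S' (Localization.Away r)))) 1 :=
      Groth.Agent.S7439.result _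
    have h2 : BddFib.FibreDegLE (Spec.map ψ) N :=
      fibreDegLE_specMap_of_span ψ N a ha
    have hfsV : IsOpenImmersion hV.fromSpec := hV.isOpenImmersion_fromSpec
    have h3 : BddFib.FibreDegLE hV.fromSpec 1 := Groth.Agent.S7439.result _
    exact Groth.Agent.S7436.result _ _ _ _ h1 (Groth.Agent.S7436.result _ _ _ _ h2 h3)

/-- Let `f : X → Y` be locally quasi-finite (locally of finite type with discrete fibres) with `X`
quasi-compact. Then the fibres of `f` are universally bounded. -/
theorem result {X Y : Scheme.{u}} (f : X ⟶ Y) [LocallyQuasiFinite f]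
    [LocallyOfFiniteType f] [CompactSpace X] : BddFib.UnivBounded f := by
  choose W j hj N hx hN using exists_openImmersion_fibreDegLE f
  obtain ⟨t, ht⟩ := isCompact_univ.elim_finite_subcover (fun x => Set.range ⇑(j x))
    (fun x => (j x).isOpenEmbedding.isOpen_range)
    (fun x _ => Set.mem_iUnion.mpr ⟨x, hx x⟩)
  let 𝒰 : X.OpenCover :=
    { I₀ := t
      X := fun i => W i.1
      f := fun i => j i.1
      mem₀ := by
        rw [Scheme.ofArrows_mem_precoverage_iff]
        refine ⟨fun x => ?_, fun i => hj i.1⟩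
        have hxt := ht (Set.mem_univ x)
        simp only [Set.mem_iUnion] at hxt
        obtain ⟨i, hi, hxi⟩ := hxt
        exact ⟨⟨i, hi⟩, hxi⟩ }
  have : Fintype 𝒰.I₀ := inferInstanceAs (Fintype t)
  exact ⟨∑ i : 𝒰.I₀, N i.1, Groth.Agent.Lib.Helper37.fibreDegLE_of_openCover f 𝒰
    (fun i => N i.1) (fun i => hN i.1)⟩

end Groth.Agent.S7441
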