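import Groth.Statements.S7442
import Groth.Agent.Lib.Helper37.FibreDegBC

set_option autoImplicit false
universe u
open CategoryTheory AlgebraicGeometry
open BddFib

namespace Groth.Agent.S7442

/-- Let `f : X → Y` and `h : Y → Z` with `g = h ∘ f`. If `f` is flat and surjective and `n` bounds the
degrees of the fibres of `g`, then `n` bounds the degrees of the fibres of `h`. -/
theorem result {X Y Z : Scheme.{u}} (f : X ⟶ Y) (h : Y ⟶ Z) [Flat f] [Surjective f]
    (n : ℕ) (hg : BddFib.FibreDegLE (f ≫ h) n) : BddFib.FibreDegLE h n := by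
  intro z
  obtain ⟨haffX, hfinX, hrankX⟩ := hg z
  -- the two squares
  have s : IsPullback ((f ≫ h).fiberToSpecResidueField z) ((f ≫ h).fiberι z)
      (Z.fromSpecResidueField z) (f ≫ h) :=
    (IsPullback.of_hasPullback (f ≫ h) (Z.fromSpecResidueField z)).flip
  have t : IsPullback (h.fiberToSpecResidueField z) (h.fiberι z)
      (Z.fromSpecResidueField z) h :=
    (IsPullback.of_hasPullback h (Z.fromSpecResidueField z)).flip
  have hpb := IsPullback.of_right' s t
  obtain ⟨φ, hφq, hpbφ⟩ : ∃ φ : (f ≫ h).fiber z ⟶ h.fiber z,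
      φ ≫ h.fiberToSpecResidueField z = (f ≫ h).fiberToSpecResidueField z ∧
      IsPullback φ ((f ≫ h).fiberι z) (h.fiberι z) f :=
    ⟨_, t.lift_fst _ _ _, hpb⟩
  have hφflat : Flat φ := MorphismProperty.of_isPullback (P := @Flat) hpbφ.flip inferInstance
  have hφsurj : Surjective φ :=
    MorphismProperty.of_isPullback (P := @Surjective) hpbφ.flip inferInstance
  -- the fibre of `f ≫ h` is finite and discrete
  let _ : Algebra (Z.residueField z) Γ((f ≫ h).fiber z, ⊤) :=
    BddFib.secAlgebra _ ((f ≫ h).fiberToSpecResidueField z)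
  have hfinX' : Module.Finite (Z.residueField z) Γ((f ≫ h).fiber z, ⊤) := hfinX
  have hart : IsArtinianRing Γ((f ≫ h).fiber z, ⊤) := IsArtinianRing.of_finite (Z.residueField z) _
  have h1 : Finite (Spec Γ((f ≫ h).fiber z, ⊤)) := inferInstanceAs (Finite (PrimeSpectrum _))
  have h2 : DiscreteTopology (Spec Γ((f ≫ h).fiber z, ⊤)) :=
    inferInstanceAs (DiscreteTopology (PrimeSpectrum _))
  have hXfin : Finite ((f ≫ h).fiber z) :=
    Finite.of_equiv _ ((f ≫ h).fiber z).isoSpec.hom.homeomorph.symm.toEquiv
  have hXdisc : DiscreteTopology ((f ≫ h).fiber z) :=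
    ((f ≫ h).fiber z).isoSpec.hom.homeomorph.symm.discreteTopology
  have hφqc : QuasiCompact φ := ⟨fun U _ _ => (Set.toFinite _).isCompact⟩
  have hq : Topology.IsQuotientMap φ := Flat.isQuotientMap_of_surjective φ
  have hYfin : Finite (h.fiber z) := Finite.of_surjective φ φ.surjective
  have hYdisc : DiscreteTopology (h.fiber z) := by
    rw [discreteTopology_iff_forall_isOpen]
    intro s
    rw [← hq.isOpen_preimage]
    exact isOpen_discrete _
  have haffY : IsAffine (h.fiber z) := inferInstance
  -- injectivity on global sections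
  have hff : φ.appTop.hom.FaithfullyFlat := by
    rw [← flat_and_surjective_SpecMap_iff]
    have e : Spec.map φ.appTop = ((f ≫ h).fiber z).isoSpec.inv ≫ φ ≫ (h.fiber z).isoSpec.hom := by
      rw [← Scheme.isoSpec_hom_naturality, Iso.inv_hom_id_assoc]
    rw [e]
    exact ⟨inferInstance, inferInstance⟩
  have hinj : Function.Injective φ.appTop.hom := hff.injective
  let _ : Algebra (Z.residueField z) Γ(h.fiber z, ⊤) :=
    BddFib.secAlgebra _ (h.fiberToSpecResidueField z)
  -- `φ.appTop` is linear over the residue field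
  let ψ : Γ(h.fiber z, ⊤) →ₗ[Z.residueField z] Γ((f ≫ h).fiber z, ⊤) :=
    { toFun := φ.appTop.hom
      map_add' := map_add _
      map_smul' := by
        intro c x
        simp only [Algebra.smul_def, map_mul, RingHom.id_apply]
        congr 1
        have := congrArg (fun g => (Scheme.ΓSpecIso (Z.residueField z)).inv ≫ g.appTop) hφq
        simp only [Scheme.Hom.comp_appTop] at this
        exact congrArg (fun g => g.hom c) this }
  have hψ : Function.Injective ψ := hinj
  have hfinY : Module.Finite (Z.residueField z) Γ(h.fiber z, ⊤) :=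
    Module.Finite.of_injective ψ hψ
  exact ⟨haffY, hfinY, (LinearMap.finrank_le_finrank_of_injective hψ).trans hrankX⟩

end Groth.Agent.S7442
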