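import Groth.Statements.S7446
import Groth.Agent.S7433
import Groth.Agent.S7434

set_option autoImplicit false
universe u
open CategoryTheory AlgebraicGeometry
open BddFib

namespace Groth.Agent.S7446

/-- For an affine scheme `T` over a field `k` whose ring of global sections is a finite `k`-module,
the residue degree at `x` along `p : T ⟶ Spec k` is at most the `k`-dimension of the localization
of `Γ(T, ⊤)` at the prime corresponding to `x`. -/
theorem residueDegree_le_finrank_localization {T : Scheme.{u}} [IsAffine T]
    (k : Type u) [Field k] (p : T ⟶ Spec (CommRingCat.of k))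
    (hfin : letI : Algebra k Γ(T, ⊤) := BddFib.secAlgebra (CommRingCat.of k) p
      Module.Finite k Γ(T, ⊤)) (x : T) :
    letI : Algebra k Γ(T, ⊤) := BddFib.secAlgebra (CommRingCat.of k) p
    p.residueDegree x ≤ Module.finrank k
      (Localization.AtPrime ((isAffineOpen_top T).primeIdealOf ⟨x, trivial⟩).asIdeal) := by
  letI : Algebra k Γ(T, ⊤) := BddFib.secAlgebra (CommRingCat.of k) p
  have hfin' : Module.Finite k Γ(T, ⊤) := hfin
  have hart : IsArtinianRing Γ(T, ⊤) := IsArtinianRing.of_finite k _
  have hU := isAffineOpen_top T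
  set q := hU.primeIdealOf ⟨x, trivial⟩ with hq
  letI algSt : Algebra Γ(T, ⊤) (T.presheaf.stalk x) :=
    TopCat.Presheaf.algebra_section_stalk T.presheaf (U := ⊤) ⟨x, trivial⟩
  have hloc : IsLocalization.AtPrime (T.presheaf.stalk x) q.asIdeal :=
    hU.isLocalization_stalk ⟨x, trivial⟩
  -- the `k`-algebra structures
  letI algK : Algebra k (T.presheaf.stalk x) :=
    ((algebraMap Γ(T, ⊤) (T.presheaf.stalk x)).comp (algebraMap k Γ(T, ⊤))).toAlgebra
  haveI : IsScalarTower k Γ(T, ⊤) (T.presheaf.stalk x) :=
    IsScalarTower.of_algebraMap_eq (fun _ => rfl)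
  letI algL : Algebra k (T.residueField x) :=
    ((T.Γevaluation x).hom.comp (algebraMap k Γ(T, ⊤))).toAlgebra
  letI algK' : Algebra k ((Spec (CommRingCat.of k)).residueField (p x)) :=
    ((Scheme.ΓSpecIso (CommRingCat.of k)).inv ≫
      (Spec (CommRingCat.of k)).Γevaluation (p x)).hom.toAlgebra
  letI algKL : Algebra ((Spec (CommRingCat.of k)).residueField (p x)) (T.residueField x) :=
    (p.residueFieldMap x).hom.toAlgebra
  haveI : IsScalarTower k ((Spec (CommRingCat.of k)).residueField (p x)) (T.residueField x) := by
    refine IsScalarTower.of_algebraMap_eq (fun a => ?_)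
    have := Scheme.Γevaluation_naturality_apply p x ((Scheme.ΓSpecIso (CommRingCat.of k)).inv a)
    exact this.symm
  -- surjectivity
  have hsurj₁ : Function.Surjective (algebraMap Γ(T, ⊤) (T.presheaf.stalk x)) :=
    IsArtinianRing.localization_surjective q.asIdeal.primeCompl (T.presheaf.stalk x)
  have hsurj₂ : Function.Surjective (T.residue x).hom := IsLocalRing.residue_surjective
  -- `k`-linear maps
  let φ₁ : Γ(T, ⊤) →ₐ[k] T.presheaf.stalk x := Algebra.algHom k _ _
  let φ₂ : T.presheaf.stalk x →ₐ[k] T.residueField x :=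
    { (T.residue x).hom with commutes' := fun _ => rfl }
  have hfinSt : Module.Finite k (T.presheaf.stalk x) :=
    Module.Finite.of_surjective φ₁.toLinearMap hsurj₁
  have hfinL : Module.Finite k (T.residueField x) :=
    Module.Finite.of_surjective φ₂.toLinearMap hsurj₂
  have hfaith : FaithfulSMul k ((Spec (CommRingCat.of k)).residueField (p x)) :=
    (faithfulSMul_iff_algebraMap_injective _ _).mpr (algebraMap k _).injective
  have h1 : p.residueDegree x ≤ Module.finrank k (T.residueField x) :=
    Module.finrank_top_le_finrank_of_isScalarTower k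
      ((Spec (CommRingCat.of k)).residueField (p x)) (T.residueField x)
  have h2 : Module.finrank k (T.residueField x) ≤ Module.finrank k (T.presheaf.stalk x) :=
    LinearMap.finrank_le_finrank_of_surjective (f := φ₂.toLinearMap) hsurj₂
  have h3 : Module.finrank k (T.presheaf.stalk x) =
      Module.finrank k (Localization.AtPrime q.asIdeal) :=
    ((IsLocalization.algEquiv q.asIdeal.primeCompl (T.presheaf.stalk x)
      (Localization.AtPrime q.asIdeal)).restrictScalars k).toLinearEquiv.finrank_eq
  exact h1.trans (h2.trans h3.le)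

/-- When every fibre of `f : X → Y` has degree at most `n`, then for every field `k` and every `Spec k →
Y`, writing `X_k = {x_1, …, x_t}`, one has `Σ_i [κ(x_i) : k] ≤ n`. (Residue degrees are taken along
`X_k → Spec k`; `X_k` is finite, so the sum is a finite sum.) -/
theorem result {X Y : Scheme.{u}} (f : X ⟶ Y) (n : ℕ) (hf : BddFib.FibreDegLE f n)
    (k : Type u) [Field k] (g : Spec (CommRingCat.of k) ⟶ Y) :
    Finite ↥(Limits.pullback f g) ∧
      ∑ᶠ x : ↥(Limits.pullback f g), (Limits.pullback.snd f g).residueDegree x ≤ n := by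
  obtain ⟨hfinT, -⟩ := Groth.Agent.S7434.result f n hf k g
  refine ⟨hfinT, ?_⟩
  obtain ⟨haff, hfin, hrank⟩ := (Groth.Agent.S7433.result f n).mp hf k g
  letI : Algebra k Γ(Limits.pullback f g, ⊤) :=
    BddFib.secAlgebra (CommRingCat.of k) (Limits.pullback.snd f g)
  have hfin' : Module.Finite k Γ(Limits.pullback f g, ⊤) := hfin
  have hart : IsArtinianRing Γ(Limits.pullback f g, ⊤) := IsArtinianRing.of_finite k _
  have := Fintype.ofFinite ↥(Limits.pullback f g)
  have := Fintype.ofFinite (PrimeSpectrum Γ(Limits.pullback f g, ⊤))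
  rw [finsum_eq_sum_of_fintype]
  have hU := isAffineOpen_top (Limits.pullback f g)
  let e' : ↥(Limits.pullback f g) → PrimeSpectrum Γ(Limits.pullback f g, ⊤) :=
    fun x => hU.primeIdealOf ⟨x, trivial⟩
  have he' : Function.Injective e' := by
    intro x y hxy
    have hx := hU.fromSpec_primeIdealOf ⟨x, trivial⟩
    have hy := hU.fromSpec_primeIdealOf ⟨y, trivial⟩
    simp only at hx hy
    rw [← hx, ← hy]
    exact congrArg _ hxy
  classical
  calc ∑ x : ↥(Limits.pullback f g), (Limits.pullback.snd f g).residueDegree x
      ≤ ∑ x : ↥(Limits.pullback f g),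
          Module.finrank k (Localization.AtPrime (e' x).asIdeal) :=
        Finset.sum_le_sum (fun x _ =>
          residueDegree_le_finrank_localization k (Limits.pullback.snd f g) hfin x)
    _ = ∑ q ∈ Finset.univ.image e', Module.finrank k (Localization.AtPrime q.asIdeal) :=
        (Finset.sum_image (f := fun q : PrimeSpectrum Γ(Limits.pullback f g, ⊤) =>
          Module.finrank k (Localization.AtPrime q.asIdeal)) (fun x _ y _ h => he' h)).symm
    _ ≤ ∑ q : PrimeSpectrum Γ(Limits.pullback f g, ⊤),
          Module.finrank k (Localization.AtPrime q.asIdeal) :=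
        Finset.sum_le_sum_of_subset (Finset.subset_univ _)
    _ = Module.finrank k Γ(Limits.pullback f g, ⊤) :=
        (IsArtinianRing.finrank_eq_sum_primeSpectrum _ k).symm
    _ ≤ n := hrank

end Groth.Agent.S7446
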