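import Groth.Statements.S7448
import Groth.Agent.S0461
import Groth.Agent.S0463
import Groth.Agent.S0012
import Groth.Agent.S11319
import Groth.Agent.Lib.Helper1.QcqsLoc.ThetaUnique
import Groth.Agent.Lib.Helper61.StalkSheafifyZero
import Groth.Agent.Lib.Helper49.QcqsModules

set_option autoImplicit false
universe u
open Lim

namespace Groth.Agent.S7448

section Aux

open AlgebraicGeometry CategoryTheory CategoryTheory.Limits Opposite TopologicalSpace

/-- a sheaf of abelian groups all of whose stalks vanish is zero -/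
theorem isZero_of_stalks {Y : TopCat.{u}} (F : CohTop.Ab Y)
    (h : ∀ y : Y, IsZero (TopCat.Presheaf.stalk F.obj y)) : IsZero F := by
  have hsub : ∀ V : Opens Y, Subsingleton (F.obj.obj (op V)) := by
    intro V
    refine ⟨fun s t => ?_⟩
    apply TopCat.Presheaf.section_ext F V s t
    intro y hy
    have : Subsingleton ↑((TopCat.Sheaf.presheaf F).stalk y) :=
      AddCommGrpCat.subsingleton_of_isZero (h y)
    exact Subsingleton.elim _ _
  rw [IsZero.iff_id_eq_zero]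
  apply ObjectProperty.hom_ext
  ext V : 2
  have := hsub V.unop
  apply AddCommGrpCat.hom_ext
  ext s
  exact Subsingleton.elim _ _

/-- `H^p` of isomorphic modules -/
theorem subsingleton_HH_of_iso {X : Scheme.{u}} {M N : X.Modules} (e : M ≅ N) (p : ℕ)
    (h : Subsingleton (Coh.HH X M p)) : Subsingleton (Coh.HH X N p) := by
  let e' := (Sheaf.functorH (Opens.grothendieckTopology X) p).mapIso
    ((SheafOfModules.toSheaf X.ringCatSheaf).mapIso e)
  have : Subsingleton ((Sheaf.functorH (Opens.grothendieckTopology X) p).obj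
    ((SheafOfModules.toSheaf X.ringCatSheaf).obj M) : Type u) := h
  exact (e'.addCommGroupIsoToAddEquiv).symm.toEquiv.subsingleton

/-- If `R^i f_* N` vanishes for a quasi-coherent `N` and `f` qcqs, then `H^i(f⁻¹V, N) = 0` for every
affine open `V` of the base. -/
theorem subsingleton_HHon_of_isZero {X Y : Scheme.{u}} (f : X ⟶ Y) [QuasiCompact f]
    [QuasiSeparated f] (N : X.Modules) [N.IsQuasicoherent] (i : ℕ)
    (hz : IsZero ((Coh.RpushAb f i).obj (Coh.toAb N))) (V : Y.Opens) (hV : IsAffineOpen V) :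
    Subsingleton (Coh.HHon X N (f ⁻¹ᵁ V) i) := by
  have : EnoughInjectives X.Modules :=
    inferInstanceAs (EnoughInjectives (SheafOfModules.{u} X.ringCatSheaf))
  have : HasInjectiveResolutions X.Modules := inferInstance
  obtain ⟨e⟩ := Groth.Agent.S11319.result f N i
  have hz' : IsZero (Coh.toAb ((Coh.Rpush f i).obj N)) := IsZero.of_iso hz e
  have hz'' : IsZero ((Coh.toAb ((Coh.Rpush f i).obj N)).obj.obj (op V)) :=
    ((sheafToPresheaf (Opens.grothendieckTopology Y) AddCommGrpCat.{u} ⋙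
      (evaluation (Opens Y)ᵒᵖ AddCommGrpCat.{u}).obj (op V)).map_isZero hz')
  have hsub : Subsingleton (((Coh.Rpush f i).obj N).presheaf.obj (op V)) :=
    AddCommGrpCat.subsingleton_of_isZero hz''
  exact (Groth.Agent.Lib.Helper1.QcqsLoc.theta_bijective f V N hV i).injective.subsingleton

end Aux

section Key

open AlgebraicGeometry CategoryTheory CategoryTheory.Limits Opposite TopologicalSpace

theorem key {X Y X' Y' : Scheme.{u}} (f : X ⟶ Y) [QuasiCompact f] [QuasiSeparated f]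
    [QuasiSeparatedSpace Y] (d : ℕ)
    (hvan : ∀ (M : X.Modules) (i : ℕ), Coh.IsQCoh M → d < i →
      IsZero ((Coh.RpushAb f i).obj (Coh.toAb M)))
    (g : Y' ⟶ Y) (f' : X' ⟶ Y') (g' : X' ⟶ X) (sq : IsPullback g' f' f g) (M' : X'.Modules)
    [Coh.IsQCoh M'] (i : ℕ) (hi : d < i) (V : Y.Opens) (hV : IsAffineOpen V) (V' : Y'.Opens)
    (hV' : IsAffineOpen V') (hle : V' ≤ g ⁻¹ᵁ V) :
    Subsingleton (CohTop.HU (X := X'.toTopCat) (Coh.toAb M') i (f' ⁻¹ᵁ V')) := by
  have hU'U : f' ⁻¹ᵁ V' ≤ g' ⁻¹ᵁ (f ⁻¹ᵁ V) := by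
    intro x hx
    have h1 : g (f' x) ∈ V := hle hx
    have h2 : f (g' x) = g (f' x) := by
      rw [← Scheme.Hom.comp_apply, ← Scheme.Hom.comp_apply, sq.w]
    show f (g' x) ∈ V
    rw [h2]
    exact h1
  have hUY : f' ⁻¹ᵁ V' = g' ⁻¹ᵁ (f ⁻¹ᵁ V) ⊓ f' ⁻¹ᵁ V' := (inf_eq_right.mpr hU'U).symm
  have hpb := Scheme.Hom.isPullback_resLE sq hle (le_refl (f ⁻¹ᵁ V)) hUY
  have : IsAffine V.toScheme := hV
  have : IsAffine V'.toScheme := hV'
  have : IsAffineHom (g.resLE V V' hle) := inferInstance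
  have hp : IsAffineHom (g'.resLE (f ⁻¹ᵁ V) (f' ⁻¹ᵁ V') hU'U) :=
    MorphismProperty.of_isPullback (P := @IsAffineHom) hpb.flip inferInstance
  -- the modules
  have hM'' : (M'.restrict (f' ⁻¹ᵁ V').ι).IsQuasicoherent :=
    Scheme.Modules.isQuasicoherent_restrictFunctor _ _
  obtain ⟨e1⟩ := Groth.Agent.S0463.result (X := X'.toTopCat) (Coh.toAb M') (f' ⁻¹ᵁ V') i
  obtain ⟨e2⟩ := Groth.Agent.S0012.result (g'.resLE (f ⁻¹ᵁ V) (f' ⁻¹ᵁ V') hU'U)
    (M'.restrict (f' ⁻¹ᵁ V').ι) i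
  have hN : ((Coh.push (g'.resLE (f ⁻¹ᵁ V) (f' ⁻¹ᵁ V') hU'U)).obj
      (M'.restrict (f' ⁻¹ᵁ V').ι)).IsQuasicoherent :=
    Groth.Agent.Lib.Helper49.isQuasicoherent_pushforward _ _
  have : QuasiCompact V.ι := inferInstance
  have : QuasiCompact (f ⁻¹ᵁ V).ι :=
    MorphismProperty.of_isPullback (P := @QuasiCompact) (isPullback_morphismRestrict f V) inferInstance
  have hN' : ((Scheme.Modules.pushforward (f ⁻¹ᵁ V).ι).obj
      ((Coh.push (g'.resLE (f ⁻¹ᵁ V) (f' ⁻¹ᵁ V') hU'U)).obj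
        (M'.restrict (f' ⁻¹ᵁ V').ι))).IsQuasicoherent :=
    Groth.Agent.Lib.Helper49.isQuasicoherent_pushforward _ _
  have h3 := subsingleton_HHon_of_isZero f _ i (hvan _ i hN' hi) V hV
  have h4 : Subsingleton (Coh.HH (f ⁻¹ᵁ V).toScheme
      ((Coh.push (g'.resLE (f ⁻¹ᵁ V) (f' ⁻¹ᵁ V') hU'U)).obj (M'.restrict (f' ⁻¹ᵁ V').ι)) i) :=
    subsingleton_HH_of_iso ((Scheme.Modules.restrictFunctorAdjCounitIso (f ⁻¹ᵁ V).ι).app _) i h3
  have h5 : Subsingleton (Coh.HH (f' ⁻¹ᵁ V').toScheme (M'.restrict (f' ⁻¹ᵁ V').ι) i) :=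
    e2.toEquiv.subsingleton
  exact @Equiv.subsingleton _ _ e1.toEquiv h5

end Key

open AlgebraicGeometry CategoryTheory in
/-- Let `f : X → Y` be a morphism with `X`, `Y` quasi-compact and quasi-separated, and `d ≥ 0` such that
`R^i f_* F = 0` for all `i > d` and all quasi-coherent `F`. Then for every cartesian square with
base change `f' : X' → Y'` of `f`, `R^i f'_* F' = 0` for all `i > d` and all quasi-coherent
`O_{X'}`-modules `F'`. -/
theorem result {X Y X' Y' : Scheme.{u}} (f : X ⟶ Y) [CompactSpace X]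
    [QuasiSeparatedSpace X] [CompactSpace Y] [QuasiSeparatedSpace Y] (d : ℕ)
    (hvan : ∀ (M : X.Modules) (i : ℕ), Coh.IsQCoh M → d < i → Limits.IsZero ((Coh.RpushAb f i).obj (Coh.toAb M)))
    (g : Y' ⟶ Y) (f' : X' ⟶ Y') (g' : X' ⟶ X) (sq : IsPullback g' f' f g) (M' : X'.Modules) [Coh.IsQCoh M']
    (i : ℕ) (hi : d < i) : Limits.IsZero ((Coh.RpushAb f' i).obj (Coh.toAb M')) := by
  have : QuasiCompact f := inferInstance
  have : QuasiSeparated f := inferInstance
  refine isZero_of_stalks _ (fun y' => ?_)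
  obtain ⟨e⟩ := Groth.Agent.S0461.result f'.base (Coh.toAb M') i
  have hstalk : (TopCat.Presheaf.stalk ((Coh.RpushAb f' i).obj (Coh.toAb M')).obj y') ≅
      TopCat.Presheaf.stalk ((presheafToSheaf (Opens.grothendieckTopology Y')
        AddCommGrpCat.{u}).obj ((TopologicalSpace.Opens.map f'.base).op ⋙
          Sheaf.cohomologyPresheaf.{u} (Coh.toAb M') i)).obj y' :=
    (TopCat.Presheaf.stalkFunctor AddCommGrpCat.{u} y').mapIso
      ((sheafToPresheaf _ _).mapIso e)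
  refine Limits.IsZero.of_iso ?_ hstalk
  obtain ⟨_, ⟨V, hV : IsAffineOpen V, rfl⟩, hyV, -⟩ :=
    Y.isBasis_affineOpens.exists_subset_of_mem_open (Set.mem_univ (g y')) isOpen_univ
  refine Groth.Agent.Lib.Helper61.StalkSheafifyZero.isZero_stalk_presheafToSheaf_of_basis _ y'
    (g ⁻¹ᵁ V) hyV _ Y'.isBasis_affineOpens ?_
  intro V' hV' hV'V
  exact key f d hvan g f' g' sq M' i hi V hV V' hV' hV'V

end Groth.Agent.S7448
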