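import Groth.Statements.S7451
import Mathlib
import Groth.Agent.Lib.Helper70.ElemAutD

set_option autoImplicit false
universe u
open CategoryTheory AlgebraicGeometry
open Desc

namespace Groth.Agent.S7451

/-- Let `k` be a field and `n ≥ 2`. For `i ≠ j` and `d ≥ 0` let `T_{i,j,d}` be the automorphism of
`𝔸^n_k` given by `x_i ↦ x_i + x_j^d` and fixing the other coordinates. Let `W ⊆ 𝔸^n_k` be a nonempty
open subscheme with `T_{i,j,d}⁻¹(W) = W` for all `i, j, d`. Then either `W = 𝔸^n_k`, or `k` has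
prime characteristic `p` and the complement `𝔸^n_k ∖ W` consists of finitely many closed points,
each of whose coordinates `a` in the residue field satisfies `a^(p^m) = a` for some `m ≥ 1`
(equivalently, is algebraic over `𝔽_p`). -/
theorem result (k : Type u) [Field k] (n : ℕ) (hn : 2 ≤ n)
    (W : (Spec (CommRingCat.of (MvPolynomial (Fin n) k))).Opens)
    (hW : (W : Set ↥(Spec (CommRingCat.of (MvPolynomial (Fin n) k)))).Nonempty)
    (hinv : ∀ (i j : Fin n), i ≠ j → ∀ d : ℕ,
      (Spec.map (CommRingCat.ofHom (MvPolynomial.aeval (R := k)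
        (Function.update MvPolynomial.X i (MvPolynomial.X i + MvPolynomial.X j ^ d) :
          Fin n → MvPolynomial (Fin n) k)).toRingHom)) ⁻¹ᵁ W = W) :
    W = ⊤ ∨ ∃ p : ℕ, p.Prime ∧ CharP k p ∧ ((W : Set ↥(Spec (CommRingCat.of (MvPolynomial (Fin n) k))))ᶜ).Finite ∧
      ∀ x : ↥(Spec (CommRingCat.of (MvPolynomial (Fin n) k))),
        x ∉ (W : Set ↥(Spec (CommRingCat.of (MvPolynomial (Fin n) k)))) →
        IsClosed ({x} : Set ↥(Spec (CommRingCat.of (MvPolynomial (Fin n) k)))) ∧ ∀ i : Fin n, ∃ m : ℕ, 0 < m ∧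
          (algebraMap (MvPolynomial (Fin n) k) x.asIdeal.ResidueField (MvPolynomial.X i)) ^ (p ^ m) =
            algebraMap (MvPolynomial (Fin n) k) x.asIdeal.ResidueField (MvPolynomial.X i) := by
  obtain ⟨Z, hZdef⟩ : ∃ Z : Set (PrimeSpectrum (MvPolynomial (Fin n) k)),
      Z = (show Set (PrimeSpectrum (MvPolynomial (Fin n) k)) from
        (W : Set ↥(Spec (CommRingCat.of (MvPolynomial (Fin n) k)))))ᶜ := ⟨_, rfl⟩
  have hZmem : ∀ Q : PrimeSpectrum (MvPolynomial (Fin n) k), Q ∈ Z ↔
      (show ↥(Spec (CommRingCat.of (MvPolynomial (Fin n) k))) from Q) ∉ W := by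
    intro Q
    rw [hZdef]
    rfl
  have hZcl : IsClosed Z := by
    rw [hZdef]
    exact W.isOpen.isClosed_compl
  have hmain := Groth.Agent.Lib.Helper70.ElemAutD.main (k := k) (n := n) hn Z hZcl
    (by
      obtain ⟨w, hw⟩ := hW
      intro h
      have : (show PrimeSpectrum (MvPolynomial (Fin n) k) from w) ∈ Z := by rw [h]; trivial
      exact (hZmem _).mp this hw)
    (by
      intro i j hij d Q hQ
      rw [hZmem] at hQ ⊢
      intro hcon
      apply hQ
      have h1 := hinv i j hij d
      have h2 : (show ↥(Spec (CommRingCat.of (MvPolynomial (Fin n) k))) from Q) ∈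
          (Spec.map (CommRingCat.ofHom (MvPolynomial.aeval (R := k)
          (Function.update MvPolynomial.X i (MvPolynomial.X i + MvPolynomial.X j ^ d) :
            Fin n → MvPolynomial (Fin n) k)).toRingHom)) ⁻¹ᵁ W := hcon
      rw [h1] at h2
      exact h2)
  rcases hmain with h | ⟨p, hpp, hp, hfin, hx⟩
  · left
    apply TopologicalSpace.Opens.ext
    apply Set.eq_univ_of_forall
    intro Q
    by_contra hQ
    have : (show PrimeSpectrum (MvPolynomial (Fin n) k) from Q) ∈ Z := (hZmem _).mpr hQ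
    rw [h] at this
    exact this
  · right
    refine ⟨p, hpp, hp, ?_, fun x hxW => hx x ((hZmem x).mpr hxW)⟩
    rw [hZdef] at hfin
    exact hfin

end Groth.Agent.S7451
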