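import Groth.Statements.S7453
import Groth.Agent.Lib.Helper37.Groupoid
import Mathlib.AlgebraicGeometry.Morphisms.Finite

set_option autoImplicit false
universe u
open CategoryTheory CategoryTheory.Limits AlgebraicGeometry
open Grpd
open Groth.Agent.Lib.Helper37

namespace Groth.Agent.S7453

/-- Let (U, R, s, t, c) be a groupoid scheme over S with U the spectrum of a field. Then R is a
separated scheme. (A groupoid scheme carries U, R, s, t, c, e, i over S with the groupoid axioms on
T-points; c is defined on the fibre product of s and t and sends a pair (a, b) with s(a) = t(b) to a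
composed with b.) -/
theorem result (S : Scheme.{u}) (G : Grpd.GroupoidScheme S) (k : Type u) [Field k] (eU : G.U ≅ Spec (CommRingCat.of k)) : G.R.IsSeparated := by
  have hsub : Subsingleton G.U := eU.hom.homeomorph.subsingleton
  have hE : IsClosedImmersion G.e := isClosedImmersion_of_comp_eq_id G.s G.e G.e_s
  -- the division map `(a, b) ↦ a ∘ b⁻¹`
  have h₁ : pullback.fst G.s G.s ≫ G.s = (pullback.snd G.s G.s ≫ G.i) ≫ G.t := by
    rw [Category.assoc, G.i_t, pullback.condition]
  have hδs : gcomp G (pullback.fst G.s G.s) (pullback.snd G.s G.s ≫ G.i) h₁ ≫ G.s =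
      pullback.snd G.s G.s ≫ G.t := by
    rw [gcomp_s, Category.assoc, G.i_s]
  have hδt : gcomp G (pullback.fst G.s G.s) (pullback.snd G.s G.s ≫ G.i) h₁ ≫ G.t =
      pullback.fst G.s G.s ≫ G.t := gcomp_t G _ _ _
  have hsq : pullback.diagonal G.s ≫
      gcomp G (pullback.fst G.s G.s) (pullback.snd G.s G.s ≫ G.i) h₁ = G.t ≫ G.e := by
    rw [precomp_gcomp]
    have e1 : pullback.diagonal G.s ≫ pullback.fst G.s G.s = 𝟙 _ := pullback.diagonal_fst _
    have e2 : pullback.diagonal G.s ≫ pullback.snd G.s G.s ≫ G.i = 𝟙 _ ≫ G.i := by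
      rw [← Category.assoc, pullback.diagonal_snd]
    rw [gcomp_congr G e1 e2 _ (by rw [Category.id_comp, Category.id_comp, G.i_t])]
    rw [gcomp_i G (𝟙 _) _ rfl, Category.id_comp]
  have hpb : IsPullback (pullback.diagonal G.s) G.t
      (gcomp G (pullback.fst G.s G.s) (pullback.snd G.s G.s ≫ G.i) h₁) G.e := by
    refine ⟨⟨hsq⟩, ⟨PullbackCone.IsLimit.mk _ (fun c => c.fst ≫ pullback.fst G.s G.s)
      (fun c => ?_) (fun c => ?_) (fun c m hm1 hm2 => ?_)⟩⟩
    · -- `a = b`
      have hc := c.condition
      rw [precomp_gcomp] at hc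
      have hu_s : (c.fst ≫ pullback.snd G.s G.s) ≫ G.t = c.snd := by
        have := congrArg (· ≫ G.s) hc
        simp only [gcomp_s, Category.assoc, G.i_s, G.e_s, Category.comp_id] at this
        exact this
      have hab : (c.fst ≫ pullback.fst G.s G.s) ≫ G.s = (c.fst ≫ pullback.snd G.s G.s) ≫ G.s := by
        rw [Category.assoc, Category.assoc, pullback.condition]
      have key : c.fst ≫ pullback.fst G.s G.s = c.fst ≫ pullback.snd G.s G.s := by
        have h2 : (c.fst ≫ pullback.fst G.s G.s) ≫ G.s =
            ((c.fst ≫ pullback.snd G.s G.s) ≫ G.i) ≫ G.t := by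
          rw [Category.assoc _ G.i, G.i_t, hab]
        have h3 := gcomp_i_gcomp' G (c.fst ≫ pullback.fst G.s G.s)
          (c.fst ≫ pullback.snd G.s G.s) hab h2 (by rw [gcomp_s, Category.assoc _ G.i, G.i_s])
        rw [← h3]
        have e1 : gcomp G (c.fst ≫ pullback.fst G.s G.s)
            ((c.fst ≫ pullback.snd G.s G.s) ≫ G.i) h2 =
            (c.fst ≫ pullback.snd G.s G.s) ≫ G.t ≫ G.e := by
          rw [← Category.assoc _ G.t, hu_s, ← hc]
          exact gcomp_congr G rfl (Category.assoc _ _ _) _ _
        rw [gcomp_congr G e1 rfl _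
          (by simp only [Category.assoc, G.e_s, Category.comp_id])]
        exact e_gcomp G _ _ rfl _
      apply pullback.hom_ext
      · rw [Category.assoc, pullback.diagonal_fst, Category.comp_id]
      · rw [Category.assoc, pullback.diagonal_snd, Category.comp_id, key]
    · have hc := c.condition
      rw [precomp_gcomp] at hc
      have := congrArg (· ≫ G.t) hc
      simp only [gcomp_t, Category.assoc, G.e_t, Category.comp_id] at this
      rw [Category.assoc]
      exact this
    · rw [← hm1, Category.assoc, pullback.diagonal_fst, Category.comp_id]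
  have hΔ : IsClosedImmersion (pullback.diagonal G.s) :=
    MorphismProperty.of_isPullback (P := @IsClosedImmersion) hpb.flip hE
  have hs : IsSeparated G.s := ⟨hΔ⟩
  have haff : IsAffine G.U := IsAffine.of_isIso eU.hom
  have : terminal.from G.R = G.s ≫ terminal.from G.U := Subsingleton.elim _ _
  refine ⟨?_⟩
  rw [this]
  infer_instance

end Groth.Agent.S7453
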