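import Groth.Statements.S7456
import Groth.Agent.Lib.Helper37.Groupoid

set_option autoImplicit false
universe u
open CategoryTheory CategoryTheory.Limits AlgebraicGeometry
open Grpd
open Groth.Agent.Lib.Helper37

namespace Groth.Agent.S7456

/-- Let (U, R, s, t, c) be a groupoid scheme over S. For every subset W of U, the subset t(s^{-1}(W)) is
set-theoretically R-invariant: its preimages under s and t coincide. If moreover s and t are open
maps and quasi-compact, then U is covered by R-invariant quasi-compact open subsets. (The published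
statement also asserts that this set is open when W is open and s, t are open maps; this row omits
that clause.) (A groupoid scheme carries U, R, s, t, c, e, i over S with the groupoid axioms on
T-points; c is defined on the fibre product of s and t and sends a pair (a, b) with s(a) = t(b) to a
composed with b.) -/
theorem result (S : Scheme.{u}) (G : Grpd.GroupoidScheme S) : (∀ W : Set G.U, ⇑G.s ⁻¹' (⇑G.t '' (⇑G.s ⁻¹' W)) = ⇑G.t ⁻¹' (⇑G.t '' (⇑G.s ⁻¹' W))) ∧ (IsOpenMap ⇑G.s → IsOpenMap ⇑G.t → QuasiCompact G.s → QuasiCompact G.t → ∀ u : G.U, ∃ W : G.U.Opens, IsCompact (W : Set G.U) ∧ u ∈ W ∧ G.s ⁻¹ᵁ W = G.t ⁻¹ᵁ W) := by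
  have hcs : G.c ≫ G.s = pullback.snd G.s G.t ≫ G.s := by
    rw [c_eq_gcomp G, gcomp_s]
  have hct : G.c ≫ G.t = pullback.fst G.s G.t ≫ G.t := by
    rw [c_eq_gcomp G, gcomp_t]
  have hcs' : ∀ z : ↑(pullback G.s G.t), G.s (G.c z) = G.s (pullback.snd G.s G.t z) := by
    intro z
    rw [← Scheme.Hom.comp_apply, ← Scheme.Hom.comp_apply, hcs]
  have hct' : ∀ z : ↑(pullback G.s G.t), G.t (G.c z) = G.t (pullback.fst G.s G.t z) := by
    intro z
    rw [← Scheme.Hom.comp_apply, ← Scheme.Hom.comp_apply, hct]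
  -- the morphism `(a, b) ↦ a⁻¹ ∘ b` on `R ×_{t,t} R`
  have h₁ : (pullback.fst G.t G.t ≫ G.i) ≫ G.s = pullback.snd G.t G.t ≫ G.t := by
    rw [Category.assoc, G.i_s, pullback.condition]
  have hds : gcomp G (pullback.fst G.t G.t ≫ G.i) (pullback.snd G.t G.t) h₁ ≫ G.s =
      pullback.snd G.t G.t ≫ G.s := gcomp_s G _ _ _
  have hdt : gcomp G (pullback.fst G.t G.t ≫ G.i) (pullback.snd G.t G.t) h₁ ≫ G.t =
      pullback.fst G.t G.t ≫ G.s := by
    rw [gcomp_t, Category.assoc, G.i_t]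
  have hds' : ∀ z : ↑(pullback G.t G.t),
      G.s (gcomp G (pullback.fst G.t G.t ≫ G.i) (pullback.snd G.t G.t) h₁ z) =
        G.s (pullback.snd G.t G.t z) := by
    intro z
    rw [← Scheme.Hom.comp_apply, ← Scheme.Hom.comp_apply, hds]
  have hdt' : ∀ z : ↑(pullback G.t G.t),
      G.t (gcomp G (pullback.fst G.t G.t ≫ G.i) (pullback.snd G.t G.t) h₁ z) =
        G.s (pullback.fst G.t G.t z) := by
    intro z
    rw [← Scheme.Hom.comp_apply, ← Scheme.Hom.comp_apply, hdt]
  have part1 : ∀ W : Set G.U,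
      ⇑G.s ⁻¹' (⇑G.t '' (⇑G.s ⁻¹' W)) = ⇑G.t ⁻¹' (⇑G.t '' (⇑G.s ⁻¹' W)) := by
    intro W
    ext r
    constructor
    · rintro ⟨r', hr', hrr'⟩
      obtain ⟨z, hz1, hz2⟩ :=
        Scheme.Pullback.exists_preimage_pullback (f := G.s) (g := G.t) r r' hrr'.symm
      refine ⟨G.c z, ?_, ?_⟩
      · show G.s (G.c z) ∈ W
        rw [hcs', hz2]
        exact hr'
      · rw [hct', hz1]
    · rintro ⟨r', hr', hrr'⟩
      obtain ⟨z, hz1, hz2⟩ :=
        Scheme.Pullback.exists_preimage_pullback (f := G.t) (g := G.t) r r' hrr'.symm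
      refine ⟨gcomp G (pullback.fst G.t G.t ≫ G.i) (pullback.snd G.t G.t) h₁ z, ?_, ?_⟩
      · show G.s _ ∈ W
        rw [hds', hz2]
        exact hr'
      · rw [hdt', hz1]
  refine ⟨part1, fun hs ht hqs _ u => ?_⟩
  obtain ⟨W₀, hW₀, huW₀, -⟩ :=
    TopologicalSpace.Opens.isBasis_iff_nbhd.mp G.U.isBasis_affineOpens
      (TopologicalSpace.Opens.mem_top u)
  have hc : IsCompact (⇑G.s ⁻¹' (W₀ : Set G.U)) :=
    QuasiCompact.isCompact_preimage _ W₀.2 (IsAffineOpen.isCompact hW₀)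
  refine ⟨⟨⇑G.t '' (⇑G.s ⁻¹' (W₀ : Set G.U)), ht _ (W₀.2.preimage G.s.continuous)⟩,
    hc.image G.t.continuous, ?_, ?_⟩
  · refine ⟨G.e u, ?_, ?_⟩
    · show G.s (G.e u) ∈ W₀
      rw [← Scheme.Hom.comp_apply, G.e_s]
      exact huW₀
    · rw [← Scheme.Hom.comp_apply, G.e_t]
      rfl
  · apply TopologicalSpace.Opens.ext
    exact part1 W₀

end Groth.Agent.S7456
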