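import Groth.Statements.S7458
-- import your own Groth.Agent.* helpers here

set_option autoImplicit false
universe u
open CategoryTheory MonoidalCategory CartesianMonoidalCategory MonObj GrpObj AlgebraicGeometry
open GrpSch

namespace Groth.Agent.S7458

/-- For a group scheme G over a scheme S, a scheme T flat over S and a morphism ψ : T -> G over S, the
map T x_S G -> G sending (t, g) to the product ψ(t)·g is a flat morphism; taking T = G and ψ the
identity, the multiplication G x_S G -> G is flat whenever G is flat over S. -/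
theorem result (S : Scheme.{u}) (G : Over S) [GrpObj G] : (∀ (T : Over S) (ψ : T ⟶ G), Flat T.hom → Flat (ψ ▷ G ≫ μ[G]).left) ∧ (Flat G.hom → Flat μ[G].left) := by
  have main : ∀ (T : Over S) (ψ : T ⟶ G), Flat T.hom → Flat (ψ ▷ G ≫ μ[G]).left := by
    intro T ψ hT
    have hmul : ψ ▷ G ≫ μ[G] = (fst T G ≫ ψ) * snd T G := by
      rw [Hom.mul_def]
      congr 1
    let α : T ⊗ G ⟶ T ⊗ G := lift (fst T G) ((fst T G ≫ ψ) * snd T G)
    let β : T ⊗ G ⟶ T ⊗ G := lift (fst T G) ((fst T G ≫ ψ)⁻¹ * snd T G)
    have hαβ : α ≫ β = 𝟙 _ := by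
      ext
      · simp [α, β]
      · simp [α, β, MonObj.comp_mul, GrpObj.comp_inv]
    have hβα : β ≫ α = 𝟙 _ := by
      ext
      · simp [α, β]
      · simp [α, β, MonObj.comp_mul]
    have hiso : IsIso α := ⟨β, hαβ, hβα⟩
    have hfac : ψ ▷ G ≫ μ[G] = α ≫ snd T G := by
      rw [hmul]
      simp [α]
    rw [hfac, Over.comp_left]
    have h1 : IsIso α.left := (Over.forget S).map_isIso α
    have h2 : Flat (snd T G).left := by
      rw [Over.snd_left]
      infer_instance
    infer_instance
  refine ⟨main, fun hG => ?_⟩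
  have := main G (𝟙 G) hG
  simpa using this

end Groth.Agent.S7458
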