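import Groth.Statements.S7459
import Mathlib.AlgebraicGeometry.Morphisms.UniversallyOpen
import Mathlib.AlgebraicGeometry.Group.Abelian

set_option autoImplicit false
universe u
open CategoryTheory MonoidalCategory CartesianMonoidalCategory MonObj GrpObj AlgebraicGeometry
open GrpSch

namespace Groth.Agent.S7459

/-- Let G be a group scheme over a field k, W an open subscheme of G and f : T -> G a morphism of
schemes (T becomes a k-scheme through f). Then the image of the composition T x_k W -> G x_k G -> G,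
the second map being the multiplication, is open. -/
theorem result (K : Type u) [Field K] (G : Over (Spec (CommRingCat.of K))) [GrpObj G] (W : G.left.Opens) (T : Scheme.{u}) (f : T ⟶ G.left) : IsOpen (Set.range ⇑(((Over.homMk f rfl : Over.mk (f ≫ G.hom) ⟶ G) ⊗ₘ (Over.homMk W.ι rfl : Over.mk (W.ι ≫ G.hom) ⟶ G)) ≫ μ[G]).left) := by
  let T' : Over (Spec (CommRingCat.of K)) := Over.mk (f ≫ G.hom)
  let W' : Over (Spec (CommRingCat.of K)) := Over.mk (W.ι ≫ G.hom)
  let ψ : T' ⟶ G := Over.homMk f rfl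
  let j : W' ⟶ G := Over.homMk W.ι rfl
  have hmul : ψ ▷ G ≫ μ[G] = (fst T' G ≫ ψ) * snd T' G := by
    rw [Hom.mul_def]
    congr 1
  let α : T' ⊗ G ⟶ T' ⊗ G := lift (fst T' G) ((fst T' G ≫ ψ) * snd T' G)
  let β : T' ⊗ G ⟶ T' ⊗ G := lift (fst T' G) ((fst T' G ≫ ψ)⁻¹ * snd T' G)
  have hαβ : α ≫ β = 𝟙 _ := by
    ext
    · simp [α, β]
    · simp [α, β, MonObj.comp_mul, GrpObj.comp_inv]
  have hβα : β ≫ α = 𝟙 _ := by
    ext
    · simp [α, β]
    · simp [α, β, MonObj.comp_mul]
  have hiso : IsIso α := ⟨β, hαβ, hβα⟩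
  have hfac : ψ ▷ G ≫ μ[G] = α ≫ snd T' G := by
    rw [hmul]
    simp [α]
  have e : (ψ ⊗ₘ j) ≫ μ[G] = (T' ◁ j) ≫ α ≫ snd T' G := by
    rw [tensorHom_def', Category.assoc, hfac]
  show IsOpen (Set.range ⇑((ψ ⊗ₘ j) ≫ μ[G]).left)
  rw [e, Over.comp_left, Over.comp_left]
  have h1 : IsOpenImmersion (T' ◁ j).left := by
    have : IsOpenImmersion j.left := inferInstanceAs (IsOpenImmersion W.ι)
    rw [Over.whiskerLeft_left]
    infer_instance
  have h2 : IsIso α.left := (Over.forget _).map_isIso α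
  have h3 : UniversallyOpen (snd T' G).left := by
    rw [Over.snd_left]
    have : UniversallyOpen T'.hom := inferInstance
    infer_instance
  have h4 : UniversallyOpen ((T' ◁ j).left ≫ α.left ≫ (snd T' G).left) := inferInstance
  exact ((T' ◁ j).left ≫ α.left ≫ (snd T' G).left).isOpenMap.isOpen_range

end Groth.Agent.S7459
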