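import Groth.Statements.S7460
import Mathlib.AlgebraicGeometry.PullbackCarrier
import Mathlib.AlgebraicGeometry.Morphisms.Affine
import Mathlib.AlgebraicGeometry.ResidueField
import Mathlib.RingTheory.IsTensorProduct

set_option autoImplicit false
set_option linter.style.haveILetI false
universe u
open CategoryTheory CategoryTheory.Limits AlgebraicGeometry
open GrpSch

namespace Groth.Agent.S7460

theorem exists_idempotents (k A : Type u) [Field k] [CommRing A] [Algebra k A]
    (hA : ∀ s : Finset A, ∃ (B : Subalgebra k A) (n : ℕ), (↑s : Set A) ⊆ (B : Set A) ∧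
      Nonempty (B ≃ₐ[k] (Fin n → k)))
    (s : Finset A) :
    ∃ (n : ℕ) (e : Fin n → A) (c : A → Fin n → k),
      (∀ j, e j * e j = e j) ∧ (∀ j l, j ≠ l → e j * e l = 0) ∧
      ∀ a ∈ s, a = ∑ j, algebraMap k A (c a j) * e j := by
  classical
  obtain ⟨B, n, hs, ⟨ψ⟩⟩ := hA s
  refine ⟨n, fun j => (ψ.symm (Pi.single j 1) : A),
    fun a j => if h : a ∈ B then ψ ⟨a, h⟩ j else 0, ?_, ?_, ?_⟩
  · intro j
    rw [← Subalgebra.coe_mul, ← map_mul, ← Pi.single_mul, mul_one]
  · intro j l hjl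
    rw [← Subalgebra.coe_mul, ← map_mul]
    have : (Pi.single j 1 : Fin n → k) * Pi.single l 1 = 0 := by
      ext x
      simp only [Pi.mul_apply, Pi.single_apply, Pi.zero_apply]
      split_ifs with h1 h2
      · exact absurd (h1.symm.trans h2) hjl
      · simp
      · simp
      · simp
    rw [this, map_zero, Subalgebra.coe_zero]
  · intro a ha
    have haB : a ∈ B := hs ha
    have h1 : ψ ⟨a, haB⟩ = ∑ j, (ψ ⟨a, haB⟩ j) • (Pi.single j 1 : Fin n → k) := by
      ext x
      simp [Finset.sum_apply, Pi.single_apply]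
    have h2 := congrArg ψ.symm h1
    rw [AlgEquiv.symm_apply_apply, map_sum] at h2
    have h3 := congrArg (Subtype.val) h2
    simp only [map_smul, AddSubmonoidClass.coe_finsetSum] at h3
    refine h3.trans (Finset.sum_congr rfl fun j _ => ?_)
    beta_reduce
    rw [dif_pos haB, Subalgebra.coe_smul, Algebra.smul_def]

theorem eval_ne_zero_iff {K Γ : Type*} [Field K] [CommRing Γ] (χ : Γ →+* K) {n : ℕ}
    (E D : Fin n → Γ)
    (hE2 : ∀ j l, j ≠ l → E j * E l = 0) (hE1 : ∀ j, E j * E j = E j) :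
    χ (∑ j, E j * D j) ≠ 0 ↔ ∃ j, χ (E j) ≠ 0 ∧ χ (D j) ≠ 0 := by
  constructor
  · intro h
    by_contra hcon
    push Not at hcon
    apply h
    rw [map_sum]
    refine Finset.sum_eq_zero fun j _ => ?_
    rw [map_mul]
    by_cases hj : χ (E j) = 0
    · rw [hj, zero_mul]
    · rw [hcon j hj, mul_zero]
  · rintro ⟨j, h1, h2⟩ h
    have : χ (E j) * χ (∑ l, E l * D l) = χ (E j) * χ (D j) := by
      rw [← map_mul, ← map_mul, Finset.mul_sum, Finset.sum_eq_single j]
      · rw [← mul_assoc, hE1]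
      · intro l _ hl
        rw [← mul_assoc, hE2 j l (Ne.symm hl), zero_mul]
      · simp
    rw [h, mul_zero] at this
    exact mul_ne_zero h1 h2 this.symm

theorem exists_list_of_isPushout {R R' S S' : Type u} [CommRing R] [CommRing R'] [CommRing S]
    [CommRing S'] (f : R →+* R') (g : R →+* S) (inl : R' →+* S') (inr : S →+* S')
    (h : IsPushout (CommRingCat.ofHom f) (CommRingCat.ofHom g) (CommRingCat.ofHom inl)
      (CommRingCat.ofHom inr)) (x : S') :
    ∃ l : List (R' × S), x = (l.map fun p => inl p.1 * inr p.2).sum := by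
  letI : Algebra R R' := f.toAlgebra
  letI : Algebra R S := g.toAlgebra
  letI : Algebra R' S' := inl.toAlgebra
  letI : Algebra S S' := inr.toAlgebra
  letI : Algebra R S' := (inl.comp f).toAlgebra
  haveI : IsScalarTower R R' S' := IsScalarTower.of_algebraMap_eq (fun a => rfl)
  have hw : ∀ a, inl (f a) = inr (g a) := by
    intro a
    have := congrArg (fun f => f.hom a) h.w
    exact this
  haveI : IsScalarTower R S S' := IsScalarTower.of_algebraMap_eq (fun a => hw a)
  haveI hpo : Algebra.IsPushout R R' S S' :=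
    (CommRingCat.isPushout_iff_isPushout (R := R) (R' := R') (S := S) (S' := S')).mp h
  have ibc : IsBaseChange R' (IsScalarTower.toAlgHom R S S').toLinearMap := hpo.out
  induction x using ibc.inductionOn with
  | zero => exact ⟨[], by simp⟩
  | tmul m => exact ⟨[(1, m)], by simp; rfl⟩
  | smul s n ih =>
    obtain ⟨l, rfl⟩ := ih
    refine ⟨l.map fun p => (s * p.1, p.2), ?_⟩
    rw [List.smul_sum, List.map_map, List.map_map]
    congr 1
    apply List.map_congr_left
    intro p _
    simp only [Function.comp_apply, map_mul, Algebra.smul_def, mul_assoc]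
    rfl
  | add n₁ n₂ h₁ h₂ =>
    obtain ⟨l₁, rfl⟩ := h₁
    obtain ⟨l₂, rfl⟩ := h₂
    exact ⟨l₁ ++ l₂, by simp⟩

lemma appTop_comp_apply' {X Y Z : Scheme.{u}} (f : X ⟶ Y) (g : Y ⟶ Z) (a : Γ(Z, ⊤)) :
    (f ≫ g).appTop.hom a = f.appTop.hom (g.appTop.hom a) := by
  rw [Scheme.Hom.comp_appTop]; rfl

theorem affine_key {k A : Type u} [Field k] [CommRing A] [Algebra k A]
    (hA : ∀ s : Finset A, ∃ (B : Subalgebra k A) (n : ℕ), (↑s : Set A) ⊆ (B : Set A) ∧
      Nonempty (B ≃ₐ[k] (Fin n → k)))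
    (g : Spec (CommRingCat.of A) ⟶ Spec (CommRingCat.of k))
    (hg : g = Spec.map (CommRingCat.ofHom (algebraMap k A)))
    (V : Scheme.{u}) [IsAffine V] (fV : V ⟶ Spec (CommRingCat.of k))
    (W : (pullback g fV).Opens) (y : ↥(pullback g fV)) (hy : y ∈ W) :
    ∃ N : Set (↥(Spec (CommRingCat.of A)) × ↥V), IsOpen N ∧
      (pullback.fst g fV y, pullback.snd g fV y) ∈ N ∧
      ∀ y', (pullback.fst g fV y', pullback.snd g fV y') ∈ N → y' ∈ W := by
  classical
  obtain ⟨_, ⟨h, rfl⟩, hyh, hhW⟩ :=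
    TopologicalSpace.Opens.isBasis_iff_nbhd.mp (isBasis_basicOpen (pullback g fV)) hy
  have hpo := isPushout_appTop_of_isPullback (IsPullback.of_hasPullback g fV)
  obtain ⟨l, hl⟩ := exists_list_of_isPushout g.appTop.hom fV.appTop.hom
    (pullback.fst g fV).appTop.hom (pullback.snd g fV).appTop.hom hpo h
  let ιA := Scheme.ΓSpecIso (CommRingCat.of A)
  let ιk := Scheme.ΓSpecIso (CommRingCat.of k)
  let s : Finset A := (l.map fun p => ιA.hom.hom p.1).toFinset
  obtain ⟨n, e, c, he1, he2, hc⟩ := exists_idempotents k A hA s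
  let θ : A →+* Γ(pullback g fV, ⊤) := (pullback.fst g fV).appTop.hom.comp ιA.inv.hom
  let η : Γ(V, ⊤) →+* Γ(pullback g fV, ⊤) := (pullback.snd g fV).appTop.hom
  let κ : k →+* Γ(V, ⊤) := fV.appTop.hom.comp ιk.inv.hom
  have hκ : ∀ x : k, θ (algebraMap k A x) = η (κ x) := by
    intro x
    have h1 : ιA.inv.hom (algebraMap k A x) = g.appTop.hom (ιk.inv.hom x) := by
      have := Scheme.ΓSpecIso_inv_naturality (CommRingCat.ofHom (algebraMap k A))
      rw [hg]
      exact congrArg (fun f => f.hom x) this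
    change (pullback.fst g fV).appTop.hom (ιA.inv.hom (algebraMap k A x)) =
      (pullback.snd g fV).appTop.hom (fV.appTop.hom (ιk.inv.hom x))
    rw [h1, ← appTop_comp_apply', ← appTop_comp_apply', pullback.condition]
  let D : Fin n → Γ(V, ⊤) := fun j => (l.map fun p => κ (c (ιA.hom.hom p.1) j) * p.2).sum
  have hθι : ∀ a : Γ(Spec (CommRingCat.of A), ⊤), θ (ιA.hom.hom a) =
      (pullback.fst g fV).appTop.hom a := by
    intro a
    change (pullback.fst g fV).appTop.hom (ιA.inv.hom (ιA.hom.hom a)) = _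
    congr 1
    exact congrArg (fun f => f.hom a) ιA.hom_inv_id
  have key : ∀ l' : List (Γ(Spec (CommRingCat.of A), ⊤) × Γ(V, ⊤)), (∀ p ∈ l', p ∈ l) →
      (l'.map fun p => (pullback.fst g fV).appTop.hom p.1 * (pullback.snd g fV).appTop.hom p.2).sum
        = ∑ j, θ (e j) * η ((l'.map fun p => κ (c (ιA.hom.hom p.1) j) * p.2).sum) := by
    intro l'
    induction l' with
    | nil => intro _; simp
    | cons p l'' ih =>
      intro hp
      have hpl : p ∈ l := hp p (List.mem_cons_self)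
      have hps : ιA.hom.hom p.1 ∈ s := by
        simp only [s, List.mem_toFinset, List.mem_map]
        exact ⟨p, hpl, rfl⟩
      have hterm : (pullback.fst g fV).appTop.hom p.1 * (pullback.snd g fV).appTop.hom p.2 =
          ∑ j, θ (e j) * η (κ (c (ιA.hom.hom p.1) j) * p.2) := by
        rw [← hθι p.1]
        conv_lhs => rw [hc _ hps]
        rw [map_sum, Finset.sum_mul]
        refine Finset.sum_congr rfl fun j _ => ?_
        rw [map_mul, hκ, map_mul]
        ring
      rw [List.map_cons, List.sum_cons, ih (fun q hq => hp q (List.mem_cons_of_mem _ hq)), hterm,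
        ← Finset.sum_add_distrib]
      refine Finset.sum_congr rfl fun j _ => ?_
      rw [List.map_cons, List.sum_cons, map_add, mul_add]
  have hh : h = ∑ j, θ (e j) * η (D j) := by
    rw [hl]
    exact key l (fun p hp => hp)
  have hchar : ∀ y' : ↥(pullback g fV), y' ∈ (pullback g fV).basicOpen h ↔
      ∃ j, pullback.fst g fV y' ∈ (Spec (CommRingCat.of A)).basicOpen (ιA.inv.hom (e j)) ∧
        pullback.snd g fV y' ∈ V.basicOpen (D j) := by
    intro y'
    rw [← Scheme.evaluation_ne_zero_iff_mem_basicOpen (pullback g fV) (U := ⊤) y' trivial h, hh]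
    have := eval_ne_zero_iff ((pullback g fV).evaluation ⊤ y' trivial).hom (fun j => θ (e j))
      (fun j => η (D j)) (fun j l hjl => by rw [← map_mul, he2 j l hjl, map_zero])
      (fun j => by rw [← map_mul, he1])
    refine this.trans (exists_congr fun j => and_congr ?_ ?_)
    · have h1 := Scheme.evaluation_ne_zero_iff_mem_basicOpen (pullback g fV) (U := ⊤) y' trivial (θ (e j))
      refine h1.trans ?_
      have h2 := Scheme.preimage_basicOpen_top (pullback.fst g fV) (ιA.inv.hom (e j))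
      change y' ∈ (pullback g fV).basicOpen ((pullback.fst g fV).appTop.hom (ιA.inv.hom (e j))) ↔ _
      rw [← h2]
      rfl
    · have h1 := Scheme.evaluation_ne_zero_iff_mem_basicOpen (pullback g fV) (U := ⊤) y' trivial (η (D j))
      refine h1.trans ?_
      have h2 := Scheme.preimage_basicOpen_top (pullback.snd g fV) (D j)
      change y' ∈ (pullback g fV).basicOpen ((pullback.snd g fV).appTop.hom (D j)) ↔ _
      rw [← h2]
      rfl
  refine ⟨⋃ j, ((Spec (CommRingCat.of A)).basicOpen (ιA.inv.hom (e j)) : Set _) ×ˢ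
    (V.basicOpen (D j) : Set _), ?_, ?_, ?_⟩
  · exact isOpen_iUnion fun j => IsOpen.prod (Scheme.basicOpen _ _).2 (Scheme.basicOpen _ _).2
  · obtain ⟨j, h1, h2⟩ := (hchar y).mp hyh
    exact Set.mem_iUnion.mpr ⟨j, h1, h2⟩
  · intro y' hy'
    obtain ⟨j, h1, h2⟩ := Set.mem_iUnion.mp hy'
    exact hhW ((hchar y').mpr ⟨j, h1, h2⟩)

theorem general_key {k A : Type u} [Field k] [CommRing A] [Algebra k A]
    (hA : ∀ s : Finset A, ∃ (B : Subalgebra k A) (n : ℕ), (↑s : Set A) ⊆ (B : Set A) ∧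
      Nonempty (B ≃ₐ[k] (Fin n → k)))
    (g : Spec (CommRingCat.of A) ⟶ Spec (CommRingCat.of k))
    (hg : g = Spec.map (CommRingCat.ofHom (algebraMap k A)))
    (X : Scheme.{u}) (f : X ⟶ Spec (CommRingCat.of k))
    (W : (pullback g f).Opens) (y : ↥(pullback g f)) (hy : y ∈ W) :
    ∃ N : Set (↥(Spec (CommRingCat.of A)) × ↥X), IsOpen N ∧
      (pullback.fst g f y, pullback.snd g f y) ∈ N ∧
      ∀ y', (pullback.fst g f y', pullback.snd g f y') ∈ N → y' ∈ W := by
  let 𝒰 := X.affineCover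
  obtain ⟨i, xi, hxi⟩ := 𝒰.exists_eq (pullback.snd g f y)
  let ji : pullback g (𝒰.f i ≫ f) ⟶ pullback g f :=
    pullback.map g (𝒰.f i ≫ f) g f (𝟙 _) (𝒰.f i) (𝟙 _) (by simp) (by simp)
  have hrange : Set.range ji = pullback.fst g f ⁻¹' Set.range (𝟙 (Spec (CommRingCat.of A))) ∩
      pullback.snd g f ⁻¹' Set.range (𝒰.f i) :=
    Scheme.Pullback.range_map g (𝒰.f i ≫ f) g f (𝟙 _) (𝒰.f i) (𝟙 _) (by simp) (by simp)
  have e1 : ji ≫ pullback.fst g f = pullback.fst g (𝒰.f i ≫ f) := by
    simp only [ji, pullback.map, pullback.lift_fst, Category.comp_id]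
  have e2 : ji ≫ pullback.snd g f = pullback.snd g (𝒰.f i ≫ f) ≫ 𝒰.f i := by
    simp only [ji, pullback.map, pullback.lift_snd]
  have hfst : ∀ z, pullback.fst g f (ji z) = pullback.fst g (𝒰.f i ≫ f) z := by
    intro z
    rw [← Scheme.Hom.comp_apply, e1]
  have hsnd : ∀ z, pullback.snd g f (ji z) = 𝒰.f i (pullback.snd g (𝒰.f i ≫ f) z) := by
    intro z
    rw [← Scheme.Hom.comp_apply, e2, Scheme.Hom.comp_apply]
  have hyr : y ∈ Set.range ji := by
    rw [hrange]
    exact ⟨⟨pullback.fst g f y, by simp⟩, ⟨xi, hxi⟩⟩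
  obtain ⟨yi, rfl⟩ := hyr
  obtain ⟨Ni, hNo, hyN, hNW⟩ := affine_key hA g hg (𝒰.X i) (𝒰.f i ≫ f) (ji ⁻¹ᵁ W) yi hy
  refine ⟨Prod.map id (𝒰.f i) '' Ni, ?_, ?_, ?_⟩
  · exact (IsOpenMap.id.prodMap (𝒰.f i).isOpenEmbedding.isOpenMap) _ hNo
  · refine ⟨_, hyN, ?_⟩
    rw [hfst, hsnd]
    rfl
  · rintro y' ⟨⟨p, x'⟩, hpx, hpx'⟩
    have h1 : p = pullback.fst g f y' := congrArg Prod.fst hpx'
    have h2 : 𝒰.f i x' = pullback.snd g f y' := congrArg Prod.snd hpx'
    have hy'r : y' ∈ Set.range ji := by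
      rw [hrange]
      exact ⟨⟨pullback.fst g f y', by simp⟩, ⟨x', h2⟩⟩
    obtain ⟨yi', rfl⟩ := hy'r
    rw [hfst] at h1
    rw [hsnd] at h2
    have h3 : x' = pullback.snd g (𝒰.f i ≫ f) yi' := (𝒰.f i).isOpenEmbedding.injective h2
    have : yi' ∈ ji ⁻¹ᵁ W := hNW yi' (by rw [← h1, ← h3]; exact hpx)
    exact this

/-- Let k be a field and A a k-algebra such that every finite subset of A is contained in a k-subalgebra
isomorphic to a finite product of copies of k (that is, A is a directed colimit of finite products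
of copies of k). Let X be a scheme over k. Then the map from the underlying space of Spec A x_k X to
the product of the underlying spaces of Spec A and X, given by the two projections, is a
homeomorphism. -/
theorem result (k : Type u) [Field k] (A : Type u) [CommRing A] [Algebra k A] (hA : ∀ s : Finset A, ∃ (B : Subalgebra k A) (n : ℕ), (↑s : Set A) ⊆ (B : Set A) ∧ Nonempty (B ≃ₐ[k] (Fin n → k))) (X : Scheme.{u}) (f : X ⟶ Spec (CommRingCat.of k)) : IsHomeomorph (fun p : ↑(pullback (Spec.map (CommRingCat.ofHom (algebraMap k A))) f) => (pullback.fst (Spec.map (CommRingCat.ofHom (algebraMap k A))) f p, pullback.snd (Spec.map (CommRingCat.ofHom (algebraMap k A))) f p)) := by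
  have key := general_key hA (Spec.map (CommRingCat.ofHom (algebraMap k A))) rfl X f
  have hsurj : Function.Surjective (fun p : ↑(pullback (Spec.map (CommRingCat.ofHom (algebraMap k A))) f) => (pullback.fst (Spec.map (CommRingCat.ofHom (algebraMap k A))) f p, pullback.snd (Spec.map (CommRingCat.ofHom (algebraMap k A))) f p)) := by
    rintro ⟨p, x⟩
    have hsub : Subsingleton ↥(Spec (CommRingCat.of k)) :=
      (inferInstance : Subsingleton (PrimeSpectrum k))
    obtain ⟨z, hz1, hz2⟩ := Scheme.Pullback.exists_preimage_pullback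
      (f := Spec.map (CommRingCat.ofHom (algebraMap k A))) (g := f) p x (Subsingleton.elim _ _)
    exact ⟨z, Prod.ext hz1 hz2⟩
  refine ⟨?_, ?_, ⟨?_, hsurj⟩⟩
  · exact (Scheme.Hom.continuous _).prodMk (Scheme.Hom.continuous _)
  · intro U hU
    rw [isOpen_iff_forall_mem_open]
    rintro _ ⟨y, hy, rfl⟩
    obtain ⟨N, hNo, hyN, hNU⟩ := key ⟨U, hU⟩ y hy
    refine ⟨N, ?_, hNo, hyN⟩
    intro q hq
    obtain ⟨y', rfl⟩ := hsurj q
    exact ⟨y', hNU y' hq, rfl⟩
  · intro y₁ y₂ h12
    beta_reduce at h12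
    apply Inseparable.eq
    rw [inseparable_iff_forall_isOpen]
    intro s hs
    constructor
    · intro h1
      obtain ⟨N, hNo, hyN, hNU⟩ := key ⟨s, hs⟩ y₁ h1
      exact hNU y₂ (h12 ▸ hyN)
    · intro h2
      obtain ⟨N, hNo, hyN, hNU⟩ := key ⟨s, hs⟩ y₂ h2
      exact hNU y₁ (h12.symm ▸ hyN)


end Groth.Agent.S7460
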