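import Groth.Statements.S7463
import Groth.Agent.H8.GroupoidHom2

set_option autoImplicit false
universe u
open CategoryTheory CategoryTheory.Limits AlgebraicGeometry
open Grpd

namespace Groth.Agent.S7463


variable {S : Scheme.{u}} (G : Grpd.GroupoidScheme S)

/-- `pr_02`. -/
noncomputable def pairC : pullback (pullback.snd G.pU G.pU) (pullback.fst G.pU G.pU) ⟶
    pullback G.pU G.pU :=
  pullback.lift
    (pullback.fst (pullback.snd G.pU G.pU) (pullback.fst G.pU G.pU) ≫ pullback.fst G.pU G.pU)
    (pullback.snd (pullback.snd G.pU G.pU) (pullback.fst G.pU G.pU) ≫ pullback.snd G.pU G.pU)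
    (by
      rw [Category.assoc, Category.assoc, pullback.condition, ← Category.assoc,
        pullback.condition, Category.assoc, pullback.condition])

@[reassoc (attr := simp)]
theorem pairC_fst : pairC G ≫ pullback.fst G.pU G.pU =
    pullback.fst (pullback.snd G.pU G.pU) (pullback.fst G.pU G.pU) ≫ pullback.fst G.pU G.pU :=
  pullback.lift_fst _ _ _

@[reassoc (attr := simp)]
theorem pairC_snd : pairC G ≫ pullback.snd G.pU G.pU =
    pullback.snd (pullback.snd G.pU G.pU) (pullback.fst G.pU G.pU) ≫ pullback.snd G.pU G.pU :=
  pullback.lift_snd _ _ _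

/-- The pair groupoid `U ×_S U ⇉ U`. -/
noncomputable def pairGroupoid : Grpd.GroupoidScheme S where
  U := G.U
  R := pullback G.pU G.pU
  pU := G.pU
  pR := pullback.fst G.pU G.pU ≫ G.pU
  s := pullback.snd G.pU G.pU
  t := pullback.fst G.pU G.pU
  e := pullback.lift (𝟙 G.U) (𝟙 G.U) rfl
  i := pullback.lift (pullback.snd G.pU G.pU) (pullback.fst G.pU G.pU) pullback.condition.symm
  c := pairC G
  s_over := pullback.condition.symm
  t_over := rfl
  comp_s := by
    intro T α β h
    rw [Category.assoc, pairC_snd, pullback.lift_snd_assoc]
  comp_t := by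
    intro T α β h
    rw [Category.assoc, pairC_fst, pullback.lift_fst_assoc]
  assoc := by
    intro T α β γ h₁ h₂
    apply pullback.hom_ext
    · simp only [Category.assoc, pairC_fst, pullback.lift_fst_assoc]
    · simp only [Category.assoc, pairC_snd, pullback.lift_snd_assoc]
  e_s := pullback.lift_snd _ _ _
  e_t := pullback.lift_fst _ _ _
  comp_e := by
    intro T α
    apply pullback.hom_ext
    · rw [Category.assoc, pairC_fst, pullback.lift_fst_assoc]
    · rw [Category.assoc, pairC_snd, pullback.lift_snd_assoc, Category.assoc, Category.assoc,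
        pullback.lift_snd, Category.comp_id]
  e_comp := by
    intro T α
    apply pullback.hom_ext
    · rw [Category.assoc, pairC_fst, pullback.lift_fst_assoc, Category.assoc, Category.assoc,
        pullback.lift_fst, Category.comp_id]
    · rw [Category.assoc, pairC_snd, pullback.lift_snd_assoc]
  i_s := pullback.lift_snd _ _ _
  i_t := pullback.lift_fst _ _ _
  comp_i := by
    intro T α
    apply pullback.hom_ext
    · rw [Category.assoc, pairC_fst, pullback.lift_fst_assoc, Category.assoc, Category.assoc,
        pullback.lift_fst, Category.comp_id]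
    · rw [Category.assoc, pairC_snd, pullback.lift_snd_assoc, Category.assoc,
        pullback.lift_snd, Category.assoc, Category.assoc, pullback.lift_snd, Category.comp_id]
  i_comp := by
    intro T α
    apply pullback.hom_ext
    · rw [Category.assoc, pairC_fst, pullback.lift_fst_assoc, Category.assoc,
        pullback.lift_fst, Category.assoc, Category.assoc, pullback.lift_fst, Category.comp_id]
    · rw [Category.assoc, pairC_snd, pullback.lift_snd_assoc, Category.assoc, Category.assoc,
        pullback.lift_snd, Category.comp_id]

/-- `j = (t, s)` as a morphism of groupoid schemes to the pair groupoid. -/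
noncomputable def jHom : Grpd.GroupoidScheme.Hom G (pairGroupoid G) where
  fU := 𝟙 G.U
  fR := G.j
  fU_over := Category.id_comp _
  comm_s := by
    change G.j ≫ pullback.snd G.pU G.pU = G.s ≫ 𝟙 G.U
    rw [Category.comp_id, GroupoidScheme.j, pullback.lift_snd]
  comm_t := by
    change G.j ≫ pullback.fst G.pU G.pU = G.t ≫ 𝟙 G.U
    rw [Category.comp_id, GroupoidScheme.j, pullback.lift_fst]
  comm_c := by
    intro T α β h
    change (pullback.lift α β h ≫ G.c) ≫ G.j = pullback.lift (α ≫ G.j) (β ≫ G.j) _ ≫ pairC G
    apply pullback.hom_ext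
    · simp only [Category.assoc, pairC_fst, pullback.lift_fst_assoc, GroupoidScheme.j,
        pullback.lift_fst]
      exact (Category.assoc _ _ _).symm.trans (G.comp_t α β h)
    · simp only [Category.assoc, pairC_snd, pullback.lift_snd_assoc, GroupoidScheme.j,
        pullback.lift_snd]
      exact (Category.assoc _ _ _).symm.trans (G.comp_s α β h)

/-- Consider a groupoid scheme (U, R, s, t, c) over S in which U is the spectrum of a field, and write Z
for the closure of the image of the morphism j = (t, s) : R -> U x_S U. Then, set-theoretically,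
pr_02 carries Z x_(pr_1,U,pr_0) Z into Z: given the morphism pr_02 from (U x_S U) x_(pr_1,U,pr_0) (U
x_S U) to U x_S U, whose components are pr_0 of the first factor and pr_1 of the second, any point
both of whose projections land in Z is mapped to a point of Z. (A groupoid scheme consists of U, R,
s, t, c, e, i over S satisfying the groupoid axioms on T-points; c is defined on the fibre product
of s and t and takes a pair (a, b) with s(a) = t(b) to the composite of a with b.) -/
theorem result (S : Scheme.{u}) (G : Grpd.GroupoidScheme S) (k : Type u) [Field k] (eU : G.U ≅ Spec (CommRingCat.of k)) (pr02 : pullback (pullback.snd G.pU G.pU) (pullback.fst G.pU G.pU) ⟶ pullback G.pU G.pU) (h0 : pr02 ≫ pullback.fst G.pU G.pU = pullback.fst (pullback.snd G.pU G.pU) (pullback.fst G.pU G.pU) ≫ pullback.fst G.pU G.pU) (h1 : pr02 ≫ pullback.snd G.pU G.pU = pullback.snd (pullback.snd G.pU G.pU) (pullback.fst G.pU G.pU) ≫ pullback.snd G.pU G.pU) (p : ↑(pullback (pullback.snd G.pU G.pU) (pullback.fst G.pU G.pU))) (h₁ : pullback.fst (pullback.snd G.pU G.pU) (pullback.fst G.pU G.pU) p ∈ closure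 (Set.range ⇑G.j)) (h₂ : pullback.snd (pullback.snd G.pU G.pU) (pullback.fst G.pU G.pU) p ∈ closure (Set.range ⇑G.j)) : pr02 p ∈ closure (Set.range ⇑G.j) := by
  have hpr : pr02 = pairC G := by
    apply pullback.hom_ext
    · rw [h0, pairC_fst]
    · rw [h1, pairC_snd]
  subst hpr
  have : IsIso (jHom G).fU := by
    change IsIso (𝟙 G.U)
    infer_instance
  exact Groth.Agent.H8.GroupoidHom.c_mem_closure_range (jHom G) k eU p h₁ h₂

end Groth.Agent.S7463
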