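import Groth.Statements.S7464
import Groth.Agent.Lib.Helper37.Groupoid
import Mathlib.AlgebraicGeometry.Morphisms.QuasiFinite
import Mathlib.AlgebraicGeometry.PullbackCarrier
import Mathlib.Order.Preorder.Finite

set_option autoImplicit false
universe u
open CategoryTheory CategoryTheory.Limits AlgebraicGeometry
open Grpd

namespace Groth.Agent.S7464

/-- Let (U, R, s, t, c) be a groupoid scheme over S with s and t finite, and let u, u' be distinct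
points of U in the same orbit, say u = s(r) and u' = t(r). Then u' does not lie in the closure of u.
(The published statement calls u, u' points of R; this row takes them to be points of U, as the
orbit condition and the proof require.) (A groupoid scheme carries U, R, s, t, c, e, i over S with
the groupoid axioms on T-points; c is defined on the fibre product of s and t and sends a pair (a,
b) with s(a) = t(b) to a composed with b.) -/
theorem result (S : Scheme.{u}) (G : Grpd.GroupoidScheme S) [IsFinite G.s] [IsFinite G.t] (r : G.R) (hne : G.s r ≠ G.t r) : ¬ (G.s r ⤳ G.t r) := by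
  intro hspec
  -- the orbit relation on points of `U`
  have rel_symm : ∀ a b : G.U, (∃ ρ : G.R, G.s ρ = a ∧ G.t ρ = b) →
      ∃ ρ : G.R, G.s ρ = b ∧ G.t ρ = a := by
    rintro a b ⟨ρ, rfl, rfl⟩
    refine ⟨G.i ρ, ?_, ?_⟩
    · rw [← Scheme.Hom.comp_apply, G.i_s]
    · rw [← Scheme.Hom.comp_apply, G.i_t]
  have hcs : G.c ≫ G.s = pullback.snd G.s G.t ≫ G.s := by
    conv_lhs => rw [Groth.Agent.Lib.Helper37.c_eq_gcomp G]
    exact Groth.Agent.Lib.Helper37.gcomp_s G _ _ _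
  have hct : G.c ≫ G.t = pullback.fst G.s G.t ≫ G.t := by
    conv_lhs => rw [Groth.Agent.Lib.Helper37.c_eq_gcomp G]
    exact Groth.Agent.Lib.Helper37.gcomp_t G _ _ _
  have rel_trans : ∀ a b c : G.U, (∃ ρ : G.R, G.s ρ = a ∧ G.t ρ = b) →
      (∃ ρ : G.R, G.s ρ = b ∧ G.t ρ = c) → ∃ ρ : G.R, G.s ρ = a ∧ G.t ρ = c := by
    rintro a b c ⟨ρ₁, rfl, rfl⟩ ⟨ρ₂, h2, rfl⟩
    obtain ⟨z, hz₁, hz₂⟩ :=
      Scheme.Pullback.exists_preimage_pullback (f := G.s) (g := G.t) ρ₂ ρ₁ h2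
    refine ⟨G.c z, ?_, ?_⟩
    · rw [← Scheme.Hom.comp_apply, hcs, Scheme.Hom.comp_apply, hz₂]
    · rw [← Scheme.Hom.comp_apply, hct, Scheme.Hom.comp_apply, hz₁]
  -- the orbit of `u = s r` is finite
  have horb : {v : G.U | ∃ ρ : G.R, G.s ρ = G.s r ∧ G.t ρ = v}.Finite := by
    refine ((G.s.finite_preimage_singleton (G.s r)).image G.t).subset ?_
    rintro v ⟨ρ, h1, rfl⟩
    exact ⟨ρ, h1, rfl⟩
  -- the bad points of the orbit
  have hPfin : {v : G.U | (∃ ρ : G.R, G.s ρ = G.s r ∧ G.t ρ = v) ∧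
      ∃ w : G.U, (∃ ρ : G.R, G.s ρ = G.s r ∧ G.t ρ = w) ∧ w ⤳ v ∧ w ≠ v}.Finite :=
    horb.subset (fun v hv => hv.1)
  have huu : ∃ ρ : G.R, G.s ρ = G.s r ∧ G.t ρ = G.s r :=
    rel_trans _ _ _ ⟨r, rfl, rfl⟩ (rel_symm _ _ ⟨r, rfl, rfl⟩)
  have hPne : {v : G.U | (∃ ρ : G.R, G.s ρ = G.s r ∧ G.t ρ = v) ∧
      ∃ w : G.U, (∃ ρ : G.R, G.s ρ = G.s r ∧ G.t ρ = w) ∧ w ⤳ v ∧ w ≠ v}.Nonempty :=
    ⟨G.t r, ⟨r, rfl, rfl⟩, G.s r, huu, hspec, hne⟩
  letI : LE G.U := ⟨fun x y => y ⤳ x⟩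
  haveI : IsTrans G.U LE.le := ⟨fun a b c (hab : b ⤳ a) (hbc : c ⤳ b) => hbc.trans hab⟩
  obtain ⟨m, ⟨hmorb, w, hworb, hwm, hwne⟩, hmin⟩ := hPfin.exists_minimal hPne
  -- an arrow `ρ : w ⟶ m`
  obtain ⟨ρ, hρs, hρt⟩ : ∃ ρ : G.R, G.s ρ = w ∧ G.t ρ = m :=
    rel_trans _ _ _ (rel_symm _ _ hworb) hmorb
  -- lift the specialization `w ⤳ m` along the closed map `s`
  obtain ⟨ρ', hρρ', hρ's⟩ : ∃ ρ' : G.R, ρ ⤳ ρ' ∧ G.s ρ' = m := by
    have hcl : IsClosedMap G.s := G.s.isClosedMap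
    exact hcl.specializingMap (a := ρ) (b := m) (by rw [hρs]; exact hwm)
  -- `t ρ'` is a proper specialization of `m` in the orbit
  have hm' : m ⤳ G.t ρ' := by
    rw [← hρt]
    exact hρρ'.map G.t.continuous
  have hne' : m ≠ G.t ρ' := by
    intro heq
    -- `ρ` and `ρ'` lie in the same fibre of `t`, which is discrete
    have hdisc := G.t.isDiscrete_preimage_singleton m
    have h1 : ρ ∈ G.t ⁻¹' {m} := hρt
    have h2 : ρ' ∈ G.t ⁻¹' {m} := heq.symm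
    have : DiscreteTopology (G.t ⁻¹' {m}) := isDiscrete_iff_discreteTopology.mp hdisc
    have hsub : (⟨ρ, h1⟩ : G.t ⁻¹' {m}) ⤳ ⟨ρ', h2⟩ :=
      Topology.IsInducing.subtypeVal.specializes_iff.mp hρρ'
    have heq' : (⟨ρ, h1⟩ : G.t ⁻¹' {m}) = ⟨ρ', h2⟩ := hsub.eq
    have : ρ = ρ' := congrArg Subtype.val heq'
    apply hwne
    rw [← hρs, ← hρ's, this]
  have hmem : G.t ρ' ∈ {v : G.U | (∃ ρ : G.R, G.s ρ = G.s r ∧ G.t ρ = v) ∧
      ∃ w : G.U, (∃ ρ : G.R, G.s ρ = G.s r ∧ G.t ρ = w) ∧ w ⤳ v ∧ w ≠ v} :=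
    ⟨rel_trans _ _ _ hmorb ⟨ρ', hρ's, rfl⟩, m, hmorb, hm', hne'⟩
  have hback : G.t ρ' ⤳ m := hmin hmem hm'
  exact hne' (hm'.antisymm hback).eq

end Groth.Agent.S7464
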