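import Groth.Statements.S7473
import Groth.Agent.S7467
import Mathlib.AlgebraicGeometry.Sites.Fpqc

set_option autoImplicit false
universe u
open HTop

namespace Groth.Agent.S7473

open CategoryTheory CategoryTheory.Limits AlgebraicGeometry in
/-- An fpqc covering of a scheme T is a V covering. (Here an fpqc covering is a family in Mathlib's fpqc
precoverage: flat, jointly surjective, and every affine open of T is the union of the images of
finitely many quasi-compact opens of the members. The further clauses for fppf, syntomic, smooth,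
étale and Zariski coverings follow because those coverings are fpqc coverings; the clause for ph
coverings is the standard ph statement applied over each affine open.) -/
theorem result {T : Scheme.{u}} : ∀ 𝒰 : Scheme.Cover Scheme.fpqcPrecoverage T, HTop.IsVCover 𝒰.toPreZeroHypercover := by
  intro 𝒰 U
  have hqc : QuasiCompactCover 𝒰.toPreZeroHypercover :=
    Scheme.presieve₀_mem_qcPrecoverage_iff.mp 𝒰.mem₀.1
  have hflat : ∀ i, Flat (𝒰.f i) := ((Scheme.presieve₀_mem_precoverage_iff _).mp 𝒰.mem₀.2).2
  obtain ⟨n, a, V, hV, hcov⟩ :=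
    QuasiCompactCover.exists_isAffineOpen_of_isCompact 𝒰.toPreZeroHypercover U.2.isCompact
  have hrange : ∀ i : Fin n, Set.range ((V i).ι ≫ 𝒰.f (a i)) ⊆ Set.range (U : T.Opens).ι := by
    intro i
    rw [Scheme.Opens.range_ι, ← hcov]
    rintro _ ⟨x, rfl⟩
    exact Set.mem_iUnion.mpr ⟨i, x.1, x.2, rfl⟩
  have hUaff : IsAffine ((U : T.Opens) : Scheme.{u}) := U.2
  refine ⟨{ I₀ := Fin n
            X := fun i => (V i : Scheme.{u})
            f := fun i => IsOpenImmersion.lift (U : T.Opens).ι ((V i).ι ≫ 𝒰.f (a i)) (hrange i) },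
    ?_, ?_⟩
  · refine Groth.Agent.S7467.result _ inferInstance (fun i => hV i) (fun i => ?_) (fun t => ?_)
    · refine MorphismProperty.of_postcomp (W := @Flat) (W' := @IsOpenImmersion) _
        (U : T.Opens).ι inferInstance ?_
      rw [IsOpenImmersion.lift_fac]
      exact MorphismProperty.comp_mem _ _ _ inferInstance (hflat (a i))
    · have ht : (t.1 : T) ∈ ((U : T.Opens) : Set T) := t.2
      rw [← hcov] at ht
      obtain ⟨i, x, hx, hxt⟩ := Set.mem_iUnion.mp ht
      refine ⟨i, ⟨x, hx⟩, ?_⟩
      apply (U : T.Opens).ι.isOpenEmbedding.injective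
      rw [← Scheme.Hom.comp_apply, IsOpenImmersion.lift_fac]
      exact hxt
  · intro i
    exact ⟨a i, (V i).ι, (IsOpenImmersion.lift_fac _ _ _).symm⟩

end Groth.Agent.S7473
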