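import Groth.Statements.S7474
import Groth.Agent.Lib.Helper37.VSheaf
import Groth.Agent.S7473

set_option autoImplicit false
universe w u
open HTop

namespace Groth.Agent.S7474

open CategoryTheory CategoryTheory.Limits AlgebraicGeometry in
/-- A presheaf F of sets on the category of all schemes has the sheaf property for every V covering
family exactly when F is a sheaf for the Zariski topology and has the sheaf property for each
standard V covering. -/
theorem result (F : Scheme.{u}ᵒᵖ ⥤ Type w) : HTop.IsVSheaf F ↔ (Presieve.IsSheaf Scheme.zariskiTopology F ∧ ∀ (T : Scheme.{u}) (E : PreZeroHypercover.{u} T), HTop.IsStandardV E → Presieve.IsSheafFor F E.presieve₀) := by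
  constructor
  · intro hV
    refine ⟨?_, fun T E hE => ?_⟩
    · rw [Precoverage.isSheaf_toGrothendieck_iff_of_isStableUnderBaseChange]
      intro X R hR
      apply hV
      have hR' : R ∈ Scheme.fpqcPrecoverage X := Scheme.zariskiPrecoverage_le_fpqcPrecoverage _ hR
      obtain ⟨𝒰, rfl⟩ := Precoverage.mem_iff_exists_zeroHypercover.mp hR'
      exact (presieve₀_mem_vPrecoverage_iff _).mpr (Groth.Agent.S7473.result 𝒰)
    · apply hV
      rw [presieve₀_mem_vPrecoverage_iff]
      intro U
      have hU : IsAffine ((U : T.Opens) : Scheme.{u}) := U.2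
      have hfin := hE.finite_index
      let e : Fin (Nat.card E.I₀) ≃ E.I₀ := (Finite.equivFin E.I₀).symm
      refine ⟨(E.pullback₁ (U : T.Opens).ι).reindex e,
        Groth.Agent.Lib.Helper37.isStandardV_reindex (E.pullback₁ (U : T.Opens).ι) e
          (Groth.Agent.S7469.result (U : T.Opens).ι E hE), fun j => ?_⟩
      exact ⟨e j, pullback.snd _ _, pullback.condition.symm⟩
  · rintro ⟨hF, hstd⟩ X R hR
    obtain ⟨E, rfl⟩ := R.exists_eq_preZeroHypercover
    have hE : IsVCover E := (presieve₀_mem_vPrecoverage_iff E).mp hR
    exact Groth.Agent.Lib.Helper37.isSheafFor_of_generate_mem_finestTopologySingle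
      (Groth.Agent.Lib.Helper37.generate_mem_finestTopologySingle_of_isVCover hF hstd E hE)

end Groth.Agent.S7474
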