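import Groth.Statements.S7479
import Groth.Agent.Lib.Helper14.PhCoverC
import Groth.Agent.S7409

set_option autoImplicit false
universe w u
open HTop

namespace Groth.Agent.S7479

open CategoryTheory CategoryTheory.Limits AlgebraicGeometry in
/-- Let T be an affine scheme. (1) For every open covering of T there is a standard ph covering of T
that refines it. (2) If E is a standard ph covering of T and, for each member U_j of E, F_j is a
standard ph covering of U_j, then some standard ph covering of T refines the composite family of all
W_ji -> T. -/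
theorem result {T : Scheme.{u}} [IsAffine T] : (∀ 𝒰 : T.OpenCover, ∃ F : PreZeroHypercover.{0} T, HTop.IsStandardPh F ∧ Nonempty (F.Hom 𝒰.toPreZeroHypercover)) ∧ (∀ (E : PreZeroHypercover.{w} T), HTop.IsStandardPh E → ∀ F : ∀ j, PreZeroHypercover.{w} (E.X j), (∀ j, HTop.IsStandardPh (F j)) → ∃ F' : PreZeroHypercover.{0} T, HTop.IsStandardPh F' ∧ Nonempty (F'.Hom (E.bind F))) := by
  exact ⟨fun 𝒰 => Groth.Agent.Lib.Helper14.PhCover.exists_standardPh_refining_openCover 𝒰,
    fun E hE F hF => Groth.Agent.Lib.Helper14.PhCover.exists_standardPh_refining_bind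
      (fun f => Groth.Agent.S7409.result f) E hE F hF⟩

end Groth.Agent.S7479
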