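import Groth.Statements.S7483
import Groth.Agent.Lib.Helper37.DDEffective

set_option autoImplicit false
open CategoryTheory CategoryTheory.Limits AlgebraicGeometry
universe u
open Desc

namespace Groth.Agent.S7483

/-- Suppose p : X -> Y is surjective and finite locally free (that is, finite, flat, and locally of
finite presentation), and consider a scheme V over X with the property that any finite collection of
points of V mapping to a common point of Y lies inside some affine open subset of V. Under these
assumptions, each descent datum on V relative to p is effective, meaning it is isomorphic to the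
canonical descent datum attached to some scheme over Y. (Descent data are formulated in
functor-of-points form.) -/
theorem result {X Y : Scheme.{u}} (p : X ⟶ Y) [Surjective p] [IsFinite p] [Flat p] [LocallyOfFinitePresentation p] (D : Desc.SchDD p) (hV : ∀ (y : Y) (s : Finset ↑(D.obj.left)), (∀ v ∈ s, p (D.obj.hom v) = y) → ∃ U : D.obj.left.Opens, IsAffineOpen U ∧ ∀ v ∈ s, v ∈ U) : ∃ W : Over Y, Nonempty ((Desc.toDD p).obj W ≅ D) := by
  open Groth.Agent.Lib.Helper37 in
  classical
  refine DDG.effective D (fun v => ?_)
  have key : ∀ v' : (DDG.groupoid D).U, ∃ U : D.obj.left.Opens, IsAffineOpen U ∧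
      ∀ r : (DDG.groupoid D).R, (DDG.groupoid D).s r = v' → (DDG.groupoid D).t r ∈ U := by
    intro v'
    have hfin : ((DDG.groupoid D).t '' ((DDG.groupoid D).s ⁻¹' {v'})).Finite :=
      ((DDG.groupoid D).s.finite_preimage_singleton v').image _
    obtain ⟨U, hU, hUs⟩ := hV (p (D.obj.hom v')) hfin.toFinset (by
      intro v'' hv''
      obtain ⟨r, hr, rfl⟩ := (Set.Finite.mem_toFinset hfin).mp hv''
      have hr' : (DDG.groupoid D).s r = v' := hr
      rw [← hr']
      exact DDG.orbit_fibre D r)
    exact ⟨U, hU, fun r hr => hUs _ ((Set.Finite.mem_toFinset hfin).mpr ⟨r, hr, rfl⟩)⟩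
  exact key v

end Groth.Agent.S7483
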