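import Groth.Statements.S7485
import Groth.Agent.Lib.Helper37.DDEffective
import Groth.Agent.Lib.Helper11.AmpleSeparated

set_option autoImplicit false
set_option linter.style.haveILetI false
open CategoryTheory CategoryTheory.Limits AlgebraicGeometry
universe u
open Desc

namespace Groth.Agent.S7485

/-- Let p : X -> Y be a surjective finite locally free morphism and V a scheme over X which has an ample
invertible module. Then every descent datum on V relative to p is effective. (Descent data are taken
in functor-of-points form.) -/
theorem result {X Y : Scheme.{u}} (p : X ⟶ Y) [Surjective p] [IsFinite p] [Flat p] [LocallyOfFinitePresentation p] (D : Desc.SchDD p) (L : D.obj.left.Modules) (hL : CohB1.IsAmple L) : ∃ W : Over Y, Nonempty ((Desc.toDD p).obj W ≅ D) := by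
  haveI : CompactSpace D.obj.left := hL.2.1
  apply Groth.Agent.Lib.Helper37.DDG.effective D
  intro v
  have hfin : ((Groth.Agent.Lib.Helper37.DDG.groupoid D).t ''
      ((Groth.Agent.Lib.Helper37.DDG.groupoid D).s ⁻¹' {v})).Finite :=
    ((Groth.Agent.Lib.Helper37.DDG.groupoid D).s.finite_preimage_singleton v).image _
  obtain ⟨U, hU, hZU⟩ :=
    Groth.Agent.Lib.Helper11.AmpleSeparated.exists_isAffineOpen_of_finite hL _ hfin
  exact ⟨U, hU, fun r hr => hZU ⟨r, hr, rfl⟩⟩

end Groth.Agent.S7485
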