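import Groth.Statements.S7486
import Mathlib.RingTheory.TensorProduct.IsBaseChangeFree

set_option autoImplicit false
set_option linter.style.haveILetI false
universe u
open CategoryTheory CategoryTheory.Limits AlgebraicGeometry
open Grpd

namespace Groth.Agent.S7486

section helpers
open TensorProduct
section abstract
variable {A B P : Type u} [CommRing A] [CommRing B] [CommRing P] [Algebra A B]
  (t : A →+* B) (e : B →+* A)
  (hes : ∀ a, e (algebraMap A B a) = a) (het : ∀ a, e (t a) = a)
  (p0 p1 c : B →+* P)
  (hct : ∀ a, c (t a) = p0 (t a)) (hcs : ∀ a, c (algebraMap A B a) = p1 (algebraMap A B a))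
  (hp : ∀ a, p0 (algebraMap A B a) = p1 (t a))
  {I : Type*} (x : I → A) (b : Module.Basis I A B) (hb : ∀ i, b i = t (x i))
  (hLI : ∀ l : I →₀ B, (l.sum fun i β => p1 β * p0 (t (x i))) = 0 → l = 0)

include hct hcs hp hb hLI in
lemma repr_mem (a : A) (i : I) : b.repr (t a) i ∈ RingHom.eqLocus (algebraMap A B) t := by
  obtain ⟨r, hr⟩ : ∃ r, r = b.repr (t a) := ⟨_, rfl⟩
  rw [← hr]
  have h1 : t a = r.sum fun i ri => algebraMap A B ri * t (x i) := by
    conv_lhs => rw [← b.linearCombination_repr (t a), ← hr]
    simp [Finsupp.linearCombination_apply, Algebra.smul_def, hb]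
  have h2 : c (t a) = r.sum fun i ri => p1 (algebraMap A B ri) * p0 (t (x i)) := by
    rw [h1, map_finsuppSum]; simp [hcs, hct]
  have h3 : p0 (t a) = r.sum fun i ri => p1 (t ri) * p0 (t (x i)) := by
    rw [h1, map_finsuppSum]; simp [hp]
  have h4 : (r.sum fun i ri => p1 (algebraMap A B ri - t ri) * p0 (t (x i))) = 0 := by
    simp only [map_sub, sub_mul, Finsupp.sum_sub, ← h2, ← h3, hct, sub_self]
  have h5 := hLI (r.mapRange (fun ri => algebraMap A B ri - t ri) (by simp))
    (by rw [Finsupp.sum_mapRange_index (by simp)]; exact h4)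
  have h6 := DFunLike.congr_fun h5 i
  simpa [sub_eq_zero] using h6

include hes het hct hcs hp hb hLI in
lemma exists_basis :
    ∃ bC : Module.Basis I (RingHom.eqLocus (algebraMap A B) t) A, ∀ i, bC i = x i := by
  have hli : LinearIndependent (RingHom.eqLocus (algebraMap A B) t) x := by
    rw [linearIndependent_iff]
    intro l hl
    have h1 : (l.sum fun i li => algebraMap A B (li : A) * t (x i)) = 0 := by
      have := congrArg t hl
      rw [Finsupp.linearCombination_apply, map_finsuppSum, map_zero] at this
      rw [← this]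
      refine Finsupp.sum_congr fun i _ => ?_
      rw [Subring.smul_def, smul_eq_mul, map_mul, (l i).2]
    have h2 : Finsupp.linearCombination A b (l.mapRange (fun li : RingHom.eqLocus (algebraMap A B) t => (li : A)) (by simp)) = 0 := by
      rw [Finsupp.linearCombination_apply, Finsupp.sum_mapRange_index (by simp)]
      rw [← h1]
      refine Finsupp.sum_congr fun i _ => ?_
      rw [Algebra.smul_def, hb]
    have h3 := (linearIndependent_iff.mp b.linearIndependent) _ h2
    ext i
    have := DFunLike.congr_fun h3 i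
    simpa using this
  have hsp : ⊤ ≤ Submodule.span (RingHom.eqLocus (algebraMap A B) t) (Set.range x) := by
    intro a _
    have hmem := repr_mem t p0 p1 c hct hcs hp x b hb hLI a
    have h1 : t a = (b.repr (t a)).sum fun i ri => algebraMap A B ri * t (x i) := by
      conv_lhs => rw [← b.linearCombination_repr (t a)]
      simp [Finsupp.linearCombination_apply, Algebra.smul_def, hb]
    have h2 : a = (b.repr (t a)).sum fun i ri => ri * x i := by
      have := congrArg e h1
      rw [het, map_finsuppSum] at this
      refine this.trans ?_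
      refine Finsupp.sum_congr fun i _ => ?_
      rw [map_mul, hes, het]
    rw [h2]
    refine Submodule.sum_mem _ fun i _ => ?_
    have : (b.repr (t a) i) * x i = (⟨b.repr (t a) i, hmem i⟩ : RingHom.eqLocus (algebraMap A B) t) • x i := by
      rw [Subring.smul_def, smul_eq_mul]
    change (b.repr (t a) i) * x i ∈ _
    rw [this]
    exact Submodule.smul_mem _ _ (Submodule.subset_span ⟨i, rfl⟩)
  exact ⟨Module.Basis.mk hli hsp, fun i => by simp⟩

include hes het hct hcs hp hb hLI in
lemma bijective_phi :
    letI : Algebra (RingHom.eqLocus (algebraMap A B) t) B :=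
      ((algebraMap A B).comp (RingHom.eqLocus (algebraMap A B) t).subtype).toAlgebra
    ∀ φ : A ⊗[RingHom.eqLocus (algebraMap A B) t] A →ₗ[RingHom.eqLocus (algebraMap A B) t] B,
      (∀ a a' : A, φ (a ⊗ₜ[RingHom.eqLocus (algebraMap A B) t] a') = t a * algebraMap A B a') →
      Function.Bijective φ := by
  letI : Algebra (RingHom.eqLocus (algebraMap A B) t) B :=
    ((algebraMap A B).comp (RingHom.eqLocus (algebraMap A B) t).subtype).toAlgebra
  intro φ hφ
  obtain ⟨bC, hbC⟩ := exists_basis t e hes het p0 p1 c hct hcs hp x b hb hLI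
  let ψ : (I →₀ A) →+ A ⊗[RingHom.eqLocus (algebraMap A B) t] A :=
    Finsupp.liftAddHom (fun i =>
      (TensorProduct.mk (RingHom.eqLocus (algebraMap A B) t) A A (x i)).toAddMonoidHom)
  have hψ : ∀ f : I →₀ A, ψ f = f.sum fun i a => x i ⊗ₜ[RingHom.eqLocus (algebraMap A B) t] a := by
    intro f
    simp only [ψ, Finsupp.liftAddHom_apply]
    rfl
  have h1 : ∀ f : I →₀ A, φ (ψ f) = b.repr.symm f := by
    intro f
    rw [hψ, map_finsuppSum, Module.Basis.repr_symm_apply, Finsupp.linearCombination_apply]
    refine Finsupp.sum_congr fun i _ => ?_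
    rw [hφ, Algebra.smul_def, hb, mul_comm]
  have h2 : Function.Surjective ψ := by
    intro z
    induction z using TensorProduct.induction_on with
    | zero => exact ⟨0, map_zero _⟩
    | add z w hz hw =>
      obtain ⟨f, rfl⟩ := hz
      obtain ⟨g, rfl⟩ := hw
      exact ⟨f + g, map_add _ _ _⟩
    | tmul a a' =>
      refine ⟨(bC.repr a).mapRange (fun li : RingHom.eqLocus (algebraMap A B) t => (li : A) * a')
        (by simp), ?_⟩
      rw [hψ, Finsupp.sum_mapRange_index (by simp)]
      conv_rhs => rw [← bC.linearCombination_repr a, Finsupp.linearCombination_apply,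
        Finsupp.sum, TensorProduct.sum_tmul]
      rw [Finsupp.sum]
      refine Finset.sum_congr rfl fun i _ => ?_
      rw [hbC, TensorProduct.smul_tmul, Subring.smul_def, smul_eq_mul]
  constructor
  · intro z w hzw
    obtain ⟨f, rfl⟩ := h2 z
    obtain ⟨g, rfl⟩ := h2 w
    rw [h1, h1] at hzw
    rw [b.repr.symm.injective hzw]
  · intro y
    refine ⟨ψ (b.repr y), ?_⟩
    rw [h1, LinearEquiv.symm_apply_apply]

end abstract


/-- type synonym carrying the `t`-algebra structure -/
def Bt {A B : Type u} [CommRing A] [CommRing B] (_t : A →+* B) : Type u := B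

instance {A B : Type u} [CommRing A] [CommRing B] (t : A →+* B) : CommRing (Bt t) :=
  inferInstanceAs (CommRing B)

instance {A B : Type u} [CommRing A] [CommRing B] (t : A →+* B) : Algebra A (Bt t) :=
  t.toAlgebra

theorem linearIndependent_of_isPushout {A B P : Type u} [CommRing A] [CommRing B] [CommRing P]
    [Algebra A B] (t : A →+* B) (p0 p1 : B →+* P)
    (hpush : IsPushout (CommRingCat.ofHom t) (CommRingCat.ofHom (algebraMap A B))
      (CommRingCat.ofHom p1) (CommRingCat.ofHom p0))
    {I : Type*} (y : I → B) (b : Module.Basis I A B) (hb : ∀ i, b i = y i) :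
    ∀ l : I →₀ B, (l.sum fun i β => p1 β * p0 (y i)) = 0 → l = 0 := by
  have hp : ∀ a, p0 (algebraMap A B a) = p1 (t a) := by
    intro a
    have := congrArg (fun f => f.hom a) hpush.w
    exact this.symm
  letI : Algebra (Bt t) P := RingHom.toAlgebra (show Bt t →+* P from p1)
  letI : Algebra B P := p0.toAlgebra
  letI : Algebra A P := (p1.comp t).toAlgebra
  haveI : IsScalarTower A (Bt t) P := IsScalarTower.of_algebraMap_eq (fun a => rfl)
  haveI : IsScalarTower A B P := IsScalarTower.of_algebraMap_eq (fun a => (hp a).symm)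
  have hpo : Algebra.IsPushout A (Bt t) B P :=
    (CommRingCat.isPushout_iff_isPushout (R := A) (R' := Bt t) (S := B) (S' := P)).mp hpush
  have ibc : IsBaseChange (Bt t) (IsScalarTower.toAlgHom A B P).toLinearMap := hpo.out
  have hli := (IsBaseChange.basis b ibc).linearIndependent
  rw [linearIndependent_iff] at hli
  have key : ∀ l' : I →₀ Bt t,
      (l'.sum fun i β => algebraMap (Bt t) P β * algebraMap B P (y i)) = 0 → l' = 0 := by
    intro l' hl'
    refine hli l' ?_
    rw [Finsupp.linearCombination_apply, ← hl']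
    refine Finsupp.sum_congr fun i _ => ?_
    rw [IsBaseChange.basis_apply, Algebra.smul_def, hb]
    rfl
  exact key

lemma appTop_comp_apply {X Y Z : Scheme.{u}} (f : X ⟶ Y) (g : Y ⟶ Z) (a : Γ(Z, ⊤)) :
    (f ≫ g).appTop.hom a = f.appTop.hom (g.appTop.hom a) := by
  rw [Scheme.Hom.comp_appTop]; rfl

end helpers

/-- Let (U, R, s, t, c) be a groupoid scheme over S with U = Spec A and R = Spec B affine (A, B the
rings of global functions), and let x_i, i in I, be elements of A such that B is free as an A-module
through s^# with basis the elements t^#(x_i). Let C be the subring of R-invariant functions (those a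
with s^#(a) = t^#(a)). Then the x_i form a basis of A as a C-module, and the C-linear map A (x)_C A
-> B sending a (x) a' to t^#(a) s^#(a') is bijective (B carries the C-module structure through s^#).
(A groupoid scheme carries U, R, s, t, c, e, i over S with the groupoid axioms on T-points; c is
defined on the fibre product of s and t and sends a pair (a, b) with s(a) = t(b) to a composed with
b.) -/
theorem result (S : Scheme.{u}) (G : Grpd.GroupoidScheme S) [IsAffine G.U] [IsAffine G.R] (I : Type u) (x : I → Γ(G.U, ⊤)) (hB : letI := G.s.appTop.hom.toAlgebra; ∃ b : Module.Basis I Γ(G.U, ⊤) Γ(G.R, ⊤), ∀ i, b i = G.t.appTop.hom (x i)) : (∃ b : Module.Basis I G.invariants Γ(G.U, ⊤), ∀ i, b i = x i) ∧ (letI := (G.s.appTop.hom.comp G.invariants.subtype).toAlgebra; ∀ φ : TensorProduct G.invariants Γ(G.U, ⊤) Γ(G.U, ⊤) →ₗ[G.invariants] Γ(G.R, ⊤), (∀ a a' : Γ(G.U, ⊤), φ (a ⊗ₜ[G.invariants] a') = G.t.appTop.hom a * G.s.appTop.hom a') → Function.Bijective φ) := by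
  letI : Algebra Γ(G.U, ⊤) Γ(G.R, ⊤) := G.s.appTop.hom.toAlgebra
  obtain ⟨b, hb⟩ := hB
  have hes : ∀ a, G.e.appTop.hom (G.s.appTop.hom a) = a := by
    intro a
    rw [← appTop_comp_apply, G.e_s, Scheme.Hom.id_appTop]; rfl
  have het : ∀ a, G.e.appTop.hom (G.t.appTop.hom a) = a := by
    intro a
    rw [← appTop_comp_apply, G.e_t, Scheme.Hom.id_appTop]; rfl
  have hcs' := G.comp_s (pullback.fst G.s G.t) (pullback.snd G.s G.t) pullback.condition
  have hct' := G.comp_t (pullback.fst G.s G.t) (pullback.snd G.s G.t) pullback.condition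
  rw [pullback.lift_fst_snd, Category.id_comp] at hcs' hct'
  have hcs : ∀ a, G.c.appTop.hom (G.s.appTop.hom a) =
      (pullback.snd G.s G.t).appTop.hom (G.s.appTop.hom a) := by
    intro a
    rw [← appTop_comp_apply, hcs', appTop_comp_apply]
  have hct : ∀ a, G.c.appTop.hom (G.t.appTop.hom a) =
      (pullback.fst G.s G.t).appTop.hom (G.t.appTop.hom a) := by
    intro a
    rw [← appTop_comp_apply, hct', appTop_comp_apply]
  have hp : ∀ a, (pullback.fst G.s G.t).appTop.hom (G.s.appTop.hom a) =
      (pullback.snd G.s G.t).appTop.hom (G.t.appTop.hom a) := by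
    intro a
    rw [← appTop_comp_apply, pullback.condition, appTop_comp_apply]
  have hpush := (isPushout_appTop_of_isPullback (IsPullback.of_hasPullback G.s G.t)).flip
  have hLI := linearIndependent_of_isPushout G.t.appTop.hom (pullback.fst G.s G.t).appTop.hom
    (pullback.snd G.s G.t).appTop.hom hpush (fun i => G.t.appTop.hom (x i)) b hb
  exact ⟨exists_basis G.t.appTop.hom G.e.appTop.hom hes het _ _ G.c.appTop.hom hct hcs hp x b hb hLI,
    bijective_phi G.t.appTop.hom G.e.appTop.hom hes het _ _ G.c.appTop.hom hct hcs hp x b hb hLI⟩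

end Groth.Agent.S7486
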