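import Groth.Statements.S7487
import Groth.Agent.Lib.Helper37.GroupoidInvBaseChange

set_option autoImplicit false
set_option linter.style.haveILetI false
universe u
open CategoryTheory CategoryTheory.Limits AlgebraicGeometry
open Grpd

namespace Groth.Agent.S7487
open Groth.Agent.Lib.Helper37

/-- Let (U, R, s, t, c) be a groupoid scheme over S with U = Spec A and R = Spec B affine and s, t
finite locally free; let C be the subring of R-invariant functions of A and C -> C' a ring map. Put
A' = A (x)_C C' and B' = B (x)_C C' (B a C-algebra through s^#) and let C^1 be the subring of A'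
where the two maps s^# (x) 1, t^# (x) 1 : A' -> B' agree; the structure map C' -> A' lands in C^1,
giving φ : C' -> C^1. Then: (a) for every f in C^1 there are n > 0 and a polynomial P over C' whose
image in A'[x] is (x - f)^n; (b) every element of the kernel of φ is nilpotent; (c) if C -> C' is
flat then φ is bijective, that is C' -> A' is injective with image C^1. (The published statement
also asserts that the base change is again a groupoid scheme; this row omits that clause.) (A
groupoid scheme carries U, R, s, t, c, e, i over S with the groupoid axioms on T-points; c is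
defined on the fibre product of s and t and sends a pair (a, b) with s(a) = t(b) to a composed with
b.) -/
theorem result (S : Scheme.{u}) (G : Grpd.GroupoidScheme S) [IsAffine G.U] [IsAffine G.R] [IsFinite G.s] [Flat G.s] [LocallyOfFinitePresentation G.s] [IsFinite G.t] [Flat G.t] [LocallyOfFinitePresentation G.t] (C' : Type u) [CommRing C'] [Algebra G.invariants C'] : letI : Algebra G.invariants Γ(G.R, ⊤) := (G.s.appTop.hom.comp G.invariants.subtype).toAlgebra; ∀ (sT tT : TensorProduct G.invariants Γ(G.U, ⊤) C' →ₐ[G.invariants] TensorProduct G.invariants Γ(G.R, ⊤) C'), (∀ (a : Γ(G.U, ⊤)) (c : C'), sT (a ⊗ₜ c) = G.s.appTop.hom a ⊗ₜ c) → (∀ (a : Γ(G.U, ⊤)) (c : C'), tT (a ⊗ₜ c) = G.t.appTop.hom a ⊗ₜ c) → (∀ f : TensorProduct G.invariants Γ(G.U, ⊤) C', sT f = tT f → ∃ (n : ℕ) (P : Polynomial C'), 0 < n ∧ Polynomial.map (Algebra.TensorProduct.includeRight : C' →ₐ[G.invariants] TensorProduct G.invariants Γ(G.U, ⊤) C').toRingHom P = (Polynomial.X - Polynomial.C f) ^ n) ∧ (∀ c : C', (Algebra.TensorProduct.includeRight : C' →ₐ[G.invariants]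 TensorProduct G.invariants Γ(G.U, ⊤) C') c = 0 → IsNilpotent c) ∧ (Module.Flat G.invariants C' → Function.Injective (Algebra.TensorProduct.includeRight : C' →ₐ[G.invariants] TensorProduct G.invariants Γ(G.U, ⊤) C') ∧ ∀ f : TensorProduct G.invariants Γ(G.U, ⊤) C', sT f = tT f → f ∈ Set.range (Algebra.TensorProduct.includeRight : C' →ₐ[G.invariants] TensorProduct G.invariants Γ(G.U, ⊤) C')) := by
  letI algAB : Algebra Γ(G.U, ⊤) Γ(G.R, ⊤) := G.s.appTop.hom.toAlgebra
  letI algCB : Algebra G.invariants Γ(G.R, ⊤) :=
    (G.s.appTop.hom.comp G.invariants.subtype).toAlgebra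
  intro sT tT hs ht
  haveI : IsScalarTower G.invariants Γ(G.U, ⊤) Γ(G.R, ⊤) :=
    IsScalarTower.of_algebraMap_eq (fun z => rfl)
  have hCs : ∀ a : Γ(G.U, ⊤), a ∈ G.invariants ↔
      algebraMap Γ(G.U, ⊤) Γ(G.R, ⊤) a = G.t.appTop.hom a := fun a => Iff.rfl
  refine ⟨?_, ?_, ?_⟩
  · intro f hf
    have hfin : Module.Finite Γ(G.U, ⊤) Γ(G.R, ⊤) := G.s.finite_appTop
    have hflat : Module.Flat Γ(G.U, ⊤) Γ(G.R, ⊤) :=
      (HasRingHomProperty.iff_of_isAffine (P := @Flat) (f := G.s)).mp inferInstance
    have hfp : Algebra.FinitePresentation Γ(G.U, ⊤) Γ(G.R, ⊤) :=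
      (HasRingHomProperty.iff_of_isAffine (P := @LocallyOfFinitePresentation) (f := G.s)).mp
        inferInstance
    have hmfp : Module.FinitePresentation Γ(G.U, ⊤) Γ(G.R, ⊤) :=
      Module.FinitePresentation.of_finite_of_finitePresentation _ _
    have hproj : Module.Projective Γ(G.U, ⊤) Γ(G.R, ⊤) :=
      Module.Flat.projective_of_finitePresentation
    obtain ⟨n, r, i, -, -, hri⟩ :=
      Module.Finite.exists_comp_eq_id_of_projective Γ(G.U, ⊤) Γ(G.R, ⊤)
    have hr : ∀ x, r (i x) = x := fun x => LinearMap.congr_fun hri x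
    have hes : ∀ a, G.e.appTop.hom (algebraMap Γ(G.U, ⊤) Γ(G.R, ⊤) a) = a := by
      intro a
      change G.e.appTop.hom (G.s.appTop.hom a) = a
      rw [← appTop_comp_apply', G.e_s, Scheme.Hom.id_appTop]; rfl
    have hpt := (isPushout_appTop_of_isPullback (IsPullback.of_hasPullback G.s G.t)).flip
    have hps := (isPushout_appTop_of_isPullback (isPullback_c_snd G)).flip
    have hct : ∀ a, G.c.appTop.hom (G.t.appTop.hom a) =
        (pullback.fst G.s G.t).appTop.hom (G.t.appTop.hom a) := by
      intro a
      rw [← appTop_comp_apply', c_t, appTop_comp_apply']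
    exact exists_poly_pow_of_invariant i r G.t.appTop.hom G.e.appTop.hom hes G.c.appTop.hom
      (pullback.fst G.s G.t).appTop.hom (pullback.snd G.s G.t).appTop.hom hps hpt hct hr
      G.invariants hCs C' sT.toLinearMap tT.toLinearMap hs ht f hf
  · intro c hc
    haveI := isIntegral_invariants G
    exact isNilpotent_of_includeRight_eq_zero (Cs := G.invariants) (A := Γ(G.U, ⊤))
      Subtype.val_injective C' c hc
  · intro hflat
    exact flat_invariants G.t.appTop.hom G.invariants hCs C' sT.toLinearMap tT.toLinearMap hs ht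

end Groth.Agent.S7487
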