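import Groth.Statements.S7490
import Mathlib.CategoryTheory.Sites.RegularEpi

set_option autoImplicit false
open CategoryTheory CategoryTheory.Limits AlgebraicGeometry
universe u
open QuotSh

namespace Groth.Agent.S7490


section general

variable {E : Type*} [Category E] [IsRegularEpiCategory E]

/-- In a category in which epimorphisms are regular: if `(a, b)` is the kernel pair of an
epimorphism `f` and `e` is an epimorphism onto the kernel pair, then `f` is the coequalizer of
`e ≫ a` and `e ≫ b`. -/
theorem isIso_coequalizer_desc_of_epi_kernelPair {R P A B : E} {a b : P ⟶ A} {f : A ⟶ B} [Epi f]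
    (k : IsKernelPair f a b) (e : R ⟶ P) [Epi e]
    (r₁ r₂ : R ⟶ A) (h₁ : e ≫ a = r₁) (h₂ : e ≫ b = r₂) [HasCoequalizer r₁ r₂]
    (w : r₁ ≫ f = r₂ ≫ f) :
    IsIso (coequalizer.desc f w) := by
  subst h₁ h₂
  have : IsRegularEpi f := IsRegularEpiCategory.regularEpiOfEpi f
  have hk : IsColimit (Cofork.ofπ f k.w) := k.toCoequalizer'
  have hcolim : IsColimit (Cofork.ofπ f w) := by
    refine Cofork.IsColimit.mk _
      (fun s => Cofork.IsColimit.desc hk s.π ?_) (fun s => ?_) (fun s m hm => ?_)
    · have := s.condition
      rw [Category.assoc, Category.assoc] at this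
      exact (cancel_epi e).mp this
    · exact Cofork.IsColimit.π_desc' hk _ _
    · apply Cofork.IsColimit.hom_ext hk
      exact hm.trans (Cofork.IsColimit.π_desc' hk _ _).symm
  have : coequalizer.desc f w =
      ((colimit.isColimit (parallelPair (e ≫ a) (e ≫ b))).coconePointUniqueUpToIso hcolim).hom := by
    apply coequalizer.hom_ext
    simp only [coequalizer.π_desc]
    exact ((colimit.isColimit (parallelPair (e ≫ a) (e ≫ b))).comp_coconePointUniqueUpToIso_hom hcolim
      WalkingParallelPair.one).symm
  rw [this]
  infer_instance

end general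

variable (K : Precoverage Scheme.{u}) {S : Scheme.{u}}

/-- The functor `V ↦ h_V`. -/
noncomputable def repFunctor : Over S ⥤ QuotSh.Sh K S :=
  yoneda ⋙ (Functor.whiskeringRight _ _ _).obj uliftFunctor.{u + 1, u} ⋙
    presheafToSheaf (QuotSh.J K S) (Type (u + 1))

theorem repFunctor_map {V W : Over S} (g : V ⟶ W) : (repFunctor K).map g = QuotSh.repMap K g := rfl

instance : PreservesLimitsOfShape WalkingCospan (repFunctor K (S := S)) := by
  unfold repFunctor
  infer_instance

/-- Let K be a precoverage on schemes (the topology τ), S a scheme, s, t : R -> U morphisms of schemes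
over S (a pre-relation) and q : U -> M a morphism over S such that (1) q coequalizes s and t, (2)
the induced map of τ-sheaves h_U -> h_M is an epimorphism, and (3) the map h_R -> h_(U x_M U)
induced by (t, s) is an epimorphism of τ-sheaves. Then M, through q, represents the quotient sheaf
U/R: the canonical map from the coequalizer of h_s, h_t to h_M is an isomorphism. (The published
statement takes τ to be the Zariski, étale, fppf, smooth or syntomic topology; this row allows the
topology generated by any precoverage K.) -/
theorem result (K : Precoverage Scheme.{u}) {S : Scheme.{u}} {R U M : Over S} (s t : R ⟶ U) (q : U ⟶ M) (w : s ≫ q = t ≫ q) (w' : t.left ≫ q.left = s.left ≫ q.left) (h₂ : Epi (QuotSh.repMap K q)) (h₃ : Epi (QuotSh.repMap K (Over.homMk (pullback.lift t.left s.left w') (((Category.assoc _ _ _).symm.trans (congrArg (fun k => k ≫ U.hom) (pullback.lift_fst t.left s.left w'))).trans (Over.w t)) : R ⟶ Over.mk (pullback.fst q.left q.left ≫ U.hom)))) : QuotSh.IsQuotient K s t q := by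
  refine ⟨w, ?_⟩
  let P : Over S := Over.mk (pullback.fst q.left q.left ≫ U.hom)
  let fst' : P ⟶ U := Over.homMk (pullback.fst q.left q.left) rfl
  let snd' : P ⟶ U := Over.homMk (pullback.snd q.left q.left) (by
    change pullback.snd q.left q.left ≫ U.hom = pullback.fst q.left q.left ≫ U.hom
    rw [← Over.w q, ← Category.assoc, ← Category.assoc, pullback.condition])
  have hpb : IsPullback fst' snd' q q := by
    refine IsPullback.of_map (Over.forget S) (by ext; exact pullback.condition) ?_
    exact IsPullback.of_hasPullback q.left q.left
  have hpb' : IsPullback (repMap K fst') (repMap K snd') (repMap K q) (repMap K q) :=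
    hpb.map (repFunctor K)
  let e : R ⟶ P := Over.homMk (pullback.lift t.left s.left w')
    (((Category.assoc _ _ _).symm.trans
      (congrArg (fun k => k ≫ U.hom) (pullback.lift_fst t.left s.left w'))).trans (Over.w t))
  have he1 : e ≫ fst' = t := by ext; exact pullback.lift_fst _ _ _
  have he2 : e ≫ snd' = s := by ext; exact pullback.lift_snd _ _ _
  have : Epi (repMap K e) := h₃
  unfold quotDesc
  refine isIso_coequalizer_desc_of_epi_kernelPair (k := hpb'.flip) (repMap K e)
    (repMap K s) (repMap K t) ?_ ?_ _
  · exact ((repFunctor K).map_comp e snd').symm.trans (congrArg (repFunctor K).map he2)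
  · exact ((repFunctor K).map_comp e fst').symm.trans (congrArg (repFunctor K).map he1)

end Groth.Agent.S7490
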