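import Groth.Statements.S7494
-- import your own Groth.Agent.* helpers here

set_option autoImplicit false
universe u
open CategoryTheory MonoidalCategory CartesianMonoidalCategory MonObj GrpObj AlgebraicGeometry
open AlgGrp

namespace Groth.Agent.S7494

/-- Let G be a group scheme over S acting on a scheme X over S by a. The action is free, meaning that
for every scheme T over S and all T-points g of G and x of X with g · x = x one has g = 1, if and
only if the morphism G x_S X -> X x_S X, (g, x) ↦ (a(g, x), x), is a monomorphism of schemes. -/
theorem result {S : Scheme.{u}} (G X : Over S) [GrpObj G] (a : AlgGrp.Action G X) : (∀ (T : Over S) (g : T ⟶ G) (x : T ⟶ X), lift g x ≫ a.act = x → g = toUnit T ≫ η[G]) ↔ Mono (lift a.act (snd G X)).left := by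
  have one_act' : ∀ (T : Over S) (x : T ⟶ X), lift (toUnit T ≫ η[G]) x ≫ a.act = x := by
    intro T x
    have : lift (toUnit T ≫ η[G]) x = lift (toUnit T) x ≫ (η[G] ▷ X) := by simp
    rw [this, Category.assoc, a.one_act]
    simp
  have mul_act' : ∀ (T : Over S) (g h : T ⟶ G) (x : T ⟶ X),
      lift (g * h) x ≫ a.act = lift g (lift h x ≫ a.act) ≫ a.act := by
    intro T g h x
    have : lift (g * h) x = lift (lift g h) x ≫ (μ[G] ▷ X) := by
      rw [Hom.mul_def]
      simp
    rw [this, Category.assoc, a.mul_act]
    simp
  have hmono : Mono (lift a.act (snd G X)).left ↔ Mono (lift a.act (snd G X)) := by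
    constructor
    · intro h
      exact (Over.forget S).mono_of_mono_map h
    · intro h
      infer_instance
  rw [hmono]
  constructor
  · intro hfree
    refine ⟨fun {T} p q hpq => ?_⟩
    have h1 := congrArg (· ≫ fst X X) hpq
    have h2 := congrArg (· ≫ snd X X) hpq
    simp only [Category.assoc, lift_fst, lift_snd] at h1 h2
    have hp : lift (p ≫ fst G X) (p ≫ snd G X) = p := by
      apply CartesianMonoidalCategory.hom_ext <;> simp
    have hq : lift (q ≫ fst G X) (p ≫ snd G X) = q := by
      apply CartesianMonoidalCategory.hom_ext <;> simp [h2]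
    have key : ∀ (g h : T ⟶ G) (x : T ⟶ X),
        lift g x ≫ a.act = lift h x ≫ a.act → g = h := by
      intro g h x hgh
      have key : h⁻¹ * g = toUnit T ≫ η[G] := by
        apply hfree T _ x
        rw [mul_act', hgh, ← mul_act', inv_mul_cancel, Hom.one_def, one_act']
      have := congrArg (fun t => h * t) key
      simp only [mul_inv_cancel_left] at this
      rw [this, ← Hom.one_def, _root_.mul_one]
    have hgh : p ≫ fst G X = q ≫ fst G X :=
      key _ _ (p ≫ snd G X) (by rw [hp, hq]; exact h1)
    exact CartesianMonoidalCategory.hom_ext _ _ hgh h2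
  · intro hm T g x hgx
    have h1 : lift g x ≫ lift a.act (snd G X) =
        lift (toUnit T ≫ η[G]) x ≫ lift a.act (snd G X) := by
      apply CartesianMonoidalCategory.hom_ext
      · simp [hgx, one_act']
      · simp
    have h2 := (cancel_mono (lift a.act (snd G X))).mp h1
    have := congrArg (· ≫ fst G X) h2
    simpa using this

end Groth.Agent.S7494
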