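import Groth.Statements.S7495
import Mathlib.Tactic
import Groth.Agent.Lib.Helper62.PerfectReduced

set_option autoImplicit false
universe u
open CategoryTheory MonoidalCategory CartesianMonoidalCategory MonObj GrpObj AlgebraicGeometry
open GrpSch

namespace Groth.Agent.S7495

/-- Let k be a perfect field of positive characteristic and G a group scheme locally of finite type over
k whose underlying scheme is reduced. Then G -> Spec k is smooth. -/
theorem result (K : Type u) [Field K] [PerfectField K] (hK : ringChar K ≠ 0) (G : Over (Spec (CommRingCat.of K))) [GrpObj G] [LocallyOfFiniteType G.hom] [IsReduced G.left] : Smooth G.hom := by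
  have hprime : (ringChar K).Prime :=
    (CharP.char_is_prime_or_zero K (ringChar K)).resolve_right hK
  have : Fact (ringChar K).Prime := ⟨hprime⟩
  have : CharP K (ringChar K) := ringChar.charP K
  have : PerfectRing K (ringChar K) := inferInstance
  have : GeometricallyReduced G.hom :=
    Groth.Agent.Lib.Helper62.geometricallyReduced_of_isReduced_of_perfect_charP (ringChar K) G.hom
  have : GrpObj (Over.mk G.hom) := (inferInstance : GrpObj G)
  exact smooth_of_grpObj G.hom

end Groth.Agent.S7495
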