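import Groth.Statements.S7496
-- import your own Groth.Agent.* helpers here

set_option autoImplicit false
universe w u
open CategoryTheory CategoryTheory.Limits AlgebraicGeometry
open HTop

namespace Groth.Agent.S7496

/-- Let T be a quasi-separated scheme and {f_i : T_i -> T} a family of morphisms. Then every affine open
of T is the union of the images of finitely many quasi-compact opens of the T_i (the
quasi-compactness condition in the definition of an fpqc covering) if and only if for every point t
of T there are finitely many quasi-compact opens U_j of members T_(i_j) such that the union of the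
f_(i_j)(U_j) is a neighbourhood of t. (The published statement also asks every f_i to be flat, on
both sides, and lists two more equivalent forms of the quasi-compactness condition; this row omits
flatness, which plays no part in the equivalence, and states only the equivalence of the
quasi-compactness condition with the neighbourhood condition.) -/
theorem result {T : Scheme.{u}} [QuasiSeparatedSpace T] (E : PreZeroHypercover.{w} T) : QuasiCompactCover E ↔ ∀ t : T, ∃ (n : ℕ) (i : Fin n → E.I₀) (V : ∀ j, (E.X (i j)).Opens), (∀ j, IsCompact (V j : Set (E.X (i j)))) ∧ (⋃ j, ⇑(E.f (i j)) '' (V j : Set (E.X (i j)))) ∈ nhds t := by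
  constructor
  · intro h t
    obtain ⟨U, hU, htU, -⟩ := TopologicalSpace.Opens.isBasis_iff_nbhd.mp T.isBasis_affineOpens
      (TopologicalSpace.Opens.mem_top t)
    obtain ⟨n, a, V, hV, heq⟩ :=
      QuasiCompactCover.exists_isAffineOpen_of_isCompact E (IsAffineOpen.isCompact hU)
    refine ⟨n, a, V, fun j => (hV j).isCompact, ?_⟩
    rw [heq]
    exact U.2.mem_nhds htU
  · intro h
    refine ⟨fun {U} hU => ?_⟩
    refine .of_isCompact_of_forall_exists_isCompactOpenCovered hU.isCompact fun x hxU => ?_
    obtain ⟨n, i, V, hV, hN⟩ := h x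
    have hopen : IsOpen (interior (⋃ j, ⇑(E.f (i j)) '' (V j : Set (E.X (i j)))) ∩ (U : Set T)) :=
      isOpen_interior.inter U.2
    obtain ⟨W, hW, hxW, hWsub⟩ := TopologicalSpace.Opens.isBasis_iff_nbhd.mp T.isBasis_affineOpens
      (U := ⟨_, hopen⟩) (x := x) ⟨mem_interior_iff_mem_nhds.mpr hN, hxU⟩
    have hWsub' : (W : Set T) ⊆
        interior (⋃ j, ⇑(E.f (i j)) '' (V j : Set (E.X (i j)))) ∩ (U : Set T) := hWsub
    refine ⟨W, hWsub'.trans Set.inter_subset_right, hxW, W.2, ?_⟩
    refine .of_finite i (fun j => V j ⊓ E.f (i j) ⁻¹ᵁ W) (fun j => ?_) ?_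
    · -- compactness: `V j → T` is quasi-compact
      have : CompactSpace (V j : Scheme.{u}) := isCompact_iff_compactSpace.mp (hV j)
      have hqc : QuasiCompact ((V j).ι ≫ E.f (i j)) := inferInstance
      have hc : IsCompact (((V j).ι ≫ E.f (i j)) ⁻¹ᵁ W : Set (V j : Scheme.{u})) :=
        Scheme.Hom.isCompact_preimage _ (IsAffineOpen.isCompact hW)
      have := hc.image (V j).ι.continuous
      convert this using 1
      ext y
      constructor
      · rintro ⟨hy1, hy2⟩
        exact ⟨⟨y, hy1⟩, hy2, rfl⟩
      · rintro ⟨z, hz, rfl⟩
        exact ⟨z.2, hz⟩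
    · apply subset_antisymm
      · rintro y hy
        simp only [Set.mem_iUnion] at hy
        obtain ⟨j, z, hz, rfl⟩ := hy
        exact hz.2
      · intro y hy
        have h1 := interior_subset (hWsub' hy).1
        simp only [Set.mem_iUnion] at h1 ⊢
        obtain ⟨j, z, hz, rfl⟩ := h1
        exact ⟨j, z, ⟨hz, hy⟩, rfl⟩

end Groth.Agent.S7496
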