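import Groth.Statements.S7497
import Mathlib.AlgebraicGeometry.Sites.Fpqc

set_option autoImplicit false
universe u
open CategoryTheory CategoryTheory.Limits AlgebraicGeometry
open HTop

namespace Groth.Agent.S7497

/-- Let {f_i : T_i -> T} be a family of flat morphisms of schemes and {g_j : S_j -> T} an fpqc covering
such that for every j the family of base changes {S_j x_T T_i -> S_j} is an fpqc covering. Then {f_i
: T_i -> T} is an fpqc covering. (fpqc coverings are Mathlib's: flat, jointly surjective, every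
affine open of the target covered by images of finitely many quasi-compact opens.) -/
theorem result {T : Scheme.{u}} (E : PreZeroHypercover.{u} T) (hflat : ∀ i, Flat (E.f i)) (𝒱 : Scheme.Cover Scheme.fpqcPrecoverage T) (hloc : ∀ j, (E.pullback₁ (𝒱.f j)).presieve₀ ∈ Scheme.fpqcPrecoverage (𝒱.X j)) : E.presieve₀ ∈ Scheme.fpqcPrecoverage T := by
  -- the composite covering
  let 𝒲 : Scheme.Cover Scheme.fpqcPrecoverage T :=
    Precoverage.ZeroHypercover.bind 𝒱 (fun j => ⟨E.pullback₁ (𝒱.f j), hloc j⟩)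
  have hqc : QuasiCompactCover 𝒲.toPreZeroHypercover :=
    Scheme.presieve₀_mem_qcPrecoverage_iff.mp 𝒲.mem₀.1
  -- it refines `E`
  let φ : 𝒲.toPreZeroHypercover.Hom E :=
    { s₀ := fun p => p.2
      h₀ := fun p => pullback.snd (𝒱.f p.1) (E.f p.2)
      w₀ := fun p => pullback.condition.symm }
  have hqcE : QuasiCompactCover E := QuasiCompactCover.of_hom φ
  refine ⟨Scheme.presieve₀_mem_qcPrecoverage_iff.mpr hqcE,
    (Scheme.presieve₀_mem_precoverage_iff _).mpr ⟨fun x => ?_, hflat⟩⟩
  obtain ⟨p, y, hy⟩ := ((Scheme.presieve₀_mem_precoverage_iff _).mp 𝒲.mem₀.2).1 x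
  exact ⟨φ.s₀ p, φ.h₀ p y, by rw [← Scheme.Hom.comp_apply, φ.w₀, hy]⟩

end Groth.Agent.S7497
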