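import Groth.Statements.S7498
import Groth.Agent.Lib.Helper37.GroupoidTranslate
import Mathlib.AlgebraicGeometry.PullbackCarrier
import Mathlib.AlgebraicGeometry.ResidueField

set_option autoImplicit false
universe u
open CategoryTheory CategoryTheory.Limits AlgebraicGeometry
open Grpd

namespace Groth.Agent.S7498

/-- Let (U, R, s, t, c) be a groupoid scheme over S and r, r' points of R with t(r) = t(r'); put u =
s(r), u' = s(r') and let F_u, F_u' be the scheme-theoretic fibres of s. Then there are a field k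
which is a common extension of κ(u) and κ(u') (morphisms a, b : Spec k -> U with images u, u') and
an isomorphism of the base changes (F_u)_k and (F_u')_k over Spec k, which moreover can be chosen to
send some point lying over r to a point lying over r'. (The published statement also compares the
germs of s at r and at r' when s and t are flat or flat of finite presentation; this row omits
that.) (A groupoid scheme carries U, R, s, t, c, e, i over S with the groupoid axioms on T-points; c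
is defined on the fibre product of s and t and sends a pair (a, b) with s(a) = t(b) to a composed
with b.) -/
theorem result (S : Scheme.{u}) (G : Grpd.GroupoidScheme S) (r r' : G.R) (h : G.t r = G.t r') : ∃ (k : Type u) (_ : Field k) (a b : Spec (CommRingCat.of k) ⟶ G.U) (φ : pullback G.s a ≅ pullback G.s b) (p : ↑(pullback G.s a)), a (IsLocalRing.closedPoint k) = G.s r ∧ b (IsLocalRing.closedPoint k) = G.s r' ∧ φ.hom ≫ pullback.snd G.s b = pullback.snd G.s a ∧ pullback.fst G.s a p = r ∧ pullback.fst G.s b (φ.hom p) = r' := by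
  obtain ⟨z, hz₁, hz₂⟩ := Scheme.Pullback.exists_preimage_pullback (f := G.t) (g := G.t) r r' h
  -- the two `k`-points of `R`
  obtain ⟨ρ, hρ⟩ : ∃ ρ : Spec ((pullback G.t G.t).residueField z) ⟶ G.R,
      ρ = (pullback G.t G.t).fromSpecResidueField z ≫ pullback.fst G.t G.t := ⟨_, rfl⟩
  obtain ⟨ρ', hρ'⟩ : ∃ ρ' : Spec ((pullback G.t G.t).residueField z) ⟶ G.R,
      ρ' = (pullback G.t G.t).fromSpecResidueField z ≫ pullback.snd G.t G.t := ⟨_, rfl⟩
  have hρt : ρ' ≫ G.t = ρ ≫ G.t := by
    rw [hρ, hρ', Category.assoc, Category.assoc, pullback.condition]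
  have hρpt : ρ (IsLocalRing.closedPoint ((pullback G.t G.t).residueField z)) = r := by
    rw [hρ, Scheme.Hom.comp_apply, Scheme.fromSpecResidueField_apply, hz₁]
  have hρ'pt : ρ' (IsLocalRing.closedPoint ((pullback G.t G.t).residueField z)) = r' := by
    rw [hρ', Scheme.Hom.comp_apply, Scheme.fromSpecResidueField_apply, hz₂]
  obtain ⟨φ, hφ₁, h₁, hφ₂⟩ := Groth.Agent.Lib.Helper37.exists_iso_pullback_s G
    (ρ ≫ G.s) (ρ' ≫ G.s) (Groth.Agent.Lib.Helper37.dif G ρ' ρ hρt)
    (Groth.Agent.Lib.Helper37.dif_t G ρ' ρ hρt) (Groth.Agent.Lib.Helper37.dif_s G ρ' ρ hρt)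
  -- the section through `ρ`
  obtain ⟨σ, hσ₁, hσ₂⟩ : ∃ σ : Spec ((pullback G.t G.t).residueField z) ⟶
      pullback G.s (ρ ≫ G.s), σ ≫ pullback.fst _ _ = ρ ∧ σ ≫ pullback.snd _ _ = 𝟙 _ :=
    ⟨pullback.lift ρ (𝟙 _) (by rw [Category.id_comp]), pullback.lift_fst _ _ _,
      pullback.lift_snd _ _ _⟩
  have hσφ : σ ≫ φ.hom ≫ pullback.fst G.s (ρ' ≫ G.s) = ρ' := by
    rw [hφ₂, Groth.Agent.Lib.Helper37.precomp_gcomp]
    have e1 : σ ≫ pullback.fst G.s (ρ ≫ G.s) = ρ := hσ₁
    have e2 : σ ≫ (pullback.snd G.s (ρ ≫ G.s) ≫ Groth.Agent.Lib.Helper37.dif G ρ' ρ hρt) ≫ G.i =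
        Groth.Agent.Lib.Helper37.dif G ρ' ρ hρt ≫ G.i := by
      rw [← Category.assoc, ← Category.assoc, hσ₂, Category.id_comp]
    rw [Groth.Agent.Lib.Helper37.gcomp_congr G e1 e2 _
      (by rw [Category.assoc, G.i_t, Groth.Agent.Lib.Helper37.dif_s])]
    exact Groth.Agent.Lib.Helper37.gcomp_dif_i G ρ' ρ hρt _ rfl _
  refine ⟨(pullback G.t G.t).residueField z, inferInstance, ρ ≫ G.s, ρ' ≫ G.s, φ,
    σ (IsLocalRing.closedPoint ((pullback G.t G.t).residueField z)), ?_, ?_, hφ₁, ?_, ?_⟩
  · rw [Scheme.Hom.comp_apply]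
    exact congrArg _ hρpt
  · rw [Scheme.Hom.comp_apply]
    exact congrArg _ hρ'pt
  · rw [← Scheme.Hom.comp_apply, hσ₁]
    exact hρpt
  · rw [← Scheme.Hom.comp_apply, ← Scheme.Hom.comp_apply, hσφ]
    exact hρ'pt

end Groth.Agent.S7498
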