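import Groth.Statements.S7500
import Groth.Agent.Lib.Helper37.GroupoidStab

set_option autoImplicit false
universe u
open CategoryTheory CategoryTheory.Limits AlgebraicGeometry
open Grpd
open Groth.Agent.Lib.Helper37

namespace Groth.Agent.S7500

/-- The statement with `stabilizer`, `stabilizerToU` unfolded. -/
theorem aux (S : Scheme.{u}) (G : Grpd.GroupoidScheme S)
    (α : pullback (pullback.snd G.j G.diag) G.t ⟶ pullback G.s G.t)
    (hα₁ : α ≫ pullback.fst G.s G.t =
      pullback.fst (pullback.snd G.j G.diag) G.t ≫ pullback.fst G.j G.diag)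
    (hα₂ : α ≫ pullback.snd G.s G.t = pullback.snd (pullback.snd G.j G.diag) G.t)
    (β : pullback (pullback.snd G.j G.diag) G.t ⟶ pullback G.j G.j)
    (hβ₁ : β ≫ pullback.fst G.j G.j = α ≫ G.c)
    (hβ₂ : β ≫ pullback.snd G.j G.j = pullback.snd (pullback.snd G.j G.diag) G.t) :
    IsIso β := by
  -- names for the `T`-points involved
  have hγs : (pullback.fst (pullback.snd G.j G.diag) G.t ≫ pullback.fst G.j G.diag) ≫ G.s =
      pullback.snd (pullback.snd G.j G.diag) G.t ≫ G.t := by
    rw [Category.assoc, stab_s, ← pullback.condition]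
  have hαc : α ≫ G.c =
      gcomp G (pullback.fst (pullback.snd G.j G.diag) G.t ≫ pullback.fst G.j G.diag)
      (pullback.snd (pullback.snd G.j G.diag) G.t) hγs := by
    rw [comp_c]
    exact gcomp_congr G hα₁ hα₂ _ _
  rw [hαc] at hβ₁
  -- points of `R ×_{j,j} R`
  obtain ⟨hQt, hQs⟩ := (comp_j_eq_iff G _ _).mp (pullback.condition (f := G.j) (g := G.j))
  have h₁ : pullback.fst G.j G.j ≫ G.s = (pullback.snd G.j G.j ≫ G.i) ≫ G.t := by
    rw [Category.assoc, G.i_t, hQs]
  have hstab : gcomp G (pullback.fst G.j G.j) (pullback.snd G.j G.j ≫ G.i) h₁ ≫ G.j =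
      (pullback.fst G.j G.j ≫ G.t) ≫ G.diag := by
    rw [comp_j_eq_comp_diag_iff]
    refine ⟨gcomp_t G _ _ _, ?_⟩
    rw [gcomp_s, Category.assoc, G.i_s, hQt]
  obtain ⟨σ, hσ₁, hσ₂⟩ : ∃ σ : pullback G.j G.j ⟶ pullback G.j G.diag,
      σ ≫ pullback.fst G.j G.diag =
        gcomp G (pullback.fst G.j G.j) (pullback.snd G.j G.j ≫ G.i) h₁ ∧
      σ ≫ pullback.snd G.j G.diag = pullback.fst G.j G.j ≫ G.t :=
    ⟨pullback.lift _ _ hstab, pullback.lift_fst _ _ _, pullback.lift_snd _ _ _⟩
  have hP : σ ≫ pullback.snd G.j G.diag = pullback.snd G.j G.j ≫ G.t := by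
    rw [hσ₂, hQt]
  obtain ⟨ψ, hψ₁, hψ₂⟩ : ∃ ψ : pullback G.j G.j ⟶ pullback (pullback.snd G.j G.diag) G.t,
      ψ ≫ pullback.fst (pullback.snd G.j G.diag) G.t = σ ∧
      ψ ≫ pullback.snd (pullback.snd G.j G.diag) G.t = pullback.snd G.j G.j :=
    ⟨pullback.lift _ _ hP, pullback.lift_fst _ _ _, pullback.lift_snd _ _ _⟩
  refine ⟨ψ, ?_, ?_⟩
  · apply pullback.hom_ext
    · rw [Category.assoc, hψ₁, Category.id_comp]
      apply pullback.hom_ext
      · rw [Category.assoc, hσ₁, precomp_gcomp]
        rw [gcomp_congr G hβ₁ (by rw [← Category.assoc, hβ₂]) _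
          (by rw [gcomp_s, Category.assoc, G.i_t])]
        exact gcomp_gcomp_i G _ _ hγs _
      · rw [Category.assoc, hσ₂, ← Category.assoc, hβ₁, gcomp_t, Category.assoc, stab_t]
    · rw [Category.assoc, hψ₂, hβ₂, Category.id_comp]
  · apply pullback.hom_ext
    · rw [Category.assoc, hβ₁, precomp_gcomp, Category.id_comp]
      have e1 : ψ ≫ pullback.fst (pullback.snd G.j G.diag) G.t ≫ pullback.fst G.j G.diag =
          gcomp G (pullback.fst G.j G.j) (pullback.snd G.j G.j ≫ G.i) h₁ := by
        rw [← Category.assoc, hψ₁, hσ₁]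
      rw [gcomp_congr G e1 hψ₂ _ (by rw [gcomp_s, Category.assoc, G.i_s])]
      exact gcomp_i_gcomp' G _ _ hQs h₁ _
    · rw [Category.assoc, hβ₂, hψ₂, Category.id_comp]

/-- Let (U, R, s, t, c) be a groupoid scheme over S and G -> U its stabilizer group scheme (the base
change of j = (t, s) along the diagonal). The action of G on R by composition, base changed to G_0 =
G x_(U, pr_0) (U x_S U), makes R a pseudo G_0-torsor over U x_S U. Concretely: let α : G x_(U, t) R
-> R x_(s, U, t) R be the morphism with components (γ viewed in R, r) and β : G x_(U, t) R -> R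
x_(j, U x_S U, j) R the morphism with components (c ∘ α, r); then β is an isomorphism. (A groupoid
scheme carries U, R, s, t, c, e, i over S with the groupoid axioms on T-points; c is defined on the
fibre product of s and t and sends a pair (a, b) with s(a) = t(b) to a composed with b.) -/
theorem result (S : Scheme.{u}) (G : Grpd.GroupoidScheme S) (α : pullback G.stabilizerToU G.t ⟶ pullback G.s G.t) (hα₁ : α ≫ pullback.fst G.s G.t = pullback.fst G.stabilizerToU G.t ≫ pullback.fst G.j G.diag) (hα₂ : α ≫ pullback.snd G.s G.t = pullback.snd G.stabilizerToU G.t) (β : pullback G.stabilizerToU G.t ⟶ pullback G.j G.j) (hβ₁ : β ≫ pullback.fst G.j G.j = α ≫ G.c) (hβ₂ : β ≫ pullback.snd G.j G.j = pullback.snd G.stabilizerToU G.t) : IsIso β := by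
  exact aux S G α hα₁ hα₂ β hβ₁ hβ₂

end Groth.Agent.S7500
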