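import Groth.Statements.S7502
import Groth.Agent.Lib.Helper49.PullbackSections
import Groth.Agent.Lib.Helper49.CohNoeth
import Groth.Agent.Lib.Helper18.LimModFlat
import Groth.Agent.Lib.Helper16.FlatPull.Chart
import Groth.Agent.Lib.Helper49.QCohLocal
import Groth.Agent.Lib.Helper49.QcqsModules

set_option autoImplicit false
universe u
open CategoryTheory CategoryTheory.Limits AlgebraicGeometry
open Coh

namespace Groth.Agent.S7502


/-- Let f : Y -> X be a morphism of schemes which is quasi-compact, quasi-separated, flat and
surjective, with X and Y locally Noetherian. Let F be a quasi-coherent O_X-module, G a coherent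
O_Y-module and φ : G -> f^*F an injective map of O_Y-modules. Then the O_X-module F ∩ f_*G, defined
as the fibre product of the adjunction unit F -> f_*f^*F with f_*φ : f_*G -> f_*f^*F, is coherent.
('Coherent' is quasi-coherent of finite type, the usual notion on locally Noetherian schemes.) -/
theorem result {X Y : Scheme.{u}} (f : Y ⟶ X) [QuasiCompact f] [QuasiSeparated f] [Flat f] [Surjective f] [IsLocallyNoetherian X] [IsLocallyNoetherian Y] (F : X.Modules) (hF : Coh.IsQCoh F) (G : Y.Modules) (hG : Coh.IsCoh G) (φ : G ⟶ (Scheme.Modules.pullback f).obj F) [Mono φ] : Coh.IsCoh (Limits.pullback ((Scheme.Modules.pullbackPushforwardAdjunction f).unit.app F) ((Scheme.Modules.pushforward f).map φ)) := by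
  have hFq : F.IsQuasicoherent := hF
  have hGq : G.IsQuasicoherent := hG.1
  have hPq : ((Scheme.Modules.pullback f).obj F).IsQuasicoherent :=
    Groth.Agent.Lib.Helper16.FlatPull.isQuasicoherent_pullback f F
  have h1 : ((Scheme.Modules.pushforward f).obj G).IsQuasicoherent :=
    Groth.Agent.Lib.Helper49.isQuasicoherent_pushforward G f
  have h2 : ((Scheme.Modules.pushforward f).obj
      ((Scheme.Modules.pullback f).obj F)).IsQuasicoherent :=
    Groth.Agent.Lib.Helper49.isQuasicoherent_pushforward _ f
  -- quasi-coherence of the fibre product
  have hKq : (Limits.pullback ((Scheme.Modules.pullbackPushforwardAdjunction f).unit.app F)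
      ((Scheme.Modules.pushforward f).map φ)).IsQuasicoherent := by
    refine Groth.Agent.Lib.Helper49.isQuasicoherent_finite_limit
      (cospan ((Scheme.Modules.pullbackPushforwardAdjunction f).unit.app F)
        ((Scheme.Modules.pushforward f).map φ)) ?_
    rintro (_ | _ | _)
    · exact h2
    · exact hFq
    · exact h1
  refine ⟨hKq, ?_⟩
  have hLKq : ((Scheme.Modules.pullback f).obj
      (Limits.pullback ((Scheme.Modules.pullbackPushforwardAdjunction f).unit.app F)
        ((Scheme.Modules.pushforward f).map φ))).IsQuasicoherent :=
    Groth.Agent.Lib.Helper16.FlatPull.isQuasicoherent_pullback f _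
  -- it suffices to see that the pullback is of finite type
  refine Groth.Agent.Lib.Helper49.isFiniteType_of_pullback f _ ?_
  -- the map `f^* K ⟶ G`
  have hRmono : Mono ((Scheme.Modules.pushforward f).map φ) := by
    have : (Scheme.Modules.pushforward f).IsRightAdjoint :=
      (Scheme.Modules.pullbackPushforwardAdjunction f).isRightAdjoint
    infer_instance
  have hp1 : Mono (pullback.fst ((Scheme.Modules.pullbackPushforwardAdjunction f).unit.app F)
      ((Scheme.Modules.pushforward f).map φ)) := inferInstance
  have hLp1 : Mono ((Scheme.Modules.pullback f).map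
      (pullback.fst ((Scheme.Modules.pullbackPushforwardAdjunction f).unit.app F)
        ((Scheme.Modules.pushforward f).map φ))) :=
    haveI : ((𝟭 X.Modules).obj F).IsQuasicoherent := hFq
    Groth.Agent.Lib.Helper18.LimModFlat.mono_pullback_map_of_flat f _
  have hfac : ((Scheme.Modules.pullback f).map
      (pullback.snd ((Scheme.Modules.pullbackPushforwardAdjunction f).unit.app F)
        ((Scheme.Modules.pushforward f).map φ)) ≫
      (Scheme.Modules.pullbackPushforwardAdjunction f).counit.app G) ≫ φ =
      (Scheme.Modules.pullback f).map
      (pullback.fst ((Scheme.Modules.pullbackPushforwardAdjunction f).unit.app F)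
        ((Scheme.Modules.pushforward f).map φ)) := by
    rw [Category.assoc]
    have hnat := (Scheme.Modules.pullbackPushforwardAdjunction f).counit.naturality φ
    simp only [Functor.comp_map, Functor.id_map] at hnat
    rw [← hnat, ← Category.assoc, ← Functor.map_comp, ← pullback.condition, Functor.map_comp,
      Category.assoc]
    have htri := (Scheme.Modules.pullbackPushforwardAdjunction f).left_triangle_components F
    rw [htri]
    exact Category.comp_id _
  have hψ : Mono ((Scheme.Modules.pullback f).map
      (pullback.snd ((Scheme.Modules.pullbackPushforwardAdjunction f).unit.app F)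
        ((Scheme.Modules.pushforward f).map φ)) ≫
      (Scheme.Modules.pullbackPushforwardAdjunction f).counit.app G) := by
    have : Mono (((Scheme.Modules.pullback f).map
        (pullback.snd ((Scheme.Modules.pullbackPushforwardAdjunction f).unit.app F)
          ((Scheme.Modules.pushforward f).map φ)) ≫
        (Scheme.Modules.pullbackPushforwardAdjunction f).counit.app G) ≫ φ) := by
      rw [hfac]; exact hLp1
    exact mono_of_mono _ φ
  haveI : ((𝟭 Y.Modules).obj G).IsQuasicoherent := hGq
  have hG2 : SheafOfModules.IsFiniteType (R := Y.ringCatSheaf) ((𝟭 Y.Modules).obj G) := hG.2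
  exact Groth.Agent.Lib.Helper49.isFiniteType_of_mono ((Scheme.Modules.pullback f).map
      (pullback.snd ((Scheme.Modules.pullbackPushforwardAdjunction f).unit.app F)
        ((Scheme.Modules.pushforward f).map φ)) ≫
      (Scheme.Modules.pullbackPushforwardAdjunction f).counit.app G) hG2

end Groth.Agent.S7502
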