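import Groth.Statements.S7503
import Groth.Agent.Lib.Helper37.ClosureGrpdPerfect

set_option autoImplicit false
universe u
open CategoryTheory CategoryTheory.Limits AlgebraicGeometry
open Grpd

namespace Groth.Agent.S7503

/-- Let (U, R, s, t, c) be a groupoid scheme over S with U the spectrum of a perfect field and let Z be
the reduced closed subscheme of U x_S U whose underlying set is the closure of the image of j = (t,
s). Then (U, Z, pr_0|_Z, pr_1|_Z, pr_02) is a groupoid scheme over S; stated as: there are a
groupoid scheme G' over S with G'.R reduced and an isomorphism of schemes over S from G'.U to U such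
that j' = (t', s') : G'.R -> G'.U x_S G'.U is a closed immersion and the image of j' followed by the
induced isomorphism G'.U x_S G'.U -> U x_S U is the closure of the image of j. (No morphism from (U,
R, s, t, c) to G' is asserted: when R is not reduced, j need not factor through the reduced
subscheme Z.) (A groupoid scheme carries U, R, s, t, c, e, i over S with the groupoid axioms on
T-points; c is defined on the fibre product of s and t and sends a pair (a, b) with s(a) = t(b) to a
composed with b.) -/
theorem result (S : Scheme.{u}) (G : Grpd.GroupoidScheme S) (k : Type u) [Field k] [PerfectField k] (eU : G.U ≅ Spec (CommRingCat.of k)) : ∃ (G' : Grpd.GroupoidScheme S) (ψ : G'.U ≅ G.U) (hψ : ψ.hom ≫ G.pU = G'.pU), IsReduced G'.R ∧ IsClosedImmersion G'.j ∧ Set.range ⇑(G'.j ≫ pullback.map G'.pU G'.pU G.pU G.pU ψ.hom ψ.hom (𝟙 S) ((Category.comp_id _).trans hψ.symm) ((Category.comp_id _).trans hψ.symm)) = closure (Set.range ⇑G.j) := by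
  have hsub : Subsingleton G.U := eU.hom.homeomorph.injective.subsingleton
  have hint : IsIntegral G.U := IsIntegral.of_isIso eU.inv
  have h1 : IsIso (Groth.Agent.Lib.Helper37.SubG.jHom G).fU := (inferInstance : IsIso (𝟙 G.U))
  have h3 : Subsingleton (Groth.Agent.Lib.Helper37.SubG.pairGrpd G.U G.pU).U := hsub
  have h4 : IsIntegral (Groth.Agent.Lib.Helper37.SubG.pairGrpd G.U G.pU).U := hint
  have hred : IsReduced (pullback
      (Groth.Agent.Lib.Helper37.SubG.clι (Groth.Agent.Lib.Helper37.SubG.jHom G) ≫
        (Groth.Agent.Lib.Helper37.SubG.pairGrpd G.U G.pU).s)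
      (Groth.Agent.Lib.Helper37.SubG.clι (Groth.Agent.Lib.Helper37.SubG.jHom G) ≫
        (Groth.Agent.Lib.Helper37.SubG.pairGrpd G.U G.pU).t)) :=
    Groth.Agent.Lib.Helper37.SubG.isReduced_pullback_of_perfectField
      (U := (Groth.Agent.Lib.Helper37.SubG.pairGrpd G.U G.pU).U) eU _ _
  have hj : (Groth.Agent.Lib.Helper37.SubG.closureGrpd
      (Groth.Agent.Lib.Helper37.SubG.jHom G) hred).j =
      Groth.Agent.Lib.Helper37.SubG.clι (Groth.Agent.Lib.Helper37.SubG.jHom G) := by
    apply pullback.hom_ext
    · exact (pullback.lift_fst _ _ _).trans rfl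
    · exact (pullback.lift_snd _ _ _).trans rfl
  refine ⟨Groth.Agent.Lib.Helper37.SubG.closureGrpd (Groth.Agent.Lib.Helper37.SubG.jHom G) hred,
    Iso.refl G.U, Category.id_comp _,
    (inferInstance : IsReduced
      (Groth.Agent.Lib.Helper37.SubG.clZ (Groth.Agent.Lib.Helper37.SubG.jHom G))), ?_, ?_⟩
  · rw [hj]
    exact (inferInstance : IsClosedImmersion
      (Groth.Agent.Lib.Helper37.SubG.clι (Groth.Agent.Lib.Helper37.SubG.jHom G)))
  · rw [hj]
    have hm : pullback.map G.pU G.pU G.pU G.pU (𝟙 G.U) (𝟙 G.U) (𝟙 S)
        ((Category.comp_id _).trans (Category.id_comp _).symm)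
        ((Category.comp_id _).trans (Category.id_comp _).symm) = 𝟙 _ := by
      apply pullback.hom_ext
      · rw [pullback.lift_fst, Category.comp_id, Category.id_comp]
      · rw [pullback.lift_snd, Category.comp_id, Category.id_comp]
    have hm' : Groth.Agent.Lib.Helper37.SubG.clι (Groth.Agent.Lib.Helper37.SubG.jHom G) ≫
        pullback.map G.pU G.pU G.pU G.pU (𝟙 G.U) (𝟙 G.U) (𝟙 S)
        ((Category.comp_id _).trans (Category.id_comp _).symm)
        ((Category.comp_id _).trans (Category.id_comp _).symm) =
        Groth.Agent.Lib.Helper37.SubG.clι (Groth.Agent.Lib.Helper37.SubG.jHom G) := by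
      rw [hm]
      exact Category.comp_id _
    exact (congrArg (fun φ : _ ⟶ pullback G.pU G.pU => Set.range ⇑φ) hm').trans
      (Groth.Agent.Lib.Helper37.SubG.range_clι (Groth.Agent.Lib.Helper37.SubG.jHom G))

end Groth.Agent.S7503
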