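import Groth.Statements.S7505
import Groth.Agent.Lib.Helper37.GroupoidStabConj
import Groth.Agent.Lib.Helper37.InvariantOpen
import Mathlib.AlgebraicGeometry.Sites.Etale
import Mathlib.AlgebraicGeometry.Sites.Fpqc

set_option autoImplicit false
universe u
open CategoryTheory CategoryTheory.Limits AlgebraicGeometry
open Grpd

namespace Groth.Agent.S7505

/-- The statement with the stabilizer unfolded. -/
theorem aux (S : Scheme.{u}) (G : Grpd.GroupoidScheme S) (K : Precoverage Scheme.{u}) (hK : K = Scheme.etalePrecoverage ∨ K = Scheme.precoverage @Smooth ∨ K = Scheme.fppfPrecoverage) (P : MorphismProperty Scheme.{u}) [P.IsLocalAtTarget K] (hs : Presieve.singleton G.s ∈ K G.U) (ht : Presieve.singleton G.t ∈ K G.U) (W : G.U.Opens) (hW : P (pullback.snd G.j G.diag ∣_ W)) (hmax : ∀ W' : G.U.Opens, P (pullback.snd G.j G.diag ∣_ W') → W' ≤ W) : G.s ⁻¹ᵁ W = G.t ⁻¹ᵁ W := by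
  have hsurj : Surjective G.t := by
    refine ⟨fun x => ⟨G.e x, ?_⟩⟩
    rw [← Scheme.Hom.comp_apply, G.e_t]
    rfl
  obtain ⟨aₛ, hpbs⟩ := Groth.Agent.Lib.Helper37.exists_isPullback_stab_conj G
  have hpbt : IsPullback (pullback.fst (pullback.snd G.j G.diag) G.t)
      (pullback.snd (pullback.snd G.j G.diag) G.t) (pullback.snd G.j G.diag) G.t :=
    IsPullback.of_hasPullback _ _
  have key : G.t ⁻¹ᵁ W ≤ G.s ⁻¹ᵁ W := by
    rcases hK with rfl | rfl | rfl
    · have : P.IsLocalAtTarget (Scheme.precoverage @Etale) :=
        ‹P.IsLocalAtTarget Scheme.etalePrecoverage›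
      have hs' := (Scheme.singleton_mem_precoverage_iff (P := @Etale) G.s).mp hs
      have ht' := (Scheme.singleton_mem_precoverage_iff (P := @Etale) G.t).mp ht
      exact Groth.Agent.Lib.Helper37.preimage_le_preimage_of_isPullback @Etale P
        (fun g _ => inferInstance)
        (fun g (hg : Etale g) => g.isOpenMap) G.s G.t _ aₛ _ _ hpbs hpbt hs'.2 ht'.2 W hW hmax
    · have hs' := (Scheme.singleton_mem_precoverage_iff (P := @Smooth) G.s).mp hs
      have ht' := (Scheme.singleton_mem_precoverage_iff (P := @Smooth) G.t).mp ht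
      exact Groth.Agent.Lib.Helper37.preimage_le_preimage_of_isPullback @Smooth P
        (fun g _ => inferInstance)
        (fun g (hg : Smooth g) => g.isOpenMap) G.s G.t _ aₛ _ _ hpbs hpbt hs'.2 ht'.2 W hW hmax
    · have : P.IsLocalAtTarget (Scheme.precoverage (@Flat ⊓ @LocallyOfFinitePresentation)) :=
        ‹P.IsLocalAtTarget Scheme.fppfPrecoverage›
      have hs' := (Scheme.singleton_mem_precoverage_iff
        (P := @Flat ⊓ @LocallyOfFinitePresentation) G.s).mp hs
      have ht' := (Scheme.singleton_mem_precoverage_iff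
        (P := @Flat ⊓ @LocallyOfFinitePresentation) G.t).mp ht
      exact Groth.Agent.Lib.Helper37.preimage_le_preimage_of_isPullback
        (@Flat ⊓ @LocallyOfFinitePresentation) P
        (fun g _ => ⟨inferInstance, inferInstance⟩)
        (fun g hg => by
          have h1 : Flat g := hg.1
          have h2 : LocallyOfFinitePresentation g := hg.2
          exact g.isOpenMap) G.s G.t _ aₛ _ _ hpbs hpbt hs'.2 ht'.2 W hW hmax
  apply le_antisymm
  · intro x hx
    have h1 : G.i x ∈ G.t ⁻¹ᵁ W := by
      show G.t (G.i x) ∈ W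
      rw [← Scheme.Hom.comp_apply, G.i_t]
      exact hx
    have h2 : G.s (G.i x) ∈ W := key h1
    show G.t x ∈ W
    rw [← G.i_s, Scheme.Hom.comp_apply]
    exact h2
  · exact key

/-- Let (U, R, s, t, c) be a groupoid scheme over S with stabilizer group scheme G -> U, let τ be the
étale, smooth or fppf topology (given as the corresponding precoverage K), and let P be a property
of scheme morphisms that is τ-local on the target. (The published statement also allows the syntomic
topology; this row omits it.) Assume {s : R -> U} and {t : R -> U} are τ-coverings. If W is the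
largest open subscheme of U such that the restriction G_W -> W of the stabilizer has P, then W is
R-invariant: s^{-1}(W) = t^{-1}(W). (A groupoid scheme carries U, R, s, t, c, e, i over S with the
groupoid axioms on T-points; c is defined on the fibre product of s and t and sends a pair (a, b)
with s(a) = t(b) to a composed with b.) -/
theorem result (S : Scheme.{u}) (G : Grpd.GroupoidScheme S) (K : Precoverage Scheme.{u}) (hK : K = Scheme.etalePrecoverage ∨ K = Scheme.precoverage @Smooth ∨ K = Scheme.fppfPrecoverage) (P : MorphismProperty Scheme.{u}) [P.IsLocalAtTarget K] (hs : Presieve.singleton G.s ∈ K G.U) (ht : Presieve.singleton G.t ∈ K G.U) (W : G.U.Opens) (hW : P (G.stabilizerToU ∣_ W)) (hmax : ∀ W' : G.U.Opens, P (G.stabilizerToU ∣_ W') → W' ≤ W) : G.s ⁻¹ᵁ W = G.t ⁻¹ᵁ W :=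
  aux S G K hK P hs ht W hW hmax

end Groth.Agent.S7505
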