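import Groth.Statements.S7510
import Groth.Agent.Lib.Helper37.GroupoidBaseChange

set_option autoImplicit false
universe u
open CategoryTheory CategoryTheory.Limits AlgebraicGeometry
open Grpd

namespace Groth.Agent.S7510

/-- Let (U, R, s, t, c, e, i) be a groupoid scheme over S and g : U' -> U a morphism; write h = s ∘ pr_1
: U' x_(g,U,t) R -> U. Let P, Q, R be properties of morphisms of schemes, with P invariant under
composition with isomorphisms, such that (1) R implies Q, (2) Q is stable under base change and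
composition, (3) every morphism f : X -> Y with Q has a largest open W(P, f) of X on which the
restriction of f has P (given here as a function W with these two properties), and (4) for f with Q
and a base change along Y' -> Y with R, the preimage of W(P, f) in X x_Y Y' is W(P, f') for the base
change f'. If s, t have R and g has Q, then there is an open W of U' whose preimage in U' x_(g,U,t)
R equals W(P, h). (The published statement speaks of arbitrary properties of morphisms; this row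
asks P to be invariant under composition with isomorphisms, which the proof uses to identify the
largest opens on the two isomorphic fibre products of h with t and with s.) (A groupoid scheme
carries U, R, s, t, c, e, i over S with the groupoid axioms on T-points; c is defined on the fibre
product of s and t and sends a pair (a, b) with s(a) = t(b) to a composed with b.) -/
theorem result (S : Scheme.{u}) (G : Grpd.GroupoidScheme S) {U' : Scheme.{u}} (g : U' ⟶ G.U) (P Q R : MorphismProperty Scheme.{u}) [P.RespectsIso] (hRQ : R ≤ Q) [Q.IsStableUnderBaseChange] [Q.IsStableUnderComposition] (W : ∀ {X Y : Scheme.{u}} (f : X ⟶ Y), Q f → X.Opens) (hWP : ∀ {X Y : Scheme.{u}} (f : X ⟶ Y) (hf : Q f), P ((W f hf).ι ≫ f)) (hWmax : ∀ {X Y : Scheme.{u}} (f : X ⟶ Y) (hf : Q f) (V : X.Opens), P (V.ι ≫ f) → V ≤ W f hf) (hWbc : ∀ {X Y Y' : Scheme.{u}} (f : X ⟶ Y) (hf : Q f) (b : Y' ⟶ Y), R b → ∀ hf' : Q (pullback.snd f b), pullback.fst f b ⁻¹ᵁ W f hf = W (pullback.snd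 f b) hf') (hs : R G.s) (ht : R G.t) (hg : Q g) (hh : Q (pullback.snd g G.t ≫ G.s)) : ∃ V : U'.Opens, pullback.fst g G.t ⁻¹ᵁ V = W (pullback.snd g G.t ≫ G.s) hh := by
  -- congruence for `W`
  have hWcongr : ∀ {X Y : Scheme.{u}} (f₁ f₂ : X ⟶ Y) (e : f₁ = f₂) (h₁ : Q f₁) (h₂ : Q f₂),
      W f₁ h₁ = W f₂ h₂ := by
    intro X Y f₁ f₂ e h₁ h₂
    subst e
    rfl
  -- transfer along an isomorphism
  have hWiso : ∀ {Z Z' Y : Scheme.{u}} (e : Z ≅ Z') (f' : Z' ⟶ Y) (hf' : Q f')
      (hf'' : Q (e.hom ≫ f')), e.hom ⁻¹ᵁ W f' hf' = W (e.hom ≫ f') hf'' := by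
    intro Z Z' Y e f' hf' hf''
    apply le_antisymm
    · apply hWmax
      have h1 : (e.hom ⁻¹ᵁ W f' hf').ι ≫ e.hom ≫ f' =
          (e.hom ∣_ W f' hf') ≫ (W f' hf').ι ≫ f' := by
        rw [← Category.assoc, ← morphismRestrict_ι, Category.assoc]
      rw [h1, P.cancel_left_of_respectsIso]
      exact hWP f' hf'
    · have h2 : e.inv ⁻¹ᵁ W (e.hom ≫ f') hf'' ≤ W f' hf' := by
        apply hWmax
        have h1 : (e.inv ⁻¹ᵁ W (e.hom ≫ f') hf'').ι ≫ f' =
            (e.inv ∣_ W (e.hom ≫ f') hf'') ≫ (W (e.hom ≫ f') hf'').ι ≫ e.hom ≫ f' := by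
          rw [← Category.assoc (e.inv ∣_ _), morphismRestrict_ι, Category.assoc,
            e.inv_hom_id_assoc]
        rw [h1, P.cancel_left_of_respectsIso]
        exact hWP _ hf''
      intro x hx
      apply h2
      show e.inv (e.hom x) ∈ W (e.hom ≫ f') hf''
      rw [← Scheme.Hom.comp_apply, e.hom_inv_id]
      exact hx
  -- transfer along a cartesian square
  have hWsq : ∀ {Z X Y Y' : Scheme.{u}} (a : Z ⟶ X) (b : Z ⟶ Y') (f : X ⟶ Y) (c : Y' ⟶ Y)
      (sq : IsPullback a b f c) (hf : Q f) (hc : R c) (hb : Q b), a ⁻¹ᵁ W f hf = W b hb := by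
    intro Z X Y Y' a b f c sq hf hc hb
    have hsnd : Q (pullback.snd f c) := Q.pullback_snd _ _ hf
    have hcomp : Q (sq.isoPullback.hom ≫ pullback.snd f c) := by
      rw [sq.isoPullback_hom_snd]
      exact hb
    calc a ⁻¹ᵁ W f hf = (sq.isoPullback.hom ≫ pullback.fst f c) ⁻¹ᵁ W f hf := by
          rw [sq.isoPullback_hom_fst]
      _ = sq.isoPullback.hom ⁻¹ᵁ (pullback.fst f c ⁻¹ᵁ W f hf) := rfl
      _ = sq.isoPullback.hom ⁻¹ᵁ W (pullback.snd f c) hsnd := by rw [hWbc f hf c hc hsnd]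
      _ = W (sq.isoPullback.hom ≫ pullback.snd f c) hcomp := hWiso _ _ _ _
      _ = W b hb := hWcongr _ _ sq.isoPullback_hom_snd _ _
  -- the two squares
  have hX : IsPullback (pullback.fst g G.t) (pullback.snd g G.t) g G.t :=
    IsPullback.of_hasPullback _ _
  have hX₂ : IsPullback (pullback.fst (pullback.fst g G.t) (pullback.fst g G.t))
      (pullback.snd (pullback.fst g G.t) (pullback.fst g G.t)) (pullback.fst g G.t)
      (pullback.fst g G.t) := IsPullback.of_hasPullback _ _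
  obtain ⟨m, sq1, sq2⟩ := Groth.Agent.Lib.Helper37.exists_isPullback_dif G hX hX₂
  have hm : Q m := Q.of_isPullback sq1 hh
  have key : pullback.fst (pullback.fst g G.t) (pullback.fst g G.t) ⁻¹ᵁ
      W (pullback.snd g G.t ≫ G.s) hh =
      pullback.snd (pullback.fst g G.t) (pullback.fst g G.t) ⁻¹ᵁ
      W (pullback.snd g G.t ≫ G.s) hh :=
    (hWsq _ _ _ _ sq1 hh ht hm).trans (hWsq _ _ _ _ sq2 hh hs hm).symm
  -- the section
  obtain ⟨σ, hσ⟩ : ∃ σ : U' ⟶ pullback g G.t, σ ≫ pullback.fst g G.t = 𝟙 _ :=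
    ⟨pullback.lift (𝟙 _) (g ≫ G.e) (by rw [Category.id_comp, Category.assoc, G.e_t,
      Category.comp_id]), pullback.lift_fst _ _ _⟩
  obtain ⟨δ, hδ₁, hδ₂⟩ : ∃ δ : pullback g G.t ⟶
      pullback (pullback.fst g G.t) (pullback.fst g G.t),
      δ ≫ pullback.fst _ _ = 𝟙 _ ∧ δ ≫ pullback.snd _ _ = pullback.fst g G.t ≫ σ :=
    ⟨pullback.lift (𝟙 _) (pullback.fst g G.t ≫ σ) (by rw [Category.id_comp, Category.assoc, hσ,
      Category.comp_id]), pullback.lift_fst _ _ _, pullback.lift_snd _ _ _⟩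
  refine ⟨σ ⁻¹ᵁ W (pullback.snd g G.t ≫ G.s) hh, ?_⟩
  calc pullback.fst g G.t ⁻¹ᵁ (σ ⁻¹ᵁ W (pullback.snd g G.t ≫ G.s) hh)
      = (pullback.fst g G.t ≫ σ) ⁻¹ᵁ W (pullback.snd g G.t ≫ G.s) hh := rfl
    _ = (δ ≫ pullback.snd _ _) ⁻¹ᵁ W (pullback.snd g G.t ≫ G.s) hh := by rw [hδ₂]
    _ = δ ⁻¹ᵁ (pullback.snd (pullback.fst g G.t) (pullback.fst g G.t) ⁻¹ᵁ
          W (pullback.snd g G.t ≫ G.s) hh) := rfl
    _ = δ ⁻¹ᵁ (pullback.fst (pullback.fst g G.t) (pullback.fst g G.t) ⁻¹ᵁ
          W (pullback.snd g G.t ≫ G.s) hh) := by rw [key]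
    _ = (δ ≫ pullback.fst _ _) ⁻¹ᵁ W (pullback.snd g G.t ≫ G.s) hh := rfl
    _ = W (pullback.snd g G.t ≫ G.s) hh := by
      rw [hδ₁]
      rfl

end Groth.Agent.S7510
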