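import Groth.Statements.S7511
-- import your own Groth.Agent.* helpers here

set_option autoImplicit false
universe u
open CategoryTheory CategoryTheory.Limits AlgebraicGeometry
open HTop

namespace Groth.Agent.S7511

/-- Let {f_i : T_i -> T} be a family of morphisms of schemes (indexed by a type in the universe of T, so
that the coproduct exists). Then it is an fpqc covering if and only if the one-arrow family
consisting of the induced morphism from the coproduct of the T_i to T is an fpqc covering. -/
theorem result {T : Scheme.{u}} (E : PreZeroHypercover.{u} T) : E.presieve₀ ∈ Scheme.fpqcPrecoverage T ↔ Presieve.singleton (Sigma.desc E.f) ∈ Scheme.fpqcPrecoverage T := by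
  -- the quasi-compactness part
  have hqc : QuasiCompactCover E ↔
      QuasiCompactCover (PreZeroHypercover.singleton.{u} (Sigma.desc E.f)) := by
    constructor
    · intro h
      exact QuasiCompactCover.of_hom (𝒱 := E)
        { s₀ := fun _ => PUnit.unit
          h₀ := fun i => Sigma.ι E.X i
          w₀ := fun i => Sigma.ι_desc E.f i }
    · intro h
      refine ⟨fun {U} hU => ?_⟩
      have h1 := hU.isCompactOpenCovered (PreZeroHypercover.singleton.{u} (Sigma.desc E.f))
      rw [IsCompactOpenCovered.iff_of_unique] at h1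
      obtain ⟨V, hVc, hVU⟩ := h1
      rw [IsCompactOpenCovered.iff_isCompactOpenCovered_sigmaMk,
        IsCompactOpenCovered.iff_of_unique]
      have hcomp : ∀ p : (Σ i, E.X i), E.f p.1 p.2 = Sigma.desc E.f (sigmaMk E.X p) := by
        rintro ⟨i, x⟩
        rw [sigmaMk_mk, ← Scheme.Hom.comp_apply, Sigma.ι_desc]
      refine ⟨⟨(sigmaMk E.X) ⁻¹' V.1, V.2.preimage (sigmaMk E.X).continuous⟩, ?_, ?_⟩
      · exact (sigmaMk E.X).isCompact_preimage.mpr hVc
      · rw [← hVU]
        ext t
        constructor
        · rintro ⟨p, hp, rfl⟩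
          exact ⟨sigmaMk E.X p, hp, (hcomp p).symm⟩
        · rintro ⟨y, hy, rfl⟩
          obtain ⟨p, rfl⟩ := (sigmaMk E.X).surjective y
          exact ⟨p, hy, hcomp p⟩
  -- the flat + surjective part
  have hfl : E.presieve₀ ∈ Scheme.precoverage @Flat T ↔
      (PreZeroHypercover.singleton.{u} (Sigma.desc E.f)).presieve₀ ∈
        Scheme.precoverage @Flat T := by
    rw [Scheme.presieve₀_mem_precoverage_iff, Scheme.presieve₀_mem_precoverage_iff]
    constructor
    · rintro ⟨h1, h2⟩
      refine ⟨fun x => ?_, fun _ => ?_⟩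
      · obtain ⟨i, y, rfl⟩ := h1 x
        refine ⟨PUnit.unit, Sigma.ι E.X i y, ?_⟩
        show Sigma.desc E.f (Sigma.ι E.X i y) = _
        rw [← Scheme.Hom.comp_apply, Sigma.ι_desc]
      · have : ∀ i, Flat (E.f i) := h2
        show Flat (Sigma.desc E.f)
        infer_instance
    · rintro ⟨h1, h2⟩
      refine ⟨fun x => ?_, fun i => ?_⟩
      · obtain ⟨_, y, rfl⟩ := h1 x
        obtain ⟨⟨i, z⟩, rfl⟩ := (sigmaMk E.X).surjective y
        refine ⟨i, z, ?_⟩
        show _ = Sigma.desc E.f (sigmaMk E.X ⟨i, z⟩)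
        rw [sigmaMk_mk, ← Scheme.Hom.comp_apply, Sigma.ι_desc]
      · have hd : Flat (Sigma.desc E.f) := h2 PUnit.unit
        have : Flat (Sigma.ι E.X i ≫ Sigma.desc E.f) := inferInstance
        rwa [Sigma.ι_desc] at this
  rw [← PreZeroHypercover.presieve₀_singleton.{u}]
  show (E.presieve₀ ∈ Scheme.qcPrecoverage T ∧ E.presieve₀ ∈ Scheme.precoverage @Flat T) ↔
    ((PreZeroHypercover.singleton.{u} (Sigma.desc E.f)).presieve₀ ∈ Scheme.qcPrecoverage T ∧
      (PreZeroHypercover.singleton.{u} (Sigma.desc E.f)).presieve₀ ∈ Scheme.precoverage @Flat T)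
  rw [Scheme.presieve₀_mem_qcPrecoverage_iff, Scheme.presieve₀_mem_qcPrecoverage_iff, hqc, hfl]

end Groth.Agent.S7511
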