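import Groth.Statements.S7512
import Mathlib.AlgebraicGeometry.Sites.Fpqc

set_option autoImplicit false
universe w u
open HTop

namespace Groth.Agent.S7512

open CategoryTheory CategoryTheory.Limits AlgebraicGeometry in
/-- Let {f_i : T_i -> T} be a family of flat morphisms of schemes. Assume that for every affine scheme Z
and every morphism h : Z -> T there is a standard fpqc covering of Z (a finite family of flat
morphisms Z_j -> Z with Z_j affine whose images cover Z) refining the family of base changes {T_i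
x_T Z -> Z} (every Z_j -> Z factors through some T_i compatibly with h). Then {f_i : T_i -> T} is an
fpqc covering (in Mathlib's sense). -/
theorem result {T : Scheme.{u}} (E : PreZeroHypercover.{w} T) (hflat : ∀ i, Flat (E.f i)) (href : ∀ (Z : Scheme.{u}) [IsAffine Z] (h : Z ⟶ T), ∃ F : PreZeroHypercover.{0} Z, Finite F.I₀ ∧ (∀ j, IsAffine (F.X j)) ∧ (∀ j, Flat (F.f j)) ∧ (∀ z : Z, ∃ (j : F.I₀) (x : F.X j), F.f j x = z) ∧ HTop.RefinesOver h F E) : E.presieve₀ ∈ Scheme.fpqcPrecoverage T := by
  refine ⟨Scheme.presieve₀_mem_qcPrecoverage_iff.mpr ⟨fun {U} hU => ?_⟩,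
    (Scheme.presieve₀_mem_precoverage_iff _).mpr ⟨fun x => ?_, hflat⟩⟩
  · have hUaff : IsAffine (U : Scheme.{u}) := hU
    obtain ⟨F, hfin, haff, -, hsurj, href'⟩ := href (U : Scheme.{u}) U.ι
    choose i k hk using href'
    have hcov : IsCompactOpenCovered (fun j => ⇑(F.f j ≫ U.ι)) (U : Set T) := by
      refine .of_finite (κ := F.I₀) id (fun j => ⊤) (fun j => ?_) ?_
      · have := haff j
        exact isCompact_univ
      · ext x
        simp only [Set.mem_iUnion, Set.mem_image]
        constructor
        · rintro ⟨j, y, -, rfl⟩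
          rw [Scheme.Hom.comp_apply]
          exact (F.f j y).2
        · intro hx
          obtain ⟨j, y, hy⟩ := hsurj ⟨x, hx⟩
          refine ⟨j, y, trivial, ?_⟩
          show (F.f j ≫ U.ι) y = x
          rw [Scheme.Hom.comp_apply, hy]
          rfl
    exact .of_comp (a := i) (fun j => ⇑(F.f j ≫ U.ι)) (fun j => ⇑(k j))
      (fun j => (k j).continuous)
      (fun j => by
        funext y
        show (F.f j ≫ U.ι) y = E.f (i j) (k j y)
        rw [← hk j, Scheme.Hom.comp_apply])
      (fun i => (E.f i).continuous) U.2 hcov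
  · obtain ⟨_, ⟨U, hU, rfl⟩, hxU, -⟩ :=
      T.isBasis_affineOpens.exists_subset_of_mem_open (Set.mem_univ x) isOpen_univ
    have hUaff : IsAffine (U : Scheme.{u}) := hU
    obtain ⟨F, hfin, haff, -, hsurj, href'⟩ := href (U : Scheme.{u}) (Scheme.Opens.ι U)
    obtain ⟨j, y, hy⟩ := hsurj ⟨x, hxU⟩
    obtain ⟨i, k, hk⟩ := href' j
    refine ⟨i, k y, ?_⟩
    rw [← Scheme.Hom.comp_apply, hk, Scheme.Hom.comp_apply, hy]
    rfl

end Groth.Agent.S7512
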