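import Groth.Statements.S7513
import Groth.Agent.Lib.Helper37.FittStrat
import Groth.Agent.S7457

set_option autoImplicit false
universe u
open CategoryTheory CategoryTheory.Limits AlgebraicGeometry
open Grpd
open Groth.Agent.Lib.Helper37

namespace Groth.Agent.S7513

/-- Let (U, R, s, t, c) be a groupoid scheme over S with s and t finite. Then there are closed
subschemes U = Z_0 ⊇ Z_1 ⊇ Z_2 ⊇ ..., each invariant under R, (given by quasi-coherent ideal sheaves
I_0 = 0 ≤ I_1 ≤ I_2 ≤ ...) with empty intersection such that for every r the restriction of s over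
the locally closed stratum Z_r minus Z_(r+1) (the open of the subscheme Z_r complementary to the
support of Z_(r+1)) is finite locally free of rank r + 1. R-invariance of Z_r is expressed as an
isomorphism between the pullbacks of s and of t along Z_r -> U compatible with the maps to R;
'finite locally free of rank n' is finite, flat, locally of finite presentation with constant rank
n. (A groupoid scheme carries U, R, s, t, c, e, i over S with the groupoid axioms on T-points; c is
defined on the fibre product of s and t and sends a pair (a, b) with s(a) = t(b) to a composed with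
b.) -/
theorem result (S : Scheme.{u}) (G : Grpd.GroupoidScheme S) [IsFinite G.s] [IsFinite G.t] : ∃ Z : ℕ → G.U.IdealSheafData, Z 0 = ⊥ ∧ Monotone Z ∧ (⋂ r, ((Z r).support : Set G.U)) = ∅ ∧ (∀ r, ∃ φ : pullback G.s (Z r).subschemeι ≅ pullback G.t (Z r).subschemeι, φ.hom ≫ pullback.fst G.t (Z r).subschemeι = pullback.fst G.s (Z r).subschemeι) ∧ ∀ r, Mor2.IsFinLocFreeOfDeg (r + 1) (pullback.snd G.s (((Z r).subschemeι ⁻¹ᵁ (Z (r + 1)).support.compl).ι ≫ (Z r).subschemeι)) := by
  have hcomap : ∀ r, (FS.fittSheaf G.s r).comap G.s = (FS.fittSheaf G.s r).comap G.t := by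
    intro r
    have hpb : IsPullback G.c (pullback.snd G.s G.t) G.s G.s := (Groth.Agent.S7457.result S G).2
    rw [FS.fittSheaf_comap hpb r, FS.fittSheaf_comap (IsPullback.of_hasPullback G.s G.t) r]
  refine ⟨fun r => FS.fittSheaf G.s r, FS.fittSheaf_zero G.s G.e G.e_s, FS.fittSheaf_mono G.s, ?_,
    fun r => FS.exists_iso_of_comap_eq _ G.s G.t (hcomap r),
    fun r => FS.isFinLocFreeOfDeg_stratum G.s r⟩
  ext y
  simp only [Set.mem_iInter, SetLike.mem_coe, Set.mem_empty_iff_false, iff_false, not_forall]
  exact FS.exists_notMem_support G.s y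

end Groth.Agent.S7513
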