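import Groth.Statements.S7514
import Mathlib.AlgebraicGeometry.Morphisms.FormallyUnramified
import Mathlib.AlgebraicGeometry.Morphisms.IsIso
import Mathlib.AlgebraicGeometry.ResidueField
import Mathlib.FieldTheory.IsAlgClosed.AlgebraicClosure

set_option autoImplicit false
universe u
open CategoryTheory CategoryTheory.Limits AlgebraicGeometry
open Grpd

namespace Groth.Agent.S7514

theorem mono_of_points {X Y : Scheme.{u}} (j : X ⟶ Y) [FormallyUnramified j] [LocallyOfFiniteType j]
    (h : ∀ (k : Type u) [Field k] [IsAlgClosed k],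
      Function.Injective (fun r : Spec (CommRingCat.of k) ⟶ X => r ≫ j)) : Mono j := by
  rw [← pullback.isIso_diagonal_iff]
  rw [isIso_iff_isOpenImmersion_and_surjective]
  refine ⟨inferInstance, ⟨fun z => ?_⟩⟩
  let κ := (pullback j j).residueField z
  let k := AlgebraicClosure κ
  let ζ : Spec (CommRingCat.of k) ⟶ pullback j j :=
    Spec.map (CommRingCat.ofHom (algebraMap κ k)) ≫ (pullback j j).fromSpecResidueField z
  have h12 : ζ ≫ pullback.fst j j = ζ ≫ pullback.snd j j := by
    apply (h k)
    simp only [Category.assoc, pullback.condition]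
  have hζ : ζ = (ζ ≫ pullback.fst j j) ≫ pullback.diagonal j := by
    apply pullback.hom_ext
    · simp
    · simp [h12]
  obtain ⟨pt⟩ : Nonempty (Spec (CommRingCat.of k)) := inferInstance
  refine ⟨(ζ ≫ pullback.fst j j) pt, ?_⟩
  have h1 : ζ pt = z := by
    simp only [ζ, Scheme.Hom.comp_apply]
    exact Scheme.fromSpecResidueField_apply _ _
  have h2 : ζ pt = (pullback.diagonal j) ((ζ ≫ pullback.fst j j) pt) := by
    conv_lhs => rw [hζ]
    simp only [Scheme.Hom.comp_apply]
  exact h2.symm.trans h1

/-- Let S be a scheme, U a scheme over S and j : R -> U x_S U a pre-relation, with t = pr_0 ∘ j and s =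
pr_1 ∘ j. Assume (1) s and t are unramified (formally unramified and locally of finite type), (2)
for every algebraically closed field k, the map from k-points of R to pairs of k-points of U is
injective with image an equivalence relation, and (3) there are morphisms e : U -> R, i : R -> R and
c : R x_(s,U,t) R -> R such that j ∘ e is the diagonal, j ∘ i is j followed by the flip of the two
factors, and j ∘ c is pr_02 ∘ (j x j) (the arrow c(a, b) has target t(a) and source s(b)). Then j is
an equivalence relation: j is a monomorphism and, for every scheme T, the relation 'there is a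
T-point r of R with t ∘ r = a and s ∘ r = b' on T-points a, b of U is an equivalence relation. -/
theorem result {S U R : Scheme.{u}} (pU : U ⟶ S) (j : R ⟶ pullback pU pU) [FormallyUnramified (j ≫ pullback.fst pU pU)] [LocallyOfFiniteType (j ≫ pullback.fst pU pU)] [FormallyUnramified (j ≫ pullback.snd pU pU)] [LocallyOfFiniteType (j ≫ pullback.snd pU pU)] (h₂ : ∀ (k : Type u) [Field k] [IsAlgClosed k], Function.Injective (fun r : Spec (CommRingCat.of k) ⟶ R => r ≫ j) ∧ Equivalence (fun a b : Spec (CommRingCat.of k) ⟶ U => ∃ r : Spec (CommRingCat.of k) ⟶ R, r ≫ j ≫ pullback.fst pU pU = a ∧ r ≫ j ≫ pullback.snd pU pU = b)) (e : U ⟶ R) (he : e ≫ j = pullback.lift (𝟙 U) (𝟙 U) rfl) (i : R ⟶ R) (hi : i ≫ j = j ≫ (pullbackSymmetry pU pU).hom) (c : pullback (j ≫ pullback.snd pU pU) (j ≫ pullback.fst pU pU) ⟶ R) (hc₁ : c ≫ j ≫ pullback.fst pU pU = pullback.fst (j ≫ pullback.snd pU pU) (j ≫ pullback.fst pU pU) ≫ j ≫ pullback.fst pU pU) (hc₂ : c ≫ j ≫ pullback.snd pU pU = pullback.snd (j ≫ pullback.snd pU pU) (j ≫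 pullback.fst pU pU) ≫ j ≫ pullback.snd pU pU) : Mono j ∧ ∀ T : Scheme.{u}, Equivalence (fun a b : T ⟶ U => ∃ r : T ⟶ R, r ≫ j ≫ pullback.fst pU pU = a ∧ r ≫ j ≫ pullback.snd pU pU = b) := by
  have hu : FormallyUnramified j := FormallyUnramified.of_comp j (pullback.fst pU pU)
  have hf : LocallyOfFiniteType j := locallyOfFiniteType_of_comp j (pullback.fst pU pU)
  refine ⟨mono_of_points j fun k _ _ => (h₂ k).1, fun T => ⟨fun a => ?_, ?_, ?_⟩⟩
  · refine ⟨a ≫ e, ?_, ?_⟩
    · rw [Category.assoc, reassoc_of% he, pullback.lift_fst, Category.comp_id]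
    · rw [Category.assoc, reassoc_of% he, pullback.lift_snd, Category.comp_id]
  · rintro a b ⟨r, rfl, rfl⟩
    refine ⟨r ≫ i, ?_, ?_⟩
    · rw [Category.assoc, reassoc_of% hi, pullbackSymmetry_hom_comp_fst]
    · rw [Category.assoc, reassoc_of% hi, pullbackSymmetry_hom_comp_snd]
  · rintro a b d ⟨r₁, rfl, hb⟩ ⟨r₂, rfl, rfl⟩
    refine ⟨pullback.lift r₁ r₂ (by simpa using hb) ≫ c, ?_, ?_⟩
    · rw [Category.assoc, hc₁, pullback.lift_fst_assoc]
    · rw [Category.assoc, hc₂, pullback.lift_snd_assoc]

end Groth.Agent.S7514
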