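import Groth.Statements.S7521
import Groth.Agent.Lib.Helper37.DDEffective
import Groth.Agent.Lib.Helper11.AmpleSeparated

set_option autoImplicit false
set_option linter.style.haveILetI false
open CategoryTheory CategoryTheory.Limits AlgebraicGeometry
universe u
open Desc

namespace Groth.Agent.S7521

/-- Let p : X -> Y be a surjective finite locally free morphism and V a scheme over X which has an
invertible module ample relative to V -> X. Then every descent datum on V relative to p is
effective. (A quasi-projective morphism V -> X, in particular a projective one, carries such a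
module.) (Descent data are taken in functor-of-points form.) -/
theorem result {X Y : Scheme.{u}} (p : X ⟶ Y) [Surjective p] [IsFinite p] [Flat p] [LocallyOfFinitePresentation p] (D : Desc.SchDD p) (L : D.obj.left.Modules) (hL : RelAmple.IsRelAmple D.obj.hom L) : ∃ W : Over Y, Nonempty ((Desc.toDD p).obj W ≅ D) := by
  apply Groth.Agent.Lib.Helper37.DDG.effective D
  intro v
  let G := Groth.Agent.Lib.Helper37.DDG.groupoid D
  have hts : G.t ≫ (D.obj.hom ≫ p) = G.s ≫ (D.obj.hom ≫ p) := G.t_over.trans G.s_over.symm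
  obtain ⟨Y₀, hY₀, hyY₀, -⟩ := exists_isAffineOpen_mem_and_subset
    (x := p (D.obj.hom v)) (U := ⊤) trivial
  have hX₀ : IsAffineOpen (p ⁻¹ᵁ Y₀) := hY₀.preimage p
  let V₀ : D.obj.left.Opens := D.obj.hom ⁻¹ᵁ (p ⁻¹ᵁ Y₀)
  have hamp := hL.2 ⟨p ⁻¹ᵁ Y₀, hX₀⟩
  have horbit : ∀ r : G.R, G.s r = v → G.t r ∈ V₀ := by
    intro r hr
    change p (D.obj.hom (G.t r)) ∈ Y₀
    have h1 : p (D.obj.hom (G.t r)) = p (D.obj.hom (G.s r)) := by
      have := congrArg (fun f => f r) hts
      simp only [Scheme.Hom.comp_apply] at this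
      exact this
    rw [h1, hr]
    exact hyY₀
  have hfin : (G.t '' (G.s ⁻¹' {v})).Finite := (G.s.finite_preimage_singleton v).image _
  haveI : CompactSpace ((V₀ : D.obj.left.Opens) : Scheme.{u}) := hamp.2.1
  obtain ⟨U₀, hU₀, hZU₀⟩ :=
    Groth.Agent.Lib.Helper11.AmpleSeparated.exists_isAffineOpen_of_finite hamp
      (V₀.ι ⁻¹' (G.t '' (G.s ⁻¹' {v}))) (hfin.preimage V₀.ι.isOpenEmbedding.injective.injOn)
  refine ⟨V₀.ι ''ᵁ U₀, hU₀.image_of_isOpenImmersion V₀.ι, fun r hr => ?_⟩
  let z : ((V₀ : D.obj.left.Opens) : Scheme.{u}) := ⟨G.t r, horbit r hr⟩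
  exact ⟨z, hZU₀ (show V₀.ι z ∈ G.t '' (G.s ⁻¹' {v}) from ⟨r, hr, rfl⟩), rfl⟩

end Groth.Agent.S7521
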