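import Groth.Statements.S7522
import Mathlib.AlgebraicGeometry.PullbackCarrier
import Mathlib.AlgebraicGeometry.ResidueField

set_option autoImplicit false
universe u
open CategoryTheory CategoryTheory.Limits AlgebraicGeometry
open Grpd

namespace Groth.Agent.S7522

/-- Let S be a scheme, U a scheme over S and j : R -> U x_S U a pre-equivalence relation, that is a
morphism such that for every scheme T the image of the T-points of R in pairs of T-points of U is an
equivalence relation; write t = pr_0 ∘ j and s = pr_1 ∘ j. Then the relation on the points of U in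
which x ∼ y when some point r of R has t(r) = x and s(r) = y is an equivalence relation. -/
theorem result {S U R : Scheme.{u}} (pU : U ⟶ S) (j : R ⟶ pullback pU pU) (hj : ∀ T : Scheme.{u}, Equivalence (fun a b : T ⟶ U => ∃ r : T ⟶ R, r ≫ j ≫ pullback.fst pU pU = a ∧ r ≫ j ≫ pullback.snd pU pU = b)) : Equivalence (fun x y : ↥U => ∃ r : R, (j ≫ pullback.fst pU pU) r = x ∧ (j ≫ pullback.snd pU pU) r = y) := by
  refine ⟨fun x => ?_, fun {x y} h => ?_, fun {x y z} h₁ h₂ => ?_⟩
  · -- reflexivity
    obtain ⟨ρ, h1, h2⟩ := (hj (Spec (U.residueField x))).refl (U.fromSpecResidueField x)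
    refine ⟨ρ (IsLocalRing.closedPoint (U.residueField x)), ?_, ?_⟩
    · rw [← Scheme.Hom.comp_apply, h1, Scheme.fromSpecResidueField_apply]
    · rw [← Scheme.Hom.comp_apply, h2, Scheme.fromSpecResidueField_apply]
  · -- symmetry
    obtain ⟨r, rfl, rfl⟩ := h
    obtain ⟨ρ', h1, h2⟩ := (hj (Spec (R.residueField r))).symm
      ⟨R.fromSpecResidueField r, rfl, rfl⟩
    refine ⟨ρ' (IsLocalRing.closedPoint (R.residueField r)), ?_, ?_⟩
    · rw [← Scheme.Hom.comp_apply, h1, Scheme.Hom.comp_apply,
        Scheme.fromSpecResidueField_apply]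
    · rw [← Scheme.Hom.comp_apply, h2, Scheme.Hom.comp_apply,
        Scheme.fromSpecResidueField_apply]
  · -- transitivity
    obtain ⟨r₁, rfl, hr₁⟩ := h₁
    obtain ⟨r₂, hr₂, rfl⟩ := h₂
    obtain ⟨w, hw₁, hw₂⟩ := Scheme.Pullback.exists_preimage_pullback
      (f := j ≫ pullback.snd pU pU) (g := j ≫ pullback.fst pU pU) r₁ r₂ (hr₁.trans hr₂.symm)
    obtain ⟨ρ₃, h1, h2⟩ := (hj (Spec ((pullback (j ≫ pullback.snd pU pU)
        (j ≫ pullback.fst pU pU)).residueField w))).trans
      ⟨(pullback (j ≫ pullback.snd pU pU) (j ≫ pullback.fst pU pU)).fromSpecResidueField w ≫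
        pullback.fst _ _, rfl, rfl⟩
      ⟨(pullback (j ≫ pullback.snd pU pU) (j ≫ pullback.fst pU pU)).fromSpecResidueField w ≫
        pullback.snd _ _, by
          rw [Category.assoc, Category.assoc, ← pullback.condition], rfl⟩
    have hpt₁ : ((pullback (j ≫ pullback.snd pU pU) (j ≫ pullback.fst pU pU)).fromSpecResidueField w ≫
        pullback.fst _ _) (IsLocalRing.closedPoint _) = r₁ := by
      rw [Scheme.Hom.comp_apply, Scheme.fromSpecResidueField_apply, hw₁]
    have hpt₂ : ((pullback (j ≫ pullback.snd pU pU) (j ≫ pullback.fst pU pU)).fromSpecResidueField w ≫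
        pullback.snd _ _) (IsLocalRing.closedPoint _) = r₂ := by
      rw [Scheme.Hom.comp_apply, Scheme.fromSpecResidueField_apply, hw₂]
    refine ⟨ρ₃ (IsLocalRing.closedPoint _), ?_, ?_⟩
    · rw [← Scheme.Hom.comp_apply, h1, Scheme.Hom.comp_apply _ (j ≫ pullback.fst pU pU), hpt₁]
    · rw [← Scheme.Hom.comp_apply, h2, Scheme.Hom.comp_apply _ (j ≫ pullback.snd pU pU), hpt₂]

end Groth.Agent.S7522
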