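import Groth.Statements.S7527
import Groth.Agent.Lib.Helper37.SpectralMaps

set_option autoImplicit false
universe u
open SpecSp

namespace Groth.Agent.S7527

open Groth.Agent.Lib.Helper37 Set in

/-- Let X be a spectral space and x, y ∈ X. Then either there is a third point specializing to both x
and y, or there are disjoint open neighbourhoods of x and of y. -/
theorem result {X : Type u} [TopologicalSpace X] [SpectralSpace X] (x y : X) :
    (∃ z : X, z ⤳ x ∧ z ⤳ y) ∨
    (∃ U V : Set X, IsOpen U ∧ IsOpen V ∧ x ∈ U ∧ y ∈ V ∧ Disjoint U V) := by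
  by_cases h : ∃ z : X, z ⤳ x ∧ z ⤳ y
  · exact Or.inl h
  refine Or.inr ?_
  -- the compact open neighbourhoods of `x` or of `y`
  have hK : @IsCompact X (constructibleTopology X) (univ : Set X) :=
    @isCompact_univ X (constructibleTopology X) compactSpace_constructibleTopology
  have hempty : (univ : Set X) ∩
      ⋂ i : {U : Set X // (IsOpen U ∧ IsCompact U) ∧ (x ∈ U ∨ y ∈ U)}, i.1 = ∅ := by
    rw [Set.eq_empty_iff_forall_notMem]
    rintro z ⟨-, hz⟩
    refine h ⟨z, ?_, ?_⟩
    · rw [specializes_iff_forall_open]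
      intro U hU hxU
      obtain ⟨V, hV, hxV, hVU⟩ :=
        PrespectralSpace.isTopologicalBasis.exists_subset_of_mem_open hxU hU
      exact hVU (mem_iInter.mp hz ⟨V, hV, Or.inl hxV⟩)
    · rw [specializes_iff_forall_open]
      intro U hU hyU
      obtain ⟨V, hV, hyV, hVU⟩ :=
        PrespectralSpace.isTopologicalBasis.exists_subset_of_mem_open hyU hU
      exact hVU (mem_iInter.mp hz ⟨V, hV, Or.inr hyV⟩)
  obtain ⟨u, hu⟩ := @IsCompact.elim_finite_subfamily_closed X (constructibleTopology X) univ _ hK _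
    (fun i => isClosed_constructibleTopology_of_isCompact_isOpen i.2.1.2 i.2.1.1) hempty
  classical
  have hU : IsOpen (⋂ i ∈ u.filter (fun i => x ∈ i.1), (i : Set X)) :=
    isOpen_biInter_finset fun i _ => i.2.1.1
  have hV : IsOpen (⋂ i ∈ u.filter (fun i => y ∈ i.1), (i : Set X)) :=
    isOpen_biInter_finset fun i _ => i.2.1.1
  have hxU : x ∈ ⋂ i ∈ u.filter (fun i => x ∈ i.1), (i : Set X) := by
    simp only [mem_iInter, Finset.mem_filter]
    exact fun i hi => hi.2
  have hyV : y ∈ ⋂ i ∈ u.filter (fun i => y ∈ i.1), (i : Set X) := by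
    simp only [mem_iInter, Finset.mem_filter]
    exact fun i hi => hi.2
  refine ⟨_, _, hU, hV, hxU, hyV, ?_⟩
  · rw [Set.disjoint_iff]
    intro z ⟨hz1, hz2⟩
    have : z ∈ (univ : Set X) ∩ ⋂ i ∈ u, (i : Set X) := by
      refine ⟨mem_univ z, ?_⟩
      simp only [mem_iInter] at hz1 hz2 ⊢
      intro i hi
      rcases i.2.2 with hx | hy
      · exact hz1 i (Finset.mem_filter.mpr ⟨hi, hx⟩)
      · exact hz2 i (Finset.mem_filter.mpr ⟨hi, hy⟩)
    rw [hu] at this
    exact this

end Groth.Agent.S7527
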