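import Groth.Statements.S7528
import Groth.Agent.Lib.Helper37.SpectralSub

set_option autoImplicit false
universe u
open SpecSp

namespace Groth.Agent.S7528

open Groth.Agent.Lib.Helper37 Set in

/-- For a spectral space X the following are equivalent: (1) X is profinite, i.e. quasi-compact,
Hausdorff and totally disconnected (quasi-compactness being automatic); (2) X is Hausdorff; (3) X is
totally disconnected; (4) every quasi-compact open subset is closed; (5) there are no nontrivial
specializations between points; (6) every point is closed; (7) every point is the generic point of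
an irreducible component; (8) the constructible topology coincides with the topology of X. -/
theorem result (X : Type u) [tX : TopologicalSpace X] [SpectralSpace X] :
    List.TFAE [
      T2Space X ∧ TotallyDisconnectedSpace X,
      T2Space X,
      TotallyDisconnectedSpace X,
      ∀ U : Set X, IsOpen U → IsCompact U → IsClosed U,
      ∀ x y : X, x ⤳ y → x = y,
      ∀ x : X, IsClosed ({x} : Set X),
      ∀ x : X, closure ({x} : Set X) ∈ irreducibleComponents X,
      constructibleTopology X = tX] := by
  tfae_have 1 → 2 := And.left
  tfae_have 2 → 1 := fun h => ⟨h, inferInstance⟩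
  tfae_have 1 → 3 := And.right
  tfae_have 3 → 5 := by
    intro h x y hxy
    have hc : IsPreconnected (closure ({x} : Set X)) :=
      isIrreducible_singleton.closure.isPreirreducible.isPreconnected
    exact hc.subsingleton (subset_closure rfl) (specializes_iff_mem_closure.mp hxy)
  tfae_have 5 → 6 := by
    intro h x
    rw [← closure_subset_iff_isClosed]
    intro y hy
    exact (h x y (specializes_iff_mem_closure.mpr hy)).symm
  tfae_have 6 → 5 := by
    intro h x y hxy
    have := specializes_iff_mem_closure.mp hxy
    rw [(h x).closure_eq] at this
    exact this.symm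
  tfae_have 5 → 4 := by
    intro h U hUo hUc
    refine isClosed_of_isClosed_constructibleTopology_of_stableUnderSpecialization
      (isClosed_constructibleTopology_of_isCompact_isOpen hUc hUo) ?_
    intro x y hxy hx
    rwa [← h x y hxy]
  tfae_have 4 → 2 := by
    intro h
    refine ⟨fun x y hxy => ?_⟩
    obtain ⟨U, hU, hxU⟩ := exists_isOpen_xor_mem hxy
    rcases hxU with ⟨hx, hy⟩ | ⟨hy, hx⟩
    · obtain ⟨V, ⟨hVo, hVc⟩, hxV, hVU⟩ :=
        PrespectralSpace.isTopologicalBasis.exists_subset_of_mem_open hx hU
      exact ⟨V, Vᶜ, hVo, (h V hVo hVc).isOpen_compl, hxV, fun hh => hy (hVU hh),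
        disjoint_compl_right⟩
    · obtain ⟨V, ⟨hVo, hVc⟩, hyV, hVU⟩ :=
        PrespectralSpace.isTopologicalBasis.exists_subset_of_mem_open hy hU
      exact ⟨Vᶜ, V, (h V hVo hVc).isOpen_compl, hVo, fun hh => hx (hVU hh), hyV,
        disjoint_compl_left⟩
  tfae_have 2 → 8 := by
    intro h
    refine le_antisymm constructibleTopology_le ?_
    intro s hs
    rw [← @isClosed_compl_iff X (constructibleTopology X)] at hs
    rw [← isClosed_compl_iff]
    exact (isCompact_of_isClosed_constructibleTopology hs).isClosed
  tfae_have 8 → 2 := by
    intro h
    have := t2Space_constructibleTopology (X := X)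
    rwa [h] at this
  tfae_have 5 → 7 := by
    intro h x
    have hx : closure ({x} : Set X) = {x} := by
      refine subset_antisymm ?_ subset_closure
      intro y hy
      exact (h x y (specializes_iff_mem_closure.mpr hy)).symm
    rw [hx]
    refine ⟨isIrreducible_singleton, ?_⟩
    intro Z hZ hxZ
    have hZc : IsIrreducible (closure Z) := hZ.closure
    obtain ⟨η, hη⟩ := QuasiSober.sober hZc isClosed_closure
    have hηx : η = x := h η x (hη.specializes (subset_closure (hxZ rfl)))
    intro z hz
    have := hη.specializes (subset_closure hz)
    rw [hηx] at this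
    exact (h x z this).symm
  tfae_have 7 → 5 := by
    intro h x y hxy
    have hsub : closure ({y} : Set X) ⊆ closure {x} :=
      (isClosed_closure.closure_subset_iff).mpr
        (singleton_subset_iff.mpr (specializes_iff_mem_closure.mp hxy))
    have hle := (h y).2 isIrreducible_singleton.closure hsub
    have hyx : y ⤳ x := specializes_iff_mem_closure.mpr (hle (subset_closure rfl))
    exact (hxy.antisymm hyx).eq
  tfae_finish

end Groth.Agent.S7528
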