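import Groth.Statements.S7529
import Groth.Agent.Lib.Helper37.Spectral

set_option autoImplicit false
universe u
open SpecSp

namespace Groth.Agent.S7529

open Groth.Agent.Lib.Helper37 TopologicalSpace in
/-- The product X × Y of two spectral spaces X and Y is a spectral space. -/
theorem result (X Y : Type u) [TopologicalSpace X] [TopologicalSpace Y]
    [SpectralSpace X] [SpectralSpace Y] : SpectralSpace (X × Y) := by
  have hb := (PrespectralSpace.isTopologicalBasis (X := X)).prod
    (PrespectralSpace.isTopologicalBasis (X := Y))
  refine (spectralSpace_of_patch _ hb.eq_generateFrom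
    (Y := WithConstructibleTopology X × WithConstructibleTopology Y)
    (Prod.map WithTopology.ofTopology WithTopology.ofTopology)
    ((WithTopology.ofTopology_surjective _).prodMap (WithTopology.ofTopology_surjective _)) ?_).1
  rintro _ ⟨U, ⟨hUo, hUc⟩, V, ⟨hVo, hVc⟩, rfl⟩
  show IsClopen (Prod.map WithTopology.ofTopology WithTopology.ofTopology ⁻¹' (U ×ˢ V))
  rw [Set.preimage_prod_map_prod]
  exact IsClopen.prod
    (isClopen_preimage_ofTopology.mpr (isClopen_constructibleTopology_of_isCompact_isOpen hUc hUo))
    (isClopen_preimage_ofTopology.mpr (isClopen_constructibleTopology_of_isCompact_isOpen hVc hVo))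

end Groth.Agent.S7529
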