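import Groth.Statements.S7530
import Groth.Agent.Lib.Helper37.SpectralMaps

set_option autoImplicit false
universe u
open SpecSp

namespace Groth.Agent.S7530

open Groth.Agent.Lib.Helper37 Set in

/-- Let f : X → Y be a map of spectral spaces which is spectral and bijective, and assume that
generalizations lift along f or that specializations lift along f. Then f is a homeomorphism. -/
theorem result {X Y : Type u} [TopologicalSpace X] [TopologicalSpace Y]
    [SpectralSpace X] [SpectralSpace Y] (f : X → Y) (hf : IsSpectralMap f) (hb : Function.Bijective f)
    (hlift : GeneralizingMap f ∨ SpecializingMap f) :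
    IsHomeomorph f := by
  rw [isHomeomorph_iff_continuous_isClosedMap_bijective]
  refine ⟨hf.continuous, ?_, hb⟩
  intro Z hZ
  have hZc : @IsClosed Y (constructibleTopology Y) (f '' Z) :=
    isClosed_constructibleTopology_image hf (isClosed_constructibleTopology_of_isClosed hZ)
  refine isClosed_of_isClosed_constructibleTopology_of_stableUnderSpecialization hZc ?_
  rcases hlift with hg | hs
  · -- generalizing: the complement of `f '' Z` is `f '' Zᶜ`, stable under generalization
    have : f '' Z = (f '' Zᶜ)ᶜ := by rw [image_compl_eq hb, compl_compl]
    rw [this]
    exact (hg.stableUnderGeneralization_image hZ.isOpen_compl.stableUnderGeneralization).compl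
  · exact hs.stableUnderSpecialization_image hZ.stableUnderSpecialization

end Groth.Agent.S7530
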