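import Groth.Statements.S7532
import Groth.Agent.Lib.Helper37.SpectralSierpinski

set_option autoImplicit false
universe u
open SpecSp

namespace Groth.Agent.S7532

open Groth.Agent.Lib.Helper37 Set TopologicalSpace in

/-- Let W be the two-point space with one closed and one non-closed point (here the Sierpiński topology
on Prop). A topological space X is spectral exactly when, for some index type I, X admits a
topological embedding into the power W^I whose image is a closed set for the constructible topology
on W^I. -/
theorem result (X : Type u) [TopologicalSpace X] :
    SpectralSpace X ↔ ∃ (I : Type u) (f : X → (I → Prop)),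
      Topology.IsEmbedding f ∧ @IsClosed (I → Prop) (constructibleTopology (I → Prop)) (Set.range f) := by
  constructor
  · intro hX
    let I := {U : Set X // IsOpen U ∧ IsCompact U}
    let f : X → (I → Prop) := fun x i => x ∈ i.1
    have hpre : ∀ i : I, f ⁻¹' {p : I → Prop | p i} = i.1 := fun i => rfl
    have hind : Topology.IsInducing f := by
      refine ⟨?_⟩
      rw [show (Pi.topologicalSpace : TopologicalSpace (I → Prop)) = _ from
        pi_Prop_eq_generateFrom I, induced_generateFrom_eq,
        (PrespectralSpace.isTopologicalBasis (X := X)).eq_generateFrom]
      congr 1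
      ext U
      constructor
      · intro hU
        exact ⟨{p : I → Prop | p ⟨U, hU⟩}, ⟨⟨U, hU⟩, rfl⟩, rfl⟩
      · rintro ⟨_, ⟨i, rfl⟩, rfl⟩
        exact i.2
    have hSI := (spectralSpace_pi_Prop I).1
    have hspec : IsSpectralMap f := by
      refine isSpectralMap_of_subbasis _ (pi_Prop_eq_generateFrom I) hind.continuous ?_
      rintro _ ⟨i, rfl⟩
      rw [hpre]
      exact i.2.2
    refine ⟨I, f, hind.isEmbedding, ?_⟩
    rw [← image_univ]
    exact isClosed_constructibleTopology_image hspec (@isClosed_univ X (constructibleTopology X))
  · rintro ⟨I, f, hf, hr⟩
    have hSI := (spectralSpace_pi_Prop I).1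
    have : T0Space X := hf.t0Space
    exact (spectralSpace_of_isInducing hf.isInducing hr).1

end Groth.Agent.S7532
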