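import Groth.Statements.S7536
import Groth.Agent.Lib.Helper37.SpectralConstructible

set_option autoImplicit false
universe u
open CategoryTheory CategoryTheory.Limits
open SpecSp

namespace Groth.Agent.S7536

open Groth.Agent.Lib.Helper37 Set Topology in

/-- Let j ↦ X_j be a cofiltered diagram of spectral spaces with spectral transition maps and X its limit
with projections p_j. For every constructible E ⊆ X there are an object i and a constructible E_i ⊆
X_i with p_i⁻¹(E_i) = E; if E is open, resp. closed, then E_i may be chosen open, resp. closed. -/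
theorem result {J : Type u} [SmallCategory J] [IsCofiltered J] (F : J ⥤ TopCat.{u})
    (hF : ∀ j, SpectralSpace (F.obj j))
    (hFm : ∀ {i j : J} (a : i ⟶ j), IsSpectralMap (F.map a : F.obj i → F.obj j))
    (c : Cone F) (hc : IsLimit c)
    (E : Set c.pt) (hE : Topology.IsConstructible E) :
    (∃ (i : J) (Ei : Set (F.obj i)), Topology.IsConstructible Ei ∧ c.π.app i ⁻¹' Ei = E) ∧
    (IsOpen E → ∃ (i : J) (Ei : Set (F.obj i)), Topology.IsConstructible Ei ∧ IsOpen Ei ∧ c.π.app i ⁻¹' Ei = E) ∧
    (IsClosed E → ∃ (i : J) (Ei : Set (F.obj i)), Topology.IsConstructible Ei ∧ IsClosed Ei ∧ c.π.app i ⁻¹' Ei = E) := by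
  obtain ⟨hS, -, hπ⟩ := spectralSpace_of_isLimit hF hFm hc
  have hopen : ∀ U : Set c.pt, IsConstructible U → IsOpen U →
      ∃ (i : J) (Ei : Set (F.obj i)), IsConstructible Ei ∧ IsOpen Ei ∧ c.π.app i ⁻¹' Ei = U := by
    intro U hU hUo
    have hUc : IsCompact U := isCompact_of_isClosed_constructibleTopology
      (isClopen_constructibleTopology_of_isConstructible hU).1
    obtain ⟨i, Ui, hUio, hUic, rfl⟩ := exists_preimage_eq_of_isCompact_isOpen hF hFm hc hUo hUc
    exact ⟨i, Ui, hUic.isConstructible hUio, hUio, rfl⟩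
  refine ⟨?_, hopen E hE, fun hEc => ?_⟩
  · induction hE using IsConstructible.empty_union_induction with
    | open_retrocompact U hUo hUc =>
      obtain ⟨i, Ei, h1, -, h2⟩ := hopen U (hUc.isConstructible hUo) hUo
      exact ⟨i, Ei, h1, h2⟩
    | union s hs t ht hs' ht' =>
      obtain ⟨i, Ei, hEi, rfl⟩ := hs'
      obtain ⟨j, Ej, hEj, rfl⟩ := ht'
      refine ⟨IsCofiltered.min i j,
        F.map (IsCofiltered.minToLeft i j) ⁻¹' Ei ∪ F.map (IsCofiltered.minToRight i j) ⁻¹' Ej,
        ?_, ?_⟩
      · exact (isConstructible_preimage_of_isSpectralMap (hFm _) hEi).union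
          (isConstructible_preimage_of_isSpectralMap (hFm _) hEj)
      · rw [preimage_union, ← cone_π_preimage, ← cone_π_preimage]
    | compl s hs hs' =>
      obtain ⟨i, Ei, hEi, rfl⟩ := hs'
      exact ⟨i, Eiᶜ, hEi.compl, preimage_compl⟩
  · obtain ⟨i, Ui, h1, h2, h3⟩ := hopen Eᶜ hE.compl hEc.isOpen_compl
    refine ⟨i, Uiᶜ, h1.compl, h2.isClosed_compl, ?_⟩
    rw [preimage_compl, h3, compl_compl]

end Groth.Agent.S7536
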