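import Groth.Statements.S7538
import Groth.Agent.Lib.Helper38.SpectralLimit3

set_option autoImplicit false
universe u
open CategoryTheory CategoryTheory.Limits
open SpecSp

namespace Groth.Agent.S7538

open Groth.Agent.Lib.Helper38 TopologicalSpace Set

theorem isClosedCT_and_isOpenCT_iUnion {X : Type u} [TopologicalSpace X] [SpectralSpace X]
    {n : ℕ} (V : Fin n → Set X) (hV : ∀ l, IsOpen (V l) ∧ IsCompact (V l)) :
    IsClosedCT (⋃ l, V l) ∧ IsOpenCT (⋃ l, V l) :=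
  ⟨IsClosedCT.of_isOpen_isCompact (isOpen_iUnion fun l => (hV l).1)
      (isCompact_iUnion fun l => (hV l).2),
    IsOpenCT.of_isOpen (isOpen_iUnion fun l => (hV l).1)⟩

theorem isClosedCT_and_isOpenCT_iInter {X : Type u} [TopologicalSpace X] [SpectralSpace X]
    {n : ℕ} (V : Fin n → Set X) (hV : ∀ l, IsOpen (V l) ∧ IsCompact (V l)) :
    IsClosedCT (⋂ l, V l) ∧ IsOpenCT (⋂ l, V l) :=
  ⟨isClosedCT_iInter fun l => IsClosedCT.of_isOpen_isCompact (hV l).1 (hV l).2,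
    IsOpenCT.of_isOpen (isOpen_iInter_of_finite fun l => (hV l).1)⟩

/-- Let j ↦ X_j be a cofiltered diagram of spectral spaces with spectral transition maps f_a and X its
limit with projections p_j. (1) Any quasi-compact open U ⊆ X is p_i⁻¹(U_i) for some i and some
quasi-compact open U_i ⊆ X_i. (2) If U_i ⊆ X_i and U_j ⊆ X_j are quasi-compact opens with p_i⁻¹(U_i)
⊆ p_j⁻¹(U_j), there are k and a : k → i, b : k → j with f_a⁻¹(U_i) ⊆ f_b⁻¹(U_j). (3) If U_i and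
finitely many U_{l,i} are quasi-compact opens of X_i with p_i⁻¹(U_i) = ⋃_l p_i⁻¹(U_{l,i}), then
f_a⁻¹(U_i) = ⋃_l f_a⁻¹(U_{l,i}) for some a : j → i. (4) The same with intersections. -/
theorem result {J : Type u} [SmallCategory J] [IsCofiltered J] (F : J ⥤ TopCat.{u})
    (hF : ∀ j, SpectralSpace (F.obj j))
    (hFm : ∀ {i j : J} (a : i ⟶ j), IsSpectralMap (F.map a : F.obj i → F.obj j))
    (c : Cone F) (hc : IsLimit c) :
    (∀ U : Set c.pt, IsOpen U → IsCompact U →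
      ∃ (i : J) (Ui : Set (F.obj i)), IsOpen Ui ∧ IsCompact Ui ∧ c.π.app i ⁻¹' Ui = U) ∧
    (∀ (i j : J) (Ui : Set (F.obj i)) (Uj : Set (F.obj j)),
      IsOpen Ui → IsCompact Ui → IsOpen Uj → IsCompact Uj →
      c.π.app i ⁻¹' Ui ⊆ c.π.app j ⁻¹' Uj →
      ∃ (k : J) (a : k ⟶ i) (b : k ⟶ j), F.map a ⁻¹' Ui ⊆ F.map b ⁻¹' Uj) ∧
    (∀ (i : J) (n : ℕ) (Ui : Set (F.obj i)) (V : Fin n → Set (F.obj i)),
      IsOpen Ui → IsCompact Ui → (∀ l, IsOpen (V l) ∧ IsCompact (V l)) →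
      (c.π.app i ⁻¹' Ui = ⋃ l, c.π.app i ⁻¹' V l →
        ∃ (j : J) (a : j ⟶ i), F.map a ⁻¹' Ui = ⋃ l, F.map a ⁻¹' V l) ∧
      (c.π.app i ⁻¹' Ui = ⋂ l, c.π.app i ⁻¹' V l →
        ∃ (j : J) (a : j ⟶ i), F.map a ⁻¹' Ui = ⋂ l, F.map a ⁻¹' V l)) := by
  refine ⟨?_, ?_, ?_⟩
  · intro U hUo hUc
    obtain ⟨i, Ui, hUi, rfl⟩ := exists_preimage_eq_of_isCompact_of_basis F c hc
      (fun j => {V | IsOpen V ∧ IsCompact V})
      (fun _ => PrespectralSpace.isTopologicalBasis)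
      (fun _ => ⟨isOpen_univ, isCompact_univ⟩)
      (fun _ U1 U2 h1 h2 => ⟨h1.1.inter h2.1, h1.2.inter_of_isOpen h2.2 h1.1 h2.1⟩)
      (fun _ _ f V hV => ⟨hV.1.preimage (hFm f).continuous,
        (hFm f).isCompact_preimage_of_isOpen hV.1 hV.2⟩)
      (fun _ _ s f hf => ⟨isOpen_biUnion fun x hx => (hf x hx).1,
        s.isCompact_biUnion fun x hx => (hf x hx).2⟩) hUo hUc
    exact ⟨i, Ui, hUi.1, hUi.2, rfl⟩
  · intro i j Ui Uj hUio hUic hUjo hUjc hsub
    let m := IsCofiltered.min i j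
    let a₀ : m ⟶ i := IsCofiltered.minToLeft i j
    let b₀ : m ⟶ j := IsCofiltered.minToRight i j
    have hA : IsClosedCT (F.map a₀ ⁻¹' Ui) :=
      IsClosedCT.of_isOpen_isCompact (hUio.preimage (hFm a₀).continuous)
        ((hFm a₀).isCompact_preimage_of_isOpen hUio hUic)
    have hB : IsOpenCT (F.map b₀ ⁻¹' Uj) :=
      IsOpenCT.of_isOpen (hUjo.preimage (hFm b₀).continuous)
    have h : c.π.app m ⁻¹' (F.map a₀ ⁻¹' Ui) ⊆ c.π.app m ⁻¹' (F.map b₀ ⁻¹' Uj) := by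
      rw [cone_preimage_preimage, cone_preimage_preimage]
      exact hsub
    obtain ⟨k, e, he⟩ := exists_preimage_subset F hFm c hc m hA hB h
    refine ⟨k, e ≫ a₀, e ≫ b₀, ?_⟩
    intro y hy
    have hy' : y ∈ F.map e ⁻¹' (F.map a₀ ⁻¹' Ui) := by
      change F.map a₀ (F.map e y) ∈ Ui
      have : F.map (e ≫ a₀) y ∈ Ui := hy
      rwa [F.map_comp] at this
    have := he hy'
    change F.map (e ≫ b₀) y ∈ Uj
    rw [F.map_comp]
    exact this
  · intro i n Ui V hUio hUic hV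
    have hUi1 : IsClosedCT Ui := IsClosedCT.of_isOpen_isCompact hUio hUic
    have hUi2 : IsOpenCT Ui := IsOpenCT.of_isOpen hUio
    constructor
    · intro h
      rw [← preimage_iUnion] at h
      obtain ⟨j, a, ha⟩ := exists_preimage_eq F hFm c hc i hUi1 hUi2
        (isClosedCT_and_isOpenCT_iUnion V hV).1 (isClosedCT_and_isOpenCT_iUnion V hV).2 h
      exact ⟨j, a, by rw [ha, preimage_iUnion]⟩
    · intro h
      rw [← preimage_iInter] at h
      obtain ⟨j, a, ha⟩ := exists_preimage_eq F hFm c hc i hUi1 hUi2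
        (isClosedCT_and_isOpenCT_iInter V hV).1 (isClosedCT_and_isOpenCT_iInter V hV).2 h
      exact ⟨j, a, by rw [ha, preimage_iInter]⟩

end Groth.Agent.S7538
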