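import Groth.Statements.S7539
import Groth.Agent.Lib.Helper38.ConstrTop

set_option autoImplicit false
universe u
open SpecSp

namespace Groth.Agent.S7539

open Groth.Agent.Lib.Helper38 Set

theorem isOpen_isCompact_biInter_finset {X : Type u} [TopologicalSpace X] [SpectralSpace X]
    {S : Set (Set X)} (hS : ∀ s ∈ S, IsOpen s ∧ IsCompact s) (t : Finset S) :
    IsOpen (⋂ s ∈ t, (s : Set X)) ∧ IsCompact (⋂ s ∈ t, (s : Set X)) := by
  classical
  induction t using Finset.induction_on with
  | empty => simpa using isCompact_univ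
  | insert a t _ ih =>
    rw [Finset.set_biInter_insert]
    exact ⟨(hS a a.2).1.inter ih.1,
      (hS a a.2).2.inter_of_isOpen ih.2 (hS a a.2).1 ih.1⟩

/-- For a subset W of a spectral space X, these five conditions coincide: (1) W can be written as an
intersection of constructible subsets and is stable under generalization; (2) W is quasi-compact and
stable under generalization; (3) for some quasi-compact E ⊆ X, W consists exactly of the points that
specialize to a point of E; (4) W is the intersection of some family of quasi-compact opens; (5)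
there are a nonempty index set I and quasi-compact opens U_i with W = ⋂ U_i such that for all i, j
some U_k is contained in U_i ∩ U_j. -/
theorem result {X : Type u} [TopologicalSpace X] [SpectralSpace X] (W : Set X) :
    List.TFAE [
      (∃ S : Set (Set X), (∀ s ∈ S, Topology.IsConstructible s) ∧ W = ⋂₀ S) ∧ StableUnderGeneralization W,
      IsCompact W ∧ StableUnderGeneralization W,
      ∃ E : Set X, IsCompact E ∧ W = {x | ∃ e ∈ E, x ⤳ e},
      ∃ S : Set (Set X), (∀ s ∈ S, IsOpen s ∧ IsCompact s) ∧ W = ⋂₀ S,
      ∃ (I : Type u) (_ : Nonempty I) (U : I → Set X), (∀ i, IsOpen (U i) ∧ IsCompact (U i)) ∧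
        W = ⋂ i, U i ∧ ∀ i j, ∃ k, U k ⊆ U i ∩ U j] := by
  tfae_have 1 → 2 := by
    rintro ⟨⟨S, hS, rfl⟩, hgen⟩
    exact ⟨(isClosedCT_sInter fun s hs => IsClosedCT.of_isConstructible (hS s hs)).isCompact, hgen⟩
  tfae_have 2 → 3 := by
    rintro ⟨hc, hgen⟩
    refine ⟨W, hc, ?_⟩
    ext x
    constructor
    · intro hx; exact ⟨x, hx, specializes_rfl⟩
    · rintro ⟨e, he, hxe⟩; exact hgen hxe he
  tfae_have 3 → 4 := by
    rintro ⟨E, hE, rfl⟩
    refine ⟨{U | IsOpen U ∧ IsCompact U ∧ E ⊆ U}, fun s hs => ⟨hs.1, hs.2.1⟩, ?_⟩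
    ext x
    simp only [mem_ofPred_eq, mem_sInter, and_imp]
    constructor
    · rintro ⟨e, he, hxe⟩ U hUo _ hEU
      exact hxe.mem_open hUo (hEU he)
    · intro h
      by_contra hx
      push Not at hx
      have hsub : E ⊆ (closure {x})ᶜ := fun e he hecl =>
        hx e he (specializes_iff_mem_closure.mpr hecl)
      obtain ⟨U, hUc, hUo, hEU, hUx⟩ :=
        PrespectralSpace.exists_isCompact_and_isOpen_between hE isClosed_closure.isOpen_compl hsub
      exact hUx (h U hUo hUc hEU) (subset_closure rfl)
  tfae_have 4 → 5 := by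
    classical
    rintro ⟨S, hS, rfl⟩
    refine ⟨Finset S, ⟨∅⟩, fun t => ⋂ s ∈ t, (s : Set X),
      fun t => isOpen_isCompact_biInter_finset hS t, ?_, ?_⟩
    · ext x
      simp only [mem_sInter, mem_iInter]
      constructor
      · intro h t s _; exact h s s.2
      · intro h s hs
        have := h {⟨s, hs⟩} ⟨s, hs⟩ (Finset.mem_singleton_self _)
        exact this
    · intro i j
      refine ⟨i ∪ j, ?_⟩
      intro x hx
      simp only [mem_iInter, mem_inter_iff] at hx ⊢
      exact ⟨fun s hs => hx s (Finset.mem_union_left _ hs),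
        fun s hs => hx s (Finset.mem_union_right _ hs)⟩
  tfae_have 5 → 1 := by
    rintro ⟨I, _, U, hU, rfl, _⟩
    refine ⟨⟨range U, ?_, (sInter_range U).symm⟩, ?_⟩
    · rintro _ ⟨i, rfl⟩
      exact (hU i).2.isConstructible (hU i).1
    · rw [← sInter_range]
      exact stableUnderGeneralization_sInter _ (by
        rintro _ ⟨i, rfl⟩; exact (hU i).1.stableUnderGeneralization)
  tfae_finish

end Groth.Agent.S7539
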