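import Groth.Statements.S7540
import Groth.Agent.Lib.Helper38.ConstrTop

set_option autoImplicit false
universe u
open SpecSp

namespace Groth.Agent.S7540

open Groth.Agent.Lib.Helper38 in
/-- Let X be a spectral space, I a nonempty index set and U_i ⊆ X quasi-compact opens such that for all
i, j some U_k lies in U_i ∩ U_j; put W = ⋂ U_i. Then every open subset of X containing W contains
some U_i. The published statement also asserts that W is spectral and is the limit of the U_i; this
row states the neighbourhood property. -/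
theorem result {X : Type u} [TopologicalSpace X] [SpectralSpace X]
    {I : Type u} [Nonempty I] (U : I → Set X) (hU : ∀ i, IsOpen (U i) ∧ IsCompact (U i))
    (hdir : ∀ i j, ∃ k, U k ⊆ U i ∩ U j) :
    ∀ V : Set X, IsOpen V → (⋂ i, U i) ⊆ V → ∃ i, U i ⊆ V := by
  intro V hV hWV
  have h1 : ∀ i, IsClosedCT (U i \ V) := fun i =>
    (IsClosedCT.of_isOpen_isCompact (hU i).1 (hU i).2).inter
      (IsClosedCT.of_isClosed hV.isClosed_compl)
  have h2 : Directed (· ⊇ ·) fun i => U i \ V := fun i j => by
    obtain ⟨k, hk⟩ := hdir i j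
    exact ⟨k, Set.sdiff_subset_sdiff_left (hk.trans Set.inter_subset_left),
      Set.sdiff_subset_sdiff_left (hk.trans Set.inter_subset_right)⟩
  have h3 : ⋂ i, U i \ V = ∅ := by
    rw [Set.eq_empty_iff_forall_notMem]
    intro x hx
    rw [Set.mem_iInter] at hx
    exact (hx (Classical.arbitrary I)).2 (hWV (Set.mem_iInter.mpr fun i => (hx i).1))
  obtain ⟨i, hi⟩ := exists_eq_empty_of_directed_of_isClosedCT _ h1 h2 h3
  exact ⟨i, Set.sdiff_eq_empty.mp hi⟩

end Groth.Agent.S7540
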