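import Groth.Statements.S7541
import Groth.Agent.Lib.Helper38.SpectralSub

set_option autoImplicit false
universe u
open SpecSp

namespace Groth.Agent.S7541

open Groth.Agent.Lib.Helper38 Set in
/-- Let X be a spectral space, E ⊆ X a constructible subset and W the set of points of X that specialize
to a point of E. Then the subspace W minus E is a spectral space. (The description of W minus E as a
limit of the U_i minus E is not recorded here.) -/
theorem result {X : Type u} [TopologicalSpace X] [SpectralSpace X]
    (E : Set X) (hE : Topology.IsConstructible E) :
    SpectralSpace ↥({x : X | ∃ e ∈ E, x ⤳ e} \ E) := by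
  apply IsClosedCT.spectralSpace
  have hEc : IsCompact E := (IsClosedCT.of_isConstructible hE).isCompact
  -- the set of generalizations of `E` is the intersection of the compact opens containing `E`
  have hW : {x : X | ∃ e ∈ E, x ⤳ e} = ⋂₀ {U | IsOpen U ∧ IsCompact U ∧ E ⊆ U} := by
    ext x
    simp only [mem_ofPred_eq, mem_sInter, and_imp]
    constructor
    · rintro ⟨e, he, hxe⟩ U hUo _ hEU
      exact hxe.mem_open hUo (hEU he)
    · intro h
      by_contra hx
      push Not at hx
      have hsub : E ⊆ (closure {x})ᶜ := fun e he hecl =>
        hx e he (specializes_iff_mem_closure.mpr hecl)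
      obtain ⟨U, hUc, hUo, hEU, hUx⟩ :=
        PrespectralSpace.exists_isCompact_and_isOpen_between hEc isClosed_closure.isOpen_compl hsub
      exact hUx (h U hUo hUc hEU) (subset_closure rfl)
  rw [hW, sdiff_eq]
  exact (isClosedCT_sInter fun U hU => IsClosedCT.of_isOpen_isCompact hU.1 hU.2.1).inter
    (IsClosedCT.of_isConstructible hE.compl)

end Groth.Agent.S7541
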