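import Groth.Statements.S7546
import Groth.Agent.Lib.Helper38.TopBasic

set_option autoImplicit false
universe u
open ConstrTop

namespace Groth.Agent.S7546

/-- Let X be a topological space, Z ⊆ X irreducible and E ⊆ X a finite union of locally closed subsets
(for instance a constructible set). Then E ∩ Z is dense in Z if and only if E ∩ Z contains a subset
of the form U ∩ Z, U open in X, which is dense in Z. If moreover ξ ∈ Z is a generic point of Z,
these conditions are equivalent to ξ ∈ E. -/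
theorem result {X : Type u} [TopologicalSpace X] (Z : Set X) (hZ : IsIrreducible Z)
    {n : ℕ} (L : Fin n → Set X) (hL : ∀ i, IsLocallyClosed (L i)) (E : Set X) (hE : E = ⋃ i, L i) :
    (Z ⊆ closure (E ∩ Z) ↔ ∃ U : Set X, IsOpen U ∧ U ∩ Z ⊆ E ∧ Z ⊆ closure (U ∩ Z)) ∧
    (∀ ξ : X, ξ ∈ Z → Z ⊆ closure {ξ} → (Z ⊆ closure (E ∩ Z) ↔ ξ ∈ E)) := by
  subst hE
  refine ⟨⟨fun h => Groth.Agent.Lib.Helper38.exists_open_of_dense_inter_irreducible hZ L hL h, ?_⟩, ?_⟩
  · rintro ⟨U, _, hUE, hUd⟩
    refine hUd.trans (closure_mono ?_)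
    exact fun x hx => ⟨hUE hx, hx.2⟩
  · intro ξ hξ hgen
    refine ⟨fun h => Groth.Agent.Lib.Helper38.mem_of_dense_inter_irreducible_of_generic hZ L hL h hξ hgen, ?_⟩
    intro hξE
    refine hgen.trans (closure_mono ?_)
    rintro _ rfl
    exact ⟨hξE, hξ⟩

end Groth.Agent.S7546
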