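import Groth.Statements.S7547

set_option autoImplicit false
universe u
open PtTop

namespace Groth.Agent.S7547

open Topology in
/-- Let X be a Kolmogorov topological space whose quasi-compact opens form a basis for the topology. If
X is not Jacobson, there is a point x ∈ X which is not closed but such that {x} is locally closed. -/
theorem result {X : Type u} [TopologicalSpace X]
    [T0Space X] [PrespectralSpace X] (hX : ¬ JacobsonSpace X) :
    ∃ x : X, ¬ IsClosed ({x} : Set X) ∧ IsLocallyClosed ({x} : Set X) := by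
  rw [jacobsonSpace_iff_locallyClosed] at hX
  push Not at hX
  obtain ⟨Z, ⟨z, hz⟩, ⟨V, C, hV, hC, rfl⟩, hZ0⟩ := hX
  obtain ⟨U, ⟨hUo, hUc⟩, hzU, hUV⟩ :=
    PrespectralSpace.isTopologicalBasis.exists_subset_of_mem_open hz.1 hV
  have : CompactSpace U := isCompact_iff_compactSpace.mp hUc
  obtain ⟨x, hxC, hx⟩ := (hC.preimage (continuous_subtype_val (p := (· ∈ U)))).exists_closed_singleton
    ⟨⟨z, hzU⟩, hz.2⟩
  refine ⟨x.1, fun hcl => ?_, ?_⟩
  · have : x.1 ∈ V ∩ C ∩ closedPoints X := ⟨⟨hUV x.2, hxC⟩, hcl⟩
    rw [hZ0] at this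
    exact this
  · have := hx.isLocallyClosed.image IsInducing.subtypeVal
      (by rw [Subtype.range_coe]; exact hUo.isLocallyClosed)
    rwa [Set.image_singleton] at this

end Groth.Agent.S7547
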