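import Groth.Statements.S7548

set_option autoImplicit false
universe u
open PtTop

namespace Groth.Agent.S7548

open Topology in
/-- Any nonempty locally closed subset of `⋃ i, T i` (with `T i` locally closed in the Jacobson space
`X`) contains a point closed in `X`. -/
theorem exists_closedPoint {X : Type u} [TopologicalSpace X] [JacobsonSpace X]
    {ι : Type u} (T : ι → Set X) (hT : ∀ i, IsLocallyClosed (T i))
    (Z : Set ↥(⋃ i, T i)) (hZ : Z.Nonempty) (hZl : IsLocallyClosed Z) :
    ∃ z ∈ Z, IsClosed ({z.1} : Set X) := by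
  obtain ⟨L, hL, rfl⟩ := (IsInducing.subtypeVal.isLocallyClosed_iff).mp hZl
  obtain ⟨⟨z, hzT⟩, hz⟩ := hZ
  obtain ⟨i, hi⟩ := Set.mem_iUnion.mp hzT
  obtain ⟨x, ⟨hxL, hxT⟩, hx⟩ := nonempty_inter_closedPoints (Z := L ∩ T i) ⟨z, hz, hi⟩
    (hL.inter (hT i))
  exact ⟨⟨x, Set.mem_iUnion.mpr ⟨i, hxT⟩⟩, hxL, hx⟩

/-- Let X be a Jacobson space and let T = ⋃ T_i be a union of subsets T_i ⊆ X each locally closed in X
(open, closed, locally closed and constructible subsets are of this form). Then T is Jacobson and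
every point of T closed in T is closed in X. -/
theorem result {X : Type u} [TopologicalSpace X] [JacobsonSpace X]
    {ι : Type u} (T : ι → Set X) (hT : ∀ i, IsLocallyClosed (T i)) :
    JacobsonSpace ↥(⋃ i, T i) ∧
      closedPoints ↥(⋃ i, T i) ⊆ (Subtype.val : ↥(⋃ i, T i) → X) ⁻¹' closedPoints X := by
  constructor
  · rw [jacobsonSpace_iff_locallyClosed]
    intro Z hZ hZl
    obtain ⟨z, hzZ, hz⟩ := exists_closedPoint T hT Z hZ hZl
    exact ⟨z, hzZ, preimage_closedPoints_subset Subtype.val_injective continuous_subtype_val hz⟩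
  · intro t ht
    obtain ⟨z, hzZ, hz⟩ := exists_closedPoint T hT {t} (Set.singleton_nonempty t)
      (IsClosed.isLocallyClosed ht)
    rw [Set.mem_singleton_iff] at hzZ
    subst hzZ
    exact hz

end Groth.Agent.S7548
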