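import Groth.Statements.S7549
import Groth.Agent.Lib.Helper38.Constr

set_option autoImplicit false
universe u
open PtTop

namespace Groth.Agent.S7549

open Groth.Agent.Lib.Helper38 Topology Set

variable {X : Type u} [TopologicalSpace X] [JacobsonSpace X]

/-- abbreviation for the inclusion of the closed points -/
local notation "ι₀" => (Subtype.val : closedPoints X → X)

/-- A finite union of locally closed subsets of a Jacobson space without closed points is empty. -/
theorem eq_empty_of_preimage_eq_empty {S : Set X} (hS : IsFinUnionLC S)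
    (h : ι₀ ⁻¹' S = ∅) : S = ∅ := by
  by_contra hne
  obtain ⟨x, hx⟩ := Set.nonempty_iff_ne_empty.mpr hne
  obtain ⟨𝒮, -, hlc, rfl⟩ := hS
  obtain ⟨L, hL, hxL⟩ := mem_sUnion.mp hx
  obtain ⟨y, hyL, hy⟩ := nonempty_inter_closedPoints ⟨x, hxL⟩ (hlc L hL)
  have : (⟨y, hy⟩ : closedPoints X) ∈ ι₀ ⁻¹' ⋃₀ 𝒮 := mem_sUnion.mpr ⟨L, hL, hyL⟩
  rw [h] at this
  exact this

theorem subset_of_preimage_subset {A B : Set X} (hAB : IsFinUnionLC (A \ B))
    (h : ι₀ ⁻¹' A ⊆ ι₀ ⁻¹' B) : A ⊆ B := by
  rw [← Set.sdiff_eq_empty]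
  apply eq_empty_of_preimage_eq_empty hAB
  rw [preimage_sdiff, Set.sdiff_eq_empty]
  exact h

theorem subset_of_preimage_subset_of_isOpen {U V : Set X} (hU : IsOpen U) (hV : IsOpen V)
    (h : ι₀ ⁻¹' U ⊆ ι₀ ⁻¹' V) : U ⊆ V :=
  subset_of_preimage_subset
    (.of_isLocallyClosed (hU.isLocallyClosed.inter hV.isClosed_compl.isLocallyClosed)) h

theorem isCompact_iff {U : Set X} (hU : IsOpen U) :
    IsCompact U ↔ IsCompact (ι₀ ⁻¹' U) := by
  constructor
  · intro hc
    rw [isCompact_iff_finite_subcover]
    intro κ W hW hcov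
    choose V hV hVW using fun i => isOpen_induced_iff.mp (hW i)
    have hcov' : U ⊆ ⋃ i, V i := by
      apply subset_of_preimage_subset_of_isOpen hU (isOpen_iUnion hV)
      rw [preimage_iUnion]
      simpa only [hVW] using hcov
    obtain ⟨t, ht⟩ := hc.elim_finite_subcover V hV hcov'
    refine ⟨t, ?_⟩
    have := preimage_mono (f := ι₀) ht
    simpa only [preimage_iUnion, hVW] using this
  · intro hc
    rw [isCompact_iff_finite_subcover]
    intro κ V hV hcov
    have hcov' : ι₀ ⁻¹' U ⊆ ⋃ i, ι₀ ⁻¹' V i := by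
      rw [← preimage_iUnion]
      exact preimage_mono hcov
    obtain ⟨t, ht⟩ := hc.elim_finite_subcover _
      (fun i => (hV i).preimage continuous_subtype_val) hcov'
    refine ⟨t, ?_⟩
    have hop : IsOpen (⋃ i ∈ t, V i) := isOpen_iUnion fun i => isOpen_iUnion fun _ => hV i
    apply subset_of_preimage_subset_of_isOpen hU hop
    simpa only [preimage_iUnion] using ht

theorem isRetrocompact_iff {U : Set X} (hU : IsOpen U) :
    IsRetrocompact U ↔ IsRetrocompact (ι₀ ⁻¹' U) := by
  constructor
  · intro hr W hWc hWo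
    obtain ⟨V, hV, rfl⟩ := isOpen_induced_iff.mp hWo
    rw [← preimage_inter, ← isCompact_iff (hU.inter hV)]
    exact hr ((isCompact_iff hV).mpr hWc) hV
  · intro hr V hVc hVo
    rw [isCompact_iff (hU.inter hVo), preimage_inter]
    exact hr ((isCompact_iff hVo).mp hVc) (hVo.preimage continuous_subtype_val)

theorem isConstructible_preimage {E : Set X} (hE : IsConstructible E) :
    IsConstructible (ι₀ ⁻¹' E) :=
  hE.preimage continuous_subtype_val fun _ hs hsr => (isRetrocompact_iff hs).mp hsr

theorem exists_isConstructible_preimage_eq {F : Set (closedPoints X)} (hF : IsConstructible F) :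
    ∃ E : Set X, IsConstructible E ∧ ι₀ ⁻¹' E = F := by
  induction hF using IsConstructible.empty_union_induction with
  | open_retrocompact W hWo hWr =>
    obtain ⟨V, hV, rfl⟩ := isOpen_induced_iff.mp hWo
    exact ⟨V, ((isRetrocompact_iff hV).mpr hWr).isConstructible hV, rfl⟩
  | union s hs t ht hs' ht' =>
    obtain ⟨E₁, hE₁, rfl⟩ := hs'
    obtain ⟨E₂, hE₂, rfl⟩ := ht'
    exact ⟨E₁ ∪ E₂, hE₁.union hE₂, preimage_union⟩
  | compl s hs hs' =>
    obtain ⟨E, hE, rfl⟩ := hs'
    exact ⟨Eᶜ, hE.compl, preimage_compl⟩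

/-- Let X be a Jacobson space and X₀ ⊆ X the subspace of closed points. (a) For U ⊆ X open, U is
quasi-compact if and only if U ∩ X₀ is quasi-compact, and U is retrocompact in X if and only if U ∩
X₀ is retrocompact in X₀. (b) The rule E ↦ E ∩ X₀ is an inclusion-preserving and
inclusion-reflecting bijection between the constructible subsets of X and the constructible subsets
of X₀. -/
theorem result {X : Type u} [TopologicalSpace X] [JacobsonSpace X] :
    (∀ U : Set X, IsOpen U →
      (IsCompact U ↔ IsCompact ((Subtype.val : closedPoints X → X) ⁻¹' U)) ∧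
      (IsRetrocompact U ↔ IsRetrocompact ((Subtype.val : closedPoints X → X) ⁻¹' U))) ∧
    (∀ E : Set X, Topology.IsConstructible E →
      Topology.IsConstructible ((Subtype.val : closedPoints X → X) ⁻¹' E)) ∧
    (∀ E E' : Set X, Topology.IsConstructible E → Topology.IsConstructible E' →
      ((Subtype.val : closedPoints X → X) ⁻¹' E ⊆ Subtype.val ⁻¹' E' ↔ E ⊆ E')) ∧
    (∀ F : Set (closedPoints X), Topology.IsConstructible F →
      ∃ E : Set X, Topology.IsConstructible E ∧ (Subtype.val : closedPoints X → X) ⁻¹' E = F) := by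
  refine ⟨fun U hU => ⟨isCompact_iff hU, isRetrocompact_iff hU⟩,
    fun E hE => isConstructible_preimage hE, fun E E' hE hE' => ⟨fun h => ?_, fun h => preimage_mono h⟩,
    fun F hF => exists_isConstructible_preimage_eq hF⟩
  exact subset_of_preimage_subset (.of_isConstructible (hE.sdiff hE')) h

end Groth.Agent.S7549
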