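import Groth.Statements.S7550
import Groth.Agent.Lib.Helper38.Noeth

set_option autoImplicit false
universe u
open PtTop

namespace Groth.Agent.S7550

open Groth.Agent.Lib.Helper38 in
/-- Let f : X → Y be a continuous and open map of topological spaces, with X Noetherian, every
irreducible closed subset of X having a generic point, and Y Kolmogorov. Then generalizations lift
along f. (Part (1), closed maps are specializing, is a library fact.) -/
theorem result {X Y : Type u} [TopologicalSpace X] [TopologicalSpace Y]
    [TopologicalSpace.NoetherianSpace X] [QuasiSober X] [T0Space Y]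
    (f : X → Y) (hf : Continuous f) (hfo : IsOpenMap f) :
    GeneralizingMap f := by
  intro x y' hy'
  -- `x` lies in the closure of the fibre over `y'`
  have hx : x ∈ closure (f ⁻¹' {y'}) := by
    rw [mem_closure_iff]
    intro U hU hxU
    have : y' ∈ f '' U := hy'.mem_open (hfo U hU) ⟨x, hxU, rfl⟩
    obtain ⟨z, hzU, hz⟩ := this
    exact ⟨z, hzU, hz⟩
  obtain ⟨W, hWc, hWi, hxW, hWeq⟩ := exists_irreducible_closed_dense_of_mem_closure hx
  have hgen := hWi.isGenericPoint_genericPoint hWc
  refine ⟨hWi.genericPoint, hgen.specializes hxW, ?_⟩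
  -- the fibre meets `W`
  have hne : (f ⁻¹' {y'} ∩ W).Nonempty := by
    by_contra hempty
    rw [Set.not_nonempty_iff_eq_empty] at hempty
    rw [hempty, closure_empty] at hWeq
    rw [hWeq] at hxW
    exact hxW
  obtain ⟨t, ht, htW⟩ := hne
  have h1 : f hWi.genericPoint ⤳ y' := by
    have := (hgen.specializes htW).map hf
    rwa [show f t = y' from ht] at this
  have h2 : y' ⤳ f hWi.genericPoint := by
    rw [specializes_iff_mem_closure]
    have hmem : hWi.genericPoint ∈ closure (f ⁻¹' {y'} ∩ W) := hWeq ▸ hgen.mem
    have := map_mem_closure hf hmem (t := {y'}) (fun z hz => hz.1)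
    exact this
  exact (h1.antisymm h2).eq

end Groth.Agent.S7550
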