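import Groth.Statements.S7551

set_option autoImplicit false
universe u
open PtTop

namespace Groth.Agent.S7551

/-- Let s, t : R → U and π : U → X be continuous maps between topological spaces satisfying: (1) π is an
open map, (2) U is a sober space, (3) s and t have finite fibres, (4) generalizations lift along s
and along t, and (5) the image of (t, s) : R → U × U is an equivalence relation on U and π
identifies X, as a set, with the quotient of U by it. Then X is Kolmogorov. -/
theorem result {R U X : Type u}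
    [TopologicalSpace R] [TopologicalSpace U] [TopologicalSpace X] [QuasiSober U] [T0Space U]
    (s t : R → U) (π : U → X) (hs : Continuous s) (ht : Continuous t) (hπ : Continuous π)
    (hπo : IsOpenMap π) (hsf : ∀ u, (s ⁻¹' {u}).Finite) (htf : ∀ u, (t ⁻¹' {u}).Finite)
    (hsg : GeneralizingMap s) (htg : GeneralizingMap t)
    (hE : Equivalence fun u u' : U => ∃ r, t r = u ∧ s r = u')
    (hπs : Function.Surjective π) (hπq : ∀ u u' : U, π u = π u' ↔ ∃ r, t r = u ∧ s r = u') :
    T0Space X := by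
  -- fibres of π are finite
  have hfib : ∀ u₀ : U, {u | π u = π u₀}.Finite := by
    intro u₀
    refine ((hsf u₀).image t).subset ?_
    intro u hu
    obtain ⟨r, hr1, hr2⟩ := (hπq u u₀).mp hu
    exact ⟨r, hr2, hr1⟩
  -- generalizations lift along π
  have hgen : ∀ (u₀ u' : U), π u₀ ⤳ π u' → ∃ u, u ⤳ u' ∧ π u = π u₀ := by
    intro u₀ u' hx
    have hcl : u' ∈ closure {u | π u = π u₀} := by
      rw [mem_closure_iff]
      intro V hV hu'V
      have : π u₀ ∈ π '' V := hx.mem_open (hπo V hV) ⟨u', hu'V, rfl⟩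
      obtain ⟨v, hvV, hv⟩ := this
      exact ⟨v, hvV, hv⟩
    rw [← Set.biUnion_of_singleton {u | π u = π u₀}, (hfib u₀).closure_biUnion] at hcl
    obtain ⟨u, hu, hu'⟩ := Set.mem_iUnion₂.mp hcl
    exact ⟨u, specializes_iff_mem_closure.mpr hu', hu⟩
  rw [t0Space_iff_inseparable]
  intro x x' hxx'
  obtain ⟨a₀, rfl⟩ := hπs x
  obtain ⟨b₀, rfl⟩ := hπs x'
  letI := specializationPreorder U
  -- a most general point of the fibre over `π b₀`
  obtain ⟨b, hb, hbmax⟩ := (hfib b₀).exists_maximal ⟨b₀, rfl⟩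
  have hb' : π b = π b₀ := hb
  obtain ⟨a, hab, ha⟩ := hgen a₀ b (hb'.symm ▸ hxx'.specializes)
  obtain ⟨b', hb'a, hb'b⟩ := hgen b₀ a (ha.symm ▸ hxx'.specializes')
  -- `b' ⤳ a ⤳ b`, so by maximality `b ⤳ b'`
  have h1 : b ⤳ b' := hbmax (show π b' = π b₀ from hb'b) (hb'a.trans hab)
  have hab' : a = b := ((hab.trans h1).antisymm hb'a |>.eq) ▸ (h1.antisymm (hb'a.trans hab)).eq.symm
  rw [← ha, ← hb', hab']

end Groth.Agent.S7551
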