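import Groth.Statements.S7552

set_option autoImplicit false
universe u
open PtTop

namespace Groth.Agent.S7552

open TopologicalSpace Order

/-- The irreducible closed subset `closure {x}`. -/
def cl {X : Type*} [TopologicalSpace X] (x : X) : IrreducibleCloseds X :=
  ⟨closure {x}, isIrreducible_singleton.closure, isClosed_closure⟩

theorem cl_le_of_specializes {X : Type*} [TopologicalSpace X] {x x' : X} (h : x ⤳ x') :
    cl x' ≤ cl x := by
  change closure {x'} ⊆ closure {x}
  exact closure_minimal (Set.singleton_subset_iff.mpr (specializes_iff_mem_closure.mp h))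
    isClosed_closure

theorem specializes_of_cl_le {X : Type*} [TopologicalSpace X] {x x' : X} (h : cl x' ≤ cl x) :
    x ⤳ x' := by
  rw [specializes_iff_mem_closure]
  have : closure {x'} ⊆ closure {x} := h
  exact this (subset_closure rfl)

section

variable {X Y : Type u} [TopologicalSpace X] [TopologicalSpace Y] [QuasiSober Y] [T0Space Y]
  (f : X → Y) (hf : Continuous f)

include hf

omit [QuasiSober Y] in
/-- If `x ⤳ x'` and the closures of the images differ, then `cl x' < cl x`. -/
theorem cl_lt {x x' : X} (h : x ⤳ x') (hne : f x ≠ f x') : cl x' < cl x := by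
  refine lt_of_le_of_ne (cl_le_of_specializes h) ?_
  intro heq
  have h' : x' ⤳ x := specializes_of_cl_le heq.ge
  exact hne ((h.map hf).antisymm (h'.map hf)).eq

theorem height_le_of_specializing (hsp : SpecializingMap f) :
    ∀ (n : ℕ) (Z : IrreducibleCloseds Y) (x : X), IsGenericPoint (f x) (Z : Set Y) →
      (n : ℕ∞) ≤ height Z → (n : ℕ∞) ≤ height (cl x) := by
  intro n
  induction n with
  | zero => intro Z x _ _; simp
  | succ n ih =>
    intro Z x hgen hn
    obtain ⟨p, hlast, hlen⟩ := exists_series_of_le_height Z (n := n + 1) (by exact_mod_cast hn)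
    have hne0 : p.length ≠ 0 := by omega
    set Z' := p.eraseLast.last with hZ'
    have hlt : Z' < Z := hlast ▸ p.eraseLast_last_rel_last hne0
    have hht : (n : ℕ∞) ≤ height Z' := by
      have := length_le_height_last (p := p.eraseLast)
      have hl : p.eraseLast.length = n := by
        simp [hlen]
      rw [hl] at this
      exact this
    have hgen' := Z'.isIrreducible.isGenericPoint_genericPoint Z'.isClosed
    have hspec : f x ⤳ Z'.isIrreducible.genericPoint :=
      hgen.specializes (hlt.le hgen'.mem)
    obtain ⟨x', hxx', hfx'⟩ := hsp hspec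
    have hne : f x ≠ f x' := by
      intro heq
      rw [hfx'] at heq
      rw [heq] at hgen
      have : (Z : Set Y) = Z' := hgen.def.symm.trans hgen'.def
      exact hlt.ne (IrreducibleCloseds.ext this).symm
    have ih' := ih Z' x' (hfx' ▸ hgen') hht
    have := height_add_one_le (cl_lt f hf hxx' hne)
    calc ((n + 1 : ℕ) : ℕ∞) = (n : ℕ∞) + 1 := by norm_cast
      _ ≤ height (cl x') + 1 := by gcongr
      _ ≤ height (cl x) := this

theorem coheight_le_of_generalizing (hsp : GeneralizingMap f) :
    ∀ (n : ℕ) (Z : IrreducibleCloseds Y) (x : X), IsGenericPoint (f x) (Z : Set Y) →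
      (n : ℕ∞) ≤ coheight Z → (n : ℕ∞) ≤ coheight (cl x) := by
  intro n
  induction n with
  | zero => intro Z x _ _; simp
  | succ n ih =>
    intro Z x hgen hn
    obtain ⟨p, hhead, hlen⟩ := exists_series_of_le_coheight Z (n := n + 1) (by exact_mod_cast hn)
    have hne0 : p.length ≠ 0 := by omega
    set Z' := p.tail hne0 |>.head with hZ'
    have hlt : Z < Z' := by
      have : p.head < (p.tail hne0).head := p.3 ⟨0, Nat.zero_lt_of_ne_zero hne0⟩
      rw [hhead] at this
      exact this
    have hht : (n : ℕ∞) ≤ coheight Z' := by
      have := length_le_coheight_head (p := p.tail hne0)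
      have hl : (p.tail hne0).length = n := by
        simp [hlen]
      rw [hl] at this
      exact this
    have hgen' := Z'.isIrreducible.isGenericPoint_genericPoint Z'.isClosed
    have hspec : Z'.isIrreducible.genericPoint ⤳ f x :=
      hgen'.specializes (hlt.le hgen.mem)
    obtain ⟨x', hxx', hfx'⟩ := hsp hspec
    have hne : f x' ≠ f x := by
      intro heq
      rw [hfx'] at heq
      rw [← heq] at hgen
      have : (Z : Set Y) = Z' := hgen.def.symm.trans hgen'.def
      exact hlt.ne (IrreducibleCloseds.ext this)
    have ih' := ih Z' x' (hfx' ▸ hgen') hht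
    have := coheight_add_one_le (cl_lt f hf hxx' hne)
    calc ((n + 1 : ℕ) : ℕ∞) = (n : ℕ∞) + 1 := by norm_cast
      _ ≤ coheight (cl x') + 1 := by gcongr
      _ ≤ coheight (cl x) := this

end

/-- Let f : X → Y be a continuous surjective map of topological spaces with Y sober, and assume that
specializations lift along f or that generalizations lift along f. Then dim X ≥ dim Y (Krull
dimensions as suprema of lengths of chains of irreducible closed subsets). -/
theorem result {X Y : Type u}
    [TopologicalSpace X] [TopologicalSpace Y] [QuasiSober Y] [T0Space Y]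
    (f : X → Y) (hf : Continuous f) (hsurj : Function.Surjective f)
    (hlift : SpecializingMap f ∨ GeneralizingMap f) :
    topologicalKrullDim Y ≤ topologicalKrullDim X := by
  unfold topologicalKrullDim
  rcases hlift with hsp | hgen
  · rw [krullDim_eq_iSup_height (α := IrreducibleCloseds Y)]
    refine iSup_le fun Z => ?_
    have hgenZ := Z.isIrreducible.isGenericPoint_genericPoint Z.isClosed
    obtain ⟨x, hx⟩ := hsurj Z.isIrreducible.genericPoint
    have key : height Z ≤ height (cl x) := by
      apply ENat.forall_natCast_le_iff_le.mp
      intro n hn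
      exact height_le_of_specializing f hf hsp n Z x (hx ▸ hgenZ) hn
    exact (WithBot.coe_le_coe.mpr key).trans (height_le_krullDim _)
  · rw [krullDim_eq_iSup_coheight (α := IrreducibleCloseds Y)]
    refine iSup_le fun Z => ?_
    have hgenZ := Z.isIrreducible.isGenericPoint_genericPoint Z.isClosed
    obtain ⟨x, hx⟩ := hsurj Z.isIrreducible.genericPoint
    have key : coheight Z ≤ coheight (cl x) := by
      apply ENat.forall_natCast_le_iff_le.mp
      intro n hn
      exact coheight_le_of_generalizing f hf hgen n Z x (hx ▸ hgenZ) hn
    exact (WithBot.coe_le_coe.mpr key).trans (coheight_le_krullDim _)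

end Groth.Agent.S7552
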