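import Groth.Statements.S7556
import Mathlib.Topology.ExtremallyDisconnected
import Mathlib.Topology.Compactification.StoneCech

set_option autoImplicit false
universe u
open PtTop

namespace Groth.Agent.S7556

open Set Function

/-- A copy of `X` with the discrete topology. -/
def Disc (X : Type u) : Type u := X

instance (X : Type u) : TopologicalSpace (Disc X) := ⊥

instance (X : Type u) : DiscreteTopology (Disc X) := ⟨rfl⟩

/-- The identity map from the discrete copy. -/
def Disc.out {X : Type u} (x : Disc X) : X := x

/-- The identity map to the discrete copy. -/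
def Disc.mk {X : Type u} (x : X) : Disc X := x

/-- Rigidity of irreducible surjections: a continuous self-map over the base is the identity. -/
theorem eq_id_of_comp_eq {E X : Type u} [TopologicalSpace E] [T2Space E]
    {p : E → X} (hp_surj : Surjective p)
    (hmin : ∀ E₀ : Set E, E₀ ≠ univ → IsClosed E₀ → p '' E₀ ≠ univ) {g : E → E}
    (hg : Continuous g) (h : p ∘ g = p) : g = id := by
  funext e
  by_contra hne
  obtain ⟨U₁, U₂, hU₁, hU₂, he1, he2, hdisj⟩ := t2_separation (Ne.symm hne)
  have hUo : IsOpen (U₁ ∩ g ⁻¹' U₂) := hU₁.inter (hU₂.preimage hg)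
  have heU : e ∈ U₁ ∩ g ⁻¹' U₂ := ⟨he1, he2⟩
  have hne' : (U₁ ∩ g ⁻¹' U₂)ᶜ ≠ univ := fun h' => by
    have : e ∈ (U₁ ∩ g ⁻¹' U₂)ᶜ := h' ▸ mem_univ e
    exact this heU
  have hnot := hmin _ hne' hUo.isClosed_compl
  obtain ⟨x, hx⟩ : ∃ x, x ∉ p '' (U₁ ∩ g ⁻¹' U₂)ᶜ := by
    by_contra hall
    push Not at hall
    exact hnot (eq_univ_of_forall hall)
  obtain ⟨e', rfl⟩ := hp_surj x
  have he'U : e' ∈ U₁ ∩ g ⁻¹' U₂ := by
    by_contra h'
    exact hx ⟨e', h', rfl⟩
  have hge' : g e' ∈ U₁ ∩ g ⁻¹' U₂ := by
    by_contra h'
    exact hx ⟨g e', h', congrFun h e'⟩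
  exact Set.disjoint_left.mp hdisj hge'.1 he'U.2

/-- A retract of a projective compact Hausdorff space is projective. -/
theorem projective_of_retract {P E : Type u} [TopologicalSpace P] [TopologicalSpace E]
    (hP : CompactT2.Projective P) (i : E → P) (r : P → E) (hi : Continuous i) (hr : Continuous r)
    (hri : r ∘ i = id) : CompactT2.Projective E := by
  intro Y Z _ _ _ _ _ _ f g hf hg gsurj
  obtain ⟨h', hh', e⟩ := hP (f := f ∘ r) (hf.comp hr) hg gsurj
  refine ⟨h' ∘ i, hh'.comp hi, ?_⟩
  rw [← comp_assoc, e, comp_assoc, hri, comp_id]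

/-- Let X be a quasi-compact Hausdorff space. There is a continuous surjection p : X' → X with X'
quasi-compact, Hausdorff and extremally disconnected such that no proper closed subset of X' maps
onto X; and if q : X'' → X is a second cover with the same properties, there is a homeomorphism X' ≃
X'' compatible with p and q. -/
theorem result (X : Type u) [TopologicalSpace X] [CompactSpace X] [T2Space X] :
    (∃ (X' : Type u) (_ : TopologicalSpace X') (_ : CompactSpace X') (_ : T2Space X') (_ : ExtremallyDisconnected X')
        (p : X' → X), Continuous p ∧ Function.Surjective p ∧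
        ∀ E : Set X', IsClosed E → E ≠ Set.univ → p '' E ≠ Set.univ) ∧
    (∀ (X' X'' : Type u) [TopologicalSpace X'] [CompactSpace X'] [T2Space X'] [ExtremallyDisconnected X']
        [TopologicalSpace X''] [CompactSpace X''] [T2Space X''] [ExtremallyDisconnected X'']
        (p : X' → X) (q : X'' → X),
        Continuous p → Function.Surjective p → (∀ E : Set X', IsClosed E → E ≠ Set.univ → p '' E ≠ Set.univ) →
        Continuous q → Function.Surjective q → (∀ E : Set X'', IsClosed E → E ≠ Set.univ → q '' E ≠ Set.univ) →
        ∃ h : X' ≃ₜ X'', q ∘ h = p) := by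
  constructor
  · -- existence
    have hproj : CompactT2.Projective (StoneCech (Disc X)) := StoneCech.projective
    have hidc : Continuous (Disc.out : Disc X → X) := continuous_of_discreteTopology
    set ρ : StoneCech (Disc X) → X := stoneCechExtend hidc with hρ
    have ρ_cont : Continuous ρ := continuous_stoneCechExtend hidc
    have ρ_surj : Surjective ρ := by
      intro x
      refine ⟨stoneCechUnit (Disc.mk x), ?_⟩
      exact congrFun (stoneCechExtend_extends hidc) (Disc.mk x)
    obtain ⟨E, hEc, E_onto, E_min⟩ := exists_compact_surjective_zorn_subset ρ_cont ρ_surj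
    have p_cont : Continuous (E.domRestrict ρ) := ρ_cont.continuousOn.domRestrict
    have p_surj : Surjective (E.domRestrict ρ) := fun a => by
      rcases (E_onto ▸ mem_univ a : a ∈ ρ '' E) with ⟨d, ⟨hd, rfl⟩⟩
      exact ⟨⟨d, hd⟩, rfl⟩
    obtain ⟨r, hr, hrp⟩ := hproj (f := ρ) (g := E.domRestrict ρ) ρ_cont p_cont p_surj
    have hrid : r ∘ (Subtype.val : E → StoneCech (Disc X)) = id := by
      refine eq_id_of_comp_eq p_surj E_min (hr.comp continuous_subtype_val) ?_
      rw [← comp_assoc, hrp]
      rfl
    have hEproj : CompactT2.Projective E :=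
      projective_of_retract hproj Subtype.val r continuous_subtype_val hr hrid
    have hED : ExtremallyDisconnected E := hEproj.extremallyDisconnected
    exact ⟨E, inferInstance, hEc, inferInstance, hED, E.domRestrict ρ, p_cont, p_surj,
      fun E₀ hc hne => E_min E₀ hne hc⟩
  · -- uniqueness
    intro X' X'' _ _ _ _ _ _ _ _ p q hp hp_surj hp_min hq hq_surj hq_min
    have hproj' : CompactT2.Projective X' := CompactT2.ExtremallyDisconnected.projective
    obtain ⟨h, hh, e⟩ := hproj' (f := p) (g := q) hp hq hq_surj
    have hsurj : Surjective h := by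
      rw [← range_eq_univ]
      by_contra hne
      refine hq_min (range h) (isCompact_range hh).isClosed hne ?_
      rw [← range_comp, e, range_eq_univ.mpr hp_surj]
    have hzorn : ∀ E₀ : Set X', E₀ ≠ univ → IsClosed E₀ → h '' E₀ ≠ univ := by
      intro E₀ hne hc heq
      refine hp_min E₀ hc hne ?_
      rw [← e, image_comp, heq, image_univ, range_eq_univ.mpr hq_surj]
    refine ⟨ExtremallyDisconnected.homeoCompactToT2 hh hsurj hzorn, ?_⟩
    rw [← e]
    rfl

end Groth.Agent.S7556
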