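import Groth.Statements.S7557
import Mathlib.Topology.Category.TopCommRingCat
import Mathlib.Topology.Category.TopCat.Limits.Basic
import Mathlib.Algebra.Category.Ring.Limits

set_option autoImplicit false
universe u
open CategoryTheory CategoryTheory.Limits
open PtTop

namespace Groth.Agent.S7557

section
variable {J : Type u} [Category.{u} J] (F : J ⥤ TopCommRingCat.{u})

/-- The subring of compatible families in the product. -/
def sectionsSubring : Subring (∀ j, F.obj j) where
  carrier := {x | ∀ (i j : J) (f : i ⟶ j), (F.map f).1 (x i) = x j}
  mul_mem' := by
    intro a b ha hb i j f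
    simp only [Pi.mul_apply, map_mul, ha i j f, hb i j f]
  one_mem' := by
    intro i j f
    simp only [Pi.one_apply, map_one]
  add_mem' := by
    intro a b ha hb i j f
    simp only [Pi.add_apply, map_add, ha i j f, hb i j f]
  zero_mem' := by
    intro i j f
    simp only [Pi.zero_apply, map_zero]
  neg_mem' := by
    intro a ha i j f
    simp only [Pi.neg_apply, map_neg, ha i j f]

/-- The limit cone. -/
def limitCone : Cone F where
  pt := TopCommRingCat.of (sectionsSubring F)
  π :=
    { app := fun j => ⟨(Pi.evalRingHom (fun j => F.obj j) j).comp (sectionsSubring F).subtype,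
        (continuous_apply j).comp continuous_subtype_val⟩
      naturality := by
        intro i j f
        refine Subtype.ext (RingHom.ext fun x => ?_)
        exact (x.2 i j f).symm }

/-- The limit cone is a limit. -/
def isLimit : IsLimit (limitCone F) where
  lift s := ⟨RingHom.codRestrict (Pi.ringHom fun j => (s.π.app j).1) (sectionsSubring F)
      (fun x i j f => by
        have := congrArg (fun g => g.1 x) (s.w f)
        exact this),
    Continuous.subtype_mk (continuous_pi fun j => (s.π.app j).2) _⟩
  fac s j := by
    refine Subtype.ext (RingHom.ext fun x => ?_)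
    rfl
  uniq s m hm := by
    refine Subtype.ext (RingHom.ext fun x => ?_)
    apply Subtype.ext
    funext j
    have := congrArg (fun g => g.1 x) (hm j)
    exact this

/-- The image cone in `TopCat` is a limit. -/
def isLimitTop : IsLimit ((forget₂ TopCommRingCat TopCat).mapCone (limitCone F)) where
  lift s := TopCat.ofHom ⟨fun x => ⟨fun j => (s.π.app j) x, fun i j f => by
      have := ConcreteCategory.congr_hom (s.w f) x
      exact this⟩,
    Continuous.subtype_mk (continuous_pi fun j => (s.π.app j).hom.continuous) _⟩
  fac s j := by
    ext x
    rfl
  uniq s m hm := by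
    ext x
    apply Subtype.ext
    funext j
    have := ConcreteCategory.congr_hom (hm j) x
    exact this

/-- The image cone in `CommRingCat` is a limit. -/
def isLimitRing : IsLimit ((forget₂ TopCommRingCat CommRingCat).mapCone (limitCone F)) where
  lift s := CommRingCat.ofHom (RingHom.codRestrict (Pi.ringHom fun j => (s.π.app j).hom)
      (sectionsSubring F) (fun x i j f => by
        have := ConcreteCategory.congr_hom (s.w f) x
        exact this))
  fac s j := by
    ext x
    rfl
  uniq s m hm := by
    ext x
    apply Subtype.ext
    funext j
    have := ConcreteCategory.congr_hom (hm j) x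
    exact this

end

/-- The category of topological rings (commutative, with continuous ring homomorphisms) has limits, and
limits commute with the forgetful functors to topological spaces and to rings. -/
theorem result :
    HasLimits TopCommRingCat.{u} ∧
    PreservesLimits (forget₂ TopCommRingCat.{u} TopCat.{u}) ∧
    PreservesLimits (forget₂ TopCommRingCat.{u} CommRingCat.{u}) := by
  refine ⟨⟨fun J _ => ⟨fun F => HasLimit.mk ⟨limitCone F, isLimit F⟩⟩⟩, ⟨fun {J} _ => ⟨fun {F} => ?_⟩⟩,
    ⟨fun {J} _ => ⟨fun {F} => ?_⟩⟩⟩
  · exact preservesLimit_of_preserves_limit_cone (isLimit F) (isLimitTop F)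
  · exact preservesLimit_of_preserves_limit_cone (isLimit F) (isLimitRing F)

end Groth.Agent.S7557
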