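import Groth.Statements.S7558
import Mathlib.Topology.Category.TopCommRingCat
import Mathlib.Algebra.Category.Ring.Colimits
import Mathlib.Topology.Algebra.Ring.Basic

set_option autoImplicit false
universe u
open CategoryTheory CategoryTheory.Limits
open PtTop

namespace Groth.Agent.S7558

open TopologicalSpace

section
variable {J : Type u} [Category.{u} J] (F : J ⥤ TopCommRingCat.{u})

/-- The underlying diagram of rings. -/
abbrev G : J ⥤ CommRingCat.{u} := F ⋙ forget₂ TopCommRingCat CommRingCat

/-- The colimit ring. -/
noncomputable abbrev R : CommRingCat.{u} := colimit (G F)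

/-- The structure maps into the colimit ring. -/
noncomputable def inc (j : J) : F.obj j →+* R F := (colimit.ι (G F) j).hom

theorem inc_naturality {i j : J} (f : i ⟶ j) (x : F.obj i) :
    inc F j ((F.map f).1 x) = inc F i x :=
  ConcreteCategory.congr_hom (colimit.w (G F) f) x

/-- The ring map out of the colimit ring induced by a cocone. -/
noncomputable def descRing (s : Cocone F) : R F →+* s.pt :=
  (colimit.desc (G F) ((forget₂ TopCommRingCat CommRingCat).mapCocone s)).hom

theorem descRing_inc (s : Cocone F) (j : J) (x : F.obj j) :
    descRing F s (inc F j x) = (s.ι.app j).1 x :=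
  ConcreteCategory.congr_hom
    (colimit.ι_desc ((forget₂ TopCommRingCat CommRingCat).mapCocone s) j) x

theorem ringHom_ext {S : Type u} [CommRing S] (f g : R F →+* S)
    (h : ∀ j (x : F.obj j), f (inc F j x) = g (inc F j x)) : f = g := by
  have key : CommRingCat.ofHom f = CommRingCat.ofHom g := by
    refine colimit.hom_ext fun j => ?_
    ext x
    exact h j x
  exact congrArg CommRingCat.Hom.hom key

/-- The ring topologies on the colimit ring making all structure maps continuous. -/
def T : Set (TopologicalSpace (R F)) :=
  {σ | @IsTopologicalRing (R F) σ _ ∧
    ∀ j, @Continuous _ _ (F.obj j).isTopologicalSpace σ (inc F j)}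

/-- The finest ring topology making all structure maps continuous. -/
@[instance_reducible]
def τ : TopologicalSpace (R F) := sInf (T F)

theorem isTopologicalRing_τ : @IsTopologicalRing (R F) (τ F) _ :=
  letI := τ F
  { toContinuousAdd := continuousAdd_sInf fun t ht =>
      letI := t
      haveI := ht.1
      inferInstance
    toContinuousMul := continuousMul_sInf fun t ht =>
      letI := t
      haveI := ht.1
      inferInstance
    toContinuousNeg := continuousNeg_sInf fun t ht =>
      letI := t
      haveI := ht.1
      inferInstance }

theorem continuous_descRing (s : Cocone F) :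
    @Continuous _ _ (τ F) s.pt.isTopologicalSpace (descRing F s) := by
  rw [continuous_iff_le_induced]
  refine sInf_le ⟨?_, fun j => ?_⟩
  · let _ := induced (descRing F s) s.pt.isTopologicalSpace
    exact
      { toContinuousAdd := continuousAdd_induced (descRing F s)
        toContinuousMul := continuousMul_induced (descRing F s)
        toContinuousNeg := (topologicalAddGroup_induced (descRing F s)).toContinuousNeg }
  · refine continuous_induced_rng.2 ?_
    have : (descRing F s) ∘ (inc F j) = (s.ι.app j).1 := funext fun x => descRing_inc F s j x
    rw [this]
    exact (s.ι.app j).2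

/-- The colimit cocone. -/
noncomputable def colimitCocone : Cocone F where
  pt := @TopCommRingCat.of (R F) _ (τ F) (isTopologicalRing_τ F)
  ι :=
    { app := fun j => ⟨inc F j, continuous_sInf_rng.2 fun σ hσ => hσ.2 j⟩
      naturality := by
        intro i j f
        refine Subtype.ext (RingHom.ext fun x => ?_)
        exact inc_naturality F f x }

/-- The colimit cocone is a colimit. -/
noncomputable def isColimit : IsColimit (colimitCocone F) where
  desc s := ⟨descRing F s, continuous_descRing F s⟩
  fac s j := by
    refine Subtype.ext (RingHom.ext fun x => ?_)
    exact descRing_inc F s j x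
  uniq s m hm := by
    refine Subtype.ext ?_
    refine ringHom_ext F _ _ fun j x => ?_
    rw [descRing_inc]
    exact congrArg (fun g => g.1 x) (hm j)

/-- The image cocone in rings is a colimit. -/
noncomputable def isColimitRing :
    IsColimit ((forget₂ TopCommRingCat CommRingCat).mapCocone (colimitCocone F)) :=
  IsColimit.ofIsoColimit (colimit.isColimit (G F)) (Cocone.ext (Iso.refl _) (by
    intro j
    ext x
    rfl))

end

/-- The category of topological rings (commutative, with continuous ring homomorphisms) has colimits,
and colimits commute with the forgetful functor to rings. -/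
theorem result :
    HasColimits TopCommRingCat.{u} ∧
    PreservesColimits (forget₂ TopCommRingCat.{u} CommRingCat.{u}) := by
  refine ⟨⟨fun J _ => ⟨fun F => HasColimit.mk ⟨colimitCocone F, isColimit F⟩⟩⟩,
    ⟨fun {J} _ => ⟨fun {F} => ?_⟩⟩⟩
  exact preservesColimit_of_preserves_colimit_cocone (isColimit F) (isColimitRing F)

end Groth.Agent.S7558
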