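import Groth.Statements.S7559
import Groth.Agent.Lib.Helper38.Strat

set_option autoImplicit false
universe u
open PtTop

namespace Groth.Agent.S7559

open Groth.Agent.Lib.Helper38 Set in
/-- Let X be a topological space and X = ∐ P_k a finite partition into locally closed parts. Then there
is a finite stratification of X refining it: a finite partially ordered index set I and pairwise
disjoint locally closed strata S_i covering X with closure(S_j) ⊆ ⋃_{i ≤ j} S_i, such that every
part P_k is a union of strata. -/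
theorem result {X : Type u} [TopologicalSpace X]
    {n : ℕ} (P : Fin n → Set X) (hP : ∀ k, IsLocallyClosed (P k)) (hcov : ⋃ k, P k = Set.univ)
    (hdisj : ∀ k k', k ≠ k' → Disjoint (P k) (P k')) :
    ∃ (I : Type) (_ : Fintype I) (_ : PartialOrder I) (S : I → Set X),
      (∀ i, IsLocallyClosed (S i)) ∧ (⋃ i, S i = Set.univ) ∧ (∀ i j, i ≠ j → Disjoint (S i) (S j)) ∧
      (∀ j, closure (S j) ⊆ ⋃ i ∈ Set.Iic j, S i) ∧
      (∀ i k, (S i ∩ P k).Nonempty → S i ⊆ P k) := by
  classical
  let Z : Fin n ⊕ Fin n → Set X := Sum.elim (fun k => closure (P k)) (fun k => closure (P k) \ P k)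
  have hZ : ∀ l, IsClosed (Z l) := by
    rintro (k | k)
    · exact isClosed_closure
    · have := isLocallyClosed_iff_isOpen_coborder.mp (hP k)
      rw [coborder, isOpen_compl_iff] at this
      exact this
  have hPk : ∀ k, P k = {x | (fun A : Set (Fin n ⊕ Fin n) => Sum.inl k ∈ A ∧ Sum.inr k ∉ A)
      (typeOf Z x)} := by
    intro k
    ext x
    simp only [typeOf, mem_ofPred_eq, Z, Sum.elim_inl, Sum.elim_inr, mem_sdiff, not_and, not_not]
    exact ⟨fun hx => ⟨subset_closure hx, fun _ => hx⟩, fun ⟨h1, h2⟩ => h2 h1⟩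
  refine ⟨(Set (Fin n ⊕ Fin n))ᵒᵈ, inferInstance, inferInstance,
    fun A => stratum Z (OrderDual.ofDual A), ?_, ?_, ?_, ?_, ?_⟩
  · exact fun A => isLocallyClosed_stratum Z hZ _
  · rw [← iUnion_stratum Z]
    exact (OrderDual.ofDual.surjective.iUnion_comp fun A => stratum Z A)
  · intro A B hAB
    exact disjoint_stratum Z fun h => hAB (OrderDual.ofDual.injective h)
  · intro A
    refine (closure_stratum_subset Z hZ _).trans ?_
    intro x hx
    obtain ⟨B, hB, hxB⟩ := mem_iUnion₂.mp hx
    exact mem_iUnion₂.mpr ⟨OrderDual.toDual B, hB, hxB⟩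
  · intro A k h
    rw [hPk k] at h ⊢
    exact stratum_subset_of_nonempty_inter Z
      (fun A : Set (Fin n ⊕ Fin n) => Sum.inl k ∈ A ∧ Sum.inr k ∉ A) (OrderDual.ofDual A) h

end Groth.Agent.S7559
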