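import Groth.Statements.S7561

set_option autoImplicit false
universe u
open PtTop

namespace Groth.Agent.S7561

open Set TopologicalSpace

/-- If a nonempty relatively open part `O₀ ∩ Z` is covered by finitely many locally closed sets, one of
them contains a nonempty relatively open part of `Z`. -/
theorem exists_open_inter_subset {X : Type*} [TopologicalSpace X] {κ : Type*} (P : κ → Set X)
    (hP : ∀ k, IsLocallyClosed (P k)) (Z : Set X) :
    ∀ (s : Finset κ) (O₀ : Set X), IsOpen O₀ → (O₀ ∩ Z).Nonempty → O₀ ∩ Z ⊆ ⋃ k ∈ s, P k →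
      ∃ k ∈ s, ∃ O, IsOpen O ∧ (O ∩ Z).Nonempty ∧ O ∩ Z ⊆ P k := by
  classical
  intro s
  induction s using Finset.induction_on with
  | empty =>
    intro O₀ _ hne hsub
    obtain ⟨x, hx⟩ := hne
    have := hsub hx
    simp at this
  | insert a s _ ih =>
    intro O₀ hO₀ hne hsub
    obtain ⟨A, C, hA, hC, hAC⟩ := hP a
    by_cases h1 : (O₀ ∩ Cᶜ ∩ Z).Nonempty
    · obtain ⟨k, hk, O, hO, hOne, hOsub⟩ := ih (O₀ ∩ Cᶜ) (hO₀.inter hC.isOpen_compl) h1 (by
        rintro x ⟨⟨hxO, hxC⟩, hxZ⟩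
        obtain ⟨k, hk, hxk⟩ := mem_iUnion₂.mp (hsub ⟨hxO, hxZ⟩)
        rcases Finset.mem_insert.mp hk with rfl | hk
        · rw [hAC] at hxk; exact absurd hxk.2 hxC
        · exact mem_iUnion₂.mpr ⟨k, hk, hxk⟩)
      exact ⟨k, Finset.mem_insert_of_mem hk, O, hO, hOne, hOsub⟩
    · have hC' : O₀ ∩ Z ⊆ C := by
        intro x hx
        by_contra hxC
        exact h1 ⟨x, ⟨hx.1, hxC⟩, hx.2⟩
      by_cases h2 : (O₀ ∩ A ∩ Z).Nonempty
      · refine ⟨a, Finset.mem_insert_self _ _, O₀ ∩ A, hO₀.inter hA, h2, ?_⟩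
        rintro x ⟨⟨hxO, hxA⟩, hxZ⟩
        rw [hAC]
        exact ⟨hxA, hC' ⟨hxO, hxZ⟩⟩
      · obtain ⟨k, hk, O, hO, hOne, hOsub⟩ := ih O₀ hO₀ hne (by
          rintro x ⟨hxO, hxZ⟩
          obtain ⟨k, hk, hxk⟩ := mem_iUnion₂.mp (hsub ⟨hxO, hxZ⟩)
          rcases Finset.mem_insert.mp hk with rfl | hk
          · rw [hAC] at hxk
            exact absurd ⟨x, ⟨hxO, hxk.1⟩, hxZ⟩ h2
          · exact mem_iUnion₂.mpr ⟨k, hk, hxk⟩)
        exact ⟨k, Finset.mem_insert_of_mem hk, O, hO, hOne, hOsub⟩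

/-- The main claim, by Noetherian induction on the closed subset `Z`. -/
theorem exists_good_stratification {X : Type u} [TopologicalSpace X] [NoetherianSpace X]
    (Z : Closeds X) : ∀ (κ : Type) [Finite κ] (P : κ → Set X), (∀ k, IsLocallyClosed (P k)) →
      (⋃ k, P k = (Z : Set X)) → (∀ k k', k ≠ k' → Disjoint (P k) (P k')) →
      ∃ (ι : Type) (_ : Finite ι) (S : ι → Set X),
        (∀ i, IsLocallyClosed (S i)) ∧ (⋃ i, S i = (Z : Set X)) ∧
        (∀ i j, i ≠ j → Disjoint (S i) (S j)) ∧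
        (∀ i j, (S i ∩ closure (S j)).Nonempty → S i ⊆ closure (S j)) ∧
        (∀ i k, (S i ∩ P k).Nonempty → S i ⊆ P k) := by
  induction Z using WellFoundedLT.induction with
  | ind Z IH =>
  intro κ _ P hP hcov hdisj
  classical
  rcases eq_or_ne Z ⊥ with (rfl | h₀)
  · refine ⟨Empty, inferInstance, fun e => e.elim, fun e => e.elim, ?_, fun e => e.elim,
      fun e => e.elim, fun e => e.elim⟩
    simp
  have hZne : (Z : Set X).Nonempty := Closeds.coe_nonempty.2 h₀
  have := Fintype.ofFinite κ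
  -- find a nonempty relatively open part inside one `P k`
  obtain ⟨k₀, -, O, hO, hOne, hOsub⟩ := exists_open_inter_subset P hP (Z : Set X)
    Finset.univ univ isOpen_univ (by simpa using hZne) (by
      rw [univ_inter, ← hcov]; intro x hx
      obtain ⟨k, hk⟩ := mem_iUnion.mp hx
      exact mem_iUnion₂.mpr ⟨k, Finset.mem_univ _, hk⟩)
  set U : Set X := O ∩ Z with hU
  have hUlc : IsLocallyClosed U := hO.isLocallyClosed.inter Z.isClosed.isLocallyClosed
  let Z' : Closeds X := ⟨(Z : Set X) ∩ Oᶜ, Z.isClosed.inter hO.isClosed_compl⟩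
  have hZ'lt : Z' < Z := by
    refine lt_of_le_of_ne (show (Z' : Set X) ⊆ Z from inter_subset_left) ?_
    intro heq
    obtain ⟨x, hxO, hxZ⟩ := hOne
    have : x ∈ (Z' : Set X) := by rw [heq]; exact hxZ
    exact this.2 hxO
  have hZ'U : ∀ x, x ∈ (Z : Set X) → x ∉ U → x ∈ (Z' : Set X) := fun x hxZ hxU =>
    ⟨hxZ, fun hxO => hxU ⟨hxO, hxZ⟩⟩
  -- the refined partition of `Z'`
  let P' : κ × Bool → Set X := fun p =>
    if p.2 then P p.1 ∩ Z' ∩ closure U else P p.1 ∩ Z' ∩ (closure U)ᶜ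
  have hP' : ∀ p, IsLocallyClosed (P' p) := by
    rintro ⟨k, b⟩
    cases b
    · exact ((hP k).inter Z'.isClosed.isLocallyClosed).inter
        isClosed_closure.isOpen_compl.isLocallyClosed
    · exact ((hP k).inter Z'.isClosed.isLocallyClosed).inter isClosed_closure.isLocallyClosed
  have hP'sub : ∀ p, P' p ⊆ P p.1 ∩ Z' := by
    rintro ⟨k, b⟩
    cases b <;> exact inter_subset_left
  have hcov' : ⋃ p, P' p = (Z' : Set X) := by
    apply Subset.antisymm
    · exact iUnion_subset fun p => (hP'sub p).trans inter_subset_right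
    · intro x hx
      have hxZ : x ∈ (Z : Set X) := hx.1
      rw [← hcov] at hxZ
      obtain ⟨k, hk⟩ := mem_iUnion.mp hxZ
      by_cases hxU : x ∈ closure U
      · exact mem_iUnion.mpr ⟨(k, true), ⟨⟨hk, hx⟩, hxU⟩⟩
      · exact mem_iUnion.mpr ⟨(k, false), ⟨⟨hk, hx⟩, hxU⟩⟩
  have hdisj' : ∀ p p', p ≠ p' → Disjoint (P' p) (P' p') := by
    rintro ⟨k, b⟩ ⟨k', b'⟩ hne
    by_cases hk : k = k'
    · subst hk
      have hb : b ≠ b' := fun h => hne (by rw [h])
      rw [disjoint_left]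
      cases b <;> cases b'
      · exact absurd rfl hb
      · exact fun x hx hx' => hx.2 hx'.2
      · exact fun x hx hx' => hx'.2 hx.2
      · exact absurd rfl hb
    · exact (hdisj k k' hk).mono ((hP'sub _).trans inter_subset_left)
        ((hP'sub _).trans inter_subset_left)
  obtain ⟨ι', _, T, hTlc, hTcov, hTdisj, hTgood, hTref⟩ :=
    IH Z' hZ'lt (κ × Bool) P' hP' hcov' hdisj'
  have hTZ' : ∀ α, T α ⊆ (Z' : Set X) := fun α => hTcov ▸ subset_iUnion T α
  have hUZ' : Disjoint U (Z' : Set X) := by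
    rw [disjoint_left]
    exact fun x hxU hxZ' => hxZ'.2 hxU.1
  refine ⟨Option ι', inferInstance, fun o => o.elim U T, ?_, ?_, ?_, ?_, ?_⟩
  · rintro (_ | α)
    · exact hUlc
    · exact hTlc α
  · apply Subset.antisymm
    · apply iUnion_subset
      rintro (_ | α)
      · exact inter_subset_right
      · exact (hTZ' α).trans inter_subset_left
    · intro x hxZ
      by_cases hxU : x ∈ U
      · exact mem_iUnion.mpr ⟨none, hxU⟩
      · have := hZ'U x hxZ hxU
        rw [← hTcov] at this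
        obtain ⟨α, hα⟩ := mem_iUnion.mp this
        exact mem_iUnion.mpr ⟨some α, hα⟩
  · rintro (_ | α) (_ | β) hne
    · exact absurd rfl hne
    · exact hUZ'.mono_right (hTZ' β)
    · exact (hUZ'.mono_right (hTZ' α)).symm
    · exact hTdisj α β fun h => hne (by rw [h])
  · rintro (_ | α) (_ | β) hne
    · exact subset_closure
    · exfalso
      obtain ⟨x, hxU, hxT⟩ := hne
      have : closure (T β) ⊆ (Z' : Set X) := closure_minimal (hTZ' β) Z'.isClosed
      exact disjoint_left.mp hUZ' hxU (this hxT)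
    · obtain ⟨x, hxT, hxU⟩ := hne
      have hxZ' := hTZ' α hxT
      have hxZ : x ∈ (Z : Set X) := hxZ'.1
      rw [← hcov] at hxZ
      obtain ⟨k, hk⟩ := mem_iUnion.mp hxZ
      have hxP' : x ∈ P' (k, true) := ⟨⟨hk, hxZ'⟩, hxU⟩
      exact (hTref α (k, true) ⟨x, hxT, hxP'⟩).trans inter_subset_right
    · exact hTgood α β hne
  · rintro (_ | α) k hne
    · obtain ⟨x, hxU, hxk⟩ := hne
      have hxk₀ : x ∈ P k₀ := hOsub hxU
      have : k = k₀ := by
        by_contra hkk
        exact disjoint_left.mp (hdisj k k₀ hkk) hxk hxk₀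
      rw [this]
      exact hOsub
    · obtain ⟨x, hxT, hxk⟩ := hne
      have hxZ' := hTZ' α hxT
      by_cases hxU : x ∈ closure U
      · have hxP' : x ∈ P' (k, true) := ⟨⟨hxk, hxZ'⟩, hxU⟩
        exact (hTref α (k, true) ⟨x, hxT, hxP'⟩).trans
          ((hP'sub (k, true)).trans inter_subset_left)
      · have hxP' : x ∈ P' (k, false) := ⟨⟨hxk, hxZ'⟩, hxU⟩
        exact (hTref α (k, false) ⟨x, hxT, hxP'⟩).trans
          ((hP'sub (k, false)).trans inter_subset_left)

/-- Let X be a Noetherian topological space and X = ∐ P_k a finite partition into locally closed parts.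
Then it is refined by a finite good stratification: a finite partition X = ∐ S_i into locally closed
strata such that S_i ∩ closure(S_j) ≠ ∅ implies S_i ⊆ closure(S_j), with every P_k a union of
strata. -/
theorem result {X : Type u} [TopologicalSpace X]
    [TopologicalSpace.NoetherianSpace X]
    {n : ℕ} (P : Fin n → Set X) (hP : ∀ k, IsLocallyClosed (P k)) (hcov : ⋃ k, P k = Set.univ)
    (hdisj : ∀ k k', k ≠ k' → Disjoint (P k) (P k')) :
    ∃ (m : ℕ) (S : Fin m → Set X),
      (∀ i, IsLocallyClosed (S i)) ∧ (⋃ i, S i = Set.univ) ∧ (∀ i j, i ≠ j → Disjoint (S i) (S j)) ∧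
      (∀ i j, (S i ∩ closure (S j)).Nonempty → S i ⊆ closure (S j)) ∧
      (∀ i k, (S i ∩ P k).Nonempty → S i ⊆ P k) := by
  obtain ⟨ι, _, S, h1, h2, h3, h4, h5⟩ := exists_good_stratification (⊤ : Closeds X) (Fin n) P hP
    (by simpa using hcov) hdisj
  obtain ⟨m, ⟨e⟩⟩ := Finite.exists_equiv_fin ι
  refine ⟨m, S ∘ e.symm, fun i => h1 _, ?_, ?_, fun i j => h4 _ _, fun i k => h5 _ k⟩
  · have := e.symm.surjective.iUnion_comp S
    simp only [Function.comp_apply]
    rw [this, h2]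
    rfl
  · intro i j hij
    exact h3 _ _ fun h => hij (e.symm.injective h)

end Groth.Agent.S7561
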