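import Groth.Statements.S7563
import Groth.Agent.Lib.Helper38.TopBasic

set_option autoImplicit false
universe u
open PtTop

namespace Groth.Agent.S7563

open Groth.Agent.Lib.Helper38 in
/-- Let X be a topological space and X = X_1 ∪ … ∪ X_n with each X_i irreducible and closed and no X_i
contained in the union of the others. Then the irreducible components of X are precisely the sets
X_1, …, X_n. -/
theorem result {X : Type u} [TopologicalSpace X]
    {n : ℕ} (Z : Fin n → Set X) (hZ : ∀ i, IsIrreducible (Z i) ∧ IsClosed (Z i))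
    (hcov : ⋃ i, Z i = Set.univ) (hirr : ∀ i, ¬ Z i ⊆ ⋃ j ∈ ({i}ᶜ : Set (Fin n)), Z j) :
    irreducibleComponents X = Set.range Z := by
  have key : ∀ s : Set X, IsIrreducible s → ∃ j, s ⊆ Z j := fun s hs =>
    IsIrreducible.subset_of_subset_iUnion_isClosed hs Z (fun i => (hZ i).2)
      (hcov ▸ Set.subset_univ s)
  have hmax : ∀ i, Z i ∈ irreducibleComponents X := by
    intro i
    refine ⟨(hZ i).1, fun s hs his => ?_⟩
    obtain ⟨j, hj⟩ := key s hs
    by_cases hji : j = i
    · exact hji ▸ hj
    · exfalso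
      apply hirr i
      intro x hx
      exact Set.mem_biUnion (show j ∈ ({i}ᶜ : Set (Fin n)) from hji) (hj (his hx))
  ext s
  constructor
  · intro hs
    obtain ⟨j, hj⟩ := key s hs.1
    exact ⟨j, (hs.2 (hZ j).1 hj).antisymm hj |>.symm ▸ rfl⟩
  · rintro ⟨i, rfl⟩
    exact hmax i

end Groth.Agent.S7563
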