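import Groth.Statements.S7564
import Groth.Agent.Lib.Helper38.TopBasic

set_option autoImplicit false
universe u
open PtTop

namespace Groth.Agent.S7564

open Groth.Agent.Lib.Helper38 in
/-- For a continuous surjection f : X → Y, if X has finitely many irreducible components, say n of them,
then Y has at most n irreducible components. -/
theorem result {X Y : Type u} [TopologicalSpace X] [TopologicalSpace Y]
    (f : X → Y) (hf : Continuous f) (hs : Function.Surjective f) (hfin : (irreducibleComponents X).Finite) :
    (irreducibleComponents Y).Finite ∧ (irreducibleComponents Y).ncard ≤ (irreducibleComponents X).ncard := by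
  have hsub : irreducibleComponents Y ⊆ (fun C : Set X => closure (f '' C)) '' irreducibleComponents X := by
    intro T hT
    have : Finite (irreducibleComponents X) := hfin.to_subtype
    have hcov : T ⊆ ⋃ C : irreducibleComponents X, closure (f '' C.1) := by
      intro y _
      obtain ⟨x, rfl⟩ := hs y
      have hx : x ∈ ⋃₀ irreducibleComponents X := by
        rw [sUnion_irreducibleComponents]; exact Set.mem_univ x
      obtain ⟨C, hC, hxC⟩ := Set.mem_sUnion.mp hx
      exact Set.mem_iUnion.mpr ⟨⟨C, hC⟩, subset_closure ⟨x, hxC, rfl⟩⟩
    obtain ⟨C, hC⟩ := IsIrreducible.subset_of_subset_iUnion_isClosed hT.1 _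
      (fun _ => isClosed_closure) hcov
    have hirr : IsIrreducible (closure (f '' C.1)) :=
      (C.2.1.image f hf.continuousOn).closure
    exact ⟨C.1, C.2, (hT.2 hirr hC).antisymm hC⟩
  have hfin' := (hfin.image _).subset hsub
  exact ⟨hfin', (Set.ncard_le_ncard hsub (hfin.image _)).trans (Set.ncard_image_le hfin)⟩

end Groth.Agent.S7564
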