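import Groth.Statements.S7567
import Groth.Agent.Lib.Helper38.Clopen

set_option autoImplicit false
universe u
open PtTop

namespace Groth.Agent.S7567

open Groth.Agent.Lib.Helper38 in
/-- Let X be a quasi-compact topological space whose quasi-compact opens form a basis, any two of them
meeting in a quasi-compact set. For a subset T ⊆ X these two conditions are equivalent: (a) T can be
written as an intersection of clopen subsets of X; (b) T is closed and is a union of connected
components of X. -/
theorem result {X : Type u} [TopologicalSpace X]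
    [CompactSpace X] [PrespectralSpace X] [QuasiSeparatedSpace X] (T : Set X) :
    (∃ S : Set (Set X), (∀ Z ∈ S, IsClopen Z) ∧ T = ⋂₀ S) ↔
      (IsClosed T ∧ ∀ x ∈ T, connectedComponent x ⊆ T) := by
  constructor
  · rintro ⟨S, hS, rfl⟩
    refine ⟨isClosed_sInter fun Z hZ => (hS Z hZ).1, fun x hx => ?_⟩
    exact Set.subset_sInter fun Z hZ => (hS Z hZ).connectedComponent_subset (hx Z hZ)
  · rintro ⟨hTc, hT⟩
    refine ⟨{Z | IsClopen Z ∧ T ⊆ Z}, fun Z hZ => hZ.1, ?_⟩
    apply Set.Subset.antisymm
    · exact Set.subset_sInter fun Z hZ => hZ.2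
    · intro y hy
      by_contra hyT
      have hdisj : T ∩ clopenInter y = ∅ := by
        rw [← connectedComponent_eq_clopenInter, Set.eq_empty_iff_forall_notMem]
        rintro z ⟨hzT, hzy⟩
        have : connectedComponent z = connectedComponent y := connectedComponent_eq hzy |>.symm
        exact hyT (hT z hzT (this ▸ mem_connectedComponent))
      obtain ⟨s, hs, hys, hTs⟩ := exists_isClopen_inter_eq_empty hTc.isCompact y hdisj
      have : y ∈ sᶜ := hy sᶜ ⟨hs.compl, fun z hz hzs => by
        have : z ∈ T ∩ s := ⟨hz, hzs⟩
        rw [hTs] at this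
        exact this⟩
      exact this hys

end Groth.Agent.S7567
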