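import Groth.Statements.S7568
import Groth.Agent.Lib.Helper38.Cech

set_option autoImplicit false
universe u
open PtTop

namespace Groth.Agent.S7568

/-- Let X be a Hausdorff quasi-compact space, X = ⋃ U_i an open covering, p ≥ 0 an integer, and for
every (p+1)-tuple (i_0, …, i_p) an open covering of U_{i_0} ∩ … ∩ U_{i_p} by opens W_{i_0…i_p,k}.
Then there are an open covering X = ⋃_{j ∈ J} V_j and a map α : J → I with closure(V_j) ⊆ U_{α(j)}
such that each V_{j_0} ∩ … ∩ V_{j_p} is contained in W_{α(j_0)…α(j_p),k} for some k. The published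
statement allows a covering of an empty intersection to have no members; this row requires every
covering W_{i_0…i_p} to have at least one member (possibly empty), without which the conclusion
fails. -/
theorem result {X : Type u} [TopologicalSpace X] [CompactSpace X] [T2Space X]
    {ι : Type u} (U : ι → Set X) (hU : ∀ i, IsOpen (U i)) (hcov : ⋃ i, U i = Set.univ) (p : ℕ)
    (W : (Fin (p + 1) → ι) → Set (Set X)) (hWo : ∀ t, ∀ w ∈ W t, IsOpen w)
    (hWc : ∀ t, ⋃₀ W t = ⋂ l, U (t l)) (hWne : ∀ t, (W t).Nonempty) :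
    ∃ (J : Type u) (V : J → Set X) (α : J → ι), (∀ j, IsOpen (V j)) ∧ (⋃ j, V j = Set.univ) ∧
      (∀ j, closure (V j) ⊆ U (α j)) ∧
      (∀ t : Fin (p + 1) → J, ∃ w ∈ W (α ∘ t), (⋂ l, V (t l)) ⊆ w) := by
  classical
  have hsep : ∀ z ∈ (Set.univ : Set X), ∀ z' ∈ (Set.univ : Set X), z ≠ z' →
      ∃ A B : Set X, IsOpen A ∧ IsOpen B ∧ z ∈ A ∧ z' ∈ B ∧ Disjoint A B :=
    fun z _ z' _ h => t2_separation h
  obtain ⟨I₀, U', hU'o, hU'U, hU'cl, hU'cov⟩ :=
    Groth.Agent.Lib.Helper38.exists_finite_shrinking Set.univ isCompact_univ hsep U hU hcov.ge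
  have hcl : ∀ i, closure (U' i) ⊆ U i := fun i => by simpa using hU'cl i
  -- choice of members of the coverings
  have hex : ∀ (x : X) (t : Fin (p + 1) → ι), ∃ w : Set X, x ∈ ⋃₀ W t → w ∈ W t ∧ x ∈ w := by
    intro x t
    by_cases h : x ∈ ⋃₀ W t
    · obtain ⟨w, hw, hx⟩ := h
      exact ⟨w, fun _ => ⟨hw, hx⟩⟩
    · exact ⟨Set.univ, fun h' => absurd h' h⟩
  choose w hw using hex
  have hmem : ∀ (x : X) (t : Fin (p + 1) → ι), (∀ l, x ∈ closure (U' (t l))) → x ∈ ⋃₀ W t := by
    intro x t ht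
    rw [hWc t]
    exact Set.mem_iInter.mpr fun l => hcl _ (ht l)
  have hfin : {t : Fin (p + 1) → ι | ∀ l, t l ∈ I₀}.Finite := by
    have : {t : Fin (p + 1) → ι | ∀ l, t l ∈ I₀} = Set.pi Set.univ (fun _ => (I₀ : Set ι)) := by
      ext t; simp [Set.mem_pi]
    rw [this]
    exact Set.Finite.pi fun _ => I₀.finite_toSet
  let N : X → Set X := fun x =>
    (⋂ t ∈ {t : Fin (p + 1) → ι | (∀ l, t l ∈ I₀) ∧ ∀ l, x ∈ closure (U' (t l))}, w x t) ∩
      ⋂ i ∈ {i : ι | i ∈ I₀ ∧ x ∉ closure (U' i)}, (closure (U' i))ᶜ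
  have hNo : ∀ x, IsOpen (N x) := by
    intro x
    refine IsOpen.inter ?_ ?_
    · exact (hfin.subset fun t ht => ht.1).isOpen_biInter
        fun t ht => hWo t _ (hw x t (hmem x t ht.2)).1
    · exact (I₀.finite_toSet.subset fun i hi => hi.1).isOpen_biInter
        fun i _ => isClosed_closure.isOpen_compl
  have hxN : ∀ x, x ∈ N x := by
    intro x
    refine ⟨Set.mem_iInter₂.mpr fun t ht => ?_, Set.mem_iInter₂.mpr fun i hi => hi.2⟩
    exact (hw x t (hmem x t ht.2)).2
  refine ⟨X × ι, fun j => if j.2 ∈ I₀ then N j.1 ∩ U' j.2 else ∅, fun j => j.2, ?_, ?_, ?_, ?_⟩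
  · intro j
    by_cases hj : j.2 ∈ I₀
    · simp only [hj, if_true]; exact (hNo j.1).inter (hU'o j.2)
    · simp only [hj, if_false]; exact isOpen_empty
  · refine Set.eq_univ_of_forall fun x => ?_
    obtain ⟨i, hi, hxi⟩ := Set.mem_iUnion₂.mp (hU'cov (Set.mem_univ x))
    refine Set.mem_iUnion.mpr ⟨(x, i), ?_⟩
    simp only [hi, if_true]
    exact ⟨hxN x, hxi⟩
  · intro j
    by_cases hj : j.2 ∈ I₀
    · simp only [hj, if_true]
      exact (closure_mono Set.inter_subset_right).trans (hcl j.2)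
    · simp only [hj, if_false, closure_empty]; exact Set.empty_subset _
  · intro t
    by_cases hne : (⋂ l, (fun j : X × ι => if j.2 ∈ I₀ then N j.1 ∩ U' j.2 else ∅) (t l)).Nonempty
    · obtain ⟨y, hy⟩ := hne
      have hy' := Set.mem_iInter.mp hy
      have ht : ∀ l, (t l).2 ∈ I₀ := by
        intro l
        by_contra hl
        have := hy' l
        simp only [hl, if_false] at this
        exact this
      have hy'' : ∀ l, y ∈ N (t l).1 ∩ U' (t l).2 := by
        intro l
        have := hy' l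
        simp only [ht l, if_true] at this
        exact this
      have hx0 : ∀ m, (t 0).1 ∈ closure (U' ((fun j : X × ι => j.2) (t m))) := by
        intro m
        by_contra hm
        have := Set.mem_iInter₂.mp (hy'' 0).1.2 (t m).2 ⟨ht m, hm⟩
        exact this (subset_closure (hy'' m).2)
      refine ⟨w (t 0).1 ((fun j : X × ι => j.2) ∘ t),
        (hw _ _ (hmem _ _ hx0)).1, ?_⟩
      intro y' hy'2
      have h0 := Set.mem_iInter.mp hy'2 0
      simp only [ht 0, if_true] at h0
      exact Set.mem_iInter₂.mp h0.1.1 ((fun j : X × ι => j.2) ∘ t) ⟨fun l => ht l, hx0⟩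
    · obtain ⟨w0, hw0⟩ := hWne ((fun j : X × ι => j.2) ∘ t)
      refine ⟨w0, hw0, ?_⟩
      rw [Set.not_nonempty_iff_eq_empty] at hne
      rw [hne]
      exact Set.empty_subset _

end Groth.Agent.S7568
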