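import Groth.Statements.S7570
import Groth.Agent.Lib.Helper38.Cech

set_option autoImplicit false
universe u
open PtTop

namespace Groth.Agent.S7570

/-- Let X be a topological space and Z ⊆ X a quasi-compact subset such that any two distinct points of Z
have disjoint open neighbourhoods in X. Let p ≥ 0, let U_i ⊆ X be opens with Z ⊆ ⋃ U_i, and for
every (p+1)-tuple let W_{i_0…i_p} ⊆ U_{i_0} ∩ … ∩ U_{i_p} be an open with W_{i_0…i_p} ∩ Z = U_{i_0}
∩ … ∩ U_{i_p} ∩ Z. Then there are opens V_i with (1) Z ⊆ ⋃ V_i, (2) V_i ⊆ U_i, (3) closure(V_i) ∩ Z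
⊆ U_i, and (4) V_{i_0} ∩ … ∩ V_{i_p} ⊆ W_{i_0…i_p} for all (p+1)-tuples. -/
theorem result {X : Type u} [TopologicalSpace X]
    (Z : Set X) (hZ : IsCompact Z)
    (hZsep : ∀ z ∈ Z, ∀ z' ∈ Z, z ≠ z' → ∃ A B : Set X, IsOpen A ∧ IsOpen B ∧ z ∈ A ∧ z' ∈ B ∧ Disjoint A B)
    {ι : Type u} (U : ι → Set X) (hU : ∀ i, IsOpen (U i)) (hcov : Z ⊆ ⋃ i, U i) (p : ℕ)
    (W : (Fin (p + 1) → ι) → Set X) (hWo : ∀ t, IsOpen (W t)) (hWU : ∀ t, W t ⊆ ⋂ l, U (t l))
    (hWZ : ∀ t, W t ∩ Z = (⋂ l, U (t l)) ∩ Z) :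
    ∃ V : ι → Set X, (∀ i, IsOpen (V i)) ∧ (Z ⊆ ⋃ i, V i) ∧ (∀ i, V i ⊆ U i) ∧
      (∀ i, closure (V i) ∩ Z ⊆ U i) ∧ (∀ t : Fin (p + 1) → ι, (⋂ l, V (t l)) ⊆ W t) := by
  classical
  obtain ⟨I₀, U', hU'o, hU'U, hU'cl, hU'cov⟩ :=
    Groth.Agent.Lib.Helper38.exists_finite_shrinking Z hZ hZsep U hU hcov
  obtain ⟨N, hNo, hZN, hN⟩ := Groth.Agent.Lib.Helper38.exists_open_nhds_refine Z I₀ U U'
    (fun i => closure (U' i)) (fun i => subset_closure) (fun i => isClosed_closure) hU'cl p W hWo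
    (fun t => (hWZ t).ge.trans Set.inter_subset_left)
  refine ⟨fun i => if i ∈ I₀ then U' i ∩ N else ∅, ?_, ?_, ?_, ?_, ?_⟩
  · intro i
    by_cases hi : i ∈ I₀
    · simp only [hi, if_true]; exact (hU'o i).inter hNo
    · simp only [hi, if_false]; exact isOpen_empty
  · intro y hy
    obtain ⟨i, hi, hyi⟩ := Set.mem_iUnion₂.mp (hU'cov hy)
    refine Set.mem_iUnion.mpr ⟨i, ?_⟩
    simp only [hi, if_true]
    exact ⟨hyi, hZN hy⟩
  · intro i
    by_cases hi : i ∈ I₀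
    · simp only [hi, if_true]; exact Set.inter_subset_left.trans (hU'U i)
    · simp only [hi, if_false]; exact Set.empty_subset _
  · intro i
    by_cases hi : i ∈ I₀
    · simp only [hi, if_true]
      exact (Set.inter_subset_inter_left _ (closure_mono Set.inter_subset_left)).trans (hU'cl i)
    · simp only [hi, if_false, closure_empty, Set.empty_inter]; exact Set.empty_subset _
  · intro t y hy
    have hy' := Set.mem_iInter.mp hy
    have ht : ∀ l, t l ∈ I₀ := by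
      intro l
      by_contra hl
      have := hy' l
      simp only [hl, if_false] at this
      exact this
    have hy'' : ∀ l, y ∈ U' (t l) ∩ N := by
      intro l
      have := hy' l
      simp only [ht l, if_true] at this
      exact this
    exact hN t ht ⟨Set.mem_iInter.mpr fun l => (hy'' l).1, (hy'' 0).2⟩

end Groth.Agent.S7570
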