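import Groth.Statements.S7574
import Groth.Agent.Lib.Helper38.ShOpen

set_option autoImplicit false
universe u
open CategoryTheory TopologicalSpace
open ShSp

namespace Groth.Agent.S7574

/-- Let X be a topological space, U ⊆ X open and j_! : Sh(U) → Sh(X) a left adjoint of restriction of
sheaves of sets to U. Then j_! is fully faithful, and a sheaf G on X lies in its essential image if
and only if G_x = ∅ for all x ∈ X not in U. -/
theorem result {X : TopCat.{u}} (U : Opens X)
    (L : (TopCat.of U).Sheaf (Type u) ⥤ X.Sheaf (Type u)) (adj : L ⊣ U.sheafRestrict (C := Type u)) :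
    L.Full ∧ L.Faithful ∧
    ∀ G : X.Sheaf (Type u), L.essImage G ↔ ∀ x : X, x ∉ U → IsEmpty (G.presheaf.stalk x) := by
  have hf : Topology.IsOpenEmbedding
      (TopCat.ofHom (⟨_, continuous_subtype_val⟩ : C(U, X))) := U.isOpenEmbedding
  have adj' : L ⊣ hf.sheafPullback (Type u) := adj
  have hr : Set.range (TopCat.ofHom (⟨_, continuous_subtype_val⟩ : C(U, X))) = (U : Set X) :=
    Subtype.range_coe
  refine ⟨Groth.Agent.Lib.Helper38.ShOpen.full_of_adj hf L adj',
    Groth.Agent.Lib.Helper38.ShOpen.faithful_of_adj hf L adj', fun G => ⟨?_, ?_⟩⟩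
  · intro h x hx
    refine Groth.Agent.Lib.Helper38.ShOpen.isEmpty_stalk_of_essImage hf L adj' G h x ?_
    rw [hr]
    exact hx
  · intro hG
    refine Groth.Agent.Lib.Helper38.ShOpen.essImage_of_isEmpty_stalk hf L adj' G ?_
    intro x hx
    rw [hr] at hx
    exact hG x hx

end Groth.Agent.S7574
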