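import Groth.Statements.S7575
import Groth.Agent.Lib.Helper19.ColimSheaf

set_option autoImplicit false
universe u
open CategoryTheory CategoryTheory.Limits TopologicalSpace Opposite
open ShSp

namespace Groth.Agent.S7575

/-- Let X be a topological space, I a directed set, (F_i) a system of sheaves of sets on X over I with
colimit F (in sheaves), U ⊆ X open, and Ψ : colim_i F_i(U) → F(U) the canonical map. (1) If all
transition maps F_i → F_{i'} are injective (on all sections) then Ψ is injective. (2)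
Quasi-compactness of U alone already makes Ψ injective. (3) When U is quasi-compact and every
transition map is injective, Ψ is bijective. (4) If every open covering of U can be refined by a
finite open covering U = U_1 ∪ … ∪ U_m with all U_j ∩ U_{j'} quasi-compact, then Ψ is bijective. -/
theorem result {X : TopCat.{u}} {J : Type u} [Preorder J] [Nonempty J] [IsDirected J (· ≤ ·)]
    (F : J ⥤ X.Sheaf (Type u)) (c : Cocone F) (hc : IsColimit c) (U : Opens X) :
    let ev := TopCat.Sheaf.forget (Type u) X ⋙ (evaluation (Opens X)ᵒᵖ (Type u)).obj (op U)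
    let Ψ : colimit (F ⋙ ev) → ev.obj c.pt := colimit.desc (F ⋙ ev) (ev.mapCocone c)
    ((∀ (i j : J) (h : i ⟶ j) (V : Opens X), Function.Injective ((F.map h).1.app (op V))) → Function.Injective Ψ) ∧
    (IsCompact (U : Set X) → Function.Injective Ψ) ∧
    (IsCompact (U : Set X) → (∀ (i j : J) (h : i ⟶ j) (V : Opens X), Function.Injective ((F.map h).1.app (op V))) →
      Function.Bijective Ψ) ∧
    ((∀ 𝒱 : Set (Opens X), (⨆ V ∈ 𝒱, V) = U →
        ∃ (m : ℕ) (W : Fin m → Opens X), (∀ j, ∃ V ∈ 𝒱, W j ≤ V) ∧ (⨆ j, W j) = U ∧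
          ∀ j j', IsCompact ((W j ⊓ W j' : Opens X) : Set X)) →
      Function.Bijective Ψ) := by
  classical
  intro ev Ψ
  have hΨ : Ψ = Groth.Agent.Helper19.ColimSheaf.Psi F c U := rfl
  -- local lifts of a section
  have hlift : ∀ (σ : c.pt.1.obj (op U)) (x : X) (hx : x ∈ U),
      ∃ (V : Opens X) (hV : V ≤ U) (_ : x ∈ V), ∃ (i : J) (s : (F.obj i).1.obj (op V)),
        (c.ι.app i).1.app (op V) s = c.pt.1.map (homOfLE hV).op σ := by
    intro σ x hx
    obtain ⟨i, V, hV, hxV, s, hs⟩ :=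
      Groth.Agent.Helper19.ColimSheaf.exists_local_lift F c hc U σ x hx
    exact ⟨V, hV, hxV, i, s, hs⟩
  refine ⟨?_, ?_, ?_, ?_⟩
  · -- (1)
    intro hinj
    rw [hΨ]
    exact Groth.Agent.Helper19.ColimSheaf.Psi_injective_of_evEq F c U
      (Groth.Agent.Helper19.ColimSheaf.evEq_of_injective F c hc hinj U)
  · -- (2)
    intro hU
    rw [hΨ]
    exact Groth.Agent.Helper19.ColimSheaf.Psi_injective_of_evEq F c U
      (Groth.Agent.Helper19.ColimSheaf.evEq_of_isCompact F c hc U hU)
  · -- (3)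
    intro hU hinj
    rw [hΨ]
    refine ⟨Groth.Agent.Helper19.ColimSheaf.Psi_injective_of_evEq F c U
      (Groth.Agent.Helper19.ColimSheaf.evEq_of_injective F c hc hinj U), ?_⟩
    apply Groth.Agent.Helper19.ColimSheaf.Psi_surjective_of_lift
    intro σ
    choose V hV hxV hs using fun (x : U) => hlift σ x.1 x.2
    obtain ⟨T, hT⟩ := hU.elim_finite_subcover (fun x : U => (V x : Set X))
      (fun x => (V x).isOpen) (fun x hx => Set.mem_iUnion.mpr ⟨⟨x, hx⟩, hxV ⟨x, hx⟩⟩)
    refine Groth.Agent.Helper19.ColimSheaf.exists_lift_of_finite_cover F c U σ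
      (K := T) (fun k => V k.1) (fun k => hV k.1) ?_
      (fun k l => Groth.Agent.Helper19.ColimSheaf.evEq_of_injective F c hc hinj _)
      (fun k => hs k.1)
    intro y hy
    obtain ⟨x, hx⟩ := Set.mem_iUnion.mp (hT hy)
    obtain ⟨hxT, hyV⟩ := Set.mem_iUnion.mp hx
    exact Opens.mem_iSup.mpr ⟨⟨x, hxT⟩, hyV⟩
  · -- (4)
    intro href
    rw [hΨ]
    -- `U` is compact
    have hUc : IsCompact (U : Set X) := by
      obtain ⟨m, W, -, hWU, hWc⟩ := href {U} (by simp)
      have : (U : Set X) = ⋃ j, (W j : Set X) := by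
        rw [← hWU, Opens.coe_iSup]
      rw [this]
      refine isCompact_iUnion (fun j => ?_)
      have := hWc j j
      rwa [inf_idem] at this
    refine ⟨Groth.Agent.Helper19.ColimSheaf.Psi_injective_of_evEq F c U
      (Groth.Agent.Helper19.ColimSheaf.evEq_of_isCompact F c hc U hUc), ?_⟩
    apply Groth.Agent.Helper19.ColimSheaf.Psi_surjective_of_lift
    intro σ
    let 𝒱 : Set (Opens X) := {V | ∃ (hV : V ≤ U), ∃ (i : J) (s : (F.obj i).1.obj (op V)),
        (c.ι.app i).1.app (op V) s = c.pt.1.map (homOfLE hV).op σ}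
    have h𝒱 : (⨆ V ∈ 𝒱, V) = U := by
      apply le_antisymm
      · exact iSup₂_le (fun V hV => hV.1)
      · intro x hx
        obtain ⟨V, hV, hxV, i, s, hs⟩ := hlift σ x hx
        exact Opens.mem_iSup.mpr ⟨V, Opens.mem_iSup.mpr ⟨⟨hV, i, s, hs⟩, hxV⟩⟩
    obtain ⟨m, W, hW𝒱, hWU, hWc⟩ := href 𝒱 h𝒱
    have hWle : ∀ k, W k ≤ U := fun k => hWU ▸ le_iSup W k
    refine Groth.Agent.Helper19.ColimSheaf.exists_lift_of_finite_cover F c U σ
      (K := Fin m) W hWle (le_of_eq hWU.symm)
      (fun k l => Groth.Agent.Helper19.ColimSheaf.evEq_of_isCompact F c hc _ (hWc k l)) ?_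
    intro k
    obtain ⟨V, ⟨hVU, i, s, hs⟩, hWV⟩ := hW𝒱 k
    refine ⟨i, (F.obj i).1.map (homOfLE hWV).op s, ?_⟩
    rw [Groth.Agent.Helper19.ColimSheaf.ι_res, hs, Groth.Agent.Helper19.ColimSheaf.res_res]

end Groth.Agent.S7575
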