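import Groth.Statements.S7578
import Groth.Agent.Lib.Helper38.DimFun
import Groth.Agent.Lib.Helper38.LocConst

set_option autoImplicit false
universe u
open PtTop

namespace Groth.Agent.S7578

/-- Let X be a topological space which is locally Noetherian (every point has a Noetherian
neighbourhood) and sober, and let δ, δ' be two dimension functions on X. Then δ − δ' is locally
constant. -/
theorem result {X : Type u} [TopologicalSpace X] [QuasiSober X] [T0Space X]
    (hX : ∀ x : X, ∃ E ∈ nhds x, TopologicalSpace.NoetherianSpace E)
    (δ δ' : X → ℤ) (hδ : PtTop.IsDimensionFunction δ) (hδ' : PtTop.IsDimensionFunction δ') :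
    IsLocallyConstant (fun x => δ x - δ' x) := by
  rw [IsLocallyConstant.iff_exists_open]
  intro x
  obtain ⟨E, hE, hEN⟩ := hX x
  have hxU : x ∈ interior E := mem_interior_iff_mem_nhds.mpr hE
  have hUo : IsOpen (interior E) := isOpen_interior
  haveI : TopologicalSpace.NoetherianSpace (interior E) :=
    Topology.IsInducing.noetherianSpace
      (Topology.IsEmbedding.inclusion (interior_subset : interior E ⊆ E)).isInducing
  haveI : QuasiSober (interior E) := hUo.isOpenEmbedding_subtypeVal.quasiSober
  have hlc : IsLocallyConstant (fun u : interior E => δ u.1 - δ' u.1) :=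
    Groth.Agent.Lib.Helper38.isLocallyConstant_of_specializes _ (fun y y' h => by
      have h' : y.1 ⤳ y'.1 := h.map continuous_subtype_val
      have := Groth.Agent.Lib.Helper38.dimFun_sub_eq hδ hδ' h'
      omega)
  have hopen := hlc.isOpen_fiber (δ x - δ' x)
  refine ⟨Subtype.val '' {u : interior E | δ u.1 - δ' u.1 = δ x - δ' x},
    hUo.isOpenMap_subtype_val _ hopen, ⟨⟨x, hxU⟩, rfl, rfl⟩, ?_⟩
  rintro _ ⟨u, hu, rfl⟩
  exact hu

end Groth.Agent.S7578
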