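import Groth.Statements.S7581
import Groth.Agent.Lib.Helper38.Codim

set_option autoImplicit false
universe u
open PtTop

namespace Groth.Agent.S7581

open TopologicalSpace Groth.Agent.Lib.Helper38

theorem sat_length {X : Type u} [TopologicalSpace X]
    (hadd : ∀ Y Y' Y'' : IrreducibleCloseds X, Y ≤ Y' → Y' ≤ Y'' →
      PtTop.codim Y (Y'' : Set X) = PtTop.codim Y (Y' : Set X) + PtTop.codim Y' (Y'' : Set X)) :
    ∀ (n : ℕ) (f : Fin (n + 1) → IrreducibleCloseds X), (∀ i : Fin n, f i.castSucc ⋖ f i.succ) →
      (n : ℕ∞) = PtTop.codim (f 0) (f (Fin.last n) : Set X) := by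
  intro n
  induction n with
  | zero =>
    intro f _
    have : f (Fin.last 0) = f 0 := rfl
    rw [this, codim_self]
    rfl
  | succ n ih =>
    intro f hsat
    have hmono : StrictMono f := Fin.strictMono_iff_lt_succ.mpr fun i => (hsat i).lt
    have h1 := ih (fun i => f i.castSucc) (fun i => hsat i.castSucc)
    simp only [Fin.castSucc_zero] at h1
    have hcov : f (Fin.last n).castSucc ⋖ f (Fin.last (n + 1)) := by
      have := hsat (Fin.last n)
      rwa [Fin.succ_last] at this
    have h2 := hadd (f 0) (f (Fin.last n).castSucc) (f (Fin.last (n + 1)))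
      (hmono.monotone (Fin.zero_le _)) hcov.le
    rw [h2, ← h1, codim_of_covBy hcov]
    push_cast
    rfl

/-- Let X be a topological space. Then X is catenary if and only if for every pair of irreducible closed
subsets Y ⊆ Y' the codimension codim(Y, Y') is finite and for every triple Y ⊆ Y' ⊆ Y'' of
irreducible closed subsets codim(Y, Y'') = codim(Y, Y') + codim(Y', Y''). -/
theorem result (X : Type u) [TopologicalSpace X] :
    PtTop.IsCatenarySpace X ↔
      (∀ Y Y' : TopologicalSpace.IrreducibleCloseds X, Y ≤ Y' → PtTop.codim Y (Y' : Set X) ≠ ⊤) ∧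
      (∀ Y Y' Y'' : TopologicalSpace.IrreducibleCloseds X, Y ≤ Y' → Y' ≤ Y'' →
        PtTop.codim Y (Y'' : Set X) = PtTop.codim Y (Y' : Set X) + PtTop.codim Y' (Y'' : Set X)) := by
  constructor
  · intro hcat
    refine ⟨fun Y Y' h => (hcat Y Y' h).1, fun Y Y' Y'' h h' => ?_⟩
    obtain ⟨s₁, h1a, h1b, h1c, h1d⟩ := exists_saturated_chain h (hcat Y Y' h).1
    obtain ⟨s₂, h2a, h2b, h2c, h2d⟩ := exists_saturated_chain h' (hcat Y' Y'' h').1
    have hconn : s₁.last = s₂.head := by rw [h1b, h2a]
    have hsat : ∀ i : Fin (s₁.smash s₂ hconn).length,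
        (s₁.smash s₂ hconn) i.castSucc ⋖ (s₁.smash s₂ hconn) i.succ := by
      intro i
      change Fin (s₁.length + s₂.length) at i
      refine Fin.addCases (fun j => ?_) (fun j => ?_) i
      · have e1 := RelSeries.smash_castAdd hconn j
        have e2 := RelSeries.smash_succ_castAdd hconn j
        have h3 := h1c j
        rw [← e1, ← e2] at h3
        exact h3
      · have e1 := RelSeries.smash_natAdd hconn j
        have e2 := RelSeries.smash_succ_natAdd hconn j
        have h3 := h2c j
        rw [← e1, ← e2] at h3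
        exact h3
    have := (hcat Y Y'' (h.trans h')).2 (s₁.smash s₂ hconn) (by rw [RelSeries.head_smash, h1a])
      (by rw [RelSeries.last_smash, h2b]) hsat
    rw [← this, ← h1d, ← h2d, RelSeries.smash_length]
    push_cast
    rfl
  · rintro ⟨hfin, hadd⟩ T T' h
    refine ⟨hfin T T' h, fun s hh hl hsat => ?_⟩
    have := sat_length hadd s.length s.toFun hsat
    rw [this]
    have e1 : s.toFun 0 = T := hh
    have e2 : s.toFun (Fin.last s.length) = T' := hl
    rw [e1, e2]

end Groth.Agent.S7581
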