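import Groth.Statements.S7582
import Groth.Agent.Lib.Helper38.Sob

set_option autoImplicit false
universe u
open PtTop

namespace Groth.Agent.S7582

open Groth.Agent.Lib.Helper38 Set

/-- extension of a continuous map to a sober space over the soberification -/
theorem exists_extension {X : Type u} [TopologicalSpace X]
    (Y : Type u) [TopologicalSpace Y] [QuasiSober Y] [T0Space Y] (f : X → Y) (hf : Continuous f) :
    ∃ g : PtTop.Sob X → Y, Continuous g ∧ g ∘ PtTop.toSob X = f := by
  have hirr : ∀ Z : PtTop.Sob X, IsIrreducible (closure (f '' (sobIC Z : Set X))) := fun Z =>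
    ((sobIC Z).isIrreducible.image f hf.continuousOn).closure
  have hgen : ∀ Z : PtTop.Sob X,
      IsGenericPoint (hirr Z).genericPoint (closure (f '' (sobIC Z : Set X))) := fun Z =>
    (hirr Z).isGenericPoint_genericPoint isClosed_closure
  refine ⟨fun Z => (hirr Z).genericPoint, ?_, ?_⟩
  · rw [continuous_def]
    intro V hV
    have : (fun Z => (hirr Z).genericPoint) ⁻¹' V = sobD (f ⁻¹' V) := by
      ext Z
      rw [mem_preimage, (hgen Z).mem_open_set_iff hV, mem_sobD]
      constructor
      · rintro ⟨y, hy, hyV⟩
        obtain ⟨_, hzV, ⟨z, hz, rfl⟩⟩ := mem_closure_iff.mp hy V hV hyV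
        exact ⟨z, hz, hzV⟩
      · rintro ⟨z, hz, hzV⟩
        exact ⟨f z, subset_closure ⟨z, hz, rfl⟩, hzV⟩
    rw [this]
    exact isOpen_sobD (hV.preimage hf)
  · funext x
    refine IsGenericPoint.eq (hgen (PtTop.toSob X x)) ?_
    rw [isGenericPoint_def]
    apply Subset.antisymm
    · apply closure_mono
      rw [singleton_subset_iff]
      exact ⟨x, subset_closure rfl, rfl⟩
    · apply closure_minimal _ isClosed_closure
      change f '' closure {x} ⊆ closure {f x}
      refine (image_closure_subset_closure_image hf).trans ?_
      rw [image_singleton]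

/-- Let X be a topological space and c : X → X′ the canonical map to its soberification (X′ =
irreducible closed subsets of X, with opens the sets of those meeting a given open of X; c(x) =
closure of {x}). Then X′ is sober, c is continuous, the rule U′ ↦ c⁻¹(U′) is a bijection from the
open subsets of X′ onto the open subsets of X (it automatically respects finite intersections and
arbitrary unions), and every continuous map from X to a sober space Y is of the form g ∘ c for a
continuous g : X′ → Y. The published statement also asserts that g is unique and that c(X) is a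
Kolmogorov space universal for maps to Kolmogorov spaces; this row omits those clauses and lets Y
range over the universe of X. -/
theorem result (X : Type u) [TopologicalSpace X] :
    QuasiSober (PtTop.Sob X) ∧ T0Space (PtTop.Sob X) ∧ Continuous (PtTop.toSob X) ∧
    Set.BijOn (fun U' : Set (PtTop.Sob X) => PtTop.toSob X ⁻¹' U') {U' | IsOpen U'} {U : Set X | IsOpen U} ∧
    ∀ (Y : Type u) [TopologicalSpace Y] [QuasiSober Y] [T0Space Y] (f : X → Y), Continuous f →
      ∃ g : PtTop.Sob X → Y, Continuous g ∧ g ∘ PtTop.toSob X = f := by
  refine ⟨quasiSober_sob, t0Space_sob, continuous_toSob, ⟨?_, ?_, ?_⟩, fun Y _ _ _ f hf =>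
    exists_extension Y f hf⟩
  · intro U' hU'
    exact hU'.preimage continuous_toSob
  · intro U' hU' V' hV' h
    obtain ⟨U, hU, rfl⟩ := exists_eq_sobD_of_isOpen hU'
    obtain ⟨V, hV, rfl⟩ := exists_eq_sobD_of_isOpen hV'
    simp only [preimage_toSob_sobD hU, preimage_toSob_sobD hV] at h
    rw [h]
  · intro U hU
    exact ⟨sobD U, isOpen_sobD hU, preimage_toSob_sobD hU⟩

end Groth.Agent.S7582
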