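import Groth.Statements.S7587
import Groth.Agent.Lib.Helper38.ShBasis

set_option autoImplicit false
universe u
open ShSp

namespace Groth.Agent.S7587

/-- Let X be a topological space, ℬ a basis for its topology, U ∈ ℬ and F a sheaf of sets on ℬ. Sending
a section over U to its germs at the points of U, a map from F(U) into the product of the stalks F_x
over x ∈ U, puts F(U) in bijection with those germ families (s_x)_{x ∈ U} that satisfy (*): each x ∈
U lies in some V ∈ ℬ contained in U carrying a section σ ∈ F(V) whose germ at every y ∈ V equals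
s_y. That is, the map is injective and its image is exactly the set of such families. -/
theorem result {X : Type u} [TopologicalSpace X] {B : Set (TopologicalSpace.Opens X)}
    (hB : TopologicalSpace.Opens.IsBasis B) (F : ShB.Pre B) (hF : ShB.IsSheaf F) (U : B) :
    Function.Injective (fun (s : F.obj U) (x : (U : TopologicalSpace.Opens X)) => ShB.germ F x.1 x.2 s) ∧
    ∀ f : ∀ x : (U : TopologicalSpace.Opens X), ShB.Stalk F x.1,
      (∃ s : F.obj U, ∀ x, ShB.germ F x.1 x.2 s = f x) ↔
      ∀ x : (U : TopologicalSpace.Opens X), ∃ (V : B) (hxV : x.1 ∈ (V : TopologicalSpace.Opens X))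
        (hVU : (V : TopologicalSpace.Opens X) ≤ (U : TopologicalSpace.Opens X)) (σ : F.obj V),
        ∀ (y : X) (hy : y ∈ (V : TopologicalSpace.Opens X)), ShB.germ F y hy σ = f ⟨y, hVU hy⟩ := by
  refine ⟨?_, fun f => ⟨?_, ?_⟩⟩
  · intro s s' h
    refine Groth.Agent.Lib.Helper38.germ_injective hB F hF U s s' fun x hx => ?_
    exact congrFun h ⟨x, hx⟩
  · rintro ⟨s, hs⟩ x
    exact ⟨U, x.2, le_rfl, s, fun y hy => hs ⟨y, hy⟩⟩
  · intro h
    choose V hxV hVU σ hσ using h
    have hcov : (U : TopologicalSpace.Opens X) ≤ ⨆ x : (U : TopologicalSpace.Opens X),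
        (V x : TopologicalSpace.Opens X) := by
      intro x hx
      exact TopologicalSpace.Opens.mem_iSup.mpr ⟨⟨x, hx⟩, hxV ⟨x, hx⟩⟩
    have hcompat : ∀ (x x' : (U : TopologicalSpace.Opens X)) (W : B)
        (h1 : (W : TopologicalSpace.Opens X) ≤ (V x : TopologicalSpace.Opens X))
        (h2 : (W : TopologicalSpace.Opens X) ≤ (V x' : TopologicalSpace.Opens X)),
        F.res h1 (σ x) = F.res h2 (σ x') := by
      intro x x' W h1 h2
      refine Groth.Agent.Lib.Helper38.germ_injective hB F hF W _ _ fun y hy => ?_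
      rw [Groth.Agent.Lib.Helper38.germ_res, Groth.Agent.Lib.Helper38.germ_res, hσ, hσ]
    obtain ⟨t, ht, -⟩ := hF (Groth.Agent.Lib.Helper38.fullCover hB U _ V hVU hcov) σ
      (fun x x' k => hcompat x x' k.1 _ _)
    refine ⟨t, fun x => ?_⟩
    have := Groth.Agent.Lib.Helper38.germ_res F (hVU x) x.1 (hxV x) t
    rw [← this]
    have ht' : F.res (hVU x) t = σ x := ht x
    rw [ht', hσ x x.1 (hxV x)]

end Groth.Agent.S7587
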