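import Groth.Statements.S7588
import Groth.Agent.Lib.Helper38.ShExt

set_option autoImplicit false
universe u
open CategoryTheory
open ShSp

namespace Groth.Agent.S7588

open TopologicalSpace Opposite Groth.Agent.Lib.Helper38

section
variable {X : Type u} [TopologicalSpace X] {B : Set (Opens X)}

/-- Composite of a morphism of presheaves on `B` with the inverse of another. -/
def compHom {P Q R : ShB.Pre B} (a : ShB.Hom P Q) (b : ShB.Hom Q R) : ShB.Hom P R where
  app U s := b.app U (a.app U s)
  natural h s := by rw [b.natural, a.natural]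

/-- The identity morphism of presheaves on `B`. -/
def idHom (P : ShB.Pre B) : ShB.Hom P P where
  app _ s := s
  natural _ _ := rfl

theorem comp_eq_id (hB : Opens.IsBasis B) (G G' : TopCat.Sheaf (Type u) (TopCat.of X))
    (θ : ShB.Hom (ShB.restrict B G.presheaf) (ShB.restrict B G'.presheaf))
    (θ' : ShB.Hom (ShB.restrict B G'.presheaf) (ShB.restrict B G.presheaf))
    (h : ∀ (U : B) (s : G.presheaf.obj (op (U : Opens X))), θ'.app U (θ.app U s) = s) :
    extHom hB G G' θ ≫ extHom hB G' G θ' = 𝟙 G := by
  have h1 : extHom hB G G' θ ≫ extHom hB G' G θ' = extHom hB G G (idHom _) := by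
    apply extHom_unique
    intro U s
    change (extHom hB G' G θ').1.app (op (U : Opens X))
      ((extHom hB G G' θ).1.app (op (U : Opens X)) s) = s
    rw [extHom_app_basis, extHom_app_basis, h]
  have h2 : 𝟙 G = extHom hB G G (idHom _) := by
    apply extHom_unique
    intro U s
    rfl
  rw [h1, h2]

end

/-- Let X be a topological space, ℬ a basis for its topology and F a sheaf of sets on ℬ. There is a
sheaf of sets F^ext on X together with an isomorphism of presheaves on ℬ between the restriction of
F^ext to ℬ and F; and it is unique: given two sheaves G, G′ on X with such isomorphisms e, e′, there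
is a unique isomorphism G ≅ G′ whose restriction to the members of ℬ is compatible with e and e′. -/
theorem result {X : Type u} [TopologicalSpace X] {B : Set (TopologicalSpace.Opens X)}
    (hB : TopologicalSpace.Opens.IsBasis B) (F : ShB.Pre B) (hF : ShB.IsSheaf F) :
    (∃ G : TopCat.Sheaf (Type u) (TopCat.of X), Nonempty (ShB.Iso (ShB.restrict B G.presheaf) F)) ∧
    ∀ (G G' : TopCat.Sheaf (Type u) (TopCat.of X)) (e : ShB.Iso (ShB.restrict B G.presheaf) F)
      (e' : ShB.Iso (ShB.restrict B G'.presheaf) F),
      ∃! φ : G ⟶ G', IsIso φ ∧ ∀ (U : B) (s : G.presheaf.obj (Opposite.op (U : TopologicalSpace.Opens X))),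
        e'.hom.app U (φ.1.app (Opposite.op (U : TopologicalSpace.Opens X)) s) = e.hom.app U s := by
  refine ⟨⟨extSheaf hB F hF, ⟨extIso F⟩⟩, fun G G' e e' => ?_⟩
  refine ⟨extHom hB G G' (compHom e.hom e'.inv), ⟨?_, ?_⟩, ?_⟩
  · refine ⟨⟨extHom hB G' G (compHom e'.hom e.inv), ?_, ?_⟩⟩
    · apply comp_eq_id
      intro U s
      change e.inv.app U (e'.hom.app U (e'.inv.app U (e.hom.app U s))) = s
      rw [e'.inv_hom, e.hom_inv]
    · apply comp_eq_id
      intro U s
      change e'.inv.app U (e.hom.app U (e.inv.app U (e'.hom.app U s))) = s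
      rw [e.inv_hom, e'.hom_inv]
  · intro U s
    rw [extHom_app_basis]
    change e'.hom.app U (e'.inv.app U (e.hom.app U s)) = e.hom.app U s
    rw [e'.inv_hom]
  · rintro φ' ⟨-, hφ'⟩
    apply extHom_unique
    intro U s
    change φ'.1.app (op (U : Opens X)) s = e'.inv.app U (e.hom.app U s)
    rw [← hφ' U s, e'.hom_inv]

end Groth.Agent.S7588
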