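import Groth.Statements.S7589
-- import your own Groth.Agent.* helpers here
import Groth.Agent.S1621
import Groth.Agent.Lib.Helper55.FieldExtLocalDim
import Groth.Agent.Lib.Helper55.FlatDim
import Groth.Agent.Lib.Helper55.GroupLocalDim

set_option autoImplicit false
universe u
open CategoryTheory CategoryTheory.Limits AlgebraicGeometry
attribute [local instance] Curv2.stalkAlgebra Curv2.resAlgebra
open Variety

namespace Groth.Agent.S7589

open Groth.Agent.Lib.Helper55

theorem exists_natCast_ringKrullDim (R : Type u) [CommRing R] [FiniteRingKrullDim R] :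
    ∃ n : ℕ, ringKrullDim R = n := by
  have h1 := ringKrullDim_ne_bot (R := R)
  have h2 := ringKrullDim_ne_top (R := R)
  obtain ⟨m, hm⟩ := WithBot.ne_bot_iff_exists.mp h1
  rw [← hm] at h2 ⊢
  have hm' : m ≠ ⊤ := fun h => h2 (by rw [h]; rfl)
  obtain ⟨n, rfl⟩ := ENat.ne_top_iff_exists.mp hm'
  exact ⟨n, rfl⟩

/-- Let X be locally of finite type over a field k, K an extension field of k, y a point of the base
change X_K and x its image in X; write a = trdeg_k κ(x) and a' = trdeg_K κ(y). Then dim O_{X_K, y} +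
a' = dim O_{X, x} + a, and the fibre ring O_{X_K, y} / m_x O_{X_K, y} has Krull dimension a - a' (in
particular a' ≤ a); dimensions in WithBot ℕ∞. -/
theorem result (k : Type u) [Field k] (X : Scheme.{u}) [X.Over (Spec (CommRingCat.of k))] [LocallyOfFiniteType (X ↘ (Spec (CommRingCat.of k)))]
    (K : Type u) [Field K] [Algebra k K] (y : ↥(Curv2.bc k X K)) (a a' : ℕ)
    (ha : Algebra.trdeg k (X.residueField (Curv2.bcFst k X K y)) = a)
    (ha' : letI : (Curv2.bc k X K).Over (Spec (CommRingCat.of K)) := ⟨Curv2.bcSnd k X K⟩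
      Algebra.trdeg K ((Curv2.bc k X K).residueField y) = a') :
    ringKrullDim ((Curv2.bc k X K).presheaf.stalk y) + (a' : WithBot ℕ∞) =
        ringKrullDim (X.presheaf.stalk (Curv2.bcFst k X K y)) + (a : WithBot ℕ∞) ∧
      ringKrullDim (↥((Curv2.bc k X K).presheaf.stalk y) ⧸ Ideal.map ((Curv2.bcFst k X K).stalkMap y).hom (IsLocalRing.maximalIdeal ↥(X.presheaf.stalk (Curv2.bcFst k X K y)))) + (a' : WithBot ℕ∞) =
        (a : WithBot ℕ∞) := by
  letI iO : (Curv2.bc k X K).Over (Spec (CommRingCat.of K)) := ⟨Curv2.bcSnd k X K⟩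
  have hLFT : LocallyOfFiniteType ((Curv2.bc k X K) ↘ Spec (CommRingCat.of K)) := by
    change LocallyOfFiniteType (pullback.snd _ _)
    infer_instance
  have hNX : IsLocallyNoetherian X :=
    LocallyOfFiniteType.isLocallyNoetherian (X ↘ Spec (CommRingCat.of k))
  have hNXK : IsLocallyNoetherian (Curv2.bc k X K) :=
    LocallyOfFiniteType.isLocallyNoetherian ((Curv2.bc k X K) ↘ Spec (CommRingCat.of K))
  obtain ⟨b, hb⟩ := exists_natCast_ringKrullDim (X.presheaf.stalk (Curv2.bcFst k X K y))
  obtain ⟨b', hb'⟩ := exists_natCast_ringKrullDim ((Curv2.bc k X K).presheaf.stalk y)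
  have h1 := Groth.Agent.S1621.result k X (Curv2.bcFst k X K y) a b ha hb
  have h2 := Groth.Agent.S1621.result K (Curv2.bc k X K) y a' b' ha' hb'
  have h3 := localDim_baseChange_field_eq K (X ↘ Spec (CommRingCat.of k)) y
  have h4 : a' + b' = a + b := by
    have : ((a' + b' : ℕ) : WithBot ℕ∞) = ((a + b : ℕ) : WithBot ℕ∞) := by
      rw [← h1, ← h2]; exact h3
    exact_mod_cast this
  have hfirst : ringKrullDim ((Curv2.bc k X K).presheaf.stalk y) + (a' : WithBot ℕ∞) =
      ringKrullDim (X.presheaf.stalk (Curv2.bcFst k X K y)) + (a : WithBot ℕ∞) := by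
    rw [hb, hb']
    have : ((b' + a' : ℕ) : WithBot ℕ∞) = ((b + a : ℕ) : WithBot ℕ∞) := by
      congr 1; omega
    exact_mod_cast this
  refine ⟨hfirst, ?_⟩
  have hflat : Flat (Spec.map (CommRingCat.ofHom (algebraMap k K))) := by
    rw [HasRingHomProperty.Spec_iff (P := @Flat)]
    exact RingHom.flat_algebraMap_iff.mpr inferInstance
  have hflat' : Flat (Curv2.bcFst k X K) := by
    change Flat (pullback.fst _ _)
    infer_instance
  have h5 := ringKrullDim_eq_add_quotient_of_flat ((Curv2.bcFst k X K).stalkMap y).hom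
    (Flat.stalkMap (Curv2.bcFst k X K) y)
  apply withBot_enat_add_left_cancel b
  rw [← add_assoc, ← hb, ← h5, hfirst, hb, add_comm]


end Groth.Agent.S7589
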