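import Groth.Statements.S7593
import Groth.Agent.Lib.Helper38.GaloisOrbit2
import Groth.Agent.S1584

set_option autoImplicit false
universe u
open CategoryTheory CategoryTheory.Limits AlgebraicGeometry
open Variety

namespace Groth.Agent.S7593

/-- Let k̄ be a separable algebraic closure of a field k, X a scheme over k and t a point of X_{k̄} with
image x in X. The connected component of t is mapped onto itself by the action of every
k-automorphism of k̄ if and only if it equals the full inverse image of the connected component T of
x in X and T is geometrically connected over k (the inverse image of T in X_K is connected for every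
extension field K of k). -/
theorem result (k : Type u) [Field k] (X : Scheme.{u}) [X.Over (Spec (CommRingCat.of k))] (t : ↥(Curv2.bc k X (SeparableClosure k))) :
    (∀ σ : SeparableClosure k ≃ₐ[k] SeparableClosure k,
        (Curv2.galAct k X (SeparableClosure k) σ).base '' connectedComponent t = connectedComponent t) ↔
      ((Curv2.bcFst k X (SeparableClosure k)).base ⁻¹' connectedComponent (Curv2.bcFst k X (SeparableClosure k) t) = connectedComponent t ∧
        ∀ (K : Type u) [Field K] [Algebra k K],
          _root_.IsConnected ((Curv2.bcFst k X K).base ⁻¹' connectedComponent (Curv2.bcFst k X (SeparableClosure k) t))) := by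
  constructor
  · intro hinv
    set p := Curv2.bcFst k X (SeparableClosure k) with hp
    set C := connectedComponent t with hC
    have hCcl : IsClosed C := isClosed_connectedComponent
    obtain ⟨T₀, hT₀cl, hT₀⟩ := Groth.Agent.S1584.result k X (SeparableClosure k) C hCcl hinv
    have htT₀ : p t ∈ T₀ := by
      have : t ∈ p.base ⁻¹' T₀ := by rw [hT₀]; exact mem_connectedComponent
      exact this
    -- T₀ is connected, being the image of C
    have hsurj := Groth.Agent.Lib.Helper38.GaloisOrbit.bcFst_surjective k X (SeparableClosure k)
    have hTim : p.base '' C = T₀ := by
      rw [← hT₀, Set.image_preimage_eq _ hsurj]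
    have hT₀conn : _root_.IsConnected T₀ := by
      rw [← hTim]
      exact isConnected_connectedComponent.image _ p.continuous.continuousOn
    have hT₀sub : T₀ ⊆ connectedComponent (p t) :=
      hT₀conn.2.subset_connectedComponent htT₀
    -- the preimage of T₀ in every base change is connected
    have hT₀K : ∀ (K : Type u) [Field K] [Algebra k K],
        _root_.IsConnected ((Curv2.bcFst k X K).base ⁻¹' T₀) := by
      intro K _ _
      exact Groth.Agent.Lib.Helper50.isConnected_preimage_of_isSepClosed_square
        (X ↘ Spec (CommRingCat.of k)) (Curv2.bcSnd k X (SeparableClosure k))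
        (algebraMap k (SeparableClosure k)) p (IsPullback.of_hasPullback _ _) T₀ hT₀cl
        (by rw [hT₀]; exact isConnected_connectedComponent) K
    have hTK : ∀ (K : Type u) [Field K] [Algebra k K],
        _root_.IsConnected ((Curv2.bcFst k X K).base ⁻¹' connectedComponent (p t)) := by
      intro K _ _
      exact Groth.Agent.Lib.Helper50.isConnected_preimage_bcFst (X ↘ Spec (CommRingCat.of k))
        isConnected_connectedComponent hT₀sub (hT₀K (AlgebraicClosure k)) K
    refine ⟨?_, hTK⟩
    apply Set.Subset.antisymm
    · have h1 := hTK (SeparableClosure k)
      exact h1.2.subset_connectedComponent (show p t ∈ connectedComponent (p t) from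
        mem_connectedComponent)
    · rw [← hT₀]
      exact Set.preimage_mono hT₀sub
  · rintro ⟨h, -⟩ σ
    rw [← h]
    exact Groth.Agent.Lib.Helper38.GaloisOrbit.image_galAct_preimage k X (SeparableClosure k) σ _

end Groth.Agent.S7593
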