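import Groth.Statements.S7596
import Mathlib.AlgebraicGeometry.Morphisms.UniversallyOpen
import Mathlib.AlgebraicGeometry.PullbackCarrier
import Mathlib.AlgebraicGeometry.ResidueField
import Mathlib.AlgebraicGeometry.Geometrically.Irreducible

set_option autoImplicit false
universe u
open CategoryTheory CategoryTheory.Limits AlgebraicGeometry
open Variety

namespace Groth.Agent.S7596

theorem fromSpecResidueField_comp_eq (k : Type u) [Field k] (X : Scheme.{u})
    [X.Over (Spec (CommRingCat.of k))] (x : X) :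
    X.fromSpecResidueField x ≫ (X ↘ Spec (CommRingCat.of k)) =
      Spec.map (CommRingCat.ofHom (Curv2.resMap k X x)) := by
  apply ext_of_isAffine
  have h1 : (Spec.map (CommRingCat.ofHom (Curv2.resMap k X x))).appTop =
      (Scheme.ΓSpecIso _).hom ≫ CommRingCat.ofHom (Curv2.resMap k X x) ≫
        (Scheme.ΓSpecIso _).inv := by
    rw [← Scheme.ΓSpecIso_naturality_assoc, Iso.hom_inv_id, Category.comp_id]
  have h2 : CommRingCat.ofHom (Curv2.resMap k X x) =
      (Scheme.ΓSpecIso (CommRingCat.of k)).inv ≫ (X ↘ Spec (CommRingCat.of k)).appTop ≫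
        X.presheaf.germ ⊤ x trivial ≫ X.residue x := by
    ext a
    rfl
  have h3 : (X.fromSpecResidueField x).appTop =
      X.presheaf.germ ⊤ x trivial ≫ X.residue x ≫ (Scheme.ΓSpecIso _).inv := by
    unfold Scheme.fromSpecResidueField
    rw [Scheme.Hom.comp_appTop, Scheme.fromSpecStalk_appTop]
    simp only [Category.assoc]
    congr 1
    have hid : (Spec (X.presheaf.stalk x)).presheaf.map
        (homOfLE (le_top : (X.fromSpecStalk x) ⁻¹ᵁ ⊤ ≤ ⊤)).op = 𝟙 _ :=
      (Spec (X.presheaf.stalk x)).presheaf.map_id _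
    erw [hid, Category.id_comp]
    exact (Scheme.ΓSpecIso_inv_naturality (X.residue x)).symm
  rw [Scheme.Hom.comp_appTop, h1, h2, h3]
  simp only [Category.assoc, Iso.hom_inv_id_assoc]
  rfl

theorem isIso_of_rational (k : Type u) [Field k] (X : Scheme.{u})
    [X.Over (Spec (CommRingCat.of k))] (x : X) (hx : Function.Surjective (Curv2.resMap k X x)) :
    IsIso (X.fromSpecResidueField x ≫ (X ↘ Spec (CommRingCat.of k))) := by
  rw [fromSpecResidueField_comp_eq]
  have hb : Function.Bijective (Curv2.resMap k X x) := ⟨(Curv2.resMap k X x).injective, hx⟩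
  have : IsIso (CommRingCat.ofHom (Curv2.resMap k X x)) :=
    (ConcreteCategory.isIso_iff_bijective _).mpr hb
  infer_instance

/-- fibres of a base change of `X` over rational points are subsingletons. -/
theorem eq_of_rational (k : Type u) [Field k] (X : Scheme.{u})
    [X.Over (Spec (CommRingCat.of k))] (x : X) (hx : Function.Surjective (Curv2.resMap k X x))
    {Z T : Scheme.{u}} (p : Z ⟶ X) (q : Z ⟶ T) (g : T ⟶ Spec (CommRingCat.of k))
    (h : IsPullback p q (X ↘ Spec (CommRingCat.of k)) g) [Subsingleton T]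
    (z₁ z₂ : Z) (h₁ : p z₁ = x) (h₂ : p z₂ = x) : z₁ = z₂ := by
  let φ : pullback (X.fromSpecResidueField x) p ⟶ Z := pullback.snd _ _
  let ψ : pullback (X.fromSpecResidueField x) p ⟶ Spec (X.residueField x) := pullback.fst _ _
  have hpb : IsPullback (φ ≫ q) ψ g (X.fromSpecResidueField x ≫ (X ↘ Spec (CommRingCat.of k))) :=
    (IsPullback.of_hasPullback (X.fromSpecResidueField x) p).flip.paste_horiz h.flip
  have : IsIso (X.fromSpecResidueField x ≫ (X ↘ Spec (CommRingCat.of k))) :=
    isIso_of_rational k X x hx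
  have hiso : IsIso (φ ≫ q) := MorphismProperty.of_isPullback (P := MorphismProperty.isomorphisms _)
    hpb.flip this
  have hsub : Subsingleton ↥(pullback (X.fromSpecResidueField x) p) :=
    (φ ≫ q).homeomorph.injective.subsingleton
  obtain ⟨s0⟩ : Nonempty (Spec (X.residueField x)) := inferInstance
  have hs0 : X.fromSpecResidueField x s0 = x := Scheme.fromSpecResidueField_apply x s0
  obtain ⟨t₁, -, ht₁⟩ := Scheme.Pullback.exists_preimage_pullback s0 z₁ (hs0.trans h₁.symm)
  obtain ⟨t₂, -, ht₂⟩ := Scheme.Pullback.exists_preimage_pullback s0 z₂ (hs0.trans h₂.symm)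
  rw [← ht₁, ← ht₂, Subsingleton.elim t₁ t₂]


/-- Let X be an irreducible scheme over a field k whose k-rational points (points x at which k → κ(x) is
onto) form a dense subset. Then X is geometrically irreducible over k. -/
theorem result (k : Type u) [Field k] (X : Scheme.{u}) [X.Over (Spec (CommRingCat.of k))] [IrreducibleSpace ↥X]
    (hd : Dense {x : ↥X | Function.Surjective (Curv2.resMap k X x)}) :
    GeometricallyIrreducible (X ↘ (Spec (CommRingCat.of k))) := by
  constructor
  intro K _ y Z fst snd h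
  have hsubK : Subsingleton (Spec (CommRingCat.of K)) :=
    inferInstanceAs (Subsingleton (PrimeSpectrum K))
  have hsubk : Subsingleton (Spec (CommRingCat.of k)) :=
    inferInstanceAs (Subsingleton (PrimeSpectrum k))
  -- `fst` is open and surjective
  have hopen : UniversallyOpen fst := MorphismProperty.of_isPullback h.flip inferInstance
  have hsurjy : Surjective y := ⟨fun a => by
    obtain ⟨b⟩ : Nonempty (Spec (CommRingCat.of K)) := inferInstance
    exact ⟨b, Subsingleton.elim _ _⟩⟩
  have hsurj : Surjective fst := MorphismProperty.of_isPullback h.flip hsurjy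
  have hne : Nonempty Z := by
    obtain ⟨x⟩ : Nonempty X := inferInstance
    obtain ⟨z, -⟩ := hsurj.surj x
    exact ⟨z⟩
  refine @IrreducibleSpace.mk _ _ ⟨?_⟩ hne
  intro U V hU hV hUne hVne
  rw [Set.univ_inter] at hUne hVne ⊢
  have hU' : IsOpen (fst.base '' U) := fst.isOpenMap _ hU
  have hV' : IsOpen (fst.base '' V) := fst.isOpenMap _ hV
  obtain ⟨x0, hx0U, hx0V⟩ := nonempty_preirreducible_inter hU' hV' (hUne.image _) (hVne.image _)
  obtain ⟨x, ⟨hxU, hxV⟩, hxrat⟩ := hd.inter_open_nonempty _ (hU'.inter hV') ⟨x0, hx0U, hx0V⟩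
  obtain ⟨z₁, hz₁U, hz₁⟩ := hxU
  obtain ⟨z₂, hz₂V, hz₂⟩ := hxV
  have := eq_of_rational k X x hxrat fst snd y h z₁ z₂ hz₁ hz₂
  exact ⟨z₁, hz₁U, this ▸ hz₂V⟩

end Groth.Agent.S7596
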