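import Groth.Statements.S7597
import Groth.Agent.Lib.Helper38.GaloisOrbit2
import Groth.Agent.S1584

set_option autoImplicit false
universe u
open CategoryTheory CategoryTheory.Limits AlgebraicGeometry
open Variety

namespace Groth.Agent.S7597

/-- Let k̄ be a separable algebraic closure of a field k, X a scheme over k and Z an irreducible
component of X_{k̄}. Then Z is mapped onto itself by the action of every k-automorphism of k̄ if and
only if Z is the full inverse image of some irreducible component T of X which is geometrically
irreducible over k (the inverse image of T in X_K is irreducible for every extension field K of k). -/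
theorem result (k : Type u) [Field k] (X : Scheme.{u}) [X.Over (Spec (CommRingCat.of k))]
    (Z : Set ↥(Curv2.bc k X (SeparableClosure k))) (hZ : Z ∈ irreducibleComponents ↥(Curv2.bc k X (SeparableClosure k))) :
    (∀ σ : SeparableClosure k ≃ₐ[k] SeparableClosure k, (Curv2.galAct k X (SeparableClosure k) σ).base '' Z = Z) ↔
      ∃ T ∈ irreducibleComponents ↥X, (Curv2.bcFst k X (SeparableClosure k)).base ⁻¹' T = Z ∧
        ∀ (K : Type u) [Field K] [Algebra k K], IsIrreducible ((Curv2.bcFst k X K).base ⁻¹' T) := by
  constructor
  · intro hinv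
    have hZcl : IsClosed Z := isClosed_of_mem_irreducibleComponents Z hZ
    obtain ⟨T, hTcl, hT⟩ := Groth.Agent.S1584.result k X (SeparableClosure k) Z hZcl hinv
    have hsurj := Groth.Agent.Lib.Helper38.GaloisOrbit.bcFst_surjective k X (SeparableClosure k)
    have hTim : (Curv2.bcFst k X (SeparableClosure k)).base '' Z = T := by
      rw [← hT, Set.image_preimage_eq _ hsurj]
    obtain ⟨hbc1, -⟩ := Groth.Agent.Lib.Helper50.irreducibleComponents_bc (K := SeparableClosure k)
      (X ↘ Spec (CommRingCat.of k))
    have hTcomp : T ∈ irreducibleComponents ↥X := hTim ▸ hbc1 Z hZ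
    refine ⟨T, hTcomp, hT, ?_⟩
    intro K _ _
    exact Groth.Agent.Lib.Helper38.GaloisOrbit.isIrreducible_preimage_of_isSepClosed'
      (K := SeparableClosure k) (X ↘ Spec (CommRingCat.of k)) T hTcl (hT ▸ hZ.1) K
  · rintro ⟨T, -, rfl, -⟩ σ
    exact Groth.Agent.Lib.Helper38.GaloisOrbit.image_galAct_preimage k X (SeparableClosure k) σ T

end Groth.Agent.S7597
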