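import Groth.Statements.S7600
import Groth.Agent.Lib.Helper38.NormalDescent
import Groth.Agent.Lib.Helper50.GeomIntegralBC
import Groth.Agent.Lib.Helper24.SmoothNormal

set_option autoImplicit false
universe u
open CategoryTheory CategoryTheory.Limits AlgebraicGeometry
open Variety

namespace Groth.Agent.S7600

/-- (2) ⇒ (1): let X be a scheme over a field k, k' an extension field of k and x' a point of X_{k'}
with image x in X. If X_{k'} is geometrically normal at x' over k' (for every extension field k'' of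
k' and every point x'' of (X_{k'})_{k''} over x' the local ring at x'' is an integrally closed
domain), then X is geometrically normal at x over k. -/
theorem result (k : Type u) [Field k] (X : Scheme.{u}) [X.Over (Spec (CommRingCat.of k))] (k' : Type u) [Field k'] [Algebra k k'] (x' : ↥(Curv2.bc k X k'))
    (h : letI : (Curv2.bc k X k').Over (Spec (CommRingCat.of k')) := ⟨Curv2.bcSnd k X k'⟩
      ∀ (k'' : Type u) [Field k''] [Algebra k' k''] (x'' : ↥(Curv2.bc k' (Curv2.bc k X k') k'')), Curv2.bcFst k' (Curv2.bc k X k') k'' x'' = x' →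
          IsDomain ↥((Curv2.bc k' (Curv2.bc k X k') k'').presheaf.stalk x'') ∧ IsIntegrallyClosed ↥((Curv2.bc k' (Curv2.bc k X k') k'').presheaf.stalk x'')) :
    ∀ (K : Type u) [Field K] [Algebra k K] (y : ↥(Curv2.bc k X K)), Curv2.bcFst k X K y = (Curv2.bcFst k X k' x') →
          IsDomain ↥((Curv2.bc k X K).presheaf.stalk y) ∧ IsIntegrallyClosed ↥((Curv2.bc k X K).presheaf.stalk y) := by
  intro K _ _ y hy
  obtain ⟨Ω, _, a, b, hab, π₁, π₂, z, hπ₁, hπ₂, hπ₁', hπ₂', hz₁, hz₂⟩ :=
    Groth.Agent.Lib.Helper50.exists_point_over_both (X ↘ (Spec (CommRingCat.of k))) y x' hy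
  have hfl : Flat π₁ := MorphismProperty.of_isPullback hπ₁.flip
    (Groth.Agent.Lib.Helper50.flat_specMap_field K Ω a)
  subst hz₁
  letI : Algebra k' Ω := b.toAlgebra
  let j := hπ₂.isoPullback
  have hj : j.hom ≫ pullback.fst _ _ = π₂ := hπ₂.isoPullback_hom_fst
  have hzd := h Ω (j.hom z) (by
    rw [← hz₂, ← hj, Scheme.Hom.comp_apply]
    rfl)
  obtain ⟨e⟩ := Groth.Agent.Lib.Helper50.nonempty_ringEquiv_stalk_of_iso j z
  obtain ⟨hd, hic⟩ := Groth.Agent.Lib.Helper24.isDomain_and_isIntegrallyClosed_of_ringEquiv e.symm hzd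
  algebraize [(π₁.stalkMap z).hom]
  haveI : Module.FaithfullyFlat ((pullback (X ↘ (Spec (CommRingCat.of k)))
      (Spec.map (CommRingCat.ofHom (algebraMap k K)))).presheaf.stalk (π₁ z))
      ((pullback (X ↘ (Spec (CommRingCat.of k)))
      (Spec.map (CommRingCat.ofHom (a.comp (algebraMap k K))))).presheaf.stalk z) :=
    @Module.FaithfullyFlat.of_flat_of_isLocalHom _ _ _ _ _ _ _
      (Flat.stalkMap π₁ z) (π₁.toLRSHom.prop z)
  exact Groth.Agent.Lib.Helper38.isDomain_and_isIntegrallyClosed_of_faithfullyFlat _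
    ((pullback (X ↘ (Spec (CommRingCat.of k)))
      (Spec.map (CommRingCat.ofHom (a.comp (algebraMap k K))))).presheaf.stalk z)

end Groth.Agent.S7600
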