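import Groth.Statements.S7601
import Mathlib
import Groth.Agent.Lib.Helper50.StalkProd
import Groth.Agent.Lib.Helper50.NormalAt
import Groth.Agent.Lib.Helper50.NormalTensor
open CategoryTheory.Limits

set_option autoImplicit false
universe u
open CategoryTheory CategoryTheory.Limits AlgebraicGeometry
open Variety

namespace Groth.Agent.S7601

/-- Let X be a geometrically normal scheme over a field k (X_K is a normal scheme for every extension
field K of k) and Y a normal scheme over k. Then X ×_k Y is a normal scheme. -/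
theorem result (k : Type u) [Field k] (X : Scheme.{u}) [X.Over (Spec (CommRingCat.of k))] (Y : Scheme.{u}) [Y.Over (Spec (CommRingCat.of k))]
    (hX : ∀ (K : Type u) [Field K] [Algebra k K], Pi1.IsNormalScheme (Curv2.bc k X K)) (hY : Pi1.IsNormalScheme Y) :
    Pi1.IsNormalScheme (pullback (X ↘ (Spec (CommRingCat.of k))) (Y ↘ (Spec (CommRingCat.of k)))) := by
      intro z
      obtain ⟨q, ⟨e⟩⟩ := Groth.Agent.Lib.Helper50.exists_stalk_prod (X ↘ Spec (CommRingCat.of k)) (Y ↘ Spec (CommRingCat.of k))
        (pullback.fst (X ↘ Spec (CommRingCat.of k)) (Y ↘ Spec (CommRingCat.of k)) z)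
        (pullback.snd (X ↘ Spec (CommRingCat.of k)) (Y ↘ Spec (CommRingCat.of k)) z)
        (Curv2.stalkMap k X _) (Groth.Agent.Lib.Helper50.specMap_stalkMap_eq k _)
        (Curv2.stalkMap k Y _) (Groth.Agent.Lib.Helper50.specMap_stalkMap_eq k _)
        z rfl rfl
      letI := Curv2.stalkAlgebra k X (pullback.fst (X ↘ Spec (CommRingCat.of k)) (Y ↘ Spec (CommRingCat.of k)) z)
      letI := Curv2.stalkAlgebra k Y (pullback.snd (X ↘ Spec (CommRingCat.of k)) (Y ↘ Spec (CommRingCat.of k)) z)
      have hA : EGA4.IsGeomNormal k (X.presheaf.stalk (pullback.fst (X ↘ Spec (CommRingCat.of k)) (Y ↘ Spec (CommRingCat.of k)) z)) := by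
        intro k' _ _ hfin
        exact Groth.Agent.Lib.Helper50.isNormalRing_tensor_stalk_of_forall k X _ k' (fun x' _ => hX k' x')
      obtain ⟨hd, hic⟩ := hY (pullback.snd (X ↘ Spec (CommRingCat.of k)) (Y ↘ Spec (CommRingCat.of k)) z)
      have hB : EGA4.IsNormalRing (Y.presheaf.stalk (pullback.snd (X ↘ Spec (CommRingCat.of k)) (Y ↘ Spec (CommRingCat.of k)) z)) :=
        Groth.Agent.Lib.Helper50.isNormalRing_of_isIntegrallyClosed _
      have hN := Groth.Agent.Lib.Helper50.isNormalRing_tensor_of_isGeomNormal k _ _ hA hB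
      exact Groth.Agent.Lib.Helper24.isDomain_and_isIntegrallyClosed_of_ringEquiv e.symm (hN q.asIdeal)

end Groth.Agent.S7601
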