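import Groth.Statements.S7604
import Groth.Agent.Lib.Helper50.GeomReducedScheme

set_option autoImplicit false
universe u
open CategoryTheory CategoryTheory.Limits AlgebraicGeometry
open Variety

namespace Groth.Agent.S7604

open TensorProduct MorphismProperty Groth.Agent.Lib.Helper50

/-- `Spec O ×_k Y` is reduced when `O` is geometrically reduced over `k` and `Y` is reduced. -/
theorem isReduced_pullback_spec {k O : Type u} [Field k] [CommRing O] [Algebra k O]
    [Algebra.IsGeometricallyReduced k O] {Y : Scheme.{u}} [IsReduced Y]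
    (g : Y ⟶ Spec (CommRingCat.of k)) :
    IsReduced (pullback (Spec.map (CommRingCat.ofHom (algebraMap k O))) g) := by
  apply +allowSynthFailures @IsReduced.of_openCover
    (𝒰 := Scheme.Pullback.openCoverOfRight Y.affineCover
      (Spec.map (CommRingCat.ofHom (algebraMap k O))) g)
  intro a
  change IsReduced (pullback (Spec.map (CommRingCat.ofHom (algebraMap k O)))
    (Y.affineCover.f a ≫ g))
  obtain ⟨R, hR⟩ : ∃ R : CommRingCat.{u}, Y.affineCover.X a = Spec R := ⟨_, rfl⟩
  have hred : IsReduced (Y.affineCover.X a) := inferInstance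
  generalize Y.affineCover.f a ≫ g = h
  generalize Y.affineCover.X a = T at *
  subst hR
  obtain ⟨ψ, rfl⟩ := Spec.map_surjective h
  have hRred : _root_.IsReduced R := (affine_isReduced_iff R).mp hred
  letI : Algebra k R := ψ.hom.toAlgebra
  have h1 : _root_.IsReduced (R ⊗[k] O) := by
    apply isReduced_tensor_of_fibers
    intro P
    exact isReduced_tensor_of_isGeometricallyReduced
  have h2 : _root_.IsReduced (O ⊗[k] R) :=
    isReduced_of_injective (Algebra.TensorProduct.comm k O R)
      (Algebra.TensorProduct.comm k O R).injective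
  have e := pullbackSpecIso k O R
  have : IsReduced (Spec (CommRingCat.of (O ⊗[k] R))) := inferInstance
  exact isReduced_of_isOpenImmersion e.hom

/-- Let X and Y be schemes over a field k with Y reduced, and let x be a point of X at which X is
geometrically reduced. Then each point of X ×_k Y mapping to x has a reduced local ring. -/
theorem result (k : Type u) [Field k] (X : Scheme.{u}) [X.Over (Spec (CommRingCat.of k))] (Y : Scheme.{u}) [Y.Over (Spec (CommRingCat.of k))] [IsReduced Y]
    (x : ↥X) (hx : Curv2.IsGeomReducedAt k X x) (z : ↥(pullback (X ↘ (Spec (CommRingCat.of k))) (Y ↘ (Spec (CommRingCat.of k)))))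
    (hz : pullback.fst (X ↘ (Spec (CommRingCat.of k))) (Y ↘ (Spec (CommRingCat.of k))) z = x) :
    _root_.IsReduced ↥((pullback (X ↘ (Spec (CommRingCat.of k))) (Y ↘ (Spec (CommRingCat.of k)))).presheaf.stalk z) := by
  obtain ⟨φ, hφ⟩ := exists_ringHom_stalk (X ↘ (Spec (CommRingCat.of k))) x
  letI := φ.toAlgebra
  have hgr : Algebra.IsGeometricallyReduced k (X.presheaf.stalk x) :=
    (isGeomReducedAt_iff (X ↘ (Spec (CommRingCat.of k))) x φ hφ).mp hx
  let i := X.fromSpecStalk x
  let p := pullback.fst (X ↘ (Spec (CommRingCat.of k))) (Y ↘ (Spec (CommRingCat.of k)))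
  let j : pullback i p ⟶ pullback (X ↘ (Spec (CommRingCat.of k))) (Y ↘ (Spec (CommRingCat.of k))) :=
    pullback.snd i p
  have hjflat : Flat j := inferInstance
  have hjpre : IsPreimmersion j :=
    MorphismProperty.of_isPullback (IsPullback.of_hasPullback i p) inferInstance
  have hx'' : i (IsLocalRing.closedPoint (X.presheaf.stalk x)) = p z := by
    rw [hz]; exact Scheme.fromSpecStalk_closedPoint
  obtain ⟨w, -, hw⟩ := Scheme.Pullback.exists_preimage_pullback _ _ hx''
  have hW : IsReduced (pullback i p) := by
    let eW : pullback i p ≅ pullback (Spec.map (CommRingCat.ofHom (algebraMap k (X.presheaf.stalk x))))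
        (Y ↘ (Spec (CommRingCat.of k))) :=
      pullbackRightPullbackFstIso (X ↘ (Spec (CommRingCat.of k))) (Y ↘ (Spec (CommRingCat.of k))) i ≪≫
        pullback.congrHom hφ.symm rfl
    have := isReduced_pullback_spec (O := X.presheaf.stalk x) (Y ↘ (Spec (CommRingCat.of k)))
    exact isReduced_of_isOpenImmersion eW.hom
  have hbij := stalkMap_bijective_of_flat_of_isPreimmersion j w
  have hw' : j w = z := hw
  subst hw'
  exact isReduced_of_injective (j.stalkMap w).hom hbij.1

end Groth.Agent.S7604
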