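import Groth.Statements.S7605
-- import your own Groth.Agent.* helpers here

set_option autoImplicit false
universe u
open CategoryTheory CategoryTheory.Limits AlgebraicGeometry
open Variety

namespace Groth.Agent.S7605

open TensorProduct

/-- Noetherianity of a `k`-algebra is insensitive to essentially finite type field extensions. -/
theorem isNoetherianRing_tensor_iff {k k' R : Type u} [Field k] [Field k'] [Algebra k k']
    [Algebra.EssFiniteType k k'] [CommRing R] [Algebra k R] :
    IsNoetherianRing R ↔ IsNoetherianRing (R ⊗[k] k') := by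
  constructor
  · intro h
    exact Algebra.EssFiniteType.isNoetherianRing R (R ⊗[k] k')
  · intro h
    have hff : Module.FaithfullyFlat R (R ⊗[k] k') := inferInstance
    rw [isNoetherianRing_iff, isNoetherian_iff', wellFoundedGT_iff_monotone_chain_condition]
    intro a
    have hB : WellFoundedGT (Ideal (R ⊗[k] k')) := by
      rw [← isNoetherian_iff', ← isNoetherianRing_iff]; exact h
    rw [wellFoundedGT_iff_monotone_chain_condition] at hB
    let b : ℕ →o Ideal (R ⊗[k] k') :=
      ⟨fun n => Ideal.map (algebraMap R (R ⊗[k] k')) (a n), fun m n hmn => Ideal.map_mono (a.monotone hmn)⟩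
    obtain ⟨n, hn⟩ := hB b
    refine ⟨n, fun m hm => ?_⟩
    have h1 : Ideal.map (algebraMap R (R ⊗[k] k')) (a n) = Ideal.map (algebraMap R (R ⊗[k] k')) (a m) := hn m hm
    have h2 := Ideal.comap_map_eq_self_of_faithfullyFlat (B := R ⊗[k] k') (a n)
    have h3 := Ideal.comap_map_eq_self_of_faithfullyFlat (B := R ⊗[k] k') (a m)
    rw [h1, h3] at h2
    exact h2.symm

/-- For a scheme X over a field k and a finitely generated field extension k' of k, local Noetherianity
of X is equivalent to local Noetherianity of its base change X_{k'}. -/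
theorem result (k : Type u) [Field k] (X : Scheme.{u}) [X.Over (Spec (CommRingCat.of k))] (k' : Type u) [Field k'] [Algebra k k']
    (hfg : (⊤ : IntermediateField k k').FG) :
    IsLocallyNoetherian X ↔ IsLocallyNoetherian (Curv2.bc k X k') := by
  have hess : Algebra.EssFiniteType k k' := IntermediateField.fg_top_iff.mp hfg
  rw [isLocallyNoetherian_iff_openCover X.affineCover,
    isLocallyNoetherian_iff_openCover (Scheme.Pullback.openCoverOfLeft X.affineCover
      (X ↘ (Spec (CommRingCat.of k))) (Spec.map (CommRingCat.ofHom (algebraMap k k'))))]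
  refine forall_congr' fun a => ?_
  change IsLocallyNoetherian (X.affineCover.X a) ↔
    IsLocallyNoetherian (pullback (X.affineCover.f a ≫ (X ↘ (Spec (CommRingCat.of k))))
      (Spec.map (CommRingCat.ofHom (algebraMap k k'))))
  obtain ⟨R, hR⟩ : ∃ R : CommRingCat.{u}, X.affineCover.X a = Spec R := ⟨_, rfl⟩
  generalize X.affineCover.f a ≫ (X ↘ (Spec (CommRingCat.of k))) = h
  generalize X.affineCover.X a = T at *
  subst hR
  obtain ⟨ψ, rfl⟩ := Spec.map_surjective h
  letI : Algebra k R := ψ.hom.toAlgebra
  have e := pullbackSpecIso k R k'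
  have h1 : IsLocallyNoetherian (pullback (Spec.map ψ)
      (Spec.map (CommRingCat.ofHom (algebraMap k k')))) ↔
      IsLocallyNoetherian (Spec (CommRingCat.of (R ⊗[k] k'))) :=
    ⟨fun _ => isLocallyNoetherian_of_isOpenImmersion e.inv,
      fun _ => isLocallyNoetherian_of_isOpenImmersion e.hom⟩
  rw [h1, isLocallyNoetherian_Spec, isLocallyNoetherian_Spec]
  exact isNoetherianRing_tensor_iff

end Groth.Agent.S7605
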