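import Groth.Statements.S7612
import Mathlib.AlgebraicGeometry.Morphisms.UniversallyOpen
import Mathlib.AlgebraicGeometry.PullbackCarrier
import Mathlib.AlgebraicGeometry.ResidueField

set_option autoImplicit false
universe u
open CategoryTheory CategoryTheory.Limits AlgebraicGeometry
open Variety

namespace Groth.Agent.S7612

theorem preimage_inter_closure_subset {P X Y S : Scheme.{u}} (p : P ⟶ X) (q : P ⟶ Y)
    (f : X ⟶ S) (g : Y ⟶ S) (h : IsPullback p q f g) [IsIntegral S] [Subsingleton S]
    (A : Set X) (B : Set Y) :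
    p.base ⁻¹' A ∩ q.base ⁻¹' (closure B) ⊆ closure (p.base ⁻¹' A ∩ q.base ⁻¹' B) := by
  rintro z ⟨hzA, hzB⟩
  rw [mem_closure_iff]
  intro W hW hzW
  let a : X := p z
  let φ : pullback (X.fromSpecResidueField a) p ⟶ P := pullback.snd _ _
  let ψ : pullback (X.fromSpecResidueField a) p ⟶ Spec (X.residueField a) := pullback.fst _ _
  have hpb : IsPullback (φ ≫ q) ψ g (X.fromSpecResidueField a ≫ f) :=
    (IsPullback.of_hasPullback (X.fromSpecResidueField a) p).flip.paste_horiz h.flip
  have hopen : UniversallyOpen (φ ≫ q) :=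
    MorphismProperty.of_isPullback hpb.flip inferInstance
  -- a point of the fibre over `z`
  obtain ⟨s0⟩ : Nonempty (Spec (X.residueField a)) := inferInstance
  have hs0 : X.fromSpecResidueField a s0 = p z := Scheme.fromSpecResidueField_apply a s0
  obtain ⟨t, -, ht⟩ := Scheme.Pullback.exists_preimage_pullback s0 z hs0
  -- openness
  have hWo : IsOpen (φ.base ⁻¹' W) := hW.preimage φ.continuous
  have himg : IsOpen ((φ ≫ q).base '' (φ.base ⁻¹' W)) := (φ ≫ q).isOpenMap _ hWo
  have hqz : q z ∈ (φ ≫ q).base '' (φ.base ⁻¹' W) := by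
    refine ⟨t, ?_, ?_⟩
    · change φ t ∈ W
      rw [ht]; exact hzW
    · rw [Scheme.Hom.comp_apply, ht]
  obtain ⟨y, hy1, hyB⟩ := mem_closure_iff.mp hzB _ himg hqz
  obtain ⟨t', ht'W, rfl⟩ := hy1
  refine ⟨φ t', ht'W, ?_, ?_⟩
  · change p (φ t') ∈ A
    have : p (φ t') = X.fromSpecResidueField a (ψ t') := by
      rw [← Scheme.Hom.comp_apply, ← Scheme.Hom.comp_apply]
      have hc : φ ≫ p = ψ ≫ X.fromSpecResidueField a := pullback.condition.symm
      rw [hc]
    rw [this, Scheme.fromSpecResidueField_apply]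
    exact hzA
  · change q (φ t') ∈ B
    rw [← Scheme.Hom.comp_apply]
    exact hyB


/-- Let X and Y be schemes over a field k and A ⊆ X, B ⊆ Y subsets. Inside X ×_k Y, the closure of the
set of points projecting into A and into B equals the set of points projecting into the closure of A
and into the closure of B. -/
theorem result (k : Type u) [Field k] (X : Scheme.{u}) [X.Over (Spec (CommRingCat.of k))] (Y : Scheme.{u}) [Y.Over (Spec (CommRingCat.of k))] (A : Set ↥X) (B : Set ↥Y) :
    closure ((pullback.fst (X ↘ (Spec (CommRingCat.of k))) (Y ↘ (Spec (CommRingCat.of k)))).base ⁻¹' A ∩ (pullback.snd (X ↘ (Spec (CommRingCat.of k))) (Y ↘ (Spec (CommRingCat.of k)))).base ⁻¹' B) =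
      (pullback.fst (X ↘ (Spec (CommRingCat.of k))) (Y ↘ (Spec (CommRingCat.of k)))).base ⁻¹' closure A ∩ (pullback.snd (X ↘ (Spec (CommRingCat.of k))) (Y ↘ (Spec (CommRingCat.of k)))).base ⁻¹' closure B := by
  set p := pullback.fst (X ↘ (Spec (CommRingCat.of k))) (Y ↘ (Spec (CommRingCat.of k))) with hp
  set q := pullback.snd (X ↘ (Spec (CommRingCat.of k))) (Y ↘ (Spec (CommRingCat.of k))) with hq
  have hpb : IsPullback p q (X ↘ (Spec (CommRingCat.of k))) (Y ↘ (Spec (CommRingCat.of k))) :=
    IsPullback.of_hasPullback _ _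
  have : Subsingleton (Spec (CommRingCat.of k)) :=
    inferInstanceAs (Subsingleton (PrimeSpectrum k))
  apply subset_antisymm
  · refine (closure_inter_subset_inter_closure _ _).trans (Set.inter_subset_inter ?_ ?_)
    · exact p.continuous.closure_preimage_subset A
    · exact q.continuous.closure_preimage_subset B
  · have h1 := preimage_inter_closure_subset p q _ _ hpb A B
    have h2 := preimage_inter_closure_subset q p _ _ hpb.flip (closure B) A
    intro z hz
    have hz' : z ∈ closure (q.base ⁻¹' (closure B) ∩ p.base ⁻¹' A) := h2 ⟨hz.2, hz.1⟩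
    rw [Set.inter_comm] at hz'
    exact closure_minimal h1 isClosed_closure hz'

end Groth.Agent.S7612
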