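import Groth.Statements.S7613
import Groth.Agent.S1628
import Groth.Agent.S1544
import Groth.Agent.Lib.Helper50.GeomIrredScheme
import Groth.Agent.Lib.Helper50.GeomReducedScheme
import Groth.Agent.Lib.Helper24.SmoothNormalStalk
import Groth.Agent.Lib.Helper78.SmoothNormalField
import Groth.Agent.Lib.Helper14.SmoothFlatDescent
import Groth.Agent.Lib.Helper93.ActionOpen

set_option autoImplicit false
universe u
open CategoryTheory CategoryTheory.Limits AlgebraicGeometry
open Variety

namespace Groth.Agent.S7613

attribute [local instance] Curv2.resAlgebra Curv2.stalkAlgebra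

/-- In the fraction field of an integrally closed `k`-domain `A` admitting a ring map `π` to a field
with `k → A → κ` surjective, every element integral over `k` comes from `k`. -/
theorem mem_range_of_isIntegral {k A L κ : Type*} [Field k] [CommRing A] [IsDomain A]
    [IsIntegrallyClosed A] [Field L] [Algebra A L] [IsFractionRing A L] [Algebra k A] [Algebra k L]
    [IsScalarTower k A L] [Field κ] (π : A →+* κ)
    (hπ : Function.Surjective (π.comp (algebraMap k A))) (β : L) (hβ : IsIntegral k β) :
    β ∈ Set.range (algebraMap k L) := by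
  have hβA : IsIntegral A β := hβ.tower_top
  obtain ⟨b, rfl⟩ := (isIntegrallyClosed_iff L).mp inferInstance hβA
  have hb : IsIntegral k b :=
    (isIntegral_algebraMap_iff (IsFractionRing.injective A L)).mp hβ
  obtain ⟨c₀, hc₀⟩ := hπ (π b)
  have hb' : IsIntegral k (b - algebraMap k A c₀) := hb.sub isIntegral_algebraMap
  have hπb' : π (b - algebraMap k A c₀) = 0 := by
    rw [map_sub, ← hc₀]; simp
  have hcoeff : (minpoly k (b - algebraMap k A c₀)).coeff 0 = 0 := by
    have h1 := minpoly.aeval k (b - algebraMap k A c₀)
    have h2 := congrArg π h1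
    rw [map_zero, Polynomial.aeval_def, Polynomial.hom_eval₂, hπb', Polynomial.eval₂_at_zero] at h2
    exact (map_eq_zero (π.comp (algebraMap k A))).mp h2
  have h0 : b - algebraMap k A c₀ = 0 := (minpoly.coeff_zero_eq_zero hb').mp hcoeff
  refine ⟨c₀, ?_⟩
  rw [IsScalarTower.algebraMap_apply k A L, ← sub_eq_zero.mp h0]

/-- Let X be a variety over a field k (integral, separated and of finite type over k) with a k-rational
point x (k → κ(x) onto) such that X → Spec k is smooth at x. Then every base change of X to an
extension field of k is an integral scheme (X is geometrically integral over k). -/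
theorem result (k : Type u) [Field k] (X : Scheme.{u}) [X.Over (Spec (CommRingCat.of k))] [IsIntegral X] [IsSeparated (X ↘ (Spec (CommRingCat.of k)))]
    [LocallyOfFiniteType (X ↘ (Spec (CommRingCat.of k)))] [QuasiCompact (X ↘ (Spec (CommRingCat.of k)))]
    (x : ↥X) (hx : Function.Surjective (Curv2.resMap k X x)) (hsm : x ∈ (X ↘ (Spec (CommRingCat.of k))).smoothLocus) :
    GeometricallyIntegral (X ↘ (Spec (CommRingCat.of k))) := by
  haveI hlfp : LocallyOfFinitePresentation (X ↘ (Spec (CommRingCat.of k))) :=
    Groth.Agent.Lib.Helper93.ActionOpen.locallyOfFinitePresentation_of_isLocallyNoetherian _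
  obtain ⟨hdom, hic⟩ :=
    Groth.Agent.Lib.Helper24.isIntegrallyClosed_stalk_of_formallySmooth_stalkMap
      (X ↘ (Spec (CommRingCat.of k))) x hsm
      (Groth.Agent.Lib.Helper78.isIntegrallyClosed_stalk_Spec_field k _)
  have hsp : genericPoint X ⤳ x := (genericPoint_spec X).specializes trivial
  have hcompat : Curv2.stalkMap k X (genericPoint X) =
      (X.presheaf.stalkSpecializes hsp).hom.comp (Curv2.stalkMap k X x) := by
    have := X.presheaf.germ_stalkSpecializes (U := ⊤) (y := x) trivial hsp
    ext a
    simp only [Curv2.stalkMap, RingHom.comp_apply]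
    exact (congrArg (fun t => t.hom (Coh.toGlobal (X ↘ Spec (CommRingCat.of k)) a)) this).symm
  haveI : IsScalarTower k (X.presheaf.stalk x) X.functionField :=
    IsScalarTower.of_algebraMap_eq fun a => congrArg (fun t => t a) hcompat
  haveI hirr : GeometricallyIrreducible (X ↘ (Spec (CommRingCat.of k))) := by
    apply Groth.Agent.Lib.Helper50.geometricallyIrreducible_of_sepClosedIn
      (X ↘ (Spec (CommRingCat.of k))) (Curv2.resMap k X (genericPoint X))
      (Groth.Agent.Lib.Helper50.specMap_resMap_eq k (genericPoint X))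
    intro α hα
    have hαint : IsIntegral k α := hα.isIntegral
    let ρ : X.functionField →ₐ[k] X.residueField (genericPoint X) :=
      { (X.residue (genericPoint X)).hom with commutes' := fun _ => rfl }
    have hρinj : Function.Injective ρ := ρ.toRingHom.injective
    obtain ⟨β, hβ⟩ : ∃ β : X.functionField, ρ β = α :=
      IsLocalRing.residue_surjective α
    have hβint : IsIntegral k β := by
      rw [← isIntegral_algHom_iff ρ hρinj, hβ]; exact hαint
    obtain ⟨c, hc⟩ := mem_range_of_isIntegral (A := X.presheaf.stalk x) (L := X.functionField)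
      (X.residue x).hom hx β hβint
    exact ⟨c, by rw [← hβ, ← hc]; rfl⟩
  haveI hred : GeometricallyReduced (X ↘ (Spec (CommRingCat.of k))) := by
    obtain ⟨U, hxU, hU⟩ := (Groth.Agent.Lib.Helper14.exists_smooth_nhd_iff_mem_smoothLocus
      (X ↘ (Spec (CommRingCat.of k))) x).mpr hsm
    letI : U.toScheme.Over (Spec (CommRingCat.of k)) := ⟨U.ι ≫ (X ↘ (Spec (CommRingCat.of k)))⟩
    haveI : Smooth (U.toScheme ↘ Spec (CommRingCat.of k)) := hU
    have hUred : GeometricallyReduced (U.ι ≫ (X ↘ (Spec (CommRingCat.of k)))) :=
      (Groth.Agent.S1628.result k U.toScheme).1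
    have hηU : genericPoint X ∈ U :=
      ((genericPoint_spec X).mem_open_set_iff U.isOpen).mpr ⟨x, trivial, hxU⟩
    rw [Groth.Agent.S1544.result k X]
    let η' : U.toScheme := ⟨genericPoint X, hηU⟩
    let φ' : k →+* U.toScheme.presheaf.stalk η' :=
      (U.ι.stalkMap η').hom.comp (Curv2.stalkMap k X (U.ι η'))
    have hφ' : Spec.map (CommRingCat.ofHom φ') =
        U.toScheme.fromSpecStalk η' ≫ (U.ι ≫ (X ↘ (Spec (CommRingCat.of k)))) := by
      have h0 : CommRingCat.ofHom φ' =
          CommRingCat.ofHom (Curv2.stalkMap k X (U.ι η')) ≫ U.ι.stalkMap η' := rfl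
      rw [h0, Spec.map_comp, Groth.Agent.Lib.Helper50.specMap_stalkMap_eq k (U.ι η'),
        ← Category.assoc, Scheme.SpecMap_stalkMap_fromSpecStalk, Category.assoc]
    have hgr := Groth.Agent.Lib.Helper50.isGeometricallyReduced_stalk_of_geometricallyReduced
      (U.ι ≫ (X ↘ (Spec (CommRingCat.of k)))) η' φ' hφ'
    letI : Algebra k (U.toScheme.presheaf.stalk η') := φ'.toAlgebra
    let ψ : X.functionField →ₐ[k] U.toScheme.presheaf.stalk η' :=
      { (U.ι.stalkMap η').hom with commutes' := fun _ => rfl }
    have hψinj : Function.Injective ψ :=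
      (ConcreteCategory.bijective_of_isIso (U.ι.stalkMap η')).1
    exact Algebra.IsGeometricallyReduced.of_injective ψ hψinj
  exact GeometricallyIntegral.of_geometricallyReduced_of_geometricallyIrreducible _

end Groth.Agent.S7613
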