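import Groth.Statements.S7614
import Groth.Agent.Lib.Helper38.GammaBC
import Groth.Agent.Lib.Helper50.GeomScheme
import Groth.Agent.Lib.Helper50.IrredCompBC

set_option autoImplicit false
universe u
open CategoryTheory CategoryTheory.Limits AlgebraicGeometry
open Variety

namespace Groth.Agent.S7614

/-- Let X be a scheme over a field k and K an extension field of k. If X_K is quasi-affine, then X is
quasi-affine. -/
theorem result (k : Type u) [Field k] (X : Scheme.{u}) [X.Over (Spec (CommRingCat.of k))] (K : Type u) [Field K] [Algebra k K]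
    [(Curv2.bc k X K).IsQuasiAffine] : X.IsQuasiAffine := by
  haveI hflat : Flat (Spec.map (CommRingCat.ofHom (algebraMap k K))) :=
    Groth.Agent.Lib.Helper50.flat_specMap_field k K _
  haveI hsurj : Surjective (Spec.map (CommRingCat.ofHom (algebraMap k K))) :=
    Groth.Agent.Lib.Helper50.surjective_specMap_field _
  have hprsurj : Function.Surjective (Curv2.bcFst k X K) :=
    (inferInstance : Surjective (pullback.fst (X ↘ (Spec (CommRingCat.of k)))
      (Spec.map (CommRingCat.ofHom (algebraMap k K))))).surj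
  haveI : CompactSpace X := by
    rw [← isCompact_univ_iff, ← Set.image_univ_of_surjective hprsurj]
    exact isCompact_univ.image (Curv2.bcFst k X K).continuous
  haveI haff : IsAffineHom (Curv2.bcFst k X K) :=
    MorphismProperty.pullback_fst (P := @IsAffineHom) _ _ inferInstance
  haveI : QuasiSeparatedSpace X := by
    rw [quasiSeparatedSpace_iff_forall_affineOpens]
    intro U V
    have hU : IsCompact (((Curv2.bcFst k X K) ⁻¹ᵁ U.1 : (Curv2.bc k X K).Opens) :
        Set (Curv2.bc k X K)) := (U.2.preimage (Curv2.bcFst k X K)).isCompact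
    have hV : IsCompact (((Curv2.bcFst k X K) ⁻¹ᵁ V.1 : (Curv2.bc k X K).Opens) :
        Set (Curv2.bc k X K)) := (V.2.preimage (Curv2.bcFst k X K)).isCompact
    have hUV := QuasiSeparatedSpace.inter_isCompact _ _
      ((Curv2.bcFst k X K) ⁻¹ᵁ U.1).2 hU ((Curv2.bcFst k X K) ⁻¹ᵁ V.1).2 hV
    have himg : (Curv2.bcFst k X K) '' ((((Curv2.bcFst k X K) ⁻¹ᵁ U.1 : (Curv2.bc k X K).Opens) :
        Set (Curv2.bc k X K)) ∩ (((Curv2.bcFst k X K) ⁻¹ᵁ V.1 : (Curv2.bc k X K).Opens) :
        Set (Curv2.bc k X K))) = (U : Set X) ∩ V := by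
      ext y
      constructor
      · rintro ⟨z, ⟨hz1, hz2⟩, rfl⟩
        exact ⟨hz1, hz2⟩
      · rintro ⟨hy1, hy2⟩
        obtain ⟨z, rfl⟩ := hprsurj y
        exact ⟨z, ⟨hy1, hy2⟩, rfl⟩
    rw [← himg]
    exact hUV.image (Curv2.bcFst k X K).continuous
  have h := Groth.Agent.Lib.Helper38.GammaBC.isOpenImmersion_toSpecΓ_of_bc
    (X ↘ (Spec (CommRingCat.of k))) (CommRingCat.ofHom (algebraMap k K))
    (inferInstance : IsOpenImmersion (Curv2.bc k X K).toSpecΓ)
  exact { }

end Groth.Agent.S7614
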