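import Groth.Statements.S7620
import Groth.Agent.Lib.Helper55.KrullDimIntegral
import Mathlib.RingTheory.NoetherNormalization
import Mathlib.RingTheory.KrullDimension.Polynomial
import Mathlib.RingTheory.KrullDimension.Field
import Mathlib.RingTheory.TensorProduct.MvPolynomial
import Mathlib.RingTheory.LocalRing.ResidueField.Ideal

set_option autoImplicit false
universe u
open CategoryTheory CategoryTheory.Limits AlgebraicGeometry
open scoped TensorProduct
open Variety

namespace Groth.Agent.S7620

theorem exists_smul_eq_algebraMap {A : Type u} [CommRing A] (p : Ideal A) [p.IsPrime]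
    (c : p.ResidueField) :
    ∃ a : A, a ∉ p ∧ ∃ a' : A, algebraMap A p.ResidueField a * c = algebraMap A p.ResidueField a' := by
  obtain ⟨⟨x1, x2⟩, hx⟩ := IsLocalization.surj (nonZeroDivisors (A ⧸ p)) c
  obtain ⟨a', rfl⟩ := Ideal.Quotient.mk_surjective x1
  obtain ⟨a, ha⟩ := Ideal.Quotient.mk_surjective x2.1
  refine ⟨a, ?_, a', ?_⟩
  · intro hap
    have h0 : (x2 : A ⧸ p) = 0 := by rw [← ha]; exact Ideal.Quotient.eq_zero_iff_mem.mpr hap
    exact nonZeroDivisors.coe_ne_zero x2 h0
  · simp only at hx
    rw [← ha] at hx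
    rw [mul_comm]
    simpa [Ideal.algebraMap_quotient_residueField_mk] using hx

theorem exists_smul_eq_one_tmul {A B : Type u} [CommRing A] [CommRing B] [Algebra A B]
    (p : Ideal A) [p.IsPrime] (z : p.ResidueField ⊗[A] B) :
    ∃ a : A, a ∉ p ∧ ∃ b : B, a • z = (1 : p.ResidueField) ⊗ₜ[A] b := by
  induction z using TensorProduct.induction_on with
  | zero => exact ⟨1, fun h => (inferInstance : p.IsPrime).ne_top ((Ideal.eq_top_iff_one p).mpr h), 0, by simp⟩
  | tmul c b =>
    obtain ⟨a, ha, a', h⟩ := exists_smul_eq_algebraMap p c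
    refine ⟨a, ha, a' • b, ?_⟩
    rw [TensorProduct.smul_tmul', Algebra.smul_def, h, TensorProduct.tmul_smul,
      Algebra.algebraMap_eq_smul_one, TensorProduct.smul_tmul']
  | add z₁ z₂ h₁ h₂ =>
    obtain ⟨a₁, ha₁, b₁, e₁⟩ := h₁
    obtain ⟨a₂, ha₂, b₂, e₂⟩ := h₂
    refine ⟨a₁ * a₂, fun h => ((inferInstance : p.IsPrime).mem_or_mem h).elim ha₁ ha₂,
      a₂ • b₁ + a₁ • b₂, ?_⟩
    have h1 : (a₁ * a₂) • z₁ = a₂ • (a₁ • z₁) := by rw [mul_comm, mul_smul]
    have h2 : (a₁ * a₂) • z₂ = a₁ • (a₂ • z₂) := by rw [mul_smul]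
    rw [smul_add, h1, h2, e₁, e₂, TensorProduct.tmul_add, TensorProduct.tmul_smul,
      TensorProduct.tmul_smul]


/-- Let A → B be a finite type ring map (a finite type morphism of affine schemes X → S), p a prime of A
and suppose the fibre ring κ(p) ⊗_A B has Krull dimension d. Then there is an A-algebra homomorphism
π : A[t_1, …, t_d] → B such that the induced map of fibres κ(p) ⊗_A A[t_1, …, t_d] → κ(p) ⊗_A B is
finite. -/
theorem result (A B : Type u) [CommRing A] [CommRing B] [Algebra A B] [Algebra.FiniteType A B]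
    (p : Ideal A) [p.IsPrime] (d : ℕ) (hd : ringKrullDim (p.ResidueField ⊗[A] B) = d) :
    ∃ π : MvPolynomial (Fin d) A →ₐ[A] B,
      (Algebra.TensorProduct.map (AlgHom.id p.ResidueField p.ResidueField) π).toRingHom.Finite := by
  set k := p.ResidueField with hk
  set F := k ⊗[A] B with hF
  have hnt : Nontrivial F := by
    by_contra hn
    rw [not_nontrivial_iff_subsingleton] at hn
    rw [ringKrullDim_eq_bot_of_subsingleton] at hd
    exact WithBot.bot_ne_coe hd
  obtain ⟨s, g, ginj, gfin⟩ := exists_finite_inj_algHom_of_fg k F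
  have hs : s = d := by
    have h1 : ringKrullDim F = ringKrullDim (MvPolynomial (Fin s) k) :=
      Groth.Agent.Lib.Helper55.ringKrullDim_eq_of_ringHom_isIntegral_of_injective g.toRingHom
        gfin.to_isIntegral ginj
    rw [MvPolynomial.ringKrullDim_of_isNoetherianRing, ringKrullDim_eq_zero_of_field, zero_add,
      hd] at h1
    simp only [Nat.card_eq_fintype_card, Fintype.card_fin] at h1
    exact_mod_cast h1.symm
  subst hs
  choose a ha b hb using fun i : Fin s => exists_smul_eq_one_tmul p (g (MvPolynomial.X i))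
  refine ⟨MvPolynomial.aeval b, ?_⟩
  let u : Fin s → k := fun i => algebraMap A k (a i)
  have hu : ∀ i, u i ≠ 0 := fun i h => ha i (Ideal.algebraMap_residueField_eq_zero.mp h)
  let g' : MvPolynomial (Fin s) k →ₐ[k] F := MvPolynomial.aeval (fun i => (1 : k) ⊗ₜ[A] b i)
  let τ' : MvPolynomial (Fin s) k →ₐ[k] MvPolynomial (Fin s) k :=
    MvPolynomial.aeval (fun i => MvPolynomial.C (u i)⁻¹ * MvPolynomial.X i)
  have hsm : ∀ (i : Fin s) (z : F), a i • z = u i • z := fun i z =>
    (algebraMap_smul k (a i) z).symm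
  have hg : g = g'.comp τ' := by
    apply MvPolynomial.algHom_ext
    intro i
    simp only [AlgHom.comp_apply, g', τ', MvPolynomial.aeval_X, map_mul, MvPolynomial.aeval_C]
    rw [← hb i, hsm i, ← Algebra.smul_def, smul_smul, inv_mul_cancel₀ (hu i), one_smul]
  have hg'fin : g'.toRingHom.Finite := by
    have : (g'.toRingHom.comp τ'.toRingHom).Finite := by
      have e : g'.toRingHom.comp τ'.toRingHom = g.toRingHom := by
        rw [hg]; rfl
      rw [e]; exact gfin
    exact RingHom.Finite.of_comp_finite this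
  let ε := MvPolynomial.algebraTensorAlgEquiv (σ := Fin s) A k
  have hθ : ∀ x, (Algebra.TensorProduct.map (AlgHom.id k k) (MvPolynomial.aeval b)) x =
      g' (ε x) := by
    intro x
    induction x using TensorProduct.induction_on with
    | zero => simp
    | tmul c q =>
      simp only [Algebra.TensorProduct.map_tmul, AlgHom.coe_id, id_eq, ε,
        MvPolynomial.algebraTensorAlgEquiv_tmul, map_smul, g']
      rw [MvPolynomial.aeval_map_algebraMap, MvPolynomial.aeval_one_tmul,
        TensorProduct.smul_tmul', smul_eq_mul, mul_one]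
    | add x y hx hy => simp only [map_add, hx, hy]
  have hθ' : (Algebra.TensorProduct.map (AlgHom.id k k) (MvPolynomial.aeval b)).toRingHom =
      g'.toRingHom.comp ε.toAlgHom.toRingHom := RingHom.ext hθ
  rw [hθ']
  exact hg'fin.comp (RingHom.Finite.of_surjective _ ε.surjective)

end Groth.Agent.S7620
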