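import Groth.Statements.S7621
import Groth.Agent.Lib.Helper38.GaloisCont

set_option autoImplicit false
universe u
open CategoryTheory CategoryTheory.Limits AlgebraicGeometry
open Variety

namespace Groth.Agent.S7621

/-- Let K be a (possibly infinite) Galois extension of a field k, X a scheme over k and V a
quasi-compact open subset of X_K. Then there is a subextension k'/k of K, finite over k, such that
every k-automorphism of K fixing k' pointwise maps V onto itself under its action on X_K (an open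
subgroup of the Galois group stabilises V). -/
theorem result (k : Type u) [Field k] (K : Type u) [Field K] [Algebra k K] [IsGalois k K]
    (X : Scheme.{u}) [X.Over (Spec (CommRingCat.of k))] (V : Set ↥(Curv2.bc k X K)) (hV : IsOpen V) (hVc : IsCompact V) :
    ∃ E : IntermediateField k K, FiniteDimensional k ↥E ∧
      ∀ σ : K ≃ₐ[k] K, (∀ a : K, a ∈ E → σ a = a) → (Curv2.galAct k X K σ).base '' V = V := by
  haveI : Algebra.IsIntegral k K := inferInstance
  have hcont := Groth.Agent.Lib.Helper38.GaloisCont.continuous_galAct k X K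
  have hn : IsOpen ((fun x : (K ≃ₐ[k] K) × ↥(Curv2.bc k X K) =>
      (Curv2.galAct k X K x.1).base x.2) ⁻¹' V) := hV.preimage hcont
  have hp : ({1} : Set (K ≃ₐ[k] K)) ×ˢ V ⊆ (fun x : (K ≃ₐ[k] K) × ↥(Curv2.bc k X K) =>
      (Curv2.galAct k X K x.1).base x.2) ⁻¹' V := by
    rintro ⟨σ, v⟩ ⟨hσ, hv⟩
    rw [Set.mem_singleton_iff] at hσ
    subst hσ
    show (Curv2.galAct k X K 1).base v ∈ V
    rw [Groth.Agent.Lib.Helper38.GaloisCont.galAct_one]
    exact hv
  obtain ⟨u, v, hu, -, h1u, hVv, huv⟩ := generalized_tube_lemma isCompact_singleton hVc hn hp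
  have hu1 : u ∈ nhds (1 : K ≃ₐ[k] K) := hu.mem_nhds (h1u rfl)
  obtain ⟨E, hE, hEu⟩ := (krullTopology_mem_nhds_one_iff k K u).mp hu1
  refine ⟨E, hE, ?_⟩
  have hsub : ∀ σ : K ≃ₐ[k] K, σ ∈ E.fixingSubgroup →
      (Curv2.galAct k X K σ).base '' V ⊆ V := by
    rintro σ hσ _ ⟨w, hw, rfl⟩
    have h3 := huv (show (σ, w) ∈ u ×ˢ v from ⟨hEu hσ, hVv hw⟩)
    rw [Set.mem_preimage] at h3
    exact h3
  intro σ hσ
  have hσE : σ ∈ E.fixingSubgroup := by
    rw [IntermediateField.mem_fixingSubgroup_iff]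
    exact fun a ha => hσ a ha
  apply Set.Subset.antisymm (hsub σ hσE)
  intro w hw
  have h2 := hsub σ⁻¹ (inv_mem hσE) ⟨w, hw, rfl⟩
  refine ⟨_, h2, ?_⟩
  exact Groth.Agent.Lib.Helper38.GaloisOrbit.galAct_galAct_symm_apply k X K σ w

end Groth.Agent.S7621
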