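import Groth.Statements.S7624
-- import your own Groth.Agent.* helpers here
import Groth.Agent.Lib.Helper55.ValuationEquidim

set_option autoImplicit false
universe u
open CategoryTheory CategoryTheory.Limits AlgebraicGeometry
open Variety

namespace Groth.Agent.S7624

/-- Let R be a valuation ring, X an irreducible scheme and f : X → Spec R a surjective morphism locally
of finite type. Then each irreducible component of the fibre of f over the closed point of Spec R
has Krull dimension equal to that of the fibre of f over the generic point. -/
theorem result (R : Type u) [CommRing R] [IsDomain R] [ValuationRing R]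
    (X : Scheme.{u}) [IrreducibleSpace ↥X] (f : X ⟶ Spec (CommRingCat.of R)) [LocallyOfFiniteType f] [Surjective f]
    (Z : Set ↥(f.fiber (IsLocalRing.closedPoint R))) (hZ : Z ∈ irreducibleComponents ↥(f.fiber (IsLocalRing.closedPoint R))) :
    topologicalKrullDim ↥Z = topologicalKrullDim ↥(f.fiber (⟨⊥, Ideal.bot_prime⟩ : PrimeSpectrum R)) := by
  have h := Groth.Agent.Lib.Helper55.dim_component_fiber_eq_dim_generic_fiber_of_valuationRing f
    (IsLocalRing.closedPoint R) Z hZ
  have hgen : genericPoint ↥(Spec (CommRingCat.of R)) = (⟨⊥, Ideal.bot_prime⟩ : PrimeSpectrum R) :=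
    genericPoint_eq_bot_of_affine (CommRingCat.of R)
  rw [hgen] at h
  exact h

end Groth.Agent.S7624
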