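import Groth.Statements.S7629
import Groth.Agent.Lib.Helper22.BirationalFunctionField

set_option autoImplicit false
universe u
open CategoryTheory CategoryTheory.Limits AlgebraicGeometry
open Variety

namespace Groth.Agent.S7629

theorem eq_toSpecΓ_comp {X : Scheme.{u}} {R : CommRingCat.{u}} (f : X ⟶ Spec R) :
    f = X.toSpecΓ ≫ Spec.map ((Scheme.ΓSpecIso R).inv ≫ f.appTop) := by
  rw [Spec.map_comp, ← Scheme.toSpecΓ_naturality_assoc, toSpecΓ_SpecMap_ΓSpecIso_inv,
    Category.comp_id]

theorem fromSpecStalk_comp_over (k : Type u) [Field k] (X : Scheme.{u})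
    [X.Over (Spec (CommRingCat.of k))] (x : X) :
    X.fromSpecStalk x ≫ (X ↘ (Spec (CommRingCat.of k))) =
      Spec.map (CommRingCat.ofHom (Curv2.stalkMap k X x)) := by
  conv_lhs => rw [eq_toSpecΓ_comp (X ↘ (Spec (CommRingCat.of k)))]
  rw [Scheme.fromSpecStalk_toSpecΓ_assoc, ← Spec.map_comp]
  rfl


/-- (2) ⇒ (3): let X and Y be varieties over a field k (integral, separated, of finite type) and suppose
the function fields k(X) and k(Y) are isomorphic as k-algebras. Then there are nonempty open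
subschemes U ⊆ X and V ⊆ Y which are isomorphic as schemes over k. -/
theorem result (k : Type u) [Field k] (X : Scheme.{u}) [X.Over (Spec (CommRingCat.of k))] [IsIntegral X] [IsSeparated (X ↘ (Spec (CommRingCat.of k)))] [LocallyOfFiniteType (X ↘ (Spec (CommRingCat.of k)))] [QuasiCompact (X ↘ (Spec (CommRingCat.of k)))]
    (Y : Scheme.{u}) [Y.Over (Spec (CommRingCat.of k))] [IsIntegral Y] [IsSeparated (Y ↘ (Spec (CommRingCat.of k)))] [LocallyOfFiniteType (Y ↘ (Spec (CommRingCat.of k)))] [QuasiCompact (Y ↘ (Spec (CommRingCat.of k)))]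
    (e : X.functionField ≅ Y.functionField)
    (he : e.hom.hom.comp (Curv2.stalkMap k X (genericPoint X)) = Curv2.stalkMap k Y (genericPoint Y)) :
    ∃ (U : X.Opens) (V : Y.Opens), (U : Set ↥X).Nonempty ∧
      ∃ φ : (U : Scheme.{u}) ≅ (V : Scheme.{u}), φ.hom ≫ V.ι ≫ (Y ↘ (Spec (CommRingCat.of k))) = U.ι ≫ (X ↘ (Spec (CommRingCat.of k))) := by
  let φ : Y.presheaf.stalk (genericPoint Y) ≅ X.presheaf.stalk (genericPoint X) := e.symm
  have h₁ : (Spec.map φ.hom ≫ Y.fromSpecStalk (genericPoint Y)) ≫ (Y ↘ (Spec (CommRingCat.of k))) =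
      X.fromSpecStalk (genericPoint X) ≫ (X ↘ (Spec (CommRingCat.of k))) := by
    rw [Category.assoc, fromSpecStalk_comp_over, fromSpecStalk_comp_over, ← Spec.map_comp]
    congr 1
    ext a
    have := congr($(he) a)
    simp only [RingHom.comp_apply] at this
    change e.inv.hom (Curv2.stalkMap k Y (genericPoint Y) a) = Curv2.stalkMap k X (genericPoint X) a
    rw [← this]
    exact congr($(e.hom_inv_id).hom _)
  have hb := Groth.Agent.Lib.Helper22.BiratFF.birationalOver_of_stalkIso
    (X ↘ (Spec (CommRingCat.of k))) (Y ↘ (Spec (CommRingCat.of k)))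
    (genericPoint X) (genericPoint Y) φ h₁
  refine ⟨hb.partialIso.source, hb.partialIso.target, ?_, hb.partialIso.iso, hb.partialIso_isOver⟩
  exact hb.partialIso.dense_source.nonempty

end Groth.Agent.S7629
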