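import Groth.Statements.S7636
import Groth.Agent.Lib.Helper38.FlatBCField
import Groth.Agent.Lib.Helper17.HHLinFunct
import Groth.Agent.Lib.Helper49.FreeMod
import Groth.Agent.Lib.Helper11.CounitEpi

set_option autoImplicit false
universe u
open CategoryTheory CategoryTheory.Limits AlgebraicGeometry
open Variety

namespace Groth.Agent.S7636

/-- the Euler characteristic is invariant under extension of the base field. -/
theorem euler_bc (k : Type u) [Field k] (X : Scheme.{u}) [X.Over (Spec (CommRingCat.of k))]
    [IsProper (X ↘ (Spec (CommRingCat.of k)))]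
    (k' : Type u) [Field k'] [Algebra k k'] (F : X.Modules) [F.IsQuasicoherent] :
    @Curv2.euler k' _ (Curv2.bc k X k') ⟨Curv2.bcSnd k X k'⟩
        ((Scheme.Modules.pullback (Curv2.bcFst k X k')).obj F) = Curv2.euler k X F := by
  unfold Curv2.euler
  refine finsum_congr (fun i => ?_)
  congr 2
  exact Groth.Agent.Lib.Helper38.FlatBCField.finrank_HH_eq (Curv2.bcFst k X k')
    (X ↘ Spec (CommRingCat.of k)) (Curv2.bcSnd k X k')
    (IsPullback.of_hasPullback (X ↘ Spec (CommRingCat.of k))
      (Spec.map (CommRingCat.ofHom (algebraMap k k')))) F i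

/-- the Euler characteristic only depends on the isomorphism class of the module. -/
theorem euler_iso (A : Type u) [Field A] (Z : Scheme.{u}) [Z.Over (Spec (CommRingCat.of A))]
    {M N : Z.Modules} (e : M ≅ N) : Curv2.euler A Z M = Curv2.euler A Z N := by
  unfold Curv2.euler
  refine finsum_congr (fun i => ?_)
  congr 2
  refine LinearEquiv.finrank_eq (LinearEquiv.ofLinear (Canon.HHlin A e.hom i)
    (Canon.HHlin A e.inv i) ?_ ?_)
  · rw [← Groth.Agent.Lib.Helper17.HHLinLES.HHlin_comp, e.inv_hom_id,
      Groth.Agent.Lib.Helper17.HHLinLES.HHlin_id]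
  · rw [← Groth.Agent.Lib.Helper17.HHLinLES.HHlin_comp, e.hom_inv_id,
      Groth.Agent.Lib.Helper17.HHLinLES.HHlin_id]

/-- Let X be proper of dimension at most one over a field k, let k' be a field extension of k and let E
be a finite locally free module of rank n on X. Then the degree of the pullback of E to the base
change X_{k'}, computed over k', equals the degree of E over k. -/
theorem result (k : Type u) [Field k] (X : Scheme.{u}) [X.Over (Spec (CommRingCat.of k))] [IsProper (X ↘ (Spec (CommRingCat.of k)))]
    (hdim : topologicalKrullDim X ≤ 1) (k' : Type u) [Field k'] [Algebra k k']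
    (n : ℕ) (E : X.Modules) (hE : FlatMod.IsFinLocFreeOfRank n E) :
    @Curv2.deg k' _ (Curv2.bc k X k') ⟨Curv2.bcSnd k X k'⟩
        ((Scheme.Modules.pullback (Curv2.bcFst k X k')).obj E) n = Curv2.deg k X E n := by
  haveI : E.IsQuasicoherent :=
    Groth.Agent.Lib.Helper49.isQuasicoherent_of_isFinLocFree E
      (fun x => let ⟨U, hx, e⟩ := hE x; ⟨U, n, hx, e⟩)
  haveI : (Coh.structureModule X).IsQuasicoherent :=
    Groth.Agent.Lib.Helper45.isQuasicoherent_structureModule X
  letI : (Curv2.bc k X k').Over (Spec (CommRingCat.of k')) := ⟨Curv2.bcSnd k X k'⟩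
  change Curv2.deg k' (Curv2.bc k X k') _ n = _
  unfold Curv2.deg
  have h1 := euler_bc k X k' E
  have h2 := euler_bc k X k' (Coh.structureModule X)
  have h3 := euler_iso k' (Curv2.bc k X k')
    (Groth.Agent.Lib.Helper11.CounitEpi.pullbackUnitIso (Curv2.bcFst k X k'))
  rw [← h1, ← h2]
  congr 2
  exact h3.symm

end Groth.Agent.S7636
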