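import Groth.Statements.S7644
-- import your own Groth.Agent.* helpers here

set_option autoImplicit false
universe u
open CategoryTheory CategoryTheory.Limits AlgebraicGeometry
open Variety

namespace Groth.Agent.S7644

/-- If X is an irreducible scheme of positive dimension, separated over a field k, and x is a closed
point of X, then the open subscheme obtained by removing x is not proper over k. -/
theorem result (k : Type u) [Field k] (X : Scheme.{u}) [X.Over (Spec (CommRingCat.of k))]
    [IsSeparated (X ↘ (Spec (CommRingCat.of k)))] [IrreducibleSpace X] (hdim : 0 < topologicalKrullDim X)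
    (x : X) (hx : IsClosed ({x} : Set X)) :
    ¬ IsProper (Scheme.Opens.ι (⟨({x} : Set X)ᶜ, hx.isOpen_compl⟩ : X.Opens) ≫ (X ↘ (Spec (CommRingCat.of k)))) := by
  intro hproper
  have hι : IsProper (Scheme.Opens.ι (⟨({x} : Set X)ᶜ, hx.isOpen_compl⟩ : X.Opens)) :=
    IsProper.of_comp _ (X ↘ (Spec (CommRingCat.of k)))
  have hclosedMap := (Scheme.Opens.ι (⟨({x} : Set X)ᶜ, hx.isOpen_compl⟩ : X.Opens)).isClosedMap
  have hcl : IsClosed (({x} : Set X)ᶜ) := by
    have := hclosedMap.isClosed_range
    rw [Scheme.Opens.range_ι] at this
    exact this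
  have hclopen : IsClopen (({x} : Set X)ᶜ) := ⟨hcl, hx.isOpen_compl⟩
  rcases isClopen_iff.mp hclopen with h | h
  · -- X is a single point
    have hsub : Subsingleton X := by
      refine ⟨fun a b => ?_⟩
      have ha : a ∈ ({x} : Set X) := by
        by_contra ha
        have : a ∈ (({x} : Set X)ᶜ) := ha
        rw [h] at this
        exact this
      have hb : b ∈ ({x} : Set X) := by
        by_contra hb
        have : b ∈ (({x} : Set X)ᶜ) := hb
        rw [h] at this
        exact this
      rw [Set.mem_singleton_iff] at ha hb
      rw [ha, hb]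
    have := topologicalKrullDim_zero_of_discreteTopology X
    exact absurd (lt_of_lt_of_le hdim this) (lt_irrefl _)
  · have : x ∈ (({x} : Set X)ᶜ) := by rw [h]; exact Set.mem_univ x
    exact this rfl

end Groth.Agent.S7644
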