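import Groth.Statements.S7647
import Groth.Agent.Lib.Helper67.GenCurve8

set_option autoImplicit false
universe u
open CategoryTheory CategoryTheory.Limits AlgebraicGeometry
open Variety

namespace Groth.Agent.S7647

/-- Let X be proper over a field k, Z ⊆ X a closed subscheme of dimension ≤ 1 and L an invertible
module. Then the intersection number (L · Z), i.e. the coefficient of n in the polynomial computing
χ(X, O_Z ⊗ L^{⊗n}), equals the degree of L|_Z on Z. -/
theorem result (k : Type u) [Field k] (X : Scheme.{u}) [X.Over (Spec (CommRingCat.of k))] [IsProper (X ↘ (Spec (CommRingCat.of k)))]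
    (D : X.IdealSheafData) (hD : topologicalKrullDim (D.support : Set X) ≤ 1)
    (L : X.Modules) (hL : PicF.IsInvertible L) (P : MvPolynomial (Fin 1) ℚ)
    (hP : ∀ n : Fin 1 → ℕ, (Curv2.euler k X (Curv2.tensorPows (ClSub.quotMod D) 1 (fun _ => L) n) : ℚ) = MvPolynomial.eval (fun i => (n i : ℚ)) P) :
    MvPolynomial.coeff (Finsupp.equivFunOnFinite.symm fun _ : Fin 1 => 1) P =
      (@Curv2.deg k _ D.subscheme ⟨D.subschemeι ≫ (X ↘ (Spec (CommRingCat.of k)))⟩
        ((Scheme.Modules.pullback D.subschemeι).obj L) 1 : ℚ) := by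
  set d : ℤ := @Curv2.deg k _ D.subscheme ⟨D.subschemeι ≫ (X ↘ (Spec (CommRingCat.of k)))⟩
        ((Scheme.Modules.pullback D.subschemeι).obj L) 1 with hd
  set c : ℤ := @Curv2.euler k _ D.subscheme ⟨D.subschemeι ≫ (X ↘ (Spec (CommRingCat.of k)))⟩
        (Coh.structureModule D.subscheme) with hc
  have hP' : ∀ n : Fin 1 → ℕ,
      MvPolynomial.eval (fun i => (n i : ℚ)) P = (n 0 : ℚ) * (d : ℚ) + (c : ℚ) := by
    intro n
    rw [← hP n]
    have h1 := Groth.Agent.Lib.Helper67.GenCurve.euler_quotMod_tensorPow k X D hD hL (n 0)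
    have h2 : Curv2.tensorPows (ClSub.quotMod D) 1 (fun _ => L) n =
        CohB1.tensorMod (ClSub.quotMod D) (CohB1.tensorPow L (n 0)) := rfl
    rw [h2, h1]
    push_cast
    rfl
  have hPeq : P = MvPolynomial.C (d : ℚ) * MvPolynomial.X 0 + MvPolynomial.C (c : ℚ) := by
    refine MvPolynomial.funext_set (fun _ => Set.range (Nat.cast : ℕ → ℚ))
      (fun _ => Set.infinite_range_of_injective Nat.cast_injective) ?_
    intro x hx
    have hx0 : ∃ m : ℕ, (m : ℚ) = x 0 := hx 0 (Set.mem_univ _)
    obtain ⟨m, hm⟩ := hx0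
    have hxe : x = fun i => ((fun _ : Fin 1 => m) i : ℚ) := by
      funext i
      fin_cases i
      exact hm.symm
    rw [hxe, hP' (fun _ => m)]
    simp [mul_comm]
  rw [hPeq]
  have hmon : (Finsupp.equivFunOnFinite.symm fun _ : Fin 1 => 1) = Finsupp.single (0 : Fin 1) 1 := by
    refine Finsupp.ext fun j => ?_
    fin_cases j
    simp
  have hne : (0 : Fin 1 →₀ ℕ) ≠ Finsupp.single (0 : Fin 1) 1 := by
    intro h
    have := congrArg (fun f => f 0) h
    simp at this
  rw [hmon, MvPolynomial.coeff_add, MvPolynomial.coeff_C_mul, MvPolynomial.coeff_X,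
    MvPolynomial.coeff_C, if_neg hne]
  simp

end Groth.Agent.S7647
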