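import Groth.Statements.S7648
import Groth.Agent.Lib.Helper45.Dev.SnapperF

set_option autoImplicit false
universe u
open CategoryTheory CategoryTheory.Limits AlgebraicGeometry
open Variety

namespace Groth.Agent.S7648

/-- Let X be proper over a field k of dimension e + 1, let D ⊆ X be an effective Cartier divisor and let
L_0, L_1, …, L_e be invertible modules with L_0 ≅ O_X(D), i.e. L_0 ⊗ I_D ≅ O_X. Then (L_0 ⋯ L_e · X)
= (L_1 ⋯ L_e · D): the coefficient of n_0⋯n_e in the polynomial computing χ(X, ⊗_j L_j^{⊗n_j})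
equals the coefficient of n_1⋯n_e in the polynomial computing χ(X, O_D ⊗ L_1^{⊗n_1} ⊗ ⋯ ⊗
L_e^{⊗n_e}). (The published statement has a closed subscheme Z ⊆ X of dimension d with D ⊆ Z and
L_1|_Z ≅ O_Z(D); this row is its case Z = X.) -/
theorem result (k : Type u) [Field k] (X : Scheme.{u}) [X.Over (Spec (CommRingCat.of k))] [IsProper (X ↘ (Spec (CommRingCat.of k)))]
    (e : ℕ) (hX : topologicalKrullDim X = e + 1) (D : X.IdealSheafData) (hD : FGA.IsEffCartier D)
    (L : Fin (e + 1) → X.Modules) (hL : ∀ j, PicF.IsInvertible (L j))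
    (hLD : ClSub.IsInverseOf (L 0) (ClSub.idealMod D))
    (P : MvPolynomial (Fin (e + 1)) ℚ) (Q : MvPolynomial (Fin e) ℚ)
    (hP : ∀ n : Fin (e + 1) → ℕ, (Curv2.euler k X (Curv2.tensorPows (Coh.structureModule X) (e + 1) L n) : ℚ) = MvPolynomial.eval (fun i => (n i : ℚ)) P)
    (hQ : ∀ n : Fin e → ℕ, (Curv2.euler k X (Curv2.tensorPows (ClSub.quotMod D) e (fun j => L j.succ) n) : ℚ) = MvPolynomial.eval (fun i => (n i : ℚ)) Q) :
    MvPolynomial.coeff (Finsupp.equivFunOnFinite.symm fun _ : Fin (e + 1) => 1) P = MvPolynomial.coeff (Finsupp.equivFunOnFinite.symm fun _ : Fin e => 1) Q := by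
  classical
  have hXN : IsLocallyNoetherian X :=
    LocallyOfFiniteType.isLocallyNoetherian (X ↘ (Spec (CommRingCat.of k)))
  have hO : Coh.IsCoh (Coh.structureModule X) :=
    Groth.Agent.Lib.Helper45.RefHullStalk.isCoh_structureModule X
  have hOD : Coh.IsCoh (ClSub.quotMod D) := Groth.Agent.Lib.Helper49.QuotModStalk.isCoh_quotMod D
  -- `P` has total degree `≤ e + 1`
  have hdimO : topologicalKrullDim (CohB1.support (Coh.structureModule X)) ≤ ((e + 1 : ℕ) : WithBot ℕ∞) := by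
    refine (topologicalKrullDim_subspace_le X _).trans ?_
    rw [hX]
    push_cast
    exact le_rfl
  obtain ⟨P₀, hP₀, hP₀e⟩ := Groth.Agent.Lib.Helper45.Snapper.snapper k X (e + 1)
    (Coh.structureModule X) hO hdimO (e + 1) L hL
  have hPP : P = P₀ := Groth.Agent.Lib.Helper45.SnapperNum.eq_of_eval_nat P P₀
    (fun n => by rw [← hP n, ← hP₀e n])
  subst hPP
  -- the polynomials of `O_D`
  have hdimD : topologicalKrullDim (CohB1.support (ClSub.quotMod D)) ≤ ((e + 1 : ℕ) : WithBot ℕ∞) := by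
    refine (topologicalKrullDim_subspace_le X _).trans ?_
    rw [hX]
    push_cast
    exact le_rfl
  have hXle : topologicalKrullDim X ≤ ((e + 1 : ℕ) : WithBot ℕ∞) := by
    rw [hX]
    push_cast
    exact le_rfl
  obtain ⟨-, hcorr⟩ := Groth.Agent.Lib.Helper45.Snapper.snapper_refined k X (e + 1)
    (ClSub.quotMod D) hOD hdimD
  have hlt := Groth.Agent.Lib.Helper45.Snapper.hasPolyLt_of_hasCorr k X
    (Groth.Agent.Lib.Helper45.Snapper.maxPts_quotMod_effCartier D hD (e + 1) hXle) hcorr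
  obtain ⟨R, hR, hRe⟩ := hlt (e + 1) L hL
  obtain ⟨Q₀, hQ₀, hQ₀e⟩ := hlt e (fun j => L j.succ) (fun j => hL _)
  have hQQ : Q = Q₀ := Groth.Agent.Lib.Helper45.SnapperNum.eq_of_eval_nat Q Q₀
    (fun n => by rw [← hQ n, ← hQ₀e n])
  subst hQQ
  have hQdeg : Q.totalDegree ≤ e := by
    rcases hQ₀ with h | h
    · rw [h, MvPolynomial.totalDegree_zero]
      exact Nat.zero_le _
    · omega
  have hRdeg : R.totalDegree ≤ e + 1 := by
    rcases hR with h | h
    · rw [h, MvPolynomial.totalDegree_zero]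
      exact Nat.zero_le _
    · omega
  have hRzero : MvPolynomial.coeff (Finsupp.equivFunOnFinite.symm fun _ : Fin (e + 1) => 1) R = 0 := by
    refine hR.coeff_eq_zero _ ?_
    rw [Finsupp.sum_fintype _ _ (fun _ => rfl)]
    simp
  rw [Groth.Agent.Lib.Helper45.SnapperNum.coeff_one_eq_sum R hRdeg,
    Groth.Agent.Lib.Helper45.SnapperNum.sum_ind_succ
      (fun n => MvPolynomial.eval (fun i => (n i : ℚ)) R)] at hRzero
  rw [Groth.Agent.Lib.Helper45.SnapperNum.coeff_one_eq_sum P hP₀,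
    Groth.Agent.Lib.Helper45.SnapperNum.sum_ind_succ
      (fun n => MvPolynomial.eval (fun i => (n i : ℚ)) P),
    Groth.Agent.Lib.Helper45.SnapperNum.coeff_one_eq_sum Q hQdeg]
  rw [← sub_eq_zero, ← Finset.sum_sub_distrib]
  rw [← hRzero]
  refine Finset.sum_congr rfl fun J _ => ?_
  have s1 := Groth.Agent.Lib.Helper45.Snapper.euler_effCartier_step k X D e L hL hLD
    (Groth.Agent.Lib.Helper45.SnapperNum.ind J)
  have s2 := Groth.Agent.Lib.Helper45.Snapper.euler_tensorPows_cons_zero k X (ClSub.quotMod D) e L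
    (Groth.Agent.Lib.Helper45.SnapperNum.ind J)
  have s1' := congrArg (fun z : ℤ => (z : ℚ)) s1
  have s2' := congrArg (fun z : ℤ => (z : ℚ)) s2
  simp only [Int.cast_add] at s1' s2'
  rw [hP, hP, hRe] at s1'
  rw [hRe, hQ] at s2'
  rw [s1', ← s2']
  ring

end Groth.Agent.S7648
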