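import Groth.Statements.S7651
import Groth.Agent.Lib.Helper38.MinLoc2
import Groth.Agent.Lib.Helper13.NormalRing

set_option autoImplicit false
universe u
open CategoryTheory CategoryTheory.Limits AlgebraicGeometry
open Variety

namespace Groth.Agent.S7651

open Groth.Agent.Lib.Helper38 IsLocalRing

/-- Depth one gives a regular element in the maximal ideal. -/
theorem exists_regular_of_depth_eq_one (A : Type u) [CommRing A] [IsLocalRing A]
    (h : LocCoh.depth A A = 1) : ∃ x ∈ maximalIdeal A, IsSMulRegular A x := by
  classical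
  unfold LocCoh.depth LocCoh.idealDepth at h
  split_ifs at h with htop
  · exact absurd h (by simp)
  by_contra hno
  push Not at hno
  have hle : (⨆ (rs : List A) (_ : RingTheory.Sequence.IsWeaklyRegular A rs ∧
      ∀ r ∈ rs, r ∈ maximalIdeal A), (rs.length : ℕ∞)) ≤ 0 := by
    refine iSup₂_le fun rs hrs => ?_
    cases rs with
    | nil => simp
    | cons x rs' =>
      exfalso
      have h1 := ((RingTheory.Sequence.isWeaklyRegular_cons_iff A x rs').mp hrs.1).1
      exact hno x (hrs.2 x (by simp)) h1
  rw [h] at hle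
  exact absurd hle (by simp)

/-- Under depth one or reducedness, an element in no minimal prime is a nonzerodivisor. -/
theorem mem_nonZeroDivisors_of_forall_notMem (A : Type u) [CommRing A] [IsLocalRing A]
    [IsNoetherianRing A] (hdim : ringKrullDim A = 1) (hdr : LocCoh.depth A A = 1 ∨ IsReduced A)
    {f : A} (hf : ∀ p ∈ minimalPrimes A, f ∉ p) : f ∈ nonZeroDivisors A := by
  rcases hdr with hd | hr
  · obtain ⟨x, hxm, hx⟩ := exists_regular_of_depth_eq_one A hd
    obtain ⟨N, c, hNc⟩ := exists_pow_eq_mul_of_notMem_minimalPrimes hdim.le hf hxm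
    rw [mem_nonZeroDivisors_iff_right]
    intro y hy
    have hxN : IsSMulRegular A (x ^ N) := hx.pow N
    apply hxN
    change x ^ N * y = x ^ N * 0
    rw [hNc, mul_zero, mul_assoc, mul_comm f y, hy, mul_zero]
  · exact Groth.Agent.Lib.Helper13.mem_nonZeroDivisors_of_forall_notMem_minimalPrimes hf

theorem forall_notMem_of_mem_nonZeroDivisors (A : Type u) [CommRing A] {f : A}
    (hf : f ∈ nonZeroDivisors A) : ∀ p ∈ minimalPrimes A, f ∉ p := fun _ hp hfp =>
  Set.disjoint_left.mp (Ideal.disjoint_nonZeroDivisors_of_mem_minimalPrimes hp) hfp hf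

/-- Let (A, m) be a Noetherian local ring of dimension one and f ∈ m. Then (1) m = √(f), (2) f lies in
no minimal prime of A, and (3) A_f ≅ ∏_{p minimal} A_p as A-algebras, are equivalent; such an f
exists; if A has depth one, for instance if A is reduced, they are also equivalent to (4) f is a
nonzerodivisor and to (5) A → A_f is the localization of A at all its nonzerodivisors; and if A is
reduced they are also equivalent to (6) A_f ≅ ∏_{p minimal} κ(p) as A-algebras. -/
theorem result (A : Type u) [CommRing A] [IsLocalRing A]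
    [IsNoetherianRing A] (hdim : ringKrullDim A = 1) :
    (∃ f ∈ IsLocalRing.maximalIdeal A, ∀ p ∈ minimalPrimes A, f ∉ p) ∧
    ∀ f ∈ IsLocalRing.maximalIdeal A,
      ((IsLocalRing.maximalIdeal A = (Ideal.span {f}).radical) ↔ (∀ p ∈ minimalPrimes A, f ∉ p)) ∧
      ((∀ p ∈ minimalPrimes A, f ∉ p) ↔
        Nonempty (Localization.Away f ≃ₐ[A] (∀ p : {p : PrimeSpectrum A // p.asIdeal ∈ minimalPrimes A}, Localization.AtPrime p.1.asIdeal))) ∧
      ((LocCoh.depth A A = 1 ∨ IsReduced A) →
        ((∀ p ∈ minimalPrimes A, f ∉ p) ↔ f ∈ nonZeroDivisors A) ∧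
        ((∀ p ∈ minimalPrimes A, f ∉ p) ↔ IsLocalization (nonZeroDivisors A) (Localization.Away f))) ∧
      (IsReduced A →
        ((∀ p ∈ minimalPrimes A, f ∉ p) ↔
          Nonempty (Localization.Away f ≃ₐ[A] (∀ p : {p : PrimeSpectrum A // p.asIdeal ∈ minimalPrimes A}, p.1.asIdeal.ResidueField)))) := by
  classical
  refine ⟨exists_mem_maximalIdeal_forall_notMem hdim, ?_⟩
  intro f hfm
  -- the product decomposition
  have hprod : (∀ p ∈ minimalPrimes A, f ∉ p) →
      Nonempty (Localization.Away f ≃ₐ[A] (∀ p : {p : PrimeSpectrum A // p.asIdeal ∈ minimalPrimes A},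
        Localization.AtPrime p.1.asIdeal)) := by
    intro hf
    haveI := isLocalization_away_pi hdim.le f hfm hf
    exact ⟨IsLocalization.algEquiv (Submonoid.powers f) (Localization.Away f) _⟩
  refine ⟨maximalIdeal_eq_radical_span_iff hdim hfm, ⟨hprod, ?_⟩, ?_, ?_⟩
  · rintro ⟨e⟩ p hp hfp
    obtain ⟨p', rfl⟩ : ∃ p' : {p : PrimeSpectrum A // p.asIdeal ∈ minimalPrimes A},
      p'.1.asIdeal = p := ⟨⟨⟨p, hp.1.1⟩, hp⟩, rfl⟩
    have hu : IsUnit (algebraMap A (Localization.Away f) f) :=
      IsLocalization.Away.algebraMap_isUnit f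
    have hu2 := hu.map e
    rw [AlgEquiv.commutes] at hu2
    have hu3 := (Pi.isUnit_iff.mp hu2) p'
    change IsUnit (algebraMap A (Localization.AtPrime p'.1.asIdeal) f) at hu3
    rw [IsLocalization.AtPrime.isUnit_to_map_iff _ p'.1.asIdeal] at hu3
    exact hu3 hfp
  · intro hdr
    constructor
    · exact ⟨fun hf => mem_nonZeroDivisors_of_forall_notMem A hdim hdr hf,
        forall_notMem_of_mem_nonZeroDivisors A⟩
    · constructor
      · intro hf
        have hfn : f ∈ nonZeroDivisors A := mem_nonZeroDivisors_of_forall_notMem A hdim hdr hf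
        refine IsLocalization.of_le (M := Submonoid.powers f) (nonZeroDivisors A)
          (Submonoid.powers_le.mpr hfn) ?_
        intro r hr
        have hr' := forall_notMem_of_mem_nonZeroDivisors A hr
        obtain ⟨N, c, hNc⟩ := exists_pow_eq_mul_of_notMem_minimalPrimes hdim.le hr' hfm
        have hu : IsUnit (algebraMap A (Localization.Away f) (f ^ N)) := by
          rw [map_pow]
          exact (IsLocalization.Away.algebraMap_isUnit f).pow N
        rw [hNc, map_mul] at hu
        exact isUnit_of_mul_isUnit_right hu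
      · intro hloc
        apply forall_notMem_of_mem_nonZeroDivisors A
        have hinj : Function.Injective (algebraMap A (Localization.Away f)) :=
          IsLocalization.injective (Localization.Away f) (le_refl (nonZeroDivisors A))
        rw [mem_nonZeroDivisors_iff_right]
        intro y hy
        apply hinj
        have h1 : algebraMap A (Localization.Away f) y * algebraMap A (Localization.Away f) f = 0 := by
          rw [← map_mul, hy, map_zero]
        rw [map_zero]
        exact (IsLocalization.Away.algebraMap_isUnit f).mul_left_eq_zero.mp h1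
  · intro hred
    constructor
    · intro hf
      obtain ⟨e⟩ := hprod hf
      have hcomp : ∀ p : {p : PrimeSpectrum A // p.asIdeal ∈ minimalPrimes A},
          Nonempty (Localization.AtPrime p.1.asIdeal ≃ₐ[A] p.1.asIdeal.ResidueField) :=
        fun p => exists_algEquiv_residueField p.2
      exact ⟨e.trans (AlgEquiv.piCongrRight fun p => (hcomp p).some)⟩
    · rintro ⟨e⟩ p hp hfp
      obtain ⟨p', rfl⟩ : ∃ p' : {p : PrimeSpectrum A // p.asIdeal ∈ minimalPrimes A},
      p'.1.asIdeal = p := ⟨⟨⟨p, hp.1.1⟩, hp⟩, rfl⟩
      have hu : IsUnit (algebraMap A (Localization.Away f) f) :=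
        IsLocalization.Away.algebraMap_isUnit f
      have hu2 := hu.map e
      rw [AlgEquiv.commutes] at hu2
      have hu3 := (Pi.isUnit_iff.mp hu2) p'
      change IsUnit (algebraMap A p'.1.asIdeal.ResidueField f) at hu3
      have h0 : algebraMap A p'.1.asIdeal.ResidueField f = 0 :=
        Ideal.algebraMap_residueField_eq_zero.mpr hfp
      rw [h0] at hu3
      exact not_isUnit_zero hu3

end Groth.Agent.S7651
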