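import Groth.Statements.S7653
import Groth.Agent.Lib.Helper38.Delta2

set_option autoImplicit false
universe u
open CategoryTheory CategoryTheory.Limits AlgebraicGeometry
open Variety

namespace Groth.Agent.S7653

/-- For a reduced local Nagata ring A of Krull dimension one, the δ-invariant of A is zero exactly when
A is a DVR (in particular a domain). -/
theorem result (A : Type u) [CommRing A] [IsLocalRing A]
    [IsReduced A] (hN : CAlg.IsNagata A) (hdim : ringKrullDim A = 1) :
    Curv2.deltaInv A = 0 ↔ ∃ _ : IsDomain A, IsDiscreteValuationRing A := by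
  haveI : IsNoetherianRing A := hN.1
  unfold Curv2.deltaInv
  rw [Module.length_eq_zero_iff, Submodule.Quotient.subsingleton_iff,
    LinearMap.range_eq_top]
  constructor
  · intro hsurj
    have hic : ∀ x : FractionRing A, IsIntegral A x →
        x ∈ (algebraMap A (FractionRing A)).range := by
      intro x hx
      obtain ⟨a, ha⟩ := hsurj ⟨x, hx⟩
      refine ⟨a, ?_⟩
      have := congrArg Subtype.val ha
      simpa using this
    obtain ⟨hdom, hcl⟩ := Groth.Agent.Lib.Helper38.isDomain_and_isIntegrallyClosed_of_local
      (minimalPrimes.finite_of_isNoetherianRing A) hic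
    exact ⟨hdom, Groth.Agent.Lib.Helper38.isDiscreteValuationRing_of_dim_one hdim⟩
  · rintro ⟨hdom, hdvr⟩
    rintro ⟨x, hx⟩
    obtain ⟨a, ha⟩ := IsIntegrallyClosed.algebraMap_eq_of_integral hx
    exact ⟨a, Subtype.ext ha⟩

end Groth.Agent.S7653
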