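import Groth.Statements.S7655
import Groth.Agent.Lib.Helper38.Branch2
import Mathlib.RingTheory.Ideal.MinimalPrime.Noetherian

set_option autoImplicit false
universe u
open CategoryTheory CategoryTheory.Limits AlgebraicGeometry
open Variety

namespace Groth.Agent.S7655

/-- Let (A, m) be a reduced Nagata local ring of dimension one. Then the δ-invariant of A is at least
the number of geometric branches of A minus one. -/
theorem result (A : Type u) [CommRing A] [IsLocalRing A]
    [IsReduced A] (hN : CAlg.IsNagata A) (hdim : ringKrullDim A = 1) :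
    Brnch.numGeomBranches A ≤ Curv2.deltaInv A + 1 := by
  classical
  haveI : IsNoetherianRing A := hN.1
  have hfinmin : (minimalPrimes A).Finite := minimalPrimes.finite_of_isNoetherianRing A
  unfold Brnch.numGeomBranches
  rw [if_pos hfinmin]
  rcases eq_or_ne (Curv2.deltaInv A) ⊤ with htop | hne
  · rw [htop]
    simp
  obtain ⟨n, hn⟩ : ∃ n : ℕ, Curv2.deltaInv A = n := ⟨_, (ENat.natCast_toNat hne).symm⟩
  rw [hn]
  obtain ⟨m, hm, b, _, hb⟩ := Groth.Agent.Lib.Helper38.exists_gens_of_length_quotient_range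
    (A := A) (S := integralClosure A (FractionRing A)) n hn
  have hbij : Function.Bijective (Ideal.Quotient.mk (nilradical A)) := by
    refine ⟨?_, Ideal.Quotient.mk_surjective⟩
    rw [RingHom.injective_iff_ker_eq_bot, Ideal.mk_ker, nilradical_eq_zero]
    rfl
  let e : A ≃+* CAlg2.red A := RingEquiv.ofBijective (Ideal.Quotient.mk (nilradical A)) hbij
  obtain ⟨ψ, hψsurj, hψ⟩ := Groth.Agent.Lib.Helper38.exists_ringHom_integralClosure_of_ringEquiv e
  let fAB : A →+* CAlg2.normRed A :=
    (algebraMap (CAlg2.red A) (CAlg2.normRed A)).comp (Ideal.Quotient.mk (nilradical A))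
  have hgenB : ∀ y : CAlg2.normRed A, ∃ c : Option (Fin m) → A,
      y = ∑ i, fAB (c i) * ψ (b i) := by
    intro y
    obtain ⟨x, rfl⟩ := hψsurj y
    obtain ⟨c, hc⟩ := hb x
    refine ⟨c, ?_⟩
    rw [hc, map_sum]
    refine Finset.sum_congr rfl fun i _ => ?_
    rw [map_mul, hψ]
    rfl
  obtain ⟨hfinT, hcardT⟩ := Groth.Agent.Lib.Helper38.card_ringHom_le fAB (Brnch.toClosure A)
    (fun i => ψ (b i)) hgenB
  let Φ : (Σ m' : MaximalSpectrum (CAlg2.normRed A), Brnch.Emb A m') →
      {τ : CAlg2.normRed A →+* AlgebraicClosure (IsLocalRing.ResidueField A) //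
        τ.comp fAB = Brnch.toClosure A} :=
    fun x => ⟨x.2.1.comp (Ideal.Quotient.mk x.1.asIdeal), by
      have := x.2.2
      rw [RingHom.comp_assoc]
      exact this⟩
  have hΦ : Function.Injective Φ := by
    rintro ⟨m1, σ1⟩ ⟨m2, σ2⟩ h
    have h' : σ1.1.comp (Ideal.Quotient.mk m1.asIdeal) =
        σ2.1.comp (Ideal.Quotient.mk m2.asIdeal) := congrArg Subtype.val h
    have hinj : ∀ (m' : MaximalSpectrum (CAlg2.normRed A)) (σ : Brnch.Emb A m'),
        Function.Injective σ.1 := by
      intro m' σ
      haveI := m'.isMaximal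
      letI : Field (CAlg2.normRed A ⧸ m'.asIdeal) := Ideal.Quotient.field m'.asIdeal
      exact σ.1.injective
    have hmem : ∀ (m' : MaximalSpectrum (CAlg2.normRed A)) (σ : Brnch.Emb A m')
        (y : CAlg2.normRed A), y ∈ m'.asIdeal ↔
          (σ.1.comp (Ideal.Quotient.mk m'.asIdeal)) y = 0 := by
      intro m' σ y
      rw [RingHom.comp_apply, map_eq_zero_iff _ (hinj m' σ), Ideal.Quotient.eq_zero_iff_mem]
    have hm12 : m1 = m2 := by
      apply MaximalSpectrum.ext
      ext y
      rw [hmem m1 σ1, hmem m2 σ2, h']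
    subst hm12
    have hσ : σ1 = σ2 := by
      apply Subtype.ext
      apply Ideal.Quotient.ringHom_ext
      exact h'
    rw [hσ]
  calc ENat.card (Σ m' : MaximalSpectrum (CAlg2.normRed A), Brnch.Emb A m')
      ≤ ENat.card {τ : CAlg2.normRed A →+* AlgebraicClosure (IsLocalRing.ResidueField A) //
        τ.comp fAB = Brnch.toClosure A} := ENat.card_le_card_of_injective hΦ
    _ = (Nat.card {τ : CAlg2.normRed A →+* AlgebraicClosure (IsLocalRing.ResidueField A) //
        τ.comp fAB = Brnch.toClosure A} : ℕ∞) := by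
        haveI := Fintype.ofFinite {τ : CAlg2.normRed A →+*
          AlgebraicClosure (IsLocalRing.ResidueField A) // τ.comp fAB = Brnch.toClosure A}
        rw [ENat.card_eq_coe_fintype_card, Nat.card_eq_fintype_card]
    _ ≤ ((m + 1 : ℕ) : ℕ∞) := by
        have : Fintype.card (Option (Fin m)) = m + 1 := by simp
        rw [this] at hcardT
        exact_mod_cast hcardT
    _ ≤ (n : ℕ∞) + 1 := by
        have : m + 1 ≤ n + 1 := by omega
        exact_mod_cast this

end Groth.Agent.S7655
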