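import Groth.Statements.S7657
import Groth.Agent.Lib.Helper38.NormLink
import Groth.Agent.Lib.Helper38.NormRedDom
import Groth.Agent.Lib.Helper38.BrnchEmb

set_option autoImplicit false
universe u
open CategoryTheory CategoryTheory.Limits AlgebraicGeometry
open Variety

namespace Groth.Agent.S7657

open Groth.Agent.Lib.Helper38

theorem card_emb_point (X : Scheme.{u}) [IsIntegral X]
    [QuasiCompact (X.fromSpecStalk (genericPoint X))] [QuasiSeparated (X.fromSpecStalk (genericPoint X))]
    {x : X} (x' : Curv2.normalization X) (h : (Curv2.normalizationι X) x' = x)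
    (m' : MaximalSpectrum (CAlg2.normRed (X.presheaf.stalk x)))
    (Φ : (CAlg2.normRed (X.presheaf.stalk x) ⧸ m'.asIdeal) ≃+* (Curv2.normalization X).residueField x')
    (hΦ : ∀ r : X.presheaf.stalk x, Φ (Ideal.Quotient.mk _ (NormRedDom.iota (X.presheaf.stalk x) r)) =
      (Curv2.normalization X).residue x' (NormLink.psi X x' h r)) :
    ENat.card (Brnch.Emb (X.presheaf.stalk x) m') =
      (letI := ((Curv2.normalizationι X).residueFieldMap x').hom.toAlgebra
       ENat.card (Field.Emb (X.residueField ((Curv2.normalizationι X).base x'))
         ((Curv2.normalization X).residueField x'))) := by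
  subst h
  refine @BrnchEmb.card_emb_eq _ _ _ m' _ _
    ((Curv2.normalizationι X).residueFieldMap x').hom.toAlgebra Φ ?_
  intro r
  refine (hΦ r).trans ?_
  have h1 := Scheme.residue_residueFieldMap (Curv2.normalizationι X) x'
  have h2 := congrArg (fun f => f.hom r) h1
  simp only [CommRingCat.hom_comp, RingHom.comp_apply] at h2
  unfold NormLink.psi
  simp only [RingHom.comp_apply]
  rw [TopCat.Presheaf.stalkSpecializes_refl]
  exact h2.symm


/-- For an integral scheme X with normalization ν : X^ν → X and a point x: (1) X has as many branches at
x as there are points of X^ν lying over x; (2) counted geometrically, the branches of X at x number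
Σ_{ν(x') = x} [κ(x') : κ(x)]_s, the separable degree being counted as the number of κ(x)-embeddings
of κ(x') into an algebraic closure. (The published statement allows any scheme each of whose
quasi-compact opens meets only finitely many irreducible components; this row takes X integral.) -/
theorem result (X : Scheme.{u}) [IsIntegral X]
    [QuasiCompact (X.fromSpecStalk (genericPoint X))] [QuasiSeparated (X.fromSpecStalk (genericPoint X))]
    (x : X) :
    Brnch.numBranchesAt X x =
        ENat.card {x' : ↥(Curv2.normalization X) // (Curv2.normalizationι X).base x' = x} ∧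
      Brnch.numGeomBranchesAt X x =
        ∑' x' : {x' : ↥(Curv2.normalization X) // (Curv2.normalizationι X).base x' = x},
          (letI := ((Curv2.normalizationι X).residueFieldMap x'.1).hom.toAlgebra
           ENat.card (Field.Emb (X.residueField ((Curv2.normalizationι X).base x'.1))
             ((Curv2.normalization X).residueField x'.1))) := by
  have hmin : (minimalPrimes (X.presheaf.stalk x)).Finite := by
    rw [IsDomain.minimalPrimes_eq_singleton_bot]; exact Set.finite_singleton _
  obtain ⟨Θ, hΘ⟩ := NormLink.exists_link X x (NormRedDom.iota_isFracExt (X.presheaf.stalk x))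
    (NormRedDom.iota_isIntegral (X.presheaf.stalk x))
  constructor
  · unfold Brnch.numBranchesAt Brnch.numBranches
    rw [if_pos hmin]
    exact (ENat.card_congr Θ).symm
  · unfold Brnch.numGeomBranchesAt Brnch.numGeomBranches
    rw [if_pos hmin, ENat_card_sigma]
    rw [← Equiv.tsum_eq Θ]
    congr 1
    ext x'
    obtain ⟨Φ, hΦ⟩ := hΘ x'
    exact card_emb_point X x'.1 x'.2 (Θ x') Φ hΦ

end Groth.Agent.S7657
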