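import Groth.Statements.S7659
import Groth.Agent.Lib.Helper14.MinPrimesScheme

set_option autoImplicit false
universe u
open CategoryTheory CategoryTheory.Limits AlgebraicGeometry
open Variety

namespace Groth.Agent.S7659

/-- In a reduced ring with finitely many minimal primes, the kernel of `A → A_p` is killed by a
single element outside `p`. -/
theorem exists_notMem_forall_mul_eq_zero {A : Type*} [CommRing A] [IsReduced A]
    (hfin : (minimalPrimes A).Finite) (p : Ideal A) [hp : p.IsPrime] :
    ∃ h₀ : A, h₀ ∉ p ∧ ∀ a s : A, s ∉ p → s * a = 0 → h₀ * a = 0 := by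
  classical
  let T : Finset (Ideal A) := hfin.toFinset.filter (fun m => ¬ m ≤ p)
  have hT : ∀ m ∈ T, ∃ e : A, e ∈ m ∧ e ∉ p := by
    intro m hm
    have : ¬ m ≤ p := (Finset.mem_filter.mp hm).2
    exact Set.not_subset.mp this
  choose! e he using hT
  refine ⟨∏ m ∈ T, e m, ?_, ?_⟩
  · intro hmem
    obtain ⟨m, hm, hmp⟩ := (hp.prod_mem_iff).mp hmem
    exact (he m hm).2 hmp
  · intro a s hs hsa
    have hnil : (∏ m ∈ T, e m) * a ∈ nilradical A := by
      have hnr : nilradical A = sInf (minimalPrimes A) := by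
        rw [minimalPrimes, Ideal.sInf_minimalPrimes]; rfl
      rw [hnr, Ideal.mem_sInf]
      intro m hm
      have hmmin : m ∈ minimalPrimes A := hm
      have hmprime : m.IsPrime := hmmin.1.1
      by_cases hmp : m ≤ p
      · have hsm : s ∉ m := fun h => hs (hmp h)
        have h0 : s * a ∈ m := by rw [hsa]; exact m.zero_mem
        rcases hmprime.mem_or_mem h0 with h | h
        · exact absurd h hsm
        · exact m.mul_mem_left _ h
      · have hmT : m ∈ T := Finset.mem_filter.mpr ⟨hfin.mem_toFinset.mpr hmmin, hmp⟩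
        have hdvd : e m ∣ ∏ m ∈ T, e m := Finset.dvd_prod_of_mem e hmT
        obtain ⟨c, hc⟩ := hdvd
        rw [hc]
        exact m.mul_mem_right _ (m.mul_mem_right _ (he m hmT).1)
    simpa using hnil
section ringLemma

variable {A B : Type u} [CommRing A] [CommRing B] [Algebra A B]
  (p : Ideal A) [p.IsPrime] (q : Ideal B) [q.IsPrime] (hpq : p = q.comap (algebraMap A B))

include hpq in
theorem exists_rel_of_surjective
    (hsurj : Function.Surjective (Localization.localRingHom p q (algebraMap A B) hpq)) (b : B) :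
    ∃ a t : A, ∃ u : B, t ∉ p ∧ u ∉ q ∧ u * (algebraMap A B t * b - algebraMap A B a) = 0 := by
  obtain ⟨z, hz⟩ := hsurj (algebraMap B (Localization.AtPrime q) b)
  obtain ⟨a, ⟨t, ht⟩, rfl⟩ := IsLocalization.exists_mk'_eq p.primeCompl z
  rw [Localization.localRingHom_mk', IsLocalization.mk'_eq_iff_eq_mul, ← map_mul] at hz
  obtain ⟨⟨u, hu⟩, hu'⟩ := (IsLocalization.eq_iff_exists q.primeCompl _).mp hz
  refine ⟨a, t, u, ht, hu, ?_⟩
  simp only at hu'
  rw [mul_sub, mul_comm (algebraMap A B t) b, ← hu', sub_self]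

include hpq in
theorem exists_mul_eq_zero_of_injective
    (hinj : Function.Injective (Localization.localRingHom p q (algebraMap A B) hpq))
    (g : B) (hg : g ∉ q) (n : ℕ) (a : A) (h : g ^ n * algebraMap A B a = 0) :
    ∃ s : A, s ∉ p ∧ s * a = 0 := by
  have h1 : algebraMap B (Localization.AtPrime q) (algebraMap A B a) = 0 := by
    rw [IsLocalization.map_eq_zero_iff q.primeCompl]
    exact ⟨⟨g ^ n, fun hmem => hg (Ideal.IsPrime.mem_of_pow_mem inferInstance n hmem)⟩, h⟩
  have h2 : Localization.localRingHom p q (algebraMap A B) hpq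
      (algebraMap A (Localization.AtPrime p) a) = 0 := by
    rw [Localization.localRingHom_to_map]; exact h1
  have h3 : algebraMap A (Localization.AtPrime p) a = 0 := hinj (by rw [h2, map_zero])
  obtain ⟨⟨s, hs⟩, hs'⟩ := (IsLocalization.map_eq_zero_iff p.primeCompl _ _).mp h3
  exact ⟨s, hs, hs'⟩

include hpq in
theorem exists_away_isLocalization [Algebra.FiniteType A B] [IsReduced A]
    (hfin : (minimalPrimes A).Finite)
    (hbij : Function.Bijective (Localization.localRingHom p q (algebraMap A B) hpq)) :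
    ∃ g : B, g ∉ q ∧ ∀ (C : Type u) [CommRing C] [Algebra B C] [Algebra A C]
      [IsScalarTower A B C] [IsLocalization.Away g C], ∃ h : A, IsLocalization.Away h C := by
  classical
  obtain ⟨h₀, hh₀, hker⟩ := exists_notMem_forall_mul_eq_zero hfin p
  obtain ⟨s, hs⟩ := (Algebra.FiniteType.out : (⊤ : Subalgebra A B).FG)
  choose a t u ht hu hrel using exists_rel_of_surjective p q hpq hbij.2
  obtain ⟨tt, htt⟩ : ∃ tt : A, tt = h₀ * ∏ b ∈ s, t b := ⟨_, rfl⟩
  obtain ⟨uu, huu⟩ : ∃ uu : B, uu = ∏ b ∈ s, u b := ⟨_, rfl⟩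
  have htt_p : tt ∉ p := by
    intro hmem
    rw [htt] at hmem
    rcases (inferInstance : p.IsPrime).mem_or_mem hmem with h | h
    · exact hh₀ h
    · obtain ⟨b, _, hb⟩ := Ideal.IsPrime.prod_mem_iff.mp h
      exact ht b hb
  have huu_q : uu ∉ q := by
    intro hmem
    rw [huu] at hmem
    obtain ⟨b, _, hb⟩ := Ideal.IsPrime.prod_mem_iff.mp hmem
    exact hu b hb
  have hφtt_q : algebraMap A B tt ∉ q := by
    intro hmem
    apply htt_p
    rw [hpq]; exact hmem
  obtain ⟨g, hg⟩ : ∃ g : B, g = algebraMap A B tt * uu := ⟨_, rfl⟩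
  refine ⟨g, ?_, ?_⟩
  · intro hmem
    rw [hg] at hmem
    rcases (inferInstance : q.IsPrime).mem_or_mem hmem with h | h
    · exact hφtt_q h
    · exact huu_q h
  intro C _ _ _ _ _
  -- notation
  have hAC : ∀ x : A, algebraMap B C (algebraMap A B x) = algebraMap A C x := fun x =>
    (IsScalarTower.algebraMap_apply A B C x).symm
  -- units
  have hgunit : IsUnit (algebraMap B C g) := IsLocalization.Away.algebraMap_isUnit g
  have hg' : algebraMap B C g = algebraMap A C tt * algebraMap B C uu := by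
    rw [hg, map_mul, hAC]
  have httunit : IsUnit (algebraMap A C tt) := by
    rw [hg'] at hgunit; exact isUnit_of_mul_isUnit_left hgunit
  have huuunit : IsUnit (algebraMap B C uu) := by
    rw [hg'] at hgunit; exact isUnit_of_mul_isUnit_right hgunit
  have htunit : ∀ b ∈ s, IsUnit (algebraMap A C (t b)) := by
    intro b hb
    have hdvd : t b ∣ tt := htt ▸ Dvd.dvd.mul_left (Finset.dvd_prod_of_mem t hb) h₀
    exact isUnit_of_dvd_unit (map_dvd (algebraMap A C) hdvd) httunit
  have huunit : ∀ b ∈ s, IsUnit (algebraMap B C (u b)) := by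
    intro b hb
    have hdvd : u b ∣ uu := huu ▸ Finset.dvd_prod_of_mem u hb
    exact isUnit_of_dvd_unit (map_dvd (algebraMap B C) hdvd) huuunit
  -- the subalgebra of elements of the form a / tt^k
  let R₁ : Subalgebra A C :=
    { carrier := {c | ∃ (k : ℕ) (x : A), c * algebraMap A C tt ^ k = algebraMap A C x}
      mul_mem' := by
        rintro c d ⟨k, x, hx⟩ ⟨l, y, hy⟩
        refine ⟨k + l, x * y, ?_⟩
        rw [map_mul, ← hx, ← hy, pow_add]; ring
      add_mem' := by
        rintro c d ⟨k, x, hx⟩ ⟨l, y, hy⟩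
        refine ⟨k + l, x * tt ^ l + y * tt ^ k, ?_⟩
        rw [map_add, map_mul, map_mul, ← hx, ← hy, pow_add, map_pow, map_pow]; ring
      algebraMap_mem' := fun x => ⟨0, x, by simp⟩ }
  have hR₁ : ∀ c : C, c ∈ R₁ ↔ ∃ (k : ℕ) (x : A), c * algebraMap A C tt ^ k = algebraMap A C x :=
    fun c => Iff.rfl
  have hgen : ∀ b ∈ s, algebraMap B C b ∈ R₁ := by
    intro b hb
    obtain ⟨c, hc⟩ : t b ∣ tt := htt ▸ Dvd.dvd.mul_left (Finset.dvd_prod_of_mem t hb) h₀
    rw [hR₁]
    refine ⟨1, a b * c, ?_⟩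
    have h1 : algebraMap B C (u b) * (algebraMap A C (t b) * algebraMap B C b -
        algebraMap A C (a b)) = 0 := by
      have := congrArg (algebraMap B C) (hrel b)
      simpa [map_mul, map_sub, hAC] using this
    have h2 : algebraMap A C (t b) * algebraMap B C b = algebraMap A C (a b) := by
      have := (huunit b hb).mul_right_eq_zero.mp h1
      exact sub_eq_zero.mp this
    rw [pow_one, hc, map_mul, map_mul, ← h2]; ring
  have hB : ∀ b : B, algebraMap B C b ∈ R₁ := by
    intro b
    have hb : b ∈ Algebra.adjoin A (s : Set B) := by rw [hs]; trivial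
    induction hb using Algebra.adjoin_induction with
    | mem x hx => exact hgen x hx
    | algebraMap r => rw [hAC]; exact R₁.algebraMap_mem r
    | add x y _ _ hx hy => rw [map_add]; exact R₁.add_mem hx hy
    | mul x y _ _ hx hy => rw [map_mul]; exact R₁.mul_mem hx hy
  obtain ⟨m, az, haz⟩ := (hR₁ _).mp (hB uu)
  have hh : algebraMap A C (tt * az) = algebraMap B C g * algebraMap A C tt ^ m := by
    rw [map_mul, ← haz, hg']; ring
  have hhunit : IsUnit (algebraMap A C (tt * az)) := by
    rw [hh]; exact hgunit.mul (httunit.pow m)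
  refine ⟨tt * az, ?_⟩
  refine ⟨?_, ?_, ?_⟩
  · rintro ⟨_, n, rfl⟩
    simp only
    rw [map_pow]
    exact hhunit.pow n
  · intro c
    obtain ⟨n, b, hb⟩ := IsLocalization.Away.surj g c
    obtain ⟨k, ab, hab⟩ := (hR₁ _).mp (hB b)
    refine ⟨(ab * tt ^ (m * n) * az ^ k, ⟨(tt * az) ^ (n + k), n + k, rfl⟩), ?_⟩
    simp only
    have e1 : algebraMap A C az = algebraMap B C uu * algebraMap A C tt ^ m := haz.symm
    rw [map_pow, map_mul, map_mul, map_mul, map_pow, map_pow, ← hab, ← hb, hg', e1, pow_mul]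
    ring
  · intro x y hxy
    have h0 : algebraMap B C (algebraMap A B (x - y)) = 0 := by
      rw [hAC, map_sub, hxy, sub_self]
    obtain ⟨⟨_, n, rfl⟩, hn⟩ := (IsLocalization.map_eq_zero_iff (Submonoid.powers g) C _).mp h0
    simp only at hn
    have hgq : g ∉ q := by
      intro hmem
      rw [hg] at hmem
      rcases (inferInstance : q.IsPrime).mem_or_mem hmem with h | h
      · exact hφtt_q h
      · exact huu_q h
    obtain ⟨s', hs', hs'0⟩ := exists_mul_eq_zero_of_injective p q hpq hbij.1 g hgq n (x - y) hn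
    have h1 : h₀ * (x - y) = 0 := hker _ _ hs' hs'0
    refine ⟨⟨tt * az, 1, pow_one _⟩, ?_⟩
    simp only
    have h2 : tt * az * (x - y) = 0 := by
      rw [htt]
      calc h₀ * (∏ b ∈ s, t b) * az * (x - y) = (∏ b ∈ s, t b) * az * (h₀ * (x - y)) := by ring
        _ = 0 := by rw [h1, mul_zero]
    rw [mul_sub, sub_eq_zero] at h2
    exact h2

end ringLemma


/-- Let f : X → S be a morphism of schemes and x a point with image s such that O_{S,s} → O_{X,x} is an
isomorphism, S is reduced with finitely many irreducible components, and f is locally of finite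
type. Then f restricted to some open neighbourhood of x is an open immersion. (The published
statement assumes f of finite type; this row assumes only that f is locally of finite type.) -/
theorem result {X S : Scheme.{u}} (f : X ⟶ S)
    [LocallyOfFiniteType f] [IsReduced S] (hS : (irreducibleComponents (S : Type u)).Finite)
    (x : X) (hx : IsIso (f.stalkMap x)) :
    ∃ U : X.Opens, x ∈ U ∧ IsOpenImmersion (U.ι ≫ f) := by
  obtain ⟨_, ⟨V, hV, rfl⟩, hsV, -⟩ :=
    S.isBasis_affineOpens.exists_subset_of_mem_open (Set.mem_univ (f x)) isOpen_univ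
  obtain ⟨_, ⟨U, hU, rfl⟩, hxU, hUV⟩ :=
    X.isBasis_affineOpens.exists_subset_of_mem_open (show x ∈ ((f ⁻¹ᵁ V : X.Opens) : Set X) from hsV)
      (f ⁻¹ᵁ V).2
  have hUV' : U ≤ f ⁻¹ᵁ V := hUV
  let φ := f.appLE V U hUV'
  have hft : φ.hom.FiniteType := f.finiteType_appLE hV hU hUV'
  algebraize [φ.hom]
  have hred : _root_.IsReduced Γ(S, V) := inferInstance
  have hfin : (minimalPrimes Γ(S, V)).Finite :=
    Groth.Agent.Lib.Helper14.finite_minimalPrimes_of_finite_irreducibleComponents hS hV
  let q := hU.primeIdealOf ⟨x, hxU⟩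
  let p := hV.primeIdealOf ⟨f x, hUV' hxU⟩
  have hpq : p.asIdeal = q.asIdeal.comap (algebraMap Γ(S, V) Γ(X, U)) :=
    congr($(IsAffineOpen.comap_primeIdealOf_appLE V hV U hU hUV' hxU).1).symm
  have hbij : Function.Bijective
      (Localization.localRingHom p.asIdeal q.asIdeal (algebraMap Γ(S, V) Γ(X, U)) hpq) := by
    have e := IsAffineOpen.arrowStalkMapIso f V hV U hU hUV' hxU
    have : IsIso (CommRingCat.ofHom (Localization.localRingHom p.asIdeal q.asIdeal
        (algebraMap Γ(S, V) Γ(X, U)) hpq)) :=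
      ((MorphismProperty.isomorphisms CommRingCat).arrow_mk_iso_iff e).mp hx
    exact ConcreteCategory.bijective_of_isIso (CommRingCat.ofHom (Localization.localRingHom
      p.asIdeal q.asIdeal (algebraMap Γ(S, V) Γ(X, U)) hpq))
  obtain ⟨g, hgq, hloc⟩ := exists_away_isLocalization p.asIdeal q.asIdeal hpq hfin hbij
  have hU' : IsAffineOpen (X.basicOpen g) := hU.basicOpen g
  have hle : X.basicOpen g ≤ f ⁻¹ᵁ V := (X.basicOpen_le g).trans hUV'
  have hxg : x ∈ X.basicOpen g := by
    have h1 : hU.fromSpec q = x := hU.fromSpec_primeIdealOf ⟨x, hxU⟩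
    have h2 : q ∈ hU.fromSpec ⁻¹ᵁ (X.basicOpen g) := by
      rw [hU.fromSpec_preimage_basicOpen]
      exact hgq
    rw [← h1]
    exact h2
  refine ⟨X.basicOpen g, hxg, ?_⟩
  let ψ := f.appLE V (X.basicOpen g) hle
  let _ : Algebra Γ(S, V) Γ(X, X.basicOpen g) := ψ.hom.toAlgebra
  have : IsScalarTower Γ(S, V) Γ(X, U) Γ(X, X.basicOpen g) := by
    refine IsScalarTower.of_algebraMap_eq' ?_
    have := f.appLE_map (U := V) (V := U) hUV' (homOfLE (X.basicOpen_le g)).op
    exact congr($(this).hom).symm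
  have : IsLocalization.Away g Γ(X, X.basicOpen g) := hU.isLocalization_basicOpen g
  obtain ⟨h, hh⟩ := hloc Γ(X, X.basicOpen g)
  have hoi : IsOpenImmersion (Spec.map ψ) :=
    IsOpenImmersion.of_isLocalization (R := Γ(S, V)) (S := Γ(X, X.basicOpen g)) h
  have e1 : (X.basicOpen g).ι ≫ f = hU'.isoSpec.hom ≫ Spec.map ψ ≫ hV.fromSpec := by
    rw [IsAffineOpen.SpecMap_appLE_fromSpec f hV hU' hle, ← Category.assoc,
      ← hU'.isoSpec_inv_ι, Iso.hom_inv_id_assoc]
  rw [e1]
  have h2 : IsOpenImmersion hV.fromSpec := hV.isOpenImmersion_fromSpec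
  have h3 : IsOpenImmersion (Spec.map ψ ≫ hV.fromSpec) := IsOpenImmersion.comp _ _
  have h4 : IsOpenImmersion hU'.isoSpec.hom := inferInstance
  exact IsOpenImmersion.comp _ _

end Groth.Agent.S7659
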