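import Groth.Statements.S7663
import Groth.Agent.Lib.Helper38.KASub

set_option autoImplicit false
universe u
open CategoryTheory CategoryTheory.Limits AlgebraicGeometry
open Variety

namespace Groth.Agent.S7663

/-- Let K be a field and A, B ⊆ K subrings with fraction field K, with A Noetherian of dimension one.
Then A ⊗ B → K is not surjective (equivalently, the subring generated by A and B is not K) if and
only if some discrete valuation ring O ⊆ K with fraction field K contains both A and B. -/
theorem result (K : Type u) [Field K]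
    (A : Subring K) [IsFractionRing A K] (B : Subring K) [IsFractionRing B K] [IsNoetherianRing A] (hdim : ringKrullDim A = 1) :
    A ⊔ B ≠ ⊤ ↔ ∃ O : ValuationSubring K, IsDiscreteValuationRing O ∧ A ≤ O.toSubring ∧ B ≤ O.toSubring := by
  have hK1 : Ring.KrullDimLE 1 A := by
    rw [Ring.krullDimLE_iff]; exact hdim.le
  constructor
  · intro h
    haveI := Groth.Agent.Lib.Helper38.KrullAkizuki.subring_isFractionRing_of_le A (A ⊔ B) le_sup_left
    obtain ⟨hN, hD⟩ := Groth.Agent.Lib.Helper38.KrullAkizuki.subring_of_le A (A ⊔ B) le_sup_left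
    obtain ⟨O, hO, hle⟩ := Groth.Agent.Lib.Helper38.KrullAkizuki.exists_dvr_of_ne_top (A ⊔ B) h
    exact ⟨O, hO, le_sup_left.trans hle, le_sup_right.trans hle⟩
  · rintro ⟨O, hO, hA, hB⟩ h
    have htop : O.toSubring = ⊤ := top_le_iff.mp (h ▸ sup_le hA hB)
    apply IsDiscreteValuationRing.not_isField O
    refine { exists_pair_ne := ⟨0, 1, zero_ne_one⟩, mul_comm := mul_comm, mul_inv_cancel := ?_ }
    intro a ha
    have hmem : (a : K)⁻¹ ∈ O := by
      have : (a : K)⁻¹ ∈ O.toSubring := by rw [htop]; trivial
      exact this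
    refine ⟨⟨(a : K)⁻¹, hmem⟩, ?_⟩
    apply Subtype.ext
    show (a : K) * (a : K)⁻¹ = 1
    exact mul_inv_cancel₀ (fun h0 => ha (Subtype.ext h0))

end Groth.Agent.S7663
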