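import Groth.Statements.S7664
import Groth.Agent.Lib.Helper38.GlueDVR

set_option autoImplicit false
universe u
open CategoryTheory CategoryTheory.Limits AlgebraicGeometry
open Variety

namespace Groth.Agent.S7664

/-- Let K be a field, A ⊆ K a Noetherian semi-local domain of dimension one and B ⊆ K a discrete
valuation ring, both with fraction field K, and R = A ∩ B. (a) If some unit of A does not lie in R,
then Spec A and Spec B each map to Spec R by an open immersion, Spec R is the union of the two
images, and the natural map A ⊗_R B → K is an isomorphism. (b) If every unit of A lies in R, then B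
dominates the local ring of A at one of its maximal ideals (A ⊆ B and the maximal ideal of B
contracts to a maximal ideal of A) and A ⊗ B → K is not surjective. -/
theorem result (K : Type u) [Field K]
    (A : Subring K) [IsFractionRing A K] [IsNoetherianRing A] (hdim : ringKrullDim A = 1) (hsl : Finite (MaximalSpectrum A))
    (B : ValuationSubring K) [IsDiscreteValuationRing B] :
    ((∃ u : A, IsUnit u ∧ (u : K) ∉ B) →
      IsOpenImmersion (Spec.map (CommRingCat.ofHom (Subring.inclusion (inf_le_left : A ⊓ B.toSubring ≤ A)))) ∧
      IsOpenImmersion (Spec.map (CommRingCat.ofHom (Subring.inclusion (inf_le_right : A ⊓ B.toSubring ≤ B.toSubring)))) ∧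
      Set.range (Spec.map (CommRingCat.ofHom (Subring.inclusion (inf_le_left : A ⊓ B.toSubring ≤ A)))).base ∪
        Set.range (Spec.map (CommRingCat.ofHom (Subring.inclusion (inf_le_right : A ⊓ B.toSubring ≤ B.toSubring)))).base = Set.univ ∧
      IsPushout (CommRingCat.ofHom (Subring.inclusion (inf_le_left : A ⊓ B.toSubring ≤ A)))
        (CommRingCat.ofHom (Subring.inclusion (inf_le_right : A ⊓ B.toSubring ≤ B.toSubring)))
        (CommRingCat.ofHom A.subtype) (CommRingCat.ofHom B.toSubring.subtype)) ∧
    ((∀ u : A, IsUnit u → (u : K) ∈ B) →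
      (∃ h : A ≤ B.toSubring,
        (Ideal.comap (Subring.inclusion h) (IsLocalRing.maximalIdeal B)).IsMaximal) ∧ A ⊔ B.toSubring ≠ ⊤) := by
  have hK1 : Ring.KrullDimLE 1 A := by
    rw [Ring.krullDimLE_iff]; exact hdim.le
  have hnf : ¬ IsField A := by
    intro hf
    have := ringKrullDim_eq_zero_of_isField hf
    rw [hdim] at this
    exact one_ne_zero this
  haveI : IsFractionRing B.toSubring K := (inferInstance : IsFractionRing B K)
  haveI : IsNoetherianRing B.toSubring := (inferInstance : IsNoetherianRing B)
  haveI : Ring.KrullDimLE 1 B.toSubring := (inferInstance : Ring.KrullDimLE 1 B)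
  constructor
  · rintro ⟨u, hu, huB⟩
    exact (Groth.Agent.Lib.Helper38.Glue.hasGlue_of_unit_notMem A hnf B u hu huB).main A B.toSubring
  · intro hall
    have hle : A ≤ B.toSubring := Groth.Agent.Lib.Helper38.Glue.le_of_units_mem A B hall
    refine ⟨⟨hle, Groth.Agent.Lib.Helper38.Glue.comap_maximalIdeal_isMaximal A B hle⟩, ?_⟩
    rw [sup_eq_right.mpr hle]
    exact Groth.Agent.Lib.Helper38.Glue.toSubring_ne_top_of_dvr B

end Groth.Agent.S7664
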