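import Groth.Statements.S7666
import Groth.Agent.Lib.Helper38.Dim1

set_option autoImplicit false
universe u
open CategoryTheory CategoryTheory.Limits AlgebraicGeometry
open Variety

namespace Groth.Agent.S7666

/-- Let A be a one-dimensional Noetherian local ring and L = ∏ A_p, the product over the minimal primes
of A. If a_1, a_2 ∈ m_A have the same image in L, then a_1 and a_2 have equal n-th powers for some
positive integer n. -/
theorem result (A : Type u) [CommRing A]
    [IsLocalRing A] [IsNoetherianRing A] (hdim : ringKrullDim A = 1)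
    (a₁ a₂ : A) (h₁ : a₁ ∈ IsLocalRing.maximalIdeal A) (h₂ : a₂ ∈ IsLocalRing.maximalIdeal A)
    (heq : ∀ p : {p : PrimeSpectrum A // p.asIdeal ∈ minimalPrimes A},
      algebraMap A (Localization.AtPrime p.1.asIdeal) a₁ = algebraMap A (Localization.AtPrime p.1.asIdeal) a₂) :
    ∃ n : ℕ, 0 < n ∧ a₁ ^ n = a₂ ^ n := by
  set d := a₁ - a₂ with hd
  let J : Ideal A := LinearMap.ker (LinearMap.toSpanSingleton A A d)
  have hJmem : ∀ s : A, s ∈ J ↔ s * d = 0 := by
    intro s
    simp [J, LinearMap.mem_ker, LinearMap.toSpanSingleton_apply]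
  have hJ : ∀ p ∈ minimalPrimes A, ¬ J ≤ p := by
    intro p hp hle
    haveI : p.IsPrime := hp.1.1
    have h0 : algebraMap A (Localization.AtPrime p) d = 0 := by
      have := heq ⟨⟨p, hp.1.1⟩, hp⟩
      rw [hd, map_sub, sub_eq_zero]
      exact this
    obtain ⟨m, hm⟩ := (IsLocalization.map_eq_zero_iff p.primeCompl (Localization.AtPrime p) d).mp h0
    exact m.2 (hle ((hJmem _).mpr hm))
  obtain ⟨N, hN⟩ := Groth.Agent.Lib.Helper38.exists_pow_maximalIdeal_le hdim.le J hJ
  refine ⟨N + 1, Nat.succ_pos N, ?_⟩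
  rw [← sub_eq_zero, ← (Commute.all a₁ a₂).mul_geom_sum₂ (N + 1), mul_comm]
  rw [← hJmem]
  apply hN
  refine Ideal.sum_mem _ fun i hi => ?_
  have hiN : i ≤ N := Nat.lt_succ_iff.mp (Finset.mem_range.mp hi)
  have h1 : a₁ ^ i ∈ IsLocalRing.maximalIdeal A ^ i := Ideal.pow_mem_pow h₁ i
  have h2 : a₂ ^ (N + 1 - 1 - i) ∈ IsLocalRing.maximalIdeal A ^ (N - i) := by
    rw [Nat.add_sub_cancel]
    exact Ideal.pow_mem_pow h₂ _
  have := Ideal.mul_mem_mul h1 h2
  rwa [← pow_add, Nat.add_sub_cancel' hiN] at this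

end Groth.Agent.S7666
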