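import Groth.Statements.S7667
import Groth.Agent.Lib.Helper38.Dim1

set_option autoImplicit false
universe u
open CategoryTheory CategoryTheory.Limits AlgebraicGeometry
open Variety

namespace Groth.Agent.S7667

/-- The index type of minimal primes. -/
abbrev MinP (A : Type u) [CommRing A] := {p : PrimeSpectrum A // p.asIdeal ∈ minimalPrimes A}

/-- The product of the localizations at minimal primes. -/
abbrev ProdLoc (A : Type u) [CommRing A] := ∀ p : MinP A, Localization.AtPrime p.1.asIdeal

theorem finite_minP (A : Type u) [CommRing A] [IsNoetherianRing A] : Finite (MinP A) := by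
  haveI : Finite (minimalPrimes A) := (minimalPrimes.finite_of_isNoetherianRing A).to_subtype
  refine Finite.of_injective (fun p : MinP A => (⟨p.1.asIdeal, p.2⟩ : minimalPrimes A)) ?_
  intro p q h
  have : p.1.asIdeal = q.1.asIdeal := congrArg Subtype.val h
  exact Subtype.ext (PrimeSpectrum.ext this)

/-- An element of a minimal prime becomes nilpotent in the localization. -/
theorem isNilpotent_algebraMap_of_mem (A : Type u) [CommRing A] (q : MinP A) {c : A}
    (hc : c ∈ q.1.asIdeal) : IsNilpotent (algebraMap A (Localization.AtPrime q.1.asIdeal) c) := by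
  haveI : Ring.KrullDimLE 0 (Localization.AtPrime q.1.asIdeal) :=
    Ring.KrullDimLE.of_isLocalization q.1.asIdeal q.2 _
  have hmem : algebraMap A (Localization.AtPrime q.1.asIdeal) c ∈
      IsLocalRing.maximalIdeal (Localization.AtPrime q.1.asIdeal) :=
    (IsLocalization.AtPrime.to_map_mem_maximal_iff _ q.1.asIdeal c).mpr hc
  rw [← Ring.KrullDimLE.nilradical_eq_maximalIdeal] at hmem
  exact mem_nilradical.mp hmem

/-- For every element `b` of the product of localizations at minimal primes, a power of the maximal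
ideal multiplies `b` into the image of `A`. -/
theorem exists_pow_mul_mem_range (A : Type u) [CommRing A] [IsLocalRing A] [IsNoetherianRing A]
    (hdim : ringKrullDim A = 1) (b : ProdLoc A) :
    ∃ N : ℕ, ∀ x ∈ IsLocalRing.maximalIdeal A ^ N,
      algebraMap A (ProdLoc A) x * b ∈ (algebraMap A (ProdLoc A)).range := by
  classical
  haveI := finite_minP A
  haveI : Fintype (MinP A) := Fintype.ofFinite _
  let J : Ideal A :=
    { carrier := {s | algebraMap A (ProdLoc A) s * b ∈ (algebraMap A (ProdLoc A)).range}
      add_mem' := by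
        intro s t hs ht
        simp only [Set.mem_ofPred_eq, map_add, add_mul] at hs ht ⊢
        exact Subring.add_mem _ hs ht
      zero_mem' := by
        simp only [Set.mem_ofPred_eq, map_zero, zero_mul]
        exact Subring.zero_mem _
      smul_mem' := by
        intro r s hs
        simp only [Set.mem_ofPred_eq, smul_eq_mul, map_mul, mul_assoc] at hs ⊢
        exact Subring.mul_mem _ ⟨r, rfl⟩ hs }
  have hJ : ∀ p₀ ∈ minimalPrimes A, ¬ J ≤ p₀ := by
    intro p₀ hp₀ hle
    haveI hp₀prime : p₀.IsPrime := hp₀.1.1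
    let P₀ : MinP A := ⟨⟨p₀, hp₀prime⟩, hp₀⟩
    have hex : ∀ q : MinP A, q ≠ P₀ → ∃ c : A, c ∈ q.1.asIdeal ∧ c ∉ p₀ := by
      intro q hq
      have hnle : ¬ q.1.asIdeal ≤ p₀ := by
        intro hle'
        have hge : p₀ ≤ q.1.asIdeal := hp₀.2 ⟨q.1.2, bot_le⟩ hle'
        exact hq (Subtype.ext (PrimeSpectrum.ext (le_antisymm hle' hge)))
      exact Set.not_subset.mp hnle
    choose! c hcq hcp using hex
    have hnil : ∀ q : MinP A, q ≠ P₀ →
        ∃ M : ℕ, (algebraMap A (Localization.AtPrime q.1.asIdeal) (c q)) ^ M = 0 :=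
      fun q hq => isNilpotent_algebraMap_of_mem A q (hcq q hq)
    choose! M hM using hnil
    set s₁ : A := ∏ q ∈ Finset.univ.erase P₀, c q ^ M q with hs₁
    have hs₁p : s₁ ∉ p₀ := by
      intro h
      obtain ⟨q, hq, hqm⟩ := (Ideal.IsPrime.prod_mem_iff).mp h
      exact hcp q (Finset.ne_of_mem_erase hq) (hp₀prime.mem_of_pow_mem _ hqm)
    have hs₁q : ∀ q : MinP A, q ≠ P₀ → algebraMap A (Localization.AtPrime q.1.asIdeal) s₁ = 0 := by
      intro q hq
      rw [hs₁, map_prod]
      refine Finset.prod_eq_zero (Finset.mem_erase.mpr ⟨hq, Finset.mem_univ _⟩) ?_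
      rw [map_pow, hM q hq]
    obtain ⟨⟨x, t⟩, hxt⟩ := IsLocalization.surj p₀.primeCompl (b P₀)
    have hs : s₁ * (t : A) ∈ J := by
      change algebraMap A (ProdLoc A) (s₁ * (t : A)) * b ∈ (algebraMap A (ProdLoc A)).range
      refine ⟨s₁ * x, ?_⟩
      funext q
      rw [Pi.algebraMap_apply, Pi.mul_apply, Pi.algebraMap_apply]
      by_cases hq : q = P₀
      · subst hq
        rw [map_mul, map_mul, mul_assoc, mul_comm (algebraMap A _ (t : A)) (b P₀)]
        exact congrArg _ hxt.symm
      · rw [map_mul, map_mul, hs₁q q hq, zero_mul, zero_mul, zero_mul]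
    have := hle hs
    rcases hp₀prime.mem_or_mem this with h | h
    · exact hs₁p h
    · exact t.2 h
  exact Groth.Agent.Lib.Helper38.exists_pow_maximalIdeal_le hdim.le J hJ

/-- Let A be a one-dimensional Noetherian local ring, L the product of the localizations A_p over its
minimal primes p, and I the intersection of those primes (the nilradical of A). If f ∈ L equals i +
a with a in the maximal ideal of A and i ∈ I·L, then for some positive integer n, f^n belongs to the
subring of L obtained as the image of the structure map from A. -/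
theorem result (A : Type u) [CommRing A]
    [IsLocalRing A] [IsNoetherianRing A] (hdim : ringKrullDim A = 1)
    (a : A) (ha : a ∈ IsLocalRing.maximalIdeal A)
    (i : ∀ p : {p : PrimeSpectrum A // p.asIdeal ∈ minimalPrimes A}, Localization.AtPrime p.1.asIdeal)
    (hi : i ∈ (nilradical A).map (algebraMap A (∀ p : {p : PrimeSpectrum A // p.asIdeal ∈ minimalPrimes A}, Localization.AtPrime p.1.asIdeal))) :
    ∃ n : ℕ, 0 < n ∧ (i + algebraMap A (∀ p : {p : PrimeSpectrum A // p.asIdeal ∈ minimalPrimes A}, Localization.AtPrime p.1.asIdeal) a) ^ n ∈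
      (algebraMap A (∀ p : {p : PrimeSpectrum A // p.asIdeal ∈ minimalPrimes A}, Localization.AtPrime p.1.asIdeal)).range := by
  classical
  set φ := algebraMap A (ProdLoc A) with hφ
  have hinil : IsNilpotent i := by
    have hle : (nilradical A).map φ ≤ nilradical (ProdLoc A) := by
      rw [Ideal.map_le_iff_le_comap]
      intro x hx
      exact mem_nilradical.mpr ((mem_nilradical.mp hx).map φ)
    exact mem_nilradical.mp (hle hi)
  obtain ⟨M, hM⟩ := hinil
  choose N hN using fun j : ℕ => exists_pow_mul_mem_range A hdim (i ^ j)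
  set N₀ := (Finset.range M).sup N with hN₀
  refine ⟨N₀ + M + 1, Nat.succ_pos _, ?_⟩
  rw [add_pow]
  refine Subring.sum_mem _ fun j hj => ?_
  by_cases hjM : j < M
  · have h1 : a ^ (N₀ + M + 1 - j) ∈ IsLocalRing.maximalIdeal A ^ N j := by
      have hle : N j ≤ N₀ + M + 1 - j := by
        have : N j ≤ N₀ := Finset.le_sup (f := N) (Finset.mem_range.mpr hjM)
        omega
      exact Ideal.pow_le_pow_right hle (Ideal.pow_mem_pow ha _)
    have h2 := hN j _ h1
    rw [map_pow] at h2
    have h3 : i ^ j * φ a ^ (N₀ + M + 1 - j) ∈ φ.range := by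
      rw [mul_comm]; exact h2
    exact Subring.mul_mem _ h3 (natCast_mem _ _)
  · have : i ^ j = 0 := pow_eq_zero_of_le (not_lt.mp hjM) hM
    rw [this, zero_mul, zero_mul]
    exact Subring.zero_mem _

end Groth.Agent.S7667
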