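import Groth.Statements.S7668
-- import your own Groth.Agent.* helpers here

set_option autoImplicit false
universe u
open CategoryTheory CategoryTheory.Limits AlgebraicGeometry
open Variety

namespace Groth.Agent.S7668

section
variable {A : Type u} [CommRing A] {r : ℕ} (p : Fin r → PrimeSpectrum A)

/-- The multiplicative set: complement of the union of the primes. -/
abbrev S : Submonoid A := ⨅ i, (p i).asIdeal.primeCompl

theorem disjoint_S (i : Fin r) : Disjoint ((S p : Submonoid A) : Set A) (p i).asIdeal := by
  rw [Set.disjoint_left]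
  intro x hx hxp
  exact (Submonoid.mem_iInf.mp hx i) hxp

theorem exists_le_of_disjoint (Q : Ideal A) (hQ : Q.IsPrime)
    (hd : Disjoint ((S p : Submonoid A) : Set A) Q) : ∃ i, Q ≤ (p i).asIdeal := by
  classical
  have hsub : (Q : Set A) ⊆ ⋃ i ∈ ((Finset.univ : Finset (Fin r)) : Set (Fin r)), ((p i).asIdeal : Set A) := by
    intro x hx
    have hxS : x ∉ S p := fun h => Set.disjoint_left.mp hd h hx
    rw [Submonoid.mem_iInf] at hxS
    push Not at hxS
    obtain ⟨i, hi⟩ := hxS
    have : x ∈ (p i).asIdeal := by
      by_contra h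
      exact hi h
    exact Set.mem_biUnion (Finset.mem_coe.mpr (Finset.mem_univ i)) this
  obtain ⟨i₀, -, -⟩ := Set.mem_iUnion₂.mp (hsub Q.zero_mem)
  obtain ⟨i, -, hi⟩ := (Ideal.subset_union_prime (f := fun i => (p i).asIdeal) i₀ i₀
    (fun i _ _ _ => (p i).isPrime)).mp hsub
  exact ⟨i, hi⟩

/-- The comap of a maximal ideal of the localization is one of the `p i`, maximal among them. -/
theorem comap_of_isMaximal (m : Ideal (Localization (S p))) (hm : m.IsMaximal) :
    ∃ i, m.comap (algebraMap A (Localization (S p))) = (p i).asIdeal ∧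
      ∀ j, (p i).asIdeal ≤ (p j).asIdeal → (p i).asIdeal = (p j).asIdeal := by
  have hprime := (IsLocalization.isPrime_iff_isPrime_disjoint (S p) (Localization (S p)) m).mp
    hm.isPrime
  obtain ⟨i, hi⟩ := exists_le_of_disjoint p _ hprime.1 hprime.2
  have key : ∀ j, m.comap (algebraMap A (Localization (S p))) ≤ (p j).asIdeal →
      m.comap (algebraMap A (Localization (S p))) = (p j).asIdeal := by
    intro j hj
    have hPj : ((p j).asIdeal.map (algebraMap A (Localization (S p)))).IsPrime :=
      IsLocalization.isPrime_of_isPrime_disjoint (S p) _ _ (p j).isPrime (disjoint_S p j)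
    have hle : m ≤ (p j).asIdeal.map (algebraMap A (Localization (S p))) := by
      rw [← IsLocalization.map_under (S p) (Localization (S p)) m]
      exact Ideal.map_mono hj
    have heq := hm.eq_of_le hPj.ne_top hle
    have := IsLocalization.under_map_of_isPrime_disjoint (S p) (Localization (S p))
      (p j).isPrime (disjoint_S p j)
    rw [← heq] at this
    exact this
  refine ⟨i, key i hi, ?_⟩
  intro j hij
  rw [← key i hi] at hij ⊢
  exact key j hij

end

/-- Let A be a ring, p_1, …, p_r primes of A and S = A ∖ ⋃ p_i. Then S is a multiplicative subset, S⁻¹A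
is semi-local, and contraction to A is a bijection from the maximal ideals of S⁻¹A onto the maximal
elements of {p_1, …, p_r}. -/
theorem result (A : Type u) [CommRing A]
    (r : ℕ) (p : Fin r → PrimeSpectrum A) :
    Finite (MaximalSpectrum (Localization (⨅ i, (p i).asIdeal.primeCompl))) ∧
      Set.BijOn (fun m : Ideal (Localization (⨅ i, (p i).asIdeal.primeCompl)) =>
          m.comap (algebraMap A (Localization (⨅ i, (p i).asIdeal.primeCompl))))
        {m | m.IsMaximal}
        {q | q ∈ Set.range (fun i => (p i).asIdeal) ∧
          ∀ j, q ≤ (p j).asIdeal → q = (p j).asIdeal} := by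
  have hinj : ∀ m m' : Ideal (Localization (S p)),
      m.comap (algebraMap A (Localization (S p))) = m'.comap (algebraMap A (Localization (S p))) →
      m = m' := by
    intro m m' h
    rw [← IsLocalization.map_under (S p) (Localization (S p)) m,
      ← IsLocalization.map_under (S p) (Localization (S p)) m']
    exact congrArg _ h
  refine ⟨?_, ?_, ?_, ?_⟩
  · choose f hf using fun m : MaximalSpectrum (Localization (S p)) =>
      comap_of_isMaximal p m.asIdeal m.isMaximal
    refine Finite.of_injective f ?_
    intro m m' h
    have : m.asIdeal = m'.asIdeal := hinj _ _ (by rw [(hf m).1, (hf m').1, h])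
    exact MaximalSpectrum.ext this
  · intro m hm
    obtain ⟨i, hi, hmax⟩ := comap_of_isMaximal p m hm
    refine ⟨⟨i, hi.symm⟩, ?_⟩
    intro j hj
    change Ideal.comap _ m ≤ _ at hj
    change Ideal.comap _ m = _
    rw [hi] at hj ⊢
    exact hmax j hj
  · intro m _ m' _ h
    exact hinj m m' h
  · rintro q ⟨⟨i, rfl⟩, hq⟩
    have hPi : ((p i).asIdeal.map (algebraMap A (Localization (S p)))).IsPrime :=
      IsLocalization.isPrime_of_isPrime_disjoint (S p) _ _ (p i).isPrime (disjoint_S p i)
    have hcomap := IsLocalization.under_map_of_isPrime_disjoint (S p) (Localization (S p))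
      (p i).isPrime (disjoint_S p i)
    obtain ⟨m', hm', hle⟩ := Ideal.exists_le_maximal _ hPi.ne_top
    obtain ⟨j, hj, -⟩ := comap_of_isMaximal p m' hm'
    have h1 : (p i).asIdeal ≤ (p j).asIdeal := by
      rw [← hj, ← hcomap]
      exact Ideal.comap_mono hle
    have h2 := hq j h1
    have h3 : (p i).asIdeal.map (algebraMap A (Localization (S p))) = m' := by
      apply hinj
      rw [hj]
      exact hcomap.trans h2
    refine ⟨_, ?_, hcomap⟩
    change Ideal.IsMaximal _
    rw [h3]; exact hm'

end Groth.Agent.S7668
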