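import Groth.Statements.S7671
import Mathlib
import Groth.Agent.Lib.Helper62.InvDescent2
-- import your own Groth.Agent.* helpers here

set_option autoImplicit false
set_option linter.style.haveILetI false
universe u
open CategoryTheory CategoryTheory.Limits AlgebraicGeometry
open Variety

namespace Groth.Agent.S7671

/-- Let A → B be faithfully flat and X a quasi-compact and quasi-separated scheme over A such that
H^0(X, O_X) is a semi-local ring. Then Pic(X) → Pic(X_B) is injective: an invertible module on X
which becomes trivial on X_B is trivial. -/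
theorem result (A B : Type u) [CommRing A]
    [CommRing B] [Algebra A B] [Module.FaithfullyFlat A B]
    (X : Scheme.{u}) (f : X ⟶ Spec (CommRingCat.of A)) [CompactSpace X] [QuasiSeparatedSpace X]
    (hsl : Finite (MaximalSpectrum Γ(X, ⊤))) (L : X.Modules) (hL : PicF.IsInvertible L)
    (htriv : Nonempty ((Scheme.Modules.pullback
        (pullback.fst f (Spec.map (CommRingCat.ofHom (algebraMap A B))))).obj L ≅
      Coh.structureModule (pullback f (Spec.map (CommRingCat.ofHom (algebraMap A B)))))) :
    Nonempty (L ≅ Coh.structureModule X) := by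
  classical
  obtain ⟨e⟩ := htriv
  let g₀ : Spec (CommRingCat.of B) ⟶ Spec (CommRingCat.of A) :=
    Spec.map (CommRingCat.ofHom (algebraMap A B))
  have hg₀ : Flat g₀ ∧ Surjective g₀ := by
    rw [flat_and_surjective_SpecMap_iff]
    change (algebraMap A B).FaithfullyFlat
    rw [RingHom.faithfullyFlat_algebraMap_iff]
    infer_instance
  haveI : Flat g₀ := hg₀.1
  haveI : Surjective g₀ := hg₀.2
  let fX : X ⟶ Spec Γ(X, ⊤) := X.toSpecΓ
  let c : Spec Γ(X, ⊤) ⟶ Spec (CommRingCat.of A) :=
    Spec.map f.appTop ≫ inv (Spec (CommRingCat.of A)).toSpecΓ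
  have hfc : fX ≫ c = f := by
    change X.toSpecΓ ≫ Spec.map f.appTop ≫ inv (Spec (CommRingCat.of A)).toSpecΓ = f
    rw [← Category.assoc, ← Scheme.toSpecΓ_naturality, Category.assoc, IsIso.hom_inv_id,
      Category.comp_id]
  let g : pullback c g₀ ⟶ Spec Γ(X, ⊤) := pullback.fst c g₀
  let p : pullback f g₀ ⟶ X := pullback.fst f g₀
  let f' : pullback f g₀ ⟶ pullback c g₀ :=
    pullback.lift (p ≫ fX) (pullback.snd f g₀) (by rw [Category.assoc, hfc, pullback.condition])
  have hpb : IsPullback p f' fX g := by
    have hbig : IsPullback (f' ≫ pullback.snd c g₀) p g₀ (fX ≫ c) := by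
      rw [hfc, pullback.lift_snd]
      exact (IsPullback.of_hasPullback f g₀).flip
    have hright : IsPullback (pullback.snd c g₀) g g₀ c := (IsPullback.of_hasPullback c g₀).flip
    exact (IsPullback.of_right hbig (pullback.lift_fst _ _ _) hright).flip
  haveI : Flat g := MorphismProperty.of_isPullback (P := @Flat)
    (IsPullback.of_hasPullback c g₀).flip inferInstance
  haveI : Surjective g := MorphismProperty.of_isPullback (P := @Surjective)
    (IsPullback.of_hasPullback c g₀).flip inferInstance
  haveI : QuasiCompact g := MorphismProperty.of_isPullback (P := @QuasiCompact)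
    (IsPullback.of_hasPullback c g₀).flip inferInstance
  haveI : QuasiCompact fX := inferInstance
  haveI : QuasiSeparated fX := inferInstance
  haveI : IsIso (Groth.Agent.Lib.Helper62.InvDescent.unitToPush fX) :=
    Groth.Agent.Lib.Helper62.InvDescent.isIso_unitToPush_toSpecΓ X
  obtain ⟨h1, h2⟩ := Groth.Agent.Lib.Helper62.InvDescent.main' hpb L hL
    (Coh.structureModule (pullback c g₀))
    (Groth.Agent.Lib.Helper11.GenLocus.isInvertible_structureModule _)
    (e ≪≫ (Groth.Agent.Lib.Helper11.CounitEpi.pullbackUnitIso f').symm)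
  obtain ⟨ψ⟩ := Groth.Agent.Lib.Helper62.InvDescent.nonempty_iso_structureModule_of_semilocal
    Γ(X, ⊤) _ h1
  exact ⟨(asIso ((Scheme.Modules.pullbackPushforwardAdjunction fX).counit.app L)).symm ≪≫
    (Scheme.Modules.pullback fX).mapIso ψ ≪≫
    Groth.Agent.Lib.Helper11.CounitEpi.pullbackUnitIso fX⟩

end Groth.Agent.S7671
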