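import Groth.Statements.S7673
import Groth.Agent.Lib.Helper38.FlatBCField

set_option autoImplicit false
universe u
open CategoryTheory CategoryTheory.Limits AlgebraicGeometry
open Variety

namespace Groth.Agent.S7673

/-- Let k'/k be a field extension, X a proper scheme over k and F a coherent O_X-module with pullback F'
to X_{k'}. Then χ(X, F) = χ(X_{k'}, F'). -/
theorem result (k : Type u) [Field k] (X : Scheme.{u}) [X.Over (Spec (CommRingCat.of k))] [IsProper (X ↘ (Spec (CommRingCat.of k)))]
    (k' : Type u) [Field k'] [Algebra k k'] (F : X.Modules) (hF : Coh.IsCoh F) :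
    @Curv2.euler k' _ (Curv2.bc k X k') ⟨Curv2.bcSnd k X k'⟩
        ((Scheme.Modules.pullback (Curv2.bcFst k X k')).obj F) = Curv2.euler k X F := by
  haveI : F.IsQuasicoherent := hF.1
  unfold Curv2.euler
  refine finsum_congr (fun i => ?_)
  congr 2
  exact Groth.Agent.Lib.Helper38.FlatBCField.finrank_HH_eq (Curv2.bcFst k X k')
    (X ↘ Spec (CommRingCat.of k)) (Curv2.bcSnd k X k')
    (IsPullback.of_hasPullback (X ↘ Spec (CommRingCat.of k))
      (Spec.map (CommRingCat.ofHom (algebraMap k k')))) F i

end Groth.Agent.S7673
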