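import Groth.Statements.S7674
-- import your own Groth.Agent.* helpers here
import Groth.Agent.Lib.Helper55.AffineInter
import Groth.Agent.Lib.Helper55.DimAttained
import Groth.Agent.Lib.Helper55.IrredComponents
import Mathlib.AlgebraicGeometry.AffineSpace

set_option autoImplicit false
universe u
open CategoryTheory CategoryTheory.Limits AlgebraicGeometry
open Variety

namespace Groth.Agent.S7674

open Groth.Agent.Lib.Helper55 Topology

/-- Topological part: points representing the components involved. -/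
theorem exists_points {W : Type*} [TopologicalSpace W] [QuasiSober W] (r s : ℕ) (X Y : Set W)
    (hX : IsClosed X) (hY : IsClosed Y)
    (hXr : ∀ Z ∈ irreducibleComponents X, topologicalKrullDim Z = r)
    (hYs : ∀ Z ∈ irreducibleComponents Y, topologicalKrullDim Z = s)
    (Z : Set ↥(X ∩ Y)) (hZ : Z ∈ irreducibleComponents ↥(X ∩ Y)) :
    ∃ ξ η ζ : W, ξ ⤳ ζ ∧ η ⤳ ζ ∧ topologicalKrullDim ↥(closure ({ξ} : Set W)) = r ∧
      topologicalKrullDim ↥(closure ({η} : Set W)) = s ∧
      topologicalKrullDim ↥Z = topologicalKrullDim ↥(closure ({ζ} : Set W)) ∧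
      ∀ z : W, ξ ⤳ z → η ⤳ z → z ⤳ ζ → ζ ⤳ z := by
  obtain ⟨ζ, hζ, -, hζmin, hζdim⟩ :=
    exists_genericPoint_of_mem_irreducibleComponents (X ∩ Y) (hX.inter hY) Z hZ
  -- a general fact: maximal points of a closed set give components of the right dimension
  have key : ∀ (V : Set W) (hV : IsClosed V) (d : ℕ)
      (hVd : ∀ Z ∈ irreducibleComponents V, topologicalKrullDim Z = d) (v : W) (hv : v ∈ V),
      ∃ q ∈ V, q ⤳ v ∧ topologicalKrullDim ↥(closure ({q} : Set W)) = d := by
    intro V hV d hVd v hv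
    obtain ⟨q, hqV, hqv, hqmax⟩ := exists_maximal_point_specializes V hV v hv
    refine ⟨q, hqV, hqv, ?_⟩
    have : QuasiSober ↥V := hV.isClosedEmbedding_subtypeVal.quasiSober
    have hcomp : closure ({(⟨q, hqV⟩ : ↥V)} : Set ↥V) ∈ irreducibleComponents ↥V := by
      apply closure_mem_irreducibleComponents_of_maximal
      intro y hy
      have h1 : (y : W) ⤳ q := (IsInducing.subtypeVal.specializes_iff (x := y)
        (y := (⟨q, hqV⟩ : ↥V))).mpr hy
      have h2 := hqmax y.1 y.2 h1
      exact (IsInducing.subtypeVal.specializes_iff (x := (⟨q, hqV⟩ : ↥V)) (y := y)).mp h2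
    rw [← hVd _ hcomp]
    exact (topologicalKrullDim_closure_subtype V hV ⟨q, hqV⟩).symm
  obtain ⟨ξ, hξX, hξζ, hξdim⟩ := key X hX r hXr ζ hζ.1
  obtain ⟨η, hηY, hηζ, hηdim⟩ := key Y hY s hYs ζ hζ.2
  refine ⟨ξ, η, ζ, hξζ, hηζ, hξdim, hηdim, hζdim, ?_⟩
  intro z h1 h2 h3
  refine hζmin z ⟨?_, ?_⟩ h3
  · exact hX.closure_subset_iff.mpr (Set.singleton_subset_iff.mpr hξX)
      (specializes_iff_mem_closure.mp h1)
  · exact hY.closure_subset_iff.mpr (Set.singleton_subset_iff.mpr hηY)
      (specializes_iff_mem_closure.mp h2)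

/-- Algebraic part, in terms of points of a prime spectrum. -/
theorem primeSpectrum_ineq (k : Type u) [Field k] (A : Type u) [CommRing A] [Algebra k A]
    {ι : Type*} [Fintype ι] (x : ι → A) (hx : Algebra.adjoin k (Set.range x) = ⊤)
    (ξ η ζ : PrimeSpectrum A) (h1 : ξ ⤳ ζ) (h2 : η ⤳ ζ)
    (hmin : ∀ z : PrimeSpectrum A, ξ ⤳ z → η ⤳ z → z ⤳ ζ → ζ ⤳ z) :
    topologicalKrullDim ↥(closure ({ξ} : Set (PrimeSpectrum A))) +
        topologicalKrullDim ↥(closure ({η} : Set (PrimeSpectrum A))) ≤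
      topologicalKrullDim ↥(closure ({ζ} : Set (PrimeSpectrum A))) +
        (Fintype.card ι : WithBot ℕ∞) := by
  rw [topologicalKrullDim_closure_singleton_primeSpectrum,
    topologicalKrullDim_closure_singleton_primeSpectrum,
    topologicalKrullDim_closure_singleton_primeSpectrum]
  have : ξ.asIdeal.IsPrime := ξ.2
  have : η.asIdeal.IsPrime := η.2
  refine ringKrullDim_quotient_add_le_of_mem_minimalPrimes_sup k A x hx ξ.asIdeal η.asIdeal
    ζ.asIdeal ?_
  rw [← PrimeSpectrum.le_iff_specializes] at h1 h2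
  refine ⟨⟨ζ.2, sup_le h1 h2⟩, ?_⟩
  rintro Q ⟨hQ, hle⟩ hQζ
  have := hmin ⟨Q, hQ⟩ ((PrimeSpectrum.le_iff_specializes _ _).mp (le_sup_left.trans hle))
    ((PrimeSpectrum.le_iff_specializes _ _).mp (le_sup_right.trans hle))
    ((PrimeSpectrum.le_iff_specializes _ _).mp hQζ)
  exact (PrimeSpectrum.le_iff_specializes _ _).mpr this

/-- Transport along a homeomorphism. -/
theorem topologicalKrullDim_closure_homeomorph {W W' : Type*} [TopologicalSpace W]
    [TopologicalSpace W'] (φ : W ≃ₜ W') (w : W) :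
    topologicalKrullDim ↥(closure ({φ w} : Set W')) =
      topologicalKrullDim ↥(closure ({w} : Set W)) := by
  have h := topologicalKrullDim_closure_inter_range_eq φ φ.isEmbedding w
  rwa [φ.range_coe, Set.inter_univ] at h

/-- Let k be a field, n ≥ 0, and X, Y ⊆ A^n_k closed subsets which are equidimensional of dimensions r
and s. Then each irreducible component Z of the intersection X ∩ Y satisfies dim Z ≥ r + s − n. -/
theorem result (k : Type u) [Field k] (n r s : ℕ)
    (X Y : Set ↥(𝔸(ULift.{u} (Fin n); Spec (CommRingCat.of k)))) (hX : IsClosed X) (hY : IsClosed Y)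
    (hXr : ∀ Z ∈ irreducibleComponents X, topologicalKrullDim Z = r)
    (hYs : ∀ Z ∈ irreducibleComponents Y, topologicalKrullDim Z = s)
    (Z : Set ↥(X ∩ Y)) (hZ : Z ∈ irreducibleComponents ↥(X ∩ Y)) :
    ((r + s : ℕ) : WithBot ℕ∞) ≤ topologicalKrullDim Z + (n : WithBot ℕ∞) := by
  obtain ⟨ξ, η, ζ, h1, h2, hξ, hη, hζ, hmin⟩ := exists_points r s X Y hX hY hXr hYs Z hZ
  let φ : ↥(𝔸(ULift.{u} (Fin n); Spec (CommRingCat.of k))) ≃ₜ
      PrimeSpectrum (MvPolynomial (ULift.{u} (Fin n)) k) :=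
    Scheme.homeoOfIso (AffineSpace.SpecIso (ULift.{u} (Fin n)) (CommRingCat.of k))
  have hineq := primeSpectrum_ineq k (MvPolynomial (ULift.{u} (Fin n)) k)
    (fun i : ULift.{u} (Fin n) => (MvPolynomial.X i : MvPolynomial (ULift.{u} (Fin n)) k))
    MvPolynomial.adjoin_range_X (φ ξ) (φ η) (φ ζ) (h1.map φ.continuous) (h2.map φ.continuous)
    (by
      intro z hz1 hz2 hz3
      have e : φ (φ.symm z) = z := φ.apply_symm_apply z
      rw [← e] at hz1 hz2 hz3 ⊢
      have := hmin (φ.symm z) (φ.isInducing.specializes_iff.mp hz1)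
        (φ.isInducing.specializes_iff.mp hz2) (φ.isInducing.specializes_iff.mp hz3)
      exact this.map φ.continuous)
  rw [topologicalKrullDim_closure_homeomorph φ, topologicalKrullDim_closure_homeomorph φ,
    topologicalKrullDim_closure_homeomorph φ, hξ, hη, ← hζ] at hineq
  have hcard : Fintype.card (ULift.{u} (Fin n)) = n := by simp
  rw [hcard] at hineq
  exact_mod_cast hineq

end Groth.Agent.S7674
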