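import Groth.Statements.S7675
-- import your own Groth.Agent.* helpers here
import Groth.Agent.Lib.Helper55.ProjDim
import Groth.Agent.Lib.Helper55.AffineInter
import Groth.Agent.Lib.Helper55.DimAttained

set_option autoImplicit false
universe u
open CategoryTheory CategoryTheory.Limits AlgebraicGeometry
open Variety

namespace Groth.Agent.S7675

open Groth.Agent.Lib.Helper55 MvPolynomial HomogeneousIdeal

/-- The projective dimension theorem, for the projective spectrum. -/
theorem aux (k : Type u) [Field k] (n r s : ℕ)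
    (X Y : Set (ProjectiveSpectrum (CohB1.polyGrading n k))) (hX : IsClosed X) (hY : IsClosed Y)
    (hXr : topologicalKrullDim X = r) (hYs : topologicalKrullDim Y = s) (hrs : n ≤ r + s) :
    (X ∩ Y).Nonempty ∧
      ((r + s : ℕ) : WithBot ℕ∞) ≤ topologicalKrullDim ↥(X ∩ Y) + (n : WithBot ℕ∞) := by
  classical
  set 𝒜 := CohB1.polyGrading n k with h𝒜
  obtain ⟨x, hxX, hxdim⟩ := exists_topologicalKrullDim_closure_eq X hX r hXr
  obtain ⟨y, hyY, hydim⟩ := exists_topologicalKrullDim_closure_eq Y hY s hYs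
  have hx1 := topologicalKrullDim_closure_singleton_add_one k n x
  have hy1 := topologicalKrullDim_closure_singleton_add_one k n y
  rw [hxdim] at hx1
  rw [hydim] at hy1
  have hirr : ((irrelevant 𝒜).toIdeal).IsPrime := (irrelevant_isMaximal k n).isPrime
  have hle : x.asHomogeneousIdeal.toIdeal ⊔ y.asHomogeneousIdeal.toIdeal ≤
      (irrelevant 𝒜).toIdeal :=
    sup_le (Groth.Agent.S10829.toIdeal_lt_irrelevant k n x).le
      (Groth.Agent.S10829.toIdeal_lt_irrelevant k n y).le
  obtain ⟨P, hPmin, -⟩ := Ideal.exists_minimalPrimes_le hle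
  have hPprime : P.IsPrime := hPmin.1.1
  have hI : (x.asHomogeneousIdeal.toIdeal ⊔ y.asHomogeneousIdeal.toIdeal).IsHomogeneous 𝒜 :=
    Ideal.IsHomogeneous.sup x.asHomogeneousIdeal.isHomogeneous y.asHomogeneousIdeal.isHomogeneous
  have hPh : P.IsHomogeneous 𝒜 := isHomogeneous_of_mem_minimalPrimes 𝒜 hI hPmin
  have hAI := ringKrullDim_quotient_add_le_of_mem_minimalPrimes_sup k
    (MvPolynomial (Fin (n + 1)) k) (fun i : Fin (n + 1) => (MvPolynomial.X i : MvPolynomial (Fin (n + 1)) k))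
    (MvPolynomial.adjoin_range_X) x.asHomogeneousIdeal.toIdeal y.asHomogeneousIdeal.toIdeal P hPmin
  obtain ⟨t, ht⟩ := exists_nat_ringKrullDim_quotient k n P
  rw [← hx1, ← hy1, ht, Fintype.card_fin] at hAI
  have hnum : r + 1 + (s + 1) ≤ t + (n + 1) := by exact_mod_cast hAI
  have ht1 : 1 ≤ t := by omega
  obtain ⟨z, hz⟩ := exists_point_of_isHomogeneous k n P hPh (by rw [ht]; exact_mod_cast ht1)
  have hxz : z ∈ closure ({x} : Set (ProjectiveSpectrum 𝒜)) := by
    rw [← ProjectiveSpectrum.le_iff_mem_closure]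
    change x.asHomogeneousIdeal.toIdeal ≤ z.asHomogeneousIdeal.toIdeal
    rw [hz]
    exact le_sup_left.trans hPmin.1.2
  have hyz : z ∈ closure ({y} : Set (ProjectiveSpectrum 𝒜)) := by
    rw [← ProjectiveSpectrum.le_iff_mem_closure]
    change y.asHomogeneousIdeal.toIdeal ≤ z.asHomogeneousIdeal.toIdeal
    rw [hz]
    exact le_sup_right.trans hPmin.1.2
  have hzX : z ∈ X := closure_minimal (Set.singleton_subset_iff.mpr hxX) hX hxz
  have hzY : z ∈ Y := closure_minimal (Set.singleton_subset_iff.mpr hyY) hY hyz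
  refine ⟨⟨z, hzX, hzY⟩, ?_⟩
  have hz1 := topologicalKrullDim_closure_singleton_add_one k n z
  rw [hz, ht] at hz1
  obtain ⟨m, rfl⟩ : ∃ m, t = m + 1 := ⟨t - 1, by omega⟩
  have hzdim := eq_natCast_of_add_one_eq hz1
  have hsub : closure ({z} : Set (ProjectiveSpectrum 𝒜)) ⊆ X ∩ Y :=
    closure_minimal (Set.singleton_subset_iff.mpr ⟨hzX, hzY⟩) (hX.inter hY)
  have hmono := topologicalKrullDim_mono_set hsub
  rw [hzdim] at hmono
  refine le_trans ?_ (add_le_add_left hmono _)
  have : r + s ≤ m + n := by omega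
  exact_mod_cast this

/-- Let k be a field, n ≥ 0 and X, Y ⊆ P^n_k nonempty closed subsets of dimensions r and s with r + s ≥
n. Then X ∩ Y is nonempty and dim(X ∩ Y) ≥ r + s − n. -/
theorem result (k : Type u) [Field k] (n r s : ℕ)
    (X Y : Set ↥(CohB1.ProjSpace n k)) (hX : IsClosed X) (hY : IsClosed Y)
    (hXne : X.Nonempty) (hYne : Y.Nonempty)
    (hXr : topologicalKrullDim X = r) (hYs : topologicalKrullDim Y = s) (hrs : n ≤ r + s) :
    (X ∩ Y).Nonempty ∧ ((r + s : ℕ) : WithBot ℕ∞) ≤ topologicalKrullDim ↥(X ∩ Y) + (n : WithBot ℕ∞) := by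
  exact aux k n r s X Y hX hY hXr hYs hrs

end Groth.Agent.S7675
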