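import Groth.Statements.S7678
import Groth.Agent.Lib.Helper38.FrobReduced
import Groth.Agent.Lib.Helper50.GeomReducedScheme

set_option autoImplicit false
universe u
open CategoryTheory CategoryTheory.Limits AlgebraicGeometry
open Variety

namespace Groth.Agent.S7678

open TensorProduct

/-- The field `k` regarded as a `k`-algebra through the Frobenius endomorphism. -/
def FrobField (k : Type u) (_p : ℕ) : Type u := k

instance (k : Type u) [Field k] (p : ℕ) : Field (FrobField k p) := inferInstanceAs (Field k)

noncomputable instance (k : Type u) [Field k] (p : ℕ) [Fact p.Prime] [CharP k p] :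
    Algebra k (FrobField k p) :=
  RingHom.toAlgebra (frobenius k p : k →+* FrobField k p)

theorem algebraMap_frobField (k : Type u) [Field k] (p : ℕ) [Fact p.Prime] [CharP k p] (c : k) :
    algebraMap k (FrobField k p) c = (show FrobField k p from c) ^ p := rfl

instance (k : Type u) [Field k] (p : ℕ) [Fact p.Prime] [CharP k p] :
    Algebra.IsIntegral k (FrobField k p) := by
  refine ⟨fun b => ?_⟩
  apply IsIntegral.of_pow (n := p) (Fact.out : p.Prime).pos
  have : b ^ p = algebraMap k (FrobField k p) b := rfl
  rw [this]
  exact isIntegral_algebraMap

/-- For a field k of positive characteristic p and a k-scheme X, the base change of X along the p-th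
power map of k is a reduced scheme exactly when X is geometrically reduced over k. -/
theorem result (k : Type u) [Field k] (X : Scheme.{u}) [X.Over (Spec (CommRingCat.of k))]
    (p : ℕ) [Fact p.Prime] [CharP k p] :
    GeometricallyReduced (X ↘ (Spec (CommRingCat.of k))) ↔
      IsReduced ↑(pullback (X ↘ (Spec (CommRingCat.of k))) (Spec.map (CommRingCat.ofHom (frobenius k p)))) := by
  constructor
  · intro hf
    exact pullback_of_geometrically hf.1 k _
  · intro hred
    apply Groth.Agent.Lib.Helper50.geometricallyReduced_of_forall_stalk
    intro x
    obtain ⟨φ, hφ⟩ := Groth.Agent.Lib.Helper50.exists_ringHom_stalk (X ↘ (Spec (CommRingCat.of k))) x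
    refine ⟨φ, hφ, ?_⟩
    letI := φ.toAlgebra
    have hred' : IsReduced (pullback (X ↘ (Spec (CommRingCat.of k)))
        (Spec.map (CommRingCat.ofHom (algebraMap k (FrobField k p))))) := hred
    haveI : IsReduced (FrobField k p ⊗[k] X.presheaf.stalk x) := by
      suffices hred'' : IsReduced (X.presheaf.stalk x ⊗[k] FrobField k p) from
        isReduced_of_injective (Algebra.TensorProduct.comm k (FrobField k p) (X.presheaf.stalk x))
          (Algebra.TensorProduct.comm k (FrobField k p) (X.presheaf.stalk x)).injective
      apply isReduced_ofLocalizationMaximal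
      intro m hm
      have hq : m.comap (Algebra.TensorProduct.includeLeftRingHom :
          X.presheaf.stalk x →+* X.presheaf.stalk x ⊗[k] FrobField k p) =
          IsLocalRing.maximalIdeal (X.presheaf.stalk x) := by
        have : Algebra.IsIntegral (X.presheaf.stalk x) (X.presheaf.stalk x ⊗[k] FrobField k p) :=
          inferInstance
        have hmax : (m.comap (algebraMap (X.presheaf.stalk x)
            (X.presheaf.stalk x ⊗[k] FrobField k p))).IsMaximal :=
          Ideal.isMaximal_comap_of_isIntegral_of_isMaximal m
        exact IsLocalRing.eq_maximalIdeal hmax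
      obtain ⟨x', hx', ⟨e⟩⟩ := (Groth.Agent.Lib.Helper50.exists_stalk_bc (K := FrobField k p)
        (X ↘ (Spec (CommRingCat.of k))) x φ hφ).2 ⟨m, hm.isPrime⟩ hq
      exact isReduced_of_injective e.symm e.symm.injective
    exact Groth.Agent.Lib.Helper38.FrobReduced.isGeometricallyReduced p (K' := FrobField k p)
      (fun c => ⟨c, rfl⟩)

end Groth.Agent.S7678
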