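import Groth.Statements.S7685
import Groth.Agent.Lib.Helper45.Dev.SnapperB
import Groth.Agent.Lib.Helper45.Dev.SnapperNum
import Groth.Agent.Lib.Helper49.QuotModStalk

set_option autoImplicit false
universe u
open CategoryTheory CategoryTheory.Limits AlgebraicGeometry
open Variety

namespace Groth.Agent.S7685

/-- Let X be proper over a field k, Z ⊆ X a closed subscheme of dimension d and L_1, …, L_d invertible
modules. Then the intersection number (L_1 ⋯ L_d · Z), the coefficient of n_1⋯n_d in the polynomial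
computing χ(X, O_Z ⊗ L_1^{⊗n_1} ⊗ ⋯ ⊗ L_d^{⊗n_d}) for all exponents in ℕ^d, is an integer. -/
theorem result (k : Type u) [Field k] (X : Scheme.{u}) [X.Over (Spec (CommRingCat.of k))] [IsProper (X ↘ (Spec (CommRingCat.of k)))]
    (D : X.IdealSheafData) (d : ℕ) (hD : topologicalKrullDim (D.support : Set X) = d)
    (L : Fin d → X.Modules) (hL : ∀ i, PicF.IsInvertible (L i)) (P : MvPolynomial (Fin d) ℚ)
    (hP : ∀ n : Fin d → ℕ, (Curv2.euler k X (Curv2.tensorPows (ClSub.quotMod D) d L n) : ℚ) = MvPolynomial.eval (fun i => (n i : ℚ)) P) :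
    ∃ z : ℤ, MvPolynomial.coeff (Finsupp.equivFunOnFinite.symm fun _ : Fin d => 1) P = (z : ℚ) := by
  classical
  have hcoh : Coh.IsCoh (ClSub.quotMod D) := Groth.Agent.Lib.Helper49.QuotModStalk.isCoh_quotMod D
  have hdim : topologicalKrullDim (CohB1.support (ClSub.quotMod D)) ≤ d := by
    rw [Groth.Agent.Lib.Helper49.QuotModStalk.support_quotMod, hD]
  obtain ⟨P₀, hP₀, hP₀e⟩ :=
    Groth.Agent.Lib.Helper45.Snapper.snapper k X d (ClSub.quotMod D) hcoh hdim d L hL
  have hPP : P = P₀ := Groth.Agent.Lib.Helper45.SnapperNum.eq_of_eval_nat P P₀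
    (fun n => by rw [← hP n, ← hP₀e n])
  subst hPP
  rw [Groth.Agent.Lib.Helper45.SnapperNum.coeff_one_eq_sum P hP₀]
  refine ⟨∑ I : Finset (Fin d), (-1 : ℤ) ^ (d - I.card) *
    Curv2.euler k X (Curv2.tensorPows (ClSub.quotMod D) d L
      (Groth.Agent.Lib.Helper45.SnapperNum.ind I)), ?_⟩
  push_cast
  refine Finset.sum_congr rfl fun I _ => ?_
  rw [hP]

end Groth.Agent.S7685
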