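import Groth.Statements.S7686
import Groth.Agent.Lib.Helper45.Dev.SnapperD

set_option autoImplicit false
universe u
open CategoryTheory CategoryTheory.Limits AlgebraicGeometry
open Variety

namespace Groth.Agent.S7686

/-- Let X be proper over a field k, Z ⊆ X a closed subscheme of dimension d with irreducible components
Z_i of dimension d (reduced induced structure, generic points ξ_i, multiplicities m_i = length of
O_{Z,ξ_i} over O_{X,ξ_i}) and L_1, …, L_d invertible modules. Then (L_1 ⋯ L_d · Z) = Σ m_i (L_1 ⋯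
L_d · Z_i). Intersection numbers are the n_1⋯n_d-coefficients of the polynomials computing the Euler
characteristics; the sum is written over all points ξ whose closure has dimension d (other terms
vanish). -/
theorem result (k : Type u) [Field k] (X : Scheme.{u}) [X.Over (Spec (CommRingCat.of k))] [IsProper (X ↘ (Spec (CommRingCat.of k)))]
    (D : X.IdealSheafData) (d : ℕ) (hD : topologicalKrullDim (D.support : Set X) = d)
    (L : Fin d → X.Modules) (hL : ∀ i, PicF.IsInvertible (L i)) (P : MvPolynomial (Fin d) ℚ)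
    (hP : ∀ n : Fin d → ℕ, (Curv2.euler k X (Curv2.tensorPows (ClSub.quotMod D) d L n) : ℚ) = MvPolynomial.eval (fun i => (n i : ℚ)) P)
    (Q : X → MvPolynomial (Fin d) ℚ)
    (hQ : ∀ ξ : X, topologicalKrullDim (closure ({ξ} : Set X)) = (d : WithBot ℕ∞) →
      ∀ n : Fin d → ℕ, (Curv2.euler k X (Curv2.tensorPows (ClSub.quotMod (Scheme.IdealSheafData.vanishingIdeal (⟨closure ({ξ} : Set X), isClosed_closure⟩ : TopologicalSpace.Closeds X))) d L n) : ℚ) = MvPolynomial.eval (fun i => (n i : ℚ)) (Q ξ)) :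
    MvPolynomial.coeff (Finsupp.equivFunOnFinite.symm fun _ : Fin d => 1) P =
      ∑ᶠ ξ : X, (if topologicalKrullDim (closure ({ξ} : Set X)) = (d : WithBot ℕ∞) then
        ((Module.length (X.presheaf.stalk ξ) ((ClSub.quotMod D).presheaf.stalk ξ)).toNat : ℚ) *
          MvPolynomial.coeff (Finsupp.equivFunOnFinite.symm fun _ : Fin d => 1) (Q ξ) else 0) := by
  classical
  have hcoh : Coh.IsCoh (ClSub.quotMod D) := Groth.Agent.Lib.Helper49.QuotModStalk.isCoh_quotMod D
  have hdim : topologicalKrullDim (CohB1.support (ClSub.quotMod D)) ≤ d := by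
    rw [Groth.Agent.Lib.Helper49.QuotModStalk.support_quotMod, hD]
  obtain ⟨hfin, hcorr⟩ :=
    Groth.Agent.Lib.Helper45.Snapper.snapper_refined k X d (ClSub.quotMod D) hcoh hdim
  obtain ⟨Q₀, hQ₀, hQ₀e⟩ := hcorr d L hL
  let c : X → MvPolynomial (Fin d) ℚ := fun ξ =>
    if topologicalKrullDim (closure ({ξ} : Set X)) = (d : WithBot ℕ∞) then
      MvPolynomial.C ((Module.length (X.presheaf.stalk ξ)
        ((ClSub.quotMod D).presheaf.stalk ξ)).toNat : ℚ) * Q ξ
    else 0
  have hcsupp : Function.support c ⊆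
      Groth.Agent.Lib.Helper45.Snapper.maxPts X d (ClSub.quotMod D) := by
    intro ξ hξ
    rw [Function.mem_support] at hξ
    simp only [c] at hξ
    split_ifs at hξ with h
    · refine ⟨h, fun hsub => hξ ?_⟩
      have := hsub
      rw [Module.length_eq_zero]
      simp
    · exact absurd rfl hξ
  have hcfin : (Function.support c).Finite := hfin.subset hcsupp
  have hPR : P - ∑ᶠ ξ : X, c ξ = Q₀ := by
    refine Groth.Agent.Lib.Helper45.SnapperNum.eq_of_eval_nat _ _ (fun n => ?_)
    rw [map_sub, ← hP n, ← hQ₀e n, map_finsum _ hcfin]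
    congr 1
    refine finsum_congr fun ξ => ?_
    simp only [c]
    unfold Groth.Agent.Lib.Helper45.Snapper.corrTerm
    split_ifs with h
    · rw [map_mul, MvPolynomial.eval_C, ← hQ ξ h n]
    · exact map_zero _
  have hm : d ≤ ((Finsupp.equivFunOnFinite.symm fun _ : Fin d => 1).sum fun _ e => e) := by
    rw [Finsupp.sum_fintype _ _ (fun _ => rfl)]
    simp
  have h0 := hQ₀.coeff_eq_zero _ hm
  rw [← hPR, MvPolynomial.coeff_sub, sub_eq_zero] at h0
  rw [h0]
  have h1 : MvPolynomial.coeff (Finsupp.equivFunOnFinite.symm fun _ : Fin d => 1) (∑ᶠ ξ : X, c ξ) =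
      ∑ᶠ ξ : X, MvPolynomial.coeff (Finsupp.equivFunOnFinite.symm fun _ : Fin d => 1) (c ξ) :=
    map_finsum (MvPolynomial.lcoeff ℚ (Finsupp.equivFunOnFinite.symm fun _ : Fin d => 1)) hcfin
  rw [h1]
  refine finsum_congr fun ξ => ?_
  simp only [c]
  split_ifs with h
  · rw [MvPolynomial.coeff_C_mul]
  · exact MvPolynomial.coeff_zero _

end Groth.Agent.S7686
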