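import Groth.Statements.S7687
import Groth.Agent.Lib.Helper38.GlueTwo

set_option autoImplicit false
universe u
open CategoryTheory CategoryTheory.Limits AlgebraicGeometry
open Variety

namespace Groth.Agent.S7687

/-- Let K be a field and A, B ⊆ K Noetherian semi-local domains of dimension one with fraction field K
such that A ⊗ B → K is surjective, and R = A ∩ B. Then Spec A and Spec B each map to Spec R by an
open immersion, Spec R is the union of the two images, and the natural map A ⊗_R B → K is an
isomorphism. -/
theorem result (K : Type u) [Field K]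
    (A : Subring K) [IsFractionRing A K] (B : Subring K) [IsFractionRing B K] [IsNoetherianRing A] [IsNoetherianRing B]
    (hdimA : ringKrullDim A = 1) (hdimB : ringKrullDim B = 1)
    (hslA : Finite (MaximalSpectrum A)) (hslB : Finite (MaximalSpectrum B)) (hgen : A ⊔ B = ⊤) :
    IsOpenImmersion (Spec.map (CommRingCat.ofHom (Subring.inclusion (inf_le_left : A ⊓ B ≤ A)))) ∧
      IsOpenImmersion (Spec.map (CommRingCat.ofHom (Subring.inclusion (inf_le_right : A ⊓ B ≤ B)))) ∧
      Set.range (Spec.map (CommRingCat.ofHom (Subring.inclusion (inf_le_left : A ⊓ B ≤ A)))).base ∪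
        Set.range (Spec.map (CommRingCat.ofHom (Subring.inclusion (inf_le_right : A ⊓ B ≤ B)))).base = Set.univ ∧
      IsPushout (CommRingCat.ofHom (Subring.inclusion (inf_le_left : A ⊓ B ≤ A)))
        (CommRingCat.ofHom (Subring.inclusion (inf_le_right : A ⊓ B ≤ B)))
        (CommRingCat.ofHom A.subtype) (CommRingCat.ofHom B.subtype) := by
  have hKA : Ring.KrullDimLE 1 A := by
    rw [Ring.krullDimLE_iff]; exact hdimA.le
  have hKB : Ring.KrullDimLE 1 B := by
    rw [Ring.krullDimLE_iff]; exact hdimB.le
  have hnfA : ¬ IsField A := by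
    intro hf
    have := ringKrullDim_eq_zero_of_isField hf
    rw [hdimA] at this
    exact one_ne_zero this
  have hnfB : ¬ IsField B := by
    intro hf
    have := ringKrullDim_eq_zero_of_isField hf
    rw [hdimB] at this
    exact one_ne_zero this
  have topField : ∀ C : Subring K, C = ⊤ → IsField C := by
    intro C hC
    refine { exists_pair_ne := ⟨0, 1, zero_ne_one⟩, mul_comm := mul_comm, mul_inv_cancel := ?_ }
    intro a ha
    have hmem : (a : K)⁻¹ ∈ C := by
      have : (a : K)⁻¹ ∈ (⊤ : Subring K) := trivial
      exact hC ▸ this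
    refine ⟨⟨(a : K)⁻¹, hmem⟩, ?_⟩
    apply Subtype.ext
    show (a : K) * (a : K)⁻¹ = 1
    exact mul_inv_cancel₀ (fun h0 => ha (Subtype.ext h0))
  have hA : Groth.Agent.Lib.Helper38.Glue.IsSL1 A :=
    ⟨inferInstance, inferInstance, hKA, fun h => hnfA (topField A h), hslA⟩
  have hB : Groth.Agent.Lib.Helper38.Glue.IsSL1 B :=
    ⟨inferInstance, inferInstance, hKB, fun h => hnfB (topField B h), hslB⟩
  exact (Groth.Agent.Lib.Helper38.Glue.hasGlue_of_sup_eq_top hA hB hgen).main A B

end Groth.Agent.S7687
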