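import Groth.Statements.S8260
import Mathlib.AlgebraicGeometry.ProjectiveSpectrum.Proper
-- import your own Groth.Agent.* helpers here

set_option autoImplicit false
universe u
open CategoryTheory CategoryTheory.Limits AlgebraicGeometry Opposite TopologicalSpace
open scoped HomogeneousIdeal
open EGA2

namespace Groth.Agent.S8260

/-- the structure map into degree zero is of finite type if the structure map is -/
theorem strZero_finiteType {Y : Scheme.{u}} (𝒮 : RelProj.QCGrAlg Y) (U : Y.Opens) (hU : IsAffineOpen U)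
    (hft : (𝒮.str.app (op U)).hom.FiniteType) : (𝒮.strZero U hU).hom.FiniteType := by
  have : (𝒮.strZero U hU).hom = (GradedRing.projZeroRingHom' (𝒮.deg U hU)).comp (𝒮.str.app (op U)).hom := by
    ext r
    simp only [RingHom.comp_apply, GradedRing.coe_projZeroRingHom'_apply,
      GradedRing.projZeroRingHom_apply]
    rw [DirectSum.decompose_of_mem_same _ (𝒮.str_mem U hU r)]
    rfl
  rw [this]
  exact (RingHom.FiniteType.of_surjective _ (GradedRing.projZeroRingHom'_surjective _)).comp hft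

theorem finiteType_over_zero {Y : Scheme.{u}} (𝒮 : RelProj.QCGrAlg Y) (U : Y.Opens) (hU : IsAffineOpen U)
    (hft : (𝒮.str.app (op U)).hom.FiniteType) :
    Algebra.FiniteType (𝒮.deg U hU 0) (𝒮.presheaf.obj (op U)) := by
  letI : Algebra Γ(Y, U) (𝒮.presheaf.obj (op U)) := (𝒮.str.app (op U)).hom.toAlgebra
  letI : Algebra Γ(Y, U) (𝒮.deg U hU 0) := (𝒮.strZero U hU).hom.toAlgebra
  haveI : IsScalarTower Γ(Y, U) (𝒮.deg U hU 0) (𝒮.presheaf.obj (op U)) :=
    IsScalarTower.of_algebraMap_eq fun r => rfl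
  haveI : Algebra.FiniteType Γ(Y, U) (𝒮.presheaf.obj (op U)) := hft
  exact Algebra.FiniteType.of_restrictScalars_finiteType Γ(Y, U) _ _

/-- If the quasi-coherent positively graded O_Y-algebra 𝒮 is of finite type (over every affine open U of
Y the ring 𝒮(U) is a finitely generated O_Y(U)-algebra), then its relative homogeneous spectrum
Proj(𝒮) is of finite type over Y. -/
theorem result {Y P : Scheme.{u}} (𝒮 : RelProj.QCGrAlg Y)
    (hft : ∀ (U : Y.Opens) (hU : IsAffineOpen U), (𝒮.str.app (op U)).hom.FiniteType)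
    (p : P ⟶ Y)
    (chart : ∀ (U : Y.Opens) (hU : IsAffineOpen U), (((p ⁻¹ᵁ U : P.Opens) : Scheme.{u}) ≅ Proj (𝒮.deg U hU)))
    (hP : RelProj.IsRelProj 𝒮 p chart) : LocallyOfFiniteType p ∧ QuasiCompact p := by
  have key : ∀ U : Y.affineOpens, p ∣_ U.1 = (chart U.1 U.2).hom ≫ Proj.toSpecZero (𝒮.deg U.1 U.2) ≫
      Spec.map (𝒮.strZero U.1 U.2) ≫ U.2.isoSpec.inv := by
    intro U
    rw [← cancel_mono U.1.ι]
    simp only [Category.assoc, IsAffineOpen.isoSpec_inv_ι]
    rw [hP.chart_over U.1 U.2]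
    simp
  constructor
  · rw [IsZariskiLocalAtTarget.iff_of_iSup_eq_top (P := @LocallyOfFiniteType) _ (iSup_affineOpens_eq_top Y)]
    intro U
    rw [key U]
    haveI := finiteType_over_zero 𝒮 U.1 U.2 (hft U.1 U.2)
    haveI : LocallyOfFiniteType (Spec.map (𝒮.strZero U.1 U.2)) := by
      rw [HasRingHomProperty.Spec_iff (P := @LocallyOfFiniteType)]
      exact strZero_finiteType 𝒮 U.1 U.2 (hft U.1 U.2)
    infer_instance
  · rw [IsZariskiLocalAtTarget.iff_of_iSup_eq_top (P := @QuasiCompact) _ (iSup_affineOpens_eq_top Y)]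
    intro U
    rw [key U]
    haveI := finiteType_over_zero 𝒮 U.1 U.2 (hft U.1 U.2)
    infer_instance

end Groth.Agent.S8260
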