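import Groth.Statements.S8264
import Groth.Agent.Lib.Helper42.ProjIntegral

set_option autoImplicit false
universe u
open CategoryTheory CategoryTheory.Limits AlgebraicGeometry Opposite TopologicalSpace
open scoped HomogeneousIdeal
open EGA2

namespace Groth.Agent.S8264

/-- Let Y be an integral scheme and 𝒮 a quasi-coherent positively graded O_Y-algebra with 𝒮_0 = O_Y
which is integral, stated here affine-locally: over every nonempty affine open U the ring 𝒮(U) is an
integral domain whose irrelevant ideal is nonzero (for Y integral this is equivalent to the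
stalkwise condition of the published text: every stalk 𝒮_y an integral domain with (𝒮_y)_+ ≠ 0).
Then Proj(𝒮) is integral and its structure morphism to Y is dominant. -/
theorem result {Y P : Scheme.{u}} [IsIntegral Y] (𝒮 : RelProj.QCGrAlg Y)
    (h0 : ∀ (U : Y.Opens) (hU : IsAffineOpen U), Function.Bijective (𝒮.strZero U hU).hom)
    (hint : ∀ (U : Y.Opens) (hU : IsAffineOpen U), (U : Set Y).Nonempty →
      IsDomain (𝒮.presheaf.obj (op U)) ∧ ((𝒮.deg U hU)₊).toIdeal ≠ ⊥)
    (p : P ⟶ Y)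
    (chart : ∀ (U : Y.Opens) (hU : IsAffineOpen U), (((p ⁻¹ᵁ U : P.Opens) : Scheme.{u}) ≅ Proj (𝒮.deg U hU)))
    (hP : RelProj.IsRelProj 𝒮 p chart) : IsIntegral P ∧ DenseRange p.base := by
  -- the charts over nonempty affine opens are integral
  have hchart : ∀ (U : Y.Opens) (hU : IsAffineOpen U), (U : Set Y).Nonempty →
      IsIntegral (Proj (𝒮.deg U hU)) := by
    intro U hU hne
    obtain ⟨hdom, hirr⟩ := hint U hU hne
    exact Groth.Agent.Lib.Helper42.proj_isIntegral (𝒮.deg U hU) hirr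
  -- hence the preimages of nonempty affine opens are nonempty and irreducible
  have hpre : ∀ (U : Y.Opens) (hU : IsAffineOpen U), (U : Set Y).Nonempty →
      IsIrreducible ((p ⁻¹ᵁ U : P.Opens) : Set P) := by
    intro U hU hne
    have := hchart U hU hne
    have hr : ((p ⁻¹ᵁ U : P.Opens) : Set P) = Set.range ((chart U hU).inv ≫ (p ⁻¹ᵁ U).ι).base := by
      have : ((chart U hU).inv ≫ (p ⁻¹ᵁ U).ι).opensRange = p ⁻¹ᵁ U := by
        rw [Scheme.Hom.opensRange_comp_of_isIso, Scheme.Opens.opensRange_ι]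
      exact (congrArg (fun V : P.Opens => (V : Set P)) this).symm
    rw [hr, ← Set.image_univ]
    exact (IrreducibleSpace.isIrreducible_univ _).image _
      ((chart U hU).inv ≫ (p ⁻¹ᵁ U).ι).continuous.continuousOn
  -- every nonempty open of `Y` contains a nonempty affine open
  have haff : ∀ W : Y.Opens, (W : Set Y).Nonempty →
      ∃ (U : Y.Opens), IsAffineOpen U ∧ (U : Set Y).Nonempty ∧ U ≤ W := by
    intro W ⟨y, hy⟩
    obtain ⟨U, hU, hyU, hUW⟩ := (Opens.isBasis_iff_nbhd.mp Y.isBasis_affineOpens) hy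
    exact ⟨U, hU, ⟨y, hyU⟩, hUW⟩
  have hYne : Nonempty Y := inferInstance
  obtain ⟨U₀, hU₀, hU₀ne, -⟩ := haff ⊤ ⟨hYne.some, trivial⟩
  have hPne : Nonempty P := (hpre U₀ hU₀ hU₀ne).nonempty.to_subtype.map Subtype.val
  let ι := {U : Y.affineOpens // ((U.1 : Y.Opens) : Set Y).Nonempty}
  have hcov : ∀ x : P, ∃ i : ι, x ∈ ((p ⁻¹ᵁ i.1.1 : P.Opens) : Set P) := by
    intro x
    obtain ⟨U, hU, hyU, -⟩ :=
      (Opens.isBasis_iff_nbhd.mp Y.isBasis_affineOpens) (show p.base x ∈ (⊤ : Y.Opens) from trivial)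
    exact ⟨⟨⟨U, hU⟩, ⟨_, hyU⟩⟩, hyU⟩
  have hirrP : IrreducibleSpace P := by
    refine Groth.Agent.Lib.Helper42.irreducibleSpace_of_cover
      (fun i : ι => ((p ⁻¹ᵁ i.1.1 : P.Opens) : Set P))
      (fun i => (hpre i.1.1 i.1.2 i.2).isPreirreducible) (fun i => (p ⁻¹ᵁ i.1.1).isOpen) hcov ?_
    intro i j
    have hne : (((i.1.1 ⊓ j.1.1 : Y.Opens)) : Set Y).Nonempty :=
      nonempty_preirreducible_inter i.1.1.isOpen j.1.1.isOpen i.2 j.2
    obtain ⟨W, hW, hWne, hWle⟩ := haff _ hne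
    obtain ⟨x, hx⟩ := (hpre W hW hWne).nonempty
    exact ⟨x, (hWle hx).1, (hWle hx).2⟩
  have hredP : IsReduced P := by
    let 𝒰 : P.OpenCover := P.openCoverOfIsOpenCover (fun i : ι => p ⁻¹ᵁ i.1.1) (by
      rw [TopologicalSpace.IsOpenCover, eq_top_iff]
      intro x _
      obtain ⟨i, hi⟩ := hcov x
      exact Opens.mem_iSup.mpr ⟨i, hi⟩)
    have : ∀ i, IsReduced (𝒰.X i) := by
      intro i
      have := hchart i.1.1 i.1.2 i.2
      change IsReduced ((p ⁻¹ᵁ i.1.1 : P.Opens) : Scheme.{u})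
      exact isReduced_of_isOpenImmersion (chart i.1.1 i.1.2).hom
    exact IsReduced.of_openCover P 𝒰
  refine ⟨isIntegral_of_irreducibleSpace_of_isReduced P, ?_⟩
  rw [DenseRange, dense_iff_inter_open]
  intro W hW hWne
  obtain ⟨U, hU, hUne, hUW⟩ := haff ⟨W, hW⟩ hWne
  obtain ⟨x, hx⟩ := (hpre U hU hUne).nonempty
  exact ⟨p.base x, hUW hx, x, rfl⟩

end Groth.Agent.S8264
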