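import Groth.Statements.S8265
import Groth.Agent.Lib.Helper42.ProjIntegralConverse

set_option autoImplicit false
universe u
open CategoryTheory CategoryTheory.Limits AlgebraicGeometry Opposite TopologicalSpace
open scoped HomogeneousIdeal
open EGA2

namespace Groth.Agent.S8265

/-- Let Y be an integral scheme and 𝒮 a quasi-coherent positively graded O_Y-algebra with 𝒮_0 = O_Y
which is essentially reduced (affine-locally, every nilpotent element of the irrelevant ideal of
𝒮(U) vanishes). If Proj(𝒮) is integral and dominant over Y, then 𝒮 is integral: over every nonempty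
affine open U, 𝒮(U) is an integral domain with nonzero irrelevant ideal (for Y integral, the
affine-local form of the stalkwise condition of the text). -/
theorem result {Y P : Scheme.{u}} [IsIntegral Y] (𝒮 : RelProj.QCGrAlg Y)
    (h0 : ∀ (U : Y.Opens) (hU : IsAffineOpen U), Function.Bijective (𝒮.strZero U hU).hom)
    (hred : ∀ (U : Y.Opens) (hU : IsAffineOpen U) (x : 𝒮.presheaf.obj (op U)),
      x ∈ (𝒮.deg U hU)₊ → IsNilpotent x → x = 0)
    (p : P ⟶ Y)
    (chart : ∀ (U : Y.Opens) (hU : IsAffineOpen U), (((p ⁻¹ᵁ U : P.Opens) : Scheme.{u}) ≅ Proj (𝒮.deg U hU)))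
    (hP : RelProj.IsRelProj 𝒮 p chart) [IsIntegral P] (hdom : DenseRange p.base)
    (U : Y.Opens) (hU : IsAffineOpen U) (hne : (U : Set Y).Nonempty) :
    IsDomain (𝒮.presheaf.obj (op U)) ∧ ((𝒮.deg U hU)₊).toIdeal ≠ ⊥ := by
  -- the structure map `T : Spec 𝒮(U)₀ ⟶ Y`, an open immersion
  haveI : IsIso (𝒮.strZero U hU) := (ConcreteCategory.isIso_iff_bijective _).mpr (h0 U hU)
  let T : Spec (CommRingCat.of (𝒮.deg U hU 0)) ⟶ Y := Spec.map (𝒮.strZero U hU) ≫ hU.fromSpec
  have hT : IsOpenImmersion T := inferInstance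
  have hover : (chart U hU).hom ≫ Proj.toSpecZero (𝒮.deg U hU) ≫ T = (p ⁻¹ᵁ U).ι ≫ p :=
    hP.chart_over U hU
  have hTU : ∀ w, T.base w ∈ U := by
    intro w
    have : T.base w ∈ hU.fromSpec.opensRange := by
      change (Spec.map (𝒮.strZero U hU) ≫ hU.fromSpec).base w ∈ _
      rw [Scheme.Hom.comp_base, TopCat.coe_comp]
      exact ⟨_, rfl⟩
    rwa [hU.opensRange_fromSpec] at this
  -- points of `P` over `U` give points of the chart
  have hpt : ∀ x : P, ∀ hx : p.base x ∈ U, ∃ x' : Proj (𝒮.deg U hU),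
      T.base ((Proj.toSpecZero (𝒮.deg U hU)).base x') = p.base x := by
    intro x hx
    refine ⟨(chart U hU).hom.base ⟨x, hx⟩, ?_⟩
    have := congrArg (fun f => f.base ⟨x, hx⟩) hover
    simpa using this
  -- density of the structure morphism of the chart
  have hdense : DenseRange (Proj.toSpecZero (𝒮.deg U hU)).base := by
    rw [DenseRange, dense_iff_inter_open]
    intro W hW ⟨w, hw⟩
    have hopen : IsOpen (T.base '' W) := T.isOpenEmbedding.isOpenMap W hW
    obtain ⟨y, ⟨w', hw', hy⟩, ⟨x, rfl⟩⟩ := hdom.inter_open_nonempty _ hopen ⟨_, w, hw, rfl⟩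
    obtain ⟨x', hx'⟩ := hpt x (hy ▸ hTU w')
    refine ⟨_, ?_, x', rfl⟩
    have : (Proj.toSpecZero (𝒮.deg U hU)).base x' = w' :=
      T.isOpenEmbedding.injective (hx'.trans hy.symm)
    rwa [this]
  obtain ⟨y, hyU, ⟨x, rfl⟩⟩ := hdom.inter_open_nonempty _ U.isOpen hne
  obtain ⟨x', -⟩ := hpt x hyU
  haveI : Nonempty (Proj (𝒮.deg U hU)) := ⟨x'⟩
  haveI : IsIntegral (Proj (𝒮.deg U hU)) := isIntegral_of_isOpenImmersion ((chart U hU).inv ≫ (p ⁻¹ᵁ U).ι)
  haveI : Nonempty U := hne.to_subtype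
  haveI : IsDomain (𝒮.deg U hU 0) :=
    MulEquiv.isDomain Γ(Y, U) (RingEquiv.ofBijective _ (h0 U hU)).symm.toMulEquiv
  exact ⟨Groth.Agent.Lib.Helper42.isDomain_of_proj_isIntegral (𝒮.deg U hU) (hred U hU) hdense,
    Groth.Agent.Lib.Helper42.irrelevant_ne_bot_of_nonempty (𝒮.deg U hU)⟩

end Groth.Agent.S8265
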