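import Groth.Statements.S8266
-- import your own Groth.Agent.* helpers here

set_option autoImplicit false
universe u
open CategoryTheory CategoryTheory.Limits AlgebraicGeometry Opposite TopologicalSpace
open scoped HomogeneousIdeal
open EGA2

namespace Groth.Agent.S8266

open HomogeneousLocalization in
/-- If a graded ring has no nonzero nilpotent in its irrelevant ideal, its homogeneous localizations at homogeneous
elements of positive degree are reduced. -/
theorem away_isReduced {A : Type u} [CommRing A] (𝒜 : ℕ → AddSubgroup A) [GradedRing 𝒜]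
    (hred : ∀ x : A, x ∈ 𝒜₊ → IsNilpotent x → x = 0) {d : ℕ} (hd : 0 < d) (f : A) (hf : f ∈ 𝒜 d) :
    IsReduced (Away 𝒜 f) := by
  constructor
  intro x hx
  obtain ⟨n, a, ha, rfl⟩ := Away.mk_surjective 𝒜 hf x
  obtain ⟨k, hk⟩ := hx
  apply HomogeneousLocalization.val_injective
  rw [Away.val_mk, val_zero]
  have hk' := congrArg HomogeneousLocalization.val hk
  rw [val_pow, Away.val_mk, val_zero, Localization.mk_pow, Localization.mk_eq_mk', IsLocalization.mk'_eq_zero_iff] at hk'
  obtain ⟨⟨_, m, rfl⟩, hm⟩ := hk'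
  simp only at hm
  have hfa : f * a = 0 := by
    apply hred
    · refine HomogeneousIdeal.mem_irrelevant_of_mem _ (i := d + n • d) (by omega) ?_
      exact SetLike.mul_mem_graded hf ha
    · refine ⟨m + k, ?_⟩
      rw [mul_pow, pow_add, pow_add]
      calc f ^ m * f ^ k * (a ^ m * a ^ k) = (f ^ m * a ^ k) * (f ^ k * a ^ m) := by ring
        _ = 0 := by rw [hm, zero_mul]
  rw [Localization.mk_eq_mk', IsLocalization.mk'_eq_zero_iff]
  exact ⟨⟨f, 1, pow_one f⟩, hfa⟩

theorem proj_isReduced {A : Type u} [CommRing A] (𝒜 : ℕ → AddSubgroup A) [GradedRing 𝒜]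
    (hred : ∀ x : A, x ∈ 𝒜₊ → IsNilpotent x → x = 0) : IsReduced (Proj 𝒜) := by
  haveI : ∀ i, IsReduced ((Proj.affineOpenCover 𝒜).openCover.X i) := by
    intro i
    haveI : _root_.IsReduced (HomogeneousLocalization.Away 𝒜 (i.2 : A)) :=
      away_isReduced 𝒜 hred i.1.2 i.2.1 i.2.2
    change IsReduced (Spec (CommRingCat.of (HomogeneousLocalization.Away 𝒜 (i.2 : A))))
    infer_instance
  exact IsReduced.of_openCover _ (Proj.affineOpenCover 𝒜).openCover

/-- If the quasi-coherent positively graded O_Y-algebra 𝒮 is essentially reduced (affine-locally, no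
nonzero nilpotent element in the irrelevant ideal), then Proj(𝒮) is reduced. -/
theorem result {Y P : Scheme.{u}} (𝒮 : RelProj.QCGrAlg Y)
    (hred : ∀ (U : Y.Opens) (hU : IsAffineOpen U) (x : 𝒮.presheaf.obj (op U)),
      x ∈ (𝒮.deg U hU)₊ → IsNilpotent x → x = 0)
    (p : P ⟶ Y)
    (chart : ∀ (U : Y.Opens) (hU : IsAffineOpen U), (((p ⁻¹ᵁ U : P.Opens) : Scheme.{u}) ≅ Proj (𝒮.deg U hU)))
    (hP : RelProj.IsRelProj 𝒮 p chart) : IsReduced P := by
  let 𝒰 : P.OpenCover := P.openCoverOfIsOpenCover (fun U : Y.affineOpens => p ⁻¹ᵁ U.1)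
    (p.iSup_preimage_eq_top (iSup_affineOpens_eq_top Y))
  haveI : ∀ i, IsReduced (𝒰.X i) := by
    intro U
    change IsReduced (p ⁻¹ᵁ U.1 : Scheme)
    haveI := proj_isReduced (𝒮.deg U.1 U.2) (hred U.1 U.2)
    exact isReduced_of_isOpenImmersion (chart U.1 U.2).hom
  exact IsReduced.of_openCover P 𝒰

end Groth.Agent.S8266
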