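import Groth.Statements.S8273
import Groth.Agent.Lib.Helper42.BasicGlue
-- import your own Groth.Agent.* helpers here

set_option autoImplicit false
universe u
open CategoryTheory CategoryTheory.Limits AlgebraicGeometry Opposite TopologicalSpace
open scoped HomogeneousIdeal
open EGA2

namespace Groth.Agent.S8273

open Groth.Agent.Lib.Helper42

/-- The comparison morphism between two relative Proj's of the same algebra. -/
theorem existsUnique_compare {Y P P' : Scheme.{u}} (𝒮 : RelProj.QCGrAlg Y) (p : P ⟶ Y)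
    (chart : ∀ (U : Y.Opens) (hU : IsAffineOpen U), (((p ⁻¹ᵁ U : P.Opens) : Scheme.{u}) ≅ Proj (𝒮.deg U hU)))
    (hP : RelProj.IsRelProj 𝒮 p chart) (p' : P' ⟶ Y)
    (chart' : ∀ (U : Y.Opens) (hU : IsAffineOpen U), (((p' ⁻¹ᵁ U : P'.Opens) : Scheme.{u}) ≅ Proj (𝒮.deg U hU)))
    (hP' : RelProj.IsRelProj 𝒮 p' chart') :
    ∃! e : P ⟶ P', ∀ (U : Y.Opens) (hU : IsAffineOpen U),
        (p ⁻¹ᵁ U).ι ≫ e = (chart U hU).hom ≫ (chart' U hU).inv ≫ (p' ⁻¹ᵁ U).ι := by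
  apply existsUnique_glue_of_basic p
    (fun U hU => (chart U hU).hom ≫ (chart' U hU).inv ≫ (p' ⁻¹ᵁ U).ι)
  intro U hU r
  have h1 := hP.chart_res U hU r
  have h2 := hP'.chart_res U hU r
  have h3 : Proj.map (𝒮.res hU (hU.basicOpen r) (Y.basicOpen_le r)) (𝒮.irrelevant_le_map U hU r) ≫
      (chart' U hU).inv = (chart' (Y.basicOpen r) (hU.basicOpen r)).inv ≫
        P'.homOfLE (p'.preimage_mono (Y.basicOpen_le r)) := by
    rw [Iso.eq_inv_comp, ← Category.assoc, ← h2, Category.assoc, Iso.hom_inv_id, Category.comp_id]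
  rw [reassoc_of% h1, reassoc_of% h3, P'.homOfLE_ι]

theorem result {Y P P' : Scheme.{u}} (𝒮 : RelProj.QCGrAlg Y) (p : P ⟶ Y)
    (chart : ∀ (U : Y.Opens) (hU : IsAffineOpen U), (((p ⁻¹ᵁ U : P.Opens) : Scheme.{u}) ≅ Proj (𝒮.deg U hU)))
    (hP : RelProj.IsRelProj 𝒮 p chart) (p' : P' ⟶ Y)
    (chart' : ∀ (U : Y.Opens) (hU : IsAffineOpen U), (((p' ⁻¹ᵁ U : P'.Opens) : Scheme.{u}) ≅ Proj (𝒮.deg U hU)))
    (hP' : RelProj.IsRelProj 𝒮 p' chart') :
    (∃! e : P ⟶ P', ∀ (U : Y.Opens) (hU : IsAffineOpen U),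
        (p ⁻¹ᵁ U).ι ≫ e = (chart U hU).hom ≫ (chart' U hU).inv ≫ (p' ⁻¹ᵁ U).ι) ∧
      ∀ e : P ⟶ P', (∀ (U : Y.Opens) (hU : IsAffineOpen U),
        (p ⁻¹ᵁ U).ι ≫ e = (chart U hU).hom ≫ (chart' U hU).inv ≫ (p' ⁻¹ᵁ U).ι) → IsIso e ∧ e ≫ p' = p := by
  refine ⟨existsUnique_compare 𝒮 p chart hP p' chart' hP', fun e he => ?_⟩
  obtain ⟨e', he', -⟩ := existsUnique_compare 𝒮 p' chart' hP' p chart hP
  refine ⟨⟨e', ?_, ?_⟩, ?_⟩
  · apply hom_ext_of_affine p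
    intro U hU
    rw [reassoc_of% (he U hU), he' U hU]
    simp
  · apply hom_ext_of_affine p'
    intro U hU
    rw [reassoc_of% (he' U hU), he U hU]
    simp
  · apply hom_ext_of_affine p
    intro U hU
    rw [reassoc_of% (he U hU), ← hP'.chart_over U hU, ← hP.chart_over U hU]
    simp

end Groth.Agent.S8273
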