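import Groth.Statements.S8280
-- import your own Groth.Agent.* helpers here

set_option autoImplicit false
universe u
open CategoryTheory CategoryTheory.Limits AlgebraicGeometry Opposite TopologicalSpace
open scoped HomogeneousIdeal
open EGA2

namespace Groth.Agent.S8280

/-- If the `f i` generate an ideal containing all homogeneous elements of large degree, the `D₊(f i)` cover `Proj`. -/
theorem proj_cover {A : Type u} [CommRing A] (𝒜 : ℕ → AddSubgroup A) [GradedRing 𝒜] {ι : Type u}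
    (f : ι → A) (n₀ : ℕ)
    (h : ∀ n, n₀ ≤ n → (𝒜 n : Set A) ⊆ (Ideal.span (Set.range f) : Set A)) :
    ⨆ i, Proj.basicOpen 𝒜 (f i) = ⊤ := by
  classical
  refine top_le_iff.mp fun x _ ↦ TopologicalSpace.Opens.mem_iSup.mpr ?_
  by_contra! H
  simp only [Proj.mem_basicOpen, Decidable.not_not] at H
  refine x.not_irrelevant_le ?_
  have hspan : Ideal.span (Set.range f) ≤ x.asHomogeneousIdeal.toIdeal := by
    rwa [Ideal.span_le, Set.range_subset_iff]
  rw [HomogeneousIdeal.irrelevant_le]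
  intro i hi b hb
  have hb' : b ∈ 𝒜 i := hb
  have h1 : b ^ (n₀ + 1) ∈ 𝒜 ((n₀ + 1) • i) := SetLike.pow_mem_graded _ hb'
  have h2 : n₀ ≤ (n₀ + 1) • i := by
    rw [smul_eq_mul]; nlinarith
  have h3 : b ^ (n₀ + 1) ∈ x.asHomogeneousIdeal.toIdeal := hspan (h _ h2 h1)
  exact x.isPrime.mem_of_pow_mem _ h3

/-- Let (f_α) be global sections of the quasi-coherent positively graded O_Y-algebra 𝒮, homogeneous of
positive degrees, such that the ideal they generate contains all 𝒮_n from some degree on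
(affine-locally). Then the opens X_{f_α} of Proj(𝒮) (characterised chartwise by the basic opens
D_+(f_α|U)) cover Proj(𝒮). (The published hypothesis fixes one degree, valid over all of Y, from
which on the f_α generate; this row asks for such a degree over each affine open separately, which
is all the proof, carried out one affine open at a time, uses.) -/
theorem result {Y P : Scheme.{u}} (𝒮 : RelProj.QCGrAlg Y) (p : P ⟶ Y)
    (chart : ∀ (U : Y.Opens) (hU : IsAffineOpen U), (((p ⁻¹ᵁ U : P.Opens) : Scheme.{u}) ≅ Proj (𝒮.deg U hU)))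
    (hP : RelProj.IsRelProj 𝒮 p chart) {ι : Type u} (d : ι → ℕ) (hd : ∀ a, 0 < d a)
    (f : ι → 𝒮.presheaf.obj (op ⊤))
    (hf : ∀ (a : ι) (U : Y.Opens) (hU : IsAffineOpen U), (𝒮.presheaf.map (homOfLE le_top).op).hom (f a) ∈ 𝒮.deg U hU (d a))
    (hgen : ∀ (U : Y.Opens) (hU : IsAffineOpen U), ∃ n₀ : ℕ, ∀ n, n₀ ≤ n →
      (𝒮.deg U hU n : Set (𝒮.presheaf.obj (op U))) ⊆
        (Ideal.span (Set.range fun a => (𝒮.presheaf.map (homOfLE (le_top : U ≤ ⊤)).op).hom (f a)) :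
          Set (𝒮.presheaf.obj (op U))))
    (X : ι → P.Opens)
    (hX : ∀ (a : ι) (U : Y.Opens) (hU : IsAffineOpen U),
      X a ⊓ p ⁻¹ᵁ U =
        (p ⁻¹ᵁ U).ι ''ᵁ ((chart U hU).hom ⁻¹ᵁ
          Proj.basicOpen (𝒮.deg U hU) ((𝒮.presheaf.map (homOfLE le_top).op).hom (f a)))) :
    ⨆ a, X a = ⊤ := by
  refine top_le_iff.mp fun x _ ↦ TopologicalSpace.Opens.mem_iSup.mpr ?_
  have hcov := iSup_affineOpens_eq_top Y
  have hx : p.base x ∈ (⨆ i : Y.affineOpens, (i : Y.Opens)) := by rw [hcov]; trivial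
  obtain ⟨U, hxU⟩ := TopologicalSpace.Opens.mem_iSup.mp hx
  obtain ⟨n₀, hn₀⟩ := hgen U.1 U.2
  have hcover := proj_cover (𝒮.deg U.1 U.2)
    (fun a => (𝒮.presheaf.map (homOfLE (le_top : U.1 ≤ ⊤)).op).hom (f a)) n₀ hn₀
  let x' : (p ⁻¹ᵁ U.1 : Scheme) := ⟨x, hxU⟩
  have hy : (chart U.1 U.2).hom.base x' ∈ (⨆ a, Proj.basicOpen (𝒮.deg U.1 U.2)
      ((𝒮.presheaf.map (homOfLE (le_top : U.1 ≤ ⊤)).op).hom (f a))) := by rw [hcover]; trivial
  obtain ⟨a, ha⟩ := TopologicalSpace.Opens.mem_iSup.mp hy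
  refine ⟨a, ?_⟩
  have : x ∈ X a ⊓ p ⁻¹ᵁ U.1 := by
    rw [hX a U.1 U.2]
    exact ⟨x', ha, rfl⟩
  exact this.1

end Groth.Agent.S8280
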