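import Groth.Statements.S8282
import Mathlib
import Groth.Agent.Lib.Helper17.PCone
import Groth.Agent.Lib.Helper63.GenDegOne2
import Groth.Agent.Lib.Helper63.ProjNull
-- import your own Groth.Agent.* helpers here

set_option autoImplicit false
universe u
open CategoryTheory CategoryTheory.Limits AlgebraicGeometry
open EGA2

namespace Groth.Agent.S8282

/-- Let T be a positively graded ring which is a T_0-algebra of finite type, and T' = ⊕_n T_1^n → T the
injective graded homomorphism from the subalgebra generated by T_1 (T' presented as a graded ring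
with φ : T' → T injective, bijective in degrees 0 and 1, and T'_n = (T'_1)^n for n ≥ 1). If the
morphism of homogeneous spectra induced by φ is everywhere defined (its domain G(φ) is the whole of
Proj T) and is an isomorphism onto Proj T', then there is n₀ with T_n = T_1^n for all n ≥ n₀. -/
theorem result {R A B : Type u} [CommRing R] [CommRing A] [Algebra R A]
    (𝒜 : ℕ → Submodule R A) [GradedAlgebra 𝒜] [CommRing B] [Algebra R B] (ℬ : ℕ → Submodule R B) [GradedAlgebra ℬ]
    [Algebra.FiniteType (ℬ 0) B] (φ : 𝒜 →+*ᵍ ℬ) (hφ : Function.Injective φ)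
    (h0 : Set.BijOn φ (𝒜 0) (ℬ 0)) (h1 : Set.BijOn φ (𝒜 1) (ℬ 1))
    (hgen : ∀ n : ℕ, 1 ≤ n → 𝒜 n = 𝒜 1 ^ n)
    (hdom : PCone.dom φ = ⊤)
    (p : (PCone.dom φ : Scheme.{u}) ⟶ Proj 𝒜)
    (hp : ∀ (d : ℕ) (f : A) (hd : 0 < d) (hf : f ∈ 𝒜 d),
      PCone.chart φ hf hd ≫ p =
        Spec.map (CommRingCat.ofHom (HomogeneousLocalization.Away.map φ f)) ≫ Proj.awayι 𝒜 f hf hd)
    [IsIso p] :
    ∃ n₀ : ℕ, ∀ n : ℕ, n₀ ≤ n → ℬ n = ℬ 1 ^ n := by
  -- the maps on charts are bijective
  have hsurj : ∀ f ∈ 𝒜 1, Function.Surjective (HomogeneousLocalization.Away.map φ f) := by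
    intro f hf
    have hpb := Groth.Agent.Lib.Helper17.PConeLib.isPullback_chart φ p hp Nat.one_pos hf
    have hiso : IsIso (Spec.map (CommRingCat.ofHom (HomogeneousLocalization.Away.map φ f))) :=
      hpb.isIso_snd_of_isIso
    exact (isIso_SpecMap_iff.mp hiso).2
  -- the irrelevant ideal is contained in the radical of the ideal generated by degree one
  have hrad : ∀ n : ℕ, 0 < n → ∀ b ∈ ℬ n, b ∈ (Ideal.span (ℬ 1 : Set B)).radical := by
    apply Groth.Agent.Lib.Helper63.ProjNull.mem_radical_of_zeroLocus_eq_empty ℬ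
    · exact Ideal.homogeneous_span ℬ _ (fun x hx => ⟨1, hx⟩)
    · rw [Set.eq_empty_iff_forall_notMem]
      intro x hx
      rw [ProjectiveSpectrum.mem_zeroLocus] at hx
      have hxtop : (x : Proj ℬ) ∈ PCone.dom φ := by rw [hdom]; trivial
      obtain ⟨⟨f, d, hd, hf⟩, hxf⟩ := TopologicalSpace.Opens.mem_iSup.mp hxtop
      have hxf' : φ f ∉ x.asHomogeneousIdeal := (ProjectiveSpectrum.mem_basicOpen ℬ (φ f) x).mp hxf
      apply hxf'
      apply hx
      have h2 : f ∈ (𝒜 1 ^ d : Submodule R A) := by rw [← hgen d hd]; exact hf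
      have h3 : φ f ∈ (ℬ 1 ^ d : Submodule R B) :=
        Groth.Agent.Lib.Helper63.GenDegOne.map_mem_pow h0 h1 hd h2
      have h4 := Groth.Agent.Lib.Helper63.GenDegOne.pow_le_span_pow (𝒜 := ℬ) d h3
      rw [Submodule.restrictScalars_mem] at h4
      exact Ideal.pow_le_self (by omega) h4
  exact Groth.Agent.Lib.Helper63.GenDegOne.eventually_eq_pow hφ h0 h1 hgen hsurj hrad

end Groth.Agent.S8282
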