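import Groth.Statements.S8300
import Groth.Agent.Lib.Helper42.PointedCone
import Groth.Agent.S8299

set_option autoImplicit false
universe u
open CategoryTheory CategoryTheory.Limits AlgebraicGeometry Opposite TopologicalSpace
open scoped HomogeneousIdeal
noncomputable section
open EGA2

namespace Groth.Agent.S8300

/-- Let q : Y' → Y be a morphism of schemes, 𝒮 and 𝒮' quasi-coherent positively graded algebras over O_Y
and O_{Y'} with 𝒮_0 = O_Y and 𝒮'_0 = O_{Y'}, and φ : 𝒮 → q_*𝒮' a graded q-morphism (a map of sheaves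
of rings compatible with the structure maps through q^♯, whose components 𝒮(U) → 𝒮'(U') for affine
opens U' ⊆ q⁻¹(U) preserve degrees, recorded as graded ring homomorphisms); let C = Spec(𝒮), C' =
Spec(𝒮') be the affine cones and Φ : C' → C the morphism Spec(φ), i.e. the morphism which on the
charts over affine opens U' ⊆ q⁻¹(U) is Spec of 𝒮(U) → 𝒮'(U'); let E ⊆ C and E' ⊆ C' be the pointed
affine cones (defined chart by chart as the complements of V(𝒮(U)_+), resp. V(𝒮'(U')_+)). Then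
Proj(φ) is everywhere defined, which here means that for all affine opens U' ⊆ q⁻¹(U) the open of
Proj 𝒮'(U') where the morphism induced by 𝒮(U) → 𝒮'(U') is defined (the complement of V_+ of the
ideal generated by the image of the irrelevant ideal of 𝒮(U)) is the whole of Proj 𝒮'(U'), if and
only if the inverse image of E under Φ equals E'. -/
theorem result {Y Y' : Scheme.{u}} (q : Y' ⟶ Y) (𝒮 : RelProj.QCGrAlg Y) (𝒮' : RelProj.QCGrAlg Y')
    (h0 : RelCone.StrZeroBij 𝒮) (h0' : RelCone.StrZeroBij 𝒮')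
    (u : 𝒮.presheaf ⟶ q.base _* 𝒮'.presheaf)
    (hu : 𝒮.str ≫ u = q.c ≫ (TopCat.Presheaf.pushforward CommRingCat.{u} q.base).map 𝒮'.str)
    (φ : ∀ (U : Y.Opens) (hU : IsAffineOpen U) (U' : Y'.Opens) (hU' : IsAffineOpen U') (_ : U' ≤ q ⁻¹ᵁ U),
      𝒮.deg U hU →+*ᵍ 𝒮'.deg U' hU')
    (hφ : ∀ (U : Y.Opens) (hU : IsAffineOpen U) (U' : Y'.Opens) (hU' : IsAffineOpen U') (hle : U' ≤ q ⁻¹ᵁ U),
      (φ U hU U' hU' hle).toRingHom =
        ((u.app (op U) : 𝒮.presheaf.obj (op U) ⟶ 𝒮'.presheaf.obj (op (q ⁻¹ᵁ U))) ≫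
          𝒮'.presheaf.map (homOfLE hle).op).hom)
    (Φ : 𝒮'.toQCAlg.spec ⟶ 𝒮.toQCAlg.spec)
    (hΦ : ∀ (U : Y.Opens) (hU : IsAffineOpen U) (U' : Y'.Opens) (hU' : IsAffineOpen U') (hle : U' ≤ q ⁻¹ᵁ U),
      𝒮'.toQCAlg.ι U' hU' ≫ Φ =
        Spec.map ((u.app (op U) : 𝒮.presheaf.obj (op U) ⟶ 𝒮'.presheaf.obj (op (q ⁻¹ᵁ U))) ≫
          𝒮'.presheaf.map (homOfLE hle).op) ≫ 𝒮.toQCAlg.ι U hU) :
    (∀ (U : Y.Opens) (hU : IsAffineOpen U) (U' : Y'.Opens) (hU' : IsAffineOpen U') (hle : U' ≤ q ⁻¹ᵁ U),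
        RelCone.domOpen (φ U hU U' hU' hle) = ⊤) ↔
      Φ ⁻¹ᵁ RelCone.pointedCone 𝒮 = RelCone.pointedCone 𝒮' := by
  have hΦx : ∀ (U : Y.Opens) (hU : IsAffineOpen U) (U' : Y'.Opens) (hU' : IsAffineOpen U')
      (hle : U' ≤ q ⁻¹ᵁ U) (x'' : Spec (𝒮'.presheaf.obj (op U'))),
      Φ.base ((𝒮'.toQCAlg.ι U' hU').base x'') =
      (𝒮.toQCAlg.ι U hU).base ((Spec.map ((u.app (op U) :
        𝒮.presheaf.obj (op U) ⟶ 𝒮'.presheaf.obj (op (q ⁻¹ᵁ U))) ≫
          𝒮'.presheaf.map (homOfLE hle).op)).base x'') := by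
    intro U hU U' hU' hle x''
    have := congrArg (fun f => f.base x'') (hΦ U hU U' hU' hle)
    simpa using this
  have hψ : ∀ (U : Y.Opens) (hU : IsAffineOpen U) (U' : Y'.Opens) (hU' : IsAffineOpen U')
      (hle : U' ≤ q ⁻¹ᵁ U) (a : 𝒮.presheaf.obj (op U)),
      ((u.app (op U) : 𝒮.presheaf.obj (op U) ⟶ 𝒮'.presheaf.obj (op (q ⁻¹ᵁ U))) ≫
          𝒮'.presheaf.map (homOfLE hle).op).hom a = φ U hU U' hU' hle a :=
    fun U hU U' hU' hle a => (congrArg (fun g => g a) (hφ U hU U' hU' hle)).symm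
  constructor
  · intro hdom
    apply le_antisymm (Groth.Agent.S8299.result q 𝒮 𝒮' h0 h0' u hu φ hφ Φ hΦ)
    intro x hx
    obtain ⟨V, x'', rfl⟩ := Groth.Agent.Lib.Helper42.exists_chart_pair q 𝒮'.toQCAlg x
    rw [Groth.Agent.Lib.Helper42.ι_mem_pointedCone_iff] at hx
    change Φ.base _ ∈ RelCone.pointedCone 𝒮
    rw [hΦx V.U V.hU V.U' V.hU' V.hle, Groth.Agent.Lib.Helper42.ι_mem_pointedCone_iff]
    exact Groth.Agent.Lib.Helper42.map_mem_vertexCompl_of_domOpen_eq_top _ _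
      (φ V.U V.hU V.U' V.hU' V.hle) _ (hψ V.U V.hU V.U' V.hU' V.hle)
      (hdom V.U V.hU V.U' V.hU' V.hle) x'' hx
  · intro heq U hU U' hU' hle
    refine Groth.Agent.Lib.Helper42.domOpen_eq_top_of_forall _ _ (φ U hU U' hU' hle) _
      (hψ U hU U' hU' hle) ?_
    intro x'' hx''
    have h1 : (𝒮'.toQCAlg.ι U' hU').base x'' ∈ RelCone.pointedCone 𝒮' :=
      (Groth.Agent.Lib.Helper42.ι_mem_pointedCone_iff 𝒮' U' hU' x'').mpr hx''
    rw [← heq] at h1
    change Φ.base _ ∈ RelCone.pointedCone 𝒮 at h1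
    rwa [hΦx U hU U' hU' hle, Groth.Agent.Lib.Helper42.ι_mem_pointedCone_iff] at h1

end Groth.Agent.S8300
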