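import Groth.Statements.S8333
import Mathlib
import Groth.Agent.Lib.Helper63.RelTwistAmple
import Groth.Agent.Lib.Helper11.CounitEpi2
import Groth.Agent.S8261
-- import your own Groth.Agent.* helpers here

set_option autoImplicit false
universe u
open CategoryTheory CategoryTheory.Limits AlgebraicGeometry Opposite TopologicalSpace
open scoped HomogeneousIdeal
noncomputable section
open EGA2

namespace Groth.Agent.S8333

/-- Let Y be a scheme with quasi-compact underlying space, 𝒮 a quasi-coherent positively graded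
O_Y-algebra generated by 𝒮_1 with 𝒮_1 of finite type, p : P = Proj(𝒮) → Y, and F a quasi-coherent
O_P-module of finite type. Then there is n₀ such that for all n ≥ n₀ the canonical morphism
p^*(p_*(F(n))) → F(n) is an epimorphism, where F(n) = F ⊗ O_P(n) with O_P(n) given through its
chartwise identifications. -/
theorem result {Y P : Scheme.{u}} (𝒮 : RelProj.QCGrAlg Y) (p : P ⟶ Y)
    (chart : ∀ (U : Y.Opens) (hU : IsAffineOpen U), (((p ⁻¹ᵁ U : P.Opens) : Scheme.{u}) ≅ Proj (𝒮.deg U hU)))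
    (hP : RelProj.IsRelProj 𝒮 p chart) [CompactSpace Y] (hgen : 𝒮.IsGenDegOne)
    (hft : 𝒮.IsFTDeg 1) (F : P.Modules) (hFq : Coh.IsQCoh F) (hFt : CohB1.IsFT F) :
    ∃ n₀ : ℤ, ∀ (n : ℤ), n₀ ≤ n → ∀ (L : P.Modules)
      (lam : ∀ (U : Y.Opens) (hU : IsAffineOpen U),
      L ⟶ (Scheme.Modules.pushforward (RelProj.emb p chart U hU)).obj (GrTwist.twist (𝒮.deg U hU) n)),
      RelProj.IsRelTwist 𝒮 p chart n L lam →
        Epi ((Scheme.Modules.pullbackPushforwardAdjunction p).counit.app (CohB1.tensorMod F L)) := by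
  classical
  obtain ⟨-, hqc⟩ := Groth.Agent.S8261.result 𝒮 hgen hft p chart hP
  haveI : QuasiCompact p := hqc
  haveI : CompactSpace P := QuasiCompact.compactSpace_of_compactSpace p
  obtain ⟨L₁, lam₁, hL₁⟩ := Groth.Agent.Lib.Helper42.RelTwistExists.exists_isRelTwist 𝒮 p chart hP 1
  have hamp : RelAmple.IsRelAmple p L₁ :=
    Groth.Agent.Lib.Helper63.RelTwistAmple.isRelAmple_twistOne hgen hL₁
  obtain ⟨n₀, hn₀pos, hn₀⟩ :=
    Groth.Agent.Lib.Helper11.CounitEpi2.eventually_epi_counit_of_relAmple p L₁ hamp F hFq hFt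
  refine ⟨(n₀ : ℤ), fun n hn L lam hL => ?_⟩
  obtain ⟨m, rfl⟩ : ∃ m : ℕ, n = (m : ℤ) + 1 := by
    refine ⟨(n - 1).toNat, ?_⟩
    have : (0 : ℤ) ≤ n - 1 := by
      have : (1 : ℤ) ≤ (n₀ : ℤ) := by exact_mod_cast hn₀pos
      linarith
    rw [Int.toNat_of_nonneg this]
    ring
  have hm : n₀ ≤ m + 1 := by exact_mod_cast hn
  obtain ⟨e⟩ := Groth.Agent.Lib.Helper63.RelTwistAmple.nonempty_tensorPow_iso hP hgen hL₁ m _ rfl L lam hL
  exact Groth.Agent.Lib.Helper63.RelTwistAmple.epi_counit_of_iso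
    (Scheme.Modules.pullbackPushforwardAdjunction p)
    (Groth.Agent.Lib.Helper11.GenLocus.tensorModCongr (Iso.refl F) e) (hn₀ (m + 1) hm)


end Groth.Agent.S8333
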