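import Groth.Statements.S8337
import Groth.Agent.Lib.Helper42.RelTildeFrac

set_option autoImplicit false
universe u
open CategoryTheory CategoryTheory.Limits AlgebraicGeometry Opposite TopologicalSpace
open scoped HomogeneousIdeal
noncomputable section
open EGA2

namespace Groth.Agent.S8337

open Groth.Agent.Lib.Helper42 Groth.Agent.Lib.Helper42.RelTildeFrac Groth.Agent.Lib.Helper42.RelTwistTensor
  Groth.Agent.Lib.Helper42.RelTwistFrac

/-- If the quasi-coherent positively graded O_Y-algebra 𝒮 is generated by 𝒮_1, then for every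
quasi-coherent graded 𝒮-module ℳ and every integer n, the module (ℳ(n))~ on P = Proj(𝒮) is
isomorphic to ℳ~(n) = ℳ~ ⊗ O_P(n), all three modules being given through their chartwise
identifications (existence of an isomorphism only; the published isomorphism is canonical). -/
theorem result {Y P : Scheme.{u}} (𝒮 : RelProj.QCGrAlg Y) (p : P ⟶ Y)
    (chart : ∀ (U : Y.Opens) (hU : IsAffineOpen U), (((p ⁻¹ᵁ U : P.Opens) : Scheme.{u}) ≅ Proj (𝒮.deg U hU)))
    (hP : RelProj.IsRelProj 𝒮 p chart) (hgen : 𝒮.IsGenDegOne)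
    (ℳ : RelProj.GrModule 𝒮) (hℳ : Coh.IsQCoh ((AMod.toOS 𝒮.toQCAlg).obj ℳ.mod)) (n : ℤ) (F : P.Modules)
    (lam : ∀ (U : Y.Opens) (hU : IsAffineOpen U),
      F ⟶ (Scheme.Modules.pushforward (RelProj.emb p chart U hU)).obj (GrMod.tilde (𝒮.deg U hU) (ℳ.deg U hU) 0))
    (hF : RelProj.IsRelTilde 𝒮 p chart ℳ 0 F lam) (F' : P.Modules)
    (lam' : ∀ (U : Y.Opens) (hU : IsAffineOpen U),
      F' ⟶ (Scheme.Modules.pushforward (RelProj.emb p chart U hU)).obj (GrMod.tilde (𝒮.deg U hU) (ℳ.deg U hU) n))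
    (hF' : RelProj.IsRelTilde 𝒮 p chart ℳ n F' lam') (L : P.Modules)
    (lamL : ∀ (U : Y.Opens) (hU : IsAffineOpen U),
      L ⟶ (Scheme.Modules.pushforward (RelProj.emb p chart U hU)).obj (GrTwist.twist (𝒮.deg U hU) n))
    (hL : RelProj.IsRelTwist 𝒮 p chart n L lamL) :
    Nonempty (F' ≅ CohB1.tensorMod F L) := by
  classical
  have hn : (0 : ℤ) + (n.toNat : ℕ) = n + ((-n).toNat : ℕ) := by
    have := toNat_eq n
    linarith
  choose e hb hr using fun i : Idx 𝒮 => exists_std_basis hL i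
  refine TensorGlue.nonempty_iso_tensor_of_local (VI p chart) (exists_mem_VI hgen) e hb
    (fun j => mulMap lam' hF (pow_mem_deg j.1 (-n).toNat) (pow_mem_deg j.1 n.toNat) hn
      (j.2.2.trans (VI_le j.1)) (fun y hy => pow_notMem_of_mem_VI j.1 _ y (j.2.2 hy))) ?_ ?_ ?_ ?_
  · intro i W W' hW h s
    exact mulMap_mres lam' hF (pow_mem_deg i (-n).toNat) (pow_mem_deg i n.toNat) hn
      (hW.trans (VI_le i)) (fun y hy => pow_notMem_of_mem_VI i _ y (hW hy)) h s
  · intro j r s
    exact mulMap_smul lam' hF _ _ hn _ _ r s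
  · intro j
    exact mulMap_bijective lam' hF' hF _ _ hn _ (fun y hy => pow_notMem_of_mem_VI j.1 _ y (j.2.2 hy)) _
  · intro i j W hi hj c hc s
    exact eq_smul_of_mulRel_two_charts hP hF' hF hL (hi.trans (VI_le i)) (hj.trans (VI_le j))
      ((hr i).mres hi) ((hr j).mres hj)
      (fun y hy => pow_notMem_of_mem_VI i _ y (hi hy)) (fun y hy => pow_notMem_of_mem_VI i _ y (hi hy))
      (fun y hy => pow_notMem_of_mem_VI j _ y (hj hy)) (fun y hy => pow_notMem_of_mem_VI j _ y (hj hy))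
      (mulMap_spec lam' hF _ _ hn _ _ s) (mulMap_spec lam' hF _ _ hn _ _ s) c hc

end Groth.Agent.S8337
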