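import Groth.Statements.S8338
import Mathlib
import Groth.Agent.Lib.Helper79.GrSect
-- import your own Groth.Agent.* helpers here

set_option autoImplicit false
universe u
open CategoryTheory CategoryTheory.Limits AlgebraicGeometry Opposite TopologicalSpace
noncomputable section
open EGA2

namespace Groth.Agent.S8338

/-- For an exact sequence M₁ → M₂ → M₃ of graded S-modules with degree-preserving maps u, v and every
integer n, the induced morphisms M₁(n)~ → M₂(n)~ → M₃(n)~ of modules on X = Proj S give an exact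
sequence of sections over every basic open D_+(f), f homogeneous of positive degree (these opens are
affine and cover X, so the sequence of modules is exact). Gradings by additive subgroups, modules
graded in non-negative degrees. -/
theorem result {A σ : Type u} [CommRing A] [SetLike σ A] [AddSubgroupClass σ A] (𝒜 : ℕ → σ)
    [GradedRing 𝒜] {M₁ τ₁ : Type u} [AddCommGroup M₁] [Module A M₁] [SetLike τ₁ M₁] [AddSubgroupClass τ₁ M₁]
    (ℳ₁ : ℕ → τ₁) [SetLike.GradedSMul 𝒜 ℳ₁] [DirectSum.Decomposition ℳ₁]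
    {M₂ τ₂ : Type u} [AddCommGroup M₂] [Module A M₂] [SetLike τ₂ M₂] [AddSubgroupClass τ₂ M₂]
    (ℳ₂ : ℕ → τ₂) [SetLike.GradedSMul 𝒜 ℳ₂] [DirectSum.Decomposition ℳ₂]
    {M₃ τ₃ : Type u} [AddCommGroup M₃] [Module A M₃] [SetLike τ₃ M₃] [AddSubgroupClass τ₃ M₃]
    (ℳ₃ : ℕ → τ₃) [SetLike.GradedSMul 𝒜 ℳ₃] [DirectSum.Decomposition ℳ₃]
    (u : M₁ →ₗ[A] M₂) (hu : ∀ (i : ℕ) (m : M₁), m ∈ ℳ₁ i → u m ∈ ℳ₂ i)
    (v : M₂ →ₗ[A] M₃) (hv : ∀ (i : ℕ) (m : M₂), m ∈ ℳ₂ i → v m ∈ ℳ₃ i)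
    (hex : Function.Exact u v) (n : ℤ) {d : ℕ} (hd : 0 < d) (f : A) (hf : f ∈ 𝒜 d) :
    Function.Exact ((GrMod.map 𝒜 u hu n).app (Proj.basicOpen 𝒜 f))
      ((GrMod.map 𝒜 v hv n).app (Proj.basicOpen 𝒜 f)) := by
  classical
  intro t
  constructor
  · -- kernel ⊆ range
    intro hvt
    have hvt' : ∀ z : Proj.basicOpen 𝒜 f,
        GrMod.locMap v z.1 (GrMod.val t z) = 0 := by
      intro z
      exact congrArg (fun s => GrMod.val s z) hvt
    obtain ⟨K, D, m, hD, hm, hval⟩ :=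
      Groth.Agent.Lib.Helper79.GrSect.exists_global_frac 𝒜 ℳ₂ n hd hf
        (t : GrMod.sect 𝒜 ℳ₂ n (op (Proj.basicOpen 𝒜 f)))
    have hvm : ∀ z : ProjectiveSpectrum 𝒜, f ∉ z.asHomogeneousIdeal →
        (LocalizedModule.mk (v m) 1 : GrMod.LocMod 𝒜 (M := M₃) z) = 0 := by
      intro z hz
      have hzf : z ∈ Proj.basicOpen 𝒜 f := (Proj.mem_basicOpen 𝒜 f z).2 hz
      have h1 := hvt' ⟨z, hzf⟩
      have h2 : GrMod.val t ⟨z, hzf⟩ = LocalizedModule.mk m ⟨f ^ K, _⟩ := hval ⟨z, hzf⟩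
      rw [h2, GrMod.locMap_mk, ← LocalizedModule.zero_mk ⟨f ^ K,
        Groth.Agent.Lib.Helper79.GrSect.pow_notMem_of_mem_basicOpen 𝒜 ⟨z, hzf⟩ K⟩,
        LocalizedModule.mk_eq] at h1
      obtain ⟨w, hw⟩ := h1
      rw [Groth.Agent.Lib.Helper79.GrAlpha.mk_one_eq_zero_iff]
      refine ⟨w.1 * f ^ K, fun h => ?_, ?_⟩
      · rcases z.isPrime.mem_or_mem h with h | h
        · exact w.2 h
        · exact hz (z.isPrime.mem_of_pow_mem _ h)
      · rw [mul_smul]
        simpa [Submonoid.smul_def] using hw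
    obtain ⟨L, hL⟩ := Groth.Agent.Lib.Helper79.GrSect.exists_pow_smul_eq_zero 𝒜 ℳ₃ (hv D m hm) hd hf hvm
    have hker : v (f ^ L • m) = 0 := by rw [map_smul, hL]
    obtain ⟨p, hp⟩ := (hex (f ^ L • m)).1 hker
    have hfL : f ^ L ∈ 𝒜 (L * d) := by
      have := SetLike.pow_mem_graded L hf
      simpa [smul_eq_mul] using this
    have hfLm : f ^ L • m ∈ ℳ₂ (L * d + D) := SetLike.GradedSMul.smul_mem hfL hm
    have hp₀ : u ((DirectSum.decompose ℳ₁ p (L * d + D) : ℳ₁ (L * d + D)) : M₁) = f ^ L • m := by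
      rw [Groth.Agent.Lib.Helper79.GrSect.map_decompose_eq ℳ₁ ℳ₂ u hu p (L * d + D) (hp ▸ hfLm), hp]
    have hD' : ((L * d + D : ℕ) : ℤ) = ((K + L : ℕ) : ℤ) * d + n := by
      push_cast
      rw [hD]
      ring
    refine ⟨Groth.Agent.Lib.Helper79.GrSect.fracSect 𝒜 ℳ₁ n hf (K + L) (L * d + D) hD'
      (DirectSum.decompose ℳ₁ p (L * d + D)).2, ?_⟩
    refine Subtype.ext (funext fun z => Subtype.ext ?_)
    have e1 : GrMod.locMap u z.1 (LocalizedModule.mk
        ((DirectSum.decompose ℳ₁ p (L * d + D) : ℳ₁ (L * d + D)) : M₁) ⟨f ^ (K + L),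
          Groth.Agent.Lib.Helper79.GrSect.pow_notMem_of_mem_basicOpen 𝒜 z (K + L)⟩) =
        LocalizedModule.mk (u ((DirectSum.decompose ℳ₁ p (L * d + D) : ℳ₁ (L * d + D)) : M₁))
          ⟨f ^ (K + L), Groth.Agent.Lib.Helper79.GrSect.pow_notMem_of_mem_basicOpen 𝒜 z (K + L)⟩ :=
      GrMod.locMap_mk u z.1 _ _
    refine e1.trans ?_
    rw [hp₀]
    refine (LocalizedModule.mk_eq.2 ⟨1, ?_⟩).trans (hval z).symm
    simp only [one_smul, Submonoid.smul_def]
    rw [← mul_smul, ← pow_add]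
  · rintro ⟨s, rfl⟩
    refine Subtype.ext (funext fun z => Subtype.ext ?_)
    change GrMod.locMap v z.1 (GrMod.locMap u z.1 (GrMod.val s z)) = 0
    generalize GrMod.val s z = q
    induction q using LocalizedModule.induction_on with
    | h a b =>
      have e1 : GrMod.locMap u z.1 (LocalizedModule.mk a b) = LocalizedModule.mk (u a) b :=
        GrMod.locMap_mk u z.1 a b
      have e2 : GrMod.locMap v z.1 (LocalizedModule.mk (u a) b) = LocalizedModule.mk (v (u a)) b :=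
        GrMod.locMap_mk v z.1 (u a) b
      refine (congrArg (GrMod.locMap v z.1) e1).trans (e2.trans ?_)
      rw [hex.apply_apply_eq_zero, LocalizedModule.zero_mk]

end Groth.Agent.S8338
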