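import Groth.Statements.S8345
-- import your own Groth.Agent.* helpers here

set_option autoImplicit false
universe u
open ConstrTop

namespace Groth.Agent.S8345

open TopologicalSpace in
/-- Suppose X is a topological space that is Noetherian. Then a subset s of X is constructible exactly
when s can be written as the union of finitely many locally closed subsets of X. -/
theorem result {X : Type u} [TopologicalSpace X]
    [NoetherianSpace X] (s : Set X) :
    Topology.IsConstructible s ↔
      ∃ (n : ℕ) (Z : Fin n → Set X), (∀ i, IsLocallyClosed (Z i)) ∧ s = ⋃ i, Z i := by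
  have hopen : ∀ U : Set X, IsOpen U → Topology.IsConstructible U := fun U hU =>
    (NoetherianSpace.isCompact U).isConstructible hU
  constructor
  · intro hs
    have hsub : IsSublattice {U : Set X | IsOpen U ∧ IsRetrocompact U} :=
      ⟨fun s hs t ht ↦ ⟨hs.1.union ht.1, hs.2.union ht.2⟩,
        fun s hs t ht ↦ ⟨hs.1.inter ht.1, hs.2.inter_isOpen ht.2 ht.1⟩⟩
    obtain ⟨t, rfl⟩ := (BooleanSubalgebra.mem_closure_iff_sup_sdiff hsub
      ⟨isOpen_empty, .empty⟩ ⟨isOpen_univ, .univ⟩).mp hs
    refine ⟨t.card, fun i => ((t.equivFin.symm i).1.1.1 \ (t.equivFin.symm i).1.2.1), ?_, ?_⟩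
    · intro i
      exact ((t.equivFin.symm i).1.1.2.1.isLocallyClosed).inter
        ((t.equivFin.symm i).1.2.2.1.isClosed_compl.isLocallyClosed)
    · ext x
      simp only [Finset.sup_eq_iSup, Set.iSup_eq_iUnion, Set.mem_iUnion]
      constructor
      · rintro ⟨p, hp, hx⟩
        exact ⟨t.equivFin ⟨p, hp⟩, by simpa using hx⟩
      · rintro ⟨i, hx⟩
        exact ⟨(t.equivFin.symm i).1, (t.equivFin.symm i).2, hx⟩
  · rintro ⟨n, Z, hZ, rfl⟩
    refine Topology.IsConstructible.iUnion fun i => ?_
    obtain ⟨U, C, hU, hC, h⟩ := hZ i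
    rw [h]
    exact (hopen U hU).inter (Topology.isConstructible_compl.mp (by simpa using hopen _ hC.isOpen_compl))

end Groth.Agent.S8345
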