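import Groth.Statements.S8346
import Groth.Agent.S8344
-- import your own Groth.Agent.* helpers here

set_option autoImplicit false
universe u
open ConstrTop

namespace Groth.Agent.S8346

open TopologicalSpace Set.Notation in
/-- Let X be a topological space admitting a basis of open subsets which are retrocompact in X. Then
every locally constructible subset T of X is retrocompact in X. -/
theorem result {X : Type u} [TopologicalSpace X]
    {B : Set (Set X)} (hB : IsTopologicalBasis B) (hBr : ∀ U ∈ B, IsRetrocompact U) {T : Set X}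
    (hT : Topology.IsLocallyConstructible T) : IsRetrocompact T := by
  intro W hWc hWo
  -- for each x ∈ W, a basic open V with x ∈ V ⊆ W and V ∩ T compact
  have key : ∀ x ∈ W, ∃ V : Set X, IsOpen V ∧ x ∈ V ∧ V ⊆ W ∧ IsCompact (V ∩ T) := by
    intro x hxW
    obtain ⟨U, hxU, hU, hUT⟩ := hT x
    have hxU' : x ∈ U := mem_of_mem_nhds hxU
    obtain ⟨V, hVB, hxV, hVUW⟩ := hB.exists_subset_of_mem_open
      (show x ∈ U ∩ W from ⟨hxU', hxW⟩) (hU.inter hWo)
    have hVo : IsOpen V := hB.isOpen hVB
    have hVU : V ⊆ U := hVUW.trans Set.inter_subset_left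
    have hVW : V ⊆ W := hVUW.trans Set.inter_subset_right
    have hVc : IsCompact V := by
      have := hBr V hVB hWc hWo
      rwa [Set.inter_eq_left.mpr hVW] at this
    have hcons : Topology.IsConstructible (V ↓∩ T) :=
      (hUT.preimage_of_isOpenEmbedding (Topology.IsOpenEmbedding.id.restrict hVU hVo) :)
    have hretro : IsRetrocompact (V ↓∩ T) := Groth.Agent.S8344.result hcons
    haveI : CompactSpace V := isCompact_iff_compactSpace.mp hVc
    have hc : IsCompact (V ↓∩ T) := hretro.isCompact
    have := hc.image continuous_subtype_val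
    rw [Subtype.image_preimage_coe] at this
    exact ⟨V, hVo, hxV, hVW, this⟩
  choose! V hVo hxV hVW hVc using key
  obtain ⟨σ, hσW, hWσ⟩ := hWc.elim_nhds_subcover V (fun x hx => (hVo x hx).mem_nhds (hxV x hx))
  have : T ∩ W = ⋃ x ∈ σ, (V x ∩ T) := by
    apply subset_antisymm
    · rintro y ⟨hyT, hyW⟩
      obtain ⟨x, hx, hy⟩ := Set.mem_iUnion₂.mp (hWσ hyW)
      exact Set.mem_iUnion₂.mpr ⟨x, hx, hy, hyT⟩
    · refine Set.iUnion₂_subset fun x hx => ?_
      rintro y ⟨hyV, hyT⟩
      exact ⟨hyT, hVW x (hσW x hx) hyV⟩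
  rw [this]
  exact σ.isCompact_biUnion fun x hx => hVc x (hσW x hx)

end Groth.Agent.S8346
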