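import Groth.Statements.S8347
import Groth.Agent.S8355

set_option autoImplicit false
universe v u
open CategoryTheory CategoryTheory.Limits
open SpSeq

namespace Groth.Agent.S8347

section
variable {C : Type u} [Category.{v} C] [Abelian C]

lemma eq_succ_of_isZero_grPiece {X : C} (F : ℤ → Subobject X) (hF : Antitone F) (p : ℤ)
    (h : IsZero (SpSeq.grPiece F hF p)) : F p = F (p + 1) := by
  apply le_antisymm _ (hF (Int.le_add_one le_rfl))
  have hepi : Epi ((F (p + 1)).ofLE (F p) (hF (Int.le_add_one le_rfl))) :=
    Preadditive.epi_of_isZero_cokernel _ h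
  have : IsIso ((F (p + 1)).ofLE (F p) (hF (Int.le_add_one le_rfl))) := isIso_of_mono_of_epi _
  refine Subobject.le_of_comm (inv ((F (p + 1)).ofLE (F p) (hF (Int.le_add_one le_rfl)))) ?_
  rw [IsIso.inv_comp_eq, Subobject.ofLE_arrow]

lemma nonempty_iso_grPiece_of_top_bot {X : C} (F : ℤ → Subobject X) (hF : Antitone F) (p : ℤ)
    (htop : F p = ⊤) (hbot : F (p + 1) = ⊥) : Nonempty (SpSeq.grPiece F hF p ≅ X) := by
  have hz : IsZero ((F (p + 1) : Subobject X) : C) := by
    rw [hbot]
    exact (isZero_zero C).of_iso Subobject.botCoeIsoZero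
  have h0 : (F (p + 1)).ofLE (F p) (hF (Int.le_add_one le_rfl)) = 0 := hz.eq_of_src _ _
  have : IsIso (F p).arrow := (Subobject.isIso_arrow_iff_eq_top _).mpr htop
  exact ⟨cokernelIsoOfEq h0 ≪≫ cokernelZeroIsoTarget ≪≫ asIso (F p).arrow⟩

lemma isZero_grPiece_transport {X : ℤ → C} (fil : ∀ n, ℤ → Subobject (X n))
    (anti : ∀ n, Antitone (fil n)) (m n p' p : ℤ) (hm : m = n) (hp : p' = p)
    (h : IsZero (SpSeq.grPiece (fil m) (anti m) p')) : IsZero (SpSeq.grPiece (fil n) (anti n) p) := by
  subst hm hp
  exact h

lemma nonempty_iso_grPiece_transport {X : ℤ → C} (fil : ∀ n, ℤ → Subobject (X n))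
    (anti : ∀ n, Antitone (fil n)) (m n p' p : ℤ) (hm : m = n) (hp : p' = p) :
    Nonempty (SpSeq.grPiece (fil m) (anti m) p' ≅ SpSeq.grPiece (fil n) (anti n) p) := by
  subst hm hp
  exact ⟨Iso.refl _⟩

end


/-- Let E be a spectral sequence in an abelian category with abutment data (H^m), and suppose that for
some page r and every total degree m there is an integer q(m) such that E_r^{m-q,q} = 0 for every q
other than q(m). Let n be a total degree such that the filtration of H^n is discrete (some step is
zero) and exhaustive (H^n is the supremum of the steps), and such that the position (n - q(n), q(n))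
is stationary from page r on. Then H^n is isomorphic to E_r^{n-q(n), q(n)}. (The published statement
asserts this without any condition on the differentials at the surviving positions; that version
fails when a differential d_r links the surviving terms of two consecutive total degrees, for
instance a spectral sequence whose only nonzero page-2 terms are E_2^{0,1} and E_2^{2,0} with d_2 an
isomorphism between them and zero abutment. The stationarity assumed here is automatic when q(m)
does not depend on m and r ≥ 2.) -/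
theorem result {C : Type u} [Category.{v} C] [Abelian C] {r₀ : ℤ}
    (E : CohomologicalSpectralSequence C r₀) {H : ℤ → C} (a : SpSeq.Abutment E H)
    (r : ℤ) (hr : r₀ ≤ r) (q : ℤ → ℤ)
    (hdeg : ∀ m q' : ℤ, q' ≠ q m → IsZero ((E.page r hr).X (m - q', q')))
    (n : ℤ) (hdisc : (a.filObj n).IsDiscrete) (hexh : a.IsExhaustive n)
    (hst : SpSeq.StationaryAt E (n - q n, q n) r) :
    Nonempty (H n ≅ (E.page r hr).X (n - q n, q n)) := by
  set p₀ := n - q n with hp₀
  -- graded pieces away from p₀ vanish
  have hz : ∀ p, p ≠ p₀ → IsZero (SpSeq.grPiece (a.fil n) (a.anti n) p) := by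
    intro p hp
    have h1 := (Groth.Agent.S8355.result E r hr (n - (n - p), n - p)
      (hdeg n (n - p) (by intro h; apply hp; rw [hp₀, ← h]; ring))).2 H a
    exact isZero_grPiece_transport a.fil a.anti _ n _ p (by simp) (by simp) h1
  have heq : ∀ p, p ≠ p₀ → a.fil n p = a.fil n (p + 1) := fun p hp =>
    eq_succ_of_isZero_grPiece _ (a.anti n) p (hz p hp)
  -- the filtration vanishes above p₀
  have hbot : a.fil n (p₀ + 1) = ⊥ := by
    obtain ⟨b, hb⟩ := hdisc
    change a.fil n b = ⊥ at hb
    rcases le_total b (p₀ + 1) with hle | hle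
    · exact le_bot_iff.mp (hb ▸ a.anti n hle)
    · have : ∀ k, p₀ + 1 ≤ k → a.fil n (p₀ + 1) = a.fil n k := by
        intro k hk
        induction k, hk using Int.leInduction with
        | base => rfl
        | succ k hk ih => rw [ih, heq k (by lia)]
      rw [this b hle, hb]
  -- and is everything at p₀
  have htop : a.fil n p₀ = ⊤ := by
    have hle : ∀ k, k ≤ p₀ → a.fil n k = a.fil n p₀ := by
      intro k hk
      induction k, hk using Int.leInductionDown with
      | base => rfl
      | pred k hk ih => rw [heq (k - 1) (by lia), sub_add_cancel, ih]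
    have hub : a.fil n p₀ ∈ upperBounds (Set.range (a.fil n)) := by
      rintro _ ⟨k, rfl⟩
      rcases le_total k p₀ with h | h
      · exact (hle k h).le
      · exact a.anti n h
    exact top_le_iff.mp (hexh.2 hub)
  obtain ⟨e1⟩ := nonempty_iso_grPiece_of_top_bot (a.fil n) (a.anti n) p₀ htop hbot
  obtain ⟨e2⟩ := nonempty_iso_grPiece_transport a.fil a.anti
    (((p₀, q n) : ℤ × ℤ).1 + ((p₀, q n) : ℤ × ℤ).2) n
    ((p₀, q n) : ℤ × ℤ).1 p₀ (by simp [hp₀]) rfl
  have e3 : Nonempty ((E.page (a.rk (p₀, q n)) (a.stat (p₀, q n)).1).X (p₀, q n) ≅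
      (E.page r hr).X (p₀, q n)) := by
    rcases le_total (a.rk (p₀, q n)) r with hle | hle
    · exact Groth.Agent.S8355.nonempty_iso_of_stationary E (p₀, q n) _ (a.stat (p₀, q n)) r hle
    · obtain ⟨e⟩ := Groth.Agent.S8355.nonempty_iso_of_stationary E (p₀, q n) r hst _ hle
      exact ⟨e.symm⟩
  obtain ⟨e3⟩ := e3
  exact ⟨e1.symm ≪≫ e2.symm ≪≫ (a.β (p₀, q n)).symm ≪≫ e3⟩

end Groth.Agent.S8347
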