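import Groth.Statements.S8348
import Mathlib

set_option autoImplicit false
universe v u
open CategoryTheory CategoryTheory.Limits
open HomAlg3

namespace Groth.Agent.S8348

section
variable {C : Type u} [Category.{v} C] [Abelian C]

/-- The short complex `Z^i → Q^i → Z^{i+1}`. -/
noncomputable def sc (Q : CochainComplex C ℕ) (i : ℕ) : ShortComplex C :=
  ShortComplex.mk (Q.iCycles i) (Q.toCycles i (i+1)) (by
    rw [← cancel_mono (Q.iCycles (i+1))]
    simp)

lemma sc_exact (Q : CochainComplex C ℕ) (i : ℕ) : (sc Q i).Exact := by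
  apply ShortComplex.exact_of_f_is_kernel
  have hk := Q.cyclesIsKernel i (i+1) (by simp)
  exact isKernelOfComp (f := Q.toCycles i (i+1)) (Q.iCycles (i+1)) (Q.d i (i+1)) hk
    (sc Q i).zero (by simp)

lemma epi_toCycles (Q : CochainComplex C ℕ) (i : ℕ) (h : IsZero (Q.homology (i+1))) :
    Epi (Q.toCycles i (i+1)) := by
  have hc := Q.homologyIsCokernel i (i+1) (by simp)
  exact Preadditive.epi_of_isZero_cokernel' _ hc h

/-- the splitting -/
noncomputable def spl (Q : CochainComplex C ℕ) (hac : ∀ i : ℕ, IsZero (Q.homology (i + 1)))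
    (hsplit : ∀ i : ℕ, IsSplitMono (Q.iCycles i)) (i : ℕ) : (sc Q i).Splitting :=
  ShortComplex.Splitting.ofExactOfRetraction (sc Q i) (sc_exact Q i)
    (hsplit i).exists_splitMono.some.retraction (hsplit i).exists_splitMono.some.id
    (epi_toCycles Q i (hac i))

lemma exists_rs (Q : CochainComplex C ℕ) (hac : ∀ i : ℕ, IsZero (Q.homology (i + 1)))
    (hsplit : ∀ i : ℕ, IsSplitMono (Q.iCycles i)) (i : ℕ) :
    ∃ (r : Q.X i ⟶ Q.cycles i) (s : Q.cycles (i+1) ⟶ Q.X i),
      Q.iCycles i ≫ r = 𝟙 _ ∧ s ≫ Q.toCycles i (i+1) = 𝟙 _ ∧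
      r ≫ Q.iCycles i + Q.toCycles i (i+1) ≫ s = 𝟙 _ :=
  ⟨(spl Q hac hsplit i).r, (spl Q hac hsplit i).s, (spl Q hac hsplit i).f_r,
    (spl Q hac hsplit i).s_g, (spl Q hac hsplit i).id⟩

end


/-- Let C be an abelian category and Q a cochain complex of objects of C in degrees 0, 1, 2, ... such
that every Q^i is injective, every homology object H^i(Q) with i ≥ 1 is zero, and every inclusion of
the cycles Z^i(Q) into Q^i (i ≥ 0) is a split monomorphism. Then Q is an injective object of the
category of cochain complexes of C indexed by the natural numbers. (The published statement is for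
the narrower class of complexes with Z^i(Q) = B^i(Q) for every i ≥ 0, which in degree 0, where there
is no incoming differential, forces Z^0(Q) = 0; this row allows a nonzero Z^0(Q), so that it pairs
with the embedding of an arbitrary complex into such a Q. Such a Q is the direct sum of Z^0(Q)
placed in degree 0 and of the two-term complexes with Z^{i+1}(Q) in degrees i and i+1 and the
identity as differential, and the published argument carries over with Z^i(Q) in place of B^i(Q) as
the first summand of Q^i.) -/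
theorem result {C : Type u} [Category.{v} C] [Abelian C]
    (Q : CochainComplex C ℕ) (hinj : ∀ i : ℕ, Injective (Q.X i)) (hac : ∀ i : ℕ, IsZero (Q.homology (i + 1)))
    (hsplit : ∀ i : ℕ, IsSplitMono (Q.iCycles i)) : Injective Q := by
  classical
  choose r s h1 h2 h3 using exists_rs Q hac hsplit
  have hZ : ∀ i, Injective (Q.cycles i) := fun i =>
    Retract.injective (Y := Q.X i) ⟨Q.iCycles i, r i, h1 i⟩
  refine ⟨fun {A B} g f hf => ?_⟩
  have hmono : ∀ i, Mono (f.f i) := fun i => inferInstance
  let α : ∀ i, B.X i ⟶ Q.cycles i := fun i => Injective.factorThru (g.f i ≫ r i) (f.f i)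
  have hα : ∀ i, f.f i ≫ α i = g.f i ≫ r i := fun i => Injective.comp_factorThru _ _
  let hh : ∀ i, B.X i ⟶ Q.X i := fun i => α i ≫ Q.iCycles i + B.d i (i+1) ≫ α (i+1) ≫ s i
  have hcomm : ∀ i, hh i ≫ Q.d i (i+1) = B.d i (i+1) ≫ hh (i+1) := by
    intro i
    simp only [hh, Preadditive.add_comp, Preadditive.comp_add, Category.assoc,
      HomologicalComplex.iCycles_d, comp_zero, zero_add, HomologicalComplex.d_comp_d_assoc,
      zero_comp, add_zero]
    rw [← Q.toCycles_i i (i+1), reassoc_of% (h2 i)]
  refine ⟨⟨hh, ?_⟩, ?_⟩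
  · rintro i j (rfl : i + 1 = j)
    exact hcomm i
  · ext i
    simp only [HomologicalComplex.comp_f, hh, Preadditive.comp_add]
    rw [reassoc_of% (hα i), f.comm_assoc i (i+1), reassoc_of% (hα (i+1))]
    have : A.d i (i+1) ≫ g.f (i+1) ≫ r (i+1) = g.f i ≫ Q.toCycles i (i+1) := by
      rw [← g.comm_assoc, ← Q.toCycles_i i (i+1), Category.assoc, h1, Category.comp_id]
    rw [reassoc_of% this, ← Preadditive.comp_add, h3, Category.comp_id]

end Groth.Agent.S8348
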