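import Groth.Statements.S8349
import Mathlib

set_option autoImplicit false
universe v u
open CategoryTheory CategoryTheory.Limits
open HomAlg3

namespace Groth.Agent.S8349

section
variable {C : Type u} [Category.{v} C] [Abelian C]

/-- The complex with `Q^i = I i ⊞ I (i+1)` and differential `(x, y) ↦ (y, 0)`. -/
noncomputable def QQ (I : ℕ → C) : CochainComplex C ℕ :=
  CochainComplex.of (fun i => I i ⊞ I (i+1))
    (fun i => (biprod.snd : I i ⊞ I (i+1) ⟶ I (i+1)) ≫ (biprod.inl : I (i+1) ⟶ I (i+1) ⊞ I (i+2)))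
    (fun i => by simp)

variable (I : ℕ → C) (i : ℕ)

noncomputable def p1 : (QQ I).X i ⟶ I i := (biprod.fst : I i ⊞ I (i+1) ⟶ I i)
noncomputable def p2 : (QQ I).X i ⟶ I (i+1) := (biprod.snd : I i ⊞ I (i+1) ⟶ I (i+1))
noncomputable def j1 : I i ⟶ (QQ I).X i := (biprod.inl : I i ⟶ I i ⊞ I (i+1))
noncomputable def j2 : I (i+1) ⟶ (QQ I).X i := (biprod.inr : I (i+1) ⟶ I i ⊞ I (i+1))

@[reassoc (attr := simp)] lemma j1_p1 : j1 I i ≫ p1 I i = 𝟙 _ := biprod.inl_fst
@[reassoc (attr := simp)] lemma j1_p2 : j1 I i ≫ p2 I i = 0 := biprod.inl_snd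
@[reassoc (attr := simp)] lemma j2_p1 : j2 I i ≫ p1 I i = 0 := biprod.inr_fst
@[reassoc (attr := simp)] lemma j2_p2 : j2 I i ≫ p2 I i = 𝟙 _ := biprod.inr_snd
lemma total : p1 I i ≫ j1 I i + p2 I i ≫ j2 I i = 𝟙 _ := biprod.total

instance : Mono (j1 I i) := mono_of_mono_fac (j1_p1 I i)

lemma QQ_d : (QQ I).d i (i+1) = p2 I i ≫ j1 I (i+1) := by
  simp [QQ, p2, j1]

lemma hom_ext' {T : C} (a b : T ⟶ (QQ I).X i) (h1 : a ≫ p1 I i = b ≫ p1 I i)
    (h2 : a ≫ p2 I i = b ≫ p2 I i) : a = b :=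
  biprod.hom_ext _ _ h1 h2

lemma eq_of_p2_zero {T : C} (a : T ⟶ (QQ I).X i) (h : a ≫ p2 I i = 0) :
    a = a ≫ p1 I i ≫ j1 I i := by
  apply hom_ext' <;> simp [h]

lemma QQ_exact : IsZero ((QQ I).homology (i+1)) := by
  rw [← HomologicalComplex.exactAt_iff_isZero_homology,
    HomologicalComplex.exactAt_iff' _ i (i+1) (i+2) (by simp) (by simp),
    ShortComplex.exact_iff_exact_up_to_refinements]
  intro T x₂ hx₂
  change T ⟶ (QQ I).X (i+1) at x₂
  change x₂ ≫ (QQ I).d (i+1) (i+1+1) = 0 at hx₂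
  change ∃ (A' : C) (π : A' ⟶ T) (_ : Epi π) (x₁ : A' ⟶ (QQ I).X i), π ≫ x₂ = x₁ ≫ (QQ I).d i (i+1)
  rw [QQ_d] at hx₂
  have h0 : x₂ ≫ p2 I (i+1) = 0 := by
    rw [← cancel_mono (j1 I (i+1+1))]
    simpa using hx₂
  refine ⟨T, 𝟙 T, inferInstance, x₂ ≫ p1 I (i+1) ≫ j2 I i, ?_⟩
  rw [QQ_d, Category.id_comp]
  conv_lhs => rw [eq_of_p2_zero I (i+1) x₂ h0]
  simp

lemma QQ_split : IsSplitMono ((QQ I).iCycles i) := by
  have h0 : (QQ I).iCycles i ≫ p2 I i = 0 := by
    rw [← cancel_mono (j1 I (i+1))]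
    have := (QQ I).iCycles_d i (i+1)
    rw [QQ_d] at this
    simpa using this
  refine ⟨⟨⟨p1 I i ≫
    (QQ I).liftCycles (j1 I i) (i+1) (by simp) (by rw [QQ_d]; simp), ?_⟩⟩⟩
  rw [← cancel_mono ((QQ I).iCycles i)]
  simp only [Category.assoc, HomologicalComplex.liftCycles_i, Category.id_comp]
  exact (eq_of_p2_zero I i _ h0).symm

end


/-- Let C be an abelian category in which every object embeds in an injective object, and let A be a
cochain complex of objects of C in degrees 0, 1, 2, .... Then there are a cochain complex Q, with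
every Q^i injective, H^i(Q) = 0 for every i ≥ 1 and every cycle inclusion Z^i(Q) ⟶ Q^i (i ≥ 0) a
split monomorphism, and a monomorphism of complexes A ⟶ Q. (The published statement asks Z^i(Q) =
B^i(Q) for every i ≥ 0; in degree 0, where there is no incoming differential, this makes Z^0(Q) = 0,
and then no complex with nonzero degree-0 cycles, for instance a nonzero object placed in degree 0,
embeds in such a Q, because the degree-0 component of a chain map into Q factors through Z^0(Q).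
This row asks vanishing homology in positive degrees only; the published construction, which embeds
each A^i in an injective I^i and takes Q^i = I^i ⊕ I^{i+1}, proves that version once an injective
I^0 containing A^0 is used in degree 0 as well.) -/
theorem result {C : Type u} [Category.{v} C] [Abelian C]
    [EnoughInjectives C] (A : CochainComplex C ℕ) :
    ∃ (Q : CochainComplex C ℕ) (f : A ⟶ Q), Mono f ∧ (∀ i : ℕ, Injective (Q.X i)) ∧
      (∀ i : ℕ, IsZero (Q.homology (i + 1))) ∧ ∀ i : ℕ, IsSplitMono (Q.iCycles i) := by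
  let I : ℕ → C := fun i => Injective.under (A.X i)
  let ι : ∀ i, A.X i ⟶ I i := fun i => Injective.ι (A.X i)
  have hι : ∀ i, Mono (ι i) := fun i => inferInstance
  let ff : ∀ i, A.X i ⟶ (QQ I).X i := fun i => ι i ≫ j1 I i + (A.d i (i+1) ≫ ι (i+1)) ≫ j2 I i
  have hcomm : ∀ i j, (ComplexShape.up ℕ).Rel i j → ff i ≫ (QQ I).d i j = A.d i j ≫ ff j := by
    rintro i j (rfl : i + 1 = j)
    rw [QQ_d]
    simp [ff]
  refine ⟨QQ I, ⟨ff, hcomm⟩, ?_, ?_, QQ_exact I, QQ_split I⟩
  · apply HomologicalComplex.mono_of_mono_f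
    intro i
    have h : ff i ≫ p1 I i = ι i := by simp [ff]
    have : Mono (ff i ≫ p1 I i) := by rw [h]; infer_instance
    exact mono_of_mono (ff i) (p1 I i)
  · intro i
    change Injective (I i ⊞ I (i+1))
    infer_instance

end Groth.Agent.S8349
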