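import Groth.Statements.S8350
-- import your own Groth.Agent.* helpers here
import Groth.Agent.Lib.Helper83.Horseshoe

set_option autoImplicit false
universe v u
open CategoryTheory CategoryTheory.Limits
open HomAlg3

namespace Groth.Agent.S8350

set_option linter.unusedSectionVars false

variable {C : Type u} [Category.{v} C] [Abelian C]

lemma arrow_eq_zero_of_eq_bot {A : C} {X : Subobject A} (h : X = ⊥) : X.arrow = 0 := by
  subst h
  exact Subobject.bot_arrow

lemma eq_bot_of_arrow_eq_zero {A : C} {X : Subobject A} (h : X.arrow = 0) : X = ⊥ := by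
  rw [← Subobject.mk_arrow X]
  exact Subobject.mk_eq_bot_iff_zero.mpr h

lemma isIso_ofLE {A : C} (X Y : Subobject A) (h : X ≤ Y) (h' : Y ≤ X) :
    IsIso (Subobject.ofLE X Y h) :=
  ⟨⟨Subobject.ofLE Y X h', by rw [Subobject.ofLE_comp_ofLE, Subobject.ofLE_refl],
    by rw [Subobject.ofLE_comp_ofLE, Subobject.ofLE_refl]⟩⟩

/-- The filtration induced on a subobject. -/
noncomputable def filOn {A : C} (B : Subobject A) (fil : ℤ → Subobject A) (i : ℤ) :
    Subobject (B : C) :=
  Subobject.mk (Subobject.ofLE (fil i ⊓ B) B inf_le_right)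

lemma filOn_anti {A : C} (B : Subobject A) (fil : ℤ → Subobject A) (h : Antitone fil) :
    Antitone (filOn B fil) := by
  intro i i' hii'
  have hle : fil i' ⊓ B ≤ fil i ⊓ B := inf_le_inf_right B (h hii')
  exact Subobject.mk_le_mk_of_comm (Subobject.ofLE _ _ hle) (Subobject.ofLE_comp_ofLE _ _ _ _ _)

lemma filOn_top {A : C} (B : Subobject A) (fil : ℤ → Subobject A) (i : ℤ) (h : B ≤ fil i) :
    filOn B fil i = ⊤ := by
  have : IsIso (Subobject.ofLE (fil i ⊓ B) B inf_le_right) :=
    isIso_ofLE _ _ _ (le_inf h le_rfl)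
  exact Subobject.mk_eq_top_of_isIso _

lemma filOn_bot {A : C} (B : Subobject A) (fil : ℤ → Subobject A) (i : ℤ) (h : fil i = ⊥) :
    filOn B fil i = ⊥ := by
  apply Subobject.mk_eq_bot_iff_zero.mpr
  rw [← cancel_mono B.arrow, Subobject.ofLE_arrow, zero_comp]
  apply arrow_eq_zero_of_eq_bot
  rw [h, bot_inf_eq]

/-- For `fil i ≤ B`, the `i`-th step of the induced filtration is the `i`-th step. -/
noncomputable def filOnIso {A : C} (B : Subobject A) (fil : ℤ → Subobject A) (i : ℤ)
    (h : fil i ≤ B) : (filOn B fil i : C) ≅ (fil i : C) :=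
  Subobject.underlyingIso _ ≪≫ Subobject.isoOfEq _ _ (inf_eq_left.mpr h)

lemma filOnIso_hom_arrow {A : C} (B : Subobject A) (fil : ℤ → Subobject A) (i : ℤ)
    (h : fil i ≤ B) :
    (filOnIso B fil i h).hom ≫ (fil i).arrow = (filOn B fil i).arrow ≫ B.arrow := by
  unfold filOnIso filOn
  rw [Iso.trans_hom, Category.assoc]
  have h2 : (Subobject.isoOfEq (fil i ⊓ B) (fil i) (inf_eq_left.mpr h)).hom ≫ (fil i).arrow =
      (fil i ⊓ B).arrow := Subobject.ofLE_arrow _
  rw [h2, ← Subobject.ofLE_arrow (inf_le_right : fil i ⊓ B ≤ B), ← Category.assoc,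
    Subobject.underlyingIso_hom_comp_eq_mk]

lemma filOnIso_inv_arrow {A : C} (B : Subobject A) (fil : ℤ → Subobject A) (i : ℤ)
    (h : fil i ≤ B) :
    (filOnIso B fil i h).inv ≫ (filOn B fil i).arrow ≫ B.arrow = (fil i).arrow := by
  rw [← filOnIso_hom_arrow B fil i h, Iso.inv_hom_id_assoc]

open CochainComplex in
/-- A filtered injective resolution of `(A, fil)`. -/
structure FilRes (A : C) (fil : ℤ → Subobject A) where
  X : InjectiveResolution A
  G : ℤ → Subobject X.cocomplex
  anti : Antitone G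
  top : ∀ i, fil i = ⊤ → G i = ⊤
  bot : ∀ i, fil i = ⊥ → G i = ⊥
  inj : ∀ i j, Injective ((G i : CochainComplex C ℕ).X j)
  res : ∀ i, ∃ ι : (single₀ C).obj (fil i : C) ⟶ (G i : CochainComplex C ℕ),
      ι ≫ (G i).arrow = (single₀ C).map (fil i).arrow ≫ X.ι ∧ QuasiIso ι

open CochainComplex

lemma inj_top {K : CochainComplex C ℕ} (h : ∀ j, Injective (K.X j)) (j : ℕ) :
    Injective (((⊤ : Subobject K) : CochainComplex C ℕ).X j) :=
  Injective.of_iso ((HomologicalComplex.eval C _ j).mapIso (asIso (⊤ : Subobject K).arrow).symm) (h j)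

lemma inj_mk {K L : CochainComplex C ℕ} (f : K ⟶ L) [Mono f] (h : ∀ j, Injective (K.X j)) (j : ℕ) :
    Injective ((Subobject.mk f : CochainComplex C ℕ).X j) :=
  Injective.of_iso ((HomologicalComplex.eval C _ j).mapIso (Subobject.underlyingIso f).symm) (h j)

lemma res_top {A : C} (X : InjectiveResolution A) (S : Subobject A) (hS : S = ⊤) :
    ∃ ι : (single₀ C).obj (S : C) ⟶ ((⊤ : Subobject X.cocomplex) : CochainComplex C ℕ),
      ι ≫ (⊤ : Subobject X.cocomplex).arrow = (single₀ C).map S.arrow ≫ X.ι ∧ QuasiIso ι := by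
  have : IsIso S.arrow := (Subobject.isIso_arrow_iff_eq_top S).mpr hS
  refine ⟨((single₀ C).map S.arrow ≫ X.ι) ≫ inv (⊤ : Subobject X.cocomplex).arrow, by simp, ?_⟩
  infer_instance

lemma res_mk {A : C} {B : Subobject A} {fil : ℤ → Subobject A} (i : ℤ) (h : fil i ≤ B)
    (XB : InjectiveResolution (B : C)) (X : InjectiveResolution A)
    (f : XB.cocomplex ⟶ X.cocomplex) [Mono f]
    (hf : XB.ι ≫ f = (single₀ C).map B.arrow ≫ X.ι) (GB : Subobject XB.cocomplex)
    (ιB : (single₀ C).obj (filOn B fil i : C) ⟶ (GB : CochainComplex C ℕ))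
    (hιB : ιB ≫ GB.arrow = (single₀ C).map (filOn B fil i).arrow ≫ XB.ι) [QuasiIso ιB] :
    ∃ ι : (single₀ C).obj (fil i : C) ⟶ (Subobject.mk (GB.arrow ≫ f) : CochainComplex C ℕ),
      ι ≫ (Subobject.mk (GB.arrow ≫ f)).arrow = (single₀ C).map (fil i).arrow ≫ X.ι ∧
        QuasiIso ι := by
  refine ⟨(single₀ C).map (filOnIso B fil i h).inv ≫ ιB ≫
    (Subobject.underlyingIso (GB.arrow ≫ f)).inv, ?_, ?_⟩
  · calc ((single₀ C).map (filOnIso B fil i h).inv ≫ ιB ≫
          (Subobject.underlyingIso (GB.arrow ≫ f)).inv) ≫ (Subobject.mk (GB.arrow ≫ f)).arrow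
        = (single₀ C).map (filOnIso B fil i h).inv ≫ (ιB ≫ GB.arrow) ≫ f := by
          simp only [Category.assoc, Subobject.underlyingIso_arrow]
      _ = (single₀ C).map (filOnIso B fil i h).inv ≫
            (single₀ C).map (filOn B fil i).arrow ≫ (single₀ C).map B.arrow ≫ X.ι := by
          rw [hιB, Category.assoc, hf]
      _ = (single₀ C).map (fil i).arrow ≫ X.ι := by
          rw [← Functor.map_comp_assoc, ← Functor.map_comp_assoc, Category.assoc,
            filOnIso_inv_arrow]
  · infer_instance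

/-- The zero case. -/
noncomputable def zeroFilRes (A : C) (fil : ℤ → Subobject A) (hA : IsZero A) : FilRes A fil :=
  have hZ : IsZero ((single₀ C).obj A) := Functor.map_isZero _ hA
  have hinj : ∀ n, Injective (((single₀ C).obj A).X n) := fun n =>
    Injective.of_iso ((Functor.map_isZero (HomologicalComplex.eval C _ n) hZ).isoZero).symm
      inferInstance
  have hsub : Subsingleton (Subobject A) := Subobject.subsingleton_of_isZero hA
  have hsub' : Subsingleton (Subobject ((single₀ C).obj A)) := Subobject.subsingleton_of_isZero hZ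
  let X : InjectiveResolution A :=
    { cocomplex := (single₀ C).obj A
      injective := hinj
      ι := 𝟙 _ }
  { X := X
    G := fun _ => ⊤
    anti := fun _ _ _ => le_rfl
    top := fun _ _ => rfl
    bot := fun _ _ => Subsingleton.elim _ _
    inj := fun _ j => inj_top hinj j
    res := fun i => res_top X (fil i) (Subsingleton.elim _ _) }

section Step

open Groth.Agent.Lib.Helper83 Classical

variable {A : C} {fil : ℤ → Subobject A} {B : Subobject A}
  (RB : FilRes (B : C) (filOn B fil)) (X : InjectiveResolution A)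
  (f : RB.X.cocomplex ⟶ X.cocomplex) [Mono f]

/-- The filtration on the middle resolution. -/
noncomputable def stepG (i : ℤ) : Subobject X.cocomplex :=
  if fil i = ⊤ then ⊤ else Subobject.mk ((RB.G i).arrow ≫ f)

lemma stepG_pos (i : ℤ) (hi : fil i = ⊤) : stepG RB X f i = ⊤ := if_pos hi

lemma stepG_neg (i : ℤ) (hi : fil i ≠ ⊤) :
    stepG RB X f i = Subobject.mk ((RB.G i).arrow ≫ f) := if_neg hi

lemma stepG_anti (hanti : Antitone fil) : Antitone (stepG RB X f) := by
  intro i i' hii'
  by_cases hi : fil i = ⊤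
  · rw [stepG_pos RB X f i hi]
    exact le_top
  · have hi' : fil i' ≠ ⊤ := fun h => hi (top_le_iff.mp (h ▸ hanti hii'))
    rw [stepG_neg RB X f i hi, stepG_neg RB X f i' hi']
    exact Subobject.mk_le_mk_of_comm (Subobject.ofLE _ _ (RB.anti hii'))
      (by rw [← Category.assoc, Subobject.ofLE_arrow])

lemma stepG_bot (h1 : B ≠ ⊤) (i : ℤ) (hi : fil i = ⊥) : stepG RB X f i = ⊥ := by
  have hne : fil i ≠ ⊤ := fun h => h1 (by
    have hsub : ∀ S T : Subobject A, S ≤ T := fun S T =>
      (le_top.trans_eq h.symm).trans (hi.le.trans bot_le)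
    exact le_antisymm (hsub _ _) (hsub _ _))
  rw [stepG_neg RB X f i hne]
  apply Subobject.mk_eq_bot_iff_zero.mpr
  rw [arrow_eq_zero_of_eq_bot (RB.bot i (filOn_bot B fil i hi)), zero_comp]

lemma stepG_inj (i : ℤ) (j : ℕ) :
    Injective ((stepG RB X f i : CochainComplex C ℕ).X j) := by
  by_cases hi : fil i = ⊤
  · rw [stepG_pos RB X f i hi]
    exact inj_top (fun j => inferInstance) j
  · rw [stepG_neg RB X f i hi]
    exact inj_mk _ (RB.inj i) j

lemma stepG_res (hf : RB.X.ι ≫ f = (single₀ C).map B.arrow ≫ X.ι)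
    (hle : ∀ i, fil i ≠ ⊤ → fil i ≤ B) (i : ℤ) :
    ∃ ι : (single₀ C).obj (fil i : C) ⟶ (stepG RB X f i : CochainComplex C ℕ),
      ι ≫ (stepG RB X f i).arrow = (single₀ C).map (fil i).arrow ≫ X.ι ∧ QuasiIso ι := by
  by_cases hi : fil i = ⊤
  · rw [stepG_pos RB X f i hi]
    exact res_top X (fil i) hi
  · rw [stepG_neg RB X f i hi]
    obtain ⟨ιB, hιB, hq⟩ := RB.res i
    exact res_mk i (hle i hi) RB.X X f hf (RB.G i) ιB hιB

end Step

open Groth.Agent.Lib.Helper83 in
/-- The inductive step: from a filtered resolution of `B = fil (a+1)` to one of `A`. -/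
theorem stepFilRes [EnoughInjectives C] (A : C) (fil : ℤ → Subobject A)
    (hanti : Antitone fil) (a : ℤ) (ha : fil a = ⊤) (h1 : fil (a + 1) ≠ ⊤)
    (RB : FilRes (fil (a + 1) : C) (filOn (fil (a + 1)) fil)) : Nonempty (FilRes A fil) := by
  let B := fil (a + 1)
  let S : ShortComplex C := ShortComplex.mk B.arrow (cokernel.π B.arrow) (cokernel.condition _)
  have hS : S.ShortExact :=
    { exact := ShortComplex.exact_cokernel _
      mono_f := inferInstanceAs (Mono B.arrow)
      epi_g := inferInstanceAs (Epi (cokernel.π B.arrow)) }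
  let I₃ : InjectiveResolution S.X₃ := injectiveResolution S.X₃
  let X : InjectiveResolution A := Horseshoe.midRes hS RB.X I₃
  let f : RB.X.cocomplex ⟶ X.cocomplex := Horseshoe.fMap hS RB.X I₃
  have hfmono : Mono f := (Horseshoe.shortExact_mid hS RB.X I₃).mono_f
  have hf : RB.X.ι ≫ f = (CochainComplex.single₀ C).map B.arrow ≫ X.ι :=
    Horseshoe.ι_fMap hS RB.X I₃
  have hle : ∀ i, fil i ≠ ⊤ → fil i ≤ B := fun i hi => by
    by_contra hcon
    apply hi
    have : i ≤ a := by
      by_contra h2
      exact hcon (hanti (by omega))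
    exact top_le_iff.mp (ha ▸ hanti this)
  exact ⟨{ X := X
           G := stepG RB X f
           anti := stepG_anti RB X f hanti
           top := stepG_pos RB X f
           bot := stepG_bot RB X f h1
           inj := stepG_inj RB X f
           res := stepG_res RB X f hf hle }⟩

theorem exists_filRes [EnoughInjectives C] (m : ℕ) : ∀ (A : C) (fil : ℤ → Subobject A),
    Antitone fil → ∀ a : ℤ, fil a = ⊤ → fil (a + m) = ⊥ → Nonempty (FilRes A fil) := by
  induction m with
  | zero =>
    intro A fil _ a ha hb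
    rw [Nat.cast_zero, add_zero, ha] at hb
    have h0 : (⊤ : Subobject A).arrow = 0 := arrow_eq_zero_of_eq_bot hb
    have hA : IsZero A := by
      rw [IsZero.iff_id_eq_zero]
      calc 𝟙 A = inv (⊤ : Subobject A).arrow ≫ (⊤ : Subobject A).arrow :=
            (IsIso.inv_hom_id _).symm
        _ = inv (⊤ : Subobject A).arrow ≫ 0 := congrArg (fun z => inv (⊤ : Subobject A).arrow ≫ z) h0
        _ = 0 := comp_zero
    exact ⟨zeroFilRes A fil hA⟩
  | succ m ih =>
    intro A fil hanti a ha hb
    have e : a + 1 + (m : ℤ) = a + ((m + 1 : ℕ) : ℤ) := by omega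
    by_cases h1 : fil (a + 1) = ⊤
    · exact ih A fil hanti (a + 1) h1 (by rw [e]; exact hb)
    · obtain ⟨RB⟩ := ih (fil (a + 1) : C) (filOn (fil (a + 1)) fil)
        (filOn_anti _ fil hanti) (a + 1) (filOn_top _ fil (a + 1) le_rfl)
        (filOn_bot _ fil _ (by rw [e]; exact hb))
      exact stepFilRes A fil hanti a ha h1 RB

end Groth.Agent.S8350

namespace Groth.Agent.S8350

/-- Let C be an abelian category in which every object embeds in an injective object, and let A be an
object of C with a finite decreasing filtration (F^i A). Then there are an injective resolution X of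
A and a decreasing filtration of X by subcomplexes F^i X such that F^i X = X when F^i A = A, F^i X =
0 when F^i A = 0, and, for every i, F^i X is a complex of injective objects into which F^i A (placed
in degree 0) maps, compatibly with the augmentation A ⟶ X, by a quasi-isomorphism; thus F^i X is an
injective resolution of F^i A. -/
theorem result {C : Type u} [Category.{v} C] [Abelian C] [EnoughInjectives C]
    (K : SpSeq.FilObj C) (hK : K.IsFinite) :
    ∃ (X : InjectiveResolution K.obj) (G : ℤ → Subobject X.cocomplex), Antitone G ∧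
      (∀ i : ℤ, K.fil i = ⊤ → G i = ⊤) ∧ (∀ i : ℤ, K.fil i = ⊥ → G i = ⊥) ∧
      ∀ i : ℤ, (∀ j : ℕ, Injective ((G i : CochainComplex C ℕ).X j)) ∧
        ∃ ι : (CochainComplex.single₀ C).obj (K.step i) ⟶ (G i : CochainComplex C ℕ),
          ι ≫ (G i).arrow = (CochainComplex.single₀ C).map (K.fil i).arrow ≫ X.ι ∧ QuasiIso ι := by
  obtain ⟨⟨a, ha⟩, ⟨b, hb⟩⟩ := hK
  have hbot : K.fil (a + ((b - a).toNat : ℤ)) = ⊥ := by
    by_cases hab : a ≤ b
    · have e : a + ((b - a).toNat : ℤ) = b := by omega
      rw [e]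
      exact hb
    · have e : a + ((b - a).toNat : ℤ) = a := by omega
      rw [e]
      exact le_bot_iff.mp (hb ▸ K.anti (by omega : b ≤ a))
  obtain ⟨R⟩ := exists_filRes (b - a).toNat K.obj K.fil K.anti a ha hbot
  exact ⟨R.X, R.G, R.anti, R.top, R.bot, fun i => ⟨R.inj i, R.res i⟩⟩

end Groth.Agent.S8350
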