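import Groth.Statements.S8352
-- import your own Groth.Agent.* helpers here

set_option autoImplicit false
universe u
open CategoryTheory CategoryTheory.Limits Opposite
open HomAlg3

namespace Groth.Agent.S8352

section aux

variable {G : ℕᵒᵖ ⥤ Type u}
  (hG : ∀ n, Function.Surjective (G.map (homOfLE (Nat.le_succ n)).op))

/-- successive preimages of an element of `G_p` -/
noncomputable def pre (p : ℕ) (a : G.obj ⟨p⟩) : (n : ℕ) → G.obj ⟨p + n⟩
  | 0 => a
  | n + 1 => (hG (p + n) (pre p a n)).choose

lemma pre_succ (p : ℕ) (a : G.obj ⟨p⟩) (n : ℕ) :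
    G.map (homOfLE (Nat.le_succ (p + n))).op (pre hG p a (n + 1)) = pre hG p a n :=
  (hG (p + n) _).choose_spec

lemma pre_map (p : ℕ) (a : G.obj ⟨p⟩) (k l : ℕ) (h : k ≤ l) :
    G.map (homOfLE (Nat.add_le_add_left h p)).op (pre hG p a l) = pre hG p a k := by
  induction h with
  | refl =>
    have : (homOfLE (Nat.add_le_add_left (le_refl k) p)).op = 𝟙 (op (p + k)) := Subsingleton.elim _ _
    rw [this, Functor.map_id_apply]
  | @step m h ih =>
    have h' : k ≤ m := h
    have : (homOfLE (Nat.add_le_add_left (Nat.le.step h) p)).op =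
        (homOfLE (Nat.le_succ (p + m))).op ≫ (homOfLE (Nat.add_le_add_left h' p)).op :=
      Subsingleton.elim _ _
    rw [this, Functor.map_comp_apply, pre_succ, ih]

include hG in
lemma exists_section_of_surjective (p : ℕ) (a : G.obj ⟨p⟩) :
    ∃ s : G.sections, s.1 ⟨p⟩ = a := by
  refine ⟨⟨fun n => G.map (homOfLE (Nat.le_add_left n.unop p)).op (pre hG p a n.unop), ?_⟩, ?_⟩
  · intro j j' f
    have h : j'.unop ≤ j.unop := leOfHom f.unop
    beta_reduce
    rw [← pre_map hG p a _ _ h, ← Functor.map_comp_apply, ← Functor.map_comp_apply]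
    congr 1
  · exact pre_map hG p a 0 p (Nat.zero_le p)

end aux

lemma mem_range_limit_π_iff (F : ℕᵒᵖ ⥤ AddCommGrpCat.{u})
    (hF : (F ⋙ forget AddCommGrpCat).IsMittagLeffler) (p : ℕ) (x : F.obj (op p)) :
    x ∈ (limit.π F (op p)).hom.range ↔
      ∀ (k : ℕ) (hk : p ≤ k), x ∈ (F.map (homOfLE hk).op).hom.range := by
  constructor
  · rintro ⟨y, rfl⟩ k hk
    refine ⟨(limit.π F (op k)).hom y, ?_⟩
    have := limit.w F (homOfLE hk).op
    rw [← this]
    rfl
  · intro h
    set G0 := F ⋙ forget AddCommGrpCat with hG0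
    have hx : x ∈ G0.eventualRange (op p) := by
      rw [Functor.mem_eventualRange_iff]
      intro i f
      have hk : p ≤ i.unop := leOfHom f.unop
      obtain ⟨y, hy⟩ := h i.unop hk
      refine ⟨y, ?_⟩
      have : f = (homOfLE hk).op := Subsingleton.elim _ _
      rw [this]
      exact hy
    have hsurj : ∀ n, Function.Surjective
        (G0.toEventualRanges.map (homOfLE (Nat.le_succ n)).op) :=
      fun n => G0.surjective_toEventualRanges hF _
    obtain ⟨s, hs⟩ := exists_section_of_surjective hsurj p ⟨x, hx⟩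
    let s' : G0.sections := G0.toEventualRangesSectionsEquiv s
    have hs' : s'.1 (op p) = x := by
      have := congrArg Subtype.val hs
      exact this
    let t := isLimitOfPreserves (forget AddCommGrpCat) (limit.isLimit F)
    refine ⟨(Types.isLimitEquivSections t).symm s', ?_⟩
    have := Types.isLimitEquivSections_symm_apply t s' (op p)
    rw [hs'] at this
    exact this

theorem result (F : ℕᵒᵖ ⥤ AddCommGrpCat.{u})
    (hF : (F ⋙ forget AddCommGrpCat).IsMittagLeffler) :
    (limit.π F (op 0)).hom.range = ⨅ k : ℕ, (F.map (homOfLE (Nat.zero_le k)).op).hom.range ∧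
      ∀ p : ℕ, (limit.π F (op (p + 1))).hom.range ⊓ (F.map (homOfLE (Nat.le_succ p)).op).hom.ker =
        ⨅ (k : ℕ) (hk : p + 1 ≤ k),
          (F.map (homOfLE hk).op).hom.range ⊓ (F.map (homOfLE (Nat.le_succ p)).op).hom.ker := by
  constructor
  · ext x
    rw [mem_range_limit_π_iff F hF, AddSubgroup.mem_iInf]
    exact ⟨fun h k => h k (Nat.zero_le k), fun h k _ => h k⟩
  · intro p
    ext x
    rw [AddSubgroup.mem_inf, mem_range_limit_π_iff F hF]
    simp only [AddSubgroup.mem_iInf, AddSubgroup.mem_inf]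
    constructor
    · rintro ⟨h1, h2⟩ k hk
      exact ⟨h1 k hk, h2⟩
    · intro h
      exact ⟨fun k hk => (h k hk).1, (h (p + 1) le_rfl).2⟩

end Groth.Agent.S8352
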