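import Groth.Statements.S8353
import Mathlib

set_option autoImplicit false
universe u
open HomAlg3

namespace Groth.Agent.S8353

section series

variable {S : Type*} [CommRing S] (J : Ideal S) {M : Type*} [AddCommGroup M] [Module S M]
  (G : ℕ → Submodule S M) (hG1 : ∀ n, J • G n ≤ G (n + 1))
  (hG2 : ∀ n, G (n + 1) ≤ J • G n ⊔ G (n + 2))
  {r : ℕ} (x : Fin r → M) (hx : ∀ i, x i ∈ G 0)
  (hgen : G 0 ≤ Submodule.span S (Set.range x) ⊔ G 1)

include hG1 in
lemma pow_smul_le (n k : ℕ) : J ^ k • G n ≤ G (n + k) := by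
  induction k with
  | zero => simp
  | succ k ih =>
    rw [pow_succ', Submodule.mul_smul]
    calc J • J ^ k • G n ≤ J • G (n + k) := Submodule.smul_mono le_rfl ih
      _ ≤ G (n + k + 1) := hG1 _

include hG1 hG2 hgen in
lemma le_pow_smul_sup (k : ℕ) :
    G k ≤ J ^ k • Submodule.span S (Set.range x) ⊔ G (k + 1) := by
  induction k with
  | zero => simpa using hgen
  | succ k ih =>
    calc G (k + 1) ≤ J • G k ⊔ G (k + 2) := hG2 k
      _ ≤ J • (J ^ k • Submodule.span S (Set.range x) ⊔ G (k + 1)) ⊔ G (k + 2) :=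
        sup_le_sup_right (Submodule.smul_mono le_rfl ih) _
      _ = J ^ (k + 1) • Submodule.span S (Set.range x) ⊔ J • G (k + 1) ⊔ G (k + 2) := by
        rw [Submodule.smul_sup, ← Submodule.mul_smul, ← pow_succ']
      _ ≤ J ^ (k + 1) • Submodule.span S (Set.range x) ⊔ G (k + 1 + 1) := by
        refine sup_le (sup_le le_sup_left ?_) le_sup_right
        exact (hG1 (k + 1)).trans le_sup_right

include hG1 hG2 hgen in
lemma exists_coeff (k : ℕ) (z : M) (hz : z ∈ G k) :
    ∃ c : Fin r → S, (∀ i, c i ∈ J ^ k) ∧ z - ∑ i, c i • x i ∈ G (k + 1) := by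
  have := le_pow_smul_sup J G hG1 hG2 x hgen k hz
  obtain ⟨w, hw, z', hz', rfl⟩ := Submodule.mem_sup.mp this
  rw [Submodule.mem_ideal_smul_span_iff_exists_sum] at hw
  obtain ⟨a, ha, rfl⟩ := hw
  refine ⟨a, ha, ?_⟩
  have hs : (a.sum fun i c => c • x i) = ∑ i, a i • x i :=
    Finsupp.sum_fintype a (fun i c => c • x i) (fun i => zero_smul _ _)
  rw [hs]
  simpa using hz'


include hG1 hG2 hgen hx in
lemma series [IsPrecomplete J S] (hanti : Antitone G) (hsep : ∀ z, (∀ n, z ∈ G n) → z = 0)
    (k₀ : ℕ) (y : M) (hy : y ∈ G k₀) :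
    ∃ a : Fin r → S, (∀ i, a i ∈ J ^ k₀) ∧ y = ∑ i, a i • x i := by
  choose C hC1 hC2 using exists_coeff J G hG1 hG2 x hgen
  let Y : (n : ℕ) → {z : M // z ∈ G (k₀ + n)} := fun n =>
    Nat.rec (motive := fun n => {z : M // z ∈ G (k₀ + n)}) ⟨y, hy⟩
      (fun n z => ⟨z.1 - ∑ i, C (k₀ + n) z.1 z.2 i • x i, hC2 _ _ _⟩) n
  let c : ℕ → Fin r → S := fun n => C (k₀ + n) (Y n).1 (Y n).2
  have hY : ∀ n, (Y (n + 1)).1 = (Y n).1 - ∑ i, c n i • x i := fun n => rfl
  have hY0 : (Y 0).1 = y := rfl
  have hc : ∀ n i, c n i ∈ J ^ (k₀ + n) := fun n i => hC1 _ _ _ i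
  let s : ℕ → Fin r → S := fun n i => ∑ m ∈ Finset.range n, c m i
  have hs0 : ∀ i, s 0 i = 0 := fun i => by simp [s]
  have hss : ∀ n i, s (n + 1) i = s n i + c n i := fun n i => by simp [s, Finset.sum_range_succ]
  -- telescoping
  have htel : ∀ n, y = ∑ i, s n i • x i + (Y n).1 := by
    intro n
    induction n with
    | zero => simp [hs0, hY0]
    | succ n ih =>
      rw [hY]
      simp_rw [hss, add_smul, Finset.sum_add_distrib]
      rw [ih]
      abel
  -- differences
  have hdiff : ∀ m n, m ≤ n → ∀ i, s n i - s m i ∈ J ^ (k₀ + m) := by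
    intro m n hmn i
    induction n, hmn using Nat.le_induction with
    | base => simp
    | succ n hmn ih =>
      rw [hss]
      have : s n i + c n i - s m i = (s n i - s m i) + c n i := by ring
      rw [this]
      refine Ideal.add_mem _ ih ?_
      exact Ideal.pow_le_pow_right (by omega) (hc n i)
  -- limits
  have hlim : ∀ i, ∃ L : S, ∀ n, s n i ≡ L [SMOD (J ^ n • ⊤ : Submodule S S)] := by
    intro i
    refine IsPrecomplete.prec' (fun n => s n i) ?_
    intro m n hmn
    rw [SModEq.sub_mem, smul_eq_mul, Ideal.mul_top]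
    have := hdiff m n hmn i
    have h2 : s m i - s n i = -(s n i - s m i) := by ring
    rw [h2]
    exact Ideal.neg_mem_iff _ |>.mpr (Ideal.pow_le_pow_right (by omega) this)
  choose a ha using hlim
  have ha' : ∀ n i, a i - s n i ∈ J ^ (k₀ + n) := by
    intro n i
    have h1 := ha i (k₀ + n)
    rw [SModEq.sub_mem, smul_eq_mul, Ideal.mul_top] at h1
    have h2 := hdiff n (k₀ + n) (by omega) i
    have : a i - s n i = -(s (k₀ + n) i - a i) + (s (k₀ + n) i - s n i) := by ring
    rw [this]
    exact Ideal.add_mem _ (Ideal.neg_mem_iff _ |>.mpr h1) h2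
  refine ⟨a, fun i => by simpa [hs0] using ha' 0 i, ?_⟩
  have hzero : y - ∑ i, a i • x i = 0 := by
    apply hsep
    intro n
    have hn : y - ∑ i, a i • x i ∈ G (k₀ + n) := by
      have e : y - ∑ i, a i • x i = (Y n).1 - ∑ i, (a i - s n i) • x i := by
        conv_lhs => rw [htel n]
        simp_rw [sub_smul, Finset.sum_sub_distrib]
        abel
      rw [e]
      refine Submodule.sub_mem _ (Y n).2 (Submodule.sum_mem _ fun i _ => ?_)
      have h3 : (a i - s n i) • x i ∈ J ^ (k₀ + n) • G 0 :=
        Submodule.smul_mem_smul (ha' n i) (hx i)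
      have h4 := pow_smul_le J G hG1 0 (k₀ + n) h3
      simpa using h4
    exact hanti (by omega : n ≤ k₀ + n) hn
  exact sub_eq_zero.mp hzero

end series


/-- Let S be a Noetherian ring which is separated and complete for the adic topology of an ideal J, and
let M be an S-module with a decreasing filtration (F^p M)_{p ∈ ℤ} by submodules such that F^p M = M
for some p, J·F^p M ⊆ F^{p+1} M for all p, and ⋂_p F^p M = 0. Then the following are equivalent: (a)
M is a finitely generated S-module and J·F^p M = F^{p+1} M for all large p; (c) every F^p M /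
F^{p+1} M is a finitely generated S-module and, for all large p, the map J ⊗ (F^p M/F^{p+1} M) ⟶
F^{p+1} M/F^{p+2} M is surjective, that is F^{p+1} M = J·F^p M + F^{p+2} M. (The published statement
also lists a third equivalent condition, finite generation of the associated graded module over the
associated graded ring; this row states the equivalence of the other two.) -/
theorem result {S : Type u} [CommRing S] [IsNoetherianRing S]
    (J : Ideal S) [IsAdicComplete J S] {M : Type u} [AddCommGroup M] [Module S M]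
    (F : ℤ → Submodule S M) (hF : Antitone F) (hcod : ∃ p₀ : ℤ, F p₀ = ⊤)
    (hJ : ∀ p : ℤ, J • F p ≤ F (p + 1)) (hsep : ⨅ p : ℤ, F p = ⊥) :
    (Module.Finite S M ∧ ∃ p₁ : ℤ, ∀ p : ℤ, p₁ ≤ p → J • F p = F (p + 1)) ↔
      ((∀ p : ℤ, (Submodule.map (F (p + 1)).mkQ (F p)).FG) ∧
        ∃ p₁ : ℤ, ∀ p : ℤ, p₁ ≤ p → F (p + 1) = J • F p ⊔ F (p + 2)) := by
  constructor
  · rintro ⟨hfin, p₁, hp₁⟩
    have : IsNoetherian S M := isNoetherian_of_isNoetherianRing_of_finite S M
    refine ⟨fun p => (IsNoetherian.noetherian (F p)).map _, p₁, fun p hp => ?_⟩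
    rw [hp₁ p hp]
    exact (sup_eq_left.mpr (hF (by omega))).symm
  · rintro ⟨hgr, p₁, hp₁⟩
    have key : ∀ q : ℤ, p₁ ≤ q → ∃ (r : ℕ) (x : Fin r → M), (∀ i, x i ∈ F q) ∧
        ∀ (k₀ : ℕ), ∀ y ∈ F (q + k₀), ∃ a : Fin r → S, (∀ i, a i ∈ J ^ k₀) ∧
          y = ∑ i, a i • x i := by
      intro q hq
      -- generators of the graded piece
      obtain ⟨r, s, hs⟩ := Submodule.fg_iff_exists_fin_generating_family.mp (hgr q)
      have hsmem : ∀ i, s i ∈ Submodule.map (F (q + 1)).mkQ (F q) := fun i => by
        rw [← hs]; exact Submodule.subset_span ⟨i, rfl⟩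
      choose x hxF hxs using hsmem
      refine ⟨r, x, hxF, ?_⟩
      let G : ℕ → Submodule S M := fun n => F (q + n)
      have hG1 : ∀ n, J • G n ≤ G (n + 1) := by
        intro n
        have := hJ (q + n)
        simpa [G, add_assoc] using this
      have hG2 : ∀ n, G (n + 1) ≤ J • G n ⊔ G (n + 2) := by
        intro n
        have := hp₁ (q + n) (by omega)
        have e1 : q + (n : ℤ) + 1 = q + ((n + 1 : ℕ) : ℤ) := by push_cast; ring
        have e2 : q + (n : ℤ) + 2 = q + ((n + 2 : ℕ) : ℤ) := by push_cast; ring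
        rw [e1, e2] at this
        exact this.le
      have hgen : G 0 ≤ Submodule.span S (Set.range x) ⊔ G 1 := by
        intro y hy
        have hy' : y ∈ F q := by simpa [G] using hy
        have h1 : (F (q + 1)).mkQ y ∈ Submodule.map (F (q + 1)).mkQ (F q) :=
          Submodule.mem_map_of_mem hy'
        rw [← hs] at h1
        have h2 : Set.range s = (F (q + 1)).mkQ '' Set.range x := by
          ext z
          constructor
          · rintro ⟨i, rfl⟩
            exact ⟨x i, ⟨i, rfl⟩, hxs i⟩
          · rintro ⟨_, ⟨i, rfl⟩, rfl⟩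
            exact ⟨i, (hxs i).symm⟩
        rw [h2, ← Submodule.map_span] at h1
        obtain ⟨w, hw, hwy⟩ := h1
        have h3 : y - w ∈ F (q + 1) := by
          rw [← Submodule.Quotient.mk_eq_zero, Submodule.Quotient.mk_sub]
          simp only [Submodule.mkQ_apply] at hwy
          rw [hwy, sub_self]
        have : y = w + (y - w) := by abel
        rw [this]
        refine Submodule.add_mem_sup hw ?_
        simpa [G] using h3
      have hanti : Antitone G := fun a b hab => hF (by simpa using hab)
      have hsepG : ∀ z, (∀ n, z ∈ G n) → z = 0 := by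
        intro z hz
        have : z ∈ ⨅ p : ℤ, F p := by
          rw [Submodule.mem_iInf]
          intro p
          have := hz (p - q).toNat
          refine hF ?_ this
          have := Int.self_le_toNat (p - q)
          omega
        rw [hsep] at this
        simpa using this
      have hxG : ∀ i, x i ∈ G 0 := fun i => by simpa [G] using hxF i
      intro k₀ y hy
      exact series J G hG1 hG2 x hxG hgen hanti hsepG k₀ y hy
    constructor
    · -- finiteness
      obtain ⟨p₀, hp₀⟩ := hcod
      set q := max p₀ p₁ with hq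
      obtain ⟨r, x, hxF, hx⟩ := key q (le_max_right _ _)
      have hFq : (F q).FG := by
        have : F q = Submodule.span S (Set.range x) := by
          apply le_antisymm
          · intro y hy
            obtain ⟨a, _, rfl⟩ := hx 0 y (by simpa using hy)
            exact Submodule.sum_mem _ fun i _ =>
              Submodule.smul_mem _ _ (Submodule.subset_span ⟨i, rfl⟩)
          · rw [Submodule.span_le]
            rintro _ ⟨i, rfl⟩
            exact hxF i
        rw [this]
        exact Submodule.fg_span (Set.finite_range x)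
      have hdown : ∀ n : ℕ, (F (q - n)).FG := by
        intro n
        induction n with
        | zero => simpa using hFq
        | succ n ih =>
          have h1 := hgr (q - (n + 1 : ℕ))
          have e : q - ((n + 1 : ℕ) : ℤ) + 1 = q - n := by push_cast; ring
          rw [e] at h1
          refine Submodule.fg_of_fg_map_of_fg_inf_ker (F (q - n)).mkQ h1 ?_
          rw [Submodule.ker_mkQ]
          have : F (q - ((n + 1 : ℕ) : ℤ)) ⊓ F (q - n) = F (q - n) :=
            inf_eq_right.mpr (hF (by push_cast; omega))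
          rw [this]
          exact ih
      have := hdown (q - p₀).toNat
      have e : q - ((q - p₀).toNat : ℤ) = p₀ := by
        have : p₀ ≤ q := le_max_left _ _
        rw [Int.toNat_of_nonneg (by omega)]
        ring
      rw [e, hp₀] at this
      exact Module.finite_def.mpr this
    · refine ⟨p₁, fun p hp => le_antisymm (hJ p) ?_⟩
      obtain ⟨r, x, hxF, hx⟩ := key p hp
      intro y hy
      obtain ⟨a, ha, rfl⟩ := hx 1 y (by simpa using hy)
      refine Submodule.sum_mem _ fun i _ => Submodule.smul_mem_smul ?_ (hxF i)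
      simpa using ha i

end Groth.Agent.S8353
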