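import Groth.Statements.S8354
import Groth.Agent.S12229

set_option autoImplicit false
universe w w' v v' u u'
open CategoryTheory CategoryTheory.Limits
open HomAlg3

namespace Groth.Agent.S8354

/-- Bounded-below case, exactness at the middle term. Let T : C ⥤ D be an additive functor of abelian
categories, C having enough injectives, and 0 ⟶ K₁ ⟶ K₂ ⟶ K₃ ⟶ 0 a short exact sequence of bounded
below cochain complexes of C. Let R^n T(K) denote the n-th cohomology object of R⁺T(K), where R⁺T is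
the right derived functor of T on the bounded below derived category (computed with injective
resolutions). Then R^n T(K₁) ⟶ R^n T(K₂) ⟶ R^n T(K₃) is exact for every n. (The published statement
asserts a long exact sequence with connecting morphisms; this row states exactness at the middle
term only, with the vanishing of the composite carried as a hypothesis.) -/
theorem result {C : Type u} [Category.{v} C] [Abelian C]
    [EnoughInjectives C] [HasDerivedCategory.{w} C] {D : Type u'} [Category.{v'} D] [Abelian D]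
    [HasDerivedCategory.{w'} D] (T : C ⥤ D) [T.Additive] {K₁ K₂ K₃ : CochainComplex.Plus C}
    (φ : K₁ ⟶ K₂) (ψ : K₂ ⟶ K₃) (hφψ : φ.hom ≫ ψ.hom = 0)
    (hS : (ShortComplex.mk φ.hom ψ.hom hφψ).ShortExact) (n : ℤ)
    (hz : (HomotopyCategory.Plus.quotient C ⋙ DerivedCategory.Plus.Qh ⋙ T.rightDerivedFunctorPlus ⋙
          DerivedCategory.Plus.homologyFunctor D n).map φ ≫
      (HomotopyCategory.Plus.quotient C ⋙ DerivedCategory.Plus.Qh ⋙ T.rightDerivedFunctorPlus ⋙
          DerivedCategory.Plus.homologyFunctor D n).map ψ = 0) :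
    (ShortComplex.mk ((HomotopyCategory.Plus.quotient C ⋙ DerivedCategory.Plus.Qh ⋙ T.rightDerivedFunctorPlus ⋙
          DerivedCategory.Plus.homologyFunctor D n).map φ)
      ((HomotopyCategory.Plus.quotient C ⋙ DerivedCategory.Plus.Qh ⋙ T.rightDerivedFunctorPlus ⋙
          DerivedCategory.Plus.homologyFunctor D n).map ψ) hz).Exact := by
  open Groth.Agent.S12229 in
  obtain ⟨n₁, h₁⟩ := K₁.property
  obtain ⟨n₂, h₂⟩ := K₂.property
  obtain ⟨n₃, h₃⟩ := K₃.property
  let S : ShortComplex (CochainComplex C ℤ) := ShortComplex.mk φ.hom ψ.hom hφψ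
  let m := min n₁ (min n₂ n₃)
  have hb1 : S.X₁.IsStrictlyGE m :=
    CochainComplex.isStrictlyGE_of_ge K₁.obj m n₁ (min_le_left _ _)
  have hb2 : S.X₂.IsStrictlyGE m :=
    CochainComplex.isStrictlyGE_of_ge K₂.obj m n₂ ((min_le_right _ _).trans (min_le_left _ _))
  have hb3 : S.X₃.IsStrictlyGE m :=
    CochainComplex.isStrictlyGE_of_ge K₃.obj m n₃ ((min_le_right _ _).trans (min_le_right _ _))
  obtain ⟨T', θ, hT, hT1, hT2, hT3, hinj, hq1, hq2, hq3⟩ := Groth.Agent.S1123.result S hS m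
  let T₁ : CochainComplex.Plus C := ⟨T'.X₁, m, hT1⟩
  let T₂ : CochainComplex.Plus C := ⟨T'.X₂, m, hT2⟩
  let T₃ : CochainComplex.Plus C := ⟨T'.X₃, m, hT3⟩
  let tf : T₁ ⟶ T₂ := ObjectProperty.homMk T'.f
  let tg : T₂ ⟶ T₃ := ObjectProperty.homMk T'.g
  let φ₁ : K₁ ⟶ T₁ := ObjectProperty.homMk θ.τ₁
  let φ₂ : K₂ ⟶ T₂ := ObjectProperty.homMk θ.τ₂
  let φ₃ : K₃ ⟶ T₃ := ObjectProperty.homMk θ.τ₃
  have c12 : φ₁ ≫ tf = φ ≫ φ₂ := by
    ext : 1
    exact θ.comm₁₂
  have c23 : φ₂ ≫ tg = ψ ≫ φ₃ := by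
    ext : 1
    exact θ.comm₂₃
  have hFT := Groth.Agent.S12229.shortExact_map_of_injective T T' hT (fun k => (hinj k).1)
  have i1 : IsIso (Groth.Agent.S12229.mapA T φ₁) := Groth.Agent.S12229.isIso_mapA T φ₁ hq1
  have i2 : IsIso (Groth.Agent.S12229.mapA T φ₂) := Groth.Agent.S12229.isIso_mapA T φ₂ hq2
  have i3 : IsIso (Groth.Agent.S12229.mapA T φ₃) := Groth.Agent.S12229.isIso_mapA T φ₃ hq3
  have j1 : IsIso (Groth.Agent.S12229.cmp T T₁) := Groth.Agent.S12229.isIso_cmp T T₁ (fun k => (hinj k).1)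
  have j2 : IsIso (Groth.Agent.S12229.cmp T T₂) := Groth.Agent.S12229.isIso_cmp T T₂ (fun k => (hinj k).2.1)
  have j3 : IsIso (Groth.Agent.S12229.cmp T T₃) := Groth.Agent.S12229.isIso_cmp T T₃ (fun k => (hinj k).2.2)
  let θ₁ : Groth.Agent.S12229.objB T T₁ ≅ Groth.Agent.S12229.objA T K₁ :=
    asIso (Groth.Agent.S12229.cmp T T₁) ≪≫ (asIso (Groth.Agent.S12229.mapA T φ₁)).symm
  let θ₂ : Groth.Agent.S12229.objB T T₂ ≅ Groth.Agent.S12229.objA T K₂ :=
    asIso (Groth.Agent.S12229.cmp T T₂) ≪≫ (asIso (Groth.Agent.S12229.mapA T φ₂)).symm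
  let θ₃ : Groth.Agent.S12229.objB T T₃ ≅ Groth.Agent.S12229.objA T K₃ :=
    asIso (Groth.Agent.S12229.cmp T T₃) ≪≫ (asIso (Groth.Agent.S12229.mapA T φ₃)).symm
  have d12 : Groth.Agent.S12229.mapB T tf ≫ θ₂.hom = θ₁.hom ≫ Groth.Agent.S12229.mapA T φ := by
    dsimp only [θ₁, θ₂, Iso.trans_hom, Iso.symm_hom, asIso_hom, asIso_inv]
    rw [← Category.assoc, Groth.Agent.S12229.cmp_naturality, Category.assoc, Category.assoc]
    congr 1
    rw [IsIso.comp_inv_eq, Category.assoc, ← Groth.Agent.S12229.mapA_comp, ← c12,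
      Groth.Agent.S12229.mapA_comp, IsIso.inv_hom_id_assoc]
  have d23 : Groth.Agent.S12229.mapB T tg ≫ θ₃.hom = θ₂.hom ≫ Groth.Agent.S12229.mapA T ψ := by
    dsimp only [θ₂, θ₃, Iso.trans_hom, Iso.symm_hom, asIso_hom, asIso_inv]
    rw [← Category.assoc, Groth.Agent.S12229.cmp_naturality, Category.assoc, Category.assoc]
    congr 1
    rw [IsIso.comp_inv_eq, Category.assoc, ← Groth.Agent.S12229.mapA_comp, ← c23,
      Groth.Agent.S12229.mapA_comp, IsIso.inv_hom_id_assoc]
  let Tri := DerivedCategory.triangleOfSES hFT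
  have hTri : Tri ∈ Pretriangulated.distinguishedTriangles :=
    DerivedCategory.triangleOfSES_distinguished hFT
  let H := DerivedCategory.homologyFunctor D n
  have hex := DerivedCategory.HomologySequence.exact₂ Tri hTri n
  refine ShortComplex.exact_of_iso ?_ hex
  refine ShortComplex.isoMk (H.mapIso θ₁) (H.mapIso θ₂) (H.mapIso θ₃) ?_ ?_
  · show H.map θ₁.hom ≫ H.map (Groth.Agent.S12229.mapA T φ) =
      H.map (Groth.Agent.S12229.mapB T tf) ≫ H.map θ₂.hom
    rw [← H.map_comp, ← H.map_comp, d12]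
  · show H.map θ₂.hom ≫ H.map (Groth.Agent.S12229.mapA T ψ) =
      H.map (Groth.Agent.S12229.mapB T tg) ≫ H.map θ₃.hom
    rw [← H.map_comp, ← H.map_comp, d23]

end Groth.Agent.S8354
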