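import Groth.Statements.S8357
import Groth.Agent.Lib.Helper43.DualPush

set_option autoImplicit false
universe u
open CategoryTheory MonObj AlgebraicGeometry
open LieS

namespace Groth.Agent.S8357

open Groth.Agent.Lib.Helper43.DualPush


/-- For a group scheme G over a scheme S and an affine S-scheme T = Spec B, the map induced on
Lie(G/S)(T) by the n-th power map of G is multiplication by n; that is, for v in Lie(G/S)(T) and an
integer n, the n-th power of v in the group law inherited from G is the rescaling of v by the image
of n in B. -/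
theorem result (S : Scheme.{u}) (G : Over S) [GrpObj G] (B : Type u) [CommRing B]
    (f : Spec (CommRingCat.of B) ⟶ S) (v : LieS.Lie G B f) (n : ℤ) :
    v ^ n = ((n : B) • v : LieS.Lie G B f) := by
  have hw : zeroSec B f ≫ v.1 = 1 := (mem_Lie_iff G B f v.1).1 v.2
  let θ := scaleHomMul B f v.1 hw
  apply Subtype.ext
  rw [Subgroup.coe_zpow, smul_val]
  have h1 : θ (Multiplicative.ofAdd ((n : ℤ) : B)) = scale B f (n : B) ≫ v.1 := rfl
  have h2 : θ (Multiplicative.ofAdd (1 : B)) = v.1 := scale_one_comp B f v.1
  rw [← h1, ← zsmul_one, ofAdd_zsmul, map_zpow, h2]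

end Groth.Agent.S8357
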