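import Groth.Statements.S8358
import Mathlib

set_option autoImplicit false
universe u
open CategoryTheory MonObj AlgebraicGeometry
open LieS

namespace Groth.Agent.S8358

variable (R : Type u) [CommRing R] (M : Type) [AddCommGroup M] (B : Type u) [CommRing B] [Algebra R B]

noncomputable section

abbrev f₀ : Spec (CommRingCat.of B) ⟶ Spec (CommRingCat.of R) := Spec.map (CommRingCat.ofHom (algebraMap R B))

/-- the algebra map attached to a dual-number point of `D(M)` -/
def Φ (a : dpt B (f₀ R B) ⟶ Red.diag R M) : MonoidAlgebra R (Multiplicative M) →ₐ[R] DualNumber B :=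
  (Spec.mapMulEquiv.symm ((LieS.dptIso B).inv ≫ a)).ofConv

lemma dptIso_inv_left : (LieS.dptIso (R := R) B).inv.left = 𝟙 (Spec (CommRingCat.of (DualNumber B))) :=
  Over.isoMk_inv_left _ _

lemma dptIso_hom_left : (LieS.dptIso (R := R) B).hom.left = 𝟙 (Spec (CommRingCat.of (DualNumber B))) :=
  Over.isoMk_hom_left _ _

lemma mapMulEquiv_left {S T : Type u} [CommRing S] [CommRing T] [Bialgebra R S] [Algebra R T]
    (φ : WithConv (S →ₐ[R] T)) :
    (Spec.mapMulEquiv φ).left = Spec.map (CommRingCat.ofHom φ.ofConv.toRingHom) := rfl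

lemma step2 (a : dpt B (f₀ R B) ⟶ Red.diag R M) :
    ((LieS.dptIso (R := R) B).inv ≫ a).left = (LieS.dptIso (R := R) B).inv.left ≫ a.left :=
  Over.comp_left _ _ _ _ _

lemma step6 (a : dpt B (f₀ R B) ⟶ Red.diag R M) :
    Spec.map (CommRingCat.ofHom (Spec.mapMulEquiv.symm ((LieS.dptIso B).inv ≫ a)).ofConv.toRingHom) =
      ((LieS.dptIso (R := R) B).inv ≫ a).left :=
  (mapMulEquiv_left R _).symm.trans (congrArg (fun t => Over.Hom.left t) ((Spec.mapMulEquiv (R := R) (S := MonoidAlgebra R (Multiplicative M))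
    (T := DualNumber B)).apply_symm_apply ((LieS.dptIso B).inv ≫ a)))

lemma step4 (a : dpt B (f₀ R B) ⟶ Red.diag R M) :
    Spec.map (CommRingCat.ofHom (Spec.mapMulEquiv.symm ((LieS.dptIso B).inv ≫ a)).ofConv.toRingHom) =
      Spec.map (CommRingCat.ofHom (Φ R M B a).toRingHom) := rfl

lemma step7 (a : dpt B (f₀ R B) ⟶ Red.diag R M) :
    (LieS.dptIso (R := R) B).inv.left ≫ a.left = 𝟙 (Spec (CommRingCat.of (DualNumber B))) ≫ a.left :=
  congrArg (fun t => t ≫ a.left) (dptIso_inv_left R B)

lemma left_eq (a : dpt B (f₀ R B) ⟶ Red.diag R M) :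
    a.left = Spec.map (CommRingCat.ofHom (Φ R M B a).toRingHom) :=
  (Category.id_comp _).symm.trans ((step7 R M B a).symm.trans ((step2 R M B a).symm.trans
    ((step6 R M B a).symm.trans (step4 R M B a))))

/-- `pt` over an affine base is `Spec B` with its structure map -/
def ptIso : pt B (f₀ R B) ≅ (Spec (CommRingCat.of B)).asOver (Spec (CommRingCat.of R)) :=
  Over.isoMk (Iso.refl (Spec (CommRingCat.of B))) (by
    change 𝟙 _ ≫ Spec.map _ = Spec.map _
    exact Category.id_comp _)

lemma ptIso_inv_left : (ptIso R B).inv.left = 𝟙 (Spec (CommRingCat.of B)) :=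
  Over.isoMk_inv_left _ _

lemma ptIso_hom_left : (ptIso R B).hom.left = 𝟙 (Spec (CommRingCat.of B)) :=
  Over.isoMk_hom_left _ _

/-- `ε ↦ 0` as an `R`-algebra map -/
def fstA : DualNumber B →ₐ[R] B :=
  { (TrivSqZeroExt.fstHom B B B).toRingHom with
    commutes' := by
      intro r
      have := congrArg (fun φ : R →+* DualNumber B => (φ r).fst) (algebraMap_comp_eq (R := R) B)
      simpa [TrivSqZeroExt.algebraMap_eq_inl] using this.symm }

lemma fstA_apply (x : DualNumber B) : fstA R B x = x.fst := rfl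

lemma fstA_toRingHom : (fstA R B).toRingHom = (TrivSqZeroExt.fstHom B B B).toRingHom := rfl

lemma zeroSec_left : (zeroSec B (f₀ R B)).left =
    Spec.map (CommRingCat.ofHom (TrivSqZeroExt.fstHom B B B).toRingHom) := rfl

lemma zs_left (a : dpt B (f₀ R B) ⟶ Red.diag R M) :
    ((ptIso R B).inv ≫ zeroSec B (f₀ R B) ≫ a).left =
      Spec.map (CommRingCat.ofHom (TrivSqZeroExt.fstHom B B B).toRingHom) ≫ a.left :=
  (Over.comp_left _ _ _ _ _).trans
    ((congrArg (fun t => t ≫ (zeroSec B (f₀ R B) ≫ a).left) (ptIso_inv_left R B)).trans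
      ((Category.id_comp _).trans (Over.comp_left _ _ _ _ _)))

lemma comp_toRingHom_eq (φ : MonoidAlgebra R (Multiplicative M) →ₐ[R] DualNumber B) :
    (TrivSqZeroExt.fstHom B B B).toRingHom.comp φ.toRingHom = ((fstA R B).comp φ).toRingHom := rfl

lemma specMap_fst_comp (φ : MonoidAlgebra R (Multiplicative M) →ₐ[R] DualNumber B) :
    Spec.map (CommRingCat.ofHom (TrivSqZeroExt.fstHom B B B).toRingHom) ≫
      Spec.map (CommRingCat.ofHom φ.toRingHom) =
    (Spec.mapMulEquiv (R := R) (S := MonoidAlgebra R (Multiplicative M)) (T := B)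
      (WithConv.toConv ((fstA R B).comp φ))).left :=
  (specMap_comp φ.toRingHom (TrivSqZeroExt.fstHom B B B).toRingHom).trans
    ((congrArg (fun t => Spec.map (CommRingCat.ofHom t)) (comp_toRingHom_eq R M B φ)).trans
      (mapMulEquiv_left R (S := MonoidAlgebra R (Multiplicative M)) (T := B)
        (WithConv.toConv ((fstA R B).comp φ))).symm)

lemma zeroSec_comp_eq (a : dpt B (f₀ R B) ⟶ Red.diag R M) :
    (ptIso R B).inv ≫ zeroSec B (f₀ R B) ≫ a =
      Spec.mapMulEquiv (WithConv.toConv ((fstA R B).comp (Φ R M B a))) :=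
  Over.OverMorphism.ext ((zs_left R M B a).trans
    ((congrArg (fun t => Spec.map (CommRingCat.ofHom (TrivSqZeroExt.fstHom B B B).toRingHom) ≫ t)
      (left_eq R M B a)).trans (specMap_fst_comp R M B (Φ R M B a))))

lemma one_iff_ptIso (x : pt B (f₀ R B) ⟶ Red.diag R M) :
    x = 1 ↔ (ptIso R B).inv ≫ x = 1 :=
  ⟨fun h => (congrArg (fun t => (ptIso R B).inv ≫ t) h).trans (comp_one _),
   fun h => (Iso.hom_inv_id_assoc (ptIso R B) x).symm.trans
     ((congrArg (fun t => (ptIso R B).hom ≫ t) h).trans (comp_one _))⟩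

lemma conv_eq_one_iff (ψ : MonoidAlgebra R (Multiplicative M) →ₐ[R] B) :
    (WithConv.toConv ψ : WithConv (MonoidAlgebra R (Multiplicative M) →ₐ[R] B)) = 1 ↔
      ∀ m : Multiplicative M, ψ (MonoidAlgebra.single m 1) = 1 := by
  constructor
  · intro h m
    have h1 : ψ = (1 : WithConv (MonoidAlgebra R (Multiplicative M) →ₐ[R] B)).ofConv :=
      congrArg WithConv.ofConv h
    rw [h1]
    change algebraMap R B (Coalgebra.counit (MonoidAlgebra.single m (1 : R))) = 1
    rw [MonoidAlgebra.counit_single]
    simp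
  · intro h
    apply WithConv.ofConv_injective
    change ψ = (1 : WithConv (MonoidAlgebra R (Multiplicative M) →ₐ[R] B)).ofConv
    apply MonoidAlgebra.algHom_ext
    · intro m
      refine (h m).trans ?_
      change 1 = algebraMap R B (Coalgebra.counit (MonoidAlgebra.single m (1 : R)))
      rw [MonoidAlgebra.counit_single]
      simp
    · exact Subsingleton.elim _ _

lemma mem_Lie_iff' (a : dpt B (f₀ R B) ⟶ Red.diag R M) :
    zeroSec B (f₀ R B) ≫ a = 1 ↔
      ∀ m : Multiplicative M, (Φ R M B a (MonoidAlgebra.single m 1)).fst = 1 :=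
  (one_iff_ptIso R M B _).trans
    ((Eq.congr_left (zeroSec_comp_eq R M B a)).trans
      ((MulEquiv.map_eq_one_iff _).trans (conv_eq_one_iff R M B _)))

/-- the multiplicative equivalence underlying `Φ` -/
def E (a : dpt B (f₀ R B) ⟶ Red.diag R M) :
    WithConv (MonoidAlgebra R (Multiplicative M) →ₐ[R] DualNumber B) :=
  Spec.mapMulEquiv.symm ((LieS.dptIso B).inv ≫ a)

lemma E_mul (a a' : dpt B (f₀ R B) ⟶ Red.diag R M) :
    E R M B (a * a') = E R M B a * E R M B a' :=
  (congrArg (fun t => (Spec.mapMulEquiv (R := R) (S := MonoidAlgebra R (Multiplicative M))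
      (T := DualNumber B)).symm t) (comp_mul (LieS.dptIso B).inv a a')).trans
    (map_mul _ _ _)

lemma conv_mul_single (φ ψ : WithConv (MonoidAlgebra R (Multiplicative M) →ₐ[R] DualNumber B))
    (m : Multiplicative M) :
    (φ * ψ).ofConv (MonoidAlgebra.single m 1) =
      φ.ofConv (MonoidAlgebra.single m 1) * ψ.ofConv (MonoidAlgebra.single m 1) := by
  have h := AlgHom.convMul_apply φ ψ (MonoidAlgebra.single m (1 : R))
  rw [MonoidAlgebra.comul_single] at h
  simpa using h

lemma Φ_mul_single (a a' : dpt B (f₀ R B) ⟶ Red.diag R M) (m : Multiplicative M) :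
    Φ R M B (a * a') (MonoidAlgebra.single m 1) =
      Φ R M B a (MonoidAlgebra.single m 1) * Φ R M B a' (MonoidAlgebra.single m 1) :=
  (congrArg (fun t : WithConv (MonoidAlgebra R (Multiplicative M) →ₐ[R] DualNumber B) =>
      t.ofConv (MonoidAlgebra.single m 1)) (E_mul R M B a a')).trans
    (conv_mul_single R M B _ _ m)


lemma lie_fst (v : LieS.LieR (Red.diag R M) B) (m : Multiplicative M) :
    (Φ R M B v.1 (MonoidAlgebra.single m 1)).fst = 1 :=
  (mem_Lie_iff' R M B v.1).1 ((mem_Lie_iff _ B _ v.1).1 v.2) m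

/-- the additive map `M → B` attached to an element of `Lie(D(M))(B)` -/
def β (v : LieS.LieR (Red.diag R M) B) : M →+ B where
  toFun m := (Φ R M B v.1 (MonoidAlgebra.single (Multiplicative.ofAdd m) 1)).snd
  map_zero' := by
    have h : (MonoidAlgebra.single (Multiplicative.ofAdd (0 : M)) (1 : R) :
        MonoidAlgebra R (Multiplicative M)) = 1 := rfl
    rw [h, map_one]
    rfl
  map_add' m m' := by
    have h : (MonoidAlgebra.single (Multiplicative.ofAdd (m + m')) (1 : R) :
        MonoidAlgebra R (Multiplicative M)) =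
        MonoidAlgebra.single (Multiplicative.ofAdd m) 1 *
          MonoidAlgebra.single (Multiplicative.ofAdd m') 1 := by
      rw [MonoidAlgebra.single_mul_single, _root_.mul_one]
      rfl
    rw [h, map_mul, TrivSqZeroExt.snd_mul, lie_fst, lie_fst]
    simp [add_comm]

lemma β_apply (v : LieS.LieR (Red.diag R M) B) (m : M) :
    β R M B v m = (Φ R M B v.1 (MonoidAlgebra.single (Multiplicative.ofAdd m) 1)).snd := rfl


/-- `v ↦ β v` as a monoid homomorphism -/
def e₀ : LieS.LieR (Red.diag R M) B →* Multiplicative (M →+ B) :=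
  MonoidHom.mk' (fun v => Multiplicative.ofAdd (β R M B v)) (by
    intro v v'
    apply Multiplicative.toAdd.injective
    apply AddMonoidHom.ext
    intro m
    change (Φ R M B (v.1 * v'.1) (MonoidAlgebra.single (Multiplicative.ofAdd m) 1)).snd =
      (Φ R M B v.1 (MonoidAlgebra.single (Multiplicative.ofAdd m) 1)).snd +
      (Φ R M B v'.1 (MonoidAlgebra.single (Multiplicative.ofAdd m) 1)).snd
    rw [Φ_mul_single, TrivSqZeroExt.snd_mul, lie_fst, lie_fst]
    simp [add_comm])

lemma e₀_apply (v : LieS.LieR (Red.diag R M) B) (m : M) :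
    Multiplicative.toAdd (e₀ R M B v) m =
      (Φ R M B v.1 (MonoidAlgebra.single (Multiplicative.ofAdd m) 1)).snd := rfl

lemma Φ_injective : Function.Injective (Φ R M B) := by
  intro a a' h
  have h1 : a.left = a'.left := by
    rw [left_eq R M B a, left_eq R M B a', h]
  exact Over.OverMorphism.ext h1

lemma e₀_injective : Function.Injective (e₀ R M B) := by
  intro v v' h
  apply Subtype.ext
  apply Φ_injective R M B
  apply MonoidAlgebra.algHom_ext
  · intro m
    apply TrivSqZeroExt.ext
    · rw [lie_fst, lie_fst]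
    · have := congrArg (fun t : Multiplicative (M →+ B) => (Multiplicative.toAdd t) (Multiplicative.toAdd m)) h
      exact this
  · exact Subsingleton.elim _ _

/-- the monoid homomorphism `m ↦ 1 + β(m) ε` -/
def muHom (b : M →+ B) : Multiplicative M →* DualNumber B where
  toFun m := 1 + TrivSqZeroExt.inr (b (Multiplicative.toAdd m))
  map_one' := by simp
  map_mul' m m' := by
    apply TrivSqZeroExt.ext
    · simp
    · simp [TrivSqZeroExt.snd_mul, add_comm]

/-- the point of `D(M)` attached to an additive map -/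
def pointOf (b : M →+ B) : dpt B (f₀ R B) ⟶ Red.diag R M :=
  (LieS.dptIso B).hom ≫ Spec.mapMulEquiv (WithConv.toConv (MonoidAlgebra.lift R (DualNumber B) _ (muHom M B b)))

lemma Φ_pointOf (b : M →+ B) :
    Φ R M B (pointOf R M B b) = MonoidAlgebra.lift R (DualNumber B) _ (muHom M B b) :=
  (congrArg (fun t => ((Spec.mapMulEquiv (R := R) (S := MonoidAlgebra R (Multiplicative M))
      (T := DualNumber B)).symm t).ofConv) (Iso.inv_hom_id_assoc (LieS.dptIso B) _)).trans
    (congrArg WithConv.ofConv (MulEquiv.symm_apply_apply _ _))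

lemma Φ_pointOf_single (b : M →+ B) (m : Multiplicative M) :
    Φ R M B (pointOf R M B b) (MonoidAlgebra.single m 1) =
      1 + TrivSqZeroExt.inr (b (Multiplicative.toAdd m)) := by
  rw [Φ_pointOf, MonoidAlgebra.lift_single, one_smul]
  rfl

lemma pointOf_mem (b : M →+ B) : pointOf R M B b ∈ LieS.LieR (Red.diag R M) B := by
  rw [mem_Lie_iff, mem_Lie_iff']
  intro m
  rw [Φ_pointOf_single]
  simp

lemma e₀_surjective : Function.Surjective (e₀ R M B) := by
  intro b
  refine ⟨⟨pointOf R M B (Multiplicative.toAdd b), pointOf_mem R M B _⟩, ?_⟩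
  apply Multiplicative.toAdd.injective
  apply AddMonoidHom.ext
  intro m
  change (Φ R M B (pointOf R M B (Multiplicative.toAdd b))
    (MonoidAlgebra.single (Multiplicative.ofAdd m) 1)).snd = _
  rw [Φ_pointOf_single]
  simp


lemma scale_left (b : B) : (scale B (f₀ R B) b).left = Spec.map (CommRingCat.ofHom (scaleHom b)) := rfl

lemma scale_comp_left (b : B) (a : dpt B (f₀ R B) ⟶ Red.diag R M) :
    (scale B (f₀ R B) b ≫ a).left =
      Spec.map (CommRingCat.ofHom ((scaleHom b).comp (Φ R M B a).toRingHom)) :=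
  (Over.comp_left _ _ _ _ _).trans
    ((congrArg (fun t => Spec.map (CommRingCat.ofHom (scaleHom b)) ≫ t) (left_eq R M B a)).trans
      (specMap_comp _ _))

lemma Φ_scale (b : B) (a : dpt B (f₀ R B) ⟶ Red.diag R M) :
    (Φ R M B (scale B (f₀ R B) b ≫ a)).toRingHom = (scaleHom b).comp (Φ R M B a).toRingHom := by
  have h1 := (left_eq R M B (scale B (f₀ R B) b ≫ a)).symm.trans (scale_comp_left R M B b a)
  have h2 := Spec.map_injective h1
  exact congrArg CommRingCat.Hom.hom h2

lemma Φ_scale_apply (b : B) (a : dpt B (f₀ R B) ⟶ Red.diag R M)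
    (x : MonoidAlgebra R (Multiplicative M)) :
    Φ R M B (scale B (f₀ R B) b ≫ a) x = scaleHom b (Φ R M B a x) :=
  congrArg (fun t : MonoidAlgebra R (Multiplicative M) →+* DualNumber B => t x) (Φ_scale R M B b a)

lemma snd_scaleHom (b : B) (y : DualNumber B) : (scaleHom b y).snd = b * y.snd := by
  simp [scaleHom, dualHom_apply, TrivSqZeroExt.algebraMap_eq_inl, TrivSqZeroExt.snd_mul,
    DualNumber.fst_eps, DualNumber.snd_eps, mul_comm]


end


/-- First isomorphism: over an affine base: for a commutative ring R, a commutative group M, the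
diagonalisable group D(M) = Spec R[M] over Spec R and a commutative R-algebra B, the group
Lie(D(M))(Spec B) is identified with the additive group Hom(M, B) of group homomorphisms: there is a
multiplicative isomorphism which sends a point v of D(M) with values in B[ε], read as an R-algebra
homomorphism from R[M] to B[ε], to the homomorphism m ↦ (ε-coefficient of the image of m), and which
carries the rescaling action of b in B to multiplication of homomorphisms by b. -/
theorem result (R : Type u) [CommRing R] (M : Type) [AddCommGroup M]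
    (B : Type u) [CommRing B] [Algebra R B] :
    ∃ e : LieS.LieR (Red.diag R M) B ≃* Multiplicative (M →+ B),
      (∀ (v : LieS.LieR (Red.diag R M) B) (m : M),
        Multiplicative.toAdd (e v) m =
          TrivSqZeroExt.snd (((Spec.mapMulEquiv.symm ((LieS.dptIso B).inv ≫ v.1)).ofConv :
            MonoidAlgebra R (Multiplicative M) →ₐ[R] DualNumber B)
            (MonoidAlgebra.single (Multiplicative.ofAdd m) 1))) ∧
      ∀ (b : B) (v : LieS.LieR (Red.diag R M) B),
        e (b • v) = Multiplicative.ofAdd (b • Multiplicative.toAdd (e v)) := by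
  refine ⟨MulEquiv.ofBijective (e₀ R M B) ⟨e₀_injective R M B, e₀_surjective R M B⟩, ?_, ?_⟩
  · intro v m
    rfl
  · intro b v
    apply Multiplicative.toAdd.injective
    apply AddMonoidHom.ext
    intro m
    change (Φ R M B (scale B (f₀ R B) b ≫ v.1) (MonoidAlgebra.single (Multiplicative.ofAdd m) 1)).snd =
      b * (Φ R M B v.1 (MonoidAlgebra.single (Multiplicative.ofAdd m) 1)).snd
    rw [Φ_scale_apply, snd_scaleHom]

end Groth.Agent.S8358
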