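import Groth.Statements.S8361
import Groth.Agent.Lib.Helper43.SchemeEpi

set_option autoImplicit false
universe u
open CategoryTheory MonObj AlgebraicGeometry
open LieS

namespace Groth.Agent.S8361

open Groth.Agent.Lib.Helper43.SchemeEpi

variable (B : Type u) [CommRing B]

lemma mulHom_fst_fst (x : DualNumber B) : ((mulHom B x).fst).fst = x.fst := by
  simp [mulHom, dualHom_apply, TrivSqZeroExt.algebraMap_eq_inl, TrivSqZeroExt.fst_mul,
    DualNumber.fst_eps]

lemma mulHom_snd_snd (x : DualNumber B) : ((mulHom B x).snd).snd = x.snd := by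
  simp [mulHom, dualHom_apply, TrivSqZeroExt.algebraMap_eq_inl, TrivSqZeroExt.fst_mul,
    TrivSqZeroExt.snd_mul, DualNumber.fst_eps, DualNumber.snd_eps]

lemma mulHom_fst_snd (x : DualNumber B) : ((mulHom B x).fst).snd = 0 := by
  simp [mulHom, dualHom_apply, TrivSqZeroExt.algebraMap_eq_inl, TrivSqZeroExt.fst_mul,
    DualNumber.fst_eps]

lemma mulHom_injective : Function.Injective (mulHom B) := by
  intro x y hxy
  apply TrivSqZeroExt.ext
  · rw [← mulHom_fst_fst, ← mulHom_fst_fst B y, hxy]
  · rw [← mulHom_snd_snd, ← mulHom_snd_snd B y, hxy]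

lemma fst_comp_mulHom :
    (TrivSqZeroExt.fstHom (DualNumber B) (DualNumber B) (DualNumber B)).toRingHom.comp (mulHom B) =
      (algebraMap B (DualNumber B)).comp (TrivSqZeroExt.fstHom B B B).toRingHom := by
  apply RingHom.ext
  intro x
  apply TrivSqZeroExt.ext
  · change ((mulHom B x).fst).fst = (algebraMap B (DualNumber B) x.fst).fst
    rw [mulHom_fst_fst, TrivSqZeroExt.algebraMap_eq_inl, TrivSqZeroExt.fst_inl]
  · change ((mulHom B x).fst).snd = (algebraMap B (DualNumber B) x.fst).snd
    rw [mulHom_fst_snd, TrivSqZeroExt.algebraMap_eq_inl, TrivSqZeroExt.snd_inl]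

lemma comap_inl_fst (p : PrimeSpectrum (DualNumber B)) :
    PrimeSpectrum.comap ((algebraMap B (DualNumber B)).comp (TrivSqZeroExt.fstHom B B B).toRingHom) p
      = p := by
  apply PrimeSpectrum.ext
  ext x
  have hn : (TrivSqZeroExt.inr x.snd : DualNumber B) ∈ p.asIdeal := by
    apply p.isPrime.mem_of_pow_mem 2
    rw [pow_two, TrivSqZeroExt.inr_mul_inr]
    exact p.asIdeal.zero_mem
  have hx : x = algebraMap B (DualNumber B) x.fst + TrivSqZeroExt.inr x.snd := by
    rw [TrivSqZeroExt.algebraMap_eq_inl, TrivSqZeroExt.inl_fst_add_inr_snd_eq]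
  change algebraMap B (DualNumber B) x.fst ∈ p.asIdeal ↔ x ∈ p.asIdeal
  constructor
  · intro h
    rw [hx]
    exact p.asIdeal.add_mem h hn
  · intro h
    have : algebraMap B (DualNumber B) x.fst = x - TrivSqZeroExt.inr x.snd := by
      rw [eq_sub_iff_add_eq]
      exact hx.symm
    rw [this]
    exact p.asIdeal.sub_mem h hn

/-- `mulHom` as a morphism of `CommRingCat` -/
abbrev mulHomCat : CommRingCat.of (DualNumber B) ⟶ CommRingCat.of (D2 B) :=
  CommRingCat.ofHom (mulHom B)

lemma comap_mulHom_surjective :
    Function.Surjective (PrimeSpectrum.comap (mulHomCat B).hom) := by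
  intro p
  refine ⟨PrimeSpectrum.comap
    (TrivSqZeroExt.fstHom (DualNumber B) (DualNumber B) (DualNumber B)).toRingHom p, ?_⟩
  have := comap_inl_fst B p
  rw [← fst_comp_mulHom] at this
  exact this


/-- Uniqueness of the bracket: for a group scheme G over a scheme S and an affine S-scheme T = Spec B:
an element of Lie(G/S)(T) is determined by its pull-back along the coordinate-multiplying map from
the iterated dual numbers over T to the dual numbers over T; in particular the bracket of x and y,
the element whose pull-back is the commutator of x read in the second dual coordinate with y read in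
the first, is unique when it exists. -/
theorem result (S : Scheme.{u}) (G : Over S) [GrpObj G] (B : Type u) [CommRing B]
    (f : Spec (CommRingCat.of B) ⟶ S) (x y z z' : LieS.Lie G B f)
    (h : LieS.IsBracket G B f x y z) (h' : LieS.IsBracket G B f x y z') : z = z' := by
  have hepi : Epi (Spec.map (mulHomCat B)) :=
    epi_SpecMap (mulHomCat B) (mulHom_injective B) (comap_mulHom_surjective B)
  have hepi' : Epi (mulMap B f) := by
    have : Epi (mulMap B f).left := hepi
    exact Over.epi_of_epi_left _
  apply Subtype.ext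
  rw [← cancel_epi (mulMap B f)]
  exact h.trans h'.symm

end Groth.Agent.S8361
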