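import Groth.Statements.S8364
import Mathlib.Tactic

set_option autoImplicit false
universe u
open SGA3

namespace Groth.Agent.S8364

/-- An `R`-algebra endomorphism of `A` which is the identity modulo a square-zero ideal of the form
`J·A` is bijective. -/
theorem bijective_of_mk_comp_eq {R A : Type u} [CommRing R] [CommRing A] [Algebra R A]
    (J : Ideal R) (hJ : J * J = ⊥) (w : A →ₐ[R] A)
    (hw : ∀ x, Ideal.Quotient.mk (Ideal.map (algebraMap R A) J) (w x) =
      Ideal.Quotient.mk (Ideal.map (algebraMap R A) J) x) :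
    Function.Bijective w := by
  set I := Ideal.map (algebraMap R A) J with hI
  have hII : I * I = ⊥ := by rw [hI, ← Ideal.map_mul, hJ, Ideal.map_bot]
  have hsub : ∀ x, w x - x ∈ I := by
    intro x
    rw [← Ideal.Quotient.eq]
    exact hw x
  have hfix : ∀ x ∈ I, w x = x := by
    intro x hx
    rw [hI, Ideal.map] at hx
    induction hx using Submodule.span_induction with
    | mem x hx =>
      obtain ⟨j, _, rfl⟩ := hx
      exact w.commutes j
    | zero => exact map_zero w
    | add x y _ _ hx hy => rw [map_add, hx, hy]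
    | smul a x hx ih =>
      have hxI : x ∈ I := hx
      rw [smul_eq_mul, map_mul, ih]
      have : (w a - a) * x ∈ I * I := Ideal.mul_mem_mul (hsub a) hxI
      rw [hII, Ideal.mem_bot] at this
      linear_combination this
  constructor
  · rw [injective_iff_map_eq_zero]
    intro x hx
    have h1 : x ∈ I := by
      have := hsub x
      rw [hx, zero_sub] at this
      simpa using I.neg_mem this
    rw [← hfix x h1, hx]
  · intro y
    refine ⟨y - (w y - y), ?_⟩
    rw [map_sub, hfix _ (hsub y)]
    ring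

theorem result (R A : Type u) [CommRing R] [CommRing A] [Algebra R A]
    [Algebra.Smooth R A] (J : Ideal R) (hJ : J * J = ⊥)
    (φ₀ : (A ⧸ Ideal.map (algebraMap R A) J) ≃ₐ[R] (A ⧸ Ideal.map (algebraMap R A) J)) :
    ∃ φ : A ≃ₐ[R] A,
      (Ideal.Quotient.mkₐ R (Ideal.map (algebraMap R A) J)).comp φ.toAlgHom =
        φ₀.toAlgHom.comp (Ideal.Quotient.mkₐ R (Ideal.map (algebraMap R A) J)) := by
  have hII : Ideal.map (algebraMap R A) J * Ideal.map (algebraMap R A) J = ⊥ := by
    rw [← Ideal.map_mul, hJ, Ideal.map_bot]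
  have hnil : IsNilpotent (Ideal.map (algebraMap R A) J) := ⟨2, by rw [pow_two, hII]; rfl⟩
  obtain ⟨φ, hφ⟩ := Algebra.FormallySmooth.exists_lift (Ideal.map (algebraMap R A) J) hnil
    (φ₀.toAlgHom.comp (Ideal.Quotient.mkₐ R (Ideal.map (algebraMap R A) J)))
  obtain ⟨ψ, hψ⟩ := Algebra.FormallySmooth.exists_lift (Ideal.map (algebraMap R A) J) hnil
    (φ₀.symm.toAlgHom.comp (Ideal.Quotient.mkₐ R (Ideal.map (algebraMap R A) J)))
  have hφ' : ∀ x, Ideal.Quotient.mk (Ideal.map (algebraMap R A) J) (φ x) = φ₀ (Ideal.Quotient.mk (Ideal.map (algebraMap R A) J) x) := fun x =>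
    AlgHom.congr_fun hφ x
  have hψ' : ∀ x, Ideal.Quotient.mk (Ideal.map (algebraMap R A) J) (ψ x) = φ₀.symm (Ideal.Quotient.mk (Ideal.map (algebraMap R A) J) x) := fun x =>
    AlgHom.congr_fun hψ x
  have h1 : Function.Bijective (ψ.comp φ) := by
    apply bijective_of_mk_comp_eq J hJ
    intro x
    rw [AlgHom.comp_apply]
    change Ideal.Quotient.mk (Ideal.map (algebraMap R A) J) (ψ (φ x)) = Ideal.Quotient.mk (Ideal.map (algebraMap R A) J) x
    rw [hψ', hφ', AlgEquiv.symm_apply_apply]
  have h2 : Function.Bijective (φ.comp ψ) := by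
    apply bijective_of_mk_comp_eq J hJ
    intro x
    rw [AlgHom.comp_apply]
    change Ideal.Quotient.mk (Ideal.map (algebraMap R A) J) (φ (ψ x)) = Ideal.Quotient.mk (Ideal.map (algebraMap R A) J) x
    rw [hφ', hψ', AlgEquiv.apply_symm_apply]
  have hbij : Function.Bijective φ := by
    constructor
    · have : Function.Injective (ψ ∘ φ) := by
        have := h1.1
        rwa [AlgHom.coe_comp] at this
      exact this.of_comp
    · have : Function.Surjective (φ ∘ ψ) := by
        have := h2.2
        rwa [AlgHom.coe_comp] at this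
      exact this.of_comp
  refine ⟨AlgEquiv.ofBijective φ hbij, ?_⟩
  rw [← hφ]
  rfl

end Groth.Agent.S8364
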