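import Groth.Statements.S8362
import Groth.Agent.S8364
import Mathlib

set_option autoImplicit false
universe u
open CategoryTheory AlgebraicGeometry
open SGA3

namespace Groth.Agent.S8362
open CategoryTheory CategoryTheory.Limits AlgebraicGeometry TopologicalSpace

/-- Affine-local core: an endomorphism of a scheme over `Spec R` which is the identity on points and
is compatible with the closed subscheme cut out by a square-zero ideal `J` of `R` induces
bijections on sections over affine opens. -/
theorem bijective_appLE {R : Type u} [CommRing R] (J : Ideal R) (hJ : J * J = ⊥)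
    {X P : Scheme.{u}} (π : X ⟶ Spec (CommRingCat.of R)) (f : X ⟶ X) (hf : f ≫ π = π)
    (pr : P ⟶ X) (snd : P ⟶ Spec (CommRingCat.of (R ⧸ J)))
    (hP : IsPullback pr snd π (Spec.map (CommRingCat.ofHom (Ideal.Quotient.mk J))))
    (hpr : pr ≫ f = pr) (U : X.Opens) (hU : IsAffineOpen U) (hle : U ≤ f ⁻¹ᵁ U) :
    Function.Bijective (f.appLE U U hle).hom := by
  -- the structure map `R → Γ(X, U)`
  let α : CommRingCat.of R ⟶ Γ(X, U) := Spec.preimage (hU.fromSpec ≫ π)
  have hα : Spec.map α = hU.fromSpec ≫ π := Spec.map_preimage _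
  let φ : Γ(X, U) ⟶ Γ(X, U) := f.appLE U U hle
  have hφ : Spec.map φ ≫ hU.fromSpec = hU.fromSpec ≫ f := IsAffineOpen.SpecMap_appLE_fromSpec f hU hU hle
  have hαφ : α ≫ φ = α := by
    apply Spec.map_injective
    rw [Spec.map_comp, hα, reassoc_of% hφ, hf]
  -- the affine open `pr⁻¹ U` of `P`
  have : IsClosedImmersion pr := MorphismProperty.of_isPullback (P := @IsClosedImmersion) hP.flip
    (IsClosedImmersion.spec_of_surjective _ Ideal.Quotient.mk_surjective)
  have hW : IsAffineOpen (pr ⁻¹ᵁ U) := hU.preimage pr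
  let β : Γ(X, U) ⟶ Γ(P, pr ⁻¹ᵁ U) := pr.appLE U (pr ⁻¹ᵁ U) le_rfl
  have hβ : Spec.map β ≫ hU.fromSpec = hW.fromSpec ≫ pr :=
    IsAffineOpen.SpecMap_appLE_fromSpec pr hU hW le_rfl
  have hφβ : φ ≫ β = β := by
    apply Spec.map_injective
    rw [← cancel_mono hU.fromSpec, Spec.map_comp, Category.assoc, hφ, reassoc_of% hβ, hpr, hβ]
  -- the ideal `J·Γ(X, U)` and the map `Spec (Γ(X, U)/J) ⟶ P`
  let JB : Ideal Γ(X, U) := J.map α.hom
  let t₁ : Spec (CommRingCat.of (Γ(X, U) ⧸ JB)) ⟶ X :=
    Spec.map (CommRingCat.ofHom (Ideal.Quotient.mk JB)) ≫ hU.fromSpec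
  let t₂ : Spec (CommRingCat.of (Γ(X, U) ⧸ JB)) ⟶ Spec (CommRingCat.of (R ⧸ J)) :=
    Spec.map (CommRingCat.ofHom (Ideal.quotientMap JB α.hom Ideal.le_comap_map))
  have hcond : t₁ ≫ π = t₂ ≫ Spec.map (CommRingCat.ofHom (Ideal.Quotient.mk J)) := by
    rw [Category.assoc, ← hα, ← Spec.map_comp, ← Spec.map_comp]
    congr 1
  let t := hP.lift t₁ t₂ hcond
  have ht : t ≫ pr = t₁ := hP.lift_fst _ _ _
  have hrange : Set.range t.base ⊆ Set.range hW.fromSpec.base := by
    rw [hW.range_fromSpec]
    rintro _ ⟨z, rfl⟩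
    show pr.base (t.base z) ∈ U
    have h1 : pr.base (t.base z) = t₁.base z := by rw [← ht]; rfl
    rw [h1]
    have h2 : t₁.base z ∈ Set.range hU.fromSpec.base := ⟨_, rfl⟩
    rw [hU.range_fromSpec] at h2
    exact h2
  let t' := IsOpenImmersion.lift hW.fromSpec t hrange
  have ht' : t' ≫ hW.fromSpec = t := IsOpenImmersion.lift_fac _ _ _
  let γ : Γ(P, pr ⁻¹ᵁ U) ⟶ CommRingCat.of (Γ(X, U) ⧸ JB) := Spec.preimage t'
  have hγ : Spec.map γ = t' := Spec.map_preimage _
  have hβγ : β ≫ γ = CommRingCat.ofHom (Ideal.Quotient.mk JB) := by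
    apply Spec.map_injective
    rw [← cancel_mono hU.fromSpec, Spec.map_comp, Category.assoc, hβ, hγ, reassoc_of% ht', ht]
  have hsub : ∀ b, φ.hom b - b ∈ JB := by
    intro b
    have h1 : β.hom (φ.hom b - b) = 0 := by
      rw [map_sub, ← CommRingCat.comp_apply, hφβ, sub_self]
    have h2 := congr($(hβγ).hom (φ.hom b - b))
    rw [CommRingCat.comp_apply, h1, map_zero] at h2
    exact Ideal.Quotient.eq_zero_iff_mem.mp h2.symm
  let _ : Algebra R Γ(X, U) := α.hom.toAlgebra
  let w : Γ(X, U) →ₐ[R] Γ(X, U) :=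
    { φ.hom with commutes' := fun r => congr($(hαφ).hom r) }
  exact Groth.Agent.S8364.bijective_of_mk_comp_eq J hJ w
    (fun x => by rw [Ideal.Quotient.eq]; exact hsub x)

set_option backward.isDefEq.respectTransparency.types false in

/-- Over an affine base S = Spec R with S₀ = Spec (R/J) for an ideal J of square zero: for an arbitrary
S-scheme X, every S-endomorphism of X inducing the identity on X ×_S S₀ is an automorphism. (The
published statement is over an arbitrary base scheme with a quasi-coherent ideal of square zero;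
this row is its case of an affine base, to which it reduces since being an isomorphism is local on
the base.) -/
theorem result (R : Type u) [CommRing R] (J : Ideal R) (hJ : J * J = ⊥)
    (X : Over (Spec (CommRingCat.of R))) (u : X ⟶ X)
    (h : (Over.pullback (Spec.map (CommRingCat.ofHom (Ideal.Quotient.mk J)))).map u = 𝟙 _) :
    IsIso u := by
  let f := u.left
  have hf : f ≫ X.hom = X.hom := Over.w u
  have hpr : pullback.fst X.hom (Spec.map (CommRingCat.ofHom (Ideal.Quotient.mk J))) ≫ f =
      pullback.fst X.hom (Spec.map (CommRingCat.ofHom (Ideal.Quotient.mk J))) := by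
    have := congr($(h).left ≫
      pullback.fst X.hom (Spec.map (CommRingCat.ofHom (Ideal.Quotient.mk J))))
    simp only [Over.pullback_map_left, Over.id_left, Category.id_comp] at this
    rw [pullback.lift_fst] at this
    exact this
  let i := Spec.map (CommRingCat.ofHom (Ideal.Quotient.mk J))
  let pr := pullback.fst X.hom i
  have hP : IsPullback pr (pullback.snd X.hom i) X.hom i := IsPullback.of_hasPullback _ _
  have hpr : pr ≫ f = pr := hpr
  -- `i` is surjective since `J` is nilpotent
  have hi : Surjective i := by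
    refine ⟨fun x => ?_⟩
    have hx : x ∈ Set.range (PrimeSpectrum.comap (Ideal.Quotient.mk J)) := by
      rw [range_comap_of_surjective _ _ Ideal.Quotient.mk_surjective, Ideal.mk_ker]
      intro j hj
      have : j * j ∈ x.asIdeal := by
        have : j * j ∈ J * J := Ideal.mul_mem_mul hj hj
        rw [hJ, Ideal.mem_bot] at this
        rw [this]
        exact x.asIdeal.zero_mem
      exact (x.isPrime.mem_or_mem this).elim id id
    obtain ⟨z, hz⟩ := hx
    exact ⟨z, hz⟩
  have hprs : Surjective pr := inferInstance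
  have hpt : ∀ x, f.base x = x := by
    intro x
    obtain ⟨z, rfl⟩ := hprs.surj x
    rw [← Scheme.Hom.comp_apply, hpr]
  have hpre : ∀ U : X.left.Opens, f ⁻¹ᵁ U = U := by
    intro U
    ext x
    show f.base x ∈ U ↔ x ∈ U
    rw [hpt]
  have happ : ∀ V : X.left.Opens, IsAffineOpen V → IsIso (f.app V) := by
    intro V hV
    have hle : V ≤ f ⁻¹ᵁ V := (hpre V).ge
    have hb := bijective_appLE J hJ X.hom f hf pr _ hP hpr V hV hle
    have h1 : IsIso (f.appLE V V hle) := (ConcreteCategory.isIso_iff_bijective _).mpr hb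
    have h2 : IsIso (X.left.presheaf.map (homOfLE hle).op) := by
      have : homOfLE hle = eqToHom (hpre V).symm := rfl
      rw [this]
      infer_instance
    rw [Scheme.Hom.appLE] at h1
    exact IsIso.of_isIso_comp_right (f.app V) (X.left.presheaf.map (homOfLE hle).op)
  have : IsIso f := by
    refine HasAffineProperty.of_iSup_eq_top (P := MorphismProperty.isomorphisms Scheme.{u})
      (fun U : X.left.affineOpens => U) (iSup_affineOpens_eq_top _) (fun U => ⟨?_, ?_⟩)
    · show IsAffine (f ⁻¹ᵁ U.1)
      rw [hpre]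
      exact U.2
    · rw [morphismRestrict_appTop]
      have e : U.1.ι ''ᵁ ⊤ = U.1 := U.1.ι_image_top
      have hA : IsAffineOpen (U.1.ι ''ᵁ ⊤) := by rw [e]; exact U.2
      have := happ (U.1.ι ''ᵁ ⊤) hA
      have h3 : ∀ {A B : X.left.Opens} (e : A = B),
          IsIso (X.left.presheaf.map (eqToHom e).op) := by
        intro A B e
        subst e
        simp only [eqToHom_refl, op_id, Functor.map_id]
        infer_instance
      exact IsIso.comp_isIso' this (h3 _)
  have : IsIso ((Over.forget (Spec (CommRingCat.of R))).map u) := ‹IsIso f›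
  exact isIso_of_reflects_iso u (Over.forget _)

end Groth.Agent.S8362
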