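import Groth.Statements.S8365
import Groth.Agent.Lib.Helper43.DualPush

set_option autoImplicit false
universe u
open CategoryTheory MonObj AlgebraicGeometry
open LieS

namespace Groth.Agent.S8365

open Groth.Agent.Lib.Helper43.DualPush


/-- For a monoid scheme X over a scheme S (an associative unital monoid object in S-schemes) and an
affine S-scheme T = Spec B, a point of X with values in the dual numbers over T is invertible if and
only if its restriction along the zero section ε = 0 is invertible in X(T); in particular every such
point restricting to the unit section is invertible. (The published statement is for monoid-valued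
functors satisfying a tangent-space exactness condition, which every representable functor
satisfies, and its special case where the restriction is the unit section allows unital composition
laws that need not be associative; this row treats monoid schemes only.) -/
theorem result (S : Scheme.{u}) (X : Over S) [MonObj X] (B : Type u) [CommRing B]
    (f : Spec (CommRingCat.of B) ⟶ S) (v : LieS.dpt B f ⟶ X) :
    IsUnit v ↔ IsUnit (LieS.zeroSec B f ≫ v) := by
  constructor
  · intro hv
    let φ : (dpt B f ⟶ X) →* (pt B f ⟶ X) :=
      { toFun := fun a => zeroSec B f ≫ a
        map_one' := comp_one _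
        map_mul' := fun a b => comp_mul _ _ _ }
    exact hv.map φ
  · rintro ⟨u, hu⟩
    let g : pt B f ⟶ X := ↑u
    let g' : pt B f ⟶ X := ↑u⁻¹
    have hgg' : g * g' = 1 := u.mul_inv
    have hg'g : g' * g = 1 := u.inv_mul
    have hg : zeroSec B f ≫ v = g := hu.symm
    let P : dpt B f ⟶ X := proj B f ≫ g
    let P' : dpt B f ⟶ X := proj B f ≫ g'
    have hPP' : P * P' = 1 := by
      change proj B f ≫ g * proj B f ≫ g' = 1
      rw [← comp_mul, hgg', comp_one]
    have hP'P : P' * P = 1 := by
      change proj B f ≫ g' * proj B f ≫ g = 1
      rw [← comp_mul, hg'g, comp_one]
    have hP : IsUnit P := ⟨⟨P, P', hPP', hP'P⟩, rfl⟩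
    let w : dpt B f ⟶ X := v * P'
    have hw : zeroSec B f ≫ w = 1 := by
      change zeroSec B f ≫ (v * (proj B f ≫ g')) = 1
      rw [comp_mul, hg, ← Category.assoc, zeroSec_proj, Category.id_comp, hgg']
    have hwu : IsUnit w := by
      have h1 : scaleHomMul B f w hw (Multiplicative.ofAdd (1 : B)) = w := scale_one_comp B f w
      rw [← h1]
      exact (Group.isUnit _).map _
    have hv : v = w * P := by
      change v = v * P' * P
      rw [_root_.mul_assoc, hP'P, _root_.mul_one]
    rw [hv]
    exact hwu.mul hP

end Groth.Agent.S8365
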