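import Groth.Statements.S8369
import Mathlib.RingTheory.Flat.EquationalCriterion
import Mathlib.Tactic

set_option autoImplicit false
universe u v
open SGA3

namespace Groth.Agent.S8369

/-- Let A be a commutative ring, J a nilpotent ideal, N ⊆ M A-modules with M/N flat over A. If elements
of N have images generating the image of N in M/JM, then they generate N. (The published statement
takes finitely many elements; this row allows an arbitrary set, which the same argument permits.) -/
theorem result (A : Type u) [CommRing A] (J : Ideal A) (hJ : IsNilpotent J)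
    (M : Type v) [AddCommGroup M] [Module A M] (N : Submodule A M) [Module.Flat A (M ⧸ N)] (s : Set M)
    (hs : s ⊆ N)
    (hgen : (Submodule.span A s).map (J • (⊤ : Submodule A M)).mkQ = N.map (J • (⊤ : Submodule A M)).mkQ) :
    Submodule.span A s = N := by
  classical
  have hN'N : Submodule.span A s ≤ N := Submodule.span_le.mpr hs
  -- Step 1: N ⊓ J•⊤ ≤ J • N  (flatness of M ⧸ N)
  have hflat : ∀ x ∈ N, x ∈ J • (⊤ : Submodule A M) → x ∈ J • N := by
    intro x hxN hxJ
    have hspan : (⊤ : Submodule A M) = Submodule.span A (Set.range (id : M → M)) := by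
      simp
    rw [hspan, Submodule.mem_ideal_smul_span_iff_exists_sum] at hxJ
    obtain ⟨a, haJ, hax⟩ := hxJ
    simp only [id] at hax
    -- relation in the quotient
    have hrel : ∑ i : a.support, a (i : M) • (N.mkQ (i : M)) = 0 := by
      have h1 : N.mkQ x = 0 := by simpa using hxN
      rw [← h1, ← hax, Finsupp.sum, map_sum]
      simp only [map_smul]
      exact Finset.sum_coe_sort a.support (fun x => a x • N.mkQ x)
    obtain ⟨k, b, y, hy, hb⟩ := Module.Flat.isTrivialRelation_of_sum_smul_eq_zero hrel
    choose y' hy' using fun j => N.mkQ_surjective (y j)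
    have hn : ∀ i : a.support, (i : M) - ∑ j, b i j • y' j ∈ N := by
      intro i
      rw [← Submodule.Quotient.mk_eq_zero, Submodule.Quotient.mk_sub]
      have := hy i
      simp only [Submodule.mkQ_apply] at this hy'
      rw [this, ← Submodule.mkQ_apply, map_sum]
      simp [hy']
    have hx : x = ∑ i : a.support, a (i : M) • ((i : M) - ∑ j, b i j • y' j) := by
      have h2 : ∑ i : a.support, a (i : M) • ∑ j, b i j • y' j = 0 := by
        simp_rw [Finset.smul_sum, smul_smul]
        rw [Finset.sum_comm]
        simp_rw [← Finset.sum_smul, hb, zero_smul, Finset.sum_const_zero]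
      simp_rw [smul_sub, Finset.sum_sub_distrib, h2, sub_zero]
      rw [← hax, Finsupp.sum, ← Finset.sum_coe_sort]
    rw [hx]
    exact Submodule.sum_mem _ fun i _ => Submodule.smul_mem_smul (haJ _) (hn i)
  -- Step 2: N ≤ span s ⊔ J • N
  have hstep : N ≤ Submodule.span A s ⊔ J • N := by
    intro n hn
    have h1 : (J • (⊤ : Submodule A M)).mkQ n ∈ N.map (J • (⊤ : Submodule A M)).mkQ :=
      Submodule.mem_map_of_mem hn
    rw [← hgen] at h1
    obtain ⟨n', hn', hnn'⟩ := h1
    have h2 : n - n' ∈ J • (⊤ : Submodule A M) := by
      rw [← Submodule.Quotient.mk_eq_zero, Submodule.Quotient.mk_sub]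
      simp only [Submodule.mkQ_apply] at hnn'
      rw [hnn', sub_self]
    have h3 : n - n' ∈ J • N := hflat _ (N.sub_mem hn (hN'N hn')) h2
    have : n = n' + (n - n') := by abel
    rw [this]
    exact Submodule.add_mem_sup hn' h3
  -- Step 3: nilpotent Nakayama
  have hpow : ∀ k : ℕ, N ≤ Submodule.span A s ⊔ J ^ k • N := by
    intro k
    induction k with
    | zero => simp
    | succ k ih =>
      refine ih.trans (sup_le le_sup_left ?_)
      calc J ^ k • N ≤ J ^ k • (Submodule.span A s ⊔ J • N) := Submodule.smul_mono le_rfl hstep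
        _ = J ^ k • Submodule.span A s ⊔ J ^ k • J • N := Submodule.smul_sup _ _ _
        _ ≤ Submodule.span A s ⊔ J ^ (k + 1) • N := by
          refine sup_le_sup Submodule.smul_le_right ?_
          rw [← Submodule.mul_smul, pow_succ]
  obtain ⟨k, hk⟩ := hJ
  refine le_antisymm hN'N ?_
  have := hpow k
  rw [hk] at this
  simpa using this

end Groth.Agent.S8369
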