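import Groth.Statements.S8370
import Mathlib

set_option autoImplicit false
universe u
open CategoryTheory MonObj AlgebraicGeometry
open LieS

namespace Groth.Agent.S8370

open CategoryTheory MonObj AlgebraicGeometry
open LieS

section
variable {S : Scheme.{u}} (G K : Over S) [GrpObj G] [GrpObj K] (i : K ⟶ G) [IsMonHom i]


lemma pull_val' (G : Over S) [GrpObj G] (B : Type u) [CommRing B] (f : Spec (CommRingCat.of B) ⟶ S) {B' : Type u} [CommRing B']
    (h : B →+* B') (x : LieS.Lie G B f) : (LieS.pull G f h x).1 = LieS.dptMap f h ≫ x.1 := rfl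

lemma Ad_val' (G : Over S) [GrpObj G] (B : Type u) [CommRing B] (f : Spec (CommRingCat.of B) ⟶ S) (g : LieS.pt B f ⟶ G)
    (v : LieS.Lie G B f) :
    (LieS.Ad G B f g v).1 = (LieS.proj B f ≫ g) * v.1 * (LieS.proj B f ≫ g)⁻¹ := rfl

lemma dualHom_comp_bcHom {B C : Type u} [CommRing B] [CommRing C] (ψ : DualNumber B →+* C) :
    (LieS.dualHom (RingHom.id C) (ψ DualNumber.eps) (by rw [← map_mul, LieS.eps_sq, map_zero])).comp
      (LieS.bcHom (ψ.comp (algebraMap B (DualNumber B)))) = ψ := by
  ext x
  · simp [LieS.bcHom, TrivSqZeroExt.algebraMap_eq_inl']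
  · simp [LieS.bcHom, TrivSqZeroExt.algebraMap_eq_inl']

/-- The affine-local commutation statement. -/
lemma comm_affine (B : Type u) [CommRing B] (f : Spec (CommRingCat.of B) ⟶ S) (x : LieS.Lie G B f)
    (hAd : ∀ (B' : Type u) [CommRing B'] (h : B →+* B')
      (k : LieS.pt B' (Spec.map (CommRingCat.ofHom h) ≫ f) ⟶ K),
      LieS.Ad G B' (Spec.map (CommRingCat.ofHom h) ≫ f) (k ≫ i) (LieS.pull G f h x) = LieS.pull G f h x)
    (C : Type u) [CommRing C] (ψ : DualNumber B →+* C) (h : B →+* C)
    (hh : h = ψ.comp (algebraMap B (DualNumber B)))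
    (k : LieS.pt C (Spec.map (CommRingCat.ofHom h) ≫ f) ⟶ K)
    (y : LieS.pt C (Spec.map (CommRingCat.ofHom h) ≫ f) ⟶ LieS.dpt B f)
    (hy : y.left = Spec.map (CommRingCat.ofHom ψ)) :
    (y ≫ x.1) * (k ≫ i) = (k ≫ i) * (y ≫ x.1) := by
  have he : ψ DualNumber.eps * ψ DualNumber.eps = 0 := by rw [← map_mul, LieS.eps_sq, map_zero]
  -- the section `Spec C ⟶ Spec C[ε]`, `ε ↦ ψ ε`
  let s : LieS.pt C (Spec.map (CommRingCat.ofHom h) ≫ f) ⟶ LieS.dpt C (Spec.map (CommRingCat.ofHom h) ≫ f) :=
    Over.homMk (Spec.map (CommRingCat.ofHom (LieS.dualHom (RingHom.id C) (ψ DualNumber.eps) he))) (by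
      change Spec.map _ ≫ Spec.map _ ≫ _ = _
      rw [← Category.assoc, LieS.specMap_comp, LieS.dualHom_comp_algebraMap, CommRingCat.ofHom_id]
      erw [Spec.map_id]; exact Category.id_comp _)
  have hs1 : s ≫ LieS.proj C (Spec.map (CommRingCat.ofHom h) ≫ f) = 𝟙 _ := by
    ext
    change Spec.map _ ≫ Spec.map _ = 𝟙 _
    rw [LieS.specMap_comp, LieS.dualHom_comp_algebraMap, CommRingCat.ofHom_id]; erw [Spec.map_id]
  have hs2 : s ≫ LieS.dptMap f h = y := by
    ext
    rw [hy]
    change Spec.map _ ≫ Spec.map _ = _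
    rw [LieS.specMap_comp, hh, dualHom_comp_bcHom]
  have := congrArg Subtype.val (hAd C h k)
  rw [Ad_val', pull_val'] at this
  have h2 := congrArg (fun g => s ≫ g) this
  simp only [MonObj.comp_mul, GrpObj.comp_inv] at h2
  rw [← Category.assoc s, hs1, Category.id_comp, ← Category.assoc s, hs2] at h2
  exact (mul_inv_eq_iff_eq_mul.mp h2).symm

end


/-- For a group scheme G over a scheme S (the group law of the Lie algebra functor of a group scheme is
commutative, which the published statement assumes), a sub-group-scheme K of G given by a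
monomorphic homomorphism i, and an affine S-scheme T = Spec B: an element x of Lie(G/S)(T) belongs
to the Lie algebra of the centraliser of K, i.e. the point x of G with values in the dual numbers
I_T commutes with every point of K with values in any scheme over I_T, if and only if x is fixed by
the adjoint action of every point of K with values in an affine scheme T' = Spec B' over T (acting
on the restriction of x to T'). -/
theorem result (S : Scheme.{u}) (G K : Over S) [GrpObj G] [GrpObj K] (i : K ⟶ G)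
    [IsMonHom i] [Mono i] (B : Type u) [CommRing B] (f : Spec (CommRingCat.of B) ⟶ S) (x : LieS.Lie G B f) :
    (∀ (X' : Over S) (y : X' ⟶ LieS.dpt B f) (h : X' ⟶ K), (y ≫ x.1) * (h ≫ i) = (h ≫ i) * (y ≫ x.1)) ↔
    (∀ (B' : Type u) [CommRing B'] (h : B →+* B')
      (k : LieS.pt B' (Spec.map (CommRingCat.ofHom h) ≫ f) ⟶ K),
      LieS.Ad G B' (Spec.map (CommRingCat.ofHom h) ≫ f) (k ≫ i) (LieS.pull G f h x) = LieS.pull G f h x) := by
  constructor
  · intro hc B' _ h k
    apply Subtype.ext
    rw [Ad_val', pull_val', mul_inv_eq_iff_eq_mul]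
    have := hc (LieS.dpt B' (Spec.map (CommRingCat.ofHom h) ≫ f)) (LieS.dptMap f h)
      (LieS.proj B' _ ≫ k)
    rw [Category.assoc] at this
    exact this.symm
  · intro hAd X' y hK
    apply Over.OverMorphism.ext
    apply (X'.left.affineCover).hom_ext
    intro j
    have hW : IsAffine (X'.left.affineCover.X j) := inferInstance
    rw [← cancel_epi (X'.left.affineCover.X j).isoSpec.inv]
    set g : Spec Γ(X'.left.affineCover.X j, ⊤) ⟶ X'.left :=
      (X'.left.affineCover.X j).isoSpec.inv ≫ X'.left.affineCover.f j with hg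
    let ψ : DualNumber B →+* Γ(X'.left.affineCover.X j, ⊤) := (Spec.preimage (g ≫ y.left)).hom
    have hψ : Spec.map (CommRingCat.ofHom ψ) = g ≫ y.left := Spec.map_preimage _
    have hw : g ≫ X'.hom = Spec.map (CommRingCat.ofHom (ψ.comp (algebraMap B (DualNumber B)))) ≫ f := by
      have h1 := Over.w y
      rw [← LieS.specMap_comp, hψ, Category.assoc, ← h1]
      rfl
    let J : LieS.pt Γ(X'.left.affineCover.X j, ⊤)
        (Spec.map (CommRingCat.ofHom (ψ.comp (algebraMap B (DualNumber B)))) ≫ f) ⟶ X' :=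
      Over.homMk g hw
    have key := comm_affine G K i B f x hAd Γ(X'.left.affineCover.X j, ⊤) ψ _ rfl (J ≫ hK) (J ≫ y)
      (by rw [Over.comp_left]; exact hψ.symm)
    rw [Category.assoc, Category.assoc, ← MonObj.comp_mul, ← MonObj.comp_mul] at key
    have := congrArg Over.Hom.left key
    simpa [J, hg, Category.assoc] using this

end Groth.Agent.S8370
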