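import Groth.Statements.S8383
import Mathlib

set_option autoImplicit false
universe u
open scoped TensorProduct
open SGA3t2b

namespace Groth.Agent.S8383

section aux

open MvPolynomial

/-- the Frobenius-power ideal `(X_j ^ q)_j` -/
noncomputable def frobIdeal (σ : Type*) (K : Type*) [CommRing K] (q : ℕ) : Ideal (MvPolynomial σ K) :=
  Ideal.span ((fun s => monomial s (1 : K)) '' (Set.range fun j : σ => Finsupp.single j q))

lemma mem_frobIdeal_iff {σ K : Type*} [CommRing K] {q : ℕ} {x : MvPolynomial σ K} :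
    x ∈ frobIdeal σ K q ↔ ∀ t ∈ x.support, ∃ j, q ≤ t j := by
  rw [frobIdeal, mem_ideal_span_monomial_image]
  refine forall₂_congr fun t _ => ?_
  constructor
  · rintro ⟨_, ⟨j, rfl⟩, hj⟩
    refine ⟨j, ?_⟩
    simpa using hj j
  · rintro ⟨j, hj⟩
    refine ⟨_, ⟨j, rfl⟩, ?_⟩
    intro i
    by_cases h : i = j
    · subst h; simpa using hj
    · simp [Ne.symm h]

lemma X_pow_mem_frobIdeal {σ K : Type*} [CommRing K] (q : ℕ) (j : σ) :
    (X j : MvPolynomial σ K) ^ q ∈ frobIdeal σ K q := by
  apply Ideal.subset_span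
  refine ⟨Finsupp.single j q, ⟨j, rfl⟩, ?_⟩
  simp [X_pow_eq_monomial]

/-- Linear substitutions preserve the Frobenius-power ideal in characteristic `p`. -/
lemma aeval_linear_mem_frobIdeal {σ τ K : Type*} [Fintype τ] [CommRing K] (p : ℕ) [Fact p.Prime]
    [CharP K p] (e : ℕ) (c : σ → τ → K) (x : MvPolynomial σ K)
    (hx : x ∈ frobIdeal σ K (p ^ e)) :
    aeval (fun j => ∑ i, C (c j i) * X i) x ∈ frobIdeal τ K (p ^ e) := by
  have hle : frobIdeal σ K (p ^ e) ≤
      (frobIdeal τ K (p ^ e)).comap
        (aeval (fun j => ∑ i, C (c j i) * X i) : MvPolynomial σ K →ₐ[K] MvPolynomial τ K) := by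
    rw [frobIdeal, Ideal.span_le]
    rintro _ ⟨_, ⟨j, rfl⟩, rfl⟩
    rw [SetLike.mem_coe, Ideal.mem_comap]
    change aeval _ (monomial (Finsupp.single j (p ^ e)) (1 : K)) ∈ _
    have : (monomial (Finsupp.single j (p ^ e)) (1 : K)) = (X j : MvPolynomial σ K) ^ (p ^ e) := by
      simp [X_pow_eq_monomial]
    rw [this, map_pow, aeval_X, sum_pow_char_pow]
    refine Ideal.sum_mem _ fun i _ => ?_
    rw [mul_pow]
    exact Ideal.mul_mem_left _ _ (X_pow_mem_frobIdeal _ i)
  exact hle hx

end aux

open MvPolynomial in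
theorem result (k : Type u) [Field k] [Finite k]
    (V : Type u) [AddCommGroup V] [Module k V] [Module.Finite k V] {ι : Type} [Fintype ι]
    (θ : Module.Basis ι (AlgebraicClosure k) (Module.Dual (AlgebraicClosure k) (AlgebraicClosure k ⊗[k] V))) :
    ∃ x : V, ∀ i : ι, θ i ((1 : AlgebraicClosure k) ⊗ₜ[k] x) ≠ 0 := by
  classical
  have : Fintype k := Fintype.ofFinite k
  set K := AlgebraicClosure k with hK
  -- characteristic
  obtain ⟨p, hp⟩ := CharP.exists k
  obtain ⟨⟨e, he⟩, hpprime, hcard⟩ := FiniteField.card k p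
  have : Fact p.Prime := ⟨hpprime⟩
  have : CharP K p := charP_of_injective_algebraMap (algebraMap k K).injective p
  simp only [PNat.mk_coe] at hcard
  -- bases
  let m := Module.finrank k V
  let b : Module.Basis (Fin m) k V := Module.finBasis k V
  let bK : Module.Basis (Fin m) K (K ⊗[k] V) := b.baseChange K
  let β : Module.Basis (Fin m) K (Module.Dual K (K ⊗[k] V)) := bK.dualBasis
  let a : ι → Fin m → K := fun i j => θ i (bK j)
  let a' : Fin m → ι → K := fun j i => θ.repr (β j) i
  have haa' : ∀ i l : ι, ∑ j, a i j * a' j l = if i = l then 1 else 0 := by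
    intro i l
    have h1 : (θ.toMatrix β * β.toMatrix θ) l i = (1 : Matrix ι ι K) l i := by
      rw [Module.Basis.toMatrix_mul_toMatrix_flip]
    rw [Matrix.mul_apply] at h1
    rw [Matrix.one_apply] at h1
    have h2 : ∀ j, (θ.toMatrix β) l j * (β.toMatrix θ) j i = a i j * a' j l := by
      intro j
      simp only [Module.Basis.toMatrix_apply, a, a', β, Module.Basis.dualBasis_repr]
      ring
    simp_rw [h2] at h1
    rw [h1]
    simp [eq_comm]
  -- the polynomial
  let f : MvPolynomial (Fin m) K := ∏ i : ι, ∑ j, C (a i j) * X j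
  have hf_notin : f ∉ frobIdeal (Fin m) K (p ^ e) := by
    intro hf
    have h1 := aeval_linear_mem_frobIdeal p e a' f hf
    have h2 : aeval (fun j => ∑ i, C (a' j i) * X i) f = ∏ i : ι, (X i : MvPolynomial ι K) := by
      simp only [f, map_prod, map_sum, map_mul, aeval_C, aeval_X, algebraMap_eq]
      refine Finset.prod_congr rfl fun i _ => ?_
      simp_rw [Finset.mul_sum, ← mul_assoc, ← C_mul]
      rw [Finset.sum_comm]
      simp_rw [← Finset.sum_mul, ← map_sum, haa']
      simp
    rw [h2] at h1
    have h3 : (∏ i : ι, (X i : MvPolynomial ι K)) = monomial (∑ i : ι, Finsupp.single i 1) 1 := by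
      rw [monomial_sum_one]
      rfl
    rw [h3, mem_frobIdeal_iff] at h1
    have hmem : (∑ i : ι, Finsupp.single i 1) ∈
        (monomial (∑ i : ι, Finsupp.single i 1) (1 : K)).support := by
      rw [support_monomial]; simp
    obtain ⟨j, hj⟩ := h1 _ hmem
    have : (∑ i : ι, Finsupp.single i 1 : ι →₀ ℕ) j = 1 := by
      simp [Finsupp.finsetSum_apply, Finsupp.single_apply]
    rw [this] at hj
    have : 2 ≤ p ^ e := by
      calc 2 ≤ p := hpprime.two_le
        _ = p ^ 1 := (pow_one p).symm
        _ ≤ p ^ e := Nat.pow_le_pow_right hpprime.pos he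
    omega
  rw [mem_frobIdeal_iff] at hf_notin
  push Not at hf_notin
  obtain ⟨t, ht, htq⟩ := hf_notin
  -- homogeneity
  have hhom : f.IsHomogeneous (Fintype.card ι) := by
    have : f.IsHomogeneous (∑ _i : ι, 1) := by
      apply IsHomogeneous.prod
      intro i _
      apply IsHomogeneous.sum
      intro j _
      exact isHomogeneous_C_mul_X _ _
    simpa using this
  have hf0 : f ≠ 0 := by
    intro h; rw [h] at ht; simp at ht
  have htdeg : f.totalDegree = t.degree := by
    rw [hhom.totalDegree hf0]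
    have := hhom (mem_support_iff.mp ht)
    rw [← this, Finsupp.degree_eq_weight_one]
    rfl
  let S : Fin m → Finset K := fun _ => Finset.univ.image (algebraMap k K)
  have hS : ∀ j, t j < (S j).card := by
    intro j
    rw [Finset.card_image_of_injective _ (algebraMap k K).injective, Finset.card_univ, hcard]
    exact htq j
  obtain ⟨s, hsS, hs⟩ := combinatorial_nullstellensatz_exists_eval_nonzero f t
    (mem_support_iff.mp ht) htdeg S hS
  have hc : ∀ j, ∃ c : k, algebraMap k K c = s j := by
    intro j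
    have := hsS j
    simp only [S, Finset.mem_image, Finset.mem_univ, true_and] at this
    exact this
  choose c hc using hc
  refine ⟨∑ j, c j • b j, fun i => ?_⟩
  have hev : eval s f = ∏ i : ι, ∑ j, a i j * s j := by
    simp [f, map_prod, map_sum]
  have hθ : θ i ((1 : K) ⊗ₜ[k] (∑ j, c j • b j)) = ∑ j, a i j * s j := by
    rw [TensorProduct.tmul_sum, map_sum]
    refine Finset.sum_congr rfl fun j _ => ?_
    have : (1 : K) ⊗ₜ[k] (c j • b j) = (algebraMap k K (c j)) • ((1 : K) ⊗ₜ[k] b j) := by
      rw [TensorProduct.tmul_smul, algebraMap_smul]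
    rw [this, map_smul, smul_eq_mul, hc j, mul_comm]
    simp [a, bK]
  rw [hθ]
  rw [hev] at hs
  exact fun h => hs (Finset.prod_eq_zero (Finset.mem_univ i) h)

end Groth.Agent.S8383
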