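import Groth.Statements.S8384
import Mathlib

set_option autoImplicit false
universe u
open CategoryTheory MonoidalCategory CartesianMonoidalCategory MonObj GrpObj AlgebraicGeometry
open SGA3x

namespace Groth.Agent.S8384

section
variable (A : Type u) [CommRing A] [IsLocalRing A]

/-- the closed point of `Spec A` -/
abbrev cp : ↥(Spec (CommRingCat.of A)) := IsLocalRing.closedPoint A

/-- the quotient map `A → A/𝔪ⁿ` -/
abbrev qn (n : ℕ) : A →+* A ⧸ (IsLocalRing.maximalIdeal A) ^ n := Ideal.Quotient.mk _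

/-- the closed immersion `Spec A/𝔪ⁿ → Spec A` -/
noncomputable abbrev ιn (n : ℕ) : Spec (CommRingCat.of (A ⧸ (IsLocalRing.maximalIdeal A) ^ n)) ⟶ Spec (CommRingCat.of A) :=
  Spec.map (CommRingCat.ofHom (qn A n))

lemma comap_eq (n : ℕ) (p : PrimeSpectrum (A ⧸ (IsLocalRing.maximalIdeal A) ^ n)) :
    PrimeSpectrum.comap (qn A n) p = IsLocalRing.closedPoint A := by
  apply PrimeSpectrum.ext
  change Ideal.comap (qn A n) p.asIdeal = IsLocalRing.maximalIdeal A
  have hprime : (Ideal.comap (qn A n) p.asIdeal).IsPrime := inferInstance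
  refine le_antisymm (IsLocalRing.le_maximalIdeal hprime.ne_top) ?_
  intro a ha
  have h1 : a ^ n ∈ (IsLocalRing.maximalIdeal A) ^ n := Ideal.pow_mem_pow ha n
  have h2 : (qn A n a) ^ n ∈ p.asIdeal := by
    rw [← map_pow, Ideal.Quotient.eq_zero_iff_mem.2 h1]
    exact zero_mem _
  exact p.isPrime.mem_of_pow_mem n h2

instance subsingleton_Sn (n : ℕ) : Subsingleton (PrimeSpectrum (A ⧸ (IsLocalRing.maximalIdeal A) ^ n)) :=
  ⟨fun p p' => PrimeSpectrum.comap_injective_of_surjective (qn A n) Ideal.Quotient.mk_surjective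
    ((comap_eq A n p).trans (comap_eq A n p').symm)⟩

lemma ιn_apply (n : ℕ) (p : ↥(Spec (CommRingCat.of (A ⧸ (IsLocalRing.maximalIdeal A) ^ n)))) :
    (ιn A n) p = cp A := comap_eq A n p

instance nonempty_S1 : Nonempty (PrimeSpectrum (A ⧸ (IsLocalRing.maximalIdeal A) ^ 1)) := by
  have : Nontrivial (A ⧸ (IsLocalRing.maximalIdeal A) ^ 1) := by
    rw [pow_one]; infer_instance
  infer_instance

variable {A}

lemma range_subset_of_closedPoint {X V : Scheme.{u}} (f : Spec (CommRingCat.of A) ⟶ X) (j : V ⟶ X)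
    [IsOpenImmersion j] (h : f (cp A) ∈ Set.range j) : Set.range f ⊆ Set.range j := by
  rintro _ ⟨p, rfl⟩
  have hs : p ⤳ cp A := IsLocalRing.specializes_closedPoint p
  have := hs.map f.continuous
  exact this.mem_open j.isOpenEmbedding.isOpen_range h

end


/-- Let A be a local ring, separated and complete for the topology defined by its maximal ideal m, S =
Spec A and Sₙ = Spec(A/mⁿ). Then for every scheme X the canonical map Hom(S, X) → lim Hom(Sₙ, X) is
bijective: two morphisms S → X that agree on every Sₙ are equal, and every family of morphisms Sₙ →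
X compatible with the closed immersions Sₙ → Sₙ₊₁ is induced by a morphism S → X. -/
theorem result (A : Type u) [CommRing A] [IsLocalRing A]
    [IsAdicComplete (IsLocalRing.maximalIdeal A) A] (X : Scheme.{u}) :
    (∀ f g : (Spec (CommRingCat.of A)) ⟶ X,
      (∀ n : ℕ, (Spec.map (CommRingCat.ofHom (Ideal.Quotient.mk ((IsLocalRing.maximalIdeal A) ^ n)))) ≫ f = (Spec.map (CommRingCat.ofHom (Ideal.Quotient.mk ((IsLocalRing.maximalIdeal A) ^ n)))) ≫ g) → f = g) ∧
    (∀ u : (n : ℕ) → (Spec (CommRingCat.of (A ⧸ (IsLocalRing.maximalIdeal A) ^ n)) ⟶ X),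
      (∀ n : ℕ, (Spec.map (CommRingCat.ofHom (Ideal.Quotient.factor
          (Ideal.pow_le_pow_right (I := (IsLocalRing.maximalIdeal A)) (Nat.le_succ n))))) ≫ u (n + 1) = u n) →
      ∃ f : (Spec (CommRingCat.of A)) ⟶ X, ∀ n : ℕ, (Spec.map (CommRingCat.ofHom (Ideal.Quotient.mk ((IsLocalRing.maximalIdeal A) ^ n)))) ≫ f = u n) := by
  constructor
  · intro f g hfg
    let 𝒰 := X.affineOpenCover
    let i := 𝒰.idx (f (cp A))
    have hxj : f (cp A) ∈ Set.range (𝒰.f i) := 𝒰.covers (f (cp A))
    obtain ⟨s₁⟩ := nonempty_S1 A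
    have hgx : f (cp A) = g (cp A) := by
      rw [← ιn_apply A 1 s₁, ← Scheme.Hom.comp_apply, ← Scheme.Hom.comp_apply]
      exact congrArg (fun h : _ ⟶ X => h s₁) (hfg 1)
    have hf := range_subset_of_closedPoint f (𝒰.f i) hxj
    have hg := range_subset_of_closedPoint g (𝒰.f i) (by rw [← hgx]; exact hxj)
    have hf' := IsOpenImmersion.lift_fac (𝒰.f i) f hf
    have hg' := IsOpenImmersion.lift_fac (𝒰.f i) g hg
    rw [← hf', ← hg']
    congr 1
    rw [← Spec.map_preimage (IsOpenImmersion.lift (𝒰.f i) f hf),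
      ← Spec.map_preimage (IsOpenImmersion.lift (𝒰.f i) g hg)]
    congr 1
    have key : ∀ n, (qn A n).comp (Spec.preimage (IsOpenImmersion.lift (𝒰.f i) f hf)).hom =
        (qn A n).comp (Spec.preimage (IsOpenImmersion.lift (𝒰.f i) g hg)).hom := by
      intro n
      have h1 : ιn A n ≫ IsOpenImmersion.lift (𝒰.f i) f hf =
          ιn A n ≫ IsOpenImmersion.lift (𝒰.f i) g hg := by
        rw [← cancel_mono (𝒰.f i), Category.assoc, Category.assoc, hf', hg']
        exact hfg n
      rw [← Spec.map_preimage (IsOpenImmersion.lift (𝒰.f i) f hf),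
        ← Spec.map_preimage (IsOpenImmersion.lift (𝒰.f i) g hg), ← Spec.map_comp,
        ← Spec.map_comp] at h1
      have h2 := Spec.map_injective h1
      exact congrArg CommRingCat.Hom.hom h2
    apply CommRingCat.hom_ext
    apply DFunLike.coe_injective
    apply IsHausdorff.funext' (IsLocalRing.maximalIdeal A)
    intro n r
    exact congrArg (fun h => h r) (key n)
  · intro u hu
    have hcompat : ∀ (m n : ℕ) (h : m ≤ n), Spec.map (CommRingCat.ofHom
        (Ideal.Quotient.factorPow (IsLocalRing.maximalIdeal A) h)) ≫ u n = u m := by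
      intro m n h
      induction n, h using Nat.le_induction with
      | base =>
        have : Ideal.Quotient.factorPow (IsLocalRing.maximalIdeal A) (le_refl m) = RingHom.id _ := by
          apply Ideal.Quotient.ringHom_ext
          ext a
          simp
        rw [this]
        erw [Spec.map_id]
        exact Category.id_comp _
      | succ n h ih =>
        rw [← ih, ← hu n, ← Category.assoc, ← Spec.map_comp, ← CommRingCat.ofHom_comp]
        congr 3
        apply Ideal.Quotient.ringHom_ext
        ext a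
        simp
    obtain ⟨s₁⟩ := nonempty_S1 A
    let 𝒰 := X.affineOpenCover
    let i := 𝒰.idx (u 1 s₁)
    have hxj : u 1 s₁ ∈ Set.range (𝒰.f i) := 𝒰.covers _
    have hrange : ∀ n, Set.range (u n) ⊆ Set.range (𝒰.f i) := by
      intro n
      rintro _ ⟨p, rfl⟩
      have hn : n ≤ max n 1 := le_max_left _ _
      have h1 : 1 ≤ max n 1 := le_max_right _ _
      have e1 : u n p = u (max n 1) (Spec.map (CommRingCat.ofHom
          (Ideal.Quotient.factorPow (IsLocalRing.maximalIdeal A) hn)) p) := by
        rw [← Scheme.Hom.comp_apply, hcompat]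
      have e2 : u 1 s₁ = u (max n 1) (Spec.map (CommRingCat.ofHom
          (Ideal.Quotient.factorPow (IsLocalRing.maximalIdeal A) h1)) s₁) := by
        rw [← Scheme.Hom.comp_apply, hcompat]
      have e3 : Spec.map (CommRingCat.ofHom
          (Ideal.Quotient.factorPow (IsLocalRing.maximalIdeal A) hn)) p =
          Spec.map (CommRingCat.ofHom
          (Ideal.Quotient.factorPow (IsLocalRing.maximalIdeal A) h1)) s₁ :=
        (subsingleton_Sn A (max n 1)).elim _ _
      rw [e1, e3, ← e2]
      exact hxj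
    have hfac := fun n => IsOpenImmersion.lift_fac (𝒰.f i) (u n) (hrange n)
    let φ : (n : ℕ) → (𝒰.X i) →+* A ⧸ (IsLocalRing.maximalIdeal A) ^ n := fun n =>
      (Spec.preimage (IsOpenImmersion.lift (𝒰.f i) (u n) (hrange n))).hom
    have hφ : ∀ n, Spec.map (CommRingCat.ofHom (φ n)) =
        IsOpenImmersion.lift (𝒰.f i) (u n) (hrange n) := fun n => Spec.map_preimage _
    have hφcompat : ∀ {m n : ℕ} (hle : m ≤ n),
        (Ideal.Quotient.factorPow (IsLocalRing.maximalIdeal A) hle).comp (φ n) = φ m := by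
      intro m n hle
      have h1 : Spec.map (CommRingCat.ofHom
          (Ideal.Quotient.factorPow (IsLocalRing.maximalIdeal A) hle)) ≫
          IsOpenImmersion.lift (𝒰.f i) (u n) (hrange n) =
          IsOpenImmersion.lift (𝒰.f i) (u m) (hrange m) := by
        rw [← cancel_mono (𝒰.f i), Category.assoc, hfac, hfac, hcompat]
      rw [← hφ, ← hφ, ← Spec.map_comp, ← CommRingCat.ofHom_comp] at h1
      exact congrArg CommRingCat.Hom.hom (Spec.map_injective h1)
    refine ⟨Spec.map (CommRingCat.ofHom
      (IsAdicComplete.liftRingHom (IsLocalRing.maximalIdeal A) φ hφcompat)) ≫ 𝒰.f i, fun n => ?_⟩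
    rw [← Category.assoc, ← Spec.map_comp, ← CommRingCat.ofHom_comp,
      IsAdicComplete.mk_comp_liftRingHom, hφ, hfac]

end Groth.Agent.S8384
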