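import Groth.Statements.S8392
import Groth.Agent.Lib.Helper43.GaGm
import Groth.Agent.Lib.Helper43.DSChar

set_option autoImplicit false
universe u
open CategoryTheory MonoidalCategory CartesianMonoidalCategory MonObj GrpObj AlgebraicGeometry
open SGA3x

namespace Groth.Agent.S8392

open Groth.Agent.Lib.Helper43 Limits

lemma core {A : Type u} [CommRing A] {G : Type} [Monoid G] (β : MonoidAlgebra A G)
    (h : MonoidAlgebra.mapDomain (fun g : G => (g, g)) β =
      MonoidAlgebra.mapDomain (fun g : G => (g, (1 : G))) β +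
      MonoidAlgebra.mapDomain (fun g : G => ((1 : G), g)) β) : β = 0 := by
  classical
  have hd : Function.Injective (fun g : G => (g, g)) := fun a b hab => (Prod.ext_iff.1 hab).1
  have h1 : Function.Injective (fun g : G => (g, (1 : G))) := fun a b hab => (Prod.ext_iff.1 hab).1
  have h2 : Function.Injective (fun g : G => ((1 : G), g)) := fun a b hab => (Prod.ext_iff.1 hab).2
  have hc := congrArg MonoidAlgebra.coeff h
  simp only [MonoidAlgebra.coeff_mapDomain, MonoidAlgebra.coeff_add] at hc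
  apply MonoidAlgebra.coeff_injective
  ext g
  have hg := DFunLike.congr_fun hc (g, g)
  rw [Finsupp.add_apply] at hg
  have e0 : Finsupp.mapDomain (fun g : G => (g, g)) β.coeff (g, g) = β.coeff g :=
    Finsupp.mapDomain_apply hd _ _
  rw [e0] at hg
  by_cases hg1 : g = 1
  · subst hg1
    have e1 : Finsupp.mapDomain (fun g : G => (g, (1 : G))) β.coeff ((1 : G), (1 : G)) = β.coeff 1 :=
      Finsupp.mapDomain_apply h1 _ _
    have e2 : Finsupp.mapDomain (fun g : G => ((1 : G), g)) β.coeff ((1 : G), (1 : G)) = β.coeff 1 :=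
      Finsupp.mapDomain_apply h2 _ _
    rw [e1, e2] at hg
    have : β.coeff 1 = 0 := by linear_combination -hg
    simpa using this
  · have e1 : Finsupp.mapDomain (fun g : G => (g, (1 : G))) β.coeff (g, g) = 0 := by
      apply Finsupp.mapDomain_of_notMem_range
      rintro ⟨a, ha⟩
      exact hg1 (Prod.ext_iff.1 ha).2.symm
    have e2 : Finsupp.mapDomain (fun g : G => ((1 : G), g)) β.coeff (g, g) = 0 := by
      apply Finsupp.mapDomain_of_notMem_range
      rintro ⟨a, ha⟩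
      exact hg1 (Prod.ext_iff.1 ha).1.symm
    rw [e1, e2, add_zero] at hg
    simpa using hg


section K

variable {U : Scheme.{u}} {M : Type} [AddCommGroup M]

/-- character values of a point over `Spec B`, read in `B` -/
noncomputable def chr' {B : CommRingCat.{u}} {z : Spec B ⟶ U} (c : Over.mk z ⟶ Red.DS U M)
    (m : Multiplicative M) : B :=
  (Scheme.ΓSpecIso B).hom (chr c m)

lemma chr'_comp {B B' : CommRingCat.{u}} {z : Spec B ⟶ U} {z' : Spec B' ⟶ U} (φ : B ⟶ B')
    (r : Over.mk z' ⟶ Over.mk z) (hr : r.left = Spec.map φ) (c : Over.mk z ⟶ Red.DS U M)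
    (m : Multiplicative M) : chr' (r ≫ c) m = φ (chr' c m) := by
  unfold chr'
  rw [chr_comp, hr]
  exact ConcreteCategory.congr_hom (Scheme.ΓSpecIso_naturality φ) (chr c m)

lemma chr'_mul {B : CommRingCat.{u}} {z : Spec B ⟶ U} (c d : Over.mk z ⟶ Red.DS U M)
    (m : Multiplicative M) : chr' (c * d) m = chr' c m * chr' d m := by
  unfold chr'
  rw [chr_mul_pt, map_mul]

lemma chr'_injective {B : CommRingCat.{u}} {z : Spec B ⟶ U} {c d : Over.mk z ⟶ Red.DS U M}
    (h : ∀ m, chr' c m = chr' d m) : c = d := by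
  apply chr_injective
  intro m
  have := h m
  unfold chr' at this
  exact (ConcreteCategory.injective_of_mono_of_preservesPullback (Scheme.ΓSpecIso B).hom) this

lemma chr'_surjective {B : CommRingCat.{u}} (z : Spec B ⟶ U) (χ : Multiplicative M →* B) :
    ∃ c : Over.mk z ⟶ Red.DS U M, ∀ m, chr' c m = χ m := by
  obtain ⟨c, hc⟩ := chr_surjective (S := U) (X := Over.mk z) (M := M)
    ((Scheme.ΓSpecIso B).inv.hom.toMonoidHom.comp χ)
  refine ⟨c, fun m => ?_⟩
  unfold chr'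
  rw [hc m]
  exact Iso.inv_hom_id_apply (C := CommRingCat) (Scheme.ΓSpecIso B) (χ m)

variable (θ : ∀ (Y : Over U), (Y ⟶ Red.DS U M) → Γ(Y.left, ⊤))
  (hadd : ∀ (Y : Over U) (p q : Y ⟶ Red.DS U M), θ Y (p * q) = θ Y p + θ Y q)
  (hnat : ∀ (Y Y' : Over U) (r : Y' ⟶ Y) (p : Y ⟶ Red.DS U M),
      θ Y' (r ≫ p) = r.left.appTop (θ Y p))

/-- the function, read in `B` -/
noncomputable def θ' {B : CommRingCat.{u}} {z : Spec B ⟶ U} (c : Over.mk z ⟶ Red.DS U M) : B :=
  (Scheme.ΓSpecIso B).hom (θ (Over.mk z) c)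

include hnat in
lemma θ'_comp {B B' : CommRingCat.{u}} {z : Spec B ⟶ U} {z' : Spec B' ⟶ U} (φ : B ⟶ B')
    (r : Over.mk z' ⟶ Over.mk z) (hr : r.left = Spec.map φ) (c : Over.mk z ⟶ Red.DS U M) :
    θ' θ (r ≫ c) = φ (θ' θ c) := by
  unfold θ'
  rw [hnat, hr]
  exact ConcreteCategory.congr_hom (Scheme.ΓSpecIso_naturality φ) (θ (Over.mk z) c)

include hadd in
lemma θ'_mul {B : CommRingCat.{u}} {z : Spec B ⟶ U} (c d : Over.mk z ⟶ Red.DS U M) :
    θ' θ (c * d) = θ' θ c + θ' θ d := by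
  unfold θ'
  rw [hadd, map_add]

end K

lemma chr'_one_arg {U : Scheme.{u}} {M : Type} [AddCommGroup M] {B : CommRingCat.{u}}
    {z : Spec B ⟶ U} (c : Over.mk z ⟶ Red.DS U M) : chr' c 1 = 1 := by
  unfold chr'
  rw [chr_one_arg, map_one]

lemma chr'_mul_arg {U : Scheme.{u}} {M : Type} [AddCommGroup M] {B : CommRingCat.{u}}
    {z : Spec B ⟶ U} (c : Over.mk z ⟶ Red.DS U M) (m n : Multiplicative M) :
    chr' c (m * n) = chr' c m * chr' c n := by
  unfold chr'
  rw [chr_mul_arg, map_mul]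

/-- additive natural functions on the points of `D_U(M)` vanish (on affine test schemes). -/
lemma additive_natural_zero (U : Scheme.{u}) (M : Type) [AddCommGroup M]
    (θ : ∀ (Y : Over U), (Y ⟶ Red.DS U M) → Γ(Y.left, ⊤))
    (hadd : ∀ (Y : Over U) (p q : Y ⟶ Red.DS U M), θ Y (p * q) = θ Y p + θ Y q)
    (hnat : ∀ (Y Y' : Over U) (r : Y' ⟶ Y) (p : Y ⟶ Red.DS U M),
      θ Y' (r ≫ p) = r.left.appTop (θ Y p))
    (A : CommRingCat.{u}) (y : Spec A ⟶ U) (p : Over.mk y ⟶ Red.DS U M) :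
    θ (Over.mk y) p = 0 := by
  classical
  let G := Multiplicative M
  let A₁ : CommRingCat.{u} := CommRingCat.of (MonoidAlgebra A G)
  let A₂ : CommRingCat.{u} := CommRingCat.of (MonoidAlgebra A (G × G))
  let ι₁ : A ⟶ A₁ := CommRingCat.ofHom (algebraMap A (MonoidAlgebra A G))
  let ι₂ : A ⟶ A₂ := CommRingCat.ofHom (algebraMap A (MonoidAlgebra A (G × G)))
  let y₁ : Spec A₁ ⟶ U := Spec.map ι₁ ≫ y
  let y₂ : Spec A₂ ⟶ U := Spec.map ι₂ ≫ y
  let f₁ : G →* G × G := MonoidHom.inl G G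
  let f₂ : G →* G × G := MonoidHom.inr G G
  let fd : G →* G × G := (MonoidHom.id G).prod (MonoidHom.id G)
  let i₁ : A₁ ⟶ A₂ := CommRingCat.ofHom (MonoidAlgebra.mapDomainRingHom A f₁)
  let i₂ : A₁ ⟶ A₂ := CommRingCat.ofHom (MonoidAlgebra.mapDomainRingHom A f₂)
  let δ : A₁ ⟶ A₂ := CommRingCat.ofHom (MonoidAlgebra.mapDomainRingHom A fd)
  have hi : ∀ (f : G →* G × G),
      ι₁ ≫ CommRingCat.ofHom (MonoidAlgebra.mapDomainRingHom A f) = ι₂ := by
    intro f
    apply CommRingCat.hom_ext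
    apply RingHom.ext
    intro a
    change MonoidAlgebra.mapDomain f (algebraMap A (MonoidAlgebra A G) a) =
      algebraMap A (MonoidAlgebra A (G × G)) a
    exact (MonoidAlgebra.mapDomainAlgHom A A f).commutes a
  have hw : ∀ (f : G →* G × G),
      Spec.map (CommRingCat.ofHom (MonoidAlgebra.mapDomainRingHom A f)) ≫ y₁ = y₂ := by
    intro f
    change Spec.map _ ≫ Spec.map ι₁ ≫ y = Spec.map ι₂ ≫ y
    rw [← Spec.map_comp_assoc, hi f]
  let r₁ : Over.mk y₂ ⟶ Over.mk y₁ := Over.homMk (Spec.map i₁) (hw f₁)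
  let r₂ : Over.mk y₂ ⟶ Over.mk y₁ := Over.homMk (Spec.map i₂) (hw f₂)
  let rd : Over.mk y₂ ⟶ Over.mk y₁ := Over.homMk (Spec.map δ) (hw fd)
  obtain ⟨ν, hν⟩ := chr'_surjective (M := M) y₁ (MonoidAlgebra.of A G)
  let β : MonoidAlgebra A G := θ' θ ν
  have hmul : rd ≫ ν = (r₁ ≫ ν) * (r₂ ≫ ν) := by
    apply chr'_injective
    intro m
    rw [chr'_mul, chr'_comp δ rd rfl, chr'_comp i₁ r₁ rfl, chr'_comp i₂ r₂ rfl, hν]
    change MonoidAlgebra.mapDomain fd (MonoidAlgebra.single m 1) =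
      MonoidAlgebra.mapDomain f₁ (MonoidAlgebra.single m 1) *
        MonoidAlgebra.mapDomain f₂ (MonoidAlgebra.single m 1)
    rw [MonoidAlgebra.mapDomain_single, MonoidAlgebra.mapDomain_single,
      MonoidAlgebra.mapDomain_single, MonoidAlgebra.single_mul_single, _root_.mul_one]
    congr 1
    simp [fd, f₁, f₂]
  have hβ : δ β = i₁ β + i₂ β := by
    have := θ'_mul θ hadd (r₁ ≫ ν) (r₂ ≫ ν)
    rw [← hmul, θ'_comp θ hnat δ rd rfl, θ'_comp θ hnat i₁ r₁ rfl,
      θ'_comp θ hnat i₂ r₂ rfl] at this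
    exact this
  have hβ0 : β = 0 := core β hβ
  let χ : G →* A :=
    { toFun := chr' p
      map_one' := chr'_one_arg p
      map_mul' := chr'_mul_arg p }
  let χt : A₁ ⟶ A := CommRingCat.ofHom (MonoidAlgebra.lift A A G χ).toRingHom
  have hχt : ι₁ ≫ χt = 𝟙 A := by
    apply CommRingCat.hom_ext
    apply RingHom.ext
    intro a
    change MonoidAlgebra.lift A A G χ (algebraMap A (MonoidAlgebra A G) a) = a
    rw [AlgHom.commutes]
    rfl
  let r : Over.mk y ⟶ Over.mk y₁ := Over.homMk (Spec.map χt) (by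
    change Spec.map χt ≫ Spec.map ι₁ ≫ y = y
    rw [← Spec.map_comp_assoc, hχt, Spec.map_id, Category.id_comp])
  have hp : p = r ≫ ν := by
    apply chr'_injective
    intro m
    rw [chr'_comp χt r rfl, hν]
    change chr' p m = MonoidAlgebra.lift A A G χ (MonoidAlgebra.single m 1)
    rw [MonoidAlgebra.lift_single, one_smul]
    rfl
  have h0 : θ' θ p = 0 := by
    rw [hp, θ'_comp θ hnat χt r rfl]
    change χt β = 0
    rw [hβ0, map_zero]
  unfold θ' at h0
  have h1 : (Scheme.ΓSpecIso A).hom (θ (Over.mk y) p) = (Scheme.ΓSpecIso A).hom 0 := by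
    rw [h0, map_zero]
  exact (ConcreteCategory.injective_of_mono_of_preservesPullback (Scheme.ΓSpecIso A).hom) h1

lemma bcPt_comp {S B : Scheme.{u}} (f : S ⟶ B) {G : Over B} {X X' : Over S} (r : X' ⟶ X)
    (x : X ⟶ (Over.pullback f).obj G) :
    bcPt f (r ≫ x) = (Over.map f).map r ≫ bcPt f x := by
  ext
  simp [bcPt_left]


/-- Let H be an S-group scheme of multiplicative type. Then every homomorphism of S-groups H → 𝔾_a is
trivial. (Stated for H of multiplicative type and of finite type, the class of multiplicative groups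
available here; the published statement allows any group of multiplicative type.) -/
theorem result (S : Scheme.{u}) (H : Over S) [GrpObj H] (hH : SGA3x.IsMultTypeFT H)
    (u : H ⟶ Red.Ga S) [IsMonHom u] : u = 1 := by
  obtain ⟨S', f, hflat, hsurj, _, hloc⟩ := hH
  apply Over.OverMorphism.ext
  let p : pullback H.hom f ⟶ H.left := pullback.fst H.hom f
  have : Flat p := inferInstance
  have : Surjective p := inferInstance
  have : Epi p := Flat.epi_of_flat_of_surjective p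
  rw [← cancel_epi p]
  apply Scheme.hom_ext_of_forall
  intro x'
  obtain ⟨U, hU, M, _, hfg, ⟨e⟩⟩ := hloc ((pullback.snd H.hom f).base x')
  refine ⟨(pullback.snd H.hom f) ⁻¹ᵁ U, hU, ?_⟩
  let W := (pullback.snd H.hom f) ⁻¹ᵁ U
  let q : (W : Scheme.{u}) ⟶ U := (pullback.snd H.hom f) ∣_ U
  apply (W : Scheme.{u}).affineCover.hom_ext
  intro i
  let t : (W : Scheme.{u}).affineCover.X i ⟶ pullback H.hom f := (W : Scheme.{u}).affineCover.f i ≫ W.ι
  let y : (W : Scheme.{u}).affineCover.X i ⟶ U := (W : Scheme.{u}).affineCover.f i ≫ q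
  let Y₀ : Over (U : Scheme.{u}) := Over.mk y
  let g : (Over.map (U.ι ≫ f)).obj Y₀ ⟶ H :=
    Over.homMk (t ≫ p) (by
      simp only [Over.map_obj_hom, Over.mk_hom, Y₀, y, t, q, p, Category.assoc, pullback.condition]
      rw [← morphismRestrict_ι_assoc])
  have key : g ≫ u = 1 := by
    apply gaFn_injective
    rw [gaFn_one]
    obtain ⟨g', hg'⟩ := bcPt_surjective (U.ι ≫ f) g
    let φ : Red.bc (U.ι ≫ f) H ⟶ Red.DS (U : Scheme.{u}) M := e.hom.hom.hom
    let ψ : Red.DS (U : Scheme.{u}) M ⟶ Red.bc (U.ι ≫ f) H := e.inv.hom.hom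
    have hψ : IsMonHom ψ := e.inv.hom.isMonHom_hom
    have hφψ : φ ≫ ψ = 𝟙 _ := congrArg (fun k => k.hom.hom) e.hom_inv_id
    let θ : ∀ (Y : Over (U : Scheme.{u})), (Y ⟶ Red.DS (U : Scheme.{u}) M) → Γ(Y.left, ⊤) :=
      fun Y c => Red.gaFn (S := S) (X := (Over.map (U.ι ≫ f)).obj Y) (bcPt (U.ι ≫ f) (c ≫ ψ) ≫ u)
    have hadd : ∀ (Y : Over (U : Scheme.{u})) (c d : Y ⟶ Red.DS (U : Scheme.{u}) M),
        θ Y (c * d) = θ Y c + θ Y d := by
      intro Y c d
      change Red.gaFn (S := S) (X := (Over.map (U.ι ≫ f)).obj Y)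
        (bcPt (U.ι ≫ f) ((c * d) ≫ ψ) ≫ u) = _
      rw [MonObj.mul_comp c d ψ, bcPt_mul, MonObj.mul_comp _ _ u, gaFn_mul]
    have hnat : ∀ (Y Y' : Over (U : Scheme.{u})) (r : Y' ⟶ Y) (c : Y ⟶ Red.DS (U : Scheme.{u}) M),
        θ Y' (r ≫ c) = r.left.appTop (θ Y c) := by
      intro Y Y' r c
      change Red.gaFn (S := S) (X := (Over.map (U.ι ≫ f)).obj Y')
        (bcPt (U.ι ≫ f) ((r ≫ c) ≫ ψ) ≫ u) = _
      rw [Category.assoc, bcPt_comp, Category.assoc, gaFn_comp]
      rfl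
    have h0 := additive_natural_zero (U : Scheme.{u}) M θ hadd hnat _ y (g' ≫ φ)
    have h1 : θ Y₀ (g' ≫ φ) = Red.gaFn (g ≫ u) := by
      change Red.gaFn (S := S) (X := (Over.map (U.ι ≫ f)).obj Y₀)
        (bcPt (U.ι ≫ f) ((g' ≫ φ) ≫ ψ) ≫ u) = _
      rw [Category.assoc, hφψ, Category.comp_id, hg']
    rw [← h1]
    exact h0
  have h2 : g ≫ (1 : H ⟶ Red.Ga S) = 1 := MonObj.comp_one g
  have h3 : (g ≫ u).left = (g ≫ (1 : H ⟶ Red.Ga S)).left :=
    congrArg Over.Hom.left (key.trans h2.symm)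
  rw [Over.comp_left, Over.comp_left] at h3
  have h4 : g.left = (W : Scheme.{u}).affineCover.f i ≫ W.ι ≫ p := by
    simp only [g, t, Over.homMk_left, Category.assoc]
  rw [h4] at h3
  simpa only [Category.assoc] using h3

end Groth.Agent.S8392
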