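import Groth.Statements.S8441
import Mathlib

set_option autoImplicit false
universe u v w
open SGA3t2b

namespace Groth.Agent.S8441

section aux

variable {R M : Type*} [CommRing R] [AddCommGroup M] [Module R M]

lemma ortho_of_li {n : ℕ} (v : Fin (n + 1) → M) (hv : LinearIndependent R v)
    (c : R) (y : M) (hy : y ∈ Submodule.span R (Set.range fun i : Fin n => v i.succ))
    (h : c • v 0 + y = 0) : c = 0 := by
  obtain ⟨g, rfl⟩ := (Submodule.mem_span_range_iff_exists_fun R).mp hy
  have := Fintype.linearIndependent_iff.mp hv (Fin.cons c g)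
    (by simpa [Fin.sum_univ_succ] using h) 0
  simpa using this

lemma tri_aux : ∀ (n : ℕ) (v w : Fin n → M),
    (∀ i, w i - v i ∈ Submodule.span R (v '' {j | i < j})) →
    (LinearIndependent R v → LinearIndependent R w) ∧
      Submodule.span R (Set.range w) = Submodule.span R (Set.range v) := by
  intro n
  induction n with
  | zero =>
    intro v w _
    refine ⟨fun _ => linearIndependent_empty_type, ?_⟩
    simp [Set.range_eq_empty]
  | succ n ih =>
    intro v w h
    set v' : Fin n → M := fun i => v i.succ with hv'
    set w' : Fin n → M := fun i => w i.succ with hw'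
    have h' : ∀ i, w' i - v' i ∈ Submodule.span R (v' '' {j | i < j}) := by
      intro i
      refine Submodule.span_mono ?_ (h i.succ)
      rintro _ ⟨j, hj, rfl⟩
      have hj0 : j ≠ 0 := by
        rintro rfl
        exact absurd hj (by simp)
      obtain ⟨j', rfl⟩ := Fin.exists_succ_eq_of_ne_zero hj0
      exact ⟨j', Fin.succ_lt_succ_iff.mp hj, rfl⟩
    have h0 : w 0 - v 0 ∈ Submodule.span R (Set.range v') := by
      refine Submodule.span_mono ?_ (h 0)
      rintro _ ⟨j, hj, rfl⟩
      have hj0 : j ≠ 0 := by
        rintro rfl
        exact absurd hj (by simp)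
      obtain ⟨j', rfl⟩ := Fin.exists_succ_eq_of_ne_zero hj0
      exact ⟨j', rfl⟩
    obtain ⟨ihLI, ihspan⟩ := ih v' w' h'
    have hv'le : Submodule.span R (Set.range v') ≤ Submodule.span R (Set.range v) := by
      refine Submodule.span_mono ?_
      rintro _ ⟨j, rfl⟩
      exact ⟨j.succ, rfl⟩
    have hw'le : Submodule.span R (Set.range w') ≤ Submodule.span R (Set.range w) := by
      refine Submodule.span_mono ?_
      rintro _ ⟨j, rfl⟩
      exact ⟨j.succ, rfl⟩
    refine ⟨fun hv => ?_, le_antisymm ?_ ?_⟩
    · have hvli' : LinearIndependent R v' := hv.comp Fin.succ (Fin.succ_injective n)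
      have hwli' : LinearIndependent R w' := ihLI hvli'
      have hw : w = Fin.cons (w 0) w' := by
        ext j
        refine Fin.cases ?_ (fun j' => ?_) j <;> simp [hw']
      rw [hw]
      refine LinearIndependent.finCons' _ _ hwli' fun c y hy hc => ?_
      rw [ihspan] at hy
      refine ortho_of_li v hv c (c • (w 0 - v 0) + y)
        (Submodule.add_mem _ (Submodule.smul_mem _ _ h0) hy) ?_
      rw [← hc]
      simp only [smul_sub]
      abel
    · rw [Submodule.span_le]
      rintro _ ⟨j, rfl⟩
      refine Fin.cases ?_ (fun j' => ?_) j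
      · have : w 0 = v 0 + (w 0 - v 0) := by abel
        rw [this]
        exact Submodule.add_mem _ (Submodule.subset_span ⟨0, rfl⟩) (hv'le h0)
      · have : w j'.succ ∈ Submodule.span R (Set.range w') := Submodule.subset_span ⟨j', rfl⟩
        rw [ihspan] at this
        exact hv'le this
    · rw [Submodule.span_le]
      rintro _ ⟨j, rfl⟩
      refine Fin.cases ?_ (fun j' => ?_) j
      · have : v 0 = w 0 - (w 0 - v 0) := by abel
        rw [this]
        refine Submodule.sub_mem _ (Submodule.subset_span ⟨0, rfl⟩) (hw'le ?_)
        rw [ihspan]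
        exact h0
      · have : v j'.succ ∈ Submodule.span R (Set.range v') := Submodule.subset_span ⟨j', rfl⟩
        rw [← ihspan] at this
        exact hw'le this

end aux

theorem result {ι : Type u} {M : Type v} {N : Type w} [AddCommGroup M] [Module ℤ M]
    [AddCommGroup N] [Module ℤ N] (P : RootPairing ι ℤ M N) (b : P.Base) (n : ℕ) (e : Fin n ≃ ↥b.support) :
    LinearIndependent ℤ (fun i : Fin n =>
      ((List.finRange n).filter (fun j => i < j)).foldl (fun x j => P.reflection (e j : ι) x) (P.root (e i : ι))) ∧
    Submodule.span ℤ (Set.range (fun i : Fin n =>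
      ((List.finRange n).filter (fun j => i < j)).foldl (fun x j => P.reflection (e j : ι) x) (P.root (e i : ι)))) =
      Submodule.span ℤ (Set.range P.root) := by
  obtain rfl : ‹Module ℤ M› = AddCommGroup.toIntModule M := Subsingleton.elim _ _
  set v : Fin n → M := fun i => P.root (e i : ι) with hv
  have hvli : LinearIndependent ℤ v := by
    have h1 : LinearIndependent ℤ (fun x : b.support => P.root (x : ι)) := b.linearIndepOn_root
    exact h1.comp e e.injective
  have hvspan : Submodule.span ℤ (Set.range v) = Submodule.span ℤ (Set.range P.root) := by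
    have hr : Set.range v = P.root '' (b.support : Set ι) := by
      ext x
      constructor
      · rintro ⟨i, rfl⟩
        exact ⟨(e i : ι), (e i).2, rfl⟩
      · rintro ⟨j, hj, rfl⟩
        exact ⟨e.symm ⟨j, hj⟩, by simp [hv]⟩
    rw [hr, b.span_int_root_support]
  -- the triangularity
  have key : ∀ (i : Fin n) (L : List (Fin n)), (∀ j ∈ L, i < j) → ∀ x : M,
      x - v i ∈ Submodule.span ℤ (v '' {j | i < j}) →
      L.foldl (fun x j => P.reflection (e j : ι) x) x - v i ∈ Submodule.span ℤ (v '' {j | i < j}) := by
    intro i L
    induction L with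
    | nil => intro _ x hx; simpa using hx
    | cons j L ih =>
      intro hL x hx
      rw [List.foldl_cons]
      refine ih (fun j' hj' => hL j' (List.mem_cons_of_mem _ hj')) _ ?_
      rw [P.reflection_apply]
      have h1 : P.root (e j : ι) ∈ Submodule.span ℤ (v '' {j | i < j}) :=
        Submodule.subset_span ⟨j, hL j (List.mem_cons_self), rfl⟩
      rw [sub_right_comm]
      exact Submodule.sub_mem _ hx (Submodule.smul_mem _ _ h1)
  have htri := tri_aux (R := ℤ) n v
    (fun i : Fin n => ((List.finRange n).filter (fun j => i < j)).foldl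
      (fun x j => P.reflection (e j : ι) x) (P.root (e i : ι)))
    (fun i => key i _ (fun j hj => by simpa using (List.mem_filter.mp hj).2) _ (by simp [hv]))
  exact ⟨htri.1 hvli, htri.2.trans hvspan⟩

end Groth.Agent.S8441
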