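import Groth.Statements.S8513
import Mathlib

set_option autoImplicit false
open CategoryTheory MonoidalCategory CartesianMonoidalCategory MonObj GrpObj AlgebraicGeometry
universe u
open Par

namespace Groth.Agent.S8513

open Limits

section
variable {C : Type*} [Category C] [CartesianMonoidalCategory C]
  {G P Q I : C} [GrpObj G] [GrpObj P] [GrpObj Q]

omit [GrpObj P] [GrpObj Q] in
lemma lift_comp_tensor_mul {W : C} (a₁ : W ⟶ P) (a₂ : W ⟶ Q) (p : P ⟶ G) (q : Q ⟶ G) :
    lift a₁ a₂ ≫ (p ⊗ₘ q) ≫ μ[G] = (a₁ ≫ p) * (a₂ ≫ q) := by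
  rw [← Category.assoc, lift_map, Hom.mul_def]

/-- the intersection `P ∩ Q` is the fibre of `P × Q → G` over the unit section -/
theorem isPullback_fibre (p : P ⟶ G) (q : Q ⟶ G) [IsMonHom p] [IsMonHom q] (m : I ⟶ P) (m' : I ⟶ Q)
    (hI : IsPullback m m' p q) :
    IsPullback (lift m (m' ≫ ι[Q])) (toUnit I) ((p ⊗ₘ q) ≫ μ[G]) η[G] := by
  have hw : lift m (m' ≫ ι[Q]) ≫ (p ⊗ₘ q) ≫ μ[G] = toUnit I ≫ η[G] := by
    rw [lift_comp_tensor_mul, ← Hom.one_def, ← Hom.inv_def, GrpObj.inv_comp, ← hI.w, mul_inv_cancel]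
  have key : ∀ s : PullbackCone ((p ⊗ₘ q) ≫ μ[G]) η[G],
      (s.fst ≫ fst P Q) ≫ p = (s.fst ≫ snd P Q)⁻¹ ≫ q := by
    intro s
    have e : lift (s.fst ≫ fst P Q) (s.fst ≫ snd P Q) = s.fst := by
      apply CartesianMonoidalCategory.hom_ext <;> simp
    have h : (s.fst ≫ fst P Q) ≫ p * (s.fst ≫ snd P Q) ≫ q = s.snd ≫ η[G] := by
      rw [← lift_comp_tensor_mul, e]; exact s.condition
    have h1 : s.snd ≫ η[G] = 1 := by
      rw [Hom.one_def]; congr 1; exact toUnit_unique _ _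
    rw [h1] at h
    rw [GrpObj.inv_comp]
    exact eq_inv_of_mul_eq_one_left h
  let L : ∀ s : PullbackCone ((p ⊗ₘ q) ≫ μ[G]) η[G], s.pt ⟶ I := fun s => hI.lift _ _ (key s)
  have hL1 : ∀ s, L s ≫ m = s.fst ≫ fst P Q := fun s => hI.lift_fst _ _ _
  have hL2 : ∀ s, L s ≫ m' = (s.fst ≫ snd P Q)⁻¹ := fun s => hI.lift_snd _ _ _
  clear_value L
  refine ⟨⟨hw⟩, ⟨PullbackCone.IsLimit.mk hw L ?_ ?_ ?_⟩⟩
  · intro s
    apply CartesianMonoidalCategory.hom_ext
    · rw [Category.assoc, lift_fst, hL1]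
    · rw [Category.assoc, lift_snd, ← Category.assoc, hL2, ← Hom.inv_def, _root_.inv_inv]
  · intro s
    exact toUnit_unique _ _
  · intro s l h1 _
    apply hI.hom_ext
    · rw [hL1, ← h1, Category.assoc, lift_fst]
    · rw [hL2, ← h1, Category.assoc, lift_snd, ← Category.assoc, ← Hom.inv_def, _root_.inv_inv]

end


/-- Let G be a reductive S-group and P, Q two parabolic subgroups of G in transversal position (the
multiplication morphism P ×_S Q ⟶ G is smooth). Then P ∩ Q (a fibre product of P and Q over G) is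
smooth over S. -/
theorem result {S : Scheme.{u}} {G P Q I : Over S} [GrpObj G] [GrpObj P] [GrpObj Q]
    (hG : Red.IsReductive G) (p : P ⟶ G) (q : Q ⟶ G) (hP : Red.IsParabolic p) (hQ : Red.IsParabolic q)
    (htr : Smooth ((p ⊗ₘ q) ≫ μ[G]).left) (m : I ⟶ P) (m' : I ⟶ Q) (hI : IsPullback m m' p q) :
    Smooth I.hom := by
  have := hP.1
  have := hQ.1
  have sq := isPullback_fibre p q m m' hI
  have sq' := sq.map (Over.forget S)
  have h := MorphismProperty.of_isPullback (P := @Smooth) sq' htr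
  have e : (toUnit I).left = I.hom := by simp
  rw [← e]
  exact h

end Groth.Agent.S8513
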