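import Groth.Statements.S8524
import Mathlib

set_option autoImplicit false
universe u
open CategoryTheory CategoryTheory.Limits AlgebraicGeometry Opposite
open EtAcyc

namespace Groth.Agent.S8524

lemma primesIn_prod {L : Set ℕ} {ι : Type*} (t : Finset ι) (m : ι → ℕ)
    (h : ∀ i ∈ t, EtAcyc.PrimesIn L (m i)) : EtAcyc.PrimesIn L (∏ i ∈ t, m i) := by
  refine ⟨Finset.prod_pos fun i hi => (h i hi).1, fun p hp hd => ?_⟩
  obtain ⟨i, hi, hdi⟩ := (Prime.dvd_finsetProd_iff hp.prime _).1 hd
  exact (h i hi).2 p hp hdi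


/-- For the small etale site of a scheme and abelian sheaves: let L be a set of primes, F an abelian
L-torsion sheaf on the small etale site of a scheme X, and U an etale X-scheme with quasi-compact
underlying space. Then every section of F over U is killed by some positive integer all of whose
prime factors lie in L. -/
theorem result {X : Scheme.{u}} (L : Set ℕ) (F : EtCoh.Ab X)
    (hF : EtAcyc.IsLTorsion L F) (U : X.Etale) [CompactSpace U.left] (s : EtCoh.sect F U) :
    ∃ m : ℕ, EtAcyc.PrimesIn L m ∧ m • s = 0 := by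
  choose V g m hx hm hs using hF U s
  have hopen : ∀ x, IsOpen (Set.range (g x).left) := by
    intro x
    have : Etale (g x).left := inferInstance
    exact (g x).left.isOpenMap.isOpen_range
  have hcov : (Set.univ : Set U.left) ⊆ ⋃ x, Set.range (g x).left := by
    intro x _
    exact Set.mem_iUnion.2 ⟨x, hx x⟩
  obtain ⟨t, ht⟩ := isCompact_univ.elim_finite_subcover _ hopen hcov
  refine ⟨∏ x ∈ t, m x, primesIn_prod t m (fun x _ => hm x), ?_⟩
  have hcov' : Sieve.ofArrows (fun x : t => V x.1) (fun x : t => g x.1) ∈ X.smallEtaleTopology U := by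
    rw [Scheme.ofArrows_mem_smallEtaleTopology_iff]
    apply Set.eq_univ_of_univ_subset
    intro y hy
    obtain ⟨x, hx', hy'⟩ := Set.mem_iUnion₂.1 (ht hy)
    exact Set.mem_iUnion.2 ⟨⟨x, hx'⟩, hy'⟩
  refine (Sheaf.isSeparated F) U _ hcov' _ _ ?_
  rintro W f ⟨Z, a, b, ⟨x⟩, rfl⟩
  rw [map_zero, map_nsmul]
  have : F.obj.map (a ≫ g x.1).op s = F.obj.map a.op (F.obj.map (g x.1).op s) := by
    rw [op_comp, F.obj.map_comp]; rfl
  rw [this]
  obtain ⟨k, hk⟩ := Finset.dvd_prod_of_mem m x.2
  rw [hk, mul_comm, mul_smul, ← map_nsmul, hs, map_zero, smul_zero]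

end Groth.Agent.S8524
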