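import Groth.Statements.S8527
import Mathlib
import Groth.Agent.Lib.Helper43.EtConstr
import Groth.Agent.Lib.Helper43.NoethStrata

set_option autoImplicit false
universe u
open CategoryTheory CategoryTheory.Limits AlgebraicGeometry Opposite
open EtPBC

namespace Groth.Agent.S8527

open Groth.Agent.Lib.Helper43 Groth.Agent.Lib.Helper43.StrataLib
  Groth.Agent.Lib.Helper43.NoethStrata TopologicalSpace Topology

theorem forward {X : Scheme.{u}} (F : EtCoh.Ab X) (hF : EtPBC.IsConstructible F) (x : X) :
    ∃ (V : X.Opens) (T : Scheme.{u}) (g : T ⟶ X), IsImmersion g ∧ x ∈ V ∧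
      Set.range g = (V : Set X) ∩ closure {x} ∧ EtConstr.P F T g := by
  obtain ⟨W, hW, hxW, -⟩ := EtConstr.exists_affine_nhd_le (⊤ : X.Opens) x trivial
  obtain ⟨n, T, g, h1, h2, h3, h4, h5⟩ := hF W hW
  have hx : x ∈ ⋃ i, Set.range (g i) := by rw [h4]; exact hxW
  obtain ⟨i, hi⟩ := Set.mem_iUnion.1 hx
  haveI := h1 i
  obtain ⟨U, Z, hU, hZ, hUZ⟩ := (g i).isLocallyClosed_range
  obtain ⟨T', c, hc, hcr⟩ := exists_closedImmersion_range_eq ((g i) ⁻¹' closure {x})
    (isClosed_closure.preimage (g i).continuous)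
  have hxU : x ∈ U := by rw [hUZ] at hi; exact hi.1
  have hxZ : x ∈ Z := by rw [hUZ] at hi; exact hi.2
  have hcl : closure {x} ⊆ Z := closure_minimal (Set.singleton_subset_iff.2 hxZ) hZ
  refine ⟨⟨U, hU⟩, T', c ≫ g i, inferInstance, hxU, ?_, EtConstr.P_comp F c (g i) (h5 i)⟩
  rw [range_closed_comp (g i) c _ hcr, hUZ]
  ext y
  simp only [Set.mem_inter_iff, Opens.coe_mk]
  constructor
  · rintro ⟨⟨hy1, -⟩, hy2⟩
    exact ⟨hy1, hy2⟩
  · rintro ⟨hy1, hy2⟩
    exact ⟨⟨hy1, hcl hy2⟩, hy2⟩

theorem backward_noeth {Y : Scheme.{u}} [IsNoetherian Y] (F : EtCoh.Ab Y)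
    (hyp : ∀ x : Y, ∃ (V : Y.Opens) (T : Scheme.{u}) (g : T ⟶ Y), IsImmersion g ∧ x ∈ V ∧
      Set.range g = (V : Set Y) ∩ closure {x} ∧ EtConstr.P F T g) :
    EtPBC.IsConstructible F := by
  rw [EtConstr.constructible_iff_strata_univ]
  have h := (strata₀_closeds (EtConstr.P_comp F) hyp ⊤).toStrata
  rw [Closeds.coe_top] at h
  exact h


/-- Let X be a locally Noetherian scheme and F an abelian sheaf on its small etale site. Then F is
constructible if and only if for every point x of X there is a nonempty open subset of the closure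
of x along which F becomes finite locally constant; precisely: there are an open V containing x and
an immersion g : T → X with image V ∩ closure(x) such that the inverse image of F along g is finite
locally constant. -/
theorem result {X : Scheme.{u}} [IsLocallyNoetherian X]
    (F : EtCoh.Ab X) :
    EtPBC.IsConstructible F ↔
      ∀ x : X, ∃ (V : X.Opens) (T : Scheme.{u}) (g : T ⟶ X), IsImmersion g ∧ x ∈ V ∧
        Set.range g.base = (V : Set X) ∩ closure {x} ∧
        EtCoh.IsFiniteLocallyConstant ((EtCoh.pull g).obj F) := by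
  constructor
  · intro hF x
    obtain ⟨V, T, g, h1, h2, h3, h4⟩ := forward F hF x
    exact ⟨V, T, g, h1, h2, h3, h4⟩
  · intro hyp
    refine EtConstr.constructible_of_open_cover F (fun W : X.affineOpens => W.1)
      (iSup_affineOpens_eq_top X) (fun W => ?_)
    haveI : IsAffine W.1.toScheme := W.2
    haveI : IsNoetherian W.1.toScheme := {}
    refine backward_noeth _ (fun y => ?_)
    obtain ⟨V, T, g, himm, hxV, hr, hP⟩ := hyp (W.1.ι y)
    refine ⟨W.1.ι ⁻¹ᵁ V, pullback g W.1.ι, pullback.snd g W.1.ι, inferInstance, hxV, ?_,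
      EtConstr.P_pullback W.1.ι F T g (fun {_} => hP)⟩
    rw [Scheme.Pullback.range_snd]
    rw [hr, Set.preimage_inter]
    congr 1
    rw [W.1.ι.isOpenEmbedding.isInducing.closure_eq_preimage_closure_image, Set.image_singleton]

end Groth.Agent.S8527
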