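import Groth.Statements.S8535
import Groth.Agent.S6773
import Mathlib.CategoryTheory.Abelian.Refinements
import Mathlib.CategoryTheory.Limits.FunctorCategory.EpiMono

set_option autoImplicit false
universe v v' u u'
open CategoryTheory CategoryTheory.Limits
open DeltaF

namespace Groth.Agent.S8535

open Groth.Agent.S6773

variable {A : Type u} [Category.{v} A] [Abelian A]
  {B : Type u'} [Category.{v'} B] [Abelian B] {T T' : DeltaF.CohDeltaFunctor A B ℕ}

/-- (L1) if `φ^i` is a pointwise isomorphism-like (epi at all objects, mono at all objects) and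
`T^{i+1}` is effaceable, then `φ^{i+1}` is pointwise mono. -/
lemma mono_succ (φ : T ⟶ T') {n₀ n₁ : ℕ} (h : n₀ + 1 = n₁)
    (hE : ∀ X : A, ∃ (Y : A) (u : X ⟶ Y), Mono u ∧ (T.F n₁).map u = 0)
    (hepi : ∀ X : A, Epi ((φ.app n₀).app X)) (hmono : ∀ X : A, Mono ((φ.app n₀).app X)) (X : A) :
    Mono ((φ.app n₁).app X) := by
  obtain ⟨Y, u, hu, hu0⟩ := hE X
  have hS : (ses u).ShortExact := ses_shortExact u
  have hδepi : Epi (T.δ (ses u) hS n₀ n₁ h) := (T.exact₁ (ses u) hS n₀ n₁ h).epi_f hu0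
  apply Preadditive.mono_of_cancel_zero
  intro W x hx
  obtain ⟨W₁, π₁, hπ₁, z, hz⟩ := surjective_up_to_refinements_of_epi (T.δ (ses u) hS n₀ n₁ h) x
  have hzφ : (z ≫ (φ.app n₀).app (ses u).X₃) ≫ T'.δ (ses u) hS n₀ n₁ h = 0 := by
    rw [Category.assoc, ← φ.comm (ses u) hS n₀ n₁ h, ← Category.assoc, ← hz, Category.assoc]
    exact (whisker_eq π₁ hx).trans comp_zero
  obtain ⟨W₂, π₂, hπ₂, y', hy'⟩ :=
    ((T'.exact₃ (ses u) hS n₀ n₁ h).exact_up_to_refinements
      (z ≫ (φ.app n₀).app (ses u).X₃) hzφ)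
  have := hepi (ses u).X₂
  obtain ⟨W₃, π₃, hπ₃, y, hy⟩ := surjective_up_to_refinements_of_epi ((φ.app n₀).app (ses u).X₂) y'
  have := hmono (ses u).X₃
  have key : π₃ ≫ π₂ ≫ z = y ≫ (T.F n₀).map (ses u).g := by
    rw [← cancel_mono ((φ.app n₀).app (ses u).X₃)]
    have e1 : (π₃ ≫ π₂ ≫ z) ≫ (φ.app n₀).app (ses u).X₃ =
        π₃ ≫ y' ≫ (T'.F n₀).map (ses u).g := by
      rw [Category.assoc, Category.assoc]
      exact whisker_eq π₃ hy'
    rw [e1, ← Category.assoc, hy, Category.assoc, Category.assoc, (φ.app n₀).naturality]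
  have : π₃ ≫ π₂ ≫ π₁ ≫ x = 0 := by
    rw [hz, ← Category.assoc π₂, ← Category.assoc π₃, key, Category.assoc,
      T.comp_δ, comp_zero]
  rw [← cancel_epi π₁, ← cancel_epi π₂, ← cancel_epi π₃, this, comp_zero, comp_zero, comp_zero]

/-- (L2) if `φ^i` is pointwise epi and `T'^{i+1}` is effaceable, then `φ^{i+1}` is pointwise epi. -/
lemma epi_succ (φ : T ⟶ T') {n₀ n₁ : ℕ} (h : n₀ + 1 = n₁)
    (hE' : ∀ X : A, ∃ (Y : A) (u : X ⟶ Y), Mono u ∧ (T'.F n₁).map u = 0)
    (hepi : ∀ X : A, Epi ((φ.app n₀).app X)) (X : A) :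
    Epi ((φ.app n₁).app X) := by
  obtain ⟨Y, u, hu, hu0⟩ := hE' X
  have hS : (ses u).ShortExact := ses_shortExact u
  have hδepi : Epi (T'.δ (ses u) hS n₀ n₁ h) := (T'.exact₁ (ses u) hS n₀ n₁ h).epi_f hu0
  have := hepi (ses u).X₃
  have hcomp : Epi ((φ.app n₀).app (ses u).X₃ ≫ T'.δ (ses u) hS n₀ n₁ h) := epi_comp _ _
  exact epi_of_epi_fac (φ.comm (ses u) hS n₀ n₁ h)

/-- Let A and B be abelian categories, T and T' cohomological delta-functors from A to B in degrees ≥ 0
whose degree-0 components are left exact (they vanish in negative degrees), such that T^i is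
effaceable for every i > 0, and let φ : T → T' be a morphism of delta-functors and n a natural
number. Then the following are equivalent: (a) φ^i is an isomorphism for i ≤ n and a monomorphism
for i = n + 1; (b) φ^0 is a monomorphism and φ^i is an epimorphism for every i ≤ n; (c) φ^0 is an
isomorphism and, for 0 < i ≤ n, T'^i is effaceable (every object X admits a monomorphism X → Y
killed by T'^i). -/
theorem result {A : Type u} [Category.{v} A] [Abelian A]
    {B : Type u'} [Category.{v'} B] [Abelian B] (T T' : DeltaF.CohDeltaFunctor A B ℕ)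
    (h0 : T.ZeroMono) (h0' : T'.ZeroMono) (hT : T.IsEffaceable) (φ : T ⟶ T') (n : ℕ) :
    ((∀ i : ℕ, i ≤ n → IsIso (φ.app i)) ∧ Mono (φ.app (n + 1)) ↔
      (Mono (φ.app 0) ∧ ∀ i : ℕ, i ≤ n → Epi (φ.app i))) ∧
    ((∀ i : ℕ, i ≤ n → IsIso (φ.app i)) ∧ Mono (φ.app (n + 1)) ↔
      (IsIso (φ.app 0) ∧ ∀ i : ℕ, 0 < i → i ≤ n → ∀ X : A, ∃ (Y : A) (u : X ⟶ Y), Mono u ∧ (T'.F i).map u = 0)) := by
  have L1 : ∀ i : ℕ, (∀ X : A, Epi ((φ.app i).app X)) → (∀ X : A, Mono ((φ.app i).app X)) →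
      ∀ X : A, Mono ((φ.app (i + 1)).app X) :=
    fun i he hm X => mono_succ φ rfl (hT i) he hm X
  have L2 : ∀ i : ℕ, (∀ X : A, ∃ (Y : A) (u : X ⟶ Y), Mono u ∧ (T'.F (i + 1)).map u = 0) →
      (∀ X : A, Epi ((φ.app i).app X)) → ∀ X : A, Epi ((φ.app (i + 1)).app X) :=
    fun i hE' he X => epi_succ φ rfl hE' he X
  have isoOf : ∀ i : ℕ, (∀ X : A, Mono ((φ.app i).app X)) → (∀ X : A, Epi ((φ.app i).app X)) →
      IsIso (φ.app i) := by
    intro i hm he
    rw [NatTrans.isIso_iff_isIso_app]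
    intro X
    have := hm X
    have := he X
    exact isIso_of_mono_of_epi _
  have monoOfIso : ∀ i : ℕ, IsIso (φ.app i) → ∀ X : A, Mono ((φ.app i).app X) := by
    intro i hi X
    have := (NatTrans.isIso_iff_isIso_app (φ.app i)).1 hi X
    infer_instance
  have epiOfIso : ∀ i : ℕ, IsIso (φ.app i) → ∀ X : A, Epi ((φ.app i).app X) := by
    intro i hi X
    have := (NatTrans.isIso_iff_isIso_app (φ.app i)).1 hi X
    infer_instance
  constructor
  · constructor
    · rintro ⟨hiso, hmono⟩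
      refine ⟨?_, fun i hi => ?_⟩
      · have := hiso 0 (Nat.zero_le n)
        infer_instance
      · have := hiso i hi
        infer_instance
    · rintro ⟨hm0, hepi⟩
      have hepi' : ∀ i : ℕ, i ≤ n → ∀ X : A, Epi ((φ.app i).app X) := fun i hi =>
        (NatTrans.epi_iff_epi_app (φ.app i)).1 (hepi i hi)
      have monoAll : ∀ i : ℕ, i ≤ n + 1 → ∀ X : A, Mono ((φ.app i).app X) := by
        intro i
        induction i with
        | zero => intro _; exact (NatTrans.mono_iff_mono_app (φ.app 0)).1 hm0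
        | succ i ih =>
          intro hi
          exact L1 i (hepi' i (by omega)) (ih (by omega))
      refine ⟨fun i hi => isoOf i (monoAll i (by omega)) (hepi' i hi), ?_⟩
      exact (NatTrans.mono_iff_mono_app (φ.app (n + 1))).2 (monoAll (n + 1) le_rfl)
  · constructor
    · rintro ⟨hiso, hmono⟩
      refine ⟨hiso 0 (Nat.zero_le n), ?_⟩
      intro i hi0 hin X
      obtain ⟨j, rfl⟩ : ∃ j, i = j + 1 := ⟨i - 1, by omega⟩
      obtain ⟨Y, u, hu, hu0⟩ := hT j X
      refine ⟨Y, u, hu, ?_⟩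
      have := epiOfIso (j + 1) (hiso (j + 1) hin) X
      rw [← cancel_epi ((φ.app (j + 1)).app X), ← (φ.app (j + 1)).naturality, hu0, zero_comp,
        comp_zero]
    · rintro ⟨hiso0, heff⟩
      have isoAll : ∀ i : ℕ, i ≤ n → IsIso (φ.app i) := by
        intro i
        induction i with
        | zero => intro _; exact hiso0
        | succ i ih =>
          intro hi
          have hi' := ih (by omega)
          exact isoOf (i + 1) (L1 i (epiOfIso i hi') (monoOfIso i hi'))
            (L2 i (heff (i + 1) (by omega) hi) (epiOfIso i hi'))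
      refine ⟨isoAll, ?_⟩
      have hn := isoAll n le_rfl
      exact (NatTrans.mono_iff_mono_app (φ.app (n + 1))).2
        (L1 n (epiOfIso n hn) (monoOfIso n hn))

end Groth.Agent.S8535
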