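import Groth.Statements.S8540
import Mathlib
import Groth.Agent.Lib.Helper43.ConstrColim
import Groth.Agent.S0142
import Groth.Agent.S0141

set_option autoImplicit false
universe u
open CategoryTheory CategoryTheory.Limits AlgebraicGeometry Opposite
open EtPBC

namespace Groth.Agent.S8540

open Groth.Agent.Lib.Helper43 Groth.Agent.Lib.Helper43.ConstrColim
  Groth.Agent.Lib.Helper43.EtConstrSerre Groth.Agent.Lib.Helper43.EtConstrStalk
  Groth.Agent.Lib.Helper43.JShriekGen

/-- a torsion sheaf which is a Noetherian object is a quotient of a constructible sheaf -/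
theorem exists_epi_po {X : Scheme.{u}} [CompactSpace X] [QuasiSeparatedSpace X]
    (G : EtCoh.Ab X) (hGT : EtCoh.IsTorsion G) (wf : WellFoundedGT (Subobject G)) :
    ∃ p : PO G, Epi p.f := by
  let I : PO G → Subobject G := fun p => imageSubobject p.f
  have hImono : ∀ {p p' : PO G} (a : p ⟶ p'), I p ≤ I p' := by
    intro p p' a
    change imageSubobject p.f ≤ _
    rw [← a.w]
    exact imageSubobject_comp_le _ _
  obtain ⟨p₀⟩ := (IsFiltered.nonempty : Nonempty (PO G))
  obtain ⟨S, ⟨pS, rfl⟩, hmax⟩ := wf.wf.has_min (Set.range I) ⟨I p₀, p₀, rfl⟩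
  have hle : ∀ p, I p ≤ I pS := by
    intro p
    have h1 : I p ≤ I (IsFiltered.max p pS) := hImono (IsFiltered.leftToMax p pS)
    have h2 : I pS ≤ I (IsFiltered.max p pS) := hImono (IsFiltered.rightToMax p pS)
    have h3 : ¬ (I pS < I (IsFiltered.max p pS)) := hmax _ ⟨_, rfl⟩
    have h4 : I pS = I (IsFiltered.max p pS) := eq_of_le_of_not_lt h2 h3
    rw [h4]
    exact h1
  let fp : ∀ p : PO G, p.P.obj ⟶ (I pS : EtCoh.Ab X) := fun p =>
    factorThruImageSubobject p.f ≫ Subobject.ofLE (I p) (I pS) (hle p)
  have hfp : ∀ p, fp p ≫ (I pS).arrow = p.f := by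
    intro p
    change (factorThruImageSubobject p.f ≫ Subobject.ofLE (I p) (I pS) (hle p)) ≫ _ = _
    rw [Category.assoc, Subobject.ofLE_arrow]
    exact imageSubobject_arrow_comp _
  let cc : Cocone (D G) :=
    { pt := (I pS : EtCoh.Ab X)
      ι :=
        { app := fun p => fp p
          naturality := fun p p' a => by
            change a.g ≫ fp p' = fp p ≫ 𝟙 _
            rw [Category.comp_id, ← cancel_mono (I pS).arrow, Category.assoc, hfp, hfp, a.w] } }
  let φ : G ⟶ (I pS : EtCoh.Ab X) := (isColimitCoconeF G hGT).desc cc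
  have hφ : ∀ p : PO G, p.f ≫ φ = fp p := fun p => (isColimitCoconeF G hGT).fac cc p
  have hφι : φ ≫ (I pS).arrow = 𝟙 G := by
    apply (isColimitCoconeF G hGT).hom_ext
    intro p
    change p.f ≫ φ ≫ (I pS).arrow = p.f ≫ 𝟙 G
    rw [← Category.assoc, hφ, hfp, Category.comp_id]
  have hepi : Epi (I pS).arrow := epi_of_epi_fac hφι
  have h1 : Epi (fp pS) := by
    change Epi (factorThruImageSubobject pS.f ≫ Subobject.ofLE (I pS) (I pS) (hle pS))
    rw [Subobject.ofLE_refl]
    infer_instance
  refine ⟨pS, ?_⟩
  rw [← hfp pS]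
  exact epi_comp _ _


/-- Let X be a Noetherian scheme and F a torsion abelian sheaf on the small etale site of X. Then F is
constructible if and only if F is a Noetherian object of the category of abelian etale sheaves on X
(ascending chain condition on subsheaves). -/
theorem result (X : Scheme.{u}) [IsNoetherian X] (F : EtCoh.Ab X)
    (hF : EtCoh.IsTorsion F) :
    EtPBC.IsConstructible F ↔ IsNoetherianObject F := by
  constructor
  · intro hFc
    rw [isNoetherianObject_iff_monotone_chain_condition]
    intro c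
    obtain ⟨N, hN⟩ := Groth.Agent.S0142.result X F hFc c
    exact ⟨N, fun m hm => (hN m hm).symm⟩
  · intro hN
    have wf : WellFoundedGT (Subobject F) := by
      rw [wellFoundedGT_iff_monotone_chain_condition]
      exact (isNoetherianObject_iff_monotone_chain_condition F).1 hN
    obtain ⟨p, hp⟩ := exists_epi_po F hF wf
    obtain ⟨n, hn, hk⟩ := EtConstrTorsion.exists_killedBy p.P.obj p.P.constructible
    exact Groth.Agent.S0141.result X p.f n hn hk p.P.constructible

end Groth.Agent.S8540
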