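import Groth.Statements.S8547
-- import your own Groth.Agent.* helpers here
import Groth.Agent.Lib.Helper55.SecPullBC

set_option autoImplicit false
universe u
open CategoryTheory CategoryTheory.Limits AlgebraicGeometry Opposite
open EtBC

namespace Groth.Agent.S8547

open CategoryTheory CategoryTheory.Limits AlgebraicGeometry Opposite
open Groth.Agent.S8542 Groth.Agent.Lib.Helper55.SecPullBC

/-- restriction along a morphism between terminal objects is injective -/
theorem map_injective_of_isTerminal {A : Scheme.{u}} (H : EtDesc.Sh A) {U V : A.Etale}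
    (hU : IsTerminal U) (hV : IsTerminal V) (m : U ⟶ V) :
    Function.Injective (H.obj.map m.op) := by
  have hl : Function.LeftInverse (H.obj.map (hU.from V).op) (H.obj.map m.op) := by
    intro x
    rw [map_map_apply, hV.hom_ext (hU.from V ≫ m) (𝟙 V)]
    simp
  exact hl.injective

theorem map_bijective_of_iso {A : Scheme.{u}} (H : EtDesc.Sh A) {U V : A.Etale} (e : U ≅ V) :
    Function.Bijective (H.obj.map e.inv.op) := by
  refine ⟨fun x y hxy => ?_, fun y => ⟨H.obj.map e.hom.op y, ?_⟩⟩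
  · have := congrArg (H.obj.map e.hom.op) hxy
    rw [map_map_apply, map_map_apply, Iso.hom_inv_id] at this
    simpa using this
  · rw [map_map_apply, Iso.inv_hom_id]
    simp

theorem app_surjective_of_isIso {A : Scheme.{u}} {F G : EtDesc.Sh A} (φ : F ⟶ G) [IsIso φ]
    (U : A.Etaleᵒᵖ) : Function.Surjective (φ.hom.app U) := by
  intro y
  refine ⟨(inv φ).hom.app U y, ?_⟩
  exact congrArg (fun ψ : G ⟶ G => ψ.hom.app U y) (IsIso.inv_hom_id φ)

section

variable {X Y Xb Yb : Scheme.{u}} (h : Y ⟶ X) (p : Xb ⟶ X) (hb : Yb ⟶ Xb) (pY : Yb ⟶ Y)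
  (w : hb ≫ p = pY ≫ h)

theorem inj_part (hinj : ∀ F : EtDesc.Sh X, Function.Injective (EtDesc.secPull h F))
    (hmono : ∀ Fb : EtDesc.Sh Xb, Mono (EtBC.baseChange0Sh p h pY hb w Fb))
    (Fb : EtDesc.Sh Xb) : Function.Injective (EtDesc.secPull hb Fb) := by
  intro σ₁ σ₂ hσ
  have hm := hmono Fb
  obtain ⟨η₁, rfl⟩ := (map_bijective_of_iso Fb (EtCore.bcTopIso p)).2 σ₁
  obtain ⟨η₂, rfl⟩ := (map_bijective_of_iso Fb (EtCore.bcTopIso p)).2 σ₂
  have e1 := bc0_secPull h p hb pY w Fb η₁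
  have e2 := bc0_secPull h p hb pY w Fb η₂
  rw [hσ] at e1
  have e3 := injective_of_mono (EtBC.baseChange0Sh p h pY hb w Fb) (op (EtCoh.top Y))
    (e1.trans e2.symm)
  rw [hinj _ e3]

theorem surj_part (hsurj : ∀ F : EtDesc.Sh X, Function.Surjective (EtDesc.secPull h F))
    (hiso : ∀ Fb : EtDesc.Sh Xb, IsIso (EtBC.baseChange0Sh p h pY hb w Fb))
    (Fb : EtDesc.Sh Xb) : Function.Surjective (EtDesc.secPull hb Fb) := by
  intro τ
  have hi := hiso Fb
  obtain ⟨ρ, hρ⟩ := app_surjective_of_isIso (EtBC.baseChange0Sh p h pY hb w Fb)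
    (op (EtCoh.top Y)) (((EtDesc.pullSh hb).obj Fb).obj.map
      ((EtCore.topIsTerminal Yb).from ((EtCoh.bc pY).obj (EtCoh.top Y))).op τ)
  obtain ⟨η, rfl⟩ := hsurj _ ρ
  rw [bc0_secPull] at hρ
  exact ⟨_, map_injective_of_isTerminal _ (EtCore.bcTopIsTerminal pY) (EtCore.topIsTerminal Yb) _ hρ⟩

end

end Groth.Agent.S8547

namespace Groth.Agent.S8547

/-- Let h : Y → X and p : X̄ → X be morphisms of schemes with X, Y, X̄ quasi-compact and quasi-separated
(p need not be surjective), and Ȳ = Y ×_X X̄ with projections h̄ : Ȳ → X̄ and p_Y : Ȳ → Y. If the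
pullback map on global sections Γ(X, F) → Γ(Y, h^*F) is injective for every sheaf of sets F on X and
the base change morphism h^* p_* F̄ → p_{Y*} h̄^* F̄ is a monomorphism for every sheaf of sets F̄ on
X̄, then Γ(X̄, F̄) → Γ(Ȳ, h̄^*F̄) is injective for every F̄. If the maps for h are bijective and the
base change morphisms are isomorphisms, then the maps for h̄ are bijective. -/
theorem result {X Y Xb Yb : Scheme.{u}} [CompactSpace X]
    [QuasiSeparatedSpace X] [CompactSpace Y] [QuasiSeparatedSpace Y] [CompactSpace Xb] [QuasiSeparatedSpace Xb]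
    (h : Y ⟶ X) (p : Xb ⟶ X) (hb : Yb ⟶ Xb) (pY : Yb ⟶ Y) (sq : IsPullback hb pY p h) :
    ((∀ F : EtDesc.Sh X, Function.Injective (EtDesc.secPull h F)) →
      (∀ Fb : EtDesc.Sh Xb, Mono (EtBC.baseChange0Sh p h pY hb sq.w Fb)) →
      ∀ Fb : EtDesc.Sh Xb, Function.Injective (EtDesc.secPull hb Fb)) ∧
    ((∀ F : EtDesc.Sh X, Function.Bijective (EtDesc.secPull h F)) →
      (∀ Fb : EtDesc.Sh Xb, IsIso (EtBC.baseChange0Sh p h pY hb sq.w Fb)) →
      ∀ Fb : EtDesc.Sh Xb, Function.Bijective (EtDesc.secPull hb Fb)) := by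
  refine ⟨fun hinj hmono Fb => inj_part h p hb pY sq.w hinj hmono Fb, fun hbij hiso Fb => ⟨?_, ?_⟩⟩
  · exact inj_part h p hb pY sq.w (fun F => (hbij F).1)
      (fun Fb' => by haveI := hiso Fb'; infer_instance) Fb
  · exact surj_part h p hb pY sq.w (fun F => (hbij F).2) hiso Fb

end Groth.Agent.S8547
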