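import Groth.Statements.S8558
import Groth.Agent.Lib.Helper43.NonAbH1Lib

set_option autoImplicit false
universe u
open CategoryTheory CategoryTheory.Limits AlgebraicGeometry Opposite
open NonAbH1

namespace Groth.Agent.S8558

open Groth.Agent.Lib.Helper43.NonAbH1Lib


/-- Exactness of the non-abelian cohomology sequence at the global sections of the quotient: let u : F ⟶
G be a morphism of sheaves of groups on the small etale site of a scheme X that is injective on
sections over every object, and let the G-sheaf Q with its equivariant map π from G (acting on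
itself by left translation) be the quotient G/F (π identifies two sections of G exactly when they
differ by right multiplication by a section of F, and is locally surjective). If the F-torsor T is
the sheaf of local liftings of a global section c of Q to G (F acting by f · g = g u(f)⁻¹), then the
class of T in H¹(X, F) is the base point, ∂c = 1, if and only if c is the image under π of a global
section of G. -/
theorem result {X : Scheme.{u}} {F G : Sheaf X.smallEtaleTopology GrpCat.{u + 1}}
    (u : F ⟶ G) (hu : ∀ U : X.Etaleᵒᵖ, Function.Injective (u.hom.app U))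
    {Q : NonAbH1.GSheaf G} (π : NonAbH1.GSheaf.trivial.{u + 1, u, u + 1} G ⟶ Q) (hQ : NonAbH1.GSheaf.IsQuotientBy.{u + 1, u, u + 1} u π)
    (c : Q.P.obj.sections) (T : NonAbH1.Torsor F) (hT : NonAbH1.GSheaf.IsFibreOver.{u + 1, u, u + 1} u π c T.toGSheaf) :
    T.cl = 1 ↔
      ∃ g : (NonAbH1.GSheaf.uSh.{u + 1, u, u + 1} G).obj.sections, ∀ U : X.Etaleᵒᵖ, π.hom.hom.app U (g.1 U) = c.1 U := by
  refine (cl_eq_one_iff_hasSection.{u+1,u,u+1} T).trans ?_
  obtain ⟨ι, hinj, himg, hact⟩ := hT
  constructor
  · rintro ⟨t, ht⟩
    refine ⟨⟨fun U => ι.hom.app U (t U), ?_⟩, ?_⟩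
    · intro U V f
      have := ConcreteCategory.congr_hom (ι.hom.naturality f) (t U)
      change ι.hom.app V (T.P.obj.map f (t U)) = _ at this
      rw [ht f] at this
      exact this.symm
    · intro U
      exact (himg U _).1 ⟨t U, rfl⟩
  · rintro ⟨g, hg⟩
    have hex : ∀ U, ∃ t, GSheaf.toGrp (ι.hom.app U t) = g.1 U := fun U => (himg U (g.1 U)).2 (hg U)
    choose t ht using hex
    refine ⟨t, ?_⟩
    intro U V f
    apply hinj V
    have := ConcreteCategory.congr_hom (ι.hom.naturality f) (t U)
    change ι.hom.app V (T.P.obj.map f (t U)) = (GSheaf.uSh G).obj.map f (ι.hom.app U (t U)) at this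
    rw [this]
    change (GSheaf.uSh G).obj.map f (ι.hom.app U (t U)) = ι.hom.app V (t V)
    have h1 : ι.hom.app U (t U) = g.1 U := ht U
    have h2 : ι.hom.app V (t V) = g.1 V := ht V
    rw [h1, h2]
    exact g.2 f

end Groth.Agent.S8558
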