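import Groth.Statements.S8562
import Groth.Agent.Lib.Helper43.NonAbH1Lib

set_option autoImplicit false
universe u
open CategoryTheory CategoryTheory.Limits AlgebraicGeometry Opposite
open NonAbH1

namespace Groth.Agent.S8562

set_option backward.isDefEq.respectTransparency.types false in
lemma mem_smallEtaleTopology_iff' {X : Scheme.{u}} (U : X.Etale) (R : Sieve U) :
    R ∈ X.smallEtaleTopology U ↔
      ∀ x : U.left, ∃ (V : X.Etale) (f : V ⟶ U) (y : V.left), R f ∧ f.left y = x := by
  have h0 : X.smallEtaleTopology = (X.smallPretopology (Q := @Etale) (P := @Etale)).toGrothendieck :=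
    Scheme.smallGrothendieckTopology_eq_toGrothendieck_smallPretopology _ le_rfl
  rw [h0]
  refine (Scheme.mem_toGrothendieck_smallPretopology (P := @Etale) (Q := @Etale) U R).trans ?_
  constructor
  · intro h x
    obtain ⟨V, f, y, h1, -, h3⟩ := h x
    exact ⟨V, f, y, h1, h3⟩
  · intro h x
    obtain ⟨V, f, y, h1, h3⟩ := h x
    refine ⟨V, f, y, h1, ?_, h3⟩
    infer_instance


/-- Exactness of the sequence 0 → H¹(Y, f_*F) → H¹(X, F) → H⁰(Y, R¹f_*F) at its middle term, in terms of
torsors: let f : X ⟶ Y be a morphism of schemes, F a sheaf of groups on the small etale site of X,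
f_*F its direct image on Y (sections over an etale Y-scheme V are the sections of F over X ×_Y V),
and Q an F-torsor. Then Q is the image of a class in H¹(Y, f_*F), in the sense that there are an
f_*F-torsor P on Y and a morphism of sheaves of sets from P to the direct image of the sheaf
underlying Q which is equivariant for the actions of f_*F, if and only if the class of Q is locally
trivial over Y: there is a jointly surjective family of etale Y-schemes Y_i such that Q has a
section over every X ×_Y Y_i. -/
theorem result {X Y : Scheme.{u}} (f : X ⟶ Y)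
    [EtCoh.BCCont f] (F : Sheaf X.smallEtaleTopology GrpCat.{u + 1}) (Q : NonAbH1.Torsor F) :
    (∃ (P : NonAbH1.Torsor (((EtCoh.bc f).sheafPushforwardContinuous GrpCat.{u + 1}
        Y.smallEtaleTopology X.smallEtaleTopology).obj F))
      (φ : P.P ⟶ ((EtCoh.bc f).sheafPushforwardContinuous (Type (u + 1))
        Y.smallEtaleTopology X.smallEtaleTopology).obj Q.P),
      ∀ (V : Y.Etaleᵒᵖ) (g : F.obj.obj (op ((EtCoh.bc f).obj V.unop))) (s : P.P.obj.obj V),
        φ.hom.app V (P.smul g s) = Q.smul g (φ.hom.app V s)) ↔
    ∃ (ι : Type u) (V : ι → Y.Etale), EtCoh.Covers V ∧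
      ∀ i, Nonempty (Q.P.obj.obj (op ((EtCoh.bc f).obj (V i)))) := by
  constructor
  · rintro ⟨P, φ, -⟩
    obtain ⟨S, hS, hne⟩ := P.isTorsor.2 (EtCoh.top Y)
    rw [mem_smallEtaleTopology_iff'] at hS
    choose V g z hg hz using hS
    refine ⟨Y, V, ?_, ?_⟩
    · intro x
      refine ⟨x, z x, ?_⟩
      have h1 : (g x).left = (V x).hom :=
        (Category.comp_id _).symm.trans (MorphismProperty.Over.w (g x))
      have h3 := hz x
      rw [h1] at h3
      exact h3
    · intro x
      obtain ⟨p⟩ := hne (g x) (hg x)
      exact ⟨φ.hom.app (op (V x)) p⟩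
  · rintro ⟨ι, V, hcov, hne⟩
    let P : NonAbH1.GSheaf (((EtCoh.bc f).sheafPushforwardContinuous GrpCat.{u + 1}
        Y.smallEtaleTopology X.smallEtaleTopology).obj F) :=
      { P := ((EtCoh.bc f).sheafPushforwardContinuous (Type (u + 1))
          Y.smallEtaleTopology X.smallEtaleTopology).obj Q.P
        smul := fun {U} g p => Q.smul (U := op ((EtCoh.bc f).obj U.unop)) g p
        one_smul := fun p => Q.one_smul p
        mul_smul := fun g h p => Q.mul_smul g h p
        map_smul := fun a g p => Q.map_smul ((EtCoh.bc f).map a.unop).op g p }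
    have hP : P.IsTorsor := by
      constructor
      · intro U p q
        exact Q.isTorsor.1 (op ((EtCoh.bc f).obj U.unop)) p q
      · intro U
        let S : Sieve U :=
          { arrows := fun W _ => Nonempty (Q.P.obj.obj (op ((EtCoh.bc f).obj W)))
            downward_closed := fun {W W'} g hs h => by
              obtain ⟨s⟩ := hs
              exact ⟨Q.P.obj.map ((EtCoh.bc f).map h).op s⟩ }
        refine ⟨S, ?_, fun W g hg => hg⟩
        rw [mem_smallEtaleTopology_iff']
        intro x
        obtain ⟨i, v, hv⟩ := hcov (U.hom x)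
        obtain ⟨z, hz1, hz2⟩ := Scheme.Pullback.exists_preimage_pullback (f := U.hom) (g := (V i).hom) x v hv.symm
        let W : Y.Etale := Scheme.Etale.mk (pullback.fst U.hom (V i).hom ≫ U.hom)
        let a : W ⟶ U := MorphismProperty.Over.homMk (pullback.fst U.hom (V i).hom) rfl
        let b : W ⟶ V i := MorphismProperty.Over.homMk (pullback.snd U.hom (V i).hom) pullback.condition.symm
        refine ⟨W, a, z, ?_, hz1⟩
        obtain ⟨s⟩ := hne i
        exact ⟨Q.P.obj.map ((EtCoh.bc f).map b).op s⟩
    refine ⟨⟨P, hP⟩, 𝟙 _, ?_⟩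
    intro V g s
    rfl

end Groth.Agent.S8562
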