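import Groth.Statements.S8564
-- import your own Groth.Agent.* helpers here
import Groth.Agent.S0865
import Groth.Agent.Lib.Lead.FreeSheaf

set_option autoImplicit false
open CategoryTheory CategoryTheory.Limits
universe u
open CohCx

namespace Groth.Agent.S8564

open Groth.Agent.Lib.Helper4 CategoryTheory.Abelian Opposite

/-- A morphism of abelian sheaves through which every map from a free sheaf `ℤ_U` lifts is an
epimorphism. -/
lemma epi_of_ZU_lift {C : Type u} [SmallCategory C] {J : GrothendieckTopology C}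
    {A B : Sheaf J AddCommGrpCat.{u}} (g : A ⟶ B)
    (h : ∀ (U : C) (ψ : ZU J U ⟶ B), ∃ ψ' : ZU J U ⟶ A, ψ' ≫ g = ψ) : Epi g := by
  apply Preadditive.epi_of_cancel_zero
  intro T k hk
  apply Sheaf.hom_ext
  ext U s
  obtain ⟨ψ, rfl⟩ := (ZUev_bijective U.unop B).2 s
  obtain ⟨ψ', rfl⟩ := h U.unop ψ
  have h1 := ZUev_comp U.unop (ψ' ≫ g) k
  rw [Category.assoc, hk] at h1
  have h2 := ZUev_comp U.unop ψ' (0 : A ⟶ T)
  rw [h2] at h1
  exact h1.symm.trans (by simp)

/-- The product of the canonical short exact sequences `0 ⟶ F_t ⟶ I_t ⟶ Q_t ⟶ 0`. -/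
noncomputable def piSes {C : Type u} [SmallCategory C] {J : GrothendieckTopology C}
    {T : Type u} (F : T → Sheaf J AddCommGrpCat.{u}) : ShortComplex (Sheaf J AddCommGrpCat.{u}) :=
  ShortComplex.mk (Limits.Pi.map fun t => (S0865.ses (F t)).f)
    (Limits.Pi.map fun t => (S0865.ses (F t)).g) (by
      apply Limits.Pi.hom_ext
      intro t
      simp)

instance {C : Type u} [SmallCategory C] {J : GrothendieckTopology C}
    {T : Type u} (F : T → Sheaf J AddCommGrpCat.{u}) : Injective (piSes F).X₂ := by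
  dsimp [piSes]; infer_instance

/-- Lifting of maps into the product of the quotients, when all `Ext¹(Z, F_t)` vanish. -/
lemma piSes_lift {C : Type u} [SmallCategory C] {J : GrothendieckTopology C}
    {T : Type u} (F : T → Sheaf J AddCommGrpCat.{u}) (Z : Sheaf J AddCommGrpCat.{u})
    (hZ : ∀ t, Subsingleton (Ext Z (F t) 1)) (ψ : Z ⟶ (piSes F).X₃) :
    ∃ ψ' : Z ⟶ (piSes F).X₂, ψ' ≫ (piSes F).g = ψ := by
  have key : ∀ t, ∃ φ : Z ⟶ (S0865.ses (F t)).X₂,
      φ ≫ (S0865.ses (F t)).g = ψ ≫ Pi.π (fun t => (S0865.ses (F t)).X₃) t := by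
    intro t
    have hS := S0865.ses_shortExact (F t)
    have h0 : Subsingleton (Ext Z (S0865.ses (F t)).X₁ 1) := hZ t
    have h1 : (Ext.mk₀ (ψ ≫ Pi.π (fun t => (S0865.ses (F t)).X₃) t)).comp hS.extClass
        (zero_add 1) = 0 := Subsingleton.elim _ _
    obtain ⟨z, hz⟩ := Ext.covariant_sequence_exact₃ _ hS _ (zero_add 1) h1
    obtain ⟨φ, rfl⟩ := (Ext.mk₀_bijective _ _).surjective z
    rw [Ext.mk₀_comp_mk₀] at hz
    exact ⟨φ, (Ext.mk₀_bijective _ _).injective hz⟩
  choose φ hφ using key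
  refine ⟨Pi.lift φ, ?_⟩
  apply Limits.Pi.hom_ext
  intro t
  dsimp [piSes]
  rw [Category.assoc, Limits.Pi.map_π, Limits.Pi.lift_π_assoc, hφ]
  rfl

lemma piSes_shortExact {C : Type u} [SmallCategory C] {J : GrothendieckTopology C}
    {T : Type u} (F : T → Sheaf J AddCommGrpCat.{u}) (hF : ∀ t, CohCx.IsTotallyAcyclic (F t)) :
    (piSes F).ShortExact := by
  have hm : ∀ t, Mono (S0865.ses (F t)).f := fun t => (S0865.ses_shortExact (F t)).mono_f
  have hmono : Mono (piSes F).f := by dsimp [piSes]; infer_instance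
  have hepi : Epi (piSes F).g := by
    apply epi_of_ZU_lift
    intro U ψ
    exact piSes_lift F (ZU J U) (fun t => Groth.Agent.S0864.result (F t) (hF t) U 0) ψ
  have hcomp : ∀ {W' : Sheaf J AddCommGrpCat.{u}} (g' : W' ⟶ (piSes F).X₂)
      (_ : g' ≫ (piSes F).g = 0) (t : T),
      (g' ≫ Pi.π (fun t => (S0865.ses (F t)).X₂) t) ≫ (S0865.ses (F t)).g = 0 := by
    intro W' g' hg' t
    have h1 : (g' ≫ (piSes F).g) ≫ Pi.π (fun t => (S0865.ses (F t)).X₃) t = 0 := by
      rw [hg']; exact zero_comp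
    rw [Category.assoc] at h1 ⊢
    have h2 : (piSes F).g ≫ Pi.π (fun t => (S0865.ses (F t)).X₃) t =
        Pi.π (fun t => (S0865.ses (F t)).X₂) t ≫ (S0865.ses (F t)).g :=
      Limits.Pi.map_π (fun t => (S0865.ses (F t)).g) t
    rw [h2] at h1
    exact h1
  have hex : (piSes F).Exact := by
    apply ShortComplex.exact_of_f_is_kernel
    refine KernelFork.IsLimit.ofι _ _
      (fun {W'} g' hg' => Pi.lift fun t =>
        (S0865.ses_shortExact (F t)).exact.lift (g' ≫ Pi.π _ t) (hcomp g' hg' t)) ?_ ?_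
    · intro W' g' hg'
      apply Limits.Pi.hom_ext
      intro t
      dsimp [piSes]
      rw [Category.assoc, Limits.Pi.map_π, Limits.Pi.lift_π_assoc]
      exact (S0865.ses_shortExact (F t)).exact.lift_f _ _
    · intro W' g' hg' m hm
      rw [← cancel_mono (piSes F).f, hm]
      apply Limits.Pi.hom_ext
      intro t
      dsimp [piSes]
      rw [Category.assoc, Limits.Pi.map_π, Limits.Pi.lift_π_assoc]
      exact ((S0865.ses_shortExact (F t)).exact.lift_f _ _).symm
  exact { exact := hex, mono_f := hmono, epi_g := hepi }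


/-- Let (F_t) be a family of abelian sheaves on a small site, indexed by a small set, such that each F_t
is totally acyclic, i.e. H^p(K, F_t) = 0 for every sheaf of sets K and every p > 0. Then the product
sheaf of the family is totally acyclic. (The published statement is for modules over a ringed topos;
this row is the case of abelian sheaves.) -/
theorem result {C : Type u} [SmallCategory C] (J : GrothendieckTopology C)
    {T : Type u} (F : T → Sheaf J AddCommGrpCat.{u}) (hF : ∀ t, CohCx.IsTotallyAcyclic (F t)) :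
    CohCx.IsTotallyAcyclic (∏ᶜ F) := by
  intro K p
  refine subsingleton_of_forall_eq 0 (fun x => ?_)
  refine Groth.Agent.Lib.Lead.ext_succ_eq_zero _
    (fun G => ∃ F' : T → Sheaf J AddCommGrpCat.{u},
      (∀ t, CohCx.IsTotallyAcyclic (F' t)) ∧ G = ∏ᶜ F') ?_ p _ ⟨F, hF, rfl⟩ x
  rintro G ⟨F', hF', rfl⟩
  refine ⟨piSes F', piSes_shortExact F' hF', rfl, inferInstance,
    ⟨fun t => (S0865.ses (F' t)).X₃, fun t => S0865.totallyAcyclic_X₃ _ (hF' t), rfl⟩, ?_⟩
  intro ψ
  exact piSes_lift F' _ (fun t => hF' t K 0) ψ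

end Groth.Agent.S8564
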