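import Groth.Statements.S8567
import Groth.Agent.Lib.Helper36.CptSub.PullSec

set_option autoImplicit false
open CategoryTheory TopologicalSpace Opposite
universe u
open CohTop

namespace Groth.Agent.S8567

/-- Let X be a topological space, K ⊆ X a compact subset such that any two distinct points of K have
disjoint neighbourhoods in X, and F a flasque abelian sheaf on X. Then the inverse image F|K of F on
the subspace K is a soft sheaf: for every closed subset A of K, every section of (F|K)|A over A is
the restriction of a section of F|K over K (the restriction map is the unit of the inverse image /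
direct image adjunction for the inclusion A → K, taken on global sections). -/
theorem result {X : TopCat.{u}} {K : Set X} (hK : IsCompact K)
    (hsep : ∀ x ∈ K, ∀ y ∈ K, x ≠ y → ∃ U V : Set X, IsOpen U ∧ IsOpen V ∧ x ∈ U ∧ y ∈ V ∧ Disjoint U V)
    (F : CohTop.Ab X) [TopCat.Sheaf.IsFlasque F] {A : Set K} (hA : IsClosed A) :
    Function.Surjective
      ((((TopCat.Sheaf.pullbackPushforwardAdjunction AddCommGrpCat.{u}
        (TopCat.ofHom ⟨((↑) : A → K), continuous_subtype_val⟩ : TopCat.of A ⟶ TopCat.of K)).unit.app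
        ((CohTop.pull (TopCat.ofHom ⟨((↑) : K → X), continuous_subtype_val⟩ : TopCat.of K ⟶ X)).obj F)).hom.app
        (op ⊤)).hom) := by
  open Groth.Agent.Lib.Helper36.CptSub Topology in
  intro t
  let i : TopCat.of K ⟶ X := TopCat.ofHom ⟨((↑) : K → X), continuous_subtype_val⟩
  let j : TopCat.of A ⟶ TopCat.of K := TopCat.ofHom ⟨((↑) : A → K), continuous_subtype_val⟩
  have hcK : CompactSpace (TopCat.of K) := isCompact_iff_compactSpace.1 hK
  have hcA : CompactSpace (TopCat.of A) := isCompact_iff_compactSpace.1 hA.isCompact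
  have hi : IsEmbedding i := IsEmbedding.subtypeVal
  have hj : IsEmbedding j := IsEmbedding.subtypeVal
  have hsepi : ∀ y y' : TopCat.of K, y ≠ y' →
      ∃ U V : Set X, IsOpen U ∧ IsOpen V ∧ i y ∈ U ∧ i y' ∈ V ∧ Disjoint U V :=
    fun y y' hne => hsep y.1 y.2 y'.1 y'.2 (fun e => hne (Subtype.ext e))
  have hsepj : ∀ a a' : TopCat.of A, a ≠ a' →
      ∃ U V : Set (TopCat.of K), IsOpen U ∧ IsOpen V ∧ j a ∈ U ∧ j a' ∈ V ∧ Disjoint U V := by
    intro a a' hne
    obtain ⟨U, V, hU, hV, haU, haV, hd⟩ := hsepi a.1 a'.1 (fun e => hne (Subtype.ext e))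
    exact ⟨i ⁻¹' U, i ⁻¹' V, hU.preimage i.hom.continuous, hV.preimage i.hom.continuous,
      haU, haV, hd.preimage i⟩
  let G : CohTop.Ab (TopCat.of K) := (CohTop.pull i).obj F
  have hsoft : IsSoft G := isSoft_pull_of_isFlasque i F hi hsepi
  obtain ⟨V, hV, g, hg⟩ := exists_section_nhd j G hj hsepj t
  have hAV : A ⊆ V := fun a ha => hV (show (⟨a, ha⟩ : TopCat.of A) ∈ (⊤ : Opens (TopCat.of A)) from trivial)
  obtain ⟨g', hg'⟩ := hsoft A hA V hAV g
  refine ⟨g', ?_⟩
  apply section_ext' ((CohTop.pull j).obj G)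
  intro a ha
  have h2 := gm_ηU j G V ⊤ hV a trivial g
  rw [hg] at h2
  exact ((σ_germ_apply j G a ⊤ trivial g').symm).trans
    ((congrArg (σ j G a) (hg' a.1 a.2)).trans h2.symm)

end Groth.Agent.S8567
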