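import Groth.Statements.S8569
import Groth.Agent.S6127
import Mathlib
-- import your own Groth.Agent.* helpers here

set_option autoImplicit false
open CategoryTheory
universe v u
open SGA4

open CategoryTheory.Limits Opposite

namespace Groth.Agent.S8569.Aux

section
variable {C : Type u} [SmallCategory C]

/-- sheaves for `J` as the full subcategory on a property which is exactly sheafhood -/
noncomputable def fullSubcategoryEquivSheaf (P : ObjectProperty (Cᵒᵖ ⥤ Type u)) (J : GrothendieckTopology C)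
    (h : ∀ F : Cᵒᵖ ⥤ Type u, P F ↔ Presieve.IsSheaf J F) :
    P.FullSubcategory ≌ Sheaf J (Type u) := by
  let F : P.FullSubcategory ⥤ Sheaf J (Type u) :=
    { obj := fun X => ⟨X.obj, (isSheaf_iff_isSheaf_of_type J X.obj).mpr ((h X.obj).mp X.property)⟩
      map := fun {X Y} f => ⟨f.hom⟩
      map_id := fun X => rfl
      map_comp := fun f g => rfl }
  have : F.Full := ⟨fun {X Y} f => ⟨⟨f.hom⟩, rfl⟩⟩
  have : F.Faithful := ⟨fun {X Y} f g hfg => by
    apply ObjectProperty.hom_ext
    exact congrArg (fun k => k.hom) hfg⟩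
  have : F.EssSurj := ⟨fun Y => ⟨⟨Y.obj, (h Y.obj).mpr ((isSheaf_iff_isSheaf_of_type J Y.obj).mp Y.property)⟩,
    ⟨Iso.refl _⟩⟩⟩
  have : F.IsEquivalence := {}
  exact F.asEquivalence

end

end Groth.Agent.S8569.Aux

namespace Groth.Agent.S8569.Aux

theorem isTopos_of_lex_reflective {E : Type v} [Category.{u} E] {C : Type u} [SmallCategory C]
    (i : E ⥤ (Cᵒᵖ ⥤ Type u)) [i.Full] [i.Faithful] (L : (Cᵒᵖ ⥤ Type u) ⥤ E) (adj : L ⊣ i)
    [PreservesFiniteLimits L] : SGA4.IsTopos E := by
  let P : ObjectProperty (Cᵒᵖ ⥤ Type u) := i.essImage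
  have hequiv : i.toEssImage.IsEquivalence := {}
  let e : E ≌ P.FullSubcategory := i.toEssImage.asEquivalence
  let iso : e.inverse ⋙ i ≅ P.ι :=
    Functor.isoWhiskerLeft e.inverse i.toEssImageCompι.symm ≪≫
      (Functor.associator _ _ _).symm ≪≫ Functor.isoWhiskerRight e.counitIso P.ι ≪≫
      Functor.leftUnitor _
  let adj' : (L ⋙ e.functor) ⊣ P.ι := (adj.comp e.toAdjunction).ofNatIsoRight iso
  let _ : Reflective P.ι := { L := L ⋙ e.functor, adj := adj' }
  have hlex : PreservesFiniteLimits (reflector P.ι) := by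
    change PreservesFiniteLimits (L ⋙ e.functor)
    infer_instance
  obtain ⟨J, -, hJ⟩ := Groth.Agent.S6127.result P
  exact ⟨C, inferInstance, J, ⟨e.trans (fullSubcategoryEquivSheaf P J hJ)⟩⟩

end Groth.Agent.S8569.Aux

namespace Groth.Agent.S8569.Aux

theorem isTopos_of_equivalence {E : Type v} [Category.{u} E] {E' : Type*} [Category.{u} E']
    (e : E ≌ E') (h : SGA4.IsTopos E') : SGA4.IsTopos E := by
  obtain ⟨C, _, J, ⟨e'⟩⟩ := h
  exact ⟨C, inferInstance, J, ⟨e.trans e'⟩⟩

theorem isTopos_functor_sheaf {C : Type u} [SmallCategory C] (J : GrothendieckTopology C)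
    (D : Type u) [SmallCategory D] : SGA4.IsTopos (D ⥤ Sheaf J (Type u)) := by
  let Φ : (D ⥤ Cᵒᵖ ⥤ Type u) ≌ ((D × Cᵒᵖ)ᵒᵖᵒᵖ ⥤ Type u) :=
    Functor.currying.trans ((opOpEquivalence (D × Cᵒᵖ)).congrLeft).symm
  let W : (D ⥤ Sheaf J (Type u)) ⥤ (D ⥤ Cᵒᵖ ⥤ Type u) :=
    (Functor.whiskeringRight D _ _).obj (sheafToPresheaf J (Type u))
  let W' : (D ⥤ Cᵒᵖ ⥤ Type u) ⥤ (D ⥤ Sheaf J (Type u)) :=
    (Functor.whiskeringRight D _ _).obj (presheafToSheaf J (Type u))
  let adjW : W' ⊣ W := Adjunction.whiskerRight D (sheafificationAdjunction J (Type u))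
  let adj : Φ.inverse ⋙ W' ⊣ W ⋙ Φ.functor := Φ.symm.toAdjunction.comp adjW
  have : PreservesFiniteLimits (presheafToSheaf J (Type u)) := inferInstance
  have : PreservesFiniteLimits W' := ⟨fun K _ _ => by
    have : PreservesLimitsOfShape K (presheafToSheaf J (Type u)) := inferInstance
    exact CategoryTheory.whiskeringRight_preservesLimitsOfShape _⟩
  have : PreservesFiniteLimits (Φ.inverse ⋙ W') := inferInstance
  exact isTopos_of_lex_reflective (C := (D × Cᵒᵖ)ᵒᵖ) (W ⋙ Φ.functor) (Φ.inverse ⋙ W') adj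

end Groth.Agent.S8569.Aux


namespace Groth.Agent.S8569

/-- Let E be a topos (a category equivalent to the category of sheaves of sets on a small site, for the
universe u) and D a u-small category. Then the category of functors D ⥤ E, which is the category of
sections of the constant D-topos with value E, is a topos. (The published statement is for an
arbitrary D-topos, i.e. a category bifibred in topoi over D; this row is the case of a constant
one.) -/
theorem result {E : Type v} [Category.{u} E] (hE : SGA4.IsTopos E)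
    (D : Type u) [SmallCategory D] : SGA4.IsTopos (D ⥤ E) := by
  obtain ⟨C, _, J, ⟨e⟩⟩ := hE
  exact Aux.isTopos_of_equivalence (e.congrRight (E := D)) (Aux.isTopos_functor_sheaf J D)

end Groth.Agent.S8569
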