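import Groth.Statements.S8570
import Groth.Agent.Lib.Helper33.ClosedCover.Exact2
import Groth.Agent.Lib.Helper33.ClosedCover.Coh
import Groth.Agent.Lib.Helper33.ResolutionSS
import Groth.Agent.Lib.Helper33.ExtDelta

set_option autoImplicit false
open CategoryTheory TopologicalSpace
universe u
open CohTop

namespace Groth.Agent.S8570

/-- Let (U_i), i in I, be a locally finite covering of a topological space X by closed subsets and F an
abelian sheaf on X. The disjoint union of the U_i is then of cohomological descent over X, and the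
descent spectral sequence reads, in existence form: there is a bounded spectral sequence of abelian
groups starting at page one, with E_1^{p,q} isomorphic for p, q ≥ 0 to the product, over all ordered
(p+1)-tuples of indices (i_0, ..., i_p), of the groups H^q(U_{i_0} ∩ ... ∩ U_{i_p}, F|(U_{i_0} ∩ ...
∩ U_{i_p})) (inverse image of F on the closed subspace) and zero otherwise, together with abutment
data whose filtrations are finite on H^n(X, F) for n ≥ 0 (zero for n < 0). (The E_1 identifications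
and the abutment isomorphisms are asserted to exist only; the first differential, which is the
alternating sum of the restriction maps, is not part of this statement.) -/
theorem result {X : TopCat.{u}} {I : Type u} (U : I → Set X)
    (hU : ∀ i, IsClosed (U i)) (hlf : LocallyFinite U) (hcov : ⋃ i, U i = Set.univ) (F : CohTop.Ab X) :
    ∃ (E : CohomologicalSpectralSequence AddCommGrpCat.{u} 1)
      (a : SpSeq.Abutment E (fun n : ℤ =>
        if 0 ≤ n then AddCommGrpCat.of (CohTop.H F n.toNat) else AddCommGrpCat.of PUnit.{u + 1})),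
      (∀ n, a.IsFinite n) ∧ SpSeq.IsBounded E ∧
      ∀ p q : ℤ, Nonempty ((E.page 1 le_rfl).X (p, q) ≅
        (if 0 ≤ p ∧ 0 ≤ q then
          AddCommGrpCat.of (∀ σ : Fin (p.toNat + 1) → I,
            CohTop.H ((CohTop.pull (TopCat.ofHom ⟨((↑) : (⋂ k, U (σ k) : Set X) → X), continuous_subtype_val⟩ :
              TopCat.of (⋂ k, U (σ k) : Set X) ⟶ X)).obj F) q.toNat)
         else AddCommGrpCat.of PUnit.{u + 1})) := by
  classical
  let A : CohTop.Ab X := (constantSheaf (Opens.grothendieckTopology X) AddCommGrpCat.{u}).obj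
    (AddCommGrpCat.of (ULift ℤ))
  let T := Groth.Agent.Lib.Helper33.ExtDelta.extDelta.{u} A
  have hT : T.ZeroMono := by
    intro S hS
    have := hS.mono_f
    exact Abelian.Ext.mono_postcomp_mk₀_of_mono A S.f
  have hz : Limits.IsZero (AddCommGrpCat.of PUnit.{u + 1}) := by
    refine (Limits.IsZero.iff_id_eq_zero _).2 ?_
    ext x
  obtain ⟨e0⟩ := Groth.Agent.Lib.Helper33.ClosedCover.nonempty_cycles0Iso U hU hlf F hcov
  let H' : ℤ → AddCommGrpCat.{u} := fun n : ℤ =>
    if 0 ≤ n then AddCommGrpCat.of (CohTop.H F n.toNat) else AddCommGrpCat.of PUnit.{u + 1}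
  let E₀ : ℤ × ℤ → AddCommGrpCat.{u} := fun pq : ℤ × ℤ =>
    if 0 ≤ pq.1 ∧ 0 ≤ pq.2 then
      AddCommGrpCat.of (∀ σ : Fin (pq.1.toNat + 1) → I,
        CohTop.H ((CohTop.pull (Groth.Agent.Lib.Helper33.ClosedCover.incl
          (Groth.Agent.Lib.Helper33.ClosedCover.Zs U σ))).obj F) pq.2.toNat)
    else AddCommGrpCat.of PUnit.{u + 1}
  have eH : ∀ n : ℕ, Nonempty ((T.F n).obj
      ((Groth.Agent.Lib.Helper33.ClosedCover.cx U hU F).cycles 0) ≅ H' (n : ℤ)) := by
    intro n
    have h1 : (0 : ℤ) ≤ (n : ℤ) := Int.natCast_nonneg n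
    simp only [H', if_pos h1, Int.toNat_natCast]
    exact ⟨(T.F n).mapIso e0⟩
  have hH' : ∀ n : ℤ, n < 0 → Limits.IsZero (H' n) := by
    intro n hn
    simp only [H', if_neg (not_le.2 hn)]
    exact hz
  have eE : ∀ (p q : ℕ), Nonempty ((T.F q).obj
      ((Groth.Agent.Lib.Helper33.ClosedCover.cx U hU F).X p) ≅ E₀ ((p : ℤ), (q : ℤ))) := by
    intro p q
    have h1 : (0 : ℤ) ≤ (p : ℤ) ∧ (0 : ℤ) ≤ (q : ℤ) :=
      ⟨Int.natCast_nonneg p, Int.natCast_nonneg q⟩
    simp only [E₀, if_pos h1, Int.toNat_natCast]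
    have hLF : LocallyFinite (fun σ : Fin (p + 1) → I =>
        Set.range (Groth.Agent.Lib.Helper33.ClosedCover.incl
          (Groth.Agent.Lib.Helper33.ClosedCover.Zs U σ))) := by
      intro x
      obtain ⟨t, ht, hfin⟩ := hlf x
      refine ⟨t, ht, ?_⟩
      have h2 := Set.Finite.pi (ι := Fin (p + 1))
        (t := fun _ => {i | (U i ∩ t).Nonempty}) (fun _ => hfin)
      refine h2.subset ?_
      rintro σ ⟨y, ⟨z, rfl⟩, hyt⟩ k _
      exact ⟨z.1, Set.mem_iInter.1 z.2 k, hyt⟩
    obtain ⟨e⟩ := Groth.Agent.Lib.Helper33.ClosedCover.nonempty_H_PB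
      (fun σ : Fin (p + 1) → I => TopCat.of (Groth.Agent.Lib.Helper33.ClosedCover.Zs U σ))
      (fun σ => Groth.Agent.Lib.Helper33.ClosedCover.incl
        (Groth.Agent.Lib.Helper33.ClosedCover.Zs U σ))
      (fun σ => Groth.Agent.Lib.Helper33.ClosedCover.isClosedEmbedding_incl
        (Groth.Agent.Lib.Helper33.ClosedCover.isClosed_Zs U hU σ)) hLF q
      (fun σ => (CohTop.pull (Groth.Agent.Lib.Helper33.ClosedCover.incl
        (Groth.Agent.Lib.Helper33.ClosedCover.Zs U σ))).obj F)
    exact ⟨e.toAddCommGrpIso⟩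
  have hE₀ : ∀ pq : ℤ × ℤ, pq.1 < 0 ∨ pq.2 < 0 → Limits.IsZero (E₀ pq) := by
    intro pq h
    have h1 : ¬ (0 ≤ pq.1 ∧ 0 ≤ pq.2) := by
      rintro ⟨h2, h3⟩
      rcases h with h | h <;> omega
    simp only [E₀, if_neg h1]
    exact hz
  obtain ⟨E, a, hfin, hbd, hE⟩ := Groth.Agent.Lib.Helper33.ResolutionSS.complex_ss T hT
    (Groth.Agent.Lib.Helper33.ClosedCover.cx U hU F)
    (Groth.Agent.Lib.Helper33.ClosedCover.exactAt_succ U hU hlf F hcov) H' eH hH' E₀ eE hE₀
  exact ⟨E, a, hfin, hbd, fun p q => hE (p, q)⟩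

end Groth.Agent.S8570
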