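import Groth.Statements.S8572
import Groth.Agent.Lib.Helper36.LH.Coh
import Groth.Agent.Lib.Helper36.LH.TopWP
import Groth.Agent.Lib.Helper36.LH.ExtOpDelta
import Groth.Agent.Lib.Helper33.ResolutionSS

set_option autoImplicit false
open CategoryTheory CategoryTheory.Limits TopologicalSpace
universe u
open CohTop

namespace Groth.Agent.S8572

/-- Let f : X → S be a surjective local homeomorphism of topological spaces and F an abelian sheaf on S.
Then f is of universal cohomological descent, and the descent spectral sequence reads, in existence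
form: there is a bounded spectral sequence of abelian groups starting at page one with E_1^{p,q}
isomorphic, for p, q ≥ 0, to H^q(X_p, F|X_p), where X_p is the (p+1)-fold fibre product of X over S
and F|X_p the inverse image of F along its projection to S, and zero otherwise, together with
abutment data whose filtrations are finite on H^n(S, F) for n ≥ 0 (zero for n < 0). (The E_1
identifications and the abutment isomorphisms are asserted to exist only; the differentials are not
part of this statement.) -/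
theorem result {X S : TopCat.{u}} (f : X ⟶ S)
    (hf : IsLocalHomeomorph f) (hsurj : Function.Surjective f) (F : CohTop.Ab S) :
    ∃ (E : CohomologicalSpectralSequence AddCommGrpCat.{u} 1)
      (a : SpSeq.Abutment E (fun n : ℤ =>
        if 0 ≤ n then AddCommGrpCat.of (CohTop.H F n.toNat) else AddCommGrpCat.of PUnit.{u + 1})),
      (∀ n, a.IsFinite n) ∧ SpSeq.IsBounded E ∧
      ∀ p q : ℤ, Nonempty ((E.page 1 le_rfl).X (p, q) ≅
        (if 0 ≤ p ∧ 0 ≤ q then
          AddCommGrpCat.of (CohTop.H ((CohTop.pull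
            (WidePullback.base (fun _ : Fin (p.toNat + 1) => f) :
              widePullback S (fun _ : Fin (p.toNat + 1) => X) (fun _ => f) ⟶ S)).obj F) q.toNat)
         else AddCommGrpCat.of PUnit.{u + 1})) := by
  classical
  let h := Groth.Agent.Lib.Helper36.LH.hCont f
  have hh : ∀ s : S, ∃ V ∈ Groth.Agent.Lib.Helper36.LH.secOpens h, s ∈ V :=
    Groth.Agent.Lib.Helper36.LH.exists_secOpens f hf hsurj
  let P := Groth.Agent.Lib.Helper36.LH.Pres h
  let K : CochainComplex (CohTop.Ab S)ᵒᵖ ℕ := P.op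
  let T := Groth.Agent.Lib.Helper36.LH.extOpDelta.{u} F
  have hT : T.ZeroMono := Groth.Agent.Lib.Helper36.LH.extOpDelta_zeroMono.{u} F
  have hK : ∀ n : ℕ, K.ExactAt (n + 1) := fun n =>
    (Groth.Agent.Lib.Helper36.LH.Pres_exactAt h hh n).op
  have hz : Limits.IsZero (AddCommGrpCat.of PUnit.{u + 1}) := by
    refine (Limits.IsZero.iff_id_eq_zero _).2 ?_
    ext x
  -- the cycles in degree zero
  have e0 : Nonempty (K.cycles 0 ≅ Opposite.op (Groth.Agent.Lib.Helper36.LH.ZZ S)) := by
    let S₀ : ShortComplex (CohTop.Ab S) :=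
      ShortComplex.mk (P.d 1 0) (Groth.Agent.Lib.Helper36.LH.εsh h)
        (Groth.Agent.Lib.Helper36.LH.d_εsh h)
    have hS₀ : S₀.Exact := Groth.Agent.Lib.Helper36.LH.Pres_exact_zero h hh
    have : Epi S₀.g := Groth.Agent.Lib.Helper36.LH.εsh_epi h hh
    have hS₀' : S₀.op.Exact := hS₀.op
    have : Mono S₀.op.f := by
      change Mono S₀.g.op
      infer_instance
    have h1 : IsLimit (KernelFork.ofι S₀.op.f S₀.op.zero) := hS₀'.fIsKernel
    have h2 := K.cyclesIsKernel 0 1 (by simp)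
    exact ⟨IsLimit.conePointUniqueUpToIso h2 h1 ≪≫
      (Groth.Agent.Lib.Helper36.LH.LptIso S).symm.op⟩
  obtain ⟨e0⟩ := e0
  let H' : ℤ → AddCommGrpCat.{u} := fun n : ℤ =>
    if 0 ≤ n then AddCommGrpCat.of (CohTop.H F n.toNat) else AddCommGrpCat.of PUnit.{u + 1}
  let E₀ : ℤ × ℤ → AddCommGrpCat.{u} := fun pq : ℤ × ℤ =>
    if 0 ≤ pq.1 ∧ 0 ≤ pq.2 then
      AddCommGrpCat.of (CohTop.H ((CohTop.pull
        (WidePullback.base (fun _ : Fin (pq.1.toNat + 1) => f) :
          widePullback S (fun _ : Fin (pq.1.toNat + 1) => X) (fun _ => f) ⟶ S)).obj F) pq.2.toNat)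
    else AddCommGrpCat.of PUnit.{u + 1}
  have eH : ∀ n : ℕ, Nonempty ((T.F n).obj (K.cycles 0) ≅ H' (n : ℤ)) := by
    intro n
    have h1 : (0 : ℤ) ≤ (n : ℤ) := Int.natCast_nonneg n
    simp only [H', if_pos h1, Int.toNat_natCast]
    exact ⟨(T.F n).mapIso e0⟩
  have hH' : ∀ n : ℤ, n < 0 → Limits.IsZero (H' n) := by
    intro n hn
    simp only [H', if_neg (not_le.2 hn)]
    exact hz
  have eE : ∀ (p q : ℕ), Nonempty ((T.F q).obj (K.X p) ≅ E₀ ((p : ℤ), (q : ℤ))) := by
    intro p q
    have h1 : (0 : ℤ) ≤ (p : ℤ) ∧ (0 : ℤ) ≤ (q : ℤ) :=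
      ⟨Int.natCast_nonneg p, Int.natCast_nonneg q⟩
    simp only [E₀, if_pos h1, Int.toNat_natCast]
    have hlh := Groth.Agent.Lib.Helper36.LH.isLocalHomeomorph_bp f p hf
    have hg := hlh.isOpenMap
    have hB := Groth.Agent.Lib.Helper36.LH.exists_bopens hlh
    obtain ⟨e⟩ := Groth.Agent.Lib.Helper36.LH.nonempty_H_pull_iso hg hB F q
    let iso1 : (Groth.Agent.Lib.Helper36.LH.Lfun S).obj
        ((Groth.Agent.Lib.Helper36.LH.Nh h).obj (Opposite.op (SimplexCategory.mk p))) ≅
        Groth.Agent.Lib.Helper36.LH.LY hg :=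
      (Groth.Agent.Lib.Helper36.LH.Lfun S).mapIso
        ((Groth.Agent.Lib.Helper36.LH.hContWP f p).symm ≪≫
          Groth.Agent.Lib.Helper36.LH.hContIso hg hlh)
    exact ⟨(T.F q).mapIso iso1.symm.op ≪≫ e.symm⟩
  have hE₀ : ∀ pq : ℤ × ℤ, pq.1 < 0 ∨ pq.2 < 0 → Limits.IsZero (E₀ pq) := by
    intro pq h
    have h1 : ¬ (0 ≤ pq.1 ∧ 0 ≤ pq.2) := by
      rintro ⟨h2, h3⟩
      rcases h with h | h <;> omega
    simp only [E₀, if_neg h1]
    exact hz
  obtain ⟨E, a, hfin, hbd, hE⟩ := Groth.Agent.Lib.Helper33.ResolutionSS.complex_ss T hT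
    K hK H' eH hH' E₀ eE hE₀
  exact ⟨E, a, hfin, hbd, fun p q => hE (p, q)⟩

end Groth.Agent.S8572
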