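import Groth.Statements.S8579
import Groth.Agent.Lib.Helper36.DescSS.ChainSS
import Groth.Agent.Lib.Helper36.DescSS.TopRetract
import Groth.Agent.Lib.Helper36.DescSS.WidePB

set_option autoImplicit false
open CategoryTheory CategoryTheory.Limits TopologicalSpace
universe u
open CohTop

namespace Groth.Agent.S8579

open Groth.Agent.Lib.Helper36.DescSS TopologicalSpace in
/-- `pr^* b_p^* F ≅ b_{p+1}^* F`. -/
noncomputable def pullPrIso {X S : TopCat.{u}} (f : X ⟶ S) (F : CohTop.Ab S) (p : ℕ) :
    (CohTop.pull (fibPr f p)).obj ((CohTop.pull (fibBase f p)).obj F) ≅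
      (CohTop.pull (fibBase f (p + 1))).obj F :=
  (pullCompIso (Opens.grothendieckTopology ↑(fibPow f (p + 1) : TopCat.{u}))
    (Opens.grothendieckTopology ↑(fibPow f p : TopCat.{u})) AddCommGrpCat.{u}
    (Opens.grothendieckTopology S)
    (Opens.map (fibPr f p)) (Opens.map (fibBase f p)) (Opens.map (fibBase f (p + 1)))
    (eqToIso (by rw [← Opens.map_comp_eq, fibPr_base]))).app F

open Groth.Agent.Lib.Helper36.DescSS in
/-- The chain of retracts `H^q(S, F) ⊆ H^q(X_0, F|X_0) ⊆ H^q(X_1, F|X_1) ⊆ ...`. -/
noncomputable def chain {X S : TopCat.{u}} (f : X ⟶ S) (s : S ⟶ X) (hs : s ≫ f = 𝟙 S)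
    (F : CohTop.Ab S) (q : ℕ) : Chain AddCommGrpCat.{u} where
  B := AddCommGrpCat.of (CohTop.H F q)
  A p := AddCommGrpCat.of (CohTop.H ((CohTop.pull (fibBase f p)).obj F) q)
  i₀ := (exists_top_retract (fibBase f 0) (fibSec₀ f s hs) (fibSec₀_base f s hs) F _
    (Iso.refl _) q).choose
  r₀ := (exists_top_retract (fibBase f 0) (fibSec₀ f s hs) (fibSec₀_base f s hs) F _
    (Iso.refl _) q).choose_spec.choose
  h₀ := (exists_top_retract (fibBase f 0) (fibSec₀ f s hs) (fibSec₀_base f s hs) F _
    (Iso.refl _) q).choose_spec.choose_spec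
  i p := (exists_top_retract (fibPr f p) (fibSec f s hs p) (fibSec_pr f s hs p) _ _
    (pullPrIso f F p) q).choose
  r p := (exists_top_retract (fibPr f p) (fibSec f s hs p) (fibSec_pr f s hs p) _ _
    (pullPrIso f F p) q).choose_spec.choose
  h p := (exists_top_retract (fibPr f p) (fibSec f s hs p) (fibSec_pr f s hs p) _ _
    (pullPrIso f F p) q).choose_spec.choose_spec

/-- In the setting of topological spaces and abelian sheaves (where every continuous map is flat for the
inverse image of sheaves), let f : X → S be a continuous map with a continuous section s, f ∘ s =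
id, and F an abelian sheaf on S. Then f is of universal cohomological descent, and the descent
spectral sequence reads, in existence form: there is a bounded spectral sequence of abelian groups
starting at page one with E_1^{p,q} isomorphic, for p, q ≥ 0, to H^q(X_p, F|X_p), where X_p is the
(p+1)-fold fibre product of X over S and F|X_p the inverse image of F along its projection to S, and
zero otherwise, together with abutment data whose filtrations are finite on H^n(S, F) for n ≥ 0
(zero for n < 0). (The E_1 identifications and the abutment isomorphisms are asserted to exist only;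
the differentials are not part of this statement.) -/
theorem result {X S : TopCat.{u}} (f : X ⟶ S) (s : S ⟶ X)
    (hs : s ≫ f = 𝟙 S) (F : CohTop.Ab S) :
    ∃ (E : CohomologicalSpectralSequence AddCommGrpCat.{u} 1)
      (a : SpSeq.Abutment E (fun n : ℤ =>
        if 0 ≤ n then AddCommGrpCat.of (CohTop.H F n.toNat) else AddCommGrpCat.of PUnit.{u + 1})),
      (∀ n, a.IsFinite n) ∧ SpSeq.IsBounded E ∧
      ∀ p q : ℤ, Nonempty ((E.page 1 le_rfl).X (p, q) ≅
        (if 0 ≤ p ∧ 0 ≤ q then
          AddCommGrpCat.of (CohTop.H ((CohTop.pull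
            (WidePullback.base (fun _ : Fin (p.toNat + 1) => f) :
              widePullback S (fun _ : Fin (p.toNat + 1) => X) (fun _ => f) ⟶ S)).obj F) q.toNat)
         else AddCommGrpCat.of PUnit.{u + 1})) := by
  obtain ⟨E, a, ha, hE, hp⟩ := Groth.Agent.Lib.Helper36.DescSS.exists_ss_of_chains
    (chain f s hs F) (AddCommGrpCat.of PUnit.{u + 1}) (AddCommGrpCat.isZero_of_subsingleton _)
  exact ⟨E, a, ha, hE, hp⟩

end Groth.Agent.S8579
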