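import Groth.Statements.S8591
import Mathlib

set_option autoImplicit false
universe u
open CAlg

namespace Groth.Agent.S8591

open Polynomial Matrix

/-- `P ↦ det (P(A))` as a monoid hom. -/
noncomputable def detAeval {R : Type*} [CommRing R] {ι : Type*} [Fintype ι] [DecidableEq ι]
    (A : Matrix ι ι R) : R[X] →* R :=
  (Matrix.detMonoidHom).comp ((aeval A : R[X] →ₐ[R] Matrix ι ι R) : R[X] →* Matrix ι ι R)

lemma detAeval_apply {R : Type*} [CommRing R] {ι : Type*} [Fintype ι] [DecidableEq ι]
    (A : Matrix ι ι R) (P : R[X]) : detAeval A P = (aeval A P).det := rfl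

lemma det_aeval_of_splits {K : Type*} [Field K] {ι : Type*} [Fintype ι] [DecidableEq ι]
    (A : Matrix ι ι K) (P : K[X]) (hP : P.Splits) :
    (aeval A P).det = (-1) ^ (Fintype.card ι * P.natDegree) *
      resultant P A.charpoly P.natDegree (Fintype.card ι) := by
  have hres := resultant_eq_prod_eval P A.charpoly (Fintype.card ι)
    (by rw [Matrix.charpoly_natDegree_eq_dim]) hP
  rw [hres]
  rw [← detAeval_apply]
  conv_lhs => rw [hP.eq_prod_roots]
  rw [map_mul, map_multiset_prod, Multiset.map_map]
  have h1 : detAeval A (C P.leadingCoeff) = P.leadingCoeff ^ Fintype.card ι := by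
    rw [detAeval_apply, aeval_C, Algebra.algebraMap_eq_smul_one, Matrix.det_smul, Matrix.det_one,
      mul_one]
  have h2 : ∀ μ : K, detAeval A (X - C μ) = (-1) ^ Fintype.card ι * A.charpoly.eval μ := by
    intro μ
    rw [detAeval_apply, map_sub, aeval_X, aeval_C, Matrix.eval_charpoly,
      ← Matrix.det_neg, neg_sub]
    rfl
  rw [h1]
  have h3 : (P.roots.map (detAeval A ∘ fun μ => X - C μ)) =
      P.roots.map (fun μ => (-1) ^ Fintype.card ι * A.charpoly.eval μ) := by
    refine Multiset.map_congr rfl fun μ _ => ?_
    exact h2 μ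
  rw [h3, Multiset.prod_map_mul, Multiset.map_const', Multiset.prod_replicate,
    ← hP.natDegree_eq_card_roots, ← pow_mul]
  ring

lemma map_aeval_matrix {R S : Type*} [CommRing R] [CommRing S] (φ : R →+* S)
    {ι : Type*} [Fintype ι] [DecidableEq ι] (A : Matrix ι ι R) (P : R[X]) :
    (aeval A P).map φ = aeval (A.map φ) (P.map φ) := by
  have h1 : (aeval A P).map φ = φ.mapMatrix (aeval A P) := rfl
  rw [h1, aeval_def, hom_eval₂, aeval_def, eval₂_map]
  congr 1
  ext r i j
  simp [Matrix.algebraMap_matrix_apply]
  split_ifs <;> simp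

/-- the claim, with explicit degree bound `m` -/
def Claim {R : Type*} [CommRing R] {ι : Type*} [Fintype ι] [DecidableEq ι]
    (A : Matrix ι ι R) (P : R[X]) (m : ℕ) : Prop :=
  (aeval A P).det = (-1) ^ (Fintype.card ι * m) * resultant P A.charpoly m (Fintype.card ι)

lemma claim_map {R S : Type*} [CommRing R] [CommRing S] (φ : R →+* S)
    {ι : Type*} [Fintype ι] [DecidableEq ι] (A : Matrix ι ι R) (P : R[X]) (m : ℕ)
    (h : Claim A P m) : Claim (A.map φ) (P.map φ) m := by
  unfold Claim at h ⊢
  rw [← map_aeval_matrix, ← RingHom.mapMatrix_apply, ← RingHom.map_det, h, Matrix.charpoly_map,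
    resultant_map_map]
  simp

lemma claim_of_map_injective {R S : Type*} [CommRing R] [CommRing S] (φ : R →+* S)
    (hφ : Function.Injective φ)
    {ι : Type*} [Fintype ι] [DecidableEq ι] (A : Matrix ι ι R) (P : R[X]) (m : ℕ)
    (h : Claim (A.map φ) (P.map φ) m) : Claim A P m := by
  unfold Claim at h ⊢
  apply hφ
  rw [← map_aeval_matrix, ← RingHom.mapMatrix_apply, ← RingHom.map_det, Matrix.charpoly_map,
    resultant_map_map] at h
  rw [h]
  simp


lemma claim_general {R : Type u} [CommRing R] {ι : Type*} [Fintype ι] [DecidableEq ι]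
    (A : Matrix ι ι R) (P : R[X]) : Claim A P P.natDegree := by
  classical
  let R₀ := MvPolynomial R ℤ
  let φ : R₀ →+* R := MvPolynomial.eval₂Hom (Int.castRingHom R) id
  let A₀ : Matrix ι ι R₀ := A.map MvPolynomial.X
  set m := P.natDegree with hm
  let P₀ : R₀[X] := ∑ i ∈ Finset.range (m + 1), monomial i (MvPolynomial.X (P.coeff i) : R₀)
  have hA : A₀.map φ = A := by
    ext i j
    simp only [A₀, φ, Matrix.map_apply]
    rw [MvPolynomial.eval₂Hom_X']
    rfl
  have hcoeff : ∀ j, P₀.coeff j = if j ≤ m then (MvPolynomial.X (P.coeff j) : R₀) else 0 := by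
    intro j
    simp only [P₀, finsetSum_coeff, coeff_monomial]
    rw [Finset.sum_ite_eq' (Finset.range (m + 1)) j]
    simp
  have hP : P₀.map φ = P := by
    ext j
    rw [coeff_map, hcoeff]
    split_ifs with h
    · simp only [φ]
      rw [MvPolynomial.eval₂Hom_X']
      rfl
    · rw [map_zero]
      exact (coeff_eq_zero_of_natDegree_lt (not_le.mp h)).symm
  have hdeg : P₀.natDegree = m := by
    apply natDegree_eq_of_le_of_coeff_ne_zero
    · rw [natDegree_le_iff_coeff_eq_zero]
      intro N hN
      rw [hcoeff, if_neg (not_le.mpr hN)]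
    · rw [hcoeff, if_pos le_rfl]
      exact MvPolynomial.X_ne_zero _
  let K := AlgebraicClosure (FractionRing R₀)
  let ψ : R₀ →+* K := (algebraMap (FractionRing R₀) K).comp (algebraMap R₀ (FractionRing R₀))
  have hψ : Function.Injective ψ :=
    (algebraMap (FractionRing R₀) K).injective.comp (IsFractionRing.injective R₀ (FractionRing R₀))
  have hK : Claim (A₀.map ψ) (P₀.map ψ) m := by
    have := det_aeval_of_splits (A₀.map ψ) (P₀.map ψ) (IsAlgClosed.splits _)
    rwa [natDegree_map_eq_of_injective hψ, hdeg] at this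
  have h0 : Claim A₀ P₀ m := claim_of_map_injective ψ hψ _ _ _ hK
  have := claim_map φ A₀ P₀ m h0
  rwa [hA, hP] at this


/-- Let k be a commutative ring, M a finite free k-module, u an endomorphism of M with characteristic
polynomial χ, and P a polynomial over k. Then the norm, from the k-algebra k[T]/(χ) (free of rank
the rank of M) down to k, of the class of P(T) equals det(P(u)). (The published statement writes the
quotient by det(u - T), which generates the same ideal as χ(T) = det(T - u).) -/
theorem result (k : Type u) [CommRing k] (M : Type u) [AddCommGroup M] [Module k M]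
    [Module.Free k M] [Module.Finite k M] (u : M →ₗ[k] M) (P : Polynomial k) :
    Algebra.norm k (AdjoinRoot.mk u.charpoly P) = LinearMap.det (Polynomial.aeval u P) := by
  classical
  cases subsingleton_or_nontrivial k
  · exact Subsingleton.elim _ _
  have hχm : u.charpoly.Monic := u.charpoly_monic
  -- RHS
  let bM := Module.Free.chooseBasis k M
  let A := LinearMap.toMatrix bM bM u
  have hA : A.charpoly = u.charpoly := LinearMap.charpoly_toMatrix u bM
  have hR : LinearMap.det (aeval u P) = (aeval A P).det := by
    rw [← LinearMap.det_toMatrix bM]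
    congr 1
    have := aeval_algHom_apply (LinearMap.toMatrixAlgEquiv bM).toAlgHom u P
    exact this.symm
  -- LHS
  let pb := AdjoinRoot.powerBasis' hχm
  let L := Algebra.leftMulMatrix pb.basis (AdjoinRoot.root u.charpoly)
  have hL : L.charpoly = u.charpoly := by
    have h1 : L.charpoly = minpoly k pb.gen := by
      have := charpoly_leftMulMatrix pb
      rwa [AdjoinRoot.powerBasis'_gen] at this ⊢
    rw [h1, AdjoinRoot.powerBasis'_gen]
    symm
    apply minpoly.unique' k _ hχm
    · rw [AdjoinRoot.aeval_eq, AdjoinRoot.mk_self]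
    · intro q hq
      by_cases h0 : aeval (AdjoinRoot.root u.charpoly) q = 0
      · left
        rw [AdjoinRoot.aeval_eq, AdjoinRoot.mk_eq_zero] at h0
        by_contra hq0
        exact hχm.not_dvd_of_degree_lt hq0 hq h0
      · exact Or.inr h0
  have hLHS : Algebra.norm k (AdjoinRoot.mk u.charpoly P) = (aeval L P).det := by
    rw [Algebra.norm_eq_matrix_det pb.basis, ← AdjoinRoot.aeval_eq, ← aeval_algHom_apply]
  rw [hLHS, hR]
  have c1 := claim_general L P
  have c2 := claim_general A P
  unfold Claim at c1 c2
  rw [c1, c2, hL, hA]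
  have e1 : Fintype.card (Fin pb.dim) = u.charpoly.natDegree := by
    rw [Fintype.card_fin, AdjoinRoot.powerBasis'_dim]
  have e2 : Fintype.card (Module.Free.ChooseBasisIndex k M) = u.charpoly.natDegree := by
    rw [← Module.finrank_eq_card_chooseBasisIndex, LinearMap.charpoly_natDegree]
  rw [e1, e2]

end Groth.Agent.S8591
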