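import Groth.Statements.S8596
import Groth.Agent.Lib.Helper20.PrimeDevissage
import Groth.Agent.Lib.Helper75.TorFilteredColim
import Groth.Agent.Lib.Helper73.TorFirstVar
import Groth.Agent.S3527

set_option autoImplicit false
universe u
open CategoryTheory CategoryTheory.Limits
open CAlg

namespace Groth.Agent.S8596

open Groth.Agent.Lib.Helper20.PrimeDevissage

variable {A : Type u} [CommRing A]

/-- a functor preserving filtered colimits vanishes on `X` if it vanishes on the finitely
generated submodules of `X` -/
lemma isZero_of_fg (T : ModuleCat.{u} A ⥤ ModuleCat.{u} A) (X : ModuleCat.{u} A)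
    [PreservesColimitsOfShape (FGSub X) T]
    (h : ∀ N : Submodule A X, N.FG → IsZero (T.obj (ModuleCat.of A N))) : IsZero (T.obj X) := by
  have hc : IsColimit (T.mapCocone (fgCocone X)) := isColimitOfPreserves T (isColimitFgCocone X)
  rw [IsZero.iff_id_eq_zero]
  apply hc.hom_ext
  intro j
  exact (h j.1 j.2).eq_of_src _ _

/-- Case of a complex reduced to a single module in degree 0: let A be a commutative Noetherian ring, M
an A-module (not necessarily finitely generated) and n ≥ 0. Then M has tor-dimension at most n —
Tor_i^A(N, M) = 0 for every A-module N and every i > n, the Tor being the left derived functors of N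
⊗ - evaluated at M — if and only if Tor_i^A(k(x), M) = 0 for every prime ideal x of A, with residue
field k(x), and every i > n. (The published statement gives the equivalence for bounded-above
complexes K and the derived tensor product K ⊗^L k(x); this is the case K = M[0].) -/
theorem result (A : Type u) [CommRing A] [IsNoetherianRing A]
    (M : ModuleCat.{u} A) (n : ℕ) :
    (∀ (N : ModuleCat.{u} A) (i : ℕ), n < i → IsZero (((Tor (ModuleCat.{u} A) i).obj N).obj M)) ↔
    (∀ (x : Ideal A) [x.IsPrime] (i : ℕ), n < i →
      IsZero (((Tor (ModuleCat.{u} A) i).obj (ModuleCat.of A x.ResidueField)).obj M)) := by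
  constructor
  · intro h x _ i hi
    exact h _ i hi
  · intro h N
    refine devissage (fun X => ∀ i : ℕ, n < i → IsZero (((Tor (ModuleCat.{u} A) i).obj X).obj M))
      ?_ ?_ ?_ ?_ (fun p _ => h p) N
    · intro X Y e hX i hi
      exact (hX i hi).of_iso (((Tor (ModuleCat.{u} A) i).mapIso e.symm).app M)
    · intro S hS
      constructor
      · intro h1 h3 i hi
        obtain ⟨⟨w₀, hex⟩, -⟩ := Groth.Agent.Lib.Helper73.tor_les_first hS M i
        exact hex.isZero_of_both_zeros ((h1 i hi).eq_of_src _ _) ((h3 i hi).eq_of_tgt _ _)
      · intro h2 h3 i hi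
        obtain ⟨-, δ, w₁, w₂, -, hex⟩ := Groth.Agent.Lib.Helper73.tor_les_first hS M i
        exact hex.isZero_of_both_zeros ((h3 (i + 1) (by omega)).eq_of_src _ _)
          ((h2 i hi).eq_of_tgt _ _)
    · intro X hX i hi
      have : Module.Flat A X := inferInstance
      have h1 := (Groth.Agent.S3527.result A X M i (by omega)).1
      exact ModuleCat.isZero_of_subsingleton _
    · intro X hX i hi
      have := Groth.Agent.Lib.Helper75.tor_flip_preservesColimitsOfShape i M (FGSub X)
      exact isZero_of_fg ((Tor (ModuleCat.{u} A) i).flip.obj M) X (fun N hN => hX N hN i hi)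


end Groth.Agent.S8596
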