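import Groth.Statements.S8597
import Groth.Agent.Lib.Helper20.PrimeDevissage
import Groth.Agent.Lib.Helper20.QuasiIso23
import Groth.Agent.Lib.Helper75.TorFilteredColim
import Groth.Agent.Lib.Helper73.TorFirstVar
import Groth.Agent.S3527

set_option autoImplicit false
universe u
open CategoryTheory CategoryTheory.Limits
open CAlg

namespace Groth.Agent.S8597

open Groth.Agent.Lib.Helper20.PrimeDevissage Groth.Agent.Lib.Helper73.TorFirstVar MonoidalCategory

variable {A : Type u} [CommRing A]

/-- a natural transformation between functors preserving filtered colimits is an isomorphism at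
`X` if it is one at the finitely generated submodules of `X` -/
lemma isIso_app_of_fg {T T' : ModuleCat.{u} A ⥤ ModuleCat.{u} A} (τ : T ⟶ T') (X : ModuleCat.{u} A)
    [PreservesColimitsOfShape (FGSub X) T] [PreservesColimitsOfShape (FGSub X) T']
    (h : ∀ N : Submodule A X, N.FG → IsIso (τ.app (ModuleCat.of A N))) : IsIso (τ.app X) := by
  have hc : IsColimit (T.mapCocone (fgCocone X)) := isColimitOfPreserves T (isColimitFgCocone X)
  have hc' : IsColimit (T'.mapCocone (fgCocone X)) := isColimitOfPreserves T' (isColimitFgCocone X)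
  have hj : ∀ j : FGSub X, IsIso ((Functor.whiskerLeft (fgDiagram X) τ).app j) := fun j => h j.1 j.2
  have : IsIso (Functor.whiskerLeft (fgDiagram X) τ) := NatIso.isIso_of_isIso_app _
  let w : fgDiagram X ⋙ T ≅ fgDiagram X ⋙ T' := asIso (Functor.whiskerLeft (fgDiagram X) τ)
  have e : τ.app X = (IsColimit.coconePointsIsoOfNatIso hc hc' w).hom := by
    apply hc.hom_ext
    intro j
    have h1 := IsColimit.comp_coconePointsIsoOfNatIso_hom hc hc' w j
    exact (τ.naturality ((fgCocone X).ι.app j)).trans h1.symm
  rw [e]
  infer_instance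

lemma isIso_iff_of_comm {C : Type*} [Category C] {W X Y Z : C} (a : W ⟶ X) (b : Y ⟶ Z)
    (e : W ≅ Y) (e' : X ≅ Z) (h : a ≫ e'.hom = e.hom ≫ b) : IsIso a ↔ IsIso b := by
  constructor
  · intro _
    have h1 : b = e.inv ≫ a ≫ e'.hom := by rw [h, Iso.inv_hom_id_assoc]
    rw [h1]
    infer_instance
  · intro _
    have h1 : a = e.hom ≫ b ≫ e'.inv := by
      rw [← Category.assoc, ← h, Category.assoc, Iso.hom_inv_id, Category.comp_id]
    rw [h1]
    infer_instance

section translate

variable {M N : ModuleCat.{u} A} (u : M ⟶ N) (P : ProjectiveResolution M)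
  (P' : ProjectiveResolution N)

/-- `Tor_k(X, u)` is an isomorphism iff `X ⊗ ũ` is an isomorphism on `H_k` -/
lemma isIso_tor_map_iff (X : ModuleCat.{u} A) (k : ℕ) :
    IsIso (((TL X).leftDerived k).map u) ↔
      IsIso (HomologicalComplex.homologyMap
        (((TL X).mapHomologicalComplex (ComplexShape.down ℕ)).map
          (ProjectiveResolution.lift u P P')) k) :=
  isIso_iff_of_comm _ _ (P.isoLeftDerivedObj (TL X) k) (P'.isoLeftDerivedObj (TL X) k)
    (ProjectiveResolution.isoLeftDerivedObj_hom_naturality u P P'
      (ProjectiveResolution.lift u P P') (ProjectiveResolution.lift_commutes_zero u P P') (TL X) k)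

variable {S : ShortComplex (ModuleCat.{u} A)}

/-- the morphism of short complexes of complexes induced by `ũ` -/
noncomputable def tensMap : tensSC (S := S) P ⟶ tensSC (S := S) P' where
  τ₁ := ((TL S.X₁).mapHomologicalComplex (ComplexShape.down ℕ)).map (ProjectiveResolution.lift u P P')
  τ₂ := ((TL S.X₂).mapHomologicalComplex (ComplexShape.down ℕ)).map (ProjectiveResolution.lift u P P')
  τ₃ := ((TL S.X₃).mapHomologicalComplex (ComplexShape.down ℕ)).map (ProjectiveResolution.lift u P P')
  comm₁₂ := (NatTrans.mapHomologicalComplex (TLmap S.f) (ComplexShape.down ℕ)).naturality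
    (ProjectiveResolution.lift u P P')
  comm₂₃ := (NatTrans.mapHomologicalComplex (TLmap S.g) (ComplexShape.down ℕ)).naturality
    (ProjectiveResolution.lift u P P')

end translate

instance (X : ModuleCat.{u} A) : PreservesFiniteColimits (TL X) := by
  change PreservesFiniteColimits (tensorLeft X)
  infer_instance

lemma isZero_tor_zero_of_subsingleton (X : ModuleCat.{u} A) [Subsingleton X] (M : ModuleCat.{u} A) :
    IsZero (((TL X).leftDerived 0).obj M) := by
  have hX : IsZero X := ModuleCat.isZero_of_subsingleton X
  have h1 : IsZero ((TL X).obj M) := by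
    rw [IsZero.iff_id_eq_zero]
    change 𝟙 (X ⊗ M) = 0
    rw [← id_whiskerRight, hX.eq_of_src (𝟙 X) 0, MonoidalPreadditive.zero_whiskerRight]
  exact h1.of_iso ((TL X).leftDerivedZeroIsoSelf.app M)

/-- Case of modules placed in degree 0: let A be a commutative Noetherian ring and u : M -> N a
homomorphism of A-modules such that for every prime ideal x of A, with residue field k(x), and every
i ≥ 0, the induced map Tor_i^A(k(x), M) -> Tor_i^A(k(x), N) (left derived functors of k(x) ⊗ -) is
an isomorphism. Then u is an isomorphism. (The published statement is for a morphism of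
bounded-above complexes and the derived tensor products with k(x); this is the case of two modules.) -/
theorem result (A : Type u) [CommRing A] [IsNoetherianRing A]
    {M N : ModuleCat.{u} A} (u : M ⟶ N)
    (h : ∀ (x : Ideal A) [x.IsPrime] (i : ℕ),
      IsIso (((Tor (ModuleCat.{u} A) i).obj (ModuleCat.of A x.ResidueField)).map u)) :
    IsIso u := by
  have key : ∀ X : ModuleCat.{u} A, ∀ i : ℕ, IsIso (((Tor (ModuleCat.{u} A) i).obj X).map u) := by
    intro X
    refine devissage (fun X => ∀ i : ℕ, IsIso (((Tor (ModuleCat.{u} A) i).obj X).map u))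
      ?_ ?_ ?_ ?_ (fun p _ => h p) X
    · intro X Y e hX i
      have := hX i
      have hn := ((Tor (ModuleCat.{u} A) i).map e.hom).naturality u
      have h1 : ((Tor (ModuleCat.{u} A) i).obj Y).map u =
          (((Tor (ModuleCat.{u} A) i).mapIso e).app M).inv ≫
            ((Tor (ModuleCat.{u} A) i).obj X).map u ≫
            (((Tor (ModuleCat.{u} A) i).mapIso e).app N).hom := by
        rw [← cancel_epi (((Tor (ModuleCat.{u} A) i).mapIso e).app M).hom, Iso.hom_inv_id_assoc]
        exact hn.symm
      rw [h1]
      infer_instance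
    · intro S hS
      let P := projectiveResolution M
      let P' := projectiveResolution N
      have hS₁ := tensSC_shortExact hS P
      have hS₂ := tensSC_shortExact hS P'
      constructor
      · intro h1 h3 i
        refine (isIso_tor_map_iff u P P' S.X₂ i).mpr ?_
        exact Groth.Agent.Lib.Helper20.QuasiIso23.isIso_homologyMap_τ₂ (tensMap u P P') hS₁ hS₂
          (fun k => (isIso_tor_map_iff u P P' S.X₁ k).mp (h1 k))
          (fun k => (isIso_tor_map_iff u P P' S.X₃ k).mp (h3 k)) i
      · intro h2 h3 i
        refine (isIso_tor_map_iff u P P' S.X₁ i).mpr ?_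
        exact Groth.Agent.Lib.Helper20.QuasiIso23.isIso_homologyMap_τ₁ (tensMap u P P') hS₁ hS₂
          (fun k => (isIso_tor_map_iff u P P' S.X₂ k).mp (h2 k))
          (fun k => (isIso_tor_map_iff u P P' S.X₃ k).mp (h3 k)) i
    · intro X hX i
      have : Module.Flat A X := inferInstance
      by_cases hi : i = 0
      · subst hi
        exact ⟨⟨0, (isZero_tor_zero_of_subsingleton X M).eq_of_src _ _,
          (isZero_tor_zero_of_subsingleton X N).eq_of_src _ _⟩⟩
      · have h1 := (Groth.Agent.S3527.result A X M i (by omega)).1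
        have h2 := (Groth.Agent.S3527.result A X N i (by omega)).1
        have z1 : IsZero (((Tor (ModuleCat.{u} A) i).obj X).obj M) :=
          ModuleCat.isZero_of_subsingleton _
        have z2 : IsZero (((Tor (ModuleCat.{u} A) i).obj X).obj N) :=
          ModuleCat.isZero_of_subsingleton _
        exact ⟨⟨0, z1.eq_of_src _ _, z2.eq_of_src _ _⟩⟩
    · intro X hX i
      have := Groth.Agent.Lib.Helper75.tor_flip_preservesColimitsOfShape i M (FGSub X)
      have := Groth.Agent.Lib.Helper75.tor_flip_preservesColimitsOfShape i N (FGSub X)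
      exact isIso_app_of_fg ((Tor (ModuleCat.{u} A) i).flip.map u) X (fun N hN => hX N hN i)
  have h0 := key (𝟙_ (ModuleCat.{u} A)) 0
  let e : (TL (𝟙_ (ModuleCat.{u} A))).leftDerived 0 ≅ 𝟭 (ModuleCat.{u} A) :=
    (TL (𝟙_ (ModuleCat.{u} A))).leftDerivedZeroIsoSelf ≪≫ leftUnitorNatIso (ModuleCat.{u} A)
  exact (isIso_iff_of_comm (((TL (𝟙_ (ModuleCat.{u} A))).leftDerived 0).map u) u (e.app M) (e.app N)
    (e.hom.naturality u)).mp h0


end Groth.Agent.S8597
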