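import Groth.Statements.S8598
import Mathlib

set_option autoImplicit false
universe u
open CategoryTheory CategoryTheory.Limits AlgebraicGeometry Opposite
open EtDl

namespace Groth.Agent.S8598

/-- restriction along a surjective etale morphism is faithful -/
theorem faithful_restrAlong {X Y : Scheme.{u}} (u : X ⟶ Y) [Etale u] [Surjective u] [EtShriek.JCont u] :
    (EtShriek.restrAlong u).Faithful := by
  constructor
  intro F G a b h
  have hV : ∀ V : X.Etale, a.hom.app (op ((EtShriek.compEtale u).obj V)) =
      b.hom.app (op ((EtShriek.compEtale u).obj V)) := by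
    intro V
    exact congrArg (fun φ => φ.hom.app (op V)) h
  apply Sheaf.hom_ext
  apply NatTrans.ext
  funext W
  obtain ⟨W⟩ := W
  apply AddCommGrpCat.hom_ext
  apply AddMonoidHom.ext
  intro s
  -- the covering `W ×_Y X → W`
  let V₀ : X.Etale := (EtCoh.bc u).obj W
  let p : (EtShriek.compEtale u).obj V₀ ⟶ W :=
    MorphismProperty.Over.homMk (pullback.fst W.hom u) (by
      change pullback.fst W.hom u ≫ W.hom = pullback.snd W.hom u ≫ u
      exact pullback.condition) trivial
  have hcov : Sieve.ofArrows (fun _ : Unit => (EtShriek.compEtale u).obj V₀) (fun _ => p) ∈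
      Y.smallEtaleTopology W := by
    rw [Scheme.ofArrows_mem_smallEtaleTopology_iff]
    apply Set.eq_univ_of_forall
    intro w
    have : Function.Surjective (pullback.fst W.hom u) :=
      (inferInstance : Surjective (pullback.fst W.hom u)).surj
    obtain ⟨z, hz⟩ := this w
    exact Set.mem_iUnion.2 ⟨(), z, hz⟩
  refine (Sheaf.isSeparated G) W _ hcov _ _ ?_
  rintro Z f ⟨Z', k, q, ⟨⟨⟩⟩, rfl⟩
  have h1 : ∀ (c : F ⟶ G), G.obj.map (k ≫ p).op (c.hom.app (op W) s) =
      G.obj.map k.op (c.hom.app (op ((EtShriek.compEtale u).obj V₀)) (F.obj.map p.op s)) := by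
    intro c
    have n1 := ConcreteCategory.congr_hom (c.hom.naturality p.op) s
    rw [ConcreteCategory.comp_apply, ConcreteCategory.comp_apply] at n1
    rw [n1, op_comp, G.obj.map_comp, ConcreteCategory.comp_apply]
  change G.obj.map (k ≫ p).op (a.hom.app (op W) s) = G.obj.map (k ≫ p).op (b.hom.app (op W) s)
  rw [h1 a, h1 b, hV V₀]


/-- Let u : X -> Y be an etale, separated morphism of finite type that is surjective, and F an abelian
sheaf on Y_et. The sheaves F_n = (u_n)_! u_n^* F built from the iterated fibre powers of X over Y
form a left resolution of F; in particular (the part stated here) the augmentation u_! u^* F -> F,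
which is the counit of the adjunction between extension by zero u_! and restriction u^*, is an
epimorphism. (The continuity of V ↦ (V -> X -> Y) between the small etale sites is carried as an
instance hypothesis, the prelude's convention for extension by zero along an etale morphism.) -/
theorem result {X Y : Scheme.{u}} (u : X ⟶ Y) [Etale u] [IsSeparated u]
    [LocallyOfFiniteType u] [QuasiCompact u] [Surjective u] [EtShriek.JCont u] (F : EtCoh.Ab Y) :
    Epi ((EtShriek.extZeroAdj u).counit.app F) := by
  have := faithful_restrAlong u
  infer_instance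

end Groth.Agent.S8598
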