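import Groth.Statements.S8607
import Mathlib

set_option autoImplicit false
universe u
open CategoryTheory CategoryTheory.Limits AlgebraicGeometry Opposite
open DEt

namespace Groth.Agent.S8607

/-- cancellation: if `g ≫ t` is an open immersion and `t` is a monomorphism, `g` is an open immersion -/
lemma isOpenImmersion_of_comp_mono {A B D : Scheme.{u}} (g : A ⟶ B) (t : B ⟶ D) [Mono t]
    [IsOpenImmersion (g ≫ t)] : IsOpenImmersion g := by
  have h : (MorphismProperty.monomorphisms Scheme.{u}) ≤ (@IsOpenImmersion).diagonal := by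
    intro X Y f hf
    have : Mono f := hf
    change IsOpenImmersion (pullback.diagonal f)
    infer_instance
  have := (MorphismProperty.hasOfPostcompProperty_iff_le_diagonal
    (P := @IsOpenImmersion) (Q := MorphismProperty.monomorphisms Scheme.{u})).2 h
  exact MorphismProperty.of_postcomp (W := @IsOpenImmersion)
    (W' := MorphismProperty.monomorphisms Scheme.{u}) g t ‹Mono t› ‹_›


/-- The equalizing half of 'the category of compactifications of f is cofiltering': let f : X -> Y be a
morphism of quasi-compact quasi-separated schemes, (Xbar_1, j_1, fbar_1) and (Xbar_2, j_2, fbar_2)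
two compactifications of f, and r, s : Xbar_1 -> Xbar_2 two morphisms of compactifications (r ∘ j_1
= j_2 = s ∘ j_1 and fbar_2 ∘ r = fbar_1 = fbar_2 ∘ s). Then there are a compactification (Xbar, j,
fbar) of f and a proper morphism t : Xbar -> Xbar_1 of compactifications (t ∘ j = j_1, fbar_1 ∘ t =
fbar) with r ∘ t = s ∘ t. -/
theorem result {X Y : Scheme.{u}} [CompactSpace ↥X] [QuasiSeparatedSpace ↥X]
    [CompactSpace ↥Y] [QuasiSeparatedSpace ↥Y] {f : X ⟶ Y} (c₁ c₂ : DEt.Compactification f)
    (r s : c₁.Xbar ⟶ c₂.Xbar) (hr : c₁.j ≫ r = c₂.j) (hs : c₁.j ≫ s = c₂.j)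
    (hr' : r ≫ c₂.fbar = c₁.fbar) (hs' : s ≫ c₂.fbar = c₁.fbar) :
    ∃ (c : DEt.Compactification f) (t : c.Xbar ⟶ c₁.Xbar), IsProper t ∧ c.j ≫ t = c₁.j ∧ t ≫ c₁.fbar = c.fbar ∧
      t ≫ r = t ≫ s := by
  let X₁ : Over Y := Over.mk c₁.fbar
  let X₂ : Over Y := Over.mk c₂.fbar
  let r' : X₁ ⟶ X₂ := Over.homMk r hr'
  let s' : X₁ ⟶ X₂ := Over.homMk s hs'
  have : IsSeparated X₂.hom := by change IsSeparated c₂.fbar; infer_instance
  have hcl : IsClosedImmersion (equalizer.ι r' s').left := inferInstance
  let j₁' : Over.mk f ⟶ X₁ := Over.homMk c₁.j c₁.fac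
  have hj : j₁' ≫ r' = j₁' ≫ s' := by
    ext
    change c₁.j ≫ r = c₁.j ≫ s
    rw [hr, hs]
  let jE : Over.mk f ⟶ equalizer r' s' := equalizer.lift j₁' hj
  have hjE : jE.left ≫ (equalizer.ι r' s').left = c₁.j := by
    rw [← Over.comp_left, equalizer.lift_ι]
    rfl
  have : IsOpenImmersion (jE.left ≫ (equalizer.ι r' s').left) := by rw [hjE]; infer_instance
  have hopen : IsOpenImmersion jE.left := isOpenImmersion_of_comp_mono jE.left (equalizer.ι r' s').left
  have hw : (equalizer.ι r' s').left ≫ c₁.fbar = (equalizer r' s').hom := Over.w (equalizer.ι r' s')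
  refine ⟨{ Xbar := (equalizer r' s').left
            j := jE.left
            fbar := (equalizer r' s').hom
            isOpenImmersion := hopen
            isProper := by rw [← hw]; infer_instance
            fac := Over.w jE }, (equalizer.ι r' s').left, inferInstance, hjE, hw, ?_⟩
  have := congrArg (fun a => a.left) (equalizer.condition r' s')
  exact this

end Groth.Agent.S8607
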