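import Groth.Statements.S8611
import Groth.Agent.S6773
import Mathlib.Algebra.Homology.ShortComplex.Ab
import Mathlib.Algebra.Category.Grp.EpiMono

set_option autoImplicit false
universe w v u
open CategoryTheory CategoryTheory.Limits
open SGA4h

namespace Groth.Agent.S8611

open Groth.Agent.S6773

variable {C : Type u} [Category.{v} C] [Abelian C]
  {T T' : DeltaF.CohDeltaFunctor C AddCommGrpCat.{w} ℕ}

lemma nat_apply (φ : T ⟶ T') (n : ℕ) {X Y : C} (f : X ⟶ Y) (x : (T.F n).obj X) :
    (φ.app n).app Y ((T.F n).map f x) = (T'.F n).map f ((φ.app n).app X x) := by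
  have := ConcreteCategory.congr_hom ((φ.app n).naturality f) x
  rwa [ConcreteCategory.comp_apply, ConcreteCategory.comp_apply] at this

lemma comm_apply (φ : T ⟶ T') (S : ShortComplex C) (hS : S.ShortExact) (n₀ n₁ : ℕ)
    (h : n₀ + 1 = n₁) (z : (T.F n₀).obj S.X₃) :
    (φ.app n₁).app S.X₁ (T.δ S hS n₀ n₁ h z) = T'.δ S hS n₀ n₁ h ((φ.app n₀).app S.X₃ z) := by
  have := ConcreteCategory.congr_hom (φ.comm S hS n₀ n₁ h) z
  rwa [ConcreteCategory.comp_apply, ConcreteCategory.comp_apply] at this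

lemma comp_δ_apply (T : DeltaF.CohDeltaFunctor C AddCommGrpCat.{w} ℕ) (S : ShortComplex C)
    (hS : S.ShortExact) (n₀ n₁ : ℕ) (h : n₀ + 1 = n₁) (y : (T.F n₀).obj S.X₂) :
    T.δ S hS n₀ n₁ h ((T.F n₀).map S.g y) = 0 := by
  have := ConcreteCategory.congr_hom (T.comp_δ S hS n₀ n₁ h) y
  rwa [ConcreteCategory.comp_apply] at this

/-- injectivity in the next degree -/
lemma inj_succ (φ : T ⟶ T') {n₀ n₁ : ℕ} (h : n₀ + 1 = n₁)
    (hEff : ∀ (A : C) (α : (T.F n₁).obj A), ∃ (M : C) (u : A ⟶ M), Mono u ∧ (T.F n₁).map u α = 0)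
    (hsurj : ∀ X : C, Function.Surjective ((φ.app n₀).app X))
    (hinj : ∀ X : C, Function.Injective ((φ.app n₀).app X)) (A : C) :
    Function.Injective ((φ.app n₁).app A) := by
  rw [injective_iff_map_eq_zero]
  intro x hx
  obtain ⟨M, u, hu, hux⟩ := hEff A x
  have hS : (ses u).ShortExact := ses_shortExact u
  obtain ⟨z, rfl⟩ := (ShortComplex.ab_exact_iff _).1 (T.exact₁ (ses u) hS n₀ n₁ h) x hux
  have h1 : T'.δ (ses u) hS n₀ n₁ h ((φ.app n₀).app (ses u).X₃ z) = 0 := by
    rw [← comm_apply]; exact hx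
  obtain ⟨y', hy'⟩ := (ShortComplex.ab_exact_iff _).1 (T'.exact₃ (ses u) hS n₀ n₁ h) _ h1
  obtain ⟨y, rfl⟩ := hsurj _ y'
  have h2 : (T.F n₀).map (ses u).g y = z := by
    apply hinj
    rw [nat_apply]
    exact hy'
  rw [← h2, comp_δ_apply]

/-- surjectivity in the next degree -/
lemma surj_succ (φ : T ⟶ T') {n₀ n₁ : ℕ} (h : n₀ + 1 = n₁)
    (hEff' : ∀ (A : C) (α : (T'.F n₁).obj A),
      ∃ (M : C) (u : A ⟶ M), Mono u ∧ (T'.F n₁).map u α = 0)
    (hsurj : ∀ X : C, Function.Surjective ((φ.app n₀).app X)) (A : C) :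
    Function.Surjective ((φ.app n₁).app A) := by
  intro x'
  obtain ⟨M, u, hu, hux⟩ := hEff' A x'
  have hS : (ses u).ShortExact := ses_shortExact u
  obtain ⟨z', rfl⟩ := (ShortComplex.ab_exact_iff _).1 (T'.exact₁ (ses u) hS n₀ n₁ h) x' hux
  obtain ⟨z, rfl⟩ := hsurj _ z'
  exact ⟨T.δ (ses u) hS n₀ n₁ h z, comm_apply φ (ses u) hS n₀ n₁ h z⟩

lemma map_comp_zero_apply (T : DeltaF.CohDeltaFunctor C AddCommGrpCat.{w} ℕ) (n : ℕ)
    (S : ShortComplex C) (x : (T.F n).obj S.X₁) :
    (T.F n).map S.g ((T.F n).map S.f x) = 0 := by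
  rw [← ConcreteCategory.comp_apply, ← Functor.map_comp, S.zero, Functor.map_zero]
  rfl

/-- bijectivity in degree zero from bijectivity on the class `E` -/
lemma bij_zero (φ : T ⟶ T') (hT0 : T.ZeroMono) (hT'0 : T'.ZeroMono) (E : ObjectProperty C)
    (hE : ∀ A : C, ∃ (M : C) (i : A ⟶ M), Mono i ∧ E M)
    (h0E : ∀ M : C, E M → Function.Bijective ((φ.app 0).app M)) (A : C) :
    Function.Bijective ((φ.app 0).app A) := by
  have hinj : ∀ A : C, Function.Injective ((φ.app 0).app A) := by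
    intro A
    obtain ⟨M, u, hu, hM⟩ := hE A
    have hS : (ses u).ShortExact := ses_shortExact u
    have hmono : Function.Injective ((T.F 0).map u) :=
      (AddCommGrpCat.mono_iff_injective _).1 (hT0 (ses u) hS)
    intro x y hxy
    apply hmono
    apply (h0E M hM).1
    rw [nat_apply, nat_apply, hxy]
  refine ⟨hinj A, ?_⟩
  intro x'
  obtain ⟨M, u, hu, hM⟩ := hE A
  have hS : (ses u).ShortExact := ses_shortExact u
  have hmono' : Function.Injective ((T'.F 0).map u) :=
    (AddCommGrpCat.mono_iff_injective _).1 (hT'0 (ses u) hS)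
  obtain ⟨m, hm⟩ := (h0E M hM).2 ((T'.F 0).map u x')
  have h1 : (T.F 0).map (ses u).g m = 0 := by
    apply hinj
    rw [nat_apply, hm, map_zero]
    exact map_comp_zero_apply T' 0 (ses u) x'
  obtain ⟨a, ha⟩ := (ShortComplex.ab_exact_iff _).1 (T.exact₂ (ses u) hS 0) m h1
  refine ⟨a, ?_⟩
  apply hmono'
  rw [← nat_apply, ← hm]
  exact congrArg _ ha

/-- surjectivity in the next degree from surjectivity on the class `E` -/
lemma surj_succ_E (φ : T ⟶ T') {n₀ n₁ : ℕ} (h : n₀ + 1 = n₁) (E : ObjectProperty C)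
    (hE : ∀ A : C, ∃ (M : C) (i : A ⟶ M), Mono i ∧ E M)
    (hinj₁ : ∀ X : C, Function.Injective ((φ.app n₁).app X))
    (hsurjE : ∀ M : C, E M → Function.Surjective ((φ.app n₁).app M))
    (hsurj₀ : ∀ X : C, Function.Surjective ((φ.app n₀).app X)) (A : C) :
    Function.Surjective ((φ.app n₁).app A) := by
  intro x'
  obtain ⟨M, u, hu, hM⟩ := hE A
  have hS : (ses u).ShortExact := ses_shortExact u
  obtain ⟨m, hm⟩ := hsurjE M hM ((T'.F n₁).map u x')
  have h1 : (T.F n₁).map (ses u).g m = 0 := by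
    apply hinj₁
    rw [nat_apply, hm, map_zero]
    exact map_comp_zero_apply T' n₁ (ses u) x'
  obtain ⟨a, ha⟩ := (ShortComplex.ab_exact_iff _).1 (T.exact₂ (ses u) hS n₁) m h1
  have h2 : (T'.F n₁).map (ses u).f ((φ.app n₁).app A a - x') = 0 := by
    rw [map_sub, sub_eq_zero, ← nat_apply, ← hm]
    exact congrArg _ ha
  obtain ⟨z', hz'⟩ := (ShortComplex.ab_exact_iff _).1 (T'.exact₁ (ses u) hS n₀ n₁ h) _ h2
  obtain ⟨z, rfl⟩ := hsurj₀ _ z'
  refine ⟨a - T.δ (ses u) hS n₀ n₁ h z, ?_⟩
  rw [map_sub, comm_apply φ (ses u) hS n₀ n₁ h z]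
  have : T'.δ (ses u) hS n₀ n₁ h ((φ.app n₀).app (ses u).X₃ z) = (φ.app n₁).app A a - x' := hz'
  rw [this]
  abel

/-- Let C be an abelian category, T and T' cohomological delta-functors on C in degrees ≥ 0 with values
in abelian groups, both left exact in degree 0, with T effaceable in every degree q > 0 (every
element of T^q(A) is killed by T^q(u) for some monomorphism u : A → M, depending on the element),
and φ : T → T' a morphism of delta-functors. Let E be a class of objects such that every object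
admits a monomorphism into a member of E. Then the following are equivalent: (i) φ^q(A) is bijective
for all q and all A; (ii) φ^0(M) is bijective and φ^q(M) is surjective for q > 0, for all M in E;
(iii) φ^0(A) is bijective for all A and T' is effaceable in every degree > 0 (in the same
element-wise sense). Stated as (i) ⇔ (ii) together with (i) ⇔ (iii). -/
theorem result {C : Type u} [Category.{v} C] [Abelian C]
    (T T' : DeltaF.CohDeltaFunctor C AddCommGrpCat.{w} ℕ) (hT0 : T.ZeroMono) (hT'0 : T'.ZeroMono)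
    (hT : ∀ (q : ℕ) (A : C) (α : (T.F (q + 1)).obj A),
      ∃ (M : C) (u : A ⟶ M), Mono u ∧ (T.F (q + 1)).map u α = 0)
    (φ : T ⟶ T') (E : ObjectProperty C)
    (hE : ∀ A : C, ∃ (M : C) (i : A ⟶ M), Mono i ∧ E M) :
    ((∀ (q : ℕ) (A : C), IsIso ((φ.app q).app A)) ↔
      ((∀ M : C, E M → IsIso ((φ.app 0).app M)) ∧
        ∀ (q : ℕ) (M : C), E M → Epi ((φ.app (q + 1)).app M))) ∧
    ((∀ (q : ℕ) (A : C), IsIso ((φ.app q).app A)) ↔
      ((∀ A : C, IsIso ((φ.app 0).app A)) ∧
        ∀ (q : ℕ) (A : C) (α : (T'.F (q + 1)).obj A),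
          ∃ (M : C) (u : A ⟶ M), Mono u ∧ (T'.F (q + 1)).map u α = 0)) := by
  have bij_iff : ∀ (q : ℕ) (A : C),
      IsIso ((φ.app q).app A) ↔ Function.Bijective ((φ.app q).app A) :=
    fun q A => ConcreteCategory.isIso_iff_bijective _
  constructor
  · constructor
    · intro hi
      refine ⟨fun M _ => hi 0 M, fun q M _ => ?_⟩
      have := hi (q + 1) M
      infer_instance
    · rintro ⟨h0, hq⟩
      have h0E : ∀ M : C, E M → Function.Bijective ((φ.app 0).app M) :=
        fun M hM => (bij_iff 0 M).1 (h0 M hM)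
      have hsurjE : ∀ (q : ℕ) (M : C), E M → Function.Surjective ((φ.app (q + 1)).app M) :=
        fun q M hM => (AddCommGrpCat.epi_iff_surjective _).1 (hq q M hM)
      have key : ∀ (q : ℕ) (A : C), Function.Bijective ((φ.app q).app A) := by
        intro q
        induction q with
        | zero => exact bij_zero φ hT0 hT'0 E hE h0E
        | succ q ih =>
          have hinj : ∀ X : C, Function.Injective ((φ.app (q + 1)).app X) :=
            inj_succ φ rfl (hT q) (fun X => (ih X).2) (fun X => (ih X).1)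
          intro A
          exact ⟨hinj A, surj_succ_E φ rfl E hE hinj (hsurjE q) (fun X => (ih X).2) A⟩
      exact fun q A => (bij_iff q A).2 (key q A)
  · constructor
    · intro hi
      refine ⟨fun A => hi 0 A, ?_⟩
      intro q A α'
      obtain ⟨α, rfl⟩ := ((bij_iff (q + 1) A).1 (hi (q + 1) A)).2 α'
      obtain ⟨M, u, hu, huα⟩ := hT q A α
      refine ⟨M, u, hu, ?_⟩
      rw [← nat_apply, huα, map_zero]
    · rintro ⟨h0, hEff'⟩
      have key : ∀ (q : ℕ) (A : C), Function.Bijective ((φ.app q).app A) := by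
        intro q
        induction q with
        | zero => exact fun A => (bij_iff 0 A).1 (h0 A)
        | succ q ih =>
          intro A
          exact ⟨inj_succ φ rfl (hT q) (fun X => (ih X).2) (fun X => (ih X).1) A,
            surj_succ φ rfl (hEff' q) (fun X => (ih X).2) A⟩
      exact fun q A => (bij_iff q A).2 (key q A)

end Groth.Agent.S8611
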