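import Groth.Statements.S8612
import Groth.Agent.S8611
import Groth.Agent.Lib.Helper43.AbFilteredColim

set_option autoImplicit false
universe w v u
open CategoryTheory CategoryTheory.Limits
open SGA4h

namespace Groth.Agent.S8612

open Groth.Agent.S6773 Groth.Agent.S8611 Groth.Agent.Lib.Helper43

variable {C : Type u} [Category.{v} C] [Abelian C]
  {T T' : DeltaF.CohDeltaFunctor C AddCommGrpCat.{w} ℕ}

/-- injectivity in degree zero from an embedding into an object where `φ⁰` is injective -/
lemma inj_zero_of_mono (φ : T ⟶ T') (hT0 : T.ZeroMono) {A M : C} (u : A ⟶ M) [Mono u]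
    (hM : Function.Injective ((φ.app 0).app M)) : Function.Injective ((φ.app 0).app A) := by
  have hS : (ses u).ShortExact := ses_shortExact u
  have hmono : Function.Injective ((T.F 0).map u) :=
    (AddCommGrpCat.mono_iff_injective _).1 (hT0 (ses u) hS)
  intro x y hxy
  apply hmono
  apply hM
  rw [nat_apply, nat_apply, hxy]

/-- surjectivity in degree zero -/
lemma surj_zero_of_mono (φ : T ⟶ T') (hT'0 : T'.ZeroMono) {A M : C} (u : A ⟶ M) [Mono u]
    (hM : Function.Surjective ((φ.app 0).app M))
    (hinj : Function.Injective ((φ.app 0).app (cokernel u))) :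
    Function.Surjective ((φ.app 0).app A) := by
  intro x'
  have hS : (ses u).ShortExact := ses_shortExact u
  have hmono' : Function.Injective ((T'.F 0).map u) :=
    (AddCommGrpCat.mono_iff_injective _).1 (hT'0 (ses u) hS)
  obtain ⟨m, hm⟩ := hM ((T'.F 0).map u x')
  have h1 : (T.F 0).map (ses u).g m = 0 := by
    apply hinj
    rw [nat_apply, hm, map_zero]
    exact map_comp_zero_apply T' 0 (ses u) x'
  obtain ⟨a, ha⟩ := (ShortComplex.ab_exact_iff _).1 (T.exact₂ (ses u) hS 0) m h1
  refine ⟨a, ?_⟩
  apply hmono'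
  rw [← nat_apply, ← hm]
  exact congrArg _ ha

/-- injectivity in the next degree, from a single embedding -/
lemma inj_succ_of_mono (φ : T ⟶ T') {n₀ n₁ : ℕ} (h : n₀ + 1 = n₁) {A M : C} (u : A ⟶ M) [Mono u]
    (hM : Function.Injective ((φ.app n₁).app M))
    (hsurj : Function.Surjective ((φ.app n₀).app M))
    (hinj : Function.Injective ((φ.app n₀).app (cokernel u))) :
    Function.Injective ((φ.app n₁).app A) := by
  rw [injective_iff_map_eq_zero]
  intro x hx
  have hS : (ses u).ShortExact := ses_shortExact u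
  have hux : (T.F n₁).map (ses u).f x = 0 := by
    apply hM
    rw [nat_apply, hx, map_zero, map_zero]
  obtain ⟨z, rfl⟩ := (ShortComplex.ab_exact_iff _).1 (T.exact₁ (ses u) hS n₀ n₁ h) x hux
  have h1 : T'.δ (ses u) hS n₀ n₁ h ((φ.app n₀).app (ses u).X₃ z) = 0 := by
    rw [← comm_apply]; exact hx
  obtain ⟨y', hy'⟩ := (ShortComplex.ab_exact_iff _).1 (T'.exact₃ (ses u) hS n₀ n₁ h) _ h1
  obtain ⟨y, rfl⟩ := hsurj y'
  have h2 : (T.F n₀).map (ses u).g y = z := by
    apply hinj
    rw [nat_apply]
    exact hy'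
  rw [← h2, comp_δ_apply]

/-- surjectivity in the next degree, from a single embedding -/
lemma surj_succ_of_mono (φ : T ⟶ T') {n₀ n₁ : ℕ} (h : n₀ + 1 = n₁) {A M : C} (u : A ⟶ M) [Mono u]
    (hM : Function.Surjective ((φ.app n₁).app M))
    (hinj₁ : Function.Injective ((φ.app n₁).app (cokernel u)))
    (hsurj₀ : Function.Surjective ((φ.app n₀).app (cokernel u))) :
    Function.Surjective ((φ.app n₁).app A) := by
  intro x'
  have hS : (ses u).ShortExact := ses_shortExact u
  obtain ⟨m, hm⟩ := hM ((T'.F n₁).map u x')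
  have h1 : (T.F n₁).map (ses u).g m = 0 := by
    apply hinj₁
    rw [nat_apply, hm, map_zero]
    exact map_comp_zero_apply T' n₁ (ses u) x'
  obtain ⟨a, ha⟩ := (ShortComplex.ab_exact_iff _).1 (T.exact₂ (ses u) hS n₁) m h1
  have h2 : (T'.F n₁).map (ses u).f ((φ.app n₁).app A a - x') = 0 := by
    rw [map_sub, sub_eq_zero, ← nat_apply, ← hm]
    exact congrArg _ ha
  obtain ⟨z', hz'⟩ := (ShortComplex.ab_exact_iff _).1 (T'.exact₁ (ses u) hS n₀ n₁ h) _ h2
  obtain ⟨z, rfl⟩ := hsurj₀ z'
  refine ⟨a - T.δ (ses u) hS n₀ n₁ h z, ?_⟩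
  rw [map_sub, comm_apply φ (ses u) hS n₀ n₁ h z]
  have : T'.δ (ses u) hS n₀ n₁ h ((φ.app n₀).app (ses u).X₃ z) = (φ.app n₁).app A a - x' := hz'
  rw [this]
  abel

section Colim

variable {J : Type v} [SmallCategory J] [IsFiltered J] {K : J ⥤ C} {c : Cocone K}

lemma inj_colim (φ : T ⟶ T') (q : ℕ) [PreservesFilteredColimitsOfSize.{v, v} (T.F q)]
    [PreservesFilteredColimitsOfSize.{v, v} (T'.F q)] (hc : IsColimit c)
    (h : ∀ j, Function.Injective ((φ.app q).app (K.obj j))) :
    Function.Injective ((φ.app q).app c.pt) := by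
  have : PreservesColimitsOfShape J (T.F q) :=
    PreservesFilteredColimitsOfSize.preserves_filtered_colimits J
  have : PreservesColimitsOfShape J (T'.F q) :=
    PreservesFilteredColimitsOfSize.preserves_filtered_colimits J
  have hcT : IsColimit ((T.F q).mapCocone c) := isColimitOfPreserves (T.F q) hc
  have hcT' : IsColimit ((T'.F q).mapCocone c) := isColimitOfPreserves (T'.F q) hc
  rw [injective_iff_map_eq_zero]
  intro x hx
  obtain ⟨j, y, rfl⟩ := AbFilteredColim.jointly_surjective hcT x
  change (φ.app q).app c.pt ((T.F q).map (c.ι.app j) y) = 0 at hx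
  rw [nat_apply] at hx
  obtain ⟨k, f, hf⟩ := AbFilteredColim.eq_zero_stage hcT' (j := j) ((φ.app q).app (K.obj j) y) hx
  change (T'.F q).map (K.map f) ((φ.app q).app (K.obj j) y) = 0 at hf
  rw [← nat_apply] at hf
  have h0 : (T.F q).map (K.map f) y = 0 := h k (by rw [hf, map_zero])
  change (T.F q).map (c.ι.app j) y = 0
  rw [← c.w f, Functor.map_comp, ConcreteCategory.comp_apply, h0, map_zero]

lemma surj_colim (φ : T ⟶ T') (q : ℕ)
    [PreservesFilteredColimitsOfSize.{v, v} (T'.F q)] (hc : IsColimit c)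
    (h : ∀ j, Function.Surjective ((φ.app q).app (K.obj j))) :
    Function.Surjective ((φ.app q).app c.pt) := by
  have : PreservesColimitsOfShape J (T'.F q) :=
    PreservesFilteredColimitsOfSize.preserves_filtered_colimits J
  have hcT' : IsColimit ((T'.F q).mapCocone c) := isColimitOfPreserves (T'.F q) hc
  intro x'
  obtain ⟨j, y', rfl⟩ := AbFilteredColim.jointly_surjective hcT' x'
  obtain ⟨y, rfl⟩ := h j y'
  refine ⟨(T.F q).map (c.ι.app j) y, ?_⟩
  rw [nat_apply]
  rfl

end Colim

lemma inj_of_iso (φ : T ⟶ T') (q : ℕ) {A B : C} (e : A ≅ B)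
    (h : Function.Injective ((φ.app q).app A)) : Function.Injective ((φ.app q).app B) := by
  intro x y hxy
  have h1 : (T.F q).map e.inv x = (T.F q).map e.inv y := by
    apply h
    rw [nat_apply, nat_apply, hxy]
  have := congrArg ((T.F q).map e.hom) h1
  simpa [← ConcreteCategory.comp_apply, ← Functor.map_comp] using this

lemma surj_of_iso (φ : T ⟶ T') (q : ℕ) {A B : C} (e : A ≅ B)
    (h : Function.Surjective ((φ.app q).app A)) : Function.Surjective ((φ.app q).app B) := by
  intro x'
  obtain ⟨x, hx⟩ := h ((T'.F q).map e.inv x')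
  refine ⟨(T.F q).map e.hom x, ?_⟩
  rw [nat_apply, hx]
  simp [← ConcreteCategory.comp_apply, ← Functor.map_comp]


/-- Let C be an abelian category with filtered colimits, T and T' cohomological delta-functors on C in
degrees ≥ 0 with values in abelian groups, both left exact in degree 0 and commuting with filtered
colimits in every degree, and φ : T → T' a morphism of delta-functors. Let D and E be classes of
objects such that (a) every object of C is a filtered colimit of objects of D and (b) every object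
of D admits a monomorphism into a member of E. Then φ^q(A) is bijective for all q and all A if and
only if φ^q(M) is bijective for all q and all M in E. -/
theorem result {C : Type u} [Category.{v} C] [Abelian C]
    [HasFilteredColimitsOfSize.{v, v} C]
    (T T' : DeltaF.CohDeltaFunctor C AddCommGrpCat.{w} ℕ) (hT0 : T.ZeroMono) (hT'0 : T'.ZeroMono)
    [∀ n, PreservesFilteredColimitsOfSize.{v, v} (T.F n)] [∀ n, PreservesFilteredColimitsOfSize.{v, v} (T'.F n)]
    (φ : T ⟶ T') (D E : ObjectProperty C)
    (hD : ∀ A : C, ∃ (J : Type v) (_ : SmallCategory J) (_ : IsFiltered J) (K : J ⥤ C) (c : Cocone K)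
      (_ : IsColimit c), (∀ j, D (K.obj j)) ∧ Nonempty (c.pt ≅ A))
    (hE : ∀ A : C, D A → ∃ (M : C) (i : A ⟶ M), Mono i ∧ E M) :
    (∀ (q : ℕ) (A : C), IsIso ((φ.app q).app A)) ↔
      ∀ (q : ℕ) (M : C), E M → IsIso ((φ.app q).app M) := by
  have bij_iff : ∀ (q : ℕ) (A : C),
      IsIso ((φ.app q).app A) ↔ Function.Bijective ((φ.app q).app A) :=
    fun q A => ConcreteCategory.isIso_iff_bijective _
  refine ⟨fun h q M _ => h q M, fun hEb => ?_⟩
  have hEb' : ∀ (q : ℕ) (M : C), E M → Function.Bijective ((φ.app q).app M) :=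
    fun q M hM => (bij_iff q M).1 (hEb q M hM)
  -- extension from `D` to all objects
  have extInj : ∀ q : ℕ, (∀ A, D A → Function.Injective ((φ.app q).app A)) →
      ∀ A, Function.Injective ((φ.app q).app A) := by
    intro q h A
    obtain ⟨J, _, _, K, c, hc, hK, ⟨e⟩⟩ := hD A
    exact inj_of_iso φ q e (inj_colim φ q hc (fun j => h _ (hK j)))
  have extSurj : ∀ q : ℕ, (∀ A, D A → Function.Surjective ((φ.app q).app A)) →
      ∀ A, Function.Surjective ((φ.app q).app A) := by
    intro q h A
    obtain ⟨J, _, _, K, c, hc, hK, ⟨e⟩⟩ := hD A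
    exact surj_of_iso φ q e (surj_colim φ q hc (fun j => h _ (hK j)))
  have key : ∀ (q : ℕ) (A : C), Function.Bijective ((φ.app q).app A) := by
    intro q
    induction q with
    | zero =>
      have hinj : ∀ A, Function.Injective ((φ.app 0).app A) := by
        apply extInj 0
        intro A hA
        obtain ⟨M, i, hi, hM⟩ := hE A hA
        exact inj_zero_of_mono φ hT0 i (hEb' 0 M hM).1
      have hsurj : ∀ A, Function.Surjective ((φ.app 0).app A) := by
        apply extSurj 0
        intro A hA
        obtain ⟨M, i, hi, hM⟩ := hE A hA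
        exact surj_zero_of_mono φ hT'0 i (hEb' 0 M hM).2 (hinj _)
      exact fun A => ⟨hinj A, hsurj A⟩
    | succ q ih =>
      have hinj : ∀ A, Function.Injective ((φ.app (q + 1)).app A) := by
        apply extInj (q + 1)
        intro A hA
        obtain ⟨M, i, hi, hM⟩ := hE A hA
        exact inj_succ_of_mono φ rfl i (hEb' (q + 1) M hM).1 (ih M).2 (ih _).1
      have hsurj : ∀ A, Function.Surjective ((φ.app (q + 1)).app A) := by
        apply extSurj (q + 1)
        intro A hA
        obtain ⟨M, i, hi, hM⟩ := hE A hA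
        exact surj_succ_of_mono φ rfl i (hEb' (q + 1) M hM).2 (hinj _) (ih _).2
      exact fun A => ⟨hinj A, hsurj A⟩
  exact fun q A => (bij_iff q A).2 (key q A)

end Groth.Agent.S8612
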