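import Groth.Statements.S8618
import Mathlib
import Groth.Agent.Lib.Helper63.LangTrace
-- import your own Groth.Agent.* helpers here

set_option autoImplicit false
universe u
open SGA4h

namespace Groth.Agent.S8618

open TensorProduct in
/-- Let k be a finite field with q = p^f elements, F₀ ⊂ k its prime field, K an algebraically closed
extension of k, V a finite-dimensional k-vector space and φ a p-linear endomorphism of V (φ(λx) =
λ^p φ(x)); let F = φ^f, a k-linear endomorphism, F_K its K-linear extension to K ⊗_k V and φ_K the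
p-linear extension of φ (φ_K(μ ⊗ v) = μ^p ⊗ φ(v)). Then F_K preserves the F₀-subspace W = Ker(φ_K -
1) of K ⊗_k V, W is finite-dimensional over F₀, and the trace of F_K on W (an element of F₀) equals
the trace of F on V. -/
theorem result {p : ℕ} [Fact p.Prime] (k : Type u) [Field k] [Fintype k]
    [CharP k p] (f : ℕ) (hq : Fintype.card k = p ^ f) (K : Type u) [Field K] [Algebra k K] [IsAlgClosed K]
    (V : Type u) [AddCommGroup V] [Module k V] [FiniteDimensional k V]
    (φ : V →ₛₗ[frobenius k p] V) (F : V →ₗ[k] V) (hF : ∀ x, F x = (⇑φ)^[f] x)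
    (φK : K ⊗[k] V →+ K ⊗[k] V) (hφK : ∀ (μ : K) (v : V), φK (μ ⊗ₜ[k] v) = (μ ^ p) ⊗ₜ[k] φ v)
    (W : Submodule (↥(⊥ : Subfield k)) (K ⊗[k] V)) (hW : ∀ y, y ∈ W ↔ φK y = y) :
    (∀ y, φK y = y → φK (F.baseChange K y) = F.baseChange K y) ∧
    Module.Finite (↥(⊥ : Subfield k)) ↥W ∧
    ∀ (G : ↥W →ₗ[↥(⊥ : Subfield k)] ↥W), (∀ y : ↥W, (↑(G y) : K ⊗[k] V) = F.baseChange K ↑y) →
      algebraMap k K (algebraMap (↥(⊥ : Subfield k)) k (LinearMap.trace (↥(⊥ : Subfield k)) ↥W G)) =
        algebraMap k K (LinearMap.trace k V F) := by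
  classical
  have hCK : CharP K p := charP_of_injective_algebraMap (algebraMap k K).injective p
  obtain ⟨N, hN, r, w, hwfix, hfixUs⟩ :=
    Groth.Agent.Lib.Helper63.LangTrace.exists_fixed_basis f hq φ F hF φK hφK
  have hsmul := Groth.Agent.Lib.Helper63.LangTrace.phiK_smul φ φK hφK
  -- prime field elements
  have hprime : ∀ c : K, c ^ p = c ↔ ∃ a : ↥(⊥ : Subfield k), algebraMap k K (a : k) = c := by
    intro c
    rw [← Subfield.mem_bot_iff_pow_eq_self K p, ← Subfield.map_bot (algebraMap k K),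
      Subfield.mem_map]
    constructor
    · rintro ⟨a, ha, rfl⟩
      exact ⟨⟨a, ha⟩, rfl⟩
    · rintro ⟨a, rfl⟩
      exact ⟨a, a.2, rfl⟩
  -- `F₀`-scalars versus `K`-scalars
  have hsm : ∀ (a : ↥(⊥ : Subfield k)) (y : K ⊗[k] V), a • y = algebraMap k K (a : k) • y := by
    intro a y
    change (a : k) • y = _
    rw [algebraMap_smul]
  refine ⟨fun y hy => ?_, ?_⟩
  · rw [Groth.Agent.Lib.Helper63.LangTrace.phiK_comm f φ F hF φK hφK, hy]
  -- characterization of fixed vectors
  have hchar : ∀ y, φK y = y →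
      ∃ c : Fin r → ↥(⊥ : Subfield k), y = ∑ j, c j • (w j : K ⊗[k] V) := by
    intro y hy
    have hyU := hfixUs y hy
    have hsum : y = ∑ j, (w.repr ⟨y, hyU⟩ j) • (w j : K ⊗[k] V) := by
      have h2 := congrArg Subtype.val (w.sum_repr ⟨y, hyU⟩)
      rw [Submodule.coe_sum] at h2
      simpa using h2.symm
    have hd' : ∀ j, (w.repr ⟨y, hyU⟩ j) ^ p = w.repr ⟨y, hyU⟩ j := by
      have h1 : φK y = ∑ j, (w.repr ⟨y, hyU⟩ j) ^ p • (w j : K ⊗[k] V) := by
        conv_lhs => rw [hsum]
        rw [map_sum]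
        apply Finset.sum_congr rfl
        intro j _
        rw [hsmul, hwfix]
      have h2 : (⟨y, hyU⟩ : ↥(LinearMap.range (F.baseChange K ^ N))) =
          ∑ j, (w.repr ⟨y, hyU⟩ j) ^ p • w j := by
        apply Subtype.ext
        rw [Submodule.coe_sum]
        simp only [Submodule.coe_smul]
        rw [← h1, hy]
      intro j
      have h3 : w.repr ⟨y, hyU⟩ j = w.repr (∑ j, (w.repr ⟨y, hyU⟩ j) ^ p • w j) j :=
        congrArg (fun z => w.repr z j) h2
      rw [w.repr_sum_self] at h3
      exact h3.symm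
    choose c hc using fun j => (hprime (w.repr ⟨y, hyU⟩ j)).mp (hd' j)
    refine ⟨c, ?_⟩
    conv_lhs => rw [hsum]
    apply Finset.sum_congr rfl
    intro j _
    rw [hsm, hc]
  -- the `F₀`-basis of `W`
  let Bv : Fin r → ↥W := fun j => ⟨(w j : K ⊗[k] V), (hW _).mpr (hwfix j)⟩
  have hBv : ∀ j, ((Bv j : ↥W) : K ⊗[k] V) = (w j : K ⊗[k] V) := fun _ => rfl
  let L : (Fin r → ↥(⊥ : Subfield k)) →ₗ[↥(⊥ : Subfield k)] ↥W :=
    Fintype.linearCombination ↥(⊥ : Subfield k) Bv
  have hL : ∀ g, L g = ∑ i, g i • Bv i := fun g => Fintype.linearCombination_apply _ _ g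
  have hLinj : Function.Injective L := by
    rw [injective_iff_map_eq_zero]
    intro g hg
    rw [hL] at hg
    funext j
    have h1 := congrArg Subtype.val hg
    rw [Submodule.coe_sum] at h1
    simp only [Submodule.coe_smul, hBv, ZeroMemClass.coe_zero] at h1
    have h2 : ∑ i, algebraMap k K (g i : k) • w i = 0 := by
      apply Subtype.ext
      rw [Submodule.coe_sum]
      simp only [Submodule.coe_smul, ← hsm, ZeroMemClass.coe_zero]
      exact h1
    have h3 : algebraMap k K (g j : k) = 0 := by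
      have h5 := w.repr_sum_self (fun i => algebraMap k K (g i : k))
      rw [h2, map_zero] at h5
      exact (congrFun h5 j).symm
    have h4 : (g j : k) = 0 := (algebraMap k K).injective (h3.trans (map_zero _).symm)
    exact Subtype.ext h4
  have hLsurj : Function.Surjective L := by
    rintro ⟨y, hy⟩
    obtain ⟨c, hc⟩ := hchar y ((hW y).mp hy)
    refine ⟨c, ?_⟩
    rw [hL]
    apply Subtype.ext
    rw [Submodule.coe_sum]
    simp only [Submodule.coe_smul, hBv]
    exact hc.symm
  let B : Module.Basis (Fin r) ↥(⊥ : Subfield k) ↥W :=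
    Module.Basis.ofEquivFun (LinearEquiv.ofBijective L ⟨hLinj, hLsurj⟩).symm
  have hB : ∀ j, B j = Bv j := by
    intro j
    rw [Module.Basis.coe_ofEquivFun, LinearEquiv.symm_symm]
    change L (Pi.single j 1) = Bv j
    rw [hL, Finset.sum_eq_single j]
    · rw [Pi.single_eq_same, one_smul]
    · intro i _ hij
      rw [Pi.single_eq_of_ne hij, zero_smul]
    · intro h
      exact absurd (Finset.mem_univ j) h
  have hBw : ∀ j, ((B j : ↥W) : K ⊗[k] V) = (w j : K ⊗[k] V) := fun j => by rw [hB, hBv]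
  refine ⟨Module.Finite.of_basis B, fun G hG => ?_⟩
  -- the matrix of `G`
  have hGB : ∀ j, F.baseChange K (w j : K ⊗[k] V) =
      ∑ i, algebraMap k K ((B.repr (G (B j)) i : ↥(⊥ : Subfield k)) : k) • (w i : K ⊗[k] V) := by
    intro j
    have h2 := congrArg Subtype.val (B.sum_repr (G (B j)))
    rw [Submodule.coe_sum, hG, hBw j] at h2
    simp only [Submodule.coe_smul, hBw, hsm] at h2
    exact h2.symm
  have htG : LinearMap.trace ↥(⊥ : Subfield k) ↥W G = ∑ j, B.repr (G (B j)) j := by
    rw [LinearMap.trace_eq_matrix_trace _ B, Matrix.trace]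
    apply Finset.sum_congr rfl
    intro j _
    rw [Matrix.diag_apply, LinearMap.toMatrix_apply]
  have htU : LinearMap.trace K _ ((F.baseChange K).restrict
      (Groth.Agent.Lib.Helper63.LangTrace.maps_range_pow (F.baseChange K) N)) =
      ∑ j, algebraMap k K ((B.repr (G (B j)) j : ↥(⊥ : Subfield k)) : k) := by
    rw [LinearMap.trace_eq_matrix_trace K w, Matrix.trace]
    apply Finset.sum_congr rfl
    intro j _
    rw [Matrix.diag_apply, LinearMap.toMatrix_apply]
    have h1 : (F.baseChange K).restrict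
        (Groth.Agent.Lib.Helper63.LangTrace.maps_range_pow (F.baseChange K) N) (w j) =
        ∑ i, algebraMap k K ((B.repr (G (B j)) i : ↥(⊥ : Subfield k)) : k) • w i := by
      apply Subtype.ext
      rw [LinearMap.coe_restrict_apply, hGB, Submodule.coe_sum]
      simp only [Submodule.coe_smul]
    rw [h1, w.repr_sum_self]
  rw [← LinearMap.trace_baseChange,
    Groth.Agent.Lib.Helper63.LangTrace.trace_eq_trace_restrict_range_pow (F.baseChange K) N hN,
    htU, htG, map_sum, map_sum]
  rfl

end Groth.Agent.S8618
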