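import Groth.Statements.S8625
import Mathlib.Tactic.Group

set_option autoImplicit false
universe u
open SGA4h

namespace Groth.Agent.S8625

/-- Let G be a group with an endomorphism F, and assume the Lang map g ↦ F(g)g⁻¹ is surjective (for
instance the geometric points of a connected algebraic group over F_q with its Frobenius, where the
surjectivity is the classical result of Lang; the other Lang map g ↦ g⁻¹F(g) is then surjective too,
by g ↦ g⁻¹). Let G^F be the subgroup of fixed points of F. (i) If F(g)g⁻¹ is fixed by F then so is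
g⁻¹F(g). (ii), (iii) There is a bijection of the set of conjugacy classes of G^F with itself
sending, for every g with F(g)g⁻¹ ∈ G^F, the class of F(g)g⁻¹ to the class of g⁻¹F(g) (in particular
the latter class depends only on the former). -/
theorem result {G : Type u} [Group G] (F : G →* G)
    (hL : Function.Surjective fun g : G => F g * g⁻¹) :
    (∀ g : G, F (F g * g⁻¹) = F g * g⁻¹ → F (g⁻¹ * F g) = g⁻¹ * F g) ∧
    ∃ φ : ConjClasses ↥(F.eqLocus (MonoidHom.id G)) → ConjClasses ↥(F.eqLocus (MonoidHom.id G)),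
      Function.Bijective φ ∧
      ∀ (g : G) (h : F (F g * g⁻¹) = F g * g⁻¹) (h' : F (g⁻¹ * F g) = g⁻¹ * F g),
        φ (ConjClasses.mk (⟨F g * g⁻¹, h⟩ : ↥(F.eqLocus (MonoidHom.id G)))) =
          ConjClasses.mk (⟨g⁻¹ * F g, h'⟩ : ↥(F.eqLocus (MonoidHom.id G))) := by
  have hi : ∀ g : G, F (F g * g⁻¹) = F g * g⁻¹ → F (g⁻¹ * F g) = g⁻¹ * F g := by
    intro g hg
    have h1 : F (F g) = F g * g⁻¹ * F g := by
      have := hg
      rw [map_mul, map_inv] at this
      calc F (F g) = F (F g) * (F g)⁻¹ * F g := by group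
        _ = F g * g⁻¹ * F g := by rw [this]
    rw [map_mul, map_inv, h1]
    group
  refine ⟨hi, ?_⟩
  set H := F.eqLocus (MonoidHom.id G) with hH
  have memH : ∀ x : G, x ∈ H ↔ F x = x := fun x => Iff.rfl
  -- key lemma: well-definedness
  have key : ∀ (g h : G) (hg : F (F g * g⁻¹) = F g * g⁻¹) (hh : F (F h * h⁻¹) = F h * h⁻¹),
      IsConj (⟨F g * g⁻¹, hg⟩ : H) ⟨F h * h⁻¹, hh⟩ →
      IsConj (⟨g⁻¹ * F g, hi g hg⟩ : H) ⟨h⁻¹ * F h, hi h hh⟩ := by
    intro g h hg hh hconj
    rw [isConj_iff] at hconj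
    obtain ⟨c, hc⟩ := hconj
    have hcF : F (c : G) = c := c.2
    have hc' : (c : G) * (F g * g⁻¹) * (c : G)⁻¹ = F h * h⁻¹ := by
      have := congrArg Subtype.val hc
      simpa using this
    -- d = (c g)⁻¹ h is fixed by F
    have hd : F (((c : G) * g)⁻¹ * h) = ((c : G) * g)⁻¹ * h := by
      have e1 : F h = (c : G) * (F g * g⁻¹) * (c : G)⁻¹ * h := by
        rw [hc']; group
      rw [map_mul, map_inv, map_mul, hcF, e1]
      group
    rw [isConj_iff]
    refine ⟨⟨(((c : G) * g)⁻¹ * h)⁻¹, by rw [memH, map_inv, hd]⟩, ?_⟩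
    apply Subtype.ext
    simp only [Subgroup.coe_mul, Subgroup.coe_inv]
    have e1 : F h = (c : G) * (F g * g⁻¹) * (c : G)⁻¹ * h := by
      rw [hc']; group
    rw [e1]
    group
  -- define φ
  let f : H → ConjClasses H := fun a =>
    ConjClasses.mk (⟨(Classical.choose (hL a))⁻¹ * F (Classical.choose (hL a)),
      hi _ (by
        have := Classical.choose_spec (hL a)
        simp only at this
        rw [this]; exact a.2)⟩ : H)
  have hspec : ∀ a : H, F (Classical.choose (hL a)) * (Classical.choose (hL a))⁻¹ = a :=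
    fun a => Classical.choose_spec (hL a)
  have hf : ∀ a b : H, IsConj a b → f a = f b := by
    intro a b hab
    simp only [f]
    rw [ConjClasses.mk_eq_mk_iff_isConj]
    have ha := hspec a
    have hb := hspec b
    refine key _ _ ?_ ?_ ?_
    · rw [ha]; exact a.2
    · rw [hb]; exact b.2
    · convert hab using 1
      · exact Subtype.ext ha
      · exact Subtype.ext hb
  let φ : ConjClasses H → ConjClasses H := Quotient.lift f (fun a b hab => hf a b hab)
  have hφ : ∀ (g : G) (h : F (F g * g⁻¹) = F g * g⁻¹) (h' : F (g⁻¹ * F g) = g⁻¹ * F g),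
      φ (ConjClasses.mk (⟨F g * g⁻¹, h⟩ : H)) = ConjClasses.mk (⟨g⁻¹ * F g, h'⟩ : H) := by
    intro g h h'
    show f ⟨F g * g⁻¹, h⟩ = _
    simp only [f]
    rw [ConjClasses.mk_eq_mk_iff_isConj]
    have ha := hspec ⟨F g * g⁻¹, h⟩
    refine key _ g ?_ h ?_
    · rw [ha]; exact h
    · have : (⟨F (Classical.choose (hL (⟨F g * g⁻¹, h⟩ : H))) *
          (Classical.choose (hL (⟨F g * g⁻¹, h⟩ : H)))⁻¹, by rw [ha]; exact h⟩ : H) =
          ⟨F g * g⁻¹, h⟩ := Subtype.ext ha
      rw [this]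
  refine ⟨φ, ⟨?_, ?_⟩, hφ⟩
  · -- injective
    intro x y hxy
    obtain ⟨a, rfl⟩ := ConjClasses.exists_rep x
    obtain ⟨b, rfl⟩ := ConjClasses.exists_rep y
    obtain ⟨g, hg⟩ := hL a
    obtain ⟨g', hg'⟩ := hL b
    simp only at hg hg'
    have hga : F (F g * g⁻¹) = F g * g⁻¹ := by rw [hg]; exact a.2
    have hgb : F (F g' * g'⁻¹) = F g' * g'⁻¹ := by rw [hg']; exact b.2
    have ea : a = ⟨F g * g⁻¹, hga⟩ := Subtype.ext hg.symm
    have eb : b = ⟨F g' * g'⁻¹, hgb⟩ := Subtype.ext hg'.symm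
    rw [ea, eb] at hxy ⊢
    rw [hφ g hga (hi g hga), hφ g' hgb (hi g' hgb), ConjClasses.mk_eq_mk_iff_isConj,
      isConj_iff] at hxy
    obtain ⟨d, hd⟩ := hxy
    have hdF : F (d : G) = d := d.2
    have hd' : (d : G) * (g⁻¹ * F g) * (d : G)⁻¹ = g'⁻¹ * F g' := by
      have := congrArg Subtype.val hd
      simpa using this
    -- c = g' d g⁻¹ is fixed by F
    have hFg' : F g' = g' * (d : G) * (g⁻¹ * F g) * (d : G)⁻¹ := by
      have : g' * ((d : G) * (g⁻¹ * F g) * (d : G)⁻¹) = g' * (g'⁻¹ * F g') := by rw [hd']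
      rw [mul_inv_cancel_left] at this
      rw [← this]; group
    have hc : F (g' * (d : G) * g⁻¹) = g' * (d : G) * g⁻¹ := by
      rw [map_mul, map_mul, map_inv, hdF, hFg']
      group
    rw [ConjClasses.mk_eq_mk_iff_isConj, isConj_iff]
    refine ⟨⟨g' * (d : G) * g⁻¹, hc⟩, ?_⟩
    apply Subtype.ext
    simp only [Subgroup.coe_mul, Subgroup.coe_inv]
    rw [hFg']
    group
  · -- surjective
    intro y
    obtain ⟨b, rfl⟩ := ConjClasses.exists_rep y
    -- find g with g⁻¹ F g = b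
    obtain ⟨g, hg⟩ : ∃ g : G, g⁻¹ * F g = b := by
      obtain ⟨g₀, hg₀⟩ := hL ((b : G)⁻¹)
      simp only at hg₀
      refine ⟨g₀⁻¹, ?_⟩
      have : (F g₀ * g₀⁻¹)⁻¹ = (b : G) := by rw [hg₀, inv_inv]
      rw [← this, map_inv]; group
    have hbF : F (b : G) = b := b.2
    have hFg : F g = g * b := by rw [← hg]; group
    have hga : F (F g * g⁻¹) = F g * g⁻¹ := by
      rw [map_mul, map_inv, hFg, map_mul, hFg, hbF]
      group
    refine ⟨ConjClasses.mk ⟨F g * g⁻¹, hga⟩, ?_⟩
    rw [hφ g hga (hi g hga)]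
    congr 1
    exact Subtype.ext hg

end Groth.Agent.S8625
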