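import Groth.Statements.S8630
import Mathlib

set_option autoImplicit false
open Zeta

namespace Groth.Agent.S8630

open Polynomial

/-- A power series over `ℤ` that vanishes mod `p` is divisible by `p`. -/
lemma exists_eq_C_mul_of_map_eq_zero (p : ℕ) (G : PowerSeries ℤ)
    (h : PowerSeries.map (Int.castRingHom (ZMod p)) G = 0) :
    ∃ G' : PowerSeries ℤ, G = PowerSeries.C (p : ℤ) * G' := by
  have hdvd : ∀ i, (p : ℤ) ∣ PowerSeries.coeff i G := by
    intro i
    have := congrArg (PowerSeries.coeff i) h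
    rw [PowerSeries.coeff_map, map_zero] at this
    exact (ZMod.intCast_zmod_eq_zero_iff_dvd _ p).mp this
  choose g hg using hdvd
  refine ⟨PowerSeries.mk g, ?_⟩
  ext i
  rw [PowerSeries.coeff_C_mul, PowerSeries.coeff_mk, hg i]

lemma key : ∀ (n : ℕ) (m : ℤ), m.natAbs = n → m ≠ 0 → ∀ (F W : PowerSeries ℤ),
    F * W = PowerSeries.C m →
    ∃ (c : ℤ) (F₂ : PowerSeries ℤ), F = PowerSeries.C c * F₂ ∧
      IsUnit (PowerSeries.constantCoeff F₂) := by
  intro n
  induction n using Nat.strong_induction_on with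
  | _ n ih =>
    intro m hmn hm F W hFW
    by_cases h1 : m.natAbs = 1
    · refine ⟨1, F, by simp, ?_⟩
      have hc := congrArg PowerSeries.constantCoeff hFW
      rw [map_mul, PowerSeries.constantCoeff_C] at hc
      have hu : IsUnit m := Int.isUnit_iff_natAbs_eq.mpr h1
      rw [← hc] at hu
      exact isUnit_of_mul_isUnit_left hu
    · obtain ⟨p, hp, hpm⟩ := Nat.exists_prime_and_dvd h1
      have : Fact p.Prime := ⟨hp⟩
      obtain ⟨m', hm'⟩ : (p : ℤ) ∣ m := Int.natCast_dvd.mpr hpm
      have hm'0 : m' ≠ 0 := by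
        rintro rfl
        exact hm (by simpa using hm')
      have hlt : m'.natAbs < n := by
        rw [← hmn, hm', Int.natAbs_mul, Int.natAbs_natCast]
        have : 0 < m'.natAbs := Int.natAbs_pos.mpr hm'0
        nlinarith [hp.two_le]
      have hCp : (PowerSeries.C (p : ℤ) : PowerSeries ℤ) ≠ 0 := by
        intro h
        have := congrArg PowerSeries.constantCoeff h
        simp at this
        exact hp.ne_zero this
      have hmod : PowerSeries.map (Int.castRingHom (ZMod p)) F *
          PowerSeries.map (Int.castRingHom (ZMod p)) W = 0 := by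
        rw [← map_mul, hFW, PowerSeries.map_C, hm']
        simp
      rcases mul_eq_zero.mp hmod with hF | hW
      · obtain ⟨F', rfl⟩ := exists_eq_C_mul_of_map_eq_zero p F hF
        have h2 : F' * W = PowerSeries.C m' := by
          apply mul_left_cancel₀ hCp
          rw [← mul_assoc, hFW, hm', map_mul]
        obtain ⟨c, F₂, hF₂, hu⟩ := ih _ hlt m' rfl hm'0 F' W h2
        exact ⟨p * c, F₂, by rw [hF₂, map_mul, mul_assoc], hu⟩
      · obtain ⟨W', rfl⟩ := exists_eq_C_mul_of_map_eq_zero p W hW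
        have h2 : F * W' = PowerSeries.C m' := by
          apply mul_left_cancel₀ hCp
          calc PowerSeries.C (p : ℤ) * (F * W') = F * (PowerSeries.C (p : ℤ) * W') := by ring
            _ = PowerSeries.C m := hFW
            _ = PowerSeries.C (p : ℤ) * PowerSeries.C m' := by rw [hm', map_mul]
        exact ih _ hlt m' rfl hm'0 F W' h2


/-- Fatou's lemma: let P, Q ∈ ℚ[T] be coprime with constant coefficient 1, and suppose the power series
P/Q has integer coefficients, i.e. P = Q·Z in ℚ⟦T⟧ for a power series Z with coefficients in ℤ. Then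
P and Q have integer coefficients. -/
theorem result (P Q : Polynomial ℚ)
    (hPQ : IsCoprime P Q) (hP : P.coeff 0 = 1) (hQ : Q.coeff 0 = 1) (Z : PowerSeries ℤ)
    (hZ : (P : PowerSeries ℚ) = (Q : PowerSeries ℚ) * PowerSeries.map (Int.castRingHom ℚ) Z) :
    (∃ P₀ : Polynomial ℤ, P₀.map (Int.castRingHom ℚ) = P) ∧
      ∃ Q₀ : Polynomial ℤ, Q₀.map (Int.castRingHom ℚ) = Q := by
  obtain ⟨U, V, hUV⟩ := hPQ
  obtain ⟨u, hu, hU'⟩ := IsLocalization.integerNormalization_spec (nonZeroDivisors ℤ) U
  obtain ⟨v, hv, hV'⟩ := IsLocalization.integerNormalization_spec (nonZeroDivisors ℤ) V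
  obtain ⟨a, ha, hP'⟩ := IsLocalization.integerNormalization_spec (nonZeroDivisors ℤ) P
  obtain ⟨b, hb, hQ'⟩ := IsLocalization.integerNormalization_spec (nonZeroDivisors ℤ) Q
  set U' := IsLocalization.integerNormalization (nonZeroDivisors ℤ) U
  set V' := IsLocalization.integerNormalization (nonZeroDivisors ℤ) V
  set P' := IsLocalization.integerNormalization (nonZeroDivisors ℤ) P
  set Q' := IsLocalization.integerNormalization (nonZeroDivisors ℤ) Q
  have hu0 : u ≠ 0 := nonZeroDivisors.ne_zero hu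
  have hv0 : v ≠ 0 := nonZeroDivisors.ne_zero hv
  have ha0 : a ≠ 0 := nonZeroDivisors.ne_zero ha
  have hb0 : b ≠ 0 := nonZeroDivisors.ne_zero hb
  have halg : algebraMap ℤ ℚ = Int.castRingHom ℚ := rfl
  rw [halg, zsmul_eq_mul] at hU' hV' hP' hQ'
  -- the integral polynomials
  let Q₁ : Polynomial ℤ := (a : Polynomial ℤ) * Q'
  let P₁ : Polynomial ℤ := (b : Polynomial ℤ) * P'
  let A : Polynomial ℤ := (v : Polynomial ℤ) * U'
  let B : Polynomial ℤ := (u : Polynomial ℤ) * V'
  let N : ℤ := a * b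
  let m : ℤ := u * v * N
  have hN0 : N ≠ 0 := mul_ne_zero ha0 hb0
  have hm0 : m ≠ 0 := mul_ne_zero (mul_ne_zero hu0 hv0) hN0
  have hQ₁ : Q₁.map (Int.castRingHom ℚ) = (N : Polynomial ℚ) * Q := by
    simp only [Q₁, N, Polynomial.map_mul, Polynomial.map_intCast, hQ', Int.cast_mul]
    ring
  have hP₁ : P₁.map (Int.castRingHom ℚ) = (N : Polynomial ℚ) * P := by
    simp only [P₁, N, Polynomial.map_mul, Polynomial.map_intCast, hP', Int.cast_mul]
    ring
  have hAB : A * P₁ + B * Q₁ = Polynomial.C m := by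
    apply Polynomial.map_injective (Int.castRingHom ℚ) Int.cast_injective
    have e1 : (A * P₁ + B * Q₁).map (Int.castRingHom ℚ) =
        A.map (Int.castRingHom ℚ) * P₁.map (Int.castRingHom ℚ) +
          B.map (Int.castRingHom ℚ) * Q₁.map (Int.castRingHom ℚ) := by
      simp only [Polynomial.map_add, Polynomial.map_mul]
    have eA : A.map (Int.castRingHom ℚ) = (v : Polynomial ℚ) * ((u : Polynomial ℚ) * U) := by
      simp only [A, Polynomial.map_mul, Polynomial.map_intCast, hU']
    have eB : B.map (Int.castRingHom ℚ) = (u : Polynomial ℚ) * ((v : Polynomial ℚ) * V) := by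
      simp only [B, Polynomial.map_mul, Polynomial.map_intCast, hV']
    rw [e1, hP₁, hQ₁, eA, eB, Polynomial.map_C]
    have hC : (Polynomial.C ((Int.castRingHom ℚ) (u * v * N)) : Polynomial ℚ) =
        (u : Polynomial ℚ) * (v : Polynomial ℚ) * (N : Polynomial ℚ) := by
      simp [Polynomial.C_mul]
    rw [hC]
    calc (v : Polynomial ℚ) * ((u : Polynomial ℚ) * U) * ((N : Polynomial ℚ) * P) +
        (u : Polynomial ℚ) * ((v : Polynomial ℚ) * V) * ((N : Polynomial ℚ) * Q)
        = (u : Polynomial ℚ) * (v : Polynomial ℚ) * (N : Polynomial ℚ) * (U * P + V * Q) := by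
          ring
      _ = _ := by rw [hUV, mul_one]
  -- transfer to power series over ℤ
  have hinj : Function.Injective (PowerSeries.map (Int.castRingHom ℚ)) := by
    intro x y hxy
    ext i
    have := congrArg (PowerSeries.coeff i) hxy
    simpa using this
  have hPZ : (P₁ : PowerSeries ℤ) = (Q₁ : PowerSeries ℤ) * Z := by
    apply hinj
    rw [map_mul, ← Polynomial.polynomial_map_coe, ← Polynomial.polynomial_map_coe, hP₁, hQ₁,
      Polynomial.coe_mul, Polynomial.coe_mul, hZ]
    ring
  have hQW : (Q₁ : PowerSeries ℤ) * ((A : PowerSeries ℤ) * Z + (B : PowerSeries ℤ)) =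
      PowerSeries.C m := by
    have := congrArg (fun p : Polynomial ℤ => (p : PowerSeries ℤ)) hAB
    simp only [Polynomial.coe_add, Polynomial.coe_mul, Polynomial.coe_C] at this
    rw [← this, hPZ]
    ring
  obtain ⟨c, F₂, hF₂, hunit⟩ := key _ m rfl hm0 _ _ hQW
  -- compare constant coefficients
  have hQ₁0 : Q₁.coeff 0 = N := by
    have h1 := congrArg (fun p : Polynomial ℚ => p.coeff 0) hQ₁
    simp only [Polynomial.coeff_map, Polynomial.coeff_intCast_mul, hQ, mul_one, eq_intCast] at h1
    exact_mod_cast h1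
  have hc : c * PowerSeries.constantCoeff F₂ = N := by
    have h1 := congrArg PowerSeries.constantCoeff hF₂
    rw [map_mul, PowerSeries.constantCoeff_C, Polynomial.constantCoeff_coe, hQ₁0] at h1
    exact h1.symm
  -- the unit ε = ±1
  obtain ⟨ε, hε⟩ := hunit
  have hcN : c = N * (↑ε⁻¹ : ℤ) := by
    rw [← hc, ← hε, mul_assoc, Units.mul_inv, mul_one]
  -- Q = (ε⁻¹ F₂)
  have hQcoeff : ∀ i, Q.coeff i = (((↑ε⁻¹ : ℤ) * PowerSeries.coeff i F₂ : ℤ) : ℚ) := by
    intro i
    have h1 : (Q₁.coeff i : ℚ) = N * Q.coeff i := by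
      have := congrArg (fun p : Polynomial ℚ => p.coeff i) hQ₁
      simpa [Polynomial.coeff_map] using this
    have h2 : Q₁.coeff i = N * ((↑ε⁻¹ : ℤ) * PowerSeries.coeff i F₂) := by
      have := congrArg (PowerSeries.coeff i) hF₂
      rw [Polynomial.coeff_coe, PowerSeries.coeff_C_mul, hcN] at this
      rw [this]; ring
    rw [h2] at h1
    have hNq : (N : ℚ) ≠ 0 := by exact_mod_cast hN0
    apply mul_left_cancel₀ hNq
    rw [← h1]
    push_cast
    ring
  have hQlift : ∃ Q₀ : Polynomial ℤ, Q₀.map (Int.castRingHom ℚ) = Q := by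
    rw [← Polynomial.mem_lifts, Polynomial.lifts_iff_coeff_lifts]
    intro i
    exact ⟨_, (hQcoeff i).symm⟩
  refine ⟨?_, hQlift⟩
  obtain ⟨Q₀, hQ₀⟩ := hQlift
  rw [← Polynomial.mem_lifts, Polynomial.lifts_iff_coeff_lifts]
  intro i
  refine ⟨PowerSeries.coeff i ((Q₀ : PowerSeries ℤ) * Z), ?_⟩
  have := congrArg (PowerSeries.coeff i) hZ
  rw [Polynomial.coeff_coe] at this
  rw [this, ← hQ₀, Polynomial.polynomial_map_coe, ← map_mul, PowerSeries.coeff_map]

end Groth.Agent.S8630
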