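import Groth.Statements.S8637
-- import your own Groth.Agent.* helpers here

set_option autoImplicit false
open Zeta

namespace Groth.Agent.S8637

/-- First assertion, for a finite family: let (f_i) be finitely many formal power series with real
coefficients, each with constant term 1 and all coefficients ≥ 0, and let f be their product. Then
for every i and every n the n-th coefficient of f_i is at most the n-th coefficient of f (so the
radius of absolute convergence of f_i is at least that of f). (Stated for a finite family; for an
infinite product whose factors f_i - 1 have orders tending to infinity each coefficient is that of a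
finite sub-product, so the same inequality holds.) -/
theorem result {ι : Type} (s : Finset ι) (f : ι → PowerSeries ℝ)
    (h0 : ∀ i ∈ s, PowerSeries.constantCoeff (f i) = 1)
    (hpos : ∀ i ∈ s, ∀ n : ℕ, 0 ≤ PowerSeries.coeff n (f i)) (i : ι) (hi : i ∈ s) (n : ℕ) :
    PowerSeries.coeff n (f i) ≤ PowerSeries.coeff n (∏ j ∈ s, f j) := by
  classical
  -- general facts about products of series with nonneg coefficients and constant coeff 1
  have key : ∀ t : Finset ι, (∀ j ∈ t, PowerSeries.constantCoeff (f j) = 1) →
      (∀ j ∈ t, ∀ n : ℕ, 0 ≤ PowerSeries.coeff n (f j)) →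
      PowerSeries.constantCoeff (∏ j ∈ t, f j) = 1 ∧
        ∀ n : ℕ, 0 ≤ PowerSeries.coeff n (∏ j ∈ t, f j) := by
    intro t
    induction t using Finset.induction_on with
    | empty =>
      intro _ _
      refine ⟨by simp, fun n => ?_⟩
      simp only [Finset.prod_empty, PowerSeries.coeff_one]
      split_ifs <;> norm_num
    | insert a t ha ih =>
      intro h0' hpos'
      obtain ⟨ih0, ihpos⟩ := ih (fun j hj => h0' j (Finset.mem_insert_of_mem hj))
        (fun j hj => hpos' j (Finset.mem_insert_of_mem hj))
      rw [Finset.prod_insert ha]
      refine ⟨by rw [map_mul, ih0, h0' a (Finset.mem_insert_self a t), one_mul], fun n => ?_⟩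
      rw [PowerSeries.coeff_mul]
      exact Finset.sum_nonneg fun p _ =>
        mul_nonneg (hpos' a (Finset.mem_insert_self a t) _) (ihpos _)
  obtain ⟨g0, gpos⟩ := key (s.erase i) (fun j hj => h0 j (Finset.mem_of_mem_erase hj))
    (fun j hj => hpos j (Finset.mem_of_mem_erase hj))
  rw [← Finset.mul_prod_erase s f hi, PowerSeries.coeff_mul]
  have hmem : (n, 0) ∈ Finset.antidiagonal n := by simp
  calc PowerSeries.coeff n (f i)
      = PowerSeries.coeff (n, 0).1 (f i) * PowerSeries.coeff (n, 0).2 (∏ j ∈ s.erase i, f j) := by
        simp only [PowerSeries.coeff_zero_eq_constantCoeff_apply, g0, mul_one]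
    _ ≤ _ := Finset.single_le_sum (f := fun p : ℕ × ℕ =>
          PowerSeries.coeff p.1 (f i) * PowerSeries.coeff p.2 (∏ j ∈ s.erase i, f j))
        (fun p _ => mul_nonneg (hpos i hi _) (gpos _)) hmem

end Groth.Agent.S8637
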