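import Groth.Statements.S8653
import Groth.Agent.Lib.Helper10.RegImmDescent
import Groth.Agent.Lib.Helper10.RegDescentKoszul

set_option autoImplicit false
universe u
open CategoryTheory CategoryTheory.Limits AlgebraicGeometry
open RegImm

namespace Groth.Agent.S8653

/-- Being a Koszul-regular immersion is local for the faithfully flat quasi-compact topology. Let i : Y
⟶ X be an immersion, g : X' ⟶ X flat, surjective and quasi-compact, and i' : Y' ⟶ X' the base change
of i along g (a cartesian square). If i' is a Koszul-regular immersion, then so is i. -/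
theorem result {X Y X' Y' : Scheme.{u}} (i : Y ⟶ X) [IsImmersion i]
    (g : X' ⟶ X) [Flat g] [Surjective g] [QuasiCompact g]
    (i' : Y' ⟶ X') (g' : Y' ⟶ Y) (hsq : IsPullback g' i' i g)
    (hi' : RegImm.IsRegularImmersion .koszul i') : RegImm.IsRegularImmersion .koszul i := by
  refine ⟨inferInstance, fun z => ?_⟩
  have h := Groth.Agent.Lib.Helper10.RegImmDescent.hasDataAt_descent
    (K := Groth.Agent.Lib.Helper10.RegDescentKoszul.koszulKind) i g i' g' hsq
    (fun y' => hi'.2 y') z
  exact h

end Groth.Agent.S8653
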