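import Groth.Statements.S8655
import Groth.Agent.Lib.Helper10.KoszulRegImmComp

set_option autoImplicit false
universe u
open CategoryTheory CategoryTheory.Limits AlgebraicGeometry
open RegImm

namespace Groth.Agent.S8655

/-- Let i : Y ⟶ X be a Koszul-regular immersion of constant codimension n and j : Z ⟶ Y a Koszul-regular
immersion of constant codimension m (around every point the ideal is generated by a Koszul-regular
sequence of that length). Then j ≫ i is a Koszul-regular immersion of constant codimension m + n. -/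
theorem result {X Y Z : Scheme.{u}} (n m : ℕ) (i : Y ⟶ X) (j : Z ⟶ Y)
    (hi : RegImm.IsRegularImmersionOfCodim .koszul n i) (hj : RegImm.IsRegularImmersionOfCodim .koszul m j) :
    RegImm.IsRegularImmersionOfCodim .koszul (m + n) (j ≫ i) := by
  haveI := hi.1
  haveI := hj.1
  refine ⟨inferInstance, fun z => ?_⟩
  obtain ⟨U₁, hU₁, hcl₁, fs, hlf, hfs, hker₁⟩ := hi.2 (j z)
  obtain ⟨V, hV, hcl₂, gs, hlg, hgs, hker₂⟩ := hj.2 z
  obtain ⟨U, hU, hcl, rs, hl, hrs, hker⟩ :=
    Groth.Agent.Lib.Helper10.KoszulRegImmComp.comp_at i j z U₁ hU₁ hcl₁ fs hfs hker₁ V hV hcl₂ gs hgs hker₂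
  exact ⟨U, hU, hcl, rs, by rw [hl, hlg, hlf], hrs, hker⟩

end Groth.Agent.S8655
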