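import Groth.Statements.S8656
import Groth.Agent.Lib.Helper10.LciMor

set_option autoImplicit false
universe u
open CategoryTheory CategoryTheory.Limits AlgebraicGeometry
open Synt

namespace Groth.Agent.S8656

open Groth.Agent.Lib.Helper10.RegDescent Groth.Agent.Lib.Helper10.RegDescentKoszul
open Groth.Agent.Lib.Helper10.LciComp Groth.Agent.Lib.Helper10.LciSmooth
open Groth.Agent.Lib.Helper10.LciMor Groth.Agent.Lib.Helper10.RegImmDescent
open Groth.Agent.Lib.Helper10.RegImmBaseChange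

/-- Let f : X ⟶ Y be a local complete intersection morphism in the factorisation sense: every point of X
has an open neighbourhood on which f is locally of finite type and factors as a Koszul-regular
immersion followed by a smooth morphism. Let p : Z ⟶ Y be smooth and i : X ⟶ Z an immersion with i ≫
p = f. Then i is a Koszul-regular immersion. -/
theorem result {X Y Z : Scheme.{u}} (f : X ⟶ Y) (hf : ∀ x : X, Synt.IsKoszulAt f x)
    (p : Z ⟶ Y) [Smooth p] (i : X ⟶ Z) [IsImmersion i] (h : i ≫ p = f) :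
    RegImm.IsRegularImmersion .koszul i := by
  subst h
  have hlci : lciMor (i ≫ p) := lciMor_of_forall_isKoszulAt _ hf
  refine ⟨inferInstance, fun z => ?_⟩
  obtain ⟨V, hV, hzV, -⟩ := (TopologicalSpace.Opens.isBasis_iff_nbhd.mp Y.isBasis_affineOpens)
    (TopologicalSpace.Opens.mem_top (p (i z)))
  obtain ⟨W₀, hzW₀, hcl₀⟩ := exists_affine_isClosedImmersion_restrict i z
  obtain ⟨W, hW, hzW, hWle⟩ := (TopologicalSpace.Opens.isBasis_iff_nbhd.mp Z.isBasis_affineOpens)
    (show i z ∈ W₀.1 ⊓ p ⁻¹ᵁ V from ⟨hzW₀, hzV⟩)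
  obtain ⟨hcl, -, -⟩ := restrictData i W₀.2 hW (hWle.trans inf_le_left) hcl₀
  obtain ⟨hU, hsurj⟩ := app_surjective_of_restrict i W hW hcl
  have eW : W ≤ p ⁻¹ᵁ V := hWle.trans inf_le_right
  have hsm := p.smooth_appLE hV hW eW
  have eU : i ⁻¹ᵁ W ≤ (i ≫ p) ⁻¹ᵁ V := fun x hx => eW hx
  have hQ : IsLCIHom ((i ≫ p).appLE V (i ⁻¹ᵁ W) eU).hom :=
    HasRingHomProperty.appLE lciMor _ hlci ⟨V, hV⟩ ⟨_, hU⟩ eU
  have hcomp : ((i ≫ p).appLE V (i ⁻¹ᵁ W) eU).hom = (i.app W).hom.comp (p.appLE V W eW).hom := by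
    rw [← CommRingCat.hom_comp]
    congr 1
    rw [Scheme.Hom.app_eq_appLE, Scheme.Hom.appLE_comp_appLE]
  letI := (p.appLE V W eW).hom.toAlgebra
  haveI : Algebra.Smooth Γ(Y, V) Γ(Z, W) := hsm
  have hloc : IsLoc koszulKind (RingHom.ker (i.app W).hom) :=
    isLoc_ker_of_smooth (A := Γ(Y, V)) (i.app W).hom hsurj (by
      rw [RingHom.algebraMap_toAlgebra, ← hcomp]
      exact hQ)
  exact hasDataAt_of_isLoc (K := koszulKind) i hW hcl hloc z hzW

end Groth.Agent.S8656
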