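import Groth.Statements.S8657
import Groth.Agent.Lib.Helper10.LciMor
import Groth.Agent.S8656

set_option autoImplicit false
universe u
open CategoryTheory CategoryTheory.Limits AlgebraicGeometry
open Synt

namespace Groth.Agent.S8657

open Groth.Agent.Lib.Helper10.LciMor

/-- Let i : X ⟶ V and j : X ⟶ V' be immersions and p : V' ⟶ V a smooth morphism with j ≫ p = i. Then i
is a Koszul-regular immersion if and only if j is. -/
theorem result {X V V' : Scheme.{u}} (i : X ⟶ V) [IsImmersion i] (j : X ⟶ V') [IsImmersion j]
    (p : V' ⟶ V) [Smooth p] (h : j ≫ p = i) :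
    RegImm.IsRegularImmersion .koszul i ↔ RegImm.IsRegularImmersion .koszul j := by
  constructor
  · intro hi
    exact Groth.Agent.S8656.result i
      (fun x => Groth.Agent.S9773.result i .koszul (Or.inr rfl) hi x) p j h
  · intro hj
    have h1 : lciMor (j ≫ p) :=
      lciMor.comp_mem _ _ (lciMor_of_isRegularImmersion j hj) (lciMor_of_smooth p)
    rw [h] at h1
    exact Groth.Agent.S8656.result i (isKoszulAt_of_lciMor i h1) (𝟙 V) i (Category.comp_id i)

end Groth.Agent.S8657
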