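import Groth.Statements.S8660
import Groth.Agent.S9758
import Groth.Agent.S9368
import Groth.Agent.S9365
import Groth.Agent.Lib.Helper10.SyntBC
import Groth.Agent.Lib.Helper10.CIBridge

set_option autoImplicit false
universe u
open CategoryTheory CategoryTheory.Limits AlgebraicGeometry
open Synt

namespace Groth.Agent.S8660

section Helpers

open Groth.Agent.S9368

theorem stalk_bridge (k : Type u) [Field k] (Z : Scheme.{u}) (p : Z ⟶ Spec (CommRingCat.of k))
    [LocallyOfFiniteType p] (z : Z) :
    (letI := (smx p z).hom.toAlgebra; Synt.IsCIOver k (Z.presheaf.stalk z)) ↔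
      Pi1.IsCompleteIntersection (Z.presheaf.stalk z) := by
  obtain ⟨U, hzU⟩ := exists_affine_nhd z
  obtain ⟨χ⟩ := nonempty_stalk_equiv p U z hzU
  letI : Algebra k Γ(Z, U.1) := (sm p U.1).hom.toAlgebra
  letI : Algebra k (Z.presheaf.stalk z) := (smx p z).hom.toAlgebra
  haveI : Algebra.FiniteType k Γ(Z, U.1) := finiteType_sm p U
  haveI : Algebra.EssFiniteType k (Z.presheaf.stalk z) :=
    (Algebra.EssFiniteType.iff_of_algEquiv χ).mpr inferInstance
  exact Groth.Agent.Lib.Helper10.CIBridge.isCIOver_iff_isCompleteIntersection k _

theorem forall_fiber {X Y : Scheme.{u}} (f : X ⟶ Y) (C : ∀ s : Y, f.fiber s → Prop)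
    (h : ∀ x : X, C (f x) (f.asFiber x)) : ∀ (s : Y) (z : f.fiber s), C s z := by
  intro s z
  obtain ⟨x, hx, hz⟩ : ∃ x, ∃ (_ : f x = s), f.fiberι s z = x :=
    ⟨f.fiberι s z, (f.range_fiberι s).subset (Set.mem_range_self z), rfl⟩
  subst hx
  have hzx : z = f.asFiber x :=
    (f.fiberι (f x)).isEmbedding.injective (by rw [hz, f.fiberι_asFiber])
  subst hzx
  exact h x

end Helpers

/-- Let f : X ⟶ Y be flat and locally of finite presentation. Then f is a local complete intersection
morphism in the factorisation sense (around each point of X, f is locally of finite type and factors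
as a Koszul-regular immersion followed by a smooth morphism) if and only if f is a
complete-intersection morphism in the fibrewise sense: flat, locally of finite presentation, and
every local ring of every fibre is a complete intersection (its completion is a regular local ring
modulo a regular sequence). -/
theorem result {X Y : Scheme.{u}} (f : X ⟶ Y) [Flat f] [LocallyOfFinitePresentation f] :
    (∀ x : X, Synt.IsKoszulAt f x) ↔ CInt.IsCIMorphism f := by
  classical
  have hlft : LocallyOfFiniteType f := inferInstance
  have hlftfib : ∀ s : Y, LocallyOfFiniteType (f.fiberToSpecResidueField s) := fun s =>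
    MorphismProperty.pullback_snd (P := @LocallyOfFiniteType) _ _ inferInstance
  constructor
  · intro hK
    refine ⟨inferInstance, inferInstance, fun x => ?_⟩
    have hsyn : Synt.IsSyntomicMor f := (Groth.Agent.S9758.result f).mp ⟨inferInstance, hK⟩
    have hfib := Groth.Agent.Lib.Helper10.SyntBC.isSyntomicMor_fiberToSpecResidueField f hsyn (f x)
    haveI := hlftfib (f x)
    have tf := Groth.Agent.S9368.result (Y.residueField (f x)) (f.fiber (f x))
      (f.fiberToSpecResidueField (f x))
    have h02 := tf.out 0 2
    have h3 := h02.mp hfib (f.asFiber x)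
    exact (stalk_bridge (Y.residueField (f x)) (f.fiber (f x))
      (f.fiberToSpecResidueField (f x)) (f.asFiber x)).mp h3
  · rintro ⟨-, -, hpi⟩
    have hsyn : Synt.IsSyntomicMor f := by
      refine Groth.Agent.S9365.result f (fun s => ?_)
      haveI := hlftfib s
      have tf := Groth.Agent.S9368.result (Y.residueField s) (f.fiber s)
        (f.fiberToSpecResidueField s)
      have h20 := tf.out 2 0
      refine h20.mp (fun z => ?_)
      refine (stalk_bridge (Y.residueField s) (f.fiber s)
        (f.fiberToSpecResidueField s) z).mpr ?_
      exact forall_fiber f (fun s z => Pi1.IsCompleteIntersection ((f.fiber s).presheaf.stalk z))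
        hpi s z
    exact ((Groth.Agent.S9758.result f).mpr hsyn).2

end Groth.Agent.S8660
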