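import Groth.Statements.S8666
import Groth.Agent.Lib.Helper44.LocGen

set_option autoImplicit false
universe u
open CAlg

namespace Groth.Agent.S8666

/-- Let A be a Noetherian ring, M an invertible A-module and p_1, …, p_k finitely many primes of A
(points of Spec A). Then there is a single element s ∈ M whose image generates M_{p_i} as an
A_{p_i}-module for every i, i.e. s is a basis of the stalk of M at each of the given points. -/
theorem result (A : Type u) [CommRing A] [IsNoetherianRing A]
    (M : Type u) [AddCommGroup M] [Module A M] [Module.Invertible A M] (ι : Type) [Finite ι] (p : ι → PrimeSpectrum A) :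
    ∃ s : M, ∀ i : ι, Submodule.span (Localization.AtPrime (p i).asIdeal)
      {LocalizedModule.mkLinearMap (p i).asIdeal.primeCompl M s} = ⊤ := by
  obtain ⟨s, hs⟩ := Groth.Agent.Lib.Helper44.exists_locGen_of_finite (M := M) p
  exact ⟨s, fun i => Groth.Agent.Lib.Helper44.span_eq_top_of_locGen (p i).asIdeal (hs i)⟩

end Groth.Agent.S8666
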