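import Groth.Statements.S8675
-- import your own Groth.Agent.* helpers here
import Groth.Agent.Lib.Helper51.OmegaUniv.ConormalIndep
import Groth.Agent.Lib.Helper51.OmegaUniv.RestrictRetract
import Groth.Agent.Lib.Helper10.LciTrans
import Groth.Agent.Lib.Helper10.RegImmDescent

set_option autoImplicit false
universe u
open CategoryTheory CategoryTheory.Limits AlgebraicGeometry
open RegImm

namespace Groth.Agent.S8675

/-- Let i : Y ⟶ X and j : Z ⟶ Y be closed immersions such that i and j ≫ i are Koszul-regular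
immersions. Let φ₁ : j^* N_{Y/X} ⟶ N_{Z/X} and φ₂ : N_{Z/X} ⟶ N_{Z/Y} be the canonical maps between
conormal sheaves (pinned by their values on classes of local sections of the ideals). If 0 → j^*
N_{Y/X} → N_{Z/X} → N_{Z/Y} → 0 is a short exact sequence which is locally split (locally on Z, φ₁
admits a retraction), then j is a Koszul-regular immersion. (The published statement allows
arbitrary immersions and reduces to closed ones locally; this row takes closed immersions.) -/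
theorem result {X Y Z : Scheme.{u}}
    (i : Y ⟶ X) [IsClosedImmersion i] (j : Z ⟶ Y) [IsClosedImmersion j]
    (hi : RegImm.IsRegularImmersion .koszul i) (hij : RegImm.IsRegularImmersion .koszul (j ≫ i))
    (φ₁ : (Scheme.Modules.pullback j).obj (Omega.conormal i) ⟶ Omega.conormal (j ≫ i))
    (hφ₁ : OmegaSh.IsConormalMap (j ≫ i) i (𝟙 X) j φ₁)
    (φ₂ : (Scheme.Modules.pullback (𝟙 Z)).obj (Omega.conormal (j ≫ i)) ⟶ Omega.conormal j)
    (hφ₂ : OmegaSh.IsConormalMap j (j ≫ i) i (𝟙 Z) φ₂)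
    (w : φ₁ ≫ ((Scheme.Modules.pullbackId Z).inv.app (Omega.conormal (j ≫ i)) ≫ φ₂) = 0)
    (hex : (ShortComplex.mk φ₁ ((Scheme.Modules.pullbackId Z).inv.app (Omega.conormal (j ≫ i)) ≫ φ₂) w).ShortExact)
    (hsplit : ∀ z : Z, ∃ (U : Z.Opens) (ρ : (Scheme.Modules.restrictFunctor U.ι).obj (Omega.conormal (j ≫ i)) ⟶
        (Scheme.Modules.restrictFunctor U.ι).obj ((Scheme.Modules.pullback j).obj (Omega.conormal i))),
        z ∈ U ∧ (Scheme.Modules.restrictFunctor U.ι).map φ₁ ≫ ρ = 𝟙 _) :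
    RegImm.IsRegularImmersion .koszul j := by
  classical
  refine ⟨inferInstance, fun z => ?_⟩
  obtain ⟨UZ, ρ, hzUZ, hρ⟩ := hsplit z
  obtain ⟨U₁, hx₁, hcl₁, fs, hfs, hker₁⟩ := hi.2 (j z)
  have hemb : Topology.IsEmbedding (j ≫ i) := (j ≫ i).isEmbedding
  obtain ⟨O, hO⟩ : ∃ O : X.Opens, (j ≫ i) ⁻¹ᵁ O = UZ := by
    obtain ⟨O, hOo, hOe⟩ := hemb.isInducing.isOpen_iff.mp UZ.2
    exact ⟨⟨O, hOo⟩, TopologicalSpace.Opens.ext hOe⟩
  have hxO : i (j z) ∈ O := by
    have h1 : z ∈ (j ≫ i) ⁻¹ᵁ O := by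
      rw [hO]
      exact hzUZ
    exact h1
  obtain ⟨a, haO, hxa⟩ := U₁.2.exists_basicOpen_le (V := O) ⟨i (j z), hxO⟩ hx₁
  have hD : IsAffineOpen (X.basicOpen a) := U₁.2.basicOpen a
  obtain ⟨hclD, hkerD, hflatD⟩ := Groth.Agent.Lib.Helper10.RegImmDescent.restrictData i U₁.2 hD (X.basicOpen_le a) hcl₁
  have hfsD : LCI.IsKoszulRegularSeq Γ(X, X.basicOpen a)
      (fs.map (X.presheaf.map (homOfLE (X.basicOpen_le a)).op).hom) :=
    Groth.Agent.Lib.Helper10.RegDescentKoszul.koszulKind.map_flat _ hflatD fs hfs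
  have hkerD' : RingHom.ker (i.app (X.basicOpen a)).hom =
      Ideal.ofList (fs.map (X.presheaf.map (homOfLE (X.basicOpen_le a)).op).hom) := by
    rw [hkerD, hker₁, Ideal.map_ofList]
  obtain ⟨hDY, hsurjAB⟩ := Groth.Agent.Lib.Helper10.RegImmBaseChange.app_surjective_of_restrict i (X.basicOpen a) hD hclD
  have hclD' : IsClosedImmersion ((j ≫ i) ∣_ X.basicOpen a) := inferInstance
  obtain ⟨hW, hsurjAC⟩ := Groth.Agent.Lib.Helper10.RegImmBaseChange.app_surjective_of_restrict (j ≫ i) (X.basicOpen a) hD hclD'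
  have hclj : IsClosedImmersion (j ∣_ (i ⁻¹ᵁ X.basicOpen a)) := inferInstance
  have hlocK : Groth.Agent.Lib.Helper10.RegDescent.IsLoc Groth.Agent.Lib.Helper10.RegDescentKoszul.koszulKind (RingHom.ker ((j ≫ i).app (X.basicOpen a)).hom) :=
    Groth.Agent.Lib.Helper10.RegImmDescent.isLoc_ker (K := Groth.Agent.Lib.Helper10.RegDescentKoszul.koszulKind) (j ≫ i) hij.2 hD hclD'
  have hcomap : (RingHom.ker (j.app (i ⁻¹ᵁ X.basicOpen a)).hom).comap (i.app (X.basicOpen a)).hom =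
      RingHom.ker ((j ≫ i).app (X.basicOpen a)).hom := by
    ext x
    rfl
  have hWUZ : j ⁻¹ᵁ (i ⁻¹ᵁ X.basicOpen a) ≤ UZ := by
    rw [← hO]
    intro y hy
    exact haO hy
  obtain ⟨r, hr⟩ := Groth.Agent.Lib.Helper51.OmegaUniv.exists_linear_retraction_of_restrict φ₁ UZ ρ hρ _ hWUZ
  have hlocJ : Groth.Agent.Lib.Helper10.RegDescent.IsLoc Groth.Agent.Lib.Helper10.RegDescentKoszul.koszulKind (RingHom.ker (j.app (i ⁻¹ᵁ X.basicOpen a)).hom) := by
    refine Groth.Agent.Lib.Helper10.LciTrans.isLoc_of_comap (i.app (X.basicOpen a)).hom hsurjAB _ hkerD' hfsD _ ?_ (by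
      rw [hcomap]
      exact hlocK)
    intro 𝔮 hJ𝔮 c hc
    rw [hcomap] at hc
    exact Groth.Agent.Lib.Helper51.OmegaUniv.indep_of_conormal_retraction i j hφ₁ hD hDY hW hsurjAC r hr _
      (Groth.Agent.Lib.Helper10.KoszulH1.isH1Regular_of_isKoszulRegularSeq _ hfsD)
      (by rw [hkerD', Groth.Agent.Lib.Helper10.KoszulMinGen.span_range_get]) (𝔮.asIdeal.comap (i.app (X.basicOpen a)).hom)
      (by rw [← hcomap]; exact Ideal.comap_mono hJ𝔮) c hc
  exact Groth.Agent.Lib.Helper10.RegImmDescent.hasDataAt_of_isLoc (K := Groth.Agent.Lib.Helper10.RegDescentKoszul.koszulKind) j hDY hclj hlocJ z hxa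

end Groth.Agent.S8675
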