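import Groth.Statements.S8678
import Groth.Agent.Lib.Helper44.LambdaBasic
import Mathlib.RingTheory.Ideal.Quotient.Operations

set_option autoImplicit false
universe u
open Finset
open LambdaRing

namespace Groth.Agent.S8678

/-- As the identity it proves in the pre-λ-ring K(Y') of the exceptional divisor: let K be a pre-λ-ring
(λ^0 = 1, λ^1 = id, additive formula) with λ^k(1) = 0 for all k ≥ 2, let d ≥ 2, and let F, L, N' ∈ K
satisfy λ^j(L) = 0 for j ≥ 2 (L is the class of an invertible module), λ^i(N') = 0 for i ≥ d − 1 (N'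
is the class of a bundle of rank d − 2) and F + L = N' + 2 (for the blowing up of a regular
immersion of codimension d: on the exceptional divisor the pulled-back conormal class is F + L, and
N = N' + 2). Then 1 − L divides λ_{−1}(F) = Σ_{i<d} (−1)^i λ^i(F). (The published proof uses only
additivity of λ_t and λ_t(1) = 1 + t, the hypotheses taken here.) -/
theorem result (K : Type u) [CommRing K] [LambdaRing.LambdaOps K]
    (h1 : ∀ k : ℕ, 2 ≤ k → LambdaRing.LambdaOps.lam k (1 : K) = 0) (d : ℕ) (hd : 2 ≤ d) (F L N' : K)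
    (hL : ∀ j : ℕ, 2 ≤ j → LambdaRing.LambdaOps.lam j L = 0) (hN' : ∀ i : ℕ, d - 1 ≤ i → LambdaRing.LambdaOps.lam i N' = 0)
    (hrel : F + L = N' + 2) :
    (1 - L) ∣ ∑ i ∈ range d, (-1 : K) ^ i * LambdaRing.LambdaOps.lam i F := by
  open Groth.Agent.Lib.Helper44 PowerSeries in
  -- work in the quotient by `(1 - L)`
  let I : Ideal K := Ideal.span {1 - L}
  let π : K →+* K ⧸ I := Ideal.Quotient.mk I
  have hπL : π L = 1 := by
    have : π (1 - L) = 0 := Ideal.Quotient.eq_zero_iff_mem.mpr (Ideal.mem_span_singleton_self _)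
    rw [map_sub, map_one, sub_eq_zero] at this
    exact this.symm
  rw [← Ideal.mem_span_singleton, ← Ideal.Quotient.eq_zero_iff_mem]
  change π _ = 0
  -- the power series identity
  have h2 : lamSeries F * (1 + C L * X) = lamSeries N' * (1 + X) ^ 2 := by
    rw [← lamSeries_of_line L hL, ← lamSeries_add, hrel, lamSeries_add]
    have : (2 : K) = ((2 : ℕ) : K) := by norm_num
    rw [this, lamSeries_natCast h1]
  have h3 : PowerSeries.map π (lamSeries F) * (1 + X) = PowerSeries.map π (lamSeries N') * (1 + X) * (1 + X) := by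
    have := congrArg (PowerSeries.map π) h2
    simp only [map_mul, map_add, map_one, PowerSeries.map_C, PowerSeries.map_X, hπL, map_pow] at this
    rw [one_mul] at this
    rw [this]
    ring
  have hu : IsUnit (1 + X : PowerSeries (K ⧸ I)) := by
    rw [PowerSeries.isUnit_iff_constantCoeff]
    simp
  have h4 : PowerSeries.map π (lamSeries F) = PowerSeries.map π (lamSeries N') * (1 + X) :=
    hu.mul_right_cancel h3
  have h5 : ∀ i : ℕ, π (LambdaRing.LambdaOps.lam i F) =
      π (LambdaRing.LambdaOps.lam i N') + if i = 0 then 0 else π (LambdaRing.LambdaOps.lam (i - 1) N') := by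
    intro i
    have := congrArg (PowerSeries.coeff i) h4
    rw [PowerSeries.coeff_map, coeff_lamSeries] at this
    rw [this, mul_add, mul_one, map_add, PowerSeries.coeff_map, coeff_lamSeries]
    rcases i with _ | i
    · simp
    · simp [PowerSeries.coeff_succ_mul_X, PowerSeries.coeff_map, coeff_lamSeries]
  obtain ⟨m, rfl⟩ : ∃ m, d = m + 1 := ⟨d - 1, by omega⟩
  rw [map_sum]
  simp only [map_mul, map_pow, map_neg, map_one, h5]
  rw [sum_alt_telescope (fun i => π (LambdaRing.LambdaOps.lam i N')) m, hN' m (by omega), map_zero, mul_zero]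

end Groth.Agent.S8678
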