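import Groth.Statements.S8679
-- import your own Groth.Agent.* helpers here
import Groth.Agent.Lib.Helper51.OmegaUniv.ConormalH1
import Groth.Agent.Lib.Helper51.OmegaUniv.DiffCompatIso
import Groth.Agent.Lib.Helper51.OmegaUniv.ExactCover
import Groth.Agent.Lib.Helper10.RegImmKinds

set_option autoImplicit false
universe u
open CategoryTheory CategoryTheory.Limits AlgebraicGeometry
open RegImm

namespace Groth.Agent.S8679

/-- Let i : Y ⟶ X and j : Z ⟶ Y be Koszul-regular closed immersions and let φ₁ : j^* N_{Y/X} ⟶ N_{Z/X},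
φ₂ : N_{Z/X} ⟶ N_{Z/Y} be the canonical maps between conormal sheaves (pinned by their values on
classes of local sections of the ideals). Then the composite is zero and 0 → j^* N_{Y/X} → N_{Z/X} →
N_{Z/Y} → 0 is short exact. (The published statement allows arbitrary immersions; this row takes
closed immersions.) -/
theorem result {X Y Z : Scheme.{u}}
    (i : Y ⟶ X) [IsClosedImmersion i] (j : Z ⟶ Y) [IsClosedImmersion j]
    (hi : RegImm.IsRegularImmersion .koszul i) (hj : RegImm.IsRegularImmersion .koszul j)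
    (φ₁ : (Scheme.Modules.pullback j).obj (Omega.conormal i) ⟶ Omega.conormal (j ≫ i))
    (hφ₁ : OmegaSh.IsConormalMap (j ≫ i) i (𝟙 X) j φ₁)
    (φ₂ : (Scheme.Modules.pullback (𝟙 Z)).obj (Omega.conormal (j ≫ i)) ⟶ Omega.conormal j)
    (hφ₂ : OmegaSh.IsConormalMap j (j ≫ i) i (𝟙 Z) φ₂) :
    ∃ w : φ₁ ≫ ((Scheme.Modules.pullbackId Z).inv.app (Omega.conormal (j ≫ i)) ≫ φ₂) = 0,
      (ShortComplex.mk φ₁ ((Scheme.Modules.pullbackId Z).inv.app (Omega.conormal (j ≫ i)) ≫ φ₂) w).ShortExact := by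
  have hj1 : RegImm.IsRegularImmersion RegImm.Kind.h1 j :=
    Groth.Agent.Lib.Helper10.RegImmKinds.isRegularImmersion_mono
      (fun R _ rs h => Groth.Agent.Lib.Helper10.RegImmKinds.seq_koszul_h1 R rs h) j hj
  have hqf : (Omega.conormal i).IsQuasicoherent :=
    Groth.Agent.Lib.Helper16.FlatPull.isQuasicoherent_pullback i (ClSub.idealMod i.ker)
  have hq₁ : ((Scheme.Modules.pullback j).obj (Omega.conormal i)).IsQuasicoherent :=
    Groth.Agent.Lib.Helper16.FlatPull.isQuasicoherent_pullback j (Omega.conormal i)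
  have hq₂ : (Omega.conormal (j ≫ i)).IsQuasicoherent :=
    Groth.Agent.Lib.Helper16.FlatPull.isQuasicoherent_pullback (j ≫ i)
      (ClSub.idealMod (j ≫ i).ker)
  have hq₂' : ((𝟭 Z.Modules).obj (Omega.conormal (j ≫ i))).IsQuasicoherent := hq₂
  have hq₃ : (Omega.conormal j).IsQuasicoherent :=
    Groth.Agent.Lib.Helper16.FlatPull.isQuasicoherent_pullback j (ClSub.idealMod j.ker)
  have w : φ₁ ≫ ((Scheme.Modules.pullbackId Z).inv.app (Omega.conormal (j ≫ i)) ≫ φ₂) = 0 :=
    Groth.Agent.Lib.Helper51.OmegaUniv.conormal_triple_comp_zero i j hφ₁ hφ₂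
  have chart : ∀ z : Z, ∃ W : Z.Opens, IsAffineOpen W ∧ z ∈ W ∧
      Function.Surjective (((Scheme.Modules.pullbackId Z).inv.app (Omega.conormal (j ≫ i)) ≫
        φ₂).app W) ∧
      (∀ n : Γ(Omega.conormal (j ≫ i), W),
        ((Scheme.Modules.pullbackId Z).inv.app (Omega.conormal (j ≫ i)) ≫ φ₂).app W n = 0 →
          ∃ m, φ₁.app W m = n) ∧ Function.Injective (φ₁.app W) := by
    intro z
    obtain ⟨V, hV, hzV, hU, hAB, hW, hAC, c, g, hg, hspan⟩ :=
      Groth.Agent.Lib.Helper51.OmegaUniv.exists_triple_h1_chart i j z (hj1.2 z)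
    obtain ⟨hs, he⟩ := Groth.Agent.Lib.Helper51.OmegaUniv.conormal_triple_chart i j hφ₁ hφ₂
      hV hU hAB hW hAC
    exact ⟨j ⁻¹ᵁ (i ⁻¹ᵁ V), hW, hzV, hs, he,
      Groth.Agent.Lib.Helper51.OmegaUniv.conormalMap₁_app_injective_chart i j hφ₁ hV hU hAB hW hAC
        g hg hspan⟩
  refine ⟨w, ?_⟩
  have hepi : Epi ((Scheme.Modules.pullbackId Z).inv.app (Omega.conormal (j ≫ i)) ≫ φ₂) := by
    apply Groth.Agent.Lib.Helper51.OmegaUniv.epi_of_app_surjective_of_cover
    intro z
    obtain ⟨W, hW, hzW, hs, -, -⟩ := chart z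
    exact ⟨W, hW, hzW, hs⟩
  have hex : (ShortComplex.mk φ₁
      ((Scheme.Modules.pullbackId Z).inv.app (Omega.conormal (j ≫ i)) ≫ φ₂) w).Exact := by
    apply Groth.Agent.Lib.Helper51.OmegaUniv.exact_of_app_exact_of_cover
    intro z
    obtain ⟨W, hW, hzW, -, he, -⟩ := chart z
    exact ⟨W, hW, hzW, he⟩
  have hmono : Mono φ₁ := by
    apply Groth.Agent.Lib.Helper51.OmegaUniv.mono_of_app_injective_of_cover
    intro z
    obtain ⟨W, hW, hzW, -, -, hinj⟩ := chart z
    exact ⟨W, hW, hzW, hinj⟩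
  exact { exact := hex, mono_f := hmono, epi_g := hepi }

end Groth.Agent.S8679
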