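import Groth.Statements.S8697
import Groth.Agent.Lib.Helper44.GammaMap

set_option autoImplicit false
universe u v
open Finset
open LambdaRing

namespace Groth.Agent.S8697

/-- Let K be a binomial ring with its binomial λ-structure and B a λ-ring in the strict sense which is
an augmented K-λ-algebra with augmentation ε. Let x ∈ B satisfy ε(x) = 0 and γ^k(x) = 0 for every k
> n, and assume that γ^1(x), …, γ^n(x) are algebraically independent over K and generate B as a
K-algebra — so B is the K-λ-algebra generated by one element subject to the relations γ^k = 0 for k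
> n, a polynomial ring K[γ^1 x, …, γ^n x]. Then for every k, the k-th ideal Fil^k B of the
γ-filtration (generated by the products of γ^{i}(z), ε(z) = 0, of total weight ≥ k) is the ideal
generated by the monomials ∏_j (γ^j x)^{e_j} with Σ_j j·e_j ≥ k: the λ-ring filtration is the
filtration by the weight in the γ^j x. (With λ in place of γ — relations λ^k x = 0 for k > n and
weights in the λ^j x — the assertion fails already for n = 1, where γ^i(x) = x for all i ≥ 1 puts x
in every Fil^k while x is not in the ideal (x²); the form with γ stated here is the one the proof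
establishes.) The hypotheses hP and hQ, existence of the universal polynomials, are true statements
carried so that the identities of B can be used at every index. -/
theorem result
    (K : Type u) [CommRing K] [LambdaRing.LambdaOps K] [BinomialRing K] (hKb : LambdaRing.IsBinomial K)
    (hK : LambdaRing.IsSpecial K)
    (B : Type v) [CommRing B] [LambdaRing.LambdaOps B] [Algebra K B] (hB : LambdaRing.IsSpecial B)
    (hP : ∀ n : ℕ, ∃ P : MvPolynomial (Fin n ⊕ Fin n) ℤ, LambdaRing.IsMulPoly n P)
    (hQ : ∀ i j : ℕ, ∃ Q : MvPolynomial (Fin (i * j)) ℤ, LambdaRing.IsCompPoly i j Q)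
    (ε : B →ₐ[K] K) (hε : LambdaRing.IsAugLambdaAlg K B ε)
    (n : ℕ) (x : B) (hx : ε x = 0) (hγ : ∀ k : ℕ, n < k → LambdaRing.gamma k x = 0)
    (hind : AlgebraicIndependent K (fun j : Fin n => LambdaRing.gamma ((j : ℕ) + 1) x))
    (hgen : Algebra.adjoin K (Set.range fun j : Fin n => LambdaRing.gamma ((j : ℕ) + 1) x) = ⊤)
    (k : ℕ) :
    LambdaRing.gammaFil (ε : B →+* K) k =
      Ideal.span {m : B | ∃ e : Fin n → ℕ, k ≤ ∑ j : Fin n, ((j : ℕ) + 1) * e j ∧
        m = ∏ j : Fin n, LambdaRing.gamma ((j : ℕ) + 1) x ^ e j} := by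
  classical
  open Groth.Agent.Lib.Helper44 in
  have hmapγ : ∀ (i : ℕ) (b : B), ε (LambdaRing.gamma i b) = LambdaRing.gamma i (ε b) := fun i b =>
    map_gamma_of_map_lam (ε : B →+* K) hε.map_lam i b
  have hεg : ∀ j : Fin n, ε (LambdaRing.gamma ((j : ℕ) + 1) x) = 0 := by
    intro j
    rw [hmapγ, hx, gamma_succ_zero]
  -- the weight filtration
  set W : ℕ → Ideal B := fun k => Ideal.span {m : B | ∃ e : Fin n → ℕ,
    k ≤ ∑ j : Fin n, ((j : ℕ) + 1) * e j ∧
      m = ∏ j : Fin n, LambdaRing.gamma ((j : ℕ) + 1) x ^ e j} with hWdef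
  have hW0 : W 0 = ⊤ := by
    rw [Ideal.eq_top_iff_one]
    exact Ideal.subset_span ⟨fun _ => 0, Nat.zero_le _, by simp⟩
  have hWanti : ∀ a b, a ≤ b → W b ≤ W a := by
    intro a b hab
    apply Ideal.span_mono
    rintro m ⟨e, he, rfl⟩
    exact ⟨e, le_trans hab he, rfl⟩
  have hWmul : ∀ a b x y, x ∈ W a → y ∈ W b → x * y ∈ W (a + b) := by
    intro a b x' y' hx' hy'
    have h := Ideal.mul_mem_mul hx' hy'
    rw [hWdef] at h
    simp only at h
    rw [Ideal.span_mul_span'] at h
    refine Ideal.span_mono ?_ h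
    rw [Set.mul_subset_iff]
    rintro _ ⟨e, he, rfl⟩ _ ⟨e', he', rfl⟩
    refine ⟨e + e', ?_, ?_⟩
    · simp only [Pi.add_apply, mul_add, Finset.sum_add_distrib]
      exact Nat.add_le_add he he'
    · simp only [Pi.add_apply, pow_add, Finset.prod_mul_distrib]
  have hgW : ∀ i, LambdaRing.gamma (i + 1) x ∈ W (i + 1) := by
    intro i
    by_cases hi : i < n
    · apply Ideal.subset_span
      refine ⟨Pi.single ⟨i, hi⟩ 1, ?_, ?_⟩
      · rw [Finset.sum_eq_single (⟨i, hi⟩ : Fin n)]
        · simp
        · intro j _ hj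
          rw [Pi.single_eq_of_ne hj, mul_zero]
        · intro h; exact absurd (Finset.mem_univ _) h
      · rw [Finset.prod_eq_single (⟨i, hi⟩ : Fin n)]
        · simp
        · intro j _ hj
          rw [Pi.single_eq_of_ne hj, pow_zero]
        · intro h; exact absurd (Finset.mem_univ _) h
    · rw [hγ (i + 1) (by omega)]
      exact Ideal.zero_mem _
  apply le_antisymm
  · -- `Fil^k ⊆ W k`
    refine Groth.Agent.Lib.Helper44.gammaFil_le_of_span hKb hB ε hε W hW0 hWanti hWmul ?_ k
    intro z hz
    have hsurj : z ∈ (MvPolynomial.aeval (R := K)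
        (fun j : Fin n => LambdaRing.gamma ((j : ℕ) + 1) x)).range := by
      rw [← Algebra.adjoin_range_eq_range_aeval, hgen]
      trivial
    obtain ⟨p, hp⟩ := hsurj
    have hp' : MvPolynomial.aeval (fun j : Fin n => LambdaRing.gamma ((j : ℕ) + 1) x) p = z := hp
    subst hp'
    -- the constant coefficient of `p` vanishes
    have hc : MvPolynomial.constantCoeff p = 0 := by
      have h1 : ε (MvPolynomial.aeval (fun j : Fin n => LambdaRing.gamma ((j : ℕ) + 1) x) p) =
          MvPolynomial.aeval (fun j : Fin n => ε (LambdaRing.gamma ((j : ℕ) + 1) x)) p := by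
        rw [← AlgHom.comp_apply, MvPolynomial.comp_aeval]
      rw [h1] at hz
      have h2 : (fun j : Fin n => ε (LambdaRing.gamma ((j : ℕ) + 1) x)) = 0 := funext hεg
      rw [h2, MvPolynomial.aeval_zero] at hz
      simpa using hz
    rw [← p.support_sum_monomial_coeff, map_sum]
    refine Submodule.sum_mem _ fun d hd => ?_
    have hd0 : d ≠ 0 := by
      rintro rfl
      rw [MvPolynomial.mem_support_iff, ← MvPolynomial.constantCoeff_eq] at hd
      exact hd hc
    rw [MvPolynomial.aeval_monomial, ← Algebra.smul_def]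
    apply Submodule.smul_mem
    apply Submodule.subset_span
    -- the monomial `μ_d` is good
    intro i
    have hF : MvPolynomial.rename (fun j : Fin n => (((), (j : ℕ)) : Unit × ℕ))
        (MvPolynomial.monomial d (1 : ℤ)) ∈
        Groth.Agent.Lib.Helper44.wfil ℤ (fun v : Unit × ℕ => v.2 + 1) 1 := by
      apply Groth.Agent.Lib.Helper44.rename_mem_wfil
      apply Groth.Agent.Lib.Helper44.monomial_mem_wfil
      obtain ⟨j, hj⟩ : ∃ j, d j ≠ 0 := by
        by_contra hcon
        push Not at hcon
        exact hd0 (Finsupp.ext hcon)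
      have := Finsupp.le_weight_of_ne_zero'
        (w := (fun v : Unit × ℕ => v.2 + 1) ∘ fun j : Fin n => (((), (j : ℕ)) : Unit × ℕ)) hj
      simp only [Function.comp_apply] at this
      omega
    have hgood := Groth.Agent.Lib.Helper44.gamma_evGam_mem_self (ι := Unit) hB W hW0 hWanti hWmul
      (fun _ => x) (fun _ i => hgW i) hF i
    have heval : Groth.Agent.Lib.Helper44.evGam (fun _ : Unit => x)
        (MvPolynomial.rename (fun j : Fin n => (((), (j : ℕ)) : Unit × ℕ))
          (MvPolynomial.monomial d (1 : ℤ))) =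
        d.prod fun j e => LambdaRing.gamma ((j : ℕ) + 1) x ^ e := by
      rw [Groth.Agent.Lib.Helper44.evGam_eq_aeval, MvPolynomial.aeval_rename,
        MvPolynomial.aeval_monomial, map_one, one_mul]
      rfl
    rwa [heval] at hgood
  · -- `W k ⊆ Fil^k`
    rw [Ideal.span_le]
    rintro m ⟨e, he, rfl⟩
    apply Groth.Agent.Lib.Helper44.gammaFil_anti (ε : B →+* K) he
    refine Groth.Agent.Lib.Helper44.prod_mem_of_mul (LambdaRing.gammaFil (ε : B →+* K))
      (Groth.Agent.Lib.Helper44.gammaFil_zero _)
      (fun _ _ _ _ hx hy => Groth.Agent.Lib.Helper44.mul_mem_gammaFil _ hx hy) Finset.univ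
      (fun j : Fin n => LambdaRing.gamma ((j : ℕ) + 1) x ^ e j) (fun j => ((j : ℕ) + 1) * e j) ?_
    intro j _
    exact Groth.Agent.Lib.Helper44.pow_mem_of_mul (LambdaRing.gammaFil (ε : B →+* K))
      (Groth.Agent.Lib.Helper44.gammaFil_zero _)
      (fun _ _ _ _ hx hy => Groth.Agent.Lib.Helper44.mul_mem_gammaFil _ hx hy)
      (Groth.Agent.Lib.Helper44.gamma_mem_gammaFil_of_aug_eq_zero (ε : B →+* K) hx _) (e j)

end Groth.Agent.S8697
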