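import Groth.Statements.S8698
import Groth.Agent.Lib.Helper44.GammaFilMap

set_option autoImplicit false
universe u v w
open Finset
open LambdaRing

namespace Groth.Agent.S8698

/-- Let K be a binomial ring with its binomial λ-structure, A a λ-ring in the strict sense which is an
augmented K-λ-algebra with augmentation ε_A, and B a λ-ring in the strict sense which is at once an
augmented K-λ-algebra with augmentation ε_B and an A-algebra compatibly with the K-structures, the
structure map A → B commuting with the λ^n and ε_B restricting to ε_A on A. Let x ∈ B with ε_B(x) =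
0, and assume that the family (γ^{j+1} x)_{j ∈ ℕ} is algebraically independent over A and generates
B as an A-algebra: B is the free λ-ring A[X, γ^2 X, γ^3 X, …] on one generator over A, augmented by
X ↦ 0. Then for every k the k-th ideal Fil^k B of the γ-filtration of B is the ideal generated by
the products a · m where m = ∏_j (γ^{j+1} x)^{e_j} is a monomial of weight i = Σ_j (j+1) e_j and a
lies in (the image of) Fil^{k−i} A, with Fil^s A = A for s ≤ 0; that is, Fil^k B = Fil^k A +
Fil^{k−1} A·M_1 + ⋯ + Fil^0 A·M_k + (monomials of weight > k), M_i denoting the monomials of weight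
i. The hypotheses hP and hQ, existence of the universal polynomials, are true statements carried so
that the identities of A and B can be used at every index. -/
theorem result
    (K : Type u) [CommRing K] [LambdaRing.LambdaOps K] [BinomialRing K] (hKb : LambdaRing.IsBinomial K)
    (hK : LambdaRing.IsSpecial K)
    (A : Type v) [CommRing A] [LambdaRing.LambdaOps A] [Algebra K A] (hA : LambdaRing.IsSpecial A)
    (εA : A →ₐ[K] K) (hεA : LambdaRing.IsAugLambdaAlg K A εA)
    (B : Type w) [CommRing B] [LambdaRing.LambdaOps B] [Algebra K B] [Algebra A B] [IsScalarTower K A B]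
    (hB : LambdaRing.IsSpecial B) (hAB : LambdaRing.IsLambdaAlg A B)
    (εB : B →ₐ[K] K) (hεB : LambdaRing.IsAugLambdaAlg K B εB) (hεAB : ∀ a : A, εB (algebraMap A B a) = εA a)
    (hP : ∀ n : ℕ, ∃ P : MvPolynomial (Fin n ⊕ Fin n) ℤ, LambdaRing.IsMulPoly n P)
    (hQ : ∀ i j : ℕ, ∃ Q : MvPolynomial (Fin (i * j)) ℤ, LambdaRing.IsCompPoly i j Q)
    (x : B) (hx : εB x = 0)
    (hind : AlgebraicIndependent A (fun j : ℕ => LambdaRing.gamma (j + 1) x))
    (hgen : Algebra.adjoin A (Set.range fun j : ℕ => LambdaRing.gamma (j + 1) x) = ⊤)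
    (k : ℕ) :
    LambdaRing.gammaFil (εB : B →+* K) k =
      Ideal.span {b : B | ∃ (e : ℕ →₀ ℕ) (a : A),
        a ∈ LambdaRing.gammaFil (εA : A →+* K) (k - e.sum fun j n => (j + 1) * n) ∧
        b = algebraMap A B a * e.prod fun j n => LambdaRing.gamma (j + 1) x ^ n} := by
  classical
  have hmapγB : ∀ (i : ℕ) (b : B), εB (LambdaRing.gamma i b) = LambdaRing.gamma i (εB b) := fun i b =>
    Groth.Agent.Lib.Helper44.map_gamma_of_map_lam (εB : B →+* K) hεB.map_lam i b
  have hmapγAB : ∀ (i : ℕ) (a : A), algebraMap A B (LambdaRing.gamma i a) =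
      LambdaRing.gamma i (algebraMap A B a) := fun i a =>
    Groth.Agent.Lib.Helper44.map_gamma_of_map_lam (algebraMap A B) hAB i a
  have hεg : ∀ j : ℕ, εB (LambdaRing.gamma (j + 1) x) = 0 := by
    intro j
    rw [hmapγB, hx, Groth.Agent.Lib.Helper44.gamma_succ_zero]
  have hFilA0 : LambdaRing.gammaFil (εA : A →+* K) 0 = ⊤ :=
    Groth.Agent.Lib.Helper44.gammaFil_zero _
  -- the filtration `W`
  set W : ℕ → Ideal B := fun k => Ideal.span {b : B | ∃ (e : ℕ →₀ ℕ) (a : A),
        a ∈ LambdaRing.gammaFil (εA : A →+* K) (k - e.sum fun j n => (j + 1) * n) ∧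
        b = algebraMap A B a * e.prod fun j n => LambdaRing.gamma (j + 1) x ^ n} with hWdef
  have hW0 : W 0 = ⊤ := by
    rw [Ideal.eq_top_iff_one]
    refine Ideal.subset_span ⟨0, 1, ?_, ?_⟩
    · rw [Finsupp.sum_zero_index, Nat.sub_zero, hFilA0]; trivial
    · rw [Finsupp.prod_zero_index, map_one, mul_one]
  have hWanti : ∀ a b, a ≤ b → W b ≤ W a := by
    intro a b hab
    apply Ideal.span_mono
    rintro m ⟨e, c, hc, rfl⟩
    exact ⟨e, c, Groth.Agent.Lib.Helper44.gammaFil_anti _ (Nat.sub_le_sub_right hab _) hc, rfl⟩
  have hWmul : ∀ a b x y, x ∈ W a → y ∈ W b → x * y ∈ W (a + b) := by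
    intro a b x' y' hx' hy'
    have h := Ideal.mul_mem_mul hx' hy'
    rw [hWdef] at h
    simp only at h
    rw [Ideal.span_mul_span'] at h
    refine Ideal.span_mono ?_ h
    rw [Set.mul_subset_iff]
    rintro _ ⟨e, c, hc, rfl⟩ _ ⟨e', c', hc', rfl⟩
    refine ⟨e + e', c * c', ?_, ?_⟩
    · rw [Finsupp.sum_add_index' (fun j => by simp) (fun j n n' => by ring)]
      refine Groth.Agent.Lib.Helper44.gammaFil_anti _ ?_
        (Groth.Agent.Lib.Helper44.mul_mem_gammaFil _ hc hc')
      omega
    · rw [Finsupp.prod_add_index' (fun j => pow_zero _) (fun j n n' => pow_add _ _ _), map_mul]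
      ring
  have hAW : ∀ (a : A) (i : ℕ), a ∈ LambdaRing.gammaFil (εA : A →+* K) i →
      algebraMap A B a ∈ W i := by
    intro a i ha
    refine Ideal.subset_span ⟨0, a, ?_, ?_⟩
    · rw [Finsupp.sum_zero_index, Nat.sub_zero]; exact ha
    · rw [Finsupp.prod_zero_index, mul_one]
  have hgW : ∀ i, LambdaRing.gamma (i + 1) x ∈ W (i + 1) := by
    intro i
    refine Ideal.subset_span ⟨Finsupp.single i 1, 1, ?_, ?_⟩
    · rw [Finsupp.sum_single_index (by simp), mul_one, Nat.sub_self, hFilA0]; trivial
    · rw [Finsupp.prod_single_index (h := fun j n => LambdaRing.gamma (j + 1) x ^ n) (pow_zero _),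
        pow_one, map_one, one_mul]
  -- elements of `A` of augmentation zero are good in `B`
  have hgoodA : ∀ a : A, εA a = 0 → ∀ i, LambdaRing.gamma i (algebraMap A B a) ∈ W i := by
    intro a ha i
    rw [← hmapγAB]
    exact hAW _ _ (Groth.Agent.Lib.Helper44.gamma_mem_gammaFil_of_aug_eq_zero (εA : A →+* K) ha i)
  apply le_antisymm
  · -- `Fil^k B ⊆ W k`
    refine Groth.Agent.Lib.Helper44.gammaFil_le_of_span hKb hB εB hεB W hW0 hWanti hWmul ?_ k
    intro z hz
    have hsurj : z ∈ (MvPolynomial.aeval (R := A)
        (fun j : ℕ => LambdaRing.gamma (j + 1) x)).range := by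
      rw [← Algebra.adjoin_range_eq_range_aeval, hgen]
      trivial
    obtain ⟨p, hp⟩ := hsurj
    have hp' : MvPolynomial.aeval (fun j : ℕ => LambdaRing.gamma (j + 1) x) p = z := hp
    subst hp'
    -- the constant coefficient of `p` has augmentation zero
    have hc : εA (MvPolynomial.constantCoeff p) = 0 := by
      have h1 : ((εB : B →+* K).comp
          (MvPolynomial.aeval (R := A) (fun j : ℕ => LambdaRing.gamma (j + 1) x) :
            MvPolynomial ℕ A →+* B)) =
          (εA : A →+* K).comp MvPolynomial.constantCoeff := by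
        apply MvPolynomial.ringHom_ext
        · intro a
          simp only [RingHom.comp_apply, RingHom.coe_coe, MvPolynomial.aeval_C,
            MvPolynomial.constantCoeff_C]
          exact hεAB a
        · intro j
          simp only [RingHom.comp_apply, RingHom.coe_coe, MvPolynomial.aeval_X,
            MvPolynomial.constantCoeff_X, map_zero]
          exact hεg j
      have h2 := RingHom.congr_fun h1 p
      simp only [RingHom.comp_apply, RingHom.coe_coe] at h2
      rw [← h2]
      exact hz
    rw [← p.support_sum_monomial_coeff, map_sum]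
    refine Submodule.sum_mem _ fun d hd => ?_
    rw [MvPolynomial.aeval_monomial]
    by_cases hd0 : d = 0
    · subst hd0
      rw [Finsupp.prod_zero_index, mul_one]
      apply Submodule.subset_span
      exact hgoodA _ (by rw [← MvPolynomial.constantCoeff_eq]; exact hc)
    · -- the monomial `M d` is good
      have hd1 : 1 ≤ Finsupp.weight
          ((fun v : Unit × ℕ => v.2 + 1) ∘ fun j : ℕ => (((), j) : Unit × ℕ)) d := by
        obtain ⟨j, hj⟩ : ∃ j, d j ≠ 0 := by
          by_contra hcon
          push Not at hcon
          exact hd0 (Finsupp.ext hcon)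
        have := Finsupp.le_weight_of_ne_zero'
          (w := (fun v : Unit × ℕ => v.2 + 1) ∘ fun j : ℕ => (((), j) : Unit × ℕ)) hj
        simp only [Function.comp_apply] at this
        omega
      have hMgood : ∀ i, LambdaRing.gamma i
          (d.prod fun j n => LambdaRing.gamma (j + 1) x ^ n) ∈ W i := by
        intro i
        have hF : MvPolynomial.rename (fun j : ℕ => (((), j) : Unit × ℕ))
            (MvPolynomial.monomial d (1 : ℤ)) ∈
            Groth.Agent.Lib.Helper44.wfil ℤ (fun v : Unit × ℕ => v.2 + 1) 1 :=
          Groth.Agent.Lib.Helper44.rename_mem_wfil _ _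
            (Groth.Agent.Lib.Helper44.monomial_mem_wfil _ hd1)
        have hgood := Groth.Agent.Lib.Helper44.gamma_evGam_mem_self (ι := Unit) hB W hW0 hWanti
          hWmul (fun _ => x) (fun _ i => hgW i) hF i
        have heval : Groth.Agent.Lib.Helper44.evGam (fun _ : Unit => x)
            (MvPolynomial.rename (fun j : ℕ => (((), j) : Unit × ℕ))
              (MvPolynomial.monomial d (1 : ℤ))) =
            d.prod fun j e => LambdaRing.gamma (j + 1) x ^ e := by
          rw [Groth.Agent.Lib.Helper44.evGam_eq_aeval, MvPolynomial.aeval_rename,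
            MvPolynomial.aeval_monomial, map_one, one_mul]
          rfl
        rwa [heval] at hgood
      -- split the coefficient
      set c : A := MvPolynomial.coeff d p with hcdef
      set κ : K := εA c with hκ
      have hc' : εA (c - algebraMap K A κ) = 0 := by
        rw [map_sub, AlgHom.commutes, Algebra.algebraMap_self_apply, sub_self]
      have hsplit : algebraMap A B c * (d.prod fun j n => LambdaRing.gamma (j + 1) x ^ n) =
          algebraMap A B (c - algebraMap K A κ) * (d.prod fun j n => LambdaRing.gamma (j + 1) x ^ n) +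
            κ • (d.prod fun j n => LambdaRing.gamma (j + 1) x ^ n) := by
        rw [Algebra.smul_def, IsScalarTower.algebraMap_apply K A B, map_sub]
        ring
      rw [hsplit]
      apply Submodule.add_mem
      · apply Submodule.subset_span
        intro i
        -- two-variable verification principle
        set x' : Bool → B := fun b => if b then x else algebraMap A B (c - algebraMap K A κ)
          with hx'def
        have hx' : ∀ (s : Bool) (i : ℕ), LambdaRing.gamma (i + 1) (x' s) ∈ W (i + 1) := by
          intro s i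
          cases s
          · exact hgoodA _ hc' (i + 1)
          · exact hgW i
        have hF : (MvPolynomial.X ((false, 0) : Bool × ℕ) *
            MvPolynomial.rename (fun j : ℕ => ((true, j) : Bool × ℕ))
            (MvPolynomial.monomial d (1 : ℤ)) : MvPolynomial (Bool × ℕ) ℤ) ∈
            Groth.Agent.Lib.Helper44.wfil ℤ (fun v : Bool × ℕ => v.2 + 1) 1 :=
          Ideal.mul_mem_right _ _
            (Groth.Agent.Lib.Helper44.X_mem_wfil (fun v : Bool × ℕ => v.2 + 1) (false, 0))
        have hgood := Groth.Agent.Lib.Helper44.gamma_evGam_mem_self (ι := Bool) hB W hW0 hWanti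
          hWmul x' hx' hF i
        have heval : Groth.Agent.Lib.Helper44.evGam x'
            (MvPolynomial.X ((false, 0) : Bool × ℕ) *
              MvPolynomial.rename (fun j : ℕ => ((true, j) : Bool × ℕ))
              (MvPolynomial.monomial d (1 : ℤ))) =
            algebraMap A B (c - algebraMap K A κ) *
              d.prod fun j e => LambdaRing.gamma (j + 1) x ^ e := by
          rw [map_mul, Groth.Agent.Lib.Helper44.evGam_X, Groth.Agent.Lib.Helper44.gamma_one',
            Groth.Agent.Lib.Helper44.evGam_eq_aeval, MvPolynomial.aeval_rename,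
            MvPolynomial.aeval_monomial, map_one, one_mul]
          rfl
        rwa [heval] at hgood
      · exact Submodule.smul_mem _ _ (Submodule.subset_span hMgood)
  · -- `W k ⊆ Fil^k B`
    rw [Ideal.span_le]
    rintro m ⟨e, a, ha, rfl⟩
    have h1 : algebraMap A B a ∈ LambdaRing.gammaFil (εB : B →+* K)
        (k - e.sum fun j n => (j + 1) * n) :=
      Groth.Agent.Lib.Helper44.map_mem_gammaFil (εA : A →+* K) (εB : B →+* K) (algebraMap A B) hAB
        hεAB ha
    have h2 : (e.prod fun j n => LambdaRing.gamma (j + 1) x ^ n) ∈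
        LambdaRing.gammaFil (εB : B →+* K) (e.sum fun j n => (j + 1) * n) := by
      rw [Finsupp.prod, Finsupp.sum]
      refine Groth.Agent.Lib.Helper44.prod_mem_of_mul (LambdaRing.gammaFil (εB : B →+* K))
        (Groth.Agent.Lib.Helper44.gammaFil_zero _)
        (fun _ _ _ _ hx hy => Groth.Agent.Lib.Helper44.mul_mem_gammaFil _ hx hy) e.support
        (fun j => LambdaRing.gamma (j + 1) x ^ e j) (fun j => (j + 1) * e j) ?_
      intro j _
      exact Groth.Agent.Lib.Helper44.pow_mem_of_mul (LambdaRing.gammaFil (εB : B →+* K))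
        (Groth.Agent.Lib.Helper44.gammaFil_zero _)
        (fun _ _ _ _ hx hy => Groth.Agent.Lib.Helper44.mul_mem_gammaFil _ hx hy)
        (Groth.Agent.Lib.Helper44.gamma_mem_gammaFil_of_aug_eq_zero (εB : B →+* K) hx _) (e j)
    exact Groth.Agent.Lib.Helper44.gammaFil_anti (εB : B →+* K) (by omega)
      (Groth.Agent.Lib.Helper44.mul_mem_gammaFil (εB : B →+* K) h1 h2)

end Groth.Agent.S8698
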