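import Groth.Statements.S8702
import Groth.Agent.Lib.Helper44.AdamsExp

set_option autoImplicit false
universe u
open LambdaRing

namespace Groth.Agent.S8702

open Groth.Agent.Lib.Helper44 in
/-- The log-derivative series prescribed by the family `ψ`. -/
noncomputable def Lser {K : Type u} [CommRing K] (ψ : ℕ → K →+ K) (x : K) : PowerSeries K :=
  PowerSeries.mk fun k => (-1 : K) ^ k * ψ (k + 1) x

open Groth.Agent.Lib.Helper44 in
theorem Lser_add {K : Type u} [CommRing K] (ψ : ℕ → K →+ K) (x y : K) :
    Lser ψ (x + y) = Lser ψ x + Lser ψ y := by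
  ext k
  simp [Lser, mul_add]

open Groth.Agent.Lib.Helper44 in
/-- The pre-λ-structure with prescribed Adams operations. -/
@[instance_reducible] noncomputable def lamOps {K : Type u} [CommRing K] [Algebra ℚ K]
    (ψ : ℕ → K →+ K) (hψ : ψ 1 = AddMonoidHom.id K) : LambdaRing.LambdaOps K where
  lam n x := PowerSeries.coeff n (expInt (Lser ψ x))
  lam_zero x := by
    rw [PowerSeries.coeff_zero_eq_constantCoeff_apply, constantCoeff_expInt]
  lam_one x := by
    have h := congrArg (PowerSeries.coeff 0) (derivative_expInt (Lser ψ x))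
    rw [PowerSeries.coeff_derivative, PowerSeries.coeff_zero_eq_constantCoeff_apply,
      map_mul, constantCoeff_expInt] at h
    simp only [Nat.cast_zero, zero_add, mul_one] at h
    rw [h, ← PowerSeries.coeff_zero_eq_constantCoeff_apply, Lser, PowerSeries.coeff_mk, hψ]
    simp
  lam_add k x y := by
    have : IsAddTorsionFree K := IsAddTorsionFree.of_module_rat K
    have hmul : expInt (Lser ψ (x + y)) = expInt (Lser ψ x) * expInt (Lser ψ y) := by
      apply ode_unique (Lser ψ (x + y))
      · exact derivative_expInt _
      · rw [Derivation.leibniz, smul_eq_mul, smul_eq_mul, derivative_expInt, derivative_expInt,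
          Lser_add]
        ring
      · exact constantCoeff_expInt _
      · rw [map_mul, constantCoeff_expInt, constantCoeff_expInt, one_mul]
    rw [hmul, PowerSeries.coeff_mul,
      Finset.Nat.sum_antidiagonal_eq_sum_range_succ
        (fun i j => PowerSeries.coeff i (expInt (Lser ψ x)) * PowerSeries.coeff j (expInt (Lser ψ y)))]

theorem lambdaOps_ext {K : Type u} [CommRing K] (L1 L2 : LambdaRing.LambdaOps K)
    (h : ∀ n x, L1.lam n x = L2.lam n x) : L1 = L2 := by
  rcases L1 with ⟨l1, a1, b1, c1⟩
  rcases L2 with ⟨l2, a2, b2, c2⟩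
  have : l1 = l2 := by
    funext n x
    exact h n x
  subst this
  rfl

/-- Let K be a commutative ring which is an algebra over the rationals, and let ψ^k : K → K, k ≥ 1, be
additive maps with ψ^1 the identity. Then there is one and only one pre-λ-structure on K whose Adams
operations (defined through the logarithmic derivative of λ_t) are the ψ^k for every k ≥ 1, namely
λ_t(x) = exp(Σ_{k ≥ 1} (−1)^{k−1} ψ^k(x) t^k / k): in characteristic zero, pre-λ-structures and
families of additive operations ψ^k with ψ^1 = id determine each other. (The value of the family at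
k = 0 is ignored.) -/
theorem result (K : Type u) [CommRing K] [Algebra ℚ K]
    (ψ : ℕ → K →+ K) (hψ : ψ 1 = AddMonoidHom.id K) :
    ∃! L : LambdaRing.LambdaOps K, ∀ k : ℕ, 1 ≤ k → ∀ x : K, @LambdaRing.adamsOp K _ L k x = ψ k x := by
  open Groth.Agent.Lib.Helper44 in
  have htf : IsAddTorsionFree K := IsAddTorsionFree.of_module_rat K
  refine ⟨lamOps ψ hψ, ?_, ?_⟩
  · intro k hk x
    letI : LambdaRing.LambdaOps K := lamOps ψ hψ
    obtain ⟨k, rfl⟩ : ∃ m, k = m + 1 := ⟨k - 1, by omega⟩
    have hs : LambdaRing.lamSeries x = expInt (Lser ψ x) := by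
      ext n
      rw [coeff_lamSeries]
      rfl
    have hL : Lser ψ x = LambdaRing.logDerivSeries x := by
      apply eq_logDerivSeries
      rw [hs, derivative_expInt]
    rw [adamsOp_succ, ← hL, Lser, PowerSeries.coeff_mk, ← mul_assoc, ← mul_pow]
    simp
  · intro L' hL'
    apply lambdaOps_ext
    intro n x
    have := @isLambdaHom_of_map_adamsOp K _ L' K _ (lamOps ψ hψ) htf (RingHom.id K) (by
      intro k hk y
      simp only [RingHom.id_apply]
      rw [hL' k hk y]
      letI : LambdaRing.LambdaOps K := lamOps ψ hψ
      obtain ⟨k, rfl⟩ : ∃ m, k = m + 1 := ⟨k - 1, by omega⟩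
      have hs : LambdaRing.lamSeries y = expInt (Lser ψ y) := by
        ext n
        rw [coeff_lamSeries]
        rfl
      have hL : Lser ψ y = LambdaRing.logDerivSeries y := by
        apply eq_logDerivSeries
        rw [hs, derivative_expInt]
      rw [adamsOp_succ, ← hL, Lser, PowerSeries.coeff_mk, ← mul_assoc, ← mul_pow]
      simp)
    exact this n x

end Groth.Agent.S8702
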