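import Groth.Statements.S8705
import Mathlib.LinearAlgebra.Quotient.Basic
import Mathlib.LinearAlgebra.Finsupp.LinearCombination
import Mathlib.Tactic.Abel

set_option autoImplicit false
universe u
open SGA7

namespace Groth.Agent.S8705


/-- A symmetric 2-cocycle on `P` with values in `M`. -/
structure SymmCocycle (M P : Type*) [AddCommGroup M] [AddCommGroup P] where
  f : P → P → M
  cocycle : ∀ p q r, f (p + q) r - f p (q + r) + f p q - f q r = 0
  symm : ∀ p q, f p q = f q p

namespace SymmCocycle

variable {M P : Type*} [AddCommGroup M] [AddCommGroup P] (c : SymmCocycle M P)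

theorem f_zero_left (p : P) : c.f 0 p = c.f 0 0 := by
  have := c.cocycle 0 0 p
  simp only [zero_add] at this
  have h2 : c.f 0 0 - c.f 0 p = 0 := by
    rw [← this]; abel
  exact (sub_eq_zero.mp h2).symm

theorem f_zero_right (p : P) : c.f p 0 = c.f 0 0 := by
  rw [c.symm, f_zero_left]

theorem f_assoc (p q r : P) : c.f p q + c.f (p + q) r = c.f q r + c.f p (q + r) := by
  have := c.cocycle p q r
  rw [← sub_eq_zero, ← this]
  abel

end SymmCocycle

/-- The twisted product `M ×_f P`. -/
@[ext] structure TwProd {M P : Type*} [AddCommGroup M] [AddCommGroup P] (c : SymmCocycle M P) where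
  fst : M
  snd : P

namespace TwProd

variable {M P : Type*} [AddCommGroup M] [AddCommGroup P] (c : SymmCocycle M P)

instance : Add (TwProd c) := ⟨fun x y => ⟨x.fst + y.fst + c.f x.snd y.snd, x.snd + y.snd⟩⟩
instance : Zero (TwProd c) := ⟨⟨- c.f 0 0, 0⟩⟩
instance : Neg (TwProd c) := ⟨fun x => ⟨- x.fst - c.f x.snd (- x.snd) - c.f 0 0, - x.snd⟩⟩

@[simp] theorem add_fst (x y : TwProd c) : (x + y).fst = x.fst + y.fst + c.f x.snd y.snd := rfl
@[simp] theorem add_snd (x y : TwProd c) : (x + y).snd = x.snd + y.snd := rfl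
@[simp] theorem zero_fst : (0 : TwProd c).fst = - c.f 0 0 := rfl
@[simp] theorem zero_snd : (0 : TwProd c).snd = 0 := rfl
@[simp] theorem neg_fst (x : TwProd c) :
    (-x).fst = - x.fst - c.f x.snd (- x.snd) - c.f 0 0 := rfl
@[simp] theorem neg_snd (x : TwProd c) : (-x).snd = - x.snd := rfl

instance : AddCommGroup (TwProd c) where
  add_assoc x y z := by
    ext
    · simp only [add_fst, add_snd]
      have := c.f_assoc x.snd y.snd z.snd
      calc x.fst + y.fst + c.f x.snd y.snd + z.fst + c.f (x.snd + y.snd) z.snd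
          = x.fst + y.fst + z.fst + (c.f x.snd y.snd + c.f (x.snd + y.snd) z.snd) := by abel
        _ = x.fst + y.fst + z.fst + (c.f y.snd z.snd + c.f x.snd (y.snd + z.snd)) := by rw [this]
        _ = _ := by abel
    · simp only [add_snd, add_assoc]
  zero_add x := by
    ext
    · simp only [add_fst, zero_fst, zero_snd, c.f_zero_left]; abel
    · simp
  add_zero x := by
    ext
    · simp only [add_fst, zero_fst, zero_snd, c.f_zero_right]; abel
    · simp
  nsmul := nsmulRec
  zsmul := zsmulRec
  neg_add_cancel x := by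
    ext
    · simp only [add_fst, neg_fst, neg_snd, zero_fst, c.symm (- x.snd) x.snd]; abel
    · simp
  add_comm x y := by
    ext
    · simp only [add_fst, c.symm x.snd y.snd]; abel
    · simp only [add_snd, add_comm]

end TwProd


section Complex

variable (P : Type u) [AddCommGroup P]

/-- augmentation -/
noncomputable def eps : (P →₀ ℤ) →ₗ[ℤ] P := Finsupp.linearCombination ℤ (fun p : P => p)

noncomputable def d0 : (P × P →₀ ℤ) →ₗ[ℤ] (P →₀ ℤ) := Finsupp.linearCombination ℤ
  (fun pq : P × P => Finsupp.single (pq.1 + pq.2) 1 - Finsupp.single pq.1 1 - Finsupp.single pq.2 1)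

noncomputable def d1 : (P × P × P →₀ ℤ) →ₗ[ℤ] (P × P →₀ ℤ) := Finsupp.linearCombination ℤ
  (fun t : P × P × P => Finsupp.single (t.1 + t.2.1, t.2.2) 1 - Finsupp.single (t.1, t.2.1 + t.2.2) 1
    + Finsupp.single (t.1, t.2.1) 1 - Finsupp.single (t.2.1, t.2.2) 1)

noncomputable def d1' : (P × P →₀ ℤ) →ₗ[ℤ] (P × P →₀ ℤ) := Finsupp.linearCombination ℤ
  (fun pq : P × P => Finsupp.single pq 1 - Finsupp.single (pq.2, pq.1) 1)

variable {P}

theorem eps_single (p : P) : eps P (Finsupp.single p 1) = p := by
  simp [eps, Finsupp.linearCombination_single]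

theorem d0_single (p q : P) : d0 P (Finsupp.single (p, q) 1) =
    Finsupp.single (p + q) 1 - Finsupp.single p 1 - Finsupp.single q 1 := by
  simp [d0, Finsupp.linearCombination_single]

theorem d1_single (p q r : P) : d1 P (Finsupp.single (p, q, r) 1) =
    Finsupp.single (p + q, r) 1 - Finsupp.single (p, q + r) 1
      + Finsupp.single (p, q) 1 - Finsupp.single (q, r) 1 := by
  simp [d1, Finsupp.linearCombination_single]

omit [AddCommGroup P] in
theorem d1'_single (p q : P) : d1' P (Finsupp.single (p, q) 1) =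
    Finsupp.single (p, q) 1 - Finsupp.single (q, p) 1 := by
  simp [d1', Finsupp.linearCombination_single]

theorem lhom_ext_one {α N : Type*} [AddCommGroup N] (φ ψ : (α →₀ ℤ) →ₗ[ℤ] N)
    (h : ∀ a, φ (Finsupp.single a 1) = ψ (Finsupp.single a 1)) : φ = ψ := by
  apply Finsupp.lhom_ext'
  intro a
  apply LinearMap.ext_ring
  simpa using h a

theorem eps_surjective : Function.Surjective (eps P) := fun p => ⟨Finsupp.single p 1, eps_single p⟩

theorem eps_comp_d0 : (eps P).comp (d0 P) = 0 := by
  apply lhom_ext_one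
  rintro ⟨p, q⟩
  simp only [LinearMap.comp_apply, d0_single, map_sub, eps_single, LinearMap.zero_apply]
  abel

theorem d0_comp_d1 : (d0 P).comp (d1 P) = 0 := by
  apply lhom_ext_one
  rintro ⟨p, q, r⟩
  simp only [LinearMap.comp_apply, d1_single, map_sub, map_add, d0_single, LinearMap.zero_apply,
    add_assoc]
  abel

theorem d0_comp_d1' : (d0 P).comp (d1' P) = 0 := by
  apply lhom_ext_one
  rintro ⟨p, q⟩
  simp only [LinearMap.comp_apply, d1'_single, map_sub, d0_single, LinearMap.zero_apply,
    add_comm q p]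
  abel

theorem ker_eps_le : LinearMap.ker (eps P) ≤ LinearMap.range (d0 P) := by
  intro x hx
  let s : P →+ ((P →₀ ℤ) ⧸ LinearMap.range (d0 P)) :=
    AddMonoidHom.mk' (fun p => Submodule.Quotient.mk (Finsupp.single p 1)) (by
      intro p q
      rw [← Submodule.Quotient.mk_add, Submodule.Quotient.eq]
      exact ⟨Finsupp.single (p, q) 1, by rw [d0_single]; abel⟩)
  have key : (s.toIntLinearMap).comp (eps P) = Submodule.mkQ (LinearMap.range (d0 P)) := by
    apply lhom_ext_one
    intro p
    simp only [LinearMap.comp_apply, eps_single, Submodule.mkQ_apply]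
    rfl
  have h2 := LinearMap.congr_fun key x
  rw [LinearMap.comp_apply, LinearMap.mem_ker.mp hx, map_zero, Submodule.mkQ_apply] at h2
  exact (Submodule.Quotient.mk_eq_zero _).mp h2.symm

theorem ker_d0_le : LinearMap.ker (d0 P) ≤ LinearMap.range (d1 P) ⊔ LinearMap.range (d1' P) := by
  intro x hx
  set S : Submodule ℤ (P × P →₀ ℤ) := LinearMap.range (d1 P) ⊔ LinearMap.range (d1' P) with hS
  let c : SymmCocycle ((P × P →₀ ℤ) ⧸ S) P :=
    { f := fun p q => Submodule.Quotient.mk (Finsupp.single (p, q) 1)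
      cocycle := by
        intro p q r
        rw [← Submodule.Quotient.mk_sub, ← Submodule.Quotient.mk_add, ← Submodule.Quotient.mk_sub,
          Submodule.Quotient.mk_eq_zero, ← d1_single]
        exact Submodule.mem_sup_left ⟨_, rfl⟩
      symm := by
        intro p q
        rw [← sub_eq_zero, ← Submodule.Quotient.mk_sub, Submodule.Quotient.mk_eq_zero, ← d1'_single]
        exact Submodule.mem_sup_right ⟨_, rfl⟩ }
  let σ : (P →₀ ℤ) →ₗ[ℤ] TwProd c := Finsupp.linearCombination ℤ (fun p => (⟨0, p⟩ : TwProd c))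
  have hσ : ∀ p, σ (Finsupp.single p 1) = ⟨0, p⟩ := by
    intro p
    simp [σ, Finsupp.linearCombination_single]
  let ι : ((P × P →₀ ℤ) ⧸ S) →+ TwProd c :=
    AddMonoidHom.mk' (fun m => (⟨m - c.f 0 0, 0⟩ : TwProd c)) (by
      intro m m'
      ext
      · simp only [TwProd.add_fst]; abel
      · simp)
  have hrel : ∀ p q : P, (⟨0, p⟩ : TwProd c) + ⟨0, q⟩ = ι (c.f p q) + ⟨0, p + q⟩ := by
    intro p q
    ext
    · change (0 : (P × P →₀ ℤ) ⧸ S) + 0 + c.f p q = (c.f p q - c.f 0 0) + 0 + c.f 0 (p + q)
      rw [c.f_zero_left (p + q)]; abel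
    · change p + q = 0 + (p + q)
      rw [zero_add]
  have key : σ.comp (d0 P) = - (ι.toIntLinearMap.comp (Submodule.mkQ S)) := by
    apply lhom_ext_one
    rintro ⟨p, q⟩
    simp only [LinearMap.comp_apply, d0_single, map_sub, hσ, LinearMap.neg_apply,
      Submodule.mkQ_apply, AddMonoidHom.coe_toIntLinearMap]
    have h := hrel p q
    change _ = - ι (c.f p q)
    rw [sub_sub, h]
    abel
  have h2 := LinearMap.congr_fun key x
  rw [LinearMap.comp_apply, LinearMap.mem_ker.mp hx, map_zero, LinearMap.neg_apply,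
    LinearMap.comp_apply, Submodule.mkQ_apply, AddMonoidHom.coe_toIntLinearMap, eq_comm,
    neg_eq_zero] at h2
  have h3 := congrArg TwProd.fst h2
  change Submodule.Quotient.mk x - c.f 0 0 = - c.f 0 0 at h3
  have h4 : (Submodule.Quotient.mk x : (P × P →₀ ℤ) ⧸ S) = 0 := by
    have := congrArg (· + c.f 0 0) h3
    simpa using this
  exact (Submodule.Quotient.mk_eq_zero _).mp h4

end Complex

/-- In the case of the punctual topos (ordinary abelian groups): let P be an abelian group and consider
the complex of free abelian groups Z[P × P × P] ⊕ Z[P × P] → Z[P × P] → Z[P], augmented to P by [p]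
↦ p, with d₀[p, q] = [p + q] − [p] − [q], with d₁ on the first summand given by [p, q, r] ↦ [p + q,
r] − [p, q + r] + [p, q] − [q, r] and on the second summand by [p, q] ↦ [p, q] − [q, p]. Then the
augmentation is surjective with kernel the image of d₀ (so H₀ is P), and the kernel of d₀ is the sum
of the images of the two components of d₁ (so H₁ vanishes). (The published statement is for abelian
sheaves on an arbitrary topos; this row is its case of a one-point space.) -/
theorem result (P : Type u) [AddCommGroup P] :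
    letI ε : (P →₀ ℤ) →ₗ[ℤ] P := Finsupp.linearCombination ℤ (fun p : P => p)
    letI d₀ : (P × P →₀ ℤ) →ₗ[ℤ] (P →₀ ℤ) := Finsupp.linearCombination ℤ
      (fun pq : P × P => Finsupp.single (pq.1 + pq.2) 1 - Finsupp.single pq.1 1 - Finsupp.single pq.2 1)
    letI d₁ : (P × P × P →₀ ℤ) →ₗ[ℤ] (P × P →₀ ℤ) := Finsupp.linearCombination ℤ
      (fun t : P × P × P => Finsupp.single (t.1 + t.2.1, t.2.2) 1 - Finsupp.single (t.1, t.2.1 + t.2.2) 1
        + Finsupp.single (t.1, t.2.1) 1 - Finsupp.single (t.2.1, t.2.2) 1)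
    letI d₁' : (P × P →₀ ℤ) →ₗ[ℤ] (P × P →₀ ℤ) := Finsupp.linearCombination ℤ
      (fun pq : P × P => Finsupp.single pq 1 - Finsupp.single (pq.2, pq.1) 1)
    Function.Surjective ε ∧ LinearMap.ker ε = LinearMap.range d₀ ∧
      LinearMap.ker d₀ = LinearMap.range d₁ ⊔ LinearMap.range d₁' := by
  refine ⟨eps_surjective, le_antisymm ker_eps_le ?_, le_antisymm ker_d0_le ?_⟩
  · rintro _ ⟨y, rfl⟩
    exact LinearMap.congr_fun eps_comp_d0 y
  · apply sup_le
    · rintro _ ⟨y, rfl⟩
      exact LinearMap.congr_fun d0_comp_d1 y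
    · rintro _ ⟨y, rfl⟩
      exact LinearMap.congr_fun d0_comp_d1' y

end Groth.Agent.S8705
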