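import Mathlib
import Groth.Statements.S8710
import Groth.Agent.Lib.Helper73.TorFirstVar
import Groth.Agent.S11450
-- import your own Groth.Agent.* helpers here

set_option autoImplicit false
universe u
open CategoryTheory CategoryTheory.Limits
open SGA7

namespace Groth.Agent.S8710

open Groth.Agent.Lib.Helper73 in
/-- In an exact sequence `0 → X₁ → X₂ → X₃ → 0`, if `Tor_i(X₁, N)` and `Tor_i(X₃, N)` vanish, so does
`Tor_i(X₂, N)`. -/
lemma isZero_tor_mid {A : Type u} [CommRing A] {T : ShortComplex (ModuleCat.{u} A)}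
    (hT : T.ShortExact) (N : ModuleCat.{u} A) (i : ℕ)
    (h1 : IsZero (((Tor (ModuleCat.{u} A) i).obj T.X₁).obj N))
    (h3 : IsZero (((Tor (ModuleCat.{u} A) i).obj T.X₃).obj N)) :
    IsZero (((Tor (ModuleCat.{u} A) i).obj T.X₂).obj N) := by
  obtain ⟨⟨w₀, ex⟩, -⟩ := tor_les_first hT N i
  exact ex.isZero_of_both_zeros (h1.eq_of_src _ _) (h3.eq_of_tgt _ _)

open Groth.Agent.Lib.Helper73 in
/-- In an exact sequence `0 → X₁ → X₂ → X₃ → 0`, if `Tor_{i+1}(X₃, N)` and `Tor_i(X₂, N)` vanish, so does
`Tor_i(X₁, N)`. -/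
lemma isZero_tor_left {A : Type u} [CommRing A] {T : ShortComplex (ModuleCat.{u} A)}
    (hT : T.ShortExact) (N : ModuleCat.{u} A) (i : ℕ)
    (h3 : IsZero (((Tor (ModuleCat.{u} A) (i + 1)).obj T.X₃).obj N))
    (h2 : IsZero (((Tor (ModuleCat.{u} A) i).obj T.X₂).obj N)) :
    IsZero (((Tor (ModuleCat.{u} A) i).obj T.X₁).obj N) := by
  obtain ⟨-, δ, w₁, w₂, -, ex⟩ := tor_les_first hT N i
  exact ex.isZero_of_both_zeros (h3.eq_of_src _ _) (h2.eq_of_tgt _ _)

lemma isZero_tor_of_flat' {A : Type u} [CommRing A] (M : ModuleCat.{u} A) [Module.Flat A M]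
    (N : ModuleCat.{u} A) (i : ℕ) (hi : 0 < i) :
    IsZero (((Tor (ModuleCat.{u} A) i).obj M).obj N) := by
  obtain ⟨q, rfl⟩ : ∃ q, i = q + 1 := ⟨i - 1, by omega⟩
  exact Groth.Agent.S11450.isZero_tor_of_flat M N q

/-- Let f : B' → B be a surjective map of R-algebras with B' flat over R, g : C → B a map of R-algebras,
P = B' ×_B C their fibre product (the equalizer of f ∘ pr₁ and g ∘ pr₂ in B' × C), S an R-algebra
and n a natural number. If Tor_i^R(C, S) = 0 for 0 < i < n and Tor_i^R(B, S) = 0 for 0 < i ≤ n, then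
Tor_i^R(P, S) = 0 for 0 < i < n. Here Tor_i^R(M, S) is the i-th left derived functor of M ⊗_R − on
R-modules, evaluated at S. (The published statement asks the vanishing for B only in degrees 0 < i <
n; the published proof and the corollary following it use it in degrees 0 < i ≤ n, which this row
assumes.) -/
theorem result (R B' B C S : Type u) [CommRing R] [CommRing B'] [CommRing B]
    [CommRing C] [CommRing S] [Algebra R B'] [Algebra R B] [Algebra R C] [Algebra R S]
    (f : B' →ₐ[R] B) (hf : Function.Surjective f) (g : C →ₐ[R] B) [Module.Flat R B'] (n : ℕ)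
    (hC : ∀ i : ℕ, 0 < i → i < n →
      IsZero (((Tor (ModuleCat.{u} R) i).obj (ModuleCat.of R C)).obj (ModuleCat.of R S)))
    (hB : ∀ i : ℕ, 0 < i → i ≤ n →
      IsZero (((Tor (ModuleCat.{u} R) i).obj (ModuleCat.of R B)).obj (ModuleCat.of R S))) :
    letI P := AlgHom.equalizer (f.comp (AlgHom.fst R B' C)) (g.comp (AlgHom.snd R B' C))
    ∀ i : ℕ, 0 < i → i < n →
      IsZero (((Tor (ModuleCat.{u} R) i).obj (ModuleCat.of R ↥P)).obj (ModuleCat.of R S)) := by
  intro i hi0 hin
  set P := AlgHom.equalizer (f.comp (AlgHom.fst R B' C)) (g.comp (AlgHom.snd R B' C)) with hP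
  -- the sequence `0 → B' → B' × C → C → 0`
  have hT2 := Groth.Agent.S11450.shortExact_of_linear (A := R) (LinearMap.inl R B' C) (LinearMap.snd R B' C)
    LinearMap.inl_injective LinearMap.snd_surjective (by
      intro x
      constructor
      · intro hx
        exact ⟨x.1, Prod.ext rfl (by simpa using hx.symm)⟩
      · rintro ⟨y, rfl⟩
        simp)
  have hmid : IsZero (((Tor (ModuleCat.{u} R) i).obj (ModuleCat.of R (B' × C))).obj
      (ModuleCat.of R S)) :=
    isZero_tor_mid hT2 (ModuleCat.of R S) i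
      (isZero_tor_of_flat' (ModuleCat.of R B') _ i hi0) (hC i hi0 hin)
  -- the sequence `0 → P → B' × C → B → 0`
  let d : (B' × C) →ₗ[R] B :=
    f.toLinearMap.comp (LinearMap.fst R B' C) - g.toLinearMap.comp (LinearMap.snd R B' C)
  have hT1 := Groth.Agent.S11450.shortExact_of_linear (A := R) (Subalgebra.val P).toLinearMap d
    Subtype.val_injective (by
      intro b
      obtain ⟨b', rfl⟩ := hf b
      exact ⟨(b', 0), by simp [d]⟩) (by
      intro x
      constructor
      · intro hx
        have hx' : f x.1 = g x.2 := by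
          have : f x.1 - g x.2 = 0 := by simpa [d] using hx
          exact sub_eq_zero.mp this
        exact ⟨⟨x, by simpa [P, AlgHom.mem_equalizer] using hx'⟩, rfl⟩
      · rintro ⟨y, rfl⟩
        have hy : f (y : B' × C).1 = g (y : B' × C).2 := by
          have h2 : (y : B' × C) ∈ AlgHom.equalizer (f.comp (AlgHom.fst R B' C))
              (g.comp (AlgHom.snd R B' C)) := y.2
          rw [AlgHom.mem_equalizer] at h2
          simpa using h2
        simp [d, hy])
  exact isZero_tor_left hT1 (ModuleCat.of R S) i (hB (i + 1) (by omega) (by omega)) hmid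

end Groth.Agent.S8710
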