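import Groth.Statements.S8716
import Groth.Agent.Lib.Helper26.ConstExtRigid

set_option autoImplicit false
universe u
open CategoryTheory CategoryTheory.Limits MonoidalCategory CartesianMonoidalCategory MonObj AlgebraicGeometry
open SGA7

namespace Groth.Agent.S8716

/-- Let k be a field, Z a commutative group without non-trivial elements of finite order, P a
commutative k-group scheme of finite type (so that its group of connected components is a finite,
hence torsion, group), G the constant k-group scheme Z_k (through the isomorphism eG), and u : G →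
E, v : E → P homomorphisms of commutative k-group schemes forming a sequence 1 → G → E → P → 1 exact
for the fppf topology. Then the extension is rigid: every automorphism of the k-group scheme E
compatible with u and v is the identity. (The published statement assumes only P locally of finite
type with torsion component group; this row takes P of finite type, the case it names.) -/
theorem result (k : Type u) [Field k]
    (Z : Type u) [CommGroup Z] (hZ : ∀ z : Z, IsOfFinOrder z → z = 1)
    (P E G : Over (Spec (CommRingCat.of k))) [GrpObj P] [GrpObj E] [GrpObj G]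
    [IsCommMonObj P] [IsCommMonObj E]
    [LocallyOfFiniteType P.hom] [QuasiCompact P.hom]
    (eG : G ≅ TwC.const (Spec (CommRingCat.of k)) Z) (hG : TwC.IsConstGrp Z G eG)
    (u : G ⟶ E) (v : E ⟶ P) (hex : NonAbH1.IsExactSeq Scheme.fppfPrecoverage u v)
    (φ : E ≅ E) [IsMonHom φ.hom] (hφu : u ≫ φ.hom = u) (hφv : φ.hom ≫ v = v) :
    φ.hom = 𝟙 E := by
  open Groth.Agent.Lib.Helper26.ConstExtRigid Groth.Agent.Lib.Helper26.CentralExt in
  obtain ⟨hu, hv, huv, hEx, hloc⟩ := id hex
  haveI := hu
  haveI := hv
  have hq := Groth.Agent.Lib.Helper26.ExactSeqQuot.isUnivQuotHom_of_isExactSeq_fppf hex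
  obtain ⟨hb, hhb⟩ := exists_hbar u v hEx φ.hom hφu hφv hq
  haveI : CompactSpace ↥P.left := QuasiCompact.compactSpace_of_compactSpace P.hom
  have hpow : ∀ n : ℕ, ((𝟙 P : P ⟶ P) ^ n) ≫ hb = hb ^ n := by
    intro n
    haveI := epi_v u v huv hq
    rw [← cancel_epi v]
    have e1 : v ≫ ((𝟙 P : P ⟶ P) ^ n) = ((𝟙 E : E ⟶ E) ^ n) ≫ v := by
      rw [MonObj.comp_pow, Category.comp_id, MonObj.pow_comp, Category.id_comp]
    rw [← Category.assoc, e1, Category.assoc, hhb, pow_comp_hh u v hEx φ.hom hφv n, ← hhb,
      MonObj.comp_pow]
  have h1 := eq_one_of_compact eG hG hZ hb hpow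
  apply phi_eq_id u v hEx φ.hom hφv
  rw [← hhb, h1, MonObj.comp_one]

end Groth.Agent.S8716
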