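import Groth.Statements.S8720
import Mathlib
import Groth.Agent.Lib.Helper44.MonomialIdeal

set_option autoImplicit false
universe u
open VanCyc

namespace Groth.Agent.S8720

open MvPowerSeries Finsupp Groth.Agent.Lib.Helper44

variable {k : Type u} [Field k] {m : ℕ}

/-- The index type. -/
abbrev Idx (m : ℕ) := Option (Fin m ⊕ Fin m)

/-- The target ideal `(x₀², x_j)`. -/
noncomputable def T (k : Type u) [Field k] (m : ℕ) : Ideal (MvPowerSeries (Idx m) k) :=
  Ideal.span ({MvPowerSeries.X none ^ 2} ∪
    Set.range fun j : Fin m ⊕ Fin m => (MvPowerSeries.X (some j) : MvPowerSeries (Idx m) k))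

theorem single_add_single_le {d : Idx m →₀ ℕ} {a b : Idx m} (h : a ≠ b) (ha : 1 ≤ d a)
    (hb : 1 ≤ d b) : single a 1 + single b 1 ≤ d := by
  intro s
  rw [Finsupp.add_apply]
  by_cases hsa : s = a
  · subst hsa
    rw [single_eq_same, single_eq_of_ne h]
    omega
  · by_cases hsb : s = b
    · subst hsb
      rw [single_eq_same, single_eq_of_ne hsa]
      omega
    · rw [single_eq_of_ne hsa, single_eq_of_ne hsb]
      omega

theorem eq_single_none_of_forall {d : Idx m →₀ ℕ} (h : ∀ j, d (some j) = 0) :
    d = single none (d none) := by
  ext s
  cases s with
  | none => rw [single_eq_same]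
  | some j => rw [h j, single_eq_of_ne (by simp)]

theorem mem_T_of_coeff {g : MvPowerSeries (Idx m) k} (h0 : coeff 0 g = 0)
    (h1 : coeff (single none 1) g = 0) : g ∈ T k m := by
  classical
  let E : Finset (Idx m →₀ ℕ) :=
    insert (single none 2) (Finset.univ.image fun j : Fin m ⊕ Fin m => single (some j) 1)
  have hM := mem_span_monomial_of_support (R := k) E g ?_
  · refine Ideal.span_mono ?_ hM
    rintro _ ⟨e, he, rfl⟩
    rcases Finset.mem_insert.mp (Finset.mem_coe.mp he) with rfl | he'
    · left
      rw [Set.mem_singleton_iff, X_pow_eq]
    · right
      obtain ⟨j, -, rfl⟩ := Finset.mem_image.mp he'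
      exact ⟨j, rfl⟩
  · intro d hd
    by_cases hex : ∃ j, d (some j) ≠ 0
    · obtain ⟨j, hj⟩ := hex
      refine ⟨single (some j) 1, ?_, ?_⟩
      · exact Finset.mem_insert_of_mem (Finset.mem_image.mpr ⟨j, Finset.mem_univ _, rfl⟩)
      · rw [single_le_iff]; omega
    · push Not at hex
      have hd' := eq_single_none_of_forall hex
      refine ⟨single none 2, Finset.mem_insert_self _ _, ?_⟩
      rw [single_le_iff]
      by_contra hlt
      have : d none = 0 ∨ d none = 1 := by omega
      rcases this with h | h
      · rw [h, single_zero] at hd'
        rw [hd'] at hd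
        exact hd h0
      · rw [h] at hd'
        rw [hd'] at hd
        exact hd h1

theorem coeff_of_mem_T {g : MvPowerSeries (Idx m) k} (hg : g ∈ T k m) :
    coeff 0 g = 0 ∧ coeff (single none 1) g = 0 := by
  classical
  rw [T, Ideal.span_union, Submodule.mem_sup] at hg
  obtain ⟨y, hy, z, hz, rfl⟩ := hg
  obtain ⟨c, rfl⟩ := Ideal.mem_span_singleton'.mp hy
  obtain ⟨c', rfl⟩ := (Ideal.mem_span_range_iff_exists_fun).mp hz
  have key : ∀ d : Idx m →₀ ℕ, d none ≤ 1 → (∀ j, d (some j) = 0) →
      coeff d (c * X none ^ 2 + ∑ i, c' i * X (some i)) = 0 := by
    intro d hd1 hd2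
    rw [map_add, map_sum, X_pow_eq, coeff_mul_monomial, if_neg, zero_add]
    · apply Finset.sum_eq_zero
      intro j _
      rw [X_def, coeff_mul_monomial, if_neg]
      rw [single_le_iff, hd2 j]
      omega
    · rw [single_le_iff]
      omega
  constructor
  · apply key
    · simp
    · intro j; simp
  · apply key
    · simp
    · intro j
      rw [single_eq_of_ne (by simp)]

theorem X_mem_maximalIdeal (s : Idx m) :
    (X s : MvPowerSeries (Idx m) k) ∈ IsLocalRing.maximalIdeal (MvPowerSeries (Idx m) k) := by
  rw [IsLocalRing.mem_maximalIdeal, mem_nonunits_iff, MvPowerSeries.isUnit_iff_constantCoeff,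
    constantCoeff_X]
  exact not_isUnit_zero

theorem X_some_mem_T (j : Fin m ⊕ Fin m) : (X (some j) : MvPowerSeries (Idx m) k) ∈ T k m :=
  Ideal.subset_span (Or.inr ⟨j, rfl⟩)

theorem X_none_sq_mem_T : (X none ^ 2 : MvPowerSeries (Idx m) k) ∈ T k m :=
  Ideal.subset_span (Or.inl rfl)

theorem mem_mT_of_coeff {g : MvPowerSeries (Idx m) k} (h0 : coeff 0 g = 0)
    (h1 : coeff (single none 1) g = 0) (h2 : coeff (single none 2) g = 0)
    (h3 : ∀ j : Fin m ⊕ Fin m, coeff (single (some j) 1) g = 0) :
    g ∈ IsLocalRing.maximalIdeal (MvPowerSeries (Idx m) k) * T k m := by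
  classical
  let E : Finset (Idx m →₀ ℕ) :=
    insert (single none 3)
      ((Finset.univ.image fun j : Fin m ⊕ Fin m => single none 1 + single (some j) 1) ∪
        (Finset.univ.image fun jl : (Fin m ⊕ Fin m) × (Fin m ⊕ Fin m) =>
          single (some jl.1) 1 + single (some jl.2) 1))
  have hM := mem_span_monomial_of_support (R := k) E g ?_
  · refine (Ideal.span_le.mpr ?_) hM
    rintro _ ⟨e, he, rfl⟩
    change monomial e (1 : k) ∈ _
    rcases Finset.mem_insert.mp (Finset.mem_coe.mp he) with rfl | he'
    · have : (single none 3 : Idx m →₀ ℕ) = single none 1 + single none 2 := by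
        rw [← single_add]
      rw [this, ← one_mul (1 : k), ← monomial_mul_monomial]
      apply Ideal.mul_mem_mul
      · exact X_mem_maximalIdeal none
      · rw [← X_pow_eq]; exact X_none_sq_mem_T
    · rcases Finset.mem_union.mp he' with he'' | he''
      · obtain ⟨j, -, rfl⟩ := Finset.mem_image.mp he''
        rw [← one_mul (1 : k), ← monomial_mul_monomial]
        exact Ideal.mul_mem_mul (X_mem_maximalIdeal none) (X_some_mem_T j)
      · obtain ⟨⟨j, l⟩, -, rfl⟩ := Finset.mem_image.mp he''
        rw [← one_mul (1 : k), ← monomial_mul_monomial]
        exact Ideal.mul_mem_mul (X_mem_maximalIdeal (some j)) (X_some_mem_T l)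
  · intro d hd
    by_cases hex : ∃ j, d (some j) ≠ 0
    · obtain ⟨j, hj⟩ := hex
      by_cases hnone : d none = 0
      · by_cases hj2 : 2 ≤ d (some j)
        · refine ⟨single (some j) 1 + single (some j) 1, ?_, ?_⟩
          · refine Finset.mem_insert_of_mem (Finset.mem_union_right _ ?_)
            exact Finset.mem_image.mpr ⟨(j, j), Finset.mem_univ _, rfl⟩
          · rw [← single_add, single_le_iff]; omega
        · have hj1 : d (some j) = 1 := by omega
          have : ∃ s, s ≠ some j ∧ d s ≠ 0 := by
            by_contra hcon
            push Not at hcon
            apply hd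
            have : d = single (some j) 1 := by
              ext s
              by_cases hs : s = some j
              · subst hs; rw [single_eq_same, hj1]
              · rw [single_eq_of_ne hs, hcon s hs]
            rw [this]; exact h3 j
          obtain ⟨s, hs, hds⟩ := this
          cases s with
          | none => exact absurd hnone hds
          | some l =>
            refine ⟨single (some j) 1 + single (some l) 1, ?_, ?_⟩
            · refine Finset.mem_insert_of_mem (Finset.mem_union_right _ ?_)
              exact Finset.mem_image.mpr ⟨(j, l), Finset.mem_univ _, rfl⟩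
            · exact single_add_single_le (Ne.symm hs) (by omega) (by omega)
      · refine ⟨single none 1 + single (some j) 1, ?_, ?_⟩
        · refine Finset.mem_insert_of_mem (Finset.mem_union_left _ ?_)
          exact Finset.mem_image.mpr ⟨j, Finset.mem_univ _, rfl⟩
        · exact single_add_single_le (by simp) (by omega) (by omega)
    · push Not at hex
      have hd' := eq_single_none_of_forall hex
      refine ⟨single none 3, Finset.mem_insert_self _ _, ?_⟩
      rw [single_le_iff]
      by_contra hlt
      have : d none = 0 ∨ d none = 1 ∨ d none = 2 := by omega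
      rcases this with h | h | h
      · rw [h, single_zero] at hd'
        rw [hd'] at hd
        exact hd h0
      · rw [h] at hd'
        rw [hd'] at hd
        exact hd h1
      · rw [h] at hd'
        rw [hd'] at hd
        exact hd h2

/-- The quadratic form `x₀² + Σ xᵢ xᵢ'`. -/
noncomputable def qf (k : Type u) [Field k] (m : ℕ) : MvPowerSeries (Idx m) k :=
  MvPowerSeries.X none ^ 2 +
    ∑ i : Fin m, MvPowerSeries.X (some (Sum.inl i)) * MvPowerSeries.X (some (Sum.inr i))

theorem coeff_qf (d : Idx m →₀ ℕ) :
    coeff d (qf k m) = (if d = single none 2 then (1 : k) else 0) +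
      ∑ i : Fin m, if d = single (some (Sum.inl i)) 1 + single (some (Sum.inr i)) 1 then (1 : k)
        else 0 := by
  classical
  rw [qf, map_add, map_sum, X_pow_eq, coeff_monomial]
  congr 1
  apply Finset.sum_congr rfl
  intro i _
  rw [X_def, X_def, monomial_mul_monomial, coeff_monomial, one_mul]

theorem coeff_qf_of_degree_ne (d : Idx m →₀ ℕ) (hd : degree d ≠ 2) : coeff d (qf k m) = 0 := by
  rw [coeff_qf, if_neg, zero_add]
  · apply Finset.sum_eq_zero
    intro i _
    rw [if_neg]
    rintro rfl
    apply hd
    rw [map_add, degree_single, degree_single]
  · rintro rfl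
    apply hd
    rw [degree_single]

theorem coeff_qf_none_two : coeff (single none 2) (qf k m) = 1 := by
  rw [coeff_qf, if_pos rfl, Finset.sum_eq_zero, add_zero]
  intro i _
  rw [if_neg]
  intro h
  have := DFunLike.congr_fun h none
  simp at this

theorem coeff_qf_none_some (j : Fin m ⊕ Fin m) :
    coeff (single none 1 + single (some j) 1) (qf k m) = 0 := by
  rw [coeff_qf, if_neg, zero_add]
  · apply Finset.sum_eq_zero
    intro i _
    rw [if_neg]
    intro h
    have := DFunLike.congr_fun h none
    simp at this
  · intro h
    have := DFunLike.congr_fun h none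
    simp at this

theorem coeff_qf_some_some (a b : Fin m ⊕ Fin m) :
    coeff (single (some a) 1 + single (some b) 1) (qf k m) = if b = a.swap then 1 else 0 := by
  classical
  rw [coeff_qf, if_neg, zero_add]
  swap
  · intro h
    have := DFunLike.congr_fun h none
    simp at this
  by_cases hab : b = a.swap
  · rw [if_pos hab]
    subst hab
    cases a with
    | inl i₀ =>
      rw [Finset.sum_eq_single i₀]
      · simp only [Sum.swap_inl, if_true]
      · intro i _ hi
        rw [if_neg]
        intro h
        have := DFunLike.congr_fun h (some (Sum.inl i))
        simp [hi] at this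
      · intro h; exact absurd (Finset.mem_univ _) h
    | inr i₀ =>
      rw [Finset.sum_eq_single i₀]
      · simp only [Sum.swap_inr]
        rw [if_pos (add_comm _ _)]
      · intro i _ hi
        rw [if_neg]
        intro h
        have := DFunLike.congr_fun h (some (Sum.inl i))
        simp [hi] at this
      · intro h; exact absurd (Finset.mem_univ _) h
  · rw [if_neg hab]
    apply Finset.sum_eq_zero
    intro i _
    rw [if_neg]
    intro h
    apply hab
    cases a with
    | inl a =>
      cases b with
      | inl b =>
        have e1 := DFunLike.congr_fun h (some (Sum.inr i))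
        simp at e1
      | inr b =>
        have e1 := DFunLike.congr_fun h (some (Sum.inl a))
        have e2 := DFunLike.congr_fun h (some (Sum.inr b))
        simp [Finsupp.single_apply] at e1 e2
        subst e1
        subst e2
        rfl
    | inr a =>
      cases b with
      | inl b =>
        have e1 := DFunLike.congr_fun h (some (Sum.inr a))
        have e2 := DFunLike.congr_fun h (some (Sum.inl b))
        simp [Finsupp.single_apply] at e1 e2
        subst e1
        subst e2
        rfl
      | inr b =>
        have e1 := DFunLike.congr_fun h (some (Sum.inl i))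
        simp at e1

/-- The formal computation carried out in its proof: let k be a field of characteristic 2, m a natural
number, and f a power series over k in the variables x_0 and x_i, x_i' (i = 1, ..., m) whose terms
of degree less than 3 are exactly those of x_0^2 + x_1 x_1' + ... + x_m x_m'. Then the ideal
generated by f and all its partial derivatives is the ideal generated by x_0^2 and the x_i, x_i',
and the quotient of the power series ring by this ideal is two-dimensional over k. (Characteristic 2
is what makes the derivative in x_0 lose its linear term.) -/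
theorem result (k : Type u) [Field k] [CharP k 2] (m : ℕ)
    (f : MvPowerSeries (Option (Fin m ⊕ Fin m)) k)
    (hf : ∀ d : Option (Fin m ⊕ Fin m) →₀ ℕ, d.degree < 3 →
      MvPowerSeries.coeff d f = MvPowerSeries.coeff d
        (MvPowerSeries.X none ^ 2 +
          ∑ i : Fin m, MvPowerSeries.X (some (Sum.inl i)) * MvPowerSeries.X (some (Sum.inr i)))) :
    Ideal.span ({f} ∪ Set.range fun i : Option (Fin m ⊕ Fin m) => MvPowerSeries.pderiv k i f) =
      Ideal.span ({MvPowerSeries.X none ^ 2} ∪
        Set.range fun j : Fin m ⊕ Fin m => (MvPowerSeries.X (some j) : MvPowerSeries (Option (Fin m ⊕ Fin m)) k)) ∧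
    Module.finrank k (MvPowerSeries (Option (Fin m ⊕ Fin m)) k ⧸
      Ideal.span ({MvPowerSeries.X none ^ 2} ∪
        Set.range fun j : Fin m ⊕ Fin m => (MvPowerSeries.X (some j) : MvPowerSeries (Option (Fin m ⊕ Fin m)) k))) = 2 := by
  classical
  have hf' : ∀ d : Idx m →₀ ℕ, d.degree < 3 → coeff d f = coeff d (qf k m) := hf
  have f0 : coeff 0 f = 0 := by
    rw [hf' 0 (by simp), coeff_qf_of_degree_ne _ (by simp)]
  have f1 : ∀ s : Idx m, coeff (single s 1) f = 0 := fun s => by
    rw [hf' _ (by simp), coeff_qf_of_degree_ne _ (by simp)]
  have f2 : coeff (single none 2) f = 1 := by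
    rw [hf' _ (by simp), coeff_qf_none_two]
  have f3 : ∀ j : Fin m ⊕ Fin m, coeff (single none 1 + single (some j) 1) f = 0 := fun j => by
    rw [hf' _ (by simp), coeff_qf_none_some]
  have f4 : ∀ a b : Fin m ⊕ Fin m, coeff (single (some a) 1 + single (some b) 1) f =
      if b = a.swap then 1 else 0 := fun a b => by
    rw [hf' _ (by simp), coeff_qf_some_some]
  change Ideal.span ({f} ∪ Set.range fun i : Idx m => MvPowerSeries.pderiv k i f) = T k m ∧
    Module.finrank k (MvPowerSeries (Idx m) k ⧸ T k m) = 2
  constructor
  · apply le_antisymm
    · rw [Ideal.span_le]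
      rintro g (rfl | ⟨s, rfl⟩)
      · exact mem_T_of_coeff f0 (f1 none)
      · apply mem_T_of_coeff
        · rw [coeff_pderiv, zero_add, f1 s, zero_mul]
        · rw [coeff_pderiv]
          cases s with
          | none =>
            rw [single_eq_same]
            have : ((1 : ℕ) : k) + 1 = 0 := by
              rw [Nat.cast_one]
              exact CharTwo.add_self_eq_zero (1 : k)
            rw [this, mul_zero]
          | some j => rw [f3 j, zero_mul]
    · refine Submodule.le_of_le_smul_of_le_jacobson_bot
        (I := IsLocalRing.maximalIdeal (MvPowerSeries (Idx m) k)) ?_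
        (IsLocalRing.maximalIdeal_le_jacobson ⊥) ?_
      · exact Submodule.fg_span (Set.Finite.union (Set.finite_singleton _) (Set.finite_range _))
      · rw [smul_eq_mul]
        nth_rewrite 1 [T]
        rw [Ideal.span_le]
        rintro g (rfl | ⟨j, rfl⟩)
        · have : (X none ^ 2 : MvPowerSeries (Idx m) k) = f - (f - X none ^ 2) := by ring
          rw [this]
          apply Submodule.sub_mem
          · exact Submodule.mem_sup_left (Ideal.subset_span (Or.inl rfl))
          · apply Submodule.mem_sup_right
            apply mem_mT_of_coeff
            · rw [map_sub, f0, X_pow_eq, coeff_monomial, if_neg, sub_zero]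
              exact (single_ne_zero.mpr (by norm_num)).symm
            · rw [map_sub, f1, X_pow_eq, coeff_monomial, if_neg, sub_zero]
              intro h
              have := DFunLike.congr_fun h none
              simp at this
            · rw [map_sub, f2, X_pow_eq, coeff_monomial, if_pos rfl, sub_self]
            · intro l
              rw [map_sub, f1, X_pow_eq, coeff_monomial, if_neg, sub_zero]
              intro h
              have := DFunLike.congr_fun h none
              simp at this
        · set j' := j.swap with hj'
          set c := coeff (single none 2) (MvPowerSeries.pderiv k (some j') f) with hc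
          have : (X (some j) : MvPowerSeries (Idx m) k) =
              (MvPowerSeries.pderiv k (some j') f - C c * f) +
                (X (some j) - MvPowerSeries.pderiv k (some j') f + C c * f) := by ring
          change (X (some j) : MvPowerSeries (Idx m) k) ∈ _
          rw [this]
          apply Submodule.add_mem
          · apply Submodule.mem_sup_left
            apply Submodule.sub_mem
            · exact Ideal.subset_span (Or.inr ⟨some j', rfl⟩)
            · exact Ideal.mul_mem_left _ _ (Ideal.subset_span (Or.inl rfl))
          · apply Submodule.mem_sup_right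
            apply mem_mT_of_coeff
            · rw [map_add, map_sub, coeff_C_mul, f0, coeff_pderiv, zero_add, f1, coeff_X, if_neg]
              · ring
              · exact (single_ne_zero.mpr (by norm_num)).symm
            · rw [map_add, map_sub, coeff_C_mul, f1, coeff_pderiv, f3, coeff_X, if_neg]
              · ring
              · intro h
                have := DFunLike.congr_fun h none
                simp at this
            · rw [map_add, map_sub, coeff_C_mul, f2, ← hc, coeff_X, if_neg]
              · ring
              · intro h
                have := DFunLike.congr_fun h none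
                simp at this
            · intro l
              rw [map_add, map_sub, coeff_C_mul, f1, coeff_pderiv, f4, coeff_X]
              by_cases hlj : l = j
              · rw [hlj, if_pos rfl, if_pos rfl, single_eq_of_ne]
                · push_cast; ring
                · intro h
                  have h' : j.swap = j := by
                    have := Option.some.inj h
                    rw [hj'] at this
                    exact this
                  cases j <;> simp at h'
              · rw [if_neg, if_neg]
                · ring
                · intro h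
                  apply hlj
                  rw [hj'] at h
                  have := congrArg Sum.swap h
                  rw [Sum.swap_swap, Sum.swap_swap] at this
                  exact this.symm
                · intro h
                  apply hlj
                  have := (Finsupp.single_left_inj (by norm_num : (1 : ℕ) ≠ 0)).mp h
                  exact Option.some.inj this
  · let ℓ : MvPowerSeries (Idx m) k →ₗ[k] k × k :=
      (MvPowerSeries.coeff (R := k) (0 : Idx m →₀ ℕ)).prod
        (MvPowerSeries.coeff (R := k) (single (none : Idx m) 1))
    have hker : LinearMap.ker ℓ = (T k m).restrictScalars k := by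
      ext g
      rw [LinearMap.mem_ker, Submodule.restrictScalars_mem]
      constructor
      · intro h
        have h' : (coeff 0 g, coeff (single none 1) g) = ((0 : k), (0 : k)) := h
        rw [Prod.mk.injEq] at h'
        exact mem_T_of_coeff h'.1 h'.2
      · intro h
        obtain ⟨h0, h1⟩ := coeff_of_mem_T h
        change (coeff 0 g, coeff (single none 1) g) = ((0 : k), (0 : k))
        rw [h0, h1]
    have hsurj : Function.Surjective ℓ := by
      rintro ⟨a, b⟩
      refine ⟨C a + C b * X none, ?_⟩
      change (coeff 0 (C a + C b * X none), coeff (single none 1) (C a + C b * X none)) = (a, b)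
      rw [map_add, map_add, coeff_C_mul, coeff_C_mul, coeff_X, coeff_X, coeff_C, coeff_C,
        if_pos rfl, if_pos rfl, if_neg, if_neg]
      · simp
      · exact single_ne_zero.mpr (by norm_num)
      · exact (single_ne_zero.mpr (by norm_num)).symm
    let e : (MvPowerSeries (Idx m) k ⧸ T k m) ≃ₗ[k] k × k :=
      (Submodule.Quotient.restrictScalarsEquiv k (T k m)).symm ≪≫ₗ
        (Submodule.quotEquivOfEq _ _ hker.symm) ≪≫ₗ ℓ.quotKerEquivOfSurjective hsurj
    rw [LinearEquiv.finrank_eq e, Module.finrank_prod, Module.finrank_self]

end Groth.Agent.S8720
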