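import Groth.Statements.S8721
import Groth.Agent.Lib.Helper44.SepClosedFrob

set_option autoImplicit false
universe u v
open SGA7II
open Groth.Agent.Lib.Helper44 Groth.Agent.Lib.Helper96 Groth.Agent.Lib.Helper96.SigmaLin

namespace Groth.Agent.S8721

/-- Let k be a separably closed field of characteristic p > 0, q = p^r with r >= 1, V a
finite-dimensional k-vector space and phi : V -> V additive with phi(c v) = c^q phi(v). Let V_ss be
the intersection, over n >= 1, of the k-subspaces spanned by the images of the iterates phi^n (the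
semisimple part of V). Then V_ss has a k-basis consisting of phi-fixed vectors, and every phi-fixed
vector of V is a linear combination of this basis with coefficients c satisfying c^q = c; that is,
V_ss is obtained from the F_q-space of fixed vectors by extension of scalars. -/
theorem result (k : Type u) [Field k] [IsSepClosed k] (p : ℕ)
    [Fact p.Prime] [CharP k p] (r : ℕ) (hr : 0 < r) (V : Type v) [AddCommGroup V] [Module k V]
    [FiniteDimensional k V] (φ : V →+ V) (hφ : ∀ (c : k) (v : V), φ (c • v) = c ^ (p ^ r) • φ v) :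
    let Vss : Submodule k V := ⨅ n : ℕ, Submodule.span k (Set.range (φ^[n + 1]))
    ∃ b : Module.Basis (Fin (Module.finrank k ↥Vss)) k ↥Vss, (∀ i, φ (b i : V) = (b i : V)) ∧
      ∀ v : V, φ v = v → ∃ c : Fin (Module.finrank k ↥Vss) → k,
        (∀ i, c i ^ (p ^ r) = c i) ∧ v = ∑ i, c i • (b i : V) := by
  intro Vss
  set T := semilinOf p r φ hφ with hT
  have hV : Vss = Winf T := by
    apply le_antisymm
    · refine le_iInf fun n => ?_
      cases n with
      | zero => rw [W_zero]; exact le_top
      | succ n => exact iInf_le _ n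
    · refine le_iInf fun n => ?_
      exact iInf_le _ (n + 1)
  clear_value Vss
  subst hV
  obtain ⟨b, hb⟩ := exists_basis_fixed_Winf T (hyp2_iterateFrobenius k p r hr)
    (hyp3_iterateFrobenius k p r hr)
  refine ⟨b, hb, ?_⟩
  intro v hv
  have hvT : T v = v := hv
  have hvmem : v ∈ Winf T := by
    refine Submodule.mem_iInf _ |>.mpr fun n => ?_
    refine Submodule.subset_span ⟨v, ?_⟩
    exact Function.iterate_fixed hvT n
  set c := b.repr ⟨v, hvmem⟩ with hc
  have hsum : (⟨v, hvmem⟩ : Winf T) = ∑ i, c i • b i := (b.sum_repr ⟨v, hvmem⟩).symm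
  have hsumV : v = ∑ i, c i • (b i : V) := by
    have := congrArg Subtype.val hsum
    simpa using this
  refine ⟨fun i => c i, ?_, hsumV⟩
  -- apply `T`
  have hTv : v = ∑ i, (c i) ^ (p ^ r) • (b i : V) := by
    conv_lhs => rw [← hvT, hsumV]
    rw [map_sum]
    apply Finset.sum_congr rfl
    intro i _
    rw [LinearMap.map_smulₛₗ, hb i, iterateFrobenius_def]
  have hsum2 : (⟨v, hvmem⟩ : Winf T) = ∑ i, ((c i) ^ (p ^ r)) • b i := by
    apply Subtype.ext
    simpa using hTv
  intro i
  have h1 := congrArg (fun w => b.repr w i) hsum2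
  simp only [map_sum, map_smul, Module.Basis.repr_self, Finsupp.smul_single, smul_eq_mul,
    mul_one, Finsupp.coe_finsetSum, Finset.sum_apply] at h1
  rw [Finset.sum_eq_single i] at h1
  · rw [Finsupp.single_eq_same] at h1
    exact h1.symm
  · intro j _ hj
    rw [Finsupp.single_eq_of_ne hj.symm]
  · intro h; exact absurd (Finset.mem_univ _) h

end Groth.Agent.S8721
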