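import Groth.Statements.S8722
import Groth.Agent.Lib.Helper44.SepClosedFrob

set_option autoImplicit false
universe u v
open SGA7II
open Groth.Agent.Lib.Helper44 Groth.Agent.Lib.Helper96 Groth.Agent.Lib.Helper96.SigmaLin

namespace Groth.Agent.S8722

theorem iterate_sum_smul {k : Type u} [Field k] {σ : k →+* k} {V : Type v} [AddCommGroup V]
    [Module k V] (T : V →ₛₗ[σ] V) (n : ℕ) {ι : Type*} (s : Finset ι) (c : ι → k) (w : ι → V)
    (hw : ∀ i ∈ s, T (w i) = w i) :
    (⇑T)^[n] (∑ i ∈ s, c i • w i) = ∑ i ∈ s, (⇑σ)^[n] (c i) • w i := by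
  classical
  induction s using Finset.induction_on with
  | empty => simp
  | insert a s ha ih =>
    rw [Finset.sum_insert ha, Finset.sum_insert ha, iterate_add, iterate_smul,
      ih (fun i hi => hw i (Finset.mem_insert_of_mem hi)),
      Function.iterate_fixed (hw a (Finset.mem_insert_self a s)) n]

/-- Let k be a separably closed field of characteristic p > 0, q = p^r with r >= 1, V a
finite-dimensional k-vector space and phi : V -> V additive with phi(c v) = c^q phi(v), semisimple
in the sense that its image spans V. Then for n >= 1 the fixed vectors of the n-th iterate of phi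
are exactly the finite linear combinations of phi-fixed vectors with coefficients c satisfying
c^(q^n) = c; that is, the fixed space of phi^n is obtained from the F_q-space of phi-fixed vectors
by extending scalars to F_{q^n}. -/
theorem result (k : Type u) [Field k] [IsSepClosed k] (p : ℕ)
    [Fact p.Prime] [CharP k p] (r : ℕ) (hr : 0 < r) (V : Type v) [AddCommGroup V] [Module k V]
    [FiniteDimensional k V] (φ : V →+ V) (hφ : ∀ (c : k) (v : V), φ (c • v) = c ^ (p ^ r) • φ v)
    (hss : Submodule.span k (Set.range φ) = ⊤) (n : ℕ) (hn : 0 < n) (v : V) :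
    φ^[n] v = v ↔ ∃ (s : Finset V) (c : V → k), (∀ w ∈ s, φ w = w) ∧
      (∀ w ∈ s, c w ^ ((p ^ r) ^ n) = c w) ∧ v = ∑ w ∈ s, c w • w := by
  classical
  set T := semilinOf p r φ hφ with hT
  have hcoe : ⇑T = ⇑φ := rfl
  constructor
  · intro hv
    have hvT : (⇑T)^[n] v = v := hv
    obtain ⟨b, hb⟩ := exists_basis_fixed T hss (hyp2_iterateFrobenius k p r hr)
      (hyp3_iterateFrobenius k p r hr)
    set a := b.repr v with ha
    have hsum : v = ∑ i, a i • b i := (b.sum_repr v).symm
    have hsum2 : v = ∑ i, (a i) ^ ((p ^ r) ^ n) • b i := by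
      conv_lhs => rw [← hvT, hsum]
      rw [iterate_sum_smul T n Finset.univ (fun i => a i) (fun i => b i) (fun i _ => hb i)]
      apply Finset.sum_congr rfl
      intro i _
      rw [iterate_iterateFrobenius]
    have hai : ∀ i, a i ^ ((p ^ r) ^ n) = a i := by
      intro i
      have h1 := congrArg (fun w => b.repr w i) hsum2
      simp only [map_sum, map_smul, Module.Basis.repr_self, Finsupp.smul_single, smul_eq_mul,
        mul_one, Finsupp.coe_finsetSum, Finset.sum_apply] at h1
      rw [Finset.sum_eq_single i] at h1
      · rw [Finsupp.single_eq_same] at h1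
        exact h1.symm
      · intro j _ hj
        rw [Finsupp.single_eq_of_ne hj.symm]
      · intro h; exact absurd (Finset.mem_univ _) h
    have hinj : Function.Injective b := b.injective
    refine ⟨Finset.univ.image b, fun w => if h : ∃ i, b i = w then a h.choose else 0, ?_, ?_, ?_⟩
    · intro w hw
      obtain ⟨i, -, rfl⟩ := Finset.mem_image.mp hw
      exact hb i
    · intro w hw
      obtain ⟨i, -, rfl⟩ := Finset.mem_image.mp hw
      have hex : ∃ j, b j = b i := ⟨i, rfl⟩
      simp only [dif_pos hex]
      exact hai _
    · rw [Finset.sum_image (fun i _ j _ h => hinj h)]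
      conv_lhs => rw [hsum]
      apply Finset.sum_congr rfl
      intro i _
      have hex : ∃ j, b j = b i := ⟨i, rfl⟩
      simp only [dif_pos hex]
      have : hex.choose = i := hinj hex.choose_spec
      rw [this]
  · rintro ⟨s, c, hfix, hc, rfl⟩
    rw [← hcoe, iterate_sum_smul T n s c (fun w => w) (fun w hw => hfix w hw)]
    apply Finset.sum_congr rfl
    intro w hw
    rw [iterate_iterateFrobenius, hc w hw]

end Groth.Agent.S8722
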