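import Groth.Statements.S8732
import Groth.Agent.Lib.Helper44.NonnegSeries

set_option autoImplicit false
open LefPen

namespace Groth.Agent.S8732

open MvPowerSeries Groth.Agent.Lib.Helper44.NonnegSeries

/-- the ambient ring -/
abbrev R := MvPowerSeries (Fin 2) ℤ

/-- exponent vector -/
noncomputable def e (p q : ℕ) : Fin 2 →₀ ℕ := Finsupp.single 0 p + Finsupp.single 1 q

@[simp] theorem e_zero (p q : ℕ) : e p q 0 = p := by simp [e]
@[simp] theorem e_one (p q : ℕ) : e p q 1 = q := by simp [e]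

theorem eq_e (d : Fin 2 →₀ ℕ) : d = e (d 0) (d 1) := by
  ext i; fin_cases i <;> simp

theorem e_add (p q p' q' : ℕ) : e p q + e p' q' = e (p + p') (q + q') := by
  ext i; fin_cases i <;> simp

theorem e_inj {p q p' q' : ℕ} : e p q = e p' q' ↔ p = p' ∧ q = q' := by
  constructor
  · intro h
    exact ⟨by simpa using congrArg (fun f => f 0) h, by simpa using congrArg (fun f => f 1) h⟩
  · rintro ⟨rfl, rfl⟩; rfl

theorem eq_e_iff (d : Fin 2 →₀ ℕ) (u v : ℕ) : d = e u v ↔ d 0 = u ∧ d 1 = v := by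
  conv_lhs => rw [eq_e d]
  exact e_inj

theorem e_zero_zero : e 0 0 = 0 := by
  ext i; fin_cases i <;> simp

theorem sum_e {ι : Type*} (s : Finset ι) (f g : ι → ℕ) :
    ∑ i ∈ s, e (f i) (g i) = e (∑ i ∈ s, f i) (∑ i ∈ s, g i) := by
  ext j; fin_cases j <;> simp [Finsupp.finsetSum_apply]

/-- a monomial with natural coefficient, in the syntactic shape used by the statement -/
noncomputable def mono (c u v : ℕ) : R := (c : R) * X 0 ^ u * X 1 ^ v

theorem mono_eq (c u v : ℕ) : mono c u v = monomial (e u v) (c : ℤ) := by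
  unfold mono e
  rw [X_pow_eq, X_pow_eq, ← map_natCast (C (σ := Fin 2) (R := ℤ)), ← monomial_zero_eq_C_apply,
    monomial_mul_monomial, monomial_mul_monomial, zero_add, mul_one, mul_one]

theorem coeff_mono (c u v : ℕ) (d : Fin 2 →₀ ℕ) :
    coeff d (mono c u v) = if d = e u v then (c : ℤ) else 0 := by
  classical
  rw [mono_eq, coeff_monomial]

theorem mono_nonneg (c u v : ℕ) : Nonneg (mono c u v) := fun d => by
  rw [coeff_mono]
  split_ifs
  · exact Int.natCast_nonneg c
  · exact le_refl (0 : ℤ)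

theorem coeff_mono_ne_zero (c u v : ℕ) (d : Fin 2 →₀ ℕ) :
    coeff d (mono c u v) ≠ 0 ↔ d = e u v ∧ c ≠ 0 := by
  rw [coeff_mono]
  split_ifs with h
  · simp [h]
  · simp [h]

section dsum
variable (s t : Finset ℕ) (cond : ℕ → ℕ → Prop) [∀ u v, Decidable (cond u v)] (c : ℕ → ℕ → ℕ)

theorem term_nonneg (u v : ℕ) : Nonneg (if cond u v then mono (c u v) u v else 0) := by
  split_ifs
  · exact mono_nonneg _ _ _
  · exact Groth.Agent.Lib.Helper44.NonnegSeries.Nonneg.zero

theorem dsum_nonneg :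
    Nonneg (∑ u ∈ s, ∑ v ∈ t, if cond u v then mono (c u v) u v else 0) :=
  Nonneg.sum _ _ fun u _ => Nonneg.sum _ _ fun v _ => term_nonneg cond c u v

theorem coeff_dsum_ne_zero_iff (d : Fin 2 →₀ ℕ) :
    coeff d (∑ u ∈ s, ∑ v ∈ t, if cond u v then mono (c u v) u v else 0) ≠ 0 ↔
      d 0 ∈ s ∧ d 1 ∈ t ∧ cond (d 0) (d 1) ∧ c (d 0) (d 1) ≠ 0 := by
  rw [coeff_sum_ne_zero_iff _ _ (fun u _ => Nonneg.sum _ _ fun v _ => term_nonneg cond c u v)]
  constructor
  · rintro ⟨u, hu, h⟩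
    rw [coeff_sum_ne_zero_iff _ _ (fun v _ => term_nonneg cond c u v)] at h
    obtain ⟨v, hv, h⟩ := h
    split_ifs at h with hc
    · rw [coeff_mono_ne_zero, eq_e_iff] at h
      obtain ⟨⟨h0, h1⟩, hne⟩ := h
      rw [h0, h1]
      exact ⟨hu, hv, hc, hne⟩
    · simp at h
  · rintro ⟨hu, hv, hc, hne⟩
    refine ⟨d 0, hu, ?_⟩
    rw [coeff_sum_ne_zero_iff _ _ (fun v _ => term_nonneg cond c (d 0) v)]
    refine ⟨d 1, hv, ?_⟩
    rw [if_pos hc, coeff_mono_ne_zero]
    exact ⟨eq_e d, hne⟩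

end dsum

/-- the numerical criterion for a hypersurface of degree `b` -/
def crit (b p q : ℕ) : Prop := p + q + 2 ≤ (min p q + 1) * b

theorem crit_symm {b p q : ℕ} : crit b p q ↔ crit b q p := by
  unfold crit; rw [min_comm, add_comm p q]

theorem crit_of_small {b p q : ℕ} (h : p + q + 2 ≤ b) : crit b p q := by
  unfold crit
  calc p + q + 2 ≤ b := h
    _ = 1 * b := (one_mul b).symm
    _ ≤ (min p q + 1) * b := Nat.mul_le_mul_right b (by omega)

theorem crit_step {b u v p' q' : ℕ} (hu : 1 ≤ u) (hv : 1 ≤ v) (huv : u + v ≤ b)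
    (h : crit b p' q') : crit b (u + p') (v + q') := by
  unfold crit at *
  have h1 : min p' q' + 1 + 1 ≤ min (u + p') (v + q') + 1 := by omega
  calc u + p' + (v + q') + 2 = (p' + q' + 2) + (u + v) := by omega
    _ ≤ (min p' q' + 1) * b + b := by omega
    _ = (min p' q' + 1 + 1) * b := by ring
    _ ≤ (min (u + p') (v + q') + 1) * b := Nat.mul_le_mul_right b h1

theorem crit_rec_aux (b p q : ℕ) (hpq : p ≤ q) (h : crit b p q) (hbig : ¬ p + q + 2 ≤ b) :
    ∃ u v p' q', u + p' = p ∧ v + q' = q ∧ 1 ≤ u ∧ 1 ≤ v ∧ u + v ≤ b ∧ crit b p' q' := by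
  unfold crit at h
  rw [min_eq_left hpq] at h
  have hp : 1 ≤ p := by
    by_contra hp0
    have : p = 0 := by omega
    subst this
    simp at h
    omega
  have hb : 2 ≤ b := by
    by_contra hb1
    have hb1' : b ≤ 1 := by omega
    have := Nat.mul_le_mul_left (p + 1) hb1'
    omega
  have h' : (p + 1) * b = p * b + b := Nat.succ_mul p b
  have h2 : p * 2 ≤ p * b := Nat.mul_le_mul_left p hb
  have h3 : (p - 1 + 1) * b = p * b := by rw [Nat.sub_add_cancel hp]
  by_cases hv : q - p + 1 ≤ b - 1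
  · refine ⟨1, q - p + 1, p - 1, q - (q - p + 1), by omega, by omega, le_refl _, by omega,
      by omega, ?_⟩
    unfold crit
    have hmin : min (p - 1) (q - (q - p + 1)) = p - 1 := by omega
    rw [hmin, h3]
    omega
  · refine ⟨1, b - 1, p - 1, q - (b - 1), by omega, by omega, le_refl _, by omega,
      by omega, ?_⟩
    unfold crit
    have hmin : min (p - 1) (q - (b - 1)) = p - 1 := by omega
    rw [hmin, h3]
    omega

theorem crit_rec (b p q : ℕ) :
    crit b p q ↔ (p + q + 2 ≤ b) ∨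
      ∃ u v p' q', u + p' = p ∧ v + q' = q ∧ 1 ≤ u ∧ 1 ≤ v ∧ u + v ≤ b ∧ crit b p' q' := by
  constructor
  · intro h
    by_cases hbig : p + q + 2 ≤ b
    · exact Or.inl hbig
    · right
      rcases le_total p q with hpq | hqp
      · exact crit_rec_aux b p q hpq h hbig
      · obtain ⟨u, v, p', q', h1, h2, h3, h4, h5, h6⟩ :=
          crit_rec_aux b q p hqp (crit_symm.mp h) (by omega)
        exact ⟨v, u, q', p', h2, h1, h4, h3, by omega, crit_symm.mp h6⟩
  · rintro (h | ⟨u, v, p', q', rfl, rfl, h3, h4, h5, h6⟩)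
    · exact crit_of_small h
    · exact crit_step h3 h4 h5 h6

/-- the series `P_b` of the statement -/
noncomputable def Pser (b : ℕ) : R :=
  ∑ u ∈ Finset.range (b + 1), ∑ v ∈ Finset.range (b + 1),
    if 1 ≤ u ∧ 1 ≤ v ∧ u + v ≤ b then (b.choose (u + v) : R) * X 0 ^ u * X 1 ^ v else 0

/-- the series `N_b` of the statement -/
noncomputable def Nser (b : ℕ) : R :=
  ∑ u ∈ Finset.range b, ∑ v ∈ Finset.range b,
    if u + v + 1 ≤ b - 1 then ((b - 1).choose (u + v + 1) : R) * X 0 ^ u * X 1 ^ v else 0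

theorem Pser_nonneg (b : ℕ) : Nonneg (Pser b) :=
  dsum_nonneg (Finset.range (b + 1)) (Finset.range (b + 1))
    (fun u v => 1 ≤ u ∧ 1 ≤ v ∧ u + v ≤ b) (fun u v => b.choose (u + v))

theorem Nser_nonneg (b : ℕ) : Nonneg (Nser b) :=
  dsum_nonneg (Finset.range b) (Finset.range b)
    (fun u v => u + v + 1 ≤ b - 1) (fun u v => (b - 1).choose (u + v + 1))

theorem coeff_Pser_ne_zero (b : ℕ) (d : Fin 2 →₀ ℕ) :
    coeff d (Pser b) ≠ 0 ↔ 1 ≤ d 0 ∧ 1 ≤ d 1 ∧ d 0 + d 1 ≤ b := by
  refine (coeff_dsum_ne_zero_iff (Finset.range (b + 1)) (Finset.range (b + 1))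
    (fun u v => 1 ≤ u ∧ 1 ≤ v ∧ u + v ≤ b) (fun u v => b.choose (u + v)) d).trans ?_
  simp only [Finset.mem_range]
  constructor
  · rintro ⟨-, -, h, -⟩
    exact h
  · rintro ⟨h1, h2, h3⟩
    exact ⟨by omega, by omega, ⟨h1, h2, h3⟩, (Nat.choose_pos h3).ne'⟩

theorem coeff_Nser_ne_zero (b : ℕ) (d : Fin 2 →₀ ℕ) :
    coeff d (Nser b) ≠ 0 ↔ d 0 + d 1 + 2 ≤ b := by
  refine (coeff_dsum_ne_zero_iff (Finset.range b) (Finset.range b)
    (fun u v => u + v + 1 ≤ b - 1) (fun u v => (b - 1).choose (u + v + 1)) d).trans ?_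
  simp only [Finset.mem_range]
  constructor
  · rintro ⟨-, -, h, -⟩
    omega
  · intro h
    have h3 : d 0 + d 1 + 1 ≤ b - 1 := by omega
    exact ⟨by omega, by omega, h3, (Nat.choose_pos h3).ne'⟩

theorem hyp_series_aux (b : ℕ) (Hb : R) (h : (1 - Pser b) * Hb = Nser b) :
    ∀ n, ∀ d : Fin 2 →₀ ℕ, d 0 + d 1 < n →
      0 ≤ coeff d Hb ∧ (coeff d Hb ≠ 0 ↔ crit b (d 0) (d 1)) := by
  classical
  have hrec : Hb = Nser b + Pser b * Hb := by rw [← h]; ring
  intro n
  induction n with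
  | zero => intro d hd; omega
  | succ n ih =>
    intro d hd
    have hc : coeff d Hb = coeff d (Nser b) +
        ∑ x ∈ Finset.HasAntidiagonal.antidiagonal d, coeff x.1 (Pser b) * coeff x.2 Hb := by
      conv_lhs => rw [hrec]
      rw [map_add, coeff_mul]
    have hterm : ∀ x ∈ Finset.HasAntidiagonal.antidiagonal d,
        0 ≤ coeff x.1 (Pser b) * coeff x.2 Hb ∧
        (coeff x.1 (Pser b) * coeff x.2 Hb ≠ 0 ↔
          (1 ≤ x.1 0 ∧ 1 ≤ x.1 1 ∧ x.1 0 + x.1 1 ≤ b) ∧ crit b (x.2 0) (x.2 1)) := by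
      intro x hx
      rw [Finset.HasAntidiagonal.mem_antidiagonal] at hx
      by_cases hP : coeff x.1 (Pser b) = 0
      · rw [hP, zero_mul]
        refine ⟨le_refl (0 : ℤ), ?_⟩
        constructor
        · intro h0; exact absurd rfl h0
        · rintro ⟨hh, -⟩
          exact absurd hP ((coeff_Pser_ne_zero b x.1).mpr hh)
      · have hP' := (coeff_Pser_ne_zero b x.1).mp hP
        have h0 : x.1 0 + x.2 0 = d 0 := by rw [← hx]; rfl
        have h1 : x.1 1 + x.2 1 = d 1 := by rw [← hx]; rfl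
        have hdeg : x.2 0 + x.2 1 < n := by omega
        obtain ⟨ih1, ih2⟩ := ih x.2 hdeg
        refine ⟨mul_nonneg (Pser_nonneg b x.1) ih1, ?_⟩
        rw [mul_ne_zero_iff, ih2, coeff_Pser_ne_zero]
    have hsum_nonneg : 0 ≤ ∑ x ∈ Finset.HasAntidiagonal.antidiagonal d,
        coeff x.1 (Pser b) * coeff x.2 Hb :=
      Finset.sum_nonneg fun x hx => (hterm x hx).1
    rw [hc]
    refine ⟨add_nonneg (Nser_nonneg b d) hsum_nonneg, ?_⟩
    rw [Ne, add_eq_zero_iff_of_nonneg (Nser_nonneg b d) hsum_nonneg,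
      Finset.sum_eq_zero_iff_of_nonneg (fun x hx => (hterm x hx).1), crit_rec]
    constructor
    · intro hne
      by_cases hN : coeff d (Nser b) = 0
      · right
        have hnall : ¬ ∀ x ∈ Finset.HasAntidiagonal.antidiagonal d,
            coeff x.1 (Pser b) * coeff x.2 Hb = 0 := fun hall => hne ⟨hN, hall⟩
        push Not at hnall
        obtain ⟨x, hx, hxne⟩ := hnall
        obtain ⟨⟨h1, h2, h3⟩, h4⟩ := (hterm x hx).2.mp hxne
        rw [Finset.HasAntidiagonal.mem_antidiagonal] at hx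
        have h0' : x.1 0 + x.2 0 = d 0 := by rw [← hx]; rfl
        have h1' : x.1 1 + x.2 1 = d 1 := by rw [← hx]; rfl
        exact ⟨x.1 0, x.1 1, x.2 0, x.2 1, h0', h1', h1, h2, h3, h4⟩
      · left
        exact (coeff_Nser_ne_zero b d).mp hN
    · rintro (hs | ⟨u, v, p', q', hu, hv, h1, h2, h3, h4⟩) ⟨hN, hall⟩
      · exact (coeff_Nser_ne_zero b d).mpr hs hN
      · have hx : (e u v, e p' q') ∈ Finset.HasAntidiagonal.antidiagonal d := by
          rw [Finset.HasAntidiagonal.mem_antidiagonal]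
          show e u v + e p' q' = d
          rw [e_add, hu, hv]
          exact (eq_e d).symm
        refine ((hterm _ hx).2.mpr ⟨⟨?_, ?_, ?_⟩, ?_⟩) (hall _ hx)
        · simpa using h1
        · simpa using h2
        · simpa using h3
        · simpa using h4

theorem hyp_nonneg (b : ℕ) (Hb : R) (h : (1 - Pser b) * Hb = Nser b) : Nonneg Hb :=
  fun d => (hyp_series_aux b Hb h (d 0 + d 1 + 1) d (Nat.lt_succ_self _)).1

theorem hyp_supp (b : ℕ) (Hb : R) (h : (1 - Pser b) * Hb = Nser b) (d : Fin 2 →₀ ℕ) :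
    coeff d Hb ≠ 0 ↔ crit b (d 0) (d 1) :=
  (hyp_series_aux b Hb h (d 0 + d 1 + 1) d (Nat.lt_succ_self _)).2

/-- the base series `(1+y)(1+z)` -/
noncomputable def B : R := (1 + X 0) * (1 + X 1)

theorem B_eq : B = ∑ u ∈ Finset.range 2, ∑ v ∈ Finset.range 2,
    if True then mono 1 u v else 0 := by
  simp [Finset.sum_range_succ, mono, B]
  ring

theorem B_nonneg : Nonneg B := by
  rw [B_eq]
  exact dsum_nonneg _ _ (fun _ _ => True) (fun _ _ => 1)

theorem coeff_B_ne_zero (d : Fin 2 →₀ ℕ) : coeff d B ≠ 0 ↔ d 0 ≤ 1 ∧ d 1 ≤ 1 := by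
  rw [B_eq]
  refine (coeff_dsum_ne_zero_iff (Finset.range 2) (Finset.range 2)
    (fun _ _ => True) (fun _ _ => 1) d).trans ?_
  simp only [Finset.mem_range]
  constructor
  · rintro ⟨h1, h2, -, -⟩
    omega
  · rintro ⟨h1, h2⟩
    exact ⟨by omega, by omega, trivial, one_ne_zero⟩

theorem Bpow (k : ℕ) : Nonneg (B ^ k) ∧ ∀ d : Fin 2 →₀ ℕ, coeff d (B ^ k) ≠ 0 ↔ d 0 ≤ k ∧ d 1 ≤ k := by
  classical
  induction k with
  | zero =>
    refine ⟨by rw [pow_zero]; exact Groth.Agent.Lib.Helper44.NonnegSeries.Nonneg.one, fun d => ?_⟩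
    rw [pow_zero, coeff_one]
    constructor
    · intro h
      have hd : d = 0 := by
        by_contra hne
        rw [if_neg hne] at h
        exact h rfl
      rw [hd]
      simp
    · rintro ⟨h0, h1⟩
      have hd : d = 0 := by
        rw [← e_zero_zero, eq_e_iff]
        omega
      rw [if_pos hd]
      exact one_ne_zero
  | succ k ih =>
    refine ⟨by rw [pow_succ]; exact ih.1.mul B_nonneg, fun d => ?_⟩
    rw [pow_succ, coeff_mul_ne_zero_iff ih.1 B_nonneg]
    constructor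
    · rintro ⟨d₁, d₂, hd, h1, h2⟩
      rw [ih.2] at h1
      rw [coeff_B_ne_zero] at h2
      have h0' : d₁ 0 + d₂ 0 = d 0 := by rw [← hd]; rfl
      have h1' : d₁ 1 + d₂ 1 = d 1 := by rw [← hd]; rfl
      omega
    · rintro ⟨h0, h1⟩
      refine ⟨e (min (d 0) k) (min (d 1) k), e (d 0 - min (d 0) k) (d 1 - min (d 1) k), ?_, ?_, ?_⟩
      · rw [e_add]
        conv_rhs => rw [eq_e d]
        rw [e_inj]
        omega
      · rw [ih.2]
        simp
      · rw [coeff_B_ne_zero]
        simp only [e_zero, e_one]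
        omega

theorem exists_le_sum_eq {ι : Type*} [DecidableEq ι] (s : Finset ι) (c : ι → ℕ) :
    ∀ x : ℕ, x ≤ ∑ i ∈ s, c i → ∃ t : ι → ℕ, (∀ i ∈ s, t i ≤ c i) ∧ ∑ i ∈ s, t i = x := by
  induction s using Finset.induction_on with
  | empty =>
    intro x hx
    rw [Finset.sum_empty] at hx
    exact ⟨fun _ => 0, fun i hi => absurd hi (Finset.notMem_empty i), by
      rw [Finset.sum_empty]; omega⟩
  | insert j s hj ih =>
    intro x hx
    rw [Finset.sum_insert hj] at hx
    obtain ⟨t, ht, hts⟩ := ih (x - min x (c j)) (by omega)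
    refine ⟨Function.update t j (min x (c j)), ?_, ?_⟩
    · intro i hi
      rcases Finset.mem_insert.mp hi with rfl | his
      · rw [Function.update_self]; omega
      · rw [Function.update_of_ne (fun h : i = j => hj (h ▸ his))]
        exact ht i his
    · rw [Finset.sum_insert hj, Function.update_self]
      have : ∑ i ∈ s, Function.update t j (min x (c j)) i = ∑ i ∈ s, t i := by
        refine Finset.sum_congr rfl fun i hi => ?_
        rw [Function.update_of_ne (fun h : i = j => hj (h ▸ hi))]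
      rw [this, hts]
      omega

theorem main_forward {ι : Type*} [Fintype ι] [DecidableEq ι] (a : ι → ℕ) (ha : ∀ i, 1 ≤ a i)
    (P : Finset ι) (hP : P.Nonempty) (M : ℕ) (hM : ∀ i, a i ≤ M)
    (α β : ℕ) (hβ : β ≤ P.card - 1) (pp qq : ι → ℕ)
    (hcrit : ∀ i ∈ P, crit (a i) (pp i) (qq i)) :
    (α + ∑ i ∈ P, pp i) + (β + ∑ i ∈ P, qq i) + Fintype.card ι <
      (α + ∑ i ∈ P, pp i) * M + ∑ i, a i := by
  have hper : ∀ i ∈ P, pp i + qq i + 2 ≤ pp i * M + a i := by
    intro i hi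
    have h := hcrit i hi
    unfold crit at h
    have h1 : (min (pp i) (qq i) + 1) * a i ≤ (pp i + 1) * a i :=
      Nat.mul_le_mul_right _ (by omega)
    have h2 : (pp i + 1) * a i = pp i * a i + a i := Nat.succ_mul _ _
    have h3 : pp i * a i ≤ pp i * M := Nat.mul_le_mul_left _ (hM i)
    omega
  have hsum : ∑ i ∈ P, (pp i + qq i + 2) ≤ ∑ i ∈ P, (pp i * M + a i) := Finset.sum_le_sum hper
  rw [Finset.sum_add_distrib, Finset.sum_add_distrib, Finset.sum_add_distrib, Finset.sum_const,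
    smul_eq_mul, ← Finset.sum_mul] at hsum
  have hcompl : Pᶜ.card • 1 ≤ ∑ i ∈ Pᶜ, a i := Finset.card_nsmul_le_sum _ _ _ fun i _ => ha i
  rw [smul_eq_mul, mul_one] at hcompl
  have hsplit : ∑ i ∈ P, a i + ∑ i ∈ Pᶜ, a i = ∑ i, a i := Finset.sum_add_sum_compl P a
  have hcard : P.card + Pᶜ.card = Fintype.card ι := Finset.card_add_card_compl P
  have hM1 : 1 ≤ M := by
    obtain ⟨i, -⟩ := hP
    exact (ha i).trans (hM i)
  have hαM : α ≤ α * M := Nat.le_mul_of_pos_right α hM1
  have hPc : 1 ≤ P.card := Finset.card_pos.mpr hP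
  rw [add_mul]
  omega

theorem main_backward {ι : Type*} [Fintype ι] [DecidableEq ι] (a : ι → ℕ) (ha : ∀ i, 1 ≤ a i)
    (p q : ℕ) (hpq : p ≤ q)
    (h : p + q + Fintype.card ι < p * Finset.univ.sup a + ∑ i, a i) :
    ∃ P : Finset ι, P.Nonempty ∧ ∃ β, β ≤ P.card - 1 ∧ ∃ pp qq : ι → ℕ,
      (∑ i ∈ P, pp i = p) ∧ (β + ∑ i ∈ P, qq i = q) ∧ ∀ i ∈ P, crit (a i) (pp i) (qq i) := by
  set M := Finset.univ.sup a with hMdef
  have hM : ∀ i, a i ≤ M := fun i => Finset.le_sup (Finset.mem_univ i)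
  -- the universe is nonempty
  have hne : (Finset.univ : Finset ι).Nonempty := by
    by_contra hemp
    rw [Finset.not_nonempty_iff_eq_empty] at hemp
    rw [hMdef, hemp] at h
    simp at h
  obtain ⟨i₀, -, hi₀⟩ := Finset.exists_mem_eq_sup Finset.univ hne a
  rw [← hMdef] at hi₀
  set P : Finset ι := Finset.univ.filter (fun i => 2 ≤ a i) with hPdef
  have hsplit : ∑ i ∈ P, a i + ∑ i ∈ Finset.univ.filter (fun i => ¬ 2 ≤ a i), a i = ∑ i, a i :=
    Finset.sum_filter_add_sum_filter_not Finset.univ (fun i => 2 ≤ a i) a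
  have hones : ∑ i ∈ Finset.univ.filter (fun i => ¬ 2 ≤ a i), a i =
      (Finset.univ.filter (fun i => ¬ 2 ≤ a i)).card := by
    rw [Finset.card_eq_sum_ones]
    refine Finset.sum_congr rfl fun i hi => ?_
    have := (Finset.mem_filter.mp hi).2
    have := ha i
    omega
  have hcard : P.card + (Finset.univ.filter (fun i => ¬ 2 ≤ a i)).card = Fintype.card ι :=
    Finset.card_filter_add_card_filter_not (s := Finset.univ) (fun i => 2 ≤ a i)
  -- `M ≥ 2`
  have hM2 : 2 ≤ M := by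
    by_contra hM1
    have hP0 : P = ∅ := by
      rw [hPdef, Finset.filter_eq_empty_iff]
      intro i _
      have := hM i
      omega
    rw [hP0] at hsplit hcard
    simp only [Finset.sum_empty, Finset.card_empty, zero_add] at hsplit hcard
    have hpM : p * M ≤ p * 1 := Nat.mul_le_mul_left p (by omega)
    omega
  have hi₀P : i₀ ∈ P := by
    rw [hPdef, Finset.mem_filter]
    exact ⟨Finset.mem_univ _, by omega⟩
  have hPne : P.Nonempty := ⟨i₀, hi₀P⟩
  have hPc : 1 ≤ P.card := Finset.card_pos.mpr hPne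
  -- capacities
  set c : ι → ℕ := fun i => (a i - 2) + (if i = i₀ then p * M - 2 * p else 0) with hcdef
  have hcsum : ∑ i ∈ P, c i = ∑ i ∈ P, (a i - 2) + (p * M - 2 * p) := by
    rw [hcdef, Finset.sum_add_distrib, Finset.sum_ite_eq' P i₀, if_pos hi₀P]
  have hasum : ∑ i ∈ P, (a i - 2) + 2 * P.card = ∑ i ∈ P, a i := by
    have : ∑ i ∈ P, a i = ∑ i ∈ P, ((a i - 2) + 2) := by
      refine Finset.sum_congr rfl fun i hi => ?_
      have := (Finset.mem_filter.mp hi).2
      omega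
    rw [this, Finset.sum_add_distrib, Finset.sum_const, smul_eq_mul, mul_comm]
  have h2pM : p * 2 ≤ p * M := Nat.mul_le_mul_left p hM2
  have hcap : q - p - min (q - p) (P.card - 1) ≤ ∑ i ∈ P, c i := by
    rw [hcsum]
    omega
  obtain ⟨t, ht, hts⟩ := exists_le_sum_eq P c _ hcap
  refine ⟨P, hPne, min (q - p) (P.card - 1), min_le_right _ _,
    fun i => if i = i₀ then p else 0, fun i => (if i = i₀ then p else 0) + t i, ?_, ?_, ?_⟩
  · rw [Finset.sum_ite_eq' P i₀, if_pos hi₀P]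
  · rw [Finset.sum_add_distrib, Finset.sum_ite_eq' P i₀, if_pos hi₀P, hts]
    omega
  · intro i hi
    have hti := ht i hi
    have hai := (Finset.mem_filter.mp hi).2
    by_cases hii : i = i₀
    · subst hii
      simp only [if_true] at hti ⊢
      rw [hcdef] at hti
      simp only [if_true] at hti
      unfold crit
      have hmin : min p (p + t i) = p := by omega
      have hsm : (p + 1) * a i = p * a i + a i := Nat.succ_mul _ _
      rw [hmin, hsm]
      rw [hi₀] at h2pM hti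
      omega
    · simp only [if_neg hii] at hti ⊢
      rw [hcdef] at hti
      simp only [if_neg hii] at hti
      unfold crit
      have hmin : min 0 (0 + t i) = 0 := by omega
      have hone : (0 + 1) * a i = a i := by rw [zero_add, one_mul]
      rw [hmin, hone]
      omega

/-- the series `H` of the statement -/
theorem main_aux (d : ℕ) (a : Fin d → ℕ) (ha : ∀ i, 1 ≤ a i)
    (Hs : Fin d → R) (p q : ℕ) (hpq : p ≤ q)
    (hH : ∀ i, (1 - Pser (a i)) * Hs i = Nser (a i)) :
    coeff (e p q) (∑ P ∈ (Finset.univ : Finset (Fin d)).powerset with P.Nonempty,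
      B ^ (P.card - 1) * ∏ i ∈ P, Hs i) ≠ 0 ↔
      p + q + d < p * Finset.univ.sup a + ∑ i, a i := by
  classical
  have hnn : ∀ i, Nonneg (Hs i) := fun i => hyp_nonneg (a i) (Hs i) (hH i)
  have hsupp : ∀ i (δ : Fin 2 →₀ ℕ), coeff δ (Hs i) ≠ 0 ↔ crit (a i) (δ 0) (δ 1) :=
    fun i δ => hyp_supp (a i) (Hs i) (hH i) δ
  have hprodnn : ∀ P : Finset (Fin d), Nonneg (∏ i ∈ P, Hs i) :=
    fun P => Nonneg.prod P Hs fun i _ => hnn i
  rw [coeff_sum_ne_zero_iff _ _ (fun P _ => (Bpow _).1.mul (hprodnn P))]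
  constructor
  · rintro ⟨P, hPmem, hP⟩
    have hPne : P.Nonempty := (Finset.mem_filter.mp hPmem).2
    rw [coeff_mul_ne_zero_iff (Bpow _).1 (hprodnn P)] at hP
    obtain ⟨d₁, d₂, hd, h1, h2⟩ := hP
    rw [(Bpow _).2] at h1
    rw [coeff_prod_ne_zero_iff P Hs (fun i _ => hnn i)] at h2
    obtain ⟨δ, hδ, hδ'⟩ := h2
    have hcrit : ∀ i ∈ P, crit (a i) (δ i 0) (δ i 1) := fun i hi => (hsupp i (δ i)).mp (hδ' i hi)
    have h0 : d₁ 0 + ∑ i ∈ P, δ i 0 = p := by
      have := congrArg (fun f => f 0) hd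
      simp only [Finsupp.add_apply, e_zero] at this
      rw [← this, ← hδ, Finsupp.finsetSum_apply]
    have h1' : d₁ 1 + ∑ i ∈ P, δ i 1 = q := by
      have := congrArg (fun f => f 1) hd
      simp only [Finsupp.add_apply, e_one] at this
      rw [← this, ← hδ, Finsupp.finsetSum_apply]
    have := main_forward a ha P hPne (Finset.univ.sup a)
      (fun i => Finset.le_sup (Finset.mem_univ i)) (d₁ 0) (d₁ 1) h1.2
      (fun i => δ i 0) (fun i => δ i 1) hcrit
    rw [h0, h1', Fintype.card_fin] at this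
    exact this
  · intro h
    have h' : p + q + Fintype.card (Fin d) < p * Finset.univ.sup a + ∑ i, a i := by
      rw [Fintype.card_fin]; exact h
    obtain ⟨P, hPne, β, hβ, pp, qq, hpp, hqq, hcrit⟩ := main_backward a ha p q hpq h'
    refine ⟨P, Finset.mem_filter.mpr ⟨Finset.mem_powerset.mpr (Finset.subset_univ P), hPne⟩, ?_⟩
    rw [coeff_mul_ne_zero_iff (Bpow _).1 (hprodnn P)]
    refine ⟨e 0 β, ∑ i ∈ P, e (pp i) (qq i), ?_, ?_, ?_⟩
    · rw [sum_e, e_add, hpp, hqq, zero_add]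
    · rw [(Bpow _).2]
      simp only [e_zero, e_one]
      exact ⟨Nat.zero_le _, hβ⟩
    · rw [coeff_prod_ne_zero_iff P Hs (fun i _ => hnn i)]
      refine ⟨fun i => e (pp i) (qq i), rfl, fun i hi => ?_⟩
      rw [hsupp]
      simp only [e_zero, e_one]
      exact hcrit i hi

/-- For each i let H_i in Z[[y, z]] be the series determined by (1 - sum_{u, v >= 1, u + v <= a_i}
C(a_i, u+v) y^u z^v) H_i = sum_{u, v >= 0, u + v + 1 <= a_i - 1} C(a_i - 1, u+v+1) y^u z^v (the
hypersurface series of degree a_i), and put H = sum over nonempty subsets P of {1, ..., d} of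
((1+y)(1+z))^(|P|-1) prod_{i in P} H_i, the generating series sum h^{p,q} y^p z^q attached to
primitive middle Hodge numbers of smooth complete intersections of multidegree a. Then for p <= q
one has h^{p,q} ≠ 0 if and only if p + q + d < p · max_i a_i + sum_i a_i, i.e. p > floor((p + q + d
- sum_i a_i) / max_i a_i). (The published statement prints the last condition with >= in place of >;
the proof establishes the strict form, which is the correct one: for a single quadric, d = 1 and a_1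
= 2, the coefficient of y^0 z^1 vanishes although 0 >= floor(0/2).) -/
theorem result (d : ℕ) (a : Fin d → ℕ) (ha : ∀ i, 1 ≤ a i)
    (Hs : Fin d → MvPowerSeries (Fin 2) ℤ) (p q : ℕ) (hpq : p ≤ q) :
    let y : MvPowerSeries (Fin 2) ℤ := MvPowerSeries.X 0
    let z : MvPowerSeries (Fin 2) ℤ := MvPowerSeries.X 1
    let Pser : ℕ → MvPowerSeries (Fin 2) ℤ := fun b => ∑ u ∈ Finset.range (b + 1), ∑ v ∈ Finset.range (b + 1),
      if 1 ≤ u ∧ 1 ≤ v ∧ u + v ≤ b then (b.choose (u + v) : MvPowerSeries (Fin 2) ℤ) * y ^ u * z ^ v else 0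
    let Nser : ℕ → MvPowerSeries (Fin 2) ℤ := fun b => ∑ u ∈ Finset.range b, ∑ v ∈ Finset.range b,
      if u + v + 1 ≤ b - 1 then ((b - 1).choose (u + v + 1) : MvPowerSeries (Fin 2) ℤ) * y ^ u * z ^ v else 0
    (∀ i, (1 - Pser (a i)) * Hs i = Nser (a i)) →
    let H : MvPowerSeries (Fin 2) ℤ := ∑ P ∈ (Finset.univ : Finset (Fin d)).powerset with P.Nonempty,
      ((1 + y) * (1 + z)) ^ (P.card - 1) * ∏ i ∈ P, Hs i
    (MvPowerSeries.coeff (Finsupp.single 0 p + Finsupp.single 1 q) H ≠ 0 ↔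
      p + q + d < p * Finset.univ.sup a + ∑ i, a i) := by
  intro y z Pser' Nser' hH H
  exact main_aux d a ha Hs p q hpq hH

end Groth.Agent.S8732
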