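-- Statement S8738: derivations extend to the normalization in characteristic zero (Seidenberg) (helper44)
import Groth.Statements.S8738
import Groth.Agent.Lib.Helper44.Seidenberg

set_option autoImplicit false
universe u
open SGA7II

namespace Groth.Agent.S8738

open Groth.Agent.Lib.Helper44.Seidenberg

/-- Let k be a field of characteristic zero and A a reduced Noetherian local k-algebra of Krull
dimension one, essentially of finite type over k (the local ring of a reduced curve over k at one of
its points), and let A' be the integral closure of A in its total ring of fractions (the
normalization). Then every k-derivation D of A extends to a k-derivation D' of A', i.e. D' agrees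
with D on the image of A. -/
theorem result (k : Type u) [Field k] [CharZero k] (A : Type u) [CommRing A]
    [Algebra k A] [IsReduced A] [IsNoetherianRing A] [IsLocalRing A] [Algebra.EssFiniteType k A]
    (hdim : ringKrullDim A = 1) (D : Derivation k A A) :
    ∃ D' : Derivation k ↥(integralClosure A (FractionRing A)) ↥(integralClosure A (FractionRing A)),
      ∀ a : A, (D' (algebraMap A ↥(integralClosure A (FractionRing A)) a) : FractionRing A) =
        algebraMap A (FractionRing A) (D a) := by
  let DK := extendDer k A D
  have hint : ∀ x : ↥(integralClosure A (FractionRing A)), DK (x : FractionRing A) ∈
      integralClosure A (FractionRing A) :=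
    fun x => isIntegral_extendDer k A D x x.2
  let L : ↥(integralClosure A (FractionRing A)) →ₗ[k] ↥(integralClosure A (FractionRing A)) :=
    { toFun := fun x => ⟨DK (x : FractionRing A), hint x⟩
      map_add' := fun x y => Subtype.ext (by
        show DK ((x + y : ↥(integralClosure A (FractionRing A))) : FractionRing A) = DK x + DK y
        rw [Subalgebra.coe_add, map_add])
      map_smul' := fun r x => Subtype.ext (by
        show DK ((r • x : ↥(integralClosure A (FractionRing A))) : FractionRing A) = r • DK x
        rw [Subalgebra.coe_smul, DK.map_smul]) }
  refine ⟨Derivation.mk' L fun x y => Subtype.ext ?_, fun a => ?_⟩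
  · show DK ((x * y : ↥(integralClosure A (FractionRing A))) : FractionRing A) =
      (x : FractionRing A) * DK y + (y : FractionRing A) * DK x
    rw [Subalgebra.coe_mul, DK.leibniz, smul_eq_mul, smul_eq_mul]
  · show DK (algebraMap A (FractionRing A) a) = algebraMap A (FractionRing A) (D a)
    exact extendDer_algebraMap k A D a

end Groth.Agent.S8738
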