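-- Statement S8754
import Groth.Statements.S8754
import Groth.Agent.Lib.Helper44.RepFunctor
import Mathlib.CategoryTheory.Abelian.GrothendieckCategory.EnoughInjectives
import Mathlib.CategoryTheory.Abelian.GrothendieckAxioms.FunctorCategory
import Mathlib.Algebra.Category.Grp.AB
import Mathlib.CategoryTheory.Functor.ReflectsIso.Balanced
import Mathlib.Algebra.Category.ModuleCat.Presheaf.Colimits
import Mathlib.Algebra.Category.ModuleCat.Presheaf.Limits

set_option autoImplicit false
universe u
open CategoryTheory CategoryTheory.Limits

namespace Groth.Agent.S8754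

open Groth.Agent.Lib.Helper44

theorem isSeparating_rep (A : Type u) [CommRing A] :
    ObjectProperty.IsSeparating (ObjectProperty.ofObj (fun B : Adeq.Alg A => repObj B)) := by
  intro M N f₁ f₂ h
  ext ⟨⟨B⟩⟩ m
  have := h (repObj B) ⟨B⟩ (repDesc B M m)
  have h2 := congrArg (fun φ => φ.app (Adeq.pt B) (repUniv B)) this
  simp only [PresheafOfModules.comp_app, ModuleCat.hom_comp, LinearMap.comp_apply] at h2
  rw [repDesc_repUniv] at h2
  exact h2

/-- The category of module-valued functors on `A`-algebras has enough injectives (it is a category of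
presheaves of modules). -/
theorem result (A : Type u) [CommRing A] : EnoughInjectives (Adeq.MVF A) := by
  have hsep : HasSeparator (Adeq.MVF A) :=
    ⟨_, (isSeparator_sigma _).2 (isSeparating_rep A)⟩
  have hri : (PresheafOfModules.toPresheaf (Adeq.ringOf A)).ReflectsIsomorphisms := inferInstance
  have hab5 : AB5OfSize.{u + 1, u + 1} (Adeq.MVF A) := by
    refine ⟨fun J _ _ => ?_⟩
    exact HasExactColimitsOfShape.domain_of_functor J (PresheafOfModules.toPresheaf (Adeq.ringOf A))
  have : IsGrothendieckAbelian.{u + 1} (Adeq.MVF A) := {}
  infer_instance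

end Groth.Agent.S8754
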