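import Groth.Statements.S8782
import Groth.Agent.Lib.Helper44.TangentNine

set_option autoImplicit false
universe u
open CategoryTheory Limits
open AdeqTF

namespace Groth.Agent.S8782

/-- If `0 → F → G → H → 0` is a short exact sequence of module-valued functors on `A`-algebras and `F`,
`H` have right exact tangent functors (for every `A`-algebra `B` and short exact `0 → N₁ → N → N₂ →
0` of `B`-modules, `T(B, N₁) → T(B, N) → T(B, N₂) → 0` is exact), so does `G`. -/
theorem result (A : Type u) [CommRing A] (C : ShortComplex (Adeq.MVF A))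
    (hC : C.ShortExact)
    (h₁ : (∀ (B : Adeq.Alg A) (S : ShortComplex (ModuleCat.{u} B)), S.ShortExact →
        Function.Surjective (AdeqTF.tangentMap B C.X₁ S.g) ∧
          (AdeqTF.tangentMap B C.X₁ S.g).ker = (AdeqTF.tangentMap B C.X₁ S.f).range))
    (h₃ : (∀ (B : Adeq.Alg A) (S : ShortComplex (ModuleCat.{u} B)), S.ShortExact →
        Function.Surjective (AdeqTF.tangentMap B C.X₃ S.g) ∧
          (AdeqTF.tangentMap B C.X₃ S.g).ker = (AdeqTF.tangentMap B C.X₃ S.f).range)) :
    (∀ (B : Adeq.Alg A) (S : ShortComplex (ModuleCat.{u} B)), S.ShortExact →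
        Function.Surjective (AdeqTF.tangentMap B C.X₂ S.g) ∧
          (AdeqTF.tangentMap B C.X₂ S.g).ker = (AdeqTF.tangentMap B C.X₂ S.f).range) := by
  intro B S hS
  open Groth.Agent.Lib.Helper44 in
  refine nine_mid
    (AdeqTF.tangentMap B C.X₁ S.f) (AdeqTF.tangentMap B C.X₁ S.g)
    (AdeqTF.tangentMap B C.X₂ S.f) (AdeqTF.tangentMap B C.X₂ S.g)
    (AdeqTF.tangentMap B C.X₃ S.f) (AdeqTF.tangentMap B C.X₃ S.g)
    (tangentNat B C.f S.X₁) (tangentNat B C.f S.X₂) (tangentNat B C.f S.X₃)
    (tangentNat B C.g S.X₁) (tangentNat B C.g S.X₂) (tangentNat B C.g S.X₃)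
    (fun x => tangentNat_tangentMap B C.f S.f x)
    (fun x => tangentNat_tangentMap B C.f S.g x)
    (fun x => tangentNat_tangentMap B C.g S.f x)
    (fun x => tangentNat_tangentMap B C.g S.g x)
    (tangentNat_injective B C hC S.X₃)
    (tangentNat_surjective B C hC S.X₁) (tangentNat_surjective B C hC S.X₂)
    (tangentNat_exact B C hC S.X₂) (tangentNat_exact B C hC S.X₃)
    (h₁ B S hS).1 ?_ (h₃ B S hS).1 ?_ ?_
  · intro x hx
    have hx' : x ∈ (AdeqTF.tangentMap B C.X₁ S.g).ker := hx
    rw [(h₁ B S hS).2] at hx'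
    exact hx'
  · intro x hx
    have hx' : x ∈ (AdeqTF.tangentMap B C.X₃ S.g).ker := hx
    rw [(h₃ B S hS).2] at hx'
    exact hx'
  · intro x
    rw [← tangentMap_comp, S.zero, tangentMap_zero]

end Groth.Agent.S8782
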