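import Groth.Statements.S8799
import Groth.Agent.Lib.Helper60.LocalCohArtinian
import Groth.Agent.Lib.Helper44.ArtinianEssConst

set_option autoImplicit false
universe u
open CategoryTheory Opposite
open LocCoh

namespace Groth.Agent.S8799

/-- Let (A, m) be a Noetherian local ring, (M_n) an inverse system of finite A-modules, and M a finite
A-module with a compatible system of maps M → M_n. Suppose that for some i the induced map H^i_m(M)
→ lim H^i_m(M_n) on local cohomology is bijective, in the sense that an element of H^i_m(M)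
vanishing in every H^i_m(M_n) is zero and every compatible family in the H^i_m(M_n) comes from
H^i_m(M). We conclude that, taking the cone formed by the given maps, essential constancy holds for
the local cohomology system (H^i_m(M_n))_n, and the value it stabilizes at is H^i_m(M). -/
theorem result (A : Type u) [CommRing A] [IsNoetherianRing A] [IsLocalRing A] (Msys : ℕᵒᵖ ⥤ ModuleCat.{u} A) (hfin : ∀ n : ℕᵒᵖ, Module.Finite A (Msys.obj n)) (M : Type u) [AddCommGroup M] [Module A M] [Module.Finite A M] (c : (Functor.const ℕᵒᵖ).obj (ModuleCat.of A M) ⟶ Msys) (i : ℕ) (Hc : (Functor.const ℕᵒᵖ).obj ((localCohomology (IsLocalRing.maximalIdeal A) i).obj (ModuleCat.of A M)) ⟶ Msys ⋙ localCohomology (IsLocalRing.maximalIdeal A) i) (hHc : ∀ n : ℕᵒᵖ, Hc.app n = (localCohomology (IsLocalRing.maximalIdeal A) i).map (c.app n)) (hinj : ∀ x : (localCohomology (IsLocalRing.maximalIdeal A) i).obj (ModuleCat.of A M), (∀ n : ℕᵒᵖ, (Hc.app n) x = 0) → x = 0) (hsurj : ∀ y : (∀ n : ℕ, (localCohomology (IsLocalRing.maximalIdeal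 A) i).obj (Msys.obj (op n))), (∀ (n m : ℕ) (h : n ≤ m), ((localCohomology (IsLocalRing.maximalIdeal A) i).map (Msys.map (homOfLE h).op)) (y m) = y n) → ∃ x : (localCohomology (IsLocalRing.maximalIdeal A) i).obj (ModuleCat.of A M), ∀ n : ℕ, (Hc.app (op n)) x = y n) : DerCA.IsEssConstant (Msys ⋙ localCohomology (IsLocalRing.maximalIdeal A) i) ((localCohomology (IsLocalRing.maximalIdeal A) i).obj (ModuleCat.of A M)) Hc := by
  classical
  let X : ℕᵒᵖ ⥤ ModuleCat.{u} A := Msys ⋙ localCohomology (IsLocalRing.maximalIdeal A) i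
  let H₀ : ModuleCat.{u} A :=
    (localCohomology (IsLocalRing.maximalIdeal A) i).obj (ModuleCat.of A M)
  haveI hart : ∀ n : ℕ, IsArtinian A (X.obj (op n)) := by
    intro n
    have := hfin (op n)
    exact Groth.Agent.Lib.Helper60.lc_maximalIdeal_isArtinian i (Msys.obj (op n))
  haveI hart₀ : IsArtinian A H₀ := Groth.Agent.Lib.Helper60.lc_maximalIdeal_isArtinian i M
  let t : ∀ {n m : ℕ}, n ≤ m → (X.obj (op m)) →ₗ[A] (X.obj (op n)) :=
    fun {n m} h => (X.map (homOfLE h).op).hom
  have t_id : ∀ (n : ℕ) (x : X.obj (op n)), t (le_refl n) x = x := by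
    intro n x
    change (X.map (homOfLE (le_refl n)).op).hom x = x
    have : (homOfLE (le_refl n)).op = 𝟙 (op n) := rfl
    rw [this, X.map_id]
    rfl
  have t_comp : ∀ {n m l : ℕ} (h₁ : n ≤ m) (h₂ : m ≤ l) (x : X.obj (op l)),
      t h₁ (t h₂ x) = t (h₁.trans h₂) x := by
    intro n m l h₁ h₂ x
    change (X.map (homOfLE h₁).op).hom ((X.map (homOfLE h₂).op).hom x) =
      (X.map (homOfLE (h₁.trans h₂)).op).hom x
    have : (homOfLE (h₁.trans h₂)).op = (homOfLE h₂).op ≫ (homOfLE h₁).op := rfl
    rw [this, X.map_comp]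
    rfl
  let c' : ∀ n : ℕ, H₀ →ₗ[A] (X.obj (op n)) := fun n => (Hc.app (op n)).hom
  have hc' : ∀ {n m : ℕ} (h : n ≤ m) (x : H₀), t h (c' m x) = c' n x := by
    intro n m h x
    have := Hc.naturality (homOfLE h).op
    have h2 := congrArg (fun f => f.hom x) this
    simp only [Functor.const_obj_obj, Functor.const_obj_map, Category.id_comp] at h2
    exact h2.symm
  have hinj' : ∀ x : H₀, (∀ n, c' n x = 0) → x = 0 := by
    intro x hx
    apply hinj x
    intro n
    exact hx n.unop
  have hsurj' : ∀ y : ∀ n, X.obj (op n), (∀ (n m : ℕ) (h : n ≤ m), t h (y m) = y n) →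
      ∃ x : H₀, ∀ n, c' n x = y n := by
    intro y hy
    exact hsurj y hy
  obtain ⟨i₁, s, hs, hfac⟩ := Groth.Agent.Lib.Helper44.essConst_of_artinian
    (fun n => X.obj (op n)) t t_id t_comp H₀ c' hc' hinj' hsurj'
  refine ⟨i₁, ModuleCat.ofHom s, ?_, ?_⟩
  · apply ModuleCat.hom_ext
    apply LinearMap.ext
    intro x
    exact hs x
  · intro j
    obtain ⟨k, hi, hj, hk⟩ := hfac j
    refine ⟨k, hi, hj, ?_⟩
    apply ModuleCat.hom_ext
    apply LinearMap.ext
    intro y
    exact hk y

end Groth.Agent.S8799
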