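import Groth.Statements.S8801
-- import your own Groth.Agent.* helpers here
import Groth.Agent.Lib.Helper9.Hens.PairNoetherian
import Groth.Agent.Lib.Helper9.Hens.PairQuotient
import Groth.Agent.Lib.Helper89.ComplBij

set_option autoImplicit false
universe u
open AdicRing

namespace Groth.Agent.S8801


section Core

variable {C C' Ch : Type u} [CommRing C] [CommRing C'] [CommRing Ch] [Algebra C C'] [Algebra C Ch]
  (φ : C' →ₐ[C] Ch) (P : Ideal C) (J' : Ideal C')

theorem map_phi (n : ℕ) :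
    ((P ^ n).map (algebraMap C C')).map (φ : C' →+* Ch) = (P ^ n).map (algebraMap C Ch) := by
  rw [Ideal.map_map]
  congr 1
  exact φ.comp_algebraMap

open Groth.Agent.Lib.Helper9 in
theorem mem_of_phi_mem [Module.Flat C Ch]
    (hS : ∀ c : Ch, ∃ c0 : C, c - algebraMap C Ch c0 ∈ P.map (algebraMap C Ch))
    (hI : ∀ c0 : C, algebraMap C Ch c0 ∈ P.map (algebraMap C Ch) → c0 ∈ P)
    (hS' : ∀ c' : C', ∃ c0 : C, c' - algebraMap C C' c0 ∈ P.map (algebraMap C C'))
    (n : ℕ) (d : C') (hd : φ d ∈ (P ^ n).map (algebraMap C Ch)) :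
    d ∈ (P ^ n).map (algebraMap C C') := by
  obtain ⟨c0, hc0⟩ := exists_sub_mem_map_pow P hS' n d
  have h1 : φ (d - algebraMap C C' c0) ∈ (P ^ n).map (algebraMap C Ch) := by
    rw [← map_phi φ P n]
    exact Ideal.mem_map_of_mem (φ : C' →+* Ch) hc0
  rw [map_sub, φ.commutes] at h1
  have h2 : algebraMap C Ch c0 ∈ (P ^ n).map (algebraMap C Ch) := by
    have := Ideal.sub_mem _ hd h1
    simpa using this
  have h3 : c0 ∈ P ^ n := mem_pow_of_algebraMap_mem_map_pow P hS hI n c0 h2
  have h4 : algebraMap C C' c0 ∈ (P ^ n).map (algebraMap C C') := Ideal.mem_map_of_mem _ h3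
  have := Ideal.add_mem _ hc0 h4
  simpa using this

open Groth.Agent.Lib.Helper9 in
theorem exists_mem_sub_mem
    (hS : ∀ c : Ch, ∃ c0 : C, c - algebraMap C Ch c0 ∈ P.map (algebraMap C Ch))
    (n : ℕ) (j : Ch) (hj : j ∈ J'.map (φ : C' →+* Ch)) :
    ∃ j' ∈ J', j - φ j' ∈ (P ^ n).map (algebraMap C Ch) := by
  induction hj using Submodule.span_induction with
  | mem x h =>
    obtain ⟨j0, hj0, rfl⟩ := h
    exact ⟨j0, hj0, by simp⟩
  | zero => exact ⟨0, J'.zero_mem, by simp⟩
  | add x y _ _ hx hy =>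
    obtain ⟨x', hx', hxx⟩ := hx
    obtain ⟨y', hy', hyy⟩ := hy
    refine ⟨x' + y', J'.add_mem hx' hy', ?_⟩
    have := Ideal.add_mem _ hxx hyy
    rw [map_add]
    convert this using 1
    ring
  | smul r x _ hx =>
    obtain ⟨x', hx', hxx⟩ := hx
    obtain ⟨r0, hr0⟩ := exists_sub_mem_map_pow P hS n r
    refine ⟨algebraMap C C' r0 * x', J'.mul_mem_left _ hx', ?_⟩
    rw [map_mul, φ.commutes, smul_eq_mul]
    have : r * x - algebraMap C Ch r0 * φ x' =
        (r - algebraMap C Ch r0) * x + algebraMap C Ch r0 * (x - φ x') := by ring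
    rw [this]
    exact Ideal.add_mem _ (Ideal.mul_mem_right _ _ hr0) (Ideal.mul_mem_left _ _ hxx)

open Groth.Agent.Lib.Helper9 in
theorem quot_surj
    (hS : ∀ c : Ch, ∃ c0 : C, c - algebraMap C Ch c0 ∈ P.map (algebraMap C Ch))
    (n : ℕ) (q : Ch ⧸ J'.map (φ : C' →+* Ch)) :
    ∃ b : C' ⧸ J', q - Ideal.quotientMap (J'.map (φ : C' →+* Ch)) (φ : C' →+* Ch)
        Ideal.le_comap_map b ∈
      ((P.map (algebraMap C Ch)).map (Ideal.Quotient.mk (J'.map (φ : C' →+* Ch)))) ^ n := by
  obtain ⟨c, rfl⟩ := Ideal.Quotient.mk_surjective q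
  obtain ⟨c0, hc0⟩ := exists_sub_mem_map_pow P hS n c
  refine ⟨Ideal.Quotient.mk J' (algebraMap C C' c0), ?_⟩
  rw [Ideal.quotientMap_mk, ← map_sub, ← Ideal.map_pow, ← Ideal.map_pow]
  have : (φ : C' →+* Ch) (algebraMap C C' c0) = algebraMap C Ch c0 := φ.commutes c0
  rw [this]
  exact Ideal.mem_map_of_mem _ hc0

theorem quot_inj [Module.Flat C Ch]
    (hS : ∀ c : Ch, ∃ c0 : C, c - algebraMap C Ch c0 ∈ P.map (algebraMap C Ch))
    (hI : ∀ c0 : C, algebraMap C Ch c0 ∈ P.map (algebraMap C Ch) → c0 ∈ P)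
    (hS' : ∀ c' : C', ∃ c0 : C, c' - algebraMap C C' c0 ∈ P.map (algebraMap C C'))
    (n : ℕ) (b : C' ⧸ J')
    (hb : Ideal.quotientMap (J'.map (φ : C' →+* Ch)) (φ : C' →+* Ch) Ideal.le_comap_map b ∈
      ((P.map (algebraMap C Ch)).map (Ideal.Quotient.mk (J'.map (φ : C' →+* Ch)))) ^ n) :
    b ∈ ((P.map (algebraMap C C')).map (Ideal.Quotient.mk J')) ^ n := by
  obtain ⟨c', rfl⟩ := Ideal.Quotient.mk_surjective b
  rw [Ideal.quotientMap_mk, ← Ideal.map_pow, ← Ideal.map_pow,
    Ideal.mem_quotient_iff_mem_sup] at hb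
  obtain ⟨u, hu, j, hj, huj⟩ := Submodule.mem_sup.mp hb
  obtain ⟨j', hj', hjj⟩ := exists_mem_sub_mem φ P J' hS n j hj
  have h1 : φ (c' - j') ∈ (P ^ n).map (algebraMap C Ch) := by
    have h0 : φ (c' - j') = u + (j - φ j') := by
      rw [map_sub]
      have : φ c' = u + j := huj.symm
      rw [this]
      ring
    rw [h0]
    exact Ideal.add_mem _ hu hjj
  have h2 := mem_of_phi_mem φ P hS hI hS' n (c' - j') h1
  rw [← Ideal.map_pow, ← Ideal.map_pow, Ideal.mem_quotient_iff_mem_sup]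
  have : c' = (c' - j') + j' := by ring
  rw [this]
  exact Submodule.add_mem_sup h2 hj'

end Core

/-- Let A be a Noetherian ring and I an ideal. Let C be an A-algebra of finite type and Cʰ a
henselization of the pair (C, IC), viewed as an A-algebra through C, and let J be an ideal of Cʰ.
Then there is an A-algebra B of finite type whose IB-adic completion is isomorphic as an A-algebra
to the I(Cʰ/J)-adic completion of Cʰ/J (existence of an isomorphism only; the published statement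
names no particular map). -/
theorem result (A : Type u) [CommRing A] [IsNoetherianRing A] (I : Ideal A) (C : Type u) [CommRing C] [Algebra A C] [Algebra.FiniteType A C] (Ch : Type u) [CommRing Ch] [Algebra C Ch] [Algebra A Ch] [IsScalarTower A C Ch] (hCh : Hens2.IsPairHenselization C (I.map (algebraMap A C)) Ch) (J : Ideal Ch) : ∃ (B : Type u) (_ : CommRing B) (_ : Algebra A B), Algebra.FiniteType A B ∧ Nonempty (AdicCompletion (I.map (algebraMap A B)) B ≃ₐ[A] AdicCompletion (I.map (algebraMap A (Ch ⧸ J))) (Ch ⧸ J)) := by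
  classical
  haveI : IsNoetherianRing C := Algebra.FiniteType.isNoetherianRing A C
  haveI : IsNoetherianRing Ch :=
    Groth.Agent.Lib.Helper9.Hens.isNoetherianRing_of_isPairHenselization hCh
  haveI : Module.Flat C Ch := Groth.Agent.Lib.Helper9.Hens.flat_of_isPairHenselization hCh
  obtain ⟨t, ht⟩ := (IsNoetherian.noetherian J : J.FG)
  obtain ⟨C', _, _, _, hbij, φ, s, hs⟩ :=
    Groth.Agent.Lib.Helper9.Hens.exists_etale_bijective_algHom_apply_eq_fin hCh
      (fun i : t => (i : Ch))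
  letI : Algebra A C' := ((algebraMap C C').comp (algebraMap A C)).toAlgebra
  haveI : IsScalarTower A C C' := IsScalarTower.of_algebraMap_eq (fun _ => rfl)
  obtain ⟨J', hJ'⟩ : ∃ J' : Ideal C', J' = Ideal.span (Set.range s) := ⟨_, rfl⟩
  have hJ : J = J'.map (φ : C' →+* Ch) := by
    rw [hJ', Ideal.map_span, ← ht]
    congr 1
    ext x
    constructor
    · intro hx
      exact ⟨s ⟨x, hx⟩, ⟨⟨x, hx⟩, rfl⟩, hs ⟨x, hx⟩⟩
    · rintro ⟨_, ⟨i, rfl⟩, rfl⟩
      have : (φ : C' →+* Ch) (s i) = (i : Ch) := hs i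
      rw [this]
      exact i.2
  subst hJ
  have hS := Groth.Agent.Lib.Helper9.Hens.exists_sub_mem_map_of_isPairHenselization hCh
  have hI := Groth.Agent.Lib.Helper9.Hens.mem_of_algebraMap_mem_map_of_isPairHenselization hCh
  have hS' := ((Groth.Agent.Lib.Helper9.quotientMap_bijective_iff
    (I := I.map (algebraMap A C)) (S := C')).mp hbij).1
  refine ⟨C' ⧸ J', inferInstance, inferInstance, ?_, ?_⟩
  · haveI : Algebra.FiniteType C C' := inferInstance
    haveI : Algebra.FiniteType A C' :=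
      Algebra.FiniteType.trans (inferInstance : Algebra.FiniteType A C) inferInstance
    exact Algebra.FiniteType.of_surjective (Ideal.Quotient.mkₐ A J')
      (Ideal.Quotient.mkₐ_surjective A J')
  · obtain ⟨g, hg⟩ : ∃ g : C' ⧸ J' →+* Ch ⧸ J'.map (φ : C' →+* Ch),
        g = Ideal.quotientMap (J'.map (φ : C' →+* Ch)) (φ : C' →+* Ch) Ideal.le_comap_map :=
      ⟨_, rfl⟩
    have hgA : g.comp (algebraMap A (C' ⧸ J')) =
        algebraMap A (Ch ⧸ J'.map (φ : C' →+* Ch)) := by
      ext a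
      have h1 : algebraMap A (C' ⧸ J') a =
          Ideal.Quotient.mk J' (algebraMap C C' (algebraMap A C a)) := rfl
      have h2 : algebraMap A (Ch ⧸ J'.map (φ : C' →+* Ch)) a =
          Ideal.Quotient.mk _ (algebraMap A Ch a) := rfl
      rw [RingHom.comp_apply, h1, h2, hg, Ideal.quotientMap_mk,
        IsScalarTower.algebraMap_apply A C Ch]
      congr 1
      exact φ.commutes _
    have hIB : I.map (algebraMap A (C' ⧸ J')) =
        ((I.map (algebraMap A C)).map (algebraMap C C')).map (Ideal.Quotient.mk J') := by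
      rw [Ideal.map_map, Ideal.map_map]
      rfl
    have hIQ : I.map (algebraMap A (Ch ⧸ J'.map (φ : C' →+* Ch))) =
        ((I.map (algebraMap A C)).map (algebraMap C Ch)).map (Ideal.Quotient.mk _) := by
      rw [Ideal.map_map, Ideal.map_map]
      congr 1
      ext a
      have h2 : algebraMap A (Ch ⧸ J'.map (φ : C' →+* Ch)) a =
          Ideal.Quotient.mk _ (algebraMap A Ch a) := rfl
      rw [h2, IsScalarTower.algebraMap_apply A C Ch]
      rfl
    have h : (I.map (algebraMap A (C' ⧸ J'))).map g ≤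
        I.map (algebraMap A (Ch ⧸ J'.map (φ : C' →+* Ch))) := by
      rw [Ideal.map_map, hgA]
    have hb := Groth.Agent.Lib.Helper89.ComplBij.complMap_bijective _ _ g h
      (by rw [hIQ, hg]; exact quot_surj φ _ J' hS)
      (by rw [hIQ, hIB, hg]; exact quot_inj φ _ J' hS hI hS')
    refine ⟨AlgEquiv.ofBijective
      { toRingHom := FSch.complMap _ _ g h, commutes' := fun a => ?_ } hb⟩
    change FSch.complMap _ _ g h (AdicCompletion.of _ _ (algebraMap A (C' ⧸ J') a)) =
      AdicCompletion.of _ _ (algebraMap A (Ch ⧸ J'.map (φ : C' →+* Ch)) a)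
    rw [Groth.Agent.Lib.Helper18.complMap_of, ← hgA]
    rfl

end Groth.Agent.S8801
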