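import Groth.Statements.S8803
import Groth.Agent.Lib.Helper60.LocalCohArtinian
import Groth.Agent.Lib.Helper16.ARML
open Groth.Agent.Lib.Helper60

set_option autoImplicit false
universe u
open CategoryTheory
open LocCoh

namespace Groth.Agent.S8803

/-- Let (A, m) be a Noetherian local ring and (M_n) an inverse system of finite A-modules. Then for
every i the inverse system H^i_m(M_n) of local cohomology modules satisfies the Mittag-Leffler
condition. -/
theorem result (A : Type u) [CommRing A] [IsNoetherianRing A] [IsLocalRing A] (Msys : ℕᵒᵖ ⥤ ModuleCat.{u} A) (hfin : ∀ n : ℕᵒᵖ, Module.Finite A (Msys.obj n)) (i : ℕ) : ARSys.IsML (Msys ⋙ localCohomology (IsLocalRing.maximalIdeal A) i) := by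
  intro n
  have hart : IsArtinian A ((Msys ⋙ localCohomology (IsLocalRing.maximalIdeal A) i).obj (Opposite.op n)) := by
    have := hfin (Opposite.op n)
    exact lc_maximalIdeal_isArtinian i (Msys.obj (Opposite.op n))
  have hwf : WellFoundedLT (Subobject
      ((Msys ⋙ localCohomology (IsLocalRing.maximalIdeal A) i).obj (Opposite.op n))) :=
    (ModuleCat.subobjectModule _).toOrderEmbedding.wellFoundedLT
  let f : ℕ →o (Subobject
      ((Msys ⋙ localCohomology (IsLocalRing.maximalIdeal A) i).obj (Opposite.op n)))ᵒᵈ :=
    ⟨fun s => OrderDual.toDual (CategoryTheory.Limits.imageSubobject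
      (ARSys.shiftMap (Msys ⋙ localCohomology (IsLocalRing.maximalIdeal A) i) s n)),
      fun s s' h => Groth.Agent.Lib.Helper16.ARML.imageSubobject_shiftMap_le _ n h⟩
  obtain ⟨r, hr⟩ := WellFoundedGT.monotone_chain_condition f
  exact ⟨r, fun s hs => (congrArg OrderDual.ofDual (hr s hs)).symm⟩

end Groth.Agent.S8803
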