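import Groth.Statements.S8806
import Groth.Agent.Lib.Helper35.JacAdj
import Groth.Agent.Lib.Helper35.JacContr
import Groth.Agent.Lib.Helper35.NLCompare

set_option autoImplicit false
universe u
open CategoryTheory
attribute [local instance] HasDerivedCategory.standard
open LCI

namespace Groth.Agent.S8806

open CategoryTheory in
open Groth.Agent.Lib.Helper35.Jac Groth.Agent.Lib.Helper35.NLC Groth.Agent.Lib.Helper35.TT in
theorem aux (A : Type u) [CommRing A] (n m : ℕ) (hmn : m ≤ n) (f : Fin m → MvPolynomial (Fin n) A) :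
    (∀ (N : Type u) [AddCommGroup N] [Module (Bq f) N]
      (φ : LCI.NL A (Bq f) ⟶ (Dual.inD (Bq f) N)⟦(1 : ℤ)⟧), (J₀ hmn f).det • φ = 0) ∧
    (n = m → (J₀ hmn f).det • 𝟙 (LCI.NL A (Bq f)) = 0) := by
  obtain ⟨e⟩ := nonempty_NL_iso (G f)
  have h₁ : ModuleCat.ofHom (E f).cotangentComplex ≫ ModuleCat.ofHom (sMap hmn f) =
      (J₀ hmn f).det • 𝟙 (ModuleCat.of (Bq f) (E f).Cotangent) := by
    rw [← ModuleCat.ofHom_comp, sMap_comp_d]
    rfl
  constructor
  · intro N _ _ φ
    have hproj : Projective (ModuleCat.of (Bq f) (E f).CotangentSpace) :=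
      (IsProjective.iff_projective (R := Bq f) (P := (E f).CotangentSpace)).mp inferInstance
    have hK : Limits.IsZero ((DerivedCategory.homologyFunctor (ModuleCat.{u} (Bq f)) 1).obj
        (Dual.inD (Bq f) N)) := DerivedCategory.isZero_of_isLE _ 0 1 (by omega)
    have hY : ∀ φ' : (DerivedCategory.singleFunctor (ModuleCat.{u} (Bq f)) 0).obj
        (ModuleCat.of (Bq f) (E f).CotangentSpace) ⟶ (Dual.inD (Bq f) N)⟦(1 : ℤ)⟧, φ' = 0 := by
      intro φ'
      exact (Groth.Agent.Lib.Helper35.DCE.subsingleton_hom_single_projective_shift _ _ 1 hK).elim _ _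
    have h := smul_eq_zero_of_contraction (ModuleCat.ofHom (E f).cotangentComplex)
      (ModuleCat.ofHom (sMap hmn f)) (J₀ hmn f).det h₁ _ hY (e.inv ≫ φ)
    rw [← Linear.comp_smul] at h
    exact (cancel_epi e.inv).1 (h.trans Limits.comp_zero.symm)
  · intro hnm
    subst hnm
    have h₀ : ModuleCat.ofHom (sMap hmn f) ≫ ModuleCat.ofHom (E f).cotangentComplex =
        (J₀ hmn f).det • 𝟙 (ModuleCat.of (Bq f) (E f).CotangentSpace) := by
      rw [← ModuleCat.ofHom_comp, d_comp_sMap]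
      rfl
    have h := Q_map_smul_id_eq_zero (ModuleCat.ofHom (E f).cotangentComplex)
      (ModuleCat.ofHom (sMap hmn f)) (J₀ hmn f).det h₁ h₀
    have h2 : (J₀ hmn f).det • 𝟙 (LCI.NL A (Bq f)) =
        e.hom ≫ ((J₀ hmn f).det • 𝟙 _) ≫ e.inv := by
      rw [Linear.smul_comp, Linear.comp_smul, Category.id_comp, e.hom_inv_id]
    rw [h2, h, Limits.zero_comp, Limits.comp_zero]


/-- Let A be a ring, m ≤ n, f_1, …, f_m ∈ A[x_1, …, x_n], B = A[x_1, …, x_n]/(f_1, …, f_m), and g ∈ B
the image of the determinant of the m × m matrix of partial derivatives ∂f_j/∂x_i with i, j ≤ m (the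
first m variables). Then: (1) for every B-module N, g annihilates Ext^1_B(NL_{B/A}, N), i.e. every
morphism NL_{B/A} → N[1] in D(B) is killed by g; (2) if n = m then multiplication by g on NL_{B/A}
is the zero endomorphism in D(B). -/
theorem result (A : Type u) [CommRing A] (n m : ℕ) (hmn : m ≤ n) (f : Fin m → MvPolynomial (Fin n) A) : (∀ (N : Type u) [AddCommGroup N] [Module (MvPolynomial (Fin n) A ⧸ Ideal.span (Set.range f)) N] (φ : LCI.NL A (MvPolynomial (Fin n) A ⧸ Ideal.span (Set.range f)) ⟶ (Dual.inD (MvPolynomial (Fin n) A ⧸ Ideal.span (Set.range f)) N)⟦(1 : ℤ)⟧), (Ideal.Quotient.mk (Ideal.span (Set.range f)) (Matrix.det (Matrix.of (fun i j : Fin m => MvPolynomial.pderiv (Fin.castLE hmn i) (f j))))) • φ = 0) ∧ (n = m → (Ideal.Quotient.mk (Ideal.span (Set.range f)) (Matrix.det (Matrix.of (fun i j : Fin m => MvPolynomial.pderiv (Fin.castLE hmn i) (f j))))) • 𝟙 (LCI.NL A (MvPolynomial (Fin n) A ⧸ Ideal.span (Set.range f))) = 0) := by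
  have h := aux A n m hmn f
  rw [Groth.Agent.Lib.Helper35.Jac.det_J₀] at h
  exact h

end Groth.Agent.S8806
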