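import Groth.Statements.S8819
-- import your own Groth.Agent.* helpers here

set_option autoImplicit false
universe u
open scoped BigOperators
open LocCoh

namespace Groth.Agent.S8819

section aux

variable {A : Type u} [CommRing A] {r : ℕ} (f : Fin r → A) (I : Ideal A) (c : ℕ)
  (φ : Fin r → (↥(I ^ c) →ₗ[A] A))

open Classical in
/-- extension by zero of `φ j` to all of `A` -/
noncomputable def ext (j : Fin r) (g : A) : A := if h : g ∈ I ^ c then φ j ⟨g, h⟩ else 0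

theorem ext_of_mem (j : Fin r) {g : A} (h : g ∈ I ^ c) : ext I c φ j g = φ j ⟨g, h⟩ := dif_pos h

theorem ext_add (j : Fin r) {g h : A} (hg : g ∈ I ^ c) (hh : h ∈ I ^ c) :
    ext I c φ j (g + h) = ext I c φ j g + ext I c φ j h := by
  rw [ext_of_mem I c φ j hg, ext_of_mem I c φ j hh, ext_of_mem I c φ j (Ideal.add_mem _ hg hh),
    ← map_add]
  rfl

theorem ext_mul (j : Fin r) (a : A) {g : A} (hg : g ∈ I ^ c) :
    ext I c φ j (a * g) = a * ext I c φ j g := by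
  rw [ext_of_mem I c φ j hg, ext_of_mem I c φ j (Ideal.mul_mem_left _ a hg), ← smul_eq_mul a (φ j _),
    ← map_smul]
  rfl

theorem pow_succ_mul_le (n : ℕ) : I ^ ((n + 1) * c) ≤ I ^ c := by
  apply Ideal.pow_le_pow_right
  rw [Nat.succ_mul]
  exact Nat.le_add_left c (n * c)

theorem ext_mem (j : Fin r) (n : ℕ) {g : A} (hg : g ∈ I ^ ((n + 1) * c)) :
    ext I c φ j g ∈ I ^ (n * c) := by
  rw [Nat.succ_mul, pow_add] at hg
  have key : g ∈ I ^ c ∧ ext I c φ j g ∈ I ^ (n * c) := by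
    refine Submodule.mul_induction_on hg ?_ ?_
    · intro a ha b hb
      refine ⟨Ideal.mul_mem_left _ a hb, ?_⟩
      rw [ext_mul I c φ j a hb]
      exact Ideal.mul_mem_right _ _ ha
    · rintro x y ⟨hx, hx'⟩ ⟨hy, hy'⟩
      refine ⟨Ideal.add_mem _ hx hy, ?_⟩
      rw [ext_add I c φ j hx hy]
      exact Ideal.add_mem _ hx' hy'
  exact key.2

/-- the graded map -/
noncomputable def Phi : ℕ → A → MvPolynomial (Fin r) A
  | 0, a => MvPolynomial.C a
  | (n + 1), g => ∑ j, MvPolynomial.X j * Phi n (ext I c φ j g)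

theorem Phi_zero (a : A) : Phi I c φ 0 a = MvPolynomial.C a := rfl

theorem Phi_succ (n : ℕ) (g : A) :
    Phi I c φ (n + 1) g = ∑ j, MvPolynomial.X j * Phi I c φ n (ext I c φ j g) := rfl

theorem Phi_add (n : ℕ) : ∀ g ∈ I ^ (n * c), ∀ h ∈ I ^ (n * c),
    Phi I c φ n (g + h) = Phi I c φ n g + Phi I c φ n h := by
  induction n with
  | zero =>
    intro g _ h _
    rw [Phi_zero, Phi_zero, Phi_zero, map_add]
  | succ n ih =>
    intro g hg h hh
    rw [Phi_succ, Phi_succ, Phi_succ, ← Finset.sum_add_distrib]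
    refine Finset.sum_congr rfl fun j _ => ?_
    rw [ext_add I c φ j (pow_succ_mul_le I c n hg) (pow_succ_mul_le I c n hh),
      ih _ (ext_mem I c φ j n hg) _ (ext_mem I c φ j n hh), mul_add]

theorem Phi_smul (n : ℕ) : ∀ (a : A), ∀ g ∈ I ^ (n * c),
    Phi I c φ n (a * g) = a • Phi I c φ n g := by
  induction n with
  | zero =>
    intro a g _
    rw [Phi_zero, Phi_zero, map_mul, MvPolynomial.smul_eq_C_mul]
  | succ n ih =>
    intro a g hg
    rw [Phi_succ, Phi_succ, Finset.smul_sum]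
    refine Finset.sum_congr rfl fun j _ => ?_
    rw [ext_mul I c φ j a (pow_succ_mul_le I c n hg), ih a _ (ext_mem I c φ j n hg),
      mul_smul_comm]

theorem Phi_homog (n : ℕ) : ∀ g : A, (Phi I c φ n g).IsHomogeneous n := by
  induction n with
  | zero =>
    intro g
    rw [Phi_zero]
    exact MvPolynomial.isHomogeneous_C _ _
  | succ n ih =>
    intro g
    rw [Phi_succ]
    apply MvPolynomial.IsHomogeneous.sum
    intro j _
    have := (MvPolynomial.isHomogeneous_X A j).mul (ih (ext I c φ j g))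
    rwa [Nat.add_comm] at this

theorem Phi_aeval (hφ : ∀ x : ↥(I ^ c), (x : A) = ∑ j, f j * φ j x) (n : ℕ) :
    ∀ g ∈ I ^ (n * c), MvPolynomial.aeval f (Phi I c φ n g) = g := by
  induction n with
  | zero =>
    intro g _
    rw [Phi_zero, MvPolynomial.aeval_C]
    rfl
  | succ n ih =>
    intro g hg
    rw [Phi_succ, map_sum]
    have hgc := pow_succ_mul_le I c n hg
    have := hφ ⟨g, hgc⟩
    change g = _ at this
    conv_rhs => rw [this]
    refine Finset.sum_congr rfl fun j _ => ?_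
    rw [map_mul, MvPolynomial.aeval_X, ih _ (ext_mem I c φ j n hg), ext_of_mem I c φ j hgc]

theorem Phi_mul (n m : ℕ) : ∀ g ∈ I ^ (n * c), ∀ h ∈ I ^ (m * c),
    Phi I c φ (n + m) (g * h) = Phi I c φ n g * Phi I c φ m h := by
  induction n with
  | zero =>
    intro g _ h hh
    rw [Nat.zero_add, Phi_smul I c φ m g h hh, Phi_zero, MvPolynomial.smul_eq_C_mul]
  | succ n ih =>
    intro g hg h hh
    rw [Nat.add_right_comm n 1 m, Phi_succ, Phi_succ, Finset.sum_mul]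
    refine Finset.sum_congr rfl fun j _ => ?_
    have hgc := pow_succ_mul_le I c n hg
    rw [mul_comm g h, ext_mul I c φ j h hgc, mul_comm h, ih _ (ext_mem I c φ j n hg) h hh,
      mul_assoc]

theorem Phi_one {g : A} (hg : g ∈ I ^ c) :
    Phi I c φ 1 g = ∑ j, MvPolynomial.C (φ j ⟨g, hg⟩) * MvPolynomial.X j := by
  rw [Phi_succ]
  refine Finset.sum_congr rfl fun j _ => ?_
  rw [Phi_zero, ext_of_mem I c φ j hg, mul_comm]

end aux

/-- Let A be a Noetherian ring, f_1, …, f_r ∈ A and I = (f_1, …, f_r) with cd(A, I) = 1; let c ≥ 1 and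
let φ_j : I^c → A be A-linear maps with x = Σ_j f_j φ_j(x) for all x ∈ I^c. Under these assumptions,
exactly one homomorphism of graded A-algebras, from ⊕_{n ≥ 0} I^{nc} into the polynomial ring A[T_1,
…, T_r], exists that sends each g ∈ I^c to Σ_j φ_j(g) T_j; call it Φ. Here Φ is encoded by functions
Φ_n : A → A[T_1, …, T_r] whose values on I^{nc} are A-linear, homogeneous of degree n,
multiplicative (Φ_{n+m}(gh) = Φ_n(g)Φ_m(h)), with Φ_0 the structure map and Φ_1 as prescribed;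
uniqueness is asserted for the values on the I^{nc}. Moreover substituting T_j ↦ f_j in Φ_n(g) gives
back g for every g ∈ I^{nc}. -/
theorem result (A : Type u) [CommRing A] [IsNoetherianRing A] (r : ℕ) (f : Fin r → A) (I : Ideal A) (hI : I = Ideal.span (Set.range f)) (h1 : LocCoh.CdLE A I 1) (h0 : ¬ LocCoh.CdLE A I 0) (c : ℕ) (hc : 1 ≤ c) (φ : Fin r → (↥(I ^ c) →ₗ[A] A)) (hφ : ∀ x : ↥(I ^ c), (x : A) = ∑ j, f j * φ j x) : ∃ Φ : ℕ → A → MvPolynomial (Fin r) A, (((∀ n : ℕ, ∀ g ∈ I ^ (n * c), ∀ h ∈ I ^ (n * c), Φ n (g + h) = Φ n g + Φ n h) ∧ (∀ (n : ℕ) (a : A), ∀ g ∈ I ^ (n * c), Φ n (a * g) = a • Φ n g) ∧ (∀ n : ℕ, ∀ g ∈ I ^ (n * c), (Φ n g).IsHomogeneous n) ∧ (∀ n m : ℕ, ∀ g ∈ I ^ (n * c), ∀ h ∈ I ^ (m * c), Φ (n + m) (g * h) = Φ n g * Φ m h) ∧ (∀ a : A, Φ 0 a = MvPolynomial.C a) ∧ (∀ (g : A) (hg : g ∈ I ^ c), Φ 1 g = ∑ j, MvPolynomial.C (φ j ⟨g, hg⟩) * MvPolynomial.X j)) ∧ ∀ n : ℕ, ∀ g ∈ I ^ (n * c),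 MvPolynomial.aeval f (Φ n g) = g) ∧ ∀ Ψ : ℕ → A → MvPolynomial (Fin r) A, ((∀ n : ℕ, ∀ g ∈ I ^ (n * c), ∀ h ∈ I ^ (n * c), Ψ n (g + h) = Ψ n g + Ψ n h) ∧ (∀ (n : ℕ) (a : A), ∀ g ∈ I ^ (n * c), Ψ n (a * g) = a • Ψ n g) ∧ (∀ n : ℕ, ∀ g ∈ I ^ (n * c), (Ψ n g).IsHomogeneous n) ∧ (∀ n m : ℕ, ∀ g ∈ I ^ (n * c), ∀ h ∈ I ^ (m * c), Ψ (n + m) (g * h) = Ψ n g * Ψ m h) ∧ (∀ a : A, Ψ 0 a = MvPolynomial.C a) ∧ (∀ (g : A) (hg : g ∈ I ^ c), Ψ 1 g = ∑ j, MvPolynomial.C (φ j ⟨g, hg⟩) * MvPolynomial.X j)) → ∀ n : ℕ, ∀ g ∈ I ^ (n * c), Ψ n g = Φ n g := by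
  refine ⟨Phi I c φ, ⟨⟨Phi_add I c φ, Phi_smul I c φ, fun n g _ => Phi_homog I c φ n g,
    Phi_mul I c φ, Phi_zero I c φ, fun g hg => Phi_one I c φ hg⟩, Phi_aeval f I c φ hφ⟩, ?_⟩
  rintro Ψ ⟨hΨadd, -, -, hΨmul, hΨ0, hΨ1⟩ n
  induction n with
  | zero =>
    intro g _
    rw [hΨ0, Phi_zero]
  | succ n ih =>
    intro g hg
    have hg' := hg
    rw [Nat.succ_mul, pow_add] at hg'
    have key : g ∈ I ^ ((n + 1) * c) ∧ Ψ (n + 1) g = Phi I c φ (n + 1) g := by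
      refine Submodule.mul_induction_on hg' ?_ ?_
      · intro a ha b hb
        have hb1 : b ∈ I ^ (1 * c) := by rw [one_mul]; exact hb
        have hab : a * b ∈ I ^ ((n + 1) * c) := by
          rw [Nat.succ_mul, pow_add]
          exact Ideal.mul_mem_mul ha hb
        refine ⟨hab, ?_⟩
        rw [hΨmul n 1 a ha b hb1, Phi_mul I c φ n 1 a ha b hb1, ih a ha, hΨ1 b hb, Phi_one I c φ hb]
      · rintro x y ⟨hx, hx'⟩ ⟨hy, hy'⟩
        refine ⟨Ideal.add_mem _ hx hy, ?_⟩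
        rw [hΨadd (n + 1) x hx y hy, Phi_add I c φ (n + 1) x hx y hy, hx', hy']
    exact key.2

end Groth.Agent.S8819
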