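import Groth.Statements.S8821
-- import your own Groth.Agent.* helpers here

set_option autoImplicit false
universe u
open CategoryTheory AlgebraicGeometry
open Formal2

namespace Groth.Agent.S8821

open CategoryTheory.Limits Opposite

section abstract

variable {C : Type*} [Category C] [Abelian C]

/-- the abstract statement in an abelian category -/
theorem abstract_step {F Q₁ Qn Qn1 : C} (φ ψn ψn1 : F ⟶ F) [Mono ψn]
    (hψ : ψn1 = φ ≫ ψn) (π₁ : F ⟶ Q₁) (πn : F ⟶ Qn) (πn1 : F ⟶ Qn1)
    [Epi π₁] [Epi πn] [Epi πn1]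
    (w₁ : φ ≫ π₁ = 0) (wn : ψn ≫ πn = 0) (wn1 : ψn1 ≫ πn1 = 0)
    (h₁ : (ShortComplex.mk φ π₁ w₁).Exact) (hn : (ShortComplex.mk ψn πn wn).Exact)
    (hn1 : (ShortComplex.mk ψn1 πn1 wn1).Exact)
    (τ : Qn1 ⟶ Qn) (hτ : πn1 ≫ τ = πn) :
    ∃ i : Q₁ ⟶ Qn1, Mono i ∧ π₁ ≫ i = ψn ≫ πn1 ∧
      ∃ w : i ≫ τ = 0, (ShortComplex.mk i τ w).ShortExact := by
  subst hψ
  have hfac : φ ≫ ψn ≫ πn1 = 0 := by rw [← Category.assoc, wn1]
  let i : Q₁ ⟶ Qn1 := h₁.desc (ψn ≫ πn1) hfac
  have hi : π₁ ≫ i = ψn ≫ πn1 := h₁.g_desc (ψn ≫ πn1) hfac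
  have hmono : Mono i := by
    apply Preadditive.mono_of_cancel_zero
    intro T k hk
    obtain ⟨T', p, hp, x, hx⟩ := surjective_up_to_refinements_of_epi π₁ k
    have h0 : (x ≫ ψn) ≫ πn1 = 0 := by
      rw [Category.assoc, ← hi, ← Category.assoc, ← hx, Category.assoc, hk, comp_zero]
    obtain ⟨T'', p', hp', q, hq⟩ := hn1.exact_up_to_refinements (x ≫ ψn) h0
    change p' ≫ x ≫ ψn = q ≫ φ ≫ ψn at hq
    rw [← Category.assoc, ← Category.assoc] at hq
    have hq' : p' ≫ x = q ≫ φ := (cancel_mono ψn).mp hq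
    have hz : (p' ≫ p) ≫ k = 0 := by
      rw [Category.assoc, hx, ← Category.assoc, hq', Category.assoc, w₁, comp_zero]
    haveI : Epi (p' ≫ p) := epi_comp p' p
    exact (cancel_epi (p' ≫ p)).mp (by rw [hz, comp_zero])
  have hw : i ≫ τ = 0 := by
    apply (cancel_epi π₁).mp
    rw [← Category.assoc, hi, Category.assoc, hτ, wn, comp_zero]
  refine ⟨i, hmono, hi, hw, ?_⟩
  have hex : (ShortComplex.mk i τ hw).Exact := by
    rw [ShortComplex.exact_iff_exact_up_to_refinements]
    intro T x₂ hx₂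
    change x₂ ≫ τ = 0 at hx₂
    obtain ⟨T', p, hp, y, hy⟩ := surjective_up_to_refinements_of_epi πn1 x₂
    have h0 : y ≫ πn = 0 := by
      rw [← hτ, ← Category.assoc, ← hy, Category.assoc, hx₂, comp_zero]
    obtain ⟨T'', p', hp', q, hq⟩ := hn.exact_up_to_refinements y h0
    change p' ≫ y = q ≫ ψn at hq
    haveI : Epi (p' ≫ p) := epi_comp p' p
    refine ⟨T'', p' ≫ p, inferInstance, q ≫ π₁, ?_⟩
    change (p' ≫ p) ≫ x₂ = (q ≫ π₁) ≫ i
    rw [Category.assoc, hy, ← Category.assoc, hq, Category.assoc, Category.assoc, hi]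
  haveI : Epi τ := epi_of_epi_fac hτ
  exact { exact := hex, mono_f := hmono, epi_g := inferInstance }

end abstract

section smul

variable {A : Type u} [CommRing A] {X : Scheme.{u}} [X.Over (Spec (CommRingCat.of A))]

theorem smulModΓ_naturality {M N : X.Modules} (g : M ⟶ N) (r : Coh.Γtop X) :
    Formal.smulModΓ M r ≫ g = g ≫ Formal.smulModΓ N r := by
  apply SheafOfModules.hom_ext
  apply PresheafOfModules.hom_ext
  intro U
  ext m
  change g.val.app U (Coh.resTop X U r • m) = Coh.resTop X U r • g.val.app U m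
  exact (g.val.app U).hom.map_smul _ _

theorem smulModΓ_mul (M : X.Modules) (r s : Coh.Γtop X) :
    Formal.smulModΓ M (r * s) = Formal.smulModΓ M s ≫ Formal.smulModΓ M r := by
  apply SheafOfModules.hom_ext
  apply PresheafOfModules.hom_ext
  intro U
  ext m
  change Coh.resTop X U (r * s) • m = Coh.resTop X U r • (Coh.resTop X U s • m)
  rw [map_mul, mul_smul]

theorem smulMod_naturality {M N : X.Modules} (g : M ⟶ N) (a : A) :
    Formal.smulMod A M a ≫ g = g ≫ Formal.smulMod A N a := smulModΓ_naturality g _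

theorem smulMod_mul (M : X.Modules) (a b : A) :
    Formal.smulMod A M (a * b) = Formal.smulMod A M a ≫ Formal.smulMod A M b := by
  unfold Formal.smulMod
  rw [mul_comm a b, map_mul, smulModΓ_mul]

theorem epi_modPowπ (I : Ideal A) (k : ℕ) (F : X.Modules) : Epi (Formal.modPowπ I k F) := by
  unfold Formal.modPowπ
  exact coequalizer.π_epi

theorem ι_smulFamily (J : Ideal A) (F : X.Modules) (a : J) :
    Sigma.ι (fun _ : J => F) a ≫ Formal.smulFamily J F = Formal.smulMod A F (a : A) := by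
  unfold Formal.smulFamily
  exact Sigma.ι_desc _ _

/-- `f^k` kills `F / f^k F` -/
theorem smulMod_pow_π (f : A) (F : X.Modules) (k : ℕ) :
    Formal.smulMod A F (f ^ k) ≫ Formal.modPowπ (Ideal.span ({f} : Set A)) k F = 0 := by
  have hmem : f ^ k ∈ (Ideal.span ({f} : Set A)) ^ k :=
    Ideal.pow_mem_pow (Ideal.subset_span (Set.mem_singleton f)) k
  have e : Formal.smulMod A F (f ^ k) =
      Sigma.ι (fun _ : ↥((Ideal.span ({f} : Set A)) ^ k) => F) ⟨f ^ k, hmem⟩ ≫
        Formal.smulFamily ((Ideal.span ({f} : Set A)) ^ k) F :=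
    (ι_smulFamily ((Ideal.span ({f} : Set A)) ^ k) F ⟨f ^ k, hmem⟩).symm
  rw [e, Category.assoc]
  have hc : Formal.smulFamily ((Ideal.span ({f} : Set A)) ^ k) F ≫
      Formal.modPowπ (Ideal.span ({f} : Set A)) k F = 0 := cokernel.condition _
  rw [hc, comp_zero]

/-- the family map factors through multiplication by `f^k` -/
theorem smulFamily_factor (f : A) (F : X.Modules) (k : ℕ) :
    ∃ G : (∐ fun _ : ↥((Ideal.span ({f} : Set A)) ^ k) => F) ⟶ F,
      Formal.smulFamily ((Ideal.span ({f} : Set A)) ^ k) F = G ≫ Formal.smulMod A F (f ^ k) := by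
  classical
  have hb : ∀ a : ↥((Ideal.span ({f} : Set A)) ^ k), ∃ b : A, b * f ^ k = (a : A) := by
    intro a
    have h2 : (a : A) ∈ Ideal.span ({f ^ k} : Set A) := by
      rw [← Ideal.span_singleton_pow]; exact a.2
    exact Ideal.mem_span_singleton'.mp h2
  choose b hb using hb
  refine ⟨Sigma.desc fun a => Formal.smulMod A F (b a), ?_⟩
  apply Sigma.hom_ext
  intro a
  have e1 : Sigma.ι (fun _ : ↥((Ideal.span ({f} : Set A)) ^ k) => F) a ≫
      Formal.smulFamily ((Ideal.span ({f} : Set A)) ^ k) F = Formal.smulMod A F (a : A) :=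
    ι_smulFamily _ F a
  have e2 : Sigma.ι (fun _ : ↥((Ideal.span ({f} : Set A)) ^ k) => F) a ≫
      (Sigma.desc fun a => Formal.smulMod A F (b a)) = Formal.smulMod A F (b a) :=
    Sigma.ι_desc _ _
  rw [e1, ← Category.assoc, e2, ← smulMod_mul, hb]

theorem exact_smulMod_pow (f : A) (F : X.Modules) (k : ℕ) :
    (ShortComplex.mk (Formal.smulMod A F (f ^ k))
      (Formal.modPowπ (Ideal.span ({f} : Set A)) k F) (smulMod_pow_π f F k)).Exact := by
  rw [ShortComplex.exact_iff_exact_up_to_refinements]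
  intro T x hx
  change x ≫ Formal.modPowπ (Ideal.span ({f} : Set A)) k F = 0 at hx
  have hcok : (ShortComplex.mk (Formal.smulFamily ((Ideal.span ({f} : Set A)) ^ k) F)
      (cokernel.π (Formal.smulFamily ((Ideal.span ({f} : Set A)) ^ k) F))
      (cokernel.condition _)).Exact := ShortComplex.exact_cokernel _
  obtain ⟨T', p, hp, y, hy⟩ := hcok.exact_up_to_refinements x hx
  change p ≫ x = y ≫ Formal.smulFamily ((Ideal.span ({f} : Set A)) ^ k) F at hy
  obtain ⟨G, hG⟩ := smulFamily_factor f F k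
  refine ⟨T', p, hp, y ≫ G, ?_⟩
  change p ≫ x = (y ≫ G) ≫ Formal.smulMod A F (f ^ k)
  rw [hy, hG, Category.assoc]

theorem mono_smulMod_pow (f : A) (F : X.Modules) (hF : Mono (Formal.smulMod A F f)) (k : ℕ)
    (hk : 1 ≤ k) : Mono (Formal.smulMod A F (f ^ k)) := by
  induction k, hk using Nat.le_induction with
  | base => rw [pow_one]; exact hF
  | succ k _ ih =>
    rw [pow_succ, smulMod_mul]
    exact mono_comp _ _

end smul

/-- Implication (4) ⇒ (2), for an O_X-module over a base ring A and f ∈ A. Let X be a scheme over Spec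
A, f ∈ A and F an O_X-module on which multiplication by f is a monomorphism. Then for every n ≥ 1
there is a monomorphism i : F/fF → F/f^{n+1}F through which multiplication by f^n on F/f^{n+1}F
factors (projection to F/fF followed by i), and F/fF → F/f^{n+1}F → F/f^nF, with second map the
transition map, is a short exact sequence. (Stated for schemes; the published statement is for
ringed spaces.) -/
theorem result (A : Type u) [CommRing A] (X : Scheme.{u}) [X.Over (Spec (CommRingCat.of A))] (f : A) (F : X.Modules) (hF : Mono (Formal.smulMod A F f)) (n : ℕ) (hn : 1 ≤ n) : ∃ i : Formal.modPow (Ideal.span ({f} : Set A)) 1 F ⟶ Formal.modPow (Ideal.span ({f} : Set A)) (n + 1) F, Mono i ∧ Formal2.modPowLE (Ideal.span ({f} : Set A)) (Nat.le_add_left 1 n) F ≫ i = Formal.smulMod A (Formal.modPow (Ideal.span ({f} : Set A)) (n + 1) F) (f ^ n) ∧ ∃ w : i ≫ Formal.modPowTrans (Ideal.span ({f} : Set A)) n F = 0, (ShortComplex.mk i (Formal.modPowTrans (Ideal.span ({f} : Set A)) n F)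 w).ShortExact := by
  haveI := mono_smulMod_pow f F hF n hn
  have hψ : Formal.smulMod A F (f ^ (n + 1)) = Formal.smulMod A F f ≫ Formal.smulMod A F (f ^ n) := by
    rw [pow_succ', smulMod_mul]
  have w₁ : Formal.smulMod A F f ≫ Formal.modPowπ (Ideal.span ({f} : Set A)) 1 F = 0 := by
    have := smulMod_pow_π f F 1
    rwa [pow_one] at this
  have h₁ : (ShortComplex.mk (Formal.smulMod A F f)
      (Formal.modPowπ (Ideal.span ({f} : Set A)) 1 F) w₁).Exact := by
    have := exact_smulMod_pow f F 1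
    simpa only [pow_one] using this
  haveI : Epi (Formal.modPowπ (Ideal.span ({f} : Set A)) 1 F) := epi_modPowπ _ _ _
  haveI : Epi (Formal.modPowπ (Ideal.span ({f} : Set A)) n F) := epi_modPowπ _ _ _
  haveI : Epi (Formal.modPowπ (Ideal.span ({f} : Set A)) (n + 1) F) := epi_modPowπ _ _ _
  obtain ⟨i, hi, hfac, w, hse⟩ := abstract_step (Formal.smulMod A F f) (Formal.smulMod A F (f ^ n))
    (Formal.smulMod A F (f ^ (n + 1))) hψ
    (Formal.modPowπ (Ideal.span ({f} : Set A)) 1 F) (Formal.modPowπ (Ideal.span ({f} : Set A)) n F)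
    (Formal.modPowπ (Ideal.span ({f} : Set A)) (n + 1) F) w₁ (smulMod_pow_π f F n)
    (smulMod_pow_π f F (n + 1)) h₁ (exact_smulMod_pow f F n) (exact_smulMod_pow f F (n + 1))
    (Formal.modPowTrans (Ideal.span ({f} : Set A)) n F) (Formal.modPowπ_trans _ n F)
  refine ⟨i, hi, ?_, w, hse⟩
  apply (cancel_epi (Formal.modPowπ (Ideal.span ({f} : Set A)) (n + 1) F)).mp
  rw [← Category.assoc, Formal2.modPowπ_modPowLE, hfac, smulMod_naturality]

end Groth.Agent.S8821
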