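import Groth.Statements.S8825
import Mathlib
import Groth.Agent.S8804
import Groth.Agent.S0598
import Groth.Agent.S0599
import Groth.Agent.S0600
import Groth.Agent.S9294
import Groth.Agent.S19379
import Groth.Agent.S0543
import Groth.Agent.Lib.Helper47.RegularLocal

set_option autoImplicit false
universe u
open AdicRing

namespace Groth.Agent.S8825

/-- Let A be a Noetherian ring which is complete for the adic topology of an ideal I, let p be a
rig-closed prime of A (I ⊄ p and p is maximal among the primes not containing I), and let n ≥ 1.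
Then the ring map from A/p to the restricted power series ring (A/p){x_1, …, x_n}, i.e. the I-adic
completion of the polynomial ring (A/p)[x_1, …, x_n], is a regular ring map (flat, with Noetherian
and geometrically regular fibres). (The consequence for the fibre over the fraction field is not
stated.) -/
theorem result (A : Type u) [CommRing A] [IsNoetherianRing A] (I : Ideal A) [IsAdicComplete I A] (p : PrimeSpectrum A) (hp : ¬ I ≤ p.asIdeal ∧ ∀ q : PrimeSpectrum A, p ≤ q → ¬ I ≤ q.asIdeal → q = p) (n : ℕ) (hn : 1 ≤ n) : CAlg.IsRegularHom (A ⧸ p.asIdeal) (AdicCompletion (I.map (algebraMap A (MvPolynomial (Fin n) (A ⧸ p.asIdeal)))) (MvPolynomial (Fin n) (A ⧸ p.asIdeal))) := by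
  classical
  set D := A ⧸ p.asIdeal with hD
  -- S8804: D is a complete local ring
  have h := (Groth.Agent.S8804.result A I p).out 0 2
  obtain ⟨hdim, hmax, hcompl⟩ := h.mp hp
  set m₀ : Ideal D := (I.map (Ideal.Quotient.mk p.asIdeal)).radical with hm₀
  have hnontriv : Nontrivial D := Ideal.Quotient.nontrivial_iff.mpr p.2.ne_top
  have hloc : IsLocalRing D := by
    apply IsLocalRing.of_unique_max_ideal
    obtain ⟨m, hm⟩ := Ideal.exists_maximal D
    refine ⟨m, hm, fun m' hm' => ?_⟩
    rw [hmax m' hm', hmax m hm]
  have hmeq : IsLocalRing.maximalIdeal D = m₀ := hmax _ (IsLocalRing.maximalIdeal.isMaximal D)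
  have hcompl' : IsAdicComplete (IsLocalRing.maximalIdeal D) D := by rw [hmeq]; exact hcompl
  have hG : CAlg.IsGRing D := Groth.Agent.S0598.result D
  -- polynomial ring
  have hGP : CAlg.IsGRing (MvPolynomial (Fin n) D) := Groth.Agent.S0599.result D hG _
  have hNP : IsNoetherianRing (MvPolynomial (Fin n) D) := hGP.1
  have h1 : CAlg.IsRegularHom D (MvPolynomial (Fin n) D) := Groth.Agent.S19379.result D _
  have h2 : CAlg.IsRegularHom (MvPolynomial (Fin n) D)
      (AdicCompletion (I.map (algebraMap A (MvPolynomial (Fin n) D))) (MvPolynomial (Fin n) D)) :=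
    Groth.Agent.S0600.result _ hGP _
  have hNC : IsNoetherianRing (AdicCompletion (I.map (algebraMap A (MvPolynomial (Fin n) D)))
      (MvPolynomial (Fin n) D)) := Groth.Agent.S0543.result _ _
  refine Groth.Agent.S9294.result D (MvPolynomial (Fin n) D) _ h1 h2 ?_
  intro q hq
  exact Groth.Agent.Lib.Helper47.RegularLocal.isNoetherianRing_fiber q

end Groth.Agent.S8825
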