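import Groth.Statements.S8834
import Mathlib.RingTheory.Finiteness.Ideal
import Mathlib.RingTheory.Adjoin.FG

set_option autoImplicit false
universe u
open AdicRing

namespace Groth.Agent.S8834


section Dense

variable {A : Type*} [CommRing A] {B : Type*} [CommRing B] [Algebra A B] (N : Ideal B)
  (D : Subalgebra A B)

/-- If `D` surjects onto `B/N` and contains generators of `N`, every element of `N` is congruent
modulo `N²` to an element of `D ∩ N`. -/
theorem approx_one (h0 : ∀ z : B, ∃ d ∈ D, z - d ∈ N) (T : Set B) (hT : Ideal.span T = N)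
    (hTD : T ⊆ D) : ∀ y ∈ N, ∃ d ∈ D, d ∈ N ∧ y - d ∈ N ^ 2 := by
  intro y hy
  rw [← hT] at hy
  induction hy using Submodule.span_induction with
  | mem t ht =>
    exact ⟨t, hTD ht, by rw [← hT]; exact Ideal.subset_span ht, by simp⟩
  | zero => exact ⟨0, D.zero_mem, N.zero_mem, by simp⟩
  | add x y _ _ hx hy =>
    obtain ⟨d, hd, hdN, hxd⟩ := hx
    obtain ⟨e, he, heN, hye⟩ := hy
    refine ⟨d + e, D.add_mem hd he, N.add_mem hdN heN, ?_⟩
    have : x + y - (d + e) = (x - d) + (y - e) := by ring
    rw [this]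
    exact Ideal.add_mem _ hxd hye
  | smul u y hyT hy =>
    obtain ⟨d, hd, hdN, hyd⟩ := hy
    obtain ⟨e, he, hue⟩ := h0 u
    have hyN : y ∈ N := by rw [← hT]; exact hyT
    refine ⟨e * d, D.mul_mem he hd, N.mul_mem_left _ hdN, ?_⟩
    have : u • y - e * d = (u - e) * y + e * (y - d) := by rw [smul_eq_mul]; ring
    rw [this, pow_two]
    refine Ideal.add_mem _ (Ideal.mul_mem_mul hue hyN) (Ideal.mul_mem_left _ _ ?_)
    rwa [pow_two] at hyd

theorem approx_pow (h0 : ∀ z : B, ∃ d ∈ D, z - d ∈ N) (T : Set B) (hT : Ideal.span T = N)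
    (hTD : T ⊆ D) (n : ℕ) : ∀ z ∈ N ^ n, ∃ d ∈ D, d ∈ N ^ n ∧ z - d ∈ N ^ (n + 1) := by
  induction n with
  | zero =>
    intro z _
    obtain ⟨d, hd, hzd⟩ := h0 z
    exact ⟨d, hd, by simp, by simpa using hzd⟩
  | succ n ih =>
    intro z hz
    rw [pow_succ] at hz
    induction hz using Submodule.mul_induction_on' with
    | mem_mul_mem x hx y hy =>
      obtain ⟨d, hd, hdN, hxd⟩ := ih x hx
      obtain ⟨e, he, heN, hye⟩ := approx_one N D h0 T hT hTD y hy
      refine ⟨d * e, D.mul_mem hd he, ?_, ?_⟩
      · rw [pow_succ]; exact Ideal.mul_mem_mul hdN heN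
      · have : x * y - d * e = (x - d) * y + d * (y - e) := by ring
        rw [this]
        refine Ideal.add_mem _ ?_ ?_
        · rw [pow_succ (N) (n + 1)]; exact Ideal.mul_mem_mul hxd hy
        · have : N ^ (n + 1 + 1) = N ^ n * N ^ 2 := by rw [← pow_add]
          rw [this]; exact Ideal.mul_mem_mul hdN hye
    | add x _ y _ hx hy =>
      obtain ⟨d, hd, hdN, hxd⟩ := hx
      obtain ⟨e, he, heN, hye⟩ := hy
      refine ⟨d + e, D.add_mem hd he, Ideal.add_mem _ hdN heN, ?_⟩
      have : x + y - (d + e) = (x - d) + (y - e) := by ring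
      rw [this]
      exact Ideal.add_mem _ hxd hye

theorem dense_pow (h0 : ∀ z : B, ∃ d ∈ D, z - d ∈ N) (T : Set B) (hT : Ideal.span T = N)
    (hTD : T ⊆ D) (n : ℕ) : ∀ y : B, ∃ d ∈ D, y - d ∈ N ^ n := by
  induction n with
  | zero => intro y; exact ⟨0, D.zero_mem, by simp⟩
  | succ n ih =>
    intro y
    obtain ⟨d, hd, hyd⟩ := ih y
    obtain ⟨e, he, _, hye⟩ := approx_pow N D h0 T hT hTD n (y - d) hyd
    refine ⟨d + e, D.add_mem hd he, ?_⟩
    have : y - (d + e) = y - d - e := by ring
    rw [this]
    exact hye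

end Dense

/-- Let A be a Noetherian ring complete for the adic topology of an ideal I and B a Noetherian ring
complete for the adic topology of an ideal J, with an algebra map A → B sending I into the radical
of J (a continuous homomorphism of adic Noetherian topological rings; the radicals of I and J are
the ideals of topologically nilpotent elements). Assume B/√J is of finite type over A, equivalently
over A/√I. Then B is topologically of finite type over A: there are b_1, …, b_s ∈ B such that the
A-algebra map A[x_1, …, x_s] → B with x_i ↦ b_i has dense image for the J-adic topology, that is,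
for every y ∈ B and every n there is a polynomial whose value at b differs from y by an element of
J^n. -/
theorem result (A : Type u) [CommRing A] [IsNoetherianRing A] (I : Ideal A) [IsAdicComplete I A] (B : Type u) [CommRing B] [Algebra A B] [IsNoetherianRing B] (J : Ideal B) [IsAdicComplete J B] (hIJ : I.map (algebraMap A B) ≤ J.radical) (hft : Algebra.FiniteType A (B ⧸ J.radical)) : ∃ s : ℕ, ∃ b : Fin s → B, ∀ (y : B) (n : ℕ), ∃ p : MvPolynomial (Fin s) A, y - MvPolynomial.aeval b p ∈ J ^ n := by
  classical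
  obtain ⟨r, hr⟩ := Ideal.exists_radical_pow_le_of_fg J (IsNoetherian.noetherian J.radical)
  obtain ⟨s₀, hs₀⟩ := hft.out
  obtain ⟨T, hT⟩ := (IsNoetherian.noetherian J.radical : J.radical.FG)
  have hlift : ∀ q : B ⧸ J.radical, ∃ b : B, Ideal.Quotient.mk J.radical b = q :=
    Ideal.Quotient.mk_surjective
  choose lift hlift' using hlift
  let W : Finset B := s₀.image lift ∪ T
  let D : Subalgebra A B := Algebra.adjoin A (W : Set B)
  have hTD : (T : Set B) ⊆ D := by
    intro t ht
    exact Algebra.subset_adjoin (by simp [W, Finset.mem_coe.mp ht])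
  have h0 : ∀ z : B, ∃ d ∈ D, z - d ∈ J.radical := by
    have hmap : D.map (Ideal.Quotient.mkₐ A J.radical) = ⊤ := by
      rw [eq_top_iff, ← hs₀]
      apply Algebra.adjoin_le
      intro q hq
      refine ⟨lift q, Algebra.subset_adjoin ?_, hlift' q⟩
      simp only [W, Finset.coe_union, Finset.coe_image, Set.mem_union, Set.mem_image]
      exact Or.inl ⟨q, hq, rfl⟩
    intro z
    have hz : Ideal.Quotient.mkₐ A J.radical z ∈ D.map (Ideal.Quotient.mkₐ A J.radical) := by
      rw [hmap]; trivial
    obtain ⟨d, hd, hdz⟩ := hz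
    refine ⟨d, hd, ?_⟩
    rw [← Ideal.Quotient.eq]
    exact hdz.symm
  have hdense := fun n => dense_pow J.radical D h0 (T : Set B) hT hTD n
  refine ⟨W.card, fun i => (W.equivFin.symm i : B), fun y n => ?_⟩
  obtain ⟨d, hd, hyd⟩ := hdense (r * n) y
  have hD : D = (MvPolynomial.aeval fun i => (W.equivFin.symm i : B)).range := by
    rw [← Algebra.adjoin_range_eq_range_aeval]
    change Algebra.adjoin A (W : Set B) = _
    congr 1
    ext b
    constructor
    · intro hb
      exact ⟨W.equivFin ⟨b, hb⟩, by simp⟩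
    · rintro ⟨i, rfl⟩
      exact (W.equivFin.symm i).2
  rw [hD] at hd
  obtain ⟨p, rfl⟩ := hd
  refine ⟨p, ?_⟩
  have : J.radical ^ (r * n) ≤ J ^ n := by
    rw [pow_mul]
    exact Ideal.pow_right_mono hr n
  exact this hyd

end Groth.Agent.S8834
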