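import Groth.Statements.S8835
import Groth.Agent.Lib.Helper44.RigFinite

set_option autoImplicit false
universe u
open AdicRing

namespace Groth.Agent.S8835

/-- Let A be a Noetherian ring complete for the adic topology of an ideal I, and B a Noetherian
A-algebra complete for the IB-adic topology with B/IB of finite type over A (an adic morphism,
topologically of finite type, of adic Noetherian topological rings). Let q be a prime of B which is
rig-closed (IB ⊄ q and q maximal among the primes not containing IB). If A/I is a Jacobson ring,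
then the inverse image p of q in A is rig-closed: I ⊄ p and p is maximal among the primes of A not
containing I. -/
theorem result (A : Type u) [CommRing A] [IsNoetherianRing A] (I : Ideal A) [IsAdicComplete I A] (B : Type u) [CommRing B] [Algebra A B] [IsNoetherianRing B] [IsAdicComplete (I.map (algebraMap A B)) B] (hft : Algebra.FiniteType A (B ⧸ (I.map (algebraMap A B)))) (q : PrimeSpectrum B) (hq : (¬ (I.map (algebraMap A B)) ≤ q.asIdeal ∧ ∀ y : PrimeSpectrum B, q ≤ y → ¬ (I.map (algebraMap A B)) ≤ y.asIdeal → y = q)) (hJ : IsJacobsonRing (A ⧸ I)) : (¬ I ≤ (PrimeSpectrum.comap (algebraMap A B) q).asIdeal ∧ ∀ y : PrimeSpectrum A, (PrimeSpectrum.comap (algebraMap A B) q) ≤ y → ¬ I ≤ y.asIdeal → y = (PrimeSpectrum.comap (algebraMap A B) q)) := by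
  apply Groth.Agent.Lib.Helper44.rigClosed_comap_of_finite I q hq
  apply Groth.Agent.Lib.Helper44.finite_quotient_of_finite_residue I q hq
  intro m hm _
  have hJm : I.map (algebraMap A B) ≤ m :=
    Groth.Agent.Lib.Helper44.le_of_isMaximal_of_isAdicComplete _ m hm
  -- `B ⧸ m` is a field of finite type over the Jacobson ring `A ⧸ I`
  have hft' : Algebra.FiniteType A (B ⧸ m) :=
    Algebra.FiniteType.of_surjective (Ideal.Quotient.factorₐ A hJm)
      (Ideal.Quotient.factor_surjective hJm)
  have hIle : I ≤ RingHom.ker (algebraMap A (B ⧸ m)) := by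
    intro a ha
    rw [RingHom.mem_ker, IsScalarTower.algebraMap_apply A B (B ⧸ m), Ideal.Quotient.algebraMap_eq,
      Ideal.Quotient.eq_zero_iff_mem]
    exact hJm (Ideal.mem_map_of_mem _ ha)
  let f : A ⧸ I →+* B ⧸ m := Ideal.Quotient.lift I (algebraMap A (B ⧸ m)) hIle
  let _ := Ideal.Quotient.field m
  have hfin : f.Finite := by
    rw [RingHom.finite_iff_finiteType_of_isJacobsonRing]
    have hcomp : f.comp (Ideal.Quotient.mk I) = algebraMap A (B ⧸ m) := by
      ext a; rfl
    have h1 : (algebraMap A (B ⧸ m)).FiniteType := RingHom.finiteType_algebraMap.mpr hft'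
    rw [← hcomp] at h1
    exact RingHom.FiniteType.of_comp_finiteType h1
  have hcomp : f.comp (Ideal.Quotient.mk I) = algebraMap A (B ⧸ m) := by
    ext a; rfl
  have h2 : (algebraMap A (B ⧸ m)).Finite := by
    rw [← hcomp]
    exact RingHom.Finite.comp hfin
      (RingHom.Finite.of_surjective _ Ideal.Quotient.mk_surjective)
  exact RingHom.finite_algebraMap.mp h2

end Groth.Agent.S8835
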