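import Groth.Statements.S8836
import Groth.Agent.Lib.Helper44.RigFinite
import Mathlib.RingTheory.Ideal.GoingDown

set_option autoImplicit false
universe u
open AdicRing

namespace Groth.Agent.S8836

/-- Let A be a Noetherian ring complete for the adic topology of an ideal I, and B a Noetherian
A-algebra complete for the IB-adic topology, flat over A, with B/IB of finite type over A (a flat
adic morphism, topologically of finite type, of adic Noetherian topological rings). Let p be a prime
of A which is rig-closed (I ⊄ p and p maximal among the primes not containing I). The following are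
equivalent: (1) the maximal ideal of the local ring A/p lies in the image of Spec(B/√(IB)) →
Spec(A/√I), stated as: some prime Q of B containing IB lies over a maximal ideal of A containing p;
(2) there is a rig-closed prime q of B (IB ⊄ q, q maximal among the primes not containing IB) whose
inverse image in A is p. (The published statement adds that, when these hold, A/p ⊆ B/q is a finite
extension of rings and the residue field of the local ring B/q is finite over A/√I; this is not
restated here.) -/
theorem result (A : Type u) [CommRing A] [IsNoetherianRing A] (I : Ideal A) [IsAdicComplete I A] (B : Type u) [CommRing B] [Algebra A B] [IsNoetherianRing B] [IsAdicComplete (I.map (algebraMap A B)) B] (hft : Algebra.FiniteType A (B ⧸ (I.map (algebraMap A B)))) [Module.Flat A B] (p : PrimeSpectrum A) (hp : (¬ I ≤ p.asIdeal ∧ ∀ y : PrimeSpectrum A, p ≤ y → ¬ I ≤ y.asIdeal → y = p)) : (∃ Q : PrimeSpectrum B, (I.map (algebraMap A B)) ≤ Q.asIdeal ∧ p.asIdeal ≤ (PrimeSpectrum.comap (algebraMap A B) Q).asIdeal ∧ (PrimeSpectrum.comap (algebraMap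 A B) Q).asIdeal.IsMaximal) ↔ (∃ q : PrimeSpectrum B, (¬ (I.map (algebraMap A B)) ≤ q.asIdeal ∧ ∀ y : PrimeSpectrum B, q ≤ y → ¬ (I.map (algebraMap A B)) ≤ y.asIdeal → y = q) ∧ PrimeSpectrum.comap (algebraMap A B) q = p) := by
  constructor
  · rintro ⟨Q, hJQ, hpQ, -⟩
    have hpprime : p.asIdeal.IsPrime := p.isPrime
    have hQprime : Q.asIdeal.IsPrime := Q.isPrime
    have hle : p.asIdeal ≤ Q.asIdeal.under A := hpQ
    obtain ⟨P, -, hPprime, hPover⟩ :=
      Ideal.exists_ideal_le_liesOver_of_le (p := p.asIdeal) (q := Q.asIdeal.under A) Q.asIdeal hle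
    have hPp : Ideal.comap (algebraMap A B) P = p.asIdeal := (hPover.over).symm
    have hJP : ¬ I.map (algebraMap A B) ≤ P := by
      intro h
      apply hp.1
      rw [← hPp]
      exact Ideal.map_le_iff_le_comap.mp h
    -- a maximal prime above `P` not containing `IB`
    obtain ⟨q, ⟨hqprime, hPq, hJq⟩, hqmax⟩ :=
      (set_has_maximal_iff_noetherian (R := B) (M := B)).mpr inferInstance
        {y : Ideal B | y.IsPrime ∧ P ≤ y ∧ ¬ I.map (algebraMap A B) ≤ y} ⟨P, hPprime, le_rfl, hJP⟩
    refine ⟨⟨q, hqprime⟩, ⟨hJq, fun y hqy hJy => ?_⟩, ?_⟩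
    · have hy : y.asIdeal ∈ {y : Ideal B | y.IsPrime ∧ P ≤ y ∧ ¬ I.map (algebraMap A B) ≤ y} :=
        ⟨y.isPrime, le_trans hPq hqy, hJy⟩
      have hnlt := hqmax y.asIdeal hy
      have hqy' : q ≤ y.asIdeal := hqy
      exact PrimeSpectrum.ext (eq_of_le_of_not_lt hqy' hnlt).symm
    · apply hp.2
      · change p.asIdeal ≤ Ideal.comap (algebraMap A B) q
        rw [← hPp]
        exact Ideal.comap_mono hPq
      · intro h
        exact hJq (Ideal.map_le_iff_le_comap.mpr h)
  · rintro ⟨q, hq, rfl⟩
    have hqprime : q.asIdeal.IsPrime := q.isPrime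
    obtain ⟨m, hm, hqm⟩ := Ideal.exists_le_maximal q.asIdeal hqprime.ne_top
    have hJm : I.map (algebraMap A B) ≤ m :=
      Groth.Agent.Lib.Helper44.le_of_isMaximal_of_isAdicComplete _ m hm
    refine ⟨⟨m, hm.isPrime⟩, hJm, Ideal.comap_mono hqm, ?_⟩
    have hmprime : m.IsPrime := hm.isPrime
    have : (Ideal.comap (algebraMap A B) m).IsPrime := Ideal.comap_isPrime _ _
    exact Groth.Agent.Lib.Helper44.isMaximal_of_rigClosed_of_le I _ hp (Ideal.comap (algebraMap A B) m)
      (Ideal.comap_mono hqm) (Ideal.map_le_iff_le_comap.mp hJm)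

end Groth.Agent.S8836
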