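import Groth.Statements.S8840
import Groth.Agent.Lib.Helper95.RigI
-- import your own Groth.Agent.* helpers here

set_option autoImplicit false
universe u
open AdicRing Groth.Agent.Lib.Helper95.Rig

namespace Groth.Agent.S8840

/-- Let A be a Noetherian ring complete for the adic topology of an ideal I, and B a Noetherian
A-algebra complete for the IB-adic topology with B/IB of finite type over A (an adic morphism,
topologically of finite type, of adic Noetherian topological rings). Let q be a prime of B which is
rig-closed (IB ⊄ q and q maximal among the primes not containing IB). Then there exists f ∈ A which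
maps to a unit in B/q such that the following holds. Let A_{f} and B_{f} be the completed principal
localizations (the I-adic completions of A_f and B_f) and ψ : A_{f} → B_{f} the canonical map,
characterised here as any ring map compatible with A_f → B_f (there is exactly one). Then the
inverse image p' under ψ of the ideal q' = q B_{f} is a rig-closed prime of A_{f}: p' is prime, I
A_{f} ⊄ p', and p' is maximal among the primes of A_{f} not containing I A_{f}. (That q B_{f} is
itself prime with quotient B/q holds because f is a unit modulo q; it is not restated.) -/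
theorem result (A : Type u) [CommRing A] [IsNoetherianRing A] (I : Ideal A) [IsAdicComplete I A] (B : Type u) [CommRing B] [Algebra A B] [IsNoetherianRing B] [IsAdicComplete (I.map (algebraMap A B)) B] (hft : Algebra.FiniteType A (B ⧸ (I.map (algebraMap A B)))) (q : PrimeSpectrum B) (hq : (¬ (I.map (algebraMap A B)) ≤ q.asIdeal ∧ ∀ y : PrimeSpectrum B, q ≤ y → ¬ (I.map (algebraMap A B)) ≤ y.asIdeal → y = q)) : ∃ f : A, IsUnit (Ideal.Quotient.mk q.asIdeal (algebraMap A B f)) ∧ ∀ ψ : (AdicCompletion (I.map (algebraMap A (Localization.Away f))) (Localization.Away f)) →+* (AdicCompletion ((I.map (algebraMap A B)).map (algebraMap B (Localization.Away (algebraMap A B f)))) (Localization.Away (algebraMap A B f))), ψ.comp (algebraMap (Localization.Away f) (AdicCompletion (I.map (algebraMap A (Localization.Away f))) (Localization.Away f))) = (algebraMap (Localization.Away (algebraMap A B f)) (AdicCompletion ((I.map (algebraMap A B)).map (algebraMap B (Localization.Away (algebraMap A B f)))) (Localization.Away (algebraMap A B f)))).comp (Localization.awayMap (algebraMap A B) f) → (((q.asIdeal.map (algebraMap B (AdicCompletion ((I.map (algebraMap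 A B)).map (algebraMap B (Localization.Away (algebraMap A B f)))) (Localization.Away (algebraMap A B f))))).comap ψ).IsPrime ∧ ¬ (I.map (algebraMap A (AdicCompletion (I.map (algebraMap A (Localization.Away f))) (Localization.Away f)))) ≤ ((q.asIdeal.map (algebraMap B (AdicCompletion ((I.map (algebraMap A B)).map (algebraMap B (Localization.Away (algebraMap A B f)))) (Localization.Away (algebraMap A B f))))).comap ψ) ∧ ∀ y : PrimeSpectrum (AdicCompletion (I.map (algebraMap A (Localization.Away f))) (Localization.Away f)), ((q.asIdeal.map (algebraMap B (AdicCompletion ((I.map (algebraMap A B)).map (algebraMap B (Localization.Away (algebraMap A B f)))) (Localization.Away (algebraMap A B f))))).comap ψ) ≤ y.asIdeal → ¬ (I.map (algebraMap A (AdicCompletion (I.map (algebraMap A (Localization.Away f))) (Localization.Away f)))) ≤ y.asIdeal → y.asIdeal = ((q.asIdeal.map (algebraMap B (AdicCompletion ((I.map (algebraMap A B)).map (algebraMap B (Localization.Away (algebraMap A B f)))) (Localization.Away (algebraMap A B f))))).comap ψ)) := by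
  haveI hqprime : q.asIdeal.IsPrime := q.isPrime
  obtain ⟨mB, hmB, hqm⟩ := Ideal.exists_le_maximal q.asIdeal hqprime.ne_top
  letI := Ideal.Quotient.field mB
  have hIBm : I.map (algebraMap A B) ≤ mB :=
    Groth.Agent.Lib.Helper44.le_of_isMaximal_of_isAdicComplete _ mB hmB
  have hft' : Algebra.FiniteType A (B ⧸ mB) :=
    Algebra.FiniteType.of_surjective (Ideal.Quotient.factorₐ A hIBm)
      (Ideal.Quotient.factor_surjective hIBm)
  have hφ : ((Ideal.Quotient.mk mB).comp (algebraMap A B)).FiniteType :=
    RingHom.finiteType_algebraMap.mpr hft'
  obtain ⟨f, hu, hint⟩ := exists_away_isIntegral ((Ideal.Quotient.mk mB).comp (algebraMap A B)) hφ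
  refine ⟨f, ?_, fun ψ hψ => ?_⟩
  · have hfm : algebraMap A B f ∉ mB := by
      intro h
      have : ((Ideal.Quotient.mk mB).comp (algebraMap A B)) f = 0 :=
        Ideal.Quotient.eq_zero_iff_mem.mpr h
      rw [this] at hu
      exact not_isUnit_zero hu
    exact isUnit_mk_of_notMem_maximal _ q hq mB hmB hqm _ hfm
  · exact (rigClosed_comap_cloc A I B hft q hq mB hmB hqm f hu hint ψ hψ).2

end Groth.Agent.S8840
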