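import Groth.Statements.S8841
import Groth.Agent.Lib.Helper95.RigG
import Groth.Agent.Lib.Helper95.RigB
import Groth.Agent.S8835
-- import your own Groth.Agent.* helpers here

set_option autoImplicit false
universe u
open AdicRing Groth.Agent.Lib.Helper95.Rig

namespace Groth.Agent.S8841

/-- Let A be a Noetherian ring complete for the adic topology of an ideal I, and B a Noetherian
A-algebra complete for the IB-adic topology with B/IB of finite type over A (an adic morphism,
topologically of finite type, of adic Noetherian topological rings), and assume A/I is a Jacobson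
ring. Suppose A → B is naively rig-flat: whenever q is a rig-closed prime of B (IB ⊄ q and q maximal
among the primes not containing IB), the localization B_q is an A-flat ring. Then A → B is rig-flat:
for every f ∈ A, letting A_{f} and B_{f} be the completed principal localizations (the I-adic
completions of A_f and B_f) and ψ : A_{f} → B_{f} the canonical map, characterised here as any ring
map compatible with A_f → B_f (there is exactly one), the local ring (B_{f})_{q'} is flat over A_{f}
via ψ for every rig-closed prime q' of B_{f} (I B_{f} ⊄ q' and q' maximal among the primes not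
containing I B_{f}). (That A_{f} → B_{f} is again adic and topologically of finite type is not
restated.) -/
theorem result (A : Type u) [CommRing A] [IsNoetherianRing A] (I : Ideal A) [IsAdicComplete I A] (B : Type u) [CommRing B] [Algebra A B] [IsNoetherianRing B] [IsAdicComplete (I.map (algebraMap A B)) B] (hft : Algebra.FiniteType A (B ⧸ (I.map (algebraMap A B)))) (hJ : IsJacobsonRing (A ⧸ I)) (hnaive : ∀ q : PrimeSpectrum B, (¬ (I.map (algebraMap A B)) ≤ q.asIdeal ∧ ∀ y : PrimeSpectrum B, q ≤ y → ¬ (I.map (algebraMap A B)) ≤ y.asIdeal → y = q) → (algebraMap A (Localization.AtPrime q.asIdeal)).Flat) (f : A) (ψ : (AdicCompletion (I.map (algebraMap A (Localization.Away f))) (Localization.Away f)) →+* (AdicCompletion ((I.map (algebraMap A B)).map (algebraMap B (Localization.Away (algebraMap A B f)))) (Localization.Away (algebraMap A B f)))) (hψ : ψ.comp (algebraMap (Localization.Away f) (AdicCompletion (I.map (algebraMap A (Localization.Away f))) (Localization.Away f))) = (algebraMap (Localization.Away (algebraMap A B f)) (AdicCompletion ((I.map (algebraMap A B)).map (algebraMap B (Localization.Away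 (algebraMap A B f)))) (Localization.Away (algebraMap A B f)))).comp (Localization.awayMap (algebraMap A B) f)) (q' : PrimeSpectrum (AdicCompletion ((I.map (algebraMap A B)).map (algebraMap B (Localization.Away (algebraMap A B f)))) (Localization.Away (algebraMap A B f)))) (hq' : (¬ ((((I.map (algebraMap A B))).map (algebraMap B (Localization.Away (algebraMap A B f)))).map (algebraMap (Localization.Away (algebraMap A B f)) (AdicCompletion ((I.map (algebraMap A B)).map (algebraMap B (Localization.Away (algebraMap A B f)))) (Localization.Away (algebraMap A B f))))) ≤ q'.asIdeal ∧ ∀ y : PrimeSpectrum (AdicCompletion ((I.map (algebraMap A B)).map (algebraMap B (Localization.Away (algebraMap A B f)))) (Localization.Away (algebraMap A B f))), q' ≤ y → ¬ ((((I.map (algebraMap A B))).map (algebraMap B (Localization.Away (algebraMap A B f)))).map (algebraMap (Localization.Away (algebraMap A B f)) (AdicCompletion ((I.map (algebraMap A B)).map (algebraMap B (Localization.Away (algebraMap A B f)))) (Localization.Away (algebraMap A B f))))) ≤ y.asIdeal → y = q')) : ((algebraMap (AdicCompletion ((I.map (algebraMap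 A B)).map (algebraMap B (Localization.Away (algebraMap A B f)))) (Localization.Away (algebraMap A B f))) (Localization.AtPrime q'.asIdeal)).comp ψ).Flat := by
  -- notation
  haveI hNB : IsNoetherianRing (CLoc B (I.map (algebraMap A B)) (algebraMap A B f)) :=
    isNoetherianRing_cloc B _ _
  haveI hNA : IsNoetherianRing (CLoc A I f) := isNoetherianRing_cloc A I f
  haveI hCB : IsAdicComplete ((I.map (algebraMap A B)).map
      (algebraMap B (CLoc B (I.map (algebraMap A B)) (algebraMap A B f))))
      (CLoc B (I.map (algebraMap A B)) (algebraMap A B f)) := isAdicComplete_cloc B _ _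
  -- `B / IB` is Jacobson
  have hJB : IsJacobsonRing (B ⧸ I.map (algebraMap A B)) := by
    have h1 : (algebraMap A (B ⧸ I.map (algebraMap A B))).FiniteType :=
      RingHom.finiteType_algebraMap.mpr hft
    have hcomp : (Ideal.quotientMap (I.map (algebraMap A B)) (algebraMap A B)
        Ideal.le_comap_map).comp (Ideal.Quotient.mk I) =
        algebraMap A (B ⧸ I.map (algebraMap A B)) := by
      ext a; rfl
    rw [← hcomp] at h1
    exact (RingHom.FiniteType.of_comp_finiteType h1).isJacobsonRing
  -- Step 1: the contraction of `q'` to `B` is rig-closed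
  have hq'2 : (¬ (I.map (algebraMap A B)).map
      (algebraMap B (CLoc B (I.map (algebraMap A B)) (algebraMap A B f))) ≤ q'.asIdeal ∧
      ∀ y : PrimeSpectrum (CLoc B (I.map (algebraMap A B)) (algebraMap A B f)), q' ≤ y →
        ¬ (I.map (algebraMap A B)).map
          (algebraMap B (CLoc B (I.map (algebraMap A B)) (algebraMap A B f))) ≤ y.asIdeal →
        y = q') := by
    rw [map_cloc]
    exact hq'
  have hq := Groth.Agent.S8835.result B (I.map (algebraMap A B))
    (CLoc B (I.map (algebraMap A B)) (algebraMap A B f)) (finiteType_cloc B _ _) q' hq'2 hJB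
  have hflatq := hnaive _ hq
  have hp := Groth.Agent.S8835.result A I B hft _ hq hJ
  -- Step 4: the local ring at `q'` is `A`-flat
  have hχ : (algebraMap B (CLoc B (I.map (algebraMap A B)) (algebraMap A B f))).Flat :=
    RingHom.flat_algebraMap_iff.mpr (flat_cloc B _ _)
  have h2 : ((algebraMap (CLoc B (I.map (algebraMap A B)) (algebraMap A B f))
      (Localization.AtPrime q'.asIdeal)).comp
      (algebraMap B (CLoc B (I.map (algebraMap A B)) (algebraMap A B f)))).Flat :=
    RingHom.Flat.comp hχ
      (RingHom.flat_algebraMap_iff.mpr (IsLocalization.flat _ q'.asIdeal.primeCompl))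
  have h1 : ((algebraMap B (Localization.AtPrime (q'.asIdeal.comap
      (algebraMap B (CLoc B (I.map (algebraMap A B)) (algebraMap A B f)))))).comp
      (algebraMap A B)).Flat := by
    rw [← IsScalarTower.algebraMap_eq]
    exact hflatq
  have h3 := flat_atPrime_comp (algebraMap A B)
    (algebraMap B (CLoc B (I.map (algebraMap A B)) (algebraMap A B f))) q'.asIdeal h1 h2
  -- Step 5: compatibility
  have hcomp : ψ.comp (algebraMap A (CLoc A I f)) =
      (algebraMap B (CLoc B (I.map (algebraMap A B)) (algebraMap A B f))).comp
        (algebraMap A B) := by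
    rw [algebraMap_cloc_eq, ← RingHom.comp_assoc, hψ, RingHom.comp_assoc]
    have : (Localization.awayMap (algebraMap A B) f).comp (algebraMap A (Localization.Away f)) =
        (algebraMap B (Localization.Away (algebraMap A B f))).comp (algebraMap A B) :=
      IsLocalization.map_comp _
    rw [this, ← RingHom.comp_assoc]
    rfl
  -- Step 6: `f` is a unit modulo `p`
  have hcontr : ∀ a : A, a ∈ (PrimeSpectrum.comap (algebraMap A B) (PrimeSpectrum.comap
      (algebraMap B (CLoc B (I.map (algebraMap A B)) (algebraMap A B f))) q')).asIdeal →
      ψ (algebraMap A (CLoc A I f) a) ∈ q'.asIdeal := by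
    intro a ha
    have : ψ (algebraMap A (CLoc A I f) a) =
        algebraMap B (CLoc B (I.map (algebraMap A B)) (algebraMap A B f)) (algebraMap A B a) :=
      RingHom.congr_fun hcomp a
    rw [this]
    exact ha
  have hfunit : IsUnit (Ideal.Quotient.mk (PrimeSpectrum.comap (algebraMap A B)
      (PrimeSpectrum.comap (algebraMap B (CLoc B (I.map (algebraMap A B)) (algebraMap A B f)))
        q')).asIdeal f) := by
    refine isUnit_mk_of_rigClosed I _ hp (ψ.comp (algebraMap A (CLoc A I f))) f ?_ ?_
      q'.asIdeal q'.isPrime.ne_top (fun a ha => hcontr a ha)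
    · rw [RingHom.comp_apply]
      exact (isUnit_cloc A I f).map ψ
    · rw [hcomp, ← Ideal.map_map]
      exact IsAdicComplete.le_jacobson_bot _
  -- Steps 7, 8
  refine flat_of_flat_of_approx (algebraMap A (CLoc A I f))
    ((algebraMap (CLoc B (I.map (algebraMap A B)) (algebraMap A B f))
      (Localization.AtPrime q'.asIdeal)).comp ψ)
    (PrimeSpectrum.comap (algebraMap A B) (PrimeSpectrum.comap
      (algebraMap B (CLoc B (I.map (algebraMap A B)) (algebraMap A B f))) q')).asIdeal ?_ ?_ ?_
  · intro n x
    exact exists_sub_mem_map_of_isUnit A I _ f (isUnit_mk_pow_of_isUnit_mk _ f hfunit (n + 1)) x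
  · rw [IsLocalRing.jacobson_eq_maximalIdeal ⊥ bot_ne_top, Ideal.map_le_iff_le_comap,
      Ideal.map_le_iff_le_comap]
    intro a ha
    rw [Ideal.mem_comap, Ideal.mem_comap, RingHom.comp_apply,
      ← Localization.AtPrime.map_eq_maximalIdeal]
    exact Ideal.mem_map_of_mem _ (hcontr a ha)
  · rw [RingHom.comp_assoc, hcomp]
    exact h3

end Groth.Agent.S8841
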