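import Groth.Statements.S8844
import Groth.Agent.Lib.Helper95.RigD
-- import your own Groth.Agent.* helpers here

set_option autoImplicit false
universe u
open AdicRing Groth.Agent.Lib.Helper95.Rig

namespace Groth.Agent.S8844

/-- Consider a commutative square of adic Noetherian topological rings with all maps adic and
topologically of finite type: A a Noetherian ring complete for the adic topology of an ideal I; B,
A' and B' Noetherian algebras complete for the IB-, IA'- and IB'-adic topologies, B' an algebra over
B and over A' compatibly with A, with B/IB and A'/IA' of finite type over A and B'/IB' of finite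
type over B and over A'. Assume A → A' is flat and B → B' is faithfully flat. If A' → B' is rig-flat
— for every f' ∈ A', every ring map A'_{f'} → B'_{f'} of completed principal localizations
compatible with the map of ordinary localizations A'[1/f'] → B'[1/f'] (there is exactly one), and
every rig-closed prime q of B'_{f'} (I B'_{f'} ⊄ q and q maximal among the primes not containing I
B'_{f'}), the local ring (B'_{f'})_q is flat over A'_{f'} — then A → B is rig-flat in the same form:
for every f ∈ A, every ring map A_{f} → B_{f} of completed principal localizations compatible with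
the map of ordinary localizations A[1/f] → B[1/f], and every rig-closed prime q of B_{f}, the local
ring (B_{f})_q is flat over A_{f}. -/
theorem result (A : Type u) [CommRing A] [IsNoetherianRing A] (I : Ideal A) [IsAdicComplete I A] (B : Type u) [CommRing B] [Algebra A B] [IsNoetherianRing B] [IsAdicComplete (I.map (algebraMap A B)) B] (hftB : Algebra.FiniteType A (B ⧸ (I.map (algebraMap A B)))) (A' : Type u) [CommRing A'] [Algebra A A'] [IsNoetherianRing A'] [IsAdicComplete (I.map (algebraMap A A')) A'] (hftA' : Algebra.FiniteType A (A' ⧸ (I.map (algebraMap A A')))) (B' : Type u) [CommRing B'] [Algebra A B'] [Algebra B B'] [Algebra A' B'] [IsScalarTower A B B'] [IsScalarTower A A' B'] [IsNoetherianRing B'] [IsAdicComplete (I.map (algebraMap A B')) B'] (hftB'B : Algebra.FiniteType B (B' ⧸ (I.map (algebraMap A B')))) (hftB'A' : Algebra.FiniteType A' (B' ⧸ (I.map (algebraMap A B')))) [Module.Flat A A'] [Module.FaithfullyFlat B B'] (hA'B' : (∀ f' : A', ∀ ψf' : (AdicCompletion ((I.map (algebraMap A A')).map (algebraMap A' (Localization.Away f'))) (Localization.Away f')) →+* (AdicCompletion (((I.map (algebraMap A A')).map (algebraMap A' B')).map (algebraMap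 B' (Localization.Away (algebraMap A' B' f')))) (Localization.Away (algebraMap A' B' f'))), ψf'.comp (algebraMap (Localization.Away f') (AdicCompletion ((I.map (algebraMap A A')).map (algebraMap A' (Localization.Away f'))) (Localization.Away f'))) = (algebraMap (Localization.Away (algebraMap A' B' f')) (AdicCompletion (((I.map (algebraMap A A')).map (algebraMap A' B')).map (algebraMap B' (Localization.Away (algebraMap A' B' f')))) (Localization.Away (algebraMap A' B' f')))).comp (Localization.awayMap (algebraMap A' B') f') → ∀ qf' : PrimeSpectrum (AdicCompletion (((I.map (algebraMap A A')).map (algebraMap A' B')).map (algebraMap B' (Localization.Away (algebraMap A' B' f')))) (Localization.Away (algebraMap A' B' f'))), (¬ ((((I.map (algebraMap A A')).map (algebraMap A' B')).map (algebraMap B' (Localization.Away (algebraMap A' B' f')))).map (algebraMap (Localization.Away (algebraMap A' B' f')) (AdicCompletion (((I.map (algebraMap A A')).map (algebraMap A' B')).map (algebraMap B' (Localization.Away (algebraMap A' B' f')))) (Localization.Away (algebraMap A' B' f'))))) ≤ qf'.asIdeal ∧ ∀ y : PrimeSpectrum (AdicCompletion (((I.map (algebraMap A A')).map (algebraMap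 A' B')).map (algebraMap B' (Localization.Away (algebraMap A' B' f')))) (Localization.Away (algebraMap A' B' f'))), qf' ≤ y → ¬ ((((I.map (algebraMap A A')).map (algebraMap A' B')).map (algebraMap B' (Localization.Away (algebraMap A' B' f')))).map (algebraMap (Localization.Away (algebraMap A' B' f')) (AdicCompletion (((I.map (algebraMap A A')).map (algebraMap A' B')).map (algebraMap B' (Localization.Away (algebraMap A' B' f')))) (Localization.Away (algebraMap A' B' f'))))) ≤ y.asIdeal → y = qf') → ((algebraMap (AdicCompletion (((I.map (algebraMap A A')).map (algebraMap A' B')).map (algebraMap B' (Localization.Away (algebraMap A' B' f')))) (Localization.Away (algebraMap A' B' f'))) (Localization.AtPrime qf'.asIdeal)).comp ψf').Flat)) : (∀ f : A, ∀ ψf : (AdicCompletion (I.map (algebraMap A (Localization.Away f))) (Localization.Away f)) →+* (AdicCompletion ((I.map (algebraMap A B)).map (algebraMap B (Localization.Away (algebraMap A B f)))) (Localization.Away (algebraMap A B f))), ψf.comp (algebraMap (Localization.Away f) (AdicCompletion (I.map (algebraMap A (Localization.Away f))) (Localization.Away f))) = (algebraMap (Localization.Away (algebraMap A B f))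 (AdicCompletion ((I.map (algebraMap A B)).map (algebraMap B (Localization.Away (algebraMap A B f)))) (Localization.Away (algebraMap A B f)))).comp (Localization.awayMap (algebraMap A B) f) → ∀ qf : PrimeSpectrum (AdicCompletion ((I.map (algebraMap A B)).map (algebraMap B (Localization.Away (algebraMap A B f)))) (Localization.Away (algebraMap A B f))), (¬ (((I.map (algebraMap A B)).map (algebraMap B (Localization.Away (algebraMap A B f)))).map (algebraMap (Localization.Away (algebraMap A B f)) (AdicCompletion ((I.map (algebraMap A B)).map (algebraMap B (Localization.Away (algebraMap A B f)))) (Localization.Away (algebraMap A B f))))) ≤ qf.asIdeal ∧ ∀ y : PrimeSpectrum (AdicCompletion ((I.map (algebraMap A B)).map (algebraMap B (Localization.Away (algebraMap A B f)))) (Localization.Away (algebraMap A B f))), qf ≤ y → ¬ (((I.map (algebraMap A B)).map (algebraMap B (Localization.Away (algebraMap A B f)))).map (algebraMap (Localization.Away (algebraMap A B f)) (AdicCompletion ((I.map (algebraMap A B)).map (algebraMap B (Localization.Away (algebraMap A B f)))) (Localization.Away (algebraMap A B f))))) ≤ y.asIdeal → y = qf) → ((algebraMap (AdicCompletion ((I.map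 (algebraMap A B)).map (algebraMap B (Localization.Away (algebraMap A B f)))) (Localization.Away (algebraMap A B f))) (Localization.AtPrime qf.asIdeal)).comp ψf).Flat) := by
  intro f
  have hfg : ∀ {R : Type u} [CommRing R] [IsNoetherianRing R] (J : Ideal R), J.FG := fun J =>
    IsNoetherian.noetherian J
  have hN : ∀ {R : Type u} [CommRing R] [IsNoetherianRing R] (r : R),
      IsNoetherianRing (Localization.Away r) := fun r =>
    IsLocalization.isNoetherianRing (Submonoid.powers r) _ inferInstance
  haveI := hN f
  haveI := hN (algebraMap A B f)
  haveI := hN (algebraMap A A' f)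
  haveI := hN (algebraMap A' B' (algebraMap A A' f))
  have hH : RigFlatAt ((I.map (algebraMap A A')).map
      (algebraMap A' (Localization.Away (algebraMap A A' f))))
      (((I.map (algebraMap A A')).map (algebraMap A' B')).map
        (algebraMap B' (Localization.Away (algebraMap A' B' (algebraMap A A' f)))))
      (Localization.awayMap (algebraMap A' B') (algebraMap A A' f)) := hA'B' (algebraMap A A' f)
  have hbb : algebraMap B B' (algebraMap A B f) = algebraMap A' B' (algebraMap A A' f) := by
    rw [← IsScalarTower.algebraMap_apply, ← IsScalarTower.algebraMap_apply]
  let β : Localization.Away (algebraMap A B f) →+*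
      Localization.Away (algebraMap A' B' (algebraMap A A' f)) :=
    IsLocalization.Away.lift (algebraMap A B f)
      (g := (algebraMap B' (Localization.Away (algebraMap A' B' (algebraMap A A' f)))).comp
        (algebraMap B B')) (by
        rw [RingHom.comp_apply, hbb]
        exact IsLocalization.Away.algebraMap_isUnit _)
  have hβc : β.comp (algebraMap B (Localization.Away (algebraMap A B f))) =
      (algebraMap B' (Localization.Away (algebraMap A' B' (algebraMap A A' f)))).comp
        (algebraMap B B') := IsLocalization.lift_comp _
  have hφc : (Localization.awayMap (algebraMap A B) f).comp (algebraMap A (Localization.Away f)) =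
      (algebraMap B (Localization.Away (algebraMap A B f))).comp (algebraMap A B) :=
    IsLocalization.map_comp _
  have hαc : (Localization.awayMap (algebraMap A A') f).comp
      (algebraMap A (Localization.Away f)) =
      (algebraMap A' (Localization.Away (algebraMap A A' f))).comp (algebraMap A A') :=
    IsLocalization.map_comp _
  have hφ'c : (Localization.awayMap (algebraMap A' B') (algebraMap A A' f)).comp
      (algebraMap A' (Localization.Away (algebraMap A A' f))) =
      (algebraMap B' (Localization.Away (algebraMap A' B' (algebraMap A A' f)))).comp
        (algebraMap A' B') := IsLocalization.map_comp _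
  have hsq : β.comp (Localization.awayMap (algebraMap A B) f) =
      (Localization.awayMap (algebraMap A' B') (algebraMap A A' f)).comp
        (Localization.awayMap (algebraMap A A') f) := by
    apply IsLocalization.ringHom_ext (Submonoid.powers f)
    have e1 : (β.comp (Localization.awayMap (algebraMap A B) f)).comp
        (algebraMap A (Localization.Away f)) =
        (algebraMap B' (Localization.Away (algebraMap A' B' (algebraMap A A' f)))).comp
          (algebraMap A B') := by
      rw [RingHom.comp_assoc, hφc, ← RingHom.comp_assoc, hβc, RingHom.comp_assoc,
        ← IsScalarTower.algebraMap_eq]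
    have e2 : ((Localization.awayMap (algebraMap A' B') (algebraMap A A' f)).comp
        (Localization.awayMap (algebraMap A A') f)).comp
        (algebraMap A (Localization.Away f)) =
        (algebraMap B' (Localization.Away (algebraMap A' B' (algebraMap A A' f)))).comp
          (algebraMap A B') := by
      rw [RingHom.comp_assoc, hαc, ← RingHom.comp_assoc, hφ'c, RingHom.comp_assoc,
        ← IsScalarTower.algebraMap_eq]
    rw [e1, e2]
  have hα : (Localization.awayMap (algebraMap A A') f).Flat := by
    apply flat_of_comp_isLocalization (Submonoid.powers f)
    rw [hαc]
    exact RingHom.Flat.comp (RingHom.flat_algebraMap_iff.mpr inferInstance)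
      (RingHom.flat_algebraMap_iff.mpr
        (IsLocalization.flat _ (Submonoid.powers (algebraMap A A' f))))
  have hβ : β.Flat := by
    apply flat_of_comp_isLocalization (Submonoid.powers (algebraMap A B f))
    rw [hβc]
    exact RingHom.Flat.comp (RingHom.flat_algebraMap_iff.mpr inferInstance)
      (RingHom.flat_algebraMap_iff.mpr
        (IsLocalization.flat _ (Submonoid.powers (algebraMap A' B' (algebraMap A A' f)))))
  have hKβ : ((I.map (algebraMap A B)).map
      (algebraMap B (Localization.Away (algebraMap A B f)))).map β =
      ((I.map (algebraMap A A')).map (algebraMap A' B')).map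
        (algebraMap B' (Localization.Away (algebraMap A' B' (algebraMap A A' f)))) := by
    rw [Ideal.map_map, hβc, ← Ideal.map_map]
    congr 1
    rw [Ideal.map_map, Ideal.map_map, ← IsScalarTower.algebraMap_eq,
      ← IsScalarTower.algebraMap_eq]
  refine rigFlatAt_descent _ _ _ _ _ _ _ β hsq hα hβ ?_ ?_ hKβ ?_ ?_ hH
  · intro m₀ hm₀ hKm₀
    obtain ⟨n₀, hn₀, hle⟩ := away_map_ne_top (algebraMap A B f) _ hbb β hβc m₀ hm₀
    exact ⟨n₀, hn₀, le_trans (hKβ ▸ Ideal.map_mono hKm₀) hle, hle⟩
  · rw [Ideal.map_map, hαc, ← Ideal.map_map]
  · rw [Ideal.map_map, hφc, ← Ideal.map_map]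
  · rw [Ideal.map_map, hφ'c, ← Ideal.map_map]

end Groth.Agent.S8844
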