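import Groth.Statements.S8845
import Groth.Agent.Lib.Helper95.RigO
-- import your own Groth.Agent.* helpers here

set_option autoImplicit false
universe u
open AdicRing Groth.Agent.Lib.Helper95.Rig

namespace Groth.Agent.S8845

/-- Consider a commutative square of adic Noetherian topological rings with all maps adic and
topologically of finite type: A a Noetherian ring complete for the adic topology of an ideal I (the
ideal of definition used below); B, A' and B' Noetherian algebras complete for the IB-, IA'- and
IB'-adic topologies, B' an algebra over B and over A' compatibly with A, with B/IB and A'/IA' of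
finite type over A and B'/IB' of finite type over B and over A'. Assume A → A' and B → B' are flat
and A/I → A'/IA' is étale. If A → B is rig-flat — for every f ∈ A, every ring map ψ : A_{f} → B_{f}
of completed principal localizations compatible with the map of ordinary localizations A[1/f] →
B[1/f] (there is exactly one), and every rig-closed prime q of B_{f} (I B_{f} ⊄ q and q maximal
among the primes not containing I B_{f}), the local ring (B_{f})_q is flat over A_{f} via ψ — then
A' → B' is rig-flat in the same form: for every f' ∈ A', every ring map A'_{f'} → B'_{f'} of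
completed principal localizations compatible with the map of ordinary localizations A'[1/f'] →
B'[1/f'], and every rig-closed prime q' of B'_{f'}, the local ring (B'_{f'})_{q'} is flat over
A'_{f'}. -/
theorem result (A : Type u) [CommRing A] [IsNoetherianRing A] (I : Ideal A) [IsAdicComplete I A] (B : Type u) [CommRing B] [Algebra A B] [IsNoetherianRing B] [IsAdicComplete (I.map (algebraMap A B)) B] (hftB : Algebra.FiniteType A (B ⧸ (I.map (algebraMap A B)))) (A' : Type u) [CommRing A'] [Algebra A A'] [IsNoetherianRing A'] [IsAdicComplete (I.map (algebraMap A A')) A'] (hftA' : Algebra.FiniteType A (A' ⧸ (I.map (algebraMap A A')))) (B' : Type u) [CommRing B'] [Algebra A B'] [Algebra B B'] [Algebra A' B'] [IsScalarTower A B B'] [IsScalarTower A A' B'] [IsNoetherianRing B'] [IsAdicComplete (I.map (algebraMap A B')) B'] (hftB'B : Algebra.FiniteType B (B' ⧸ (I.map (algebraMap A B')))) (hftB'A' : Algebra.FiniteType A' (B' ⧸ (I.map (algebraMap A B')))) [Module.Flat A A'] [Module.Flat B B'] [Algebra.Etale (A ⧸ I) (A' ⧸ (I.map (algebraMap A A')))] (hAB : (∀ f : A, ∀ ψf : (AdicCompletion (I.map (algebraMap A (Localization.Away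 f))) (Localization.Away f)) →+* (AdicCompletion ((I.map (algebraMap A B)).map (algebraMap B (Localization.Away (algebraMap A B f)))) (Localization.Away (algebraMap A B f))), ψf.comp (algebraMap (Localization.Away f) (AdicCompletion (I.map (algebraMap A (Localization.Away f))) (Localization.Away f))) = (algebraMap (Localization.Away (algebraMap A B f)) (AdicCompletion ((I.map (algebraMap A B)).map (algebraMap B (Localization.Away (algebraMap A B f)))) (Localization.Away (algebraMap A B f)))).comp (Localization.awayMap (algebraMap A B) f) → ∀ qf : PrimeSpectrum (AdicCompletion ((I.map (algebraMap A B)).map (algebraMap B (Localization.Away (algebraMap A B f)))) (Localization.Away (algebraMap A B f))), (¬ (((I.map (algebraMap A B)).map (algebraMap B (Localization.Away (algebraMap A B f)))).map (algebraMap (Localization.Away (algebraMap A B f)) (AdicCompletion ((I.map (algebraMap A B)).map (algebraMap B (Localization.Away (algebraMap A B f)))) (Localization.Away (algebraMap A B f))))) ≤ qf.asIdeal ∧ ∀ y : PrimeSpectrum (AdicCompletion ((I.map (algebraMap A B)).map (algebraMap B (Localization.Away (algebraMap A B f)))) (Localization.Away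 (algebraMap A B f))), qf ≤ y → ¬ (((I.map (algebraMap A B)).map (algebraMap B (Localization.Away (algebraMap A B f)))).map (algebraMap (Localization.Away (algebraMap A B f)) (AdicCompletion ((I.map (algebraMap A B)).map (algebraMap B (Localization.Away (algebraMap A B f)))) (Localization.Away (algebraMap A B f))))) ≤ y.asIdeal → y = qf) → ((algebraMap (AdicCompletion ((I.map (algebraMap A B)).map (algebraMap B (Localization.Away (algebraMap A B f)))) (Localization.Away (algebraMap A B f))) (Localization.AtPrime qf.asIdeal)).comp ψf).Flat)) : (∀ f' : A', ∀ ψf' : (AdicCompletion ((I.map (algebraMap A A')).map (algebraMap A' (Localization.Away f'))) (Localization.Away f')) →+* (AdicCompletion (((I.map (algebraMap A A')).map (algebraMap A' B')).map (algebraMap B' (Localization.Away (algebraMap A' B' f')))) (Localization.Away (algebraMap A' B' f'))), ψf'.comp (algebraMap (Localization.Away f') (AdicCompletion ((I.map (algebraMap A A')).map (algebraMap A' (Localization.Away f'))) (Localization.Away f'))) = (algebraMap (Localization.Away (algebraMap A' B' f')) (AdicCompletion (((I.map (algebraMap A A')).map (algebraMap A' B')).map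 (algebraMap B' (Localization.Away (algebraMap A' B' f')))) (Localization.Away (algebraMap A' B' f')))).comp (Localization.awayMap (algebraMap A' B') f') → ∀ qf' : PrimeSpectrum (AdicCompletion (((I.map (algebraMap A A')).map (algebraMap A' B')).map (algebraMap B' (Localization.Away (algebraMap A' B' f')))) (Localization.Away (algebraMap A' B' f'))), (¬ ((((I.map (algebraMap A A')).map (algebraMap A' B')).map (algebraMap B' (Localization.Away (algebraMap A' B' f')))).map (algebraMap (Localization.Away (algebraMap A' B' f')) (AdicCompletion (((I.map (algebraMap A A')).map (algebraMap A' B')).map (algebraMap B' (Localization.Away (algebraMap A' B' f')))) (Localization.Away (algebraMap A' B' f'))))) ≤ qf'.asIdeal ∧ ∀ y : PrimeSpectrum (AdicCompletion (((I.map (algebraMap A A')).map (algebraMap A' B')).map (algebraMap B' (Localization.Away (algebraMap A' B' f')))) (Localization.Away (algebraMap A' B' f'))), qf' ≤ y → ¬ ((((I.map (algebraMap A A')).map (algebraMap A' B')).map (algebraMap B' (Localization.Away (algebraMap A' B' f')))).map (algebraMap (Localization.Away (algebraMap A' B' f')) (AdicCompletion (((I.map (algebraMap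 A A')).map (algebraMap A' B')).map (algebraMap B' (Localization.Away (algebraMap A' B' f')))) (Localization.Away (algebraMap A' B' f'))))) ≤ y.asIdeal → y = qf') → ((algebraMap (AdicCompletion (((I.map (algebraMap A A')).map (algebraMap A' B')).map (algebraMap B' (Localization.Away (algebraMap A' B' f')))) (Localization.Away (algebraMap A' B' f'))) (Localization.AtPrime qf'.asIdeal)).comp ψf').Flat) := by
  intro f' ψf' hψf' qf' hqf'
  -- notation
  haveI hNY : IsNoetherianRing (CLoc A' (I.map (algebraMap A A')) f') := isNoetherianRing_cloc A' _ _
  haveI hNX : IsNoetherianRing (CLoc B' ((I.map (algebraMap A A')).map (algebraMap A' B'))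
      (algebraMap A' B' f')) := isNoetherianRing_cloc B' _ _
  have hJ' : (I.map (algebraMap A A')).map (algebraMap A' B') = I.map (algebraMap A B') := by
    rw [Ideal.map_map, ← IsScalarTower.algebraMap_eq]
  haveI hCB' : IsAdicComplete ((I.map (algebraMap A A')).map (algebraMap A' B')) B' := by
    rw [hJ']; infer_instance
  -- the structure maps of `Y`, `X` over `A`
  have hAY : algebraMap A (CLoc A' (I.map (algebraMap A A')) f') =
      (algebraMap A' (CLoc A' (I.map (algebraMap A A')) f')).comp (algebraMap A A') :=
    IsScalarTower.algebraMap_eq A A' _
  have hAX : algebraMap A (CLoc B' ((I.map (algebraMap A A')).map (algebraMap A' B'))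
      (algebraMap A' B' f')) =
      (algebraMap B' (CLoc B' ((I.map (algebraMap A A')).map (algebraMap A' B'))
        (algebraMap A' B' f'))).comp (algebraMap A B') :=
    IsScalarTower.algebraMap_eq A B' _
  have hIY : I.map (algebraMap A (CLoc A' (I.map (algebraMap A A')) f')) =
      (I.map (algebraMap A A')).map (algebraMap A' (CLoc A' (I.map (algebraMap A A')) f')) := by
    rw [hAY]
    exact (Ideal.map_map (algebraMap A A') _).symm
  have hIX : I.map (algebraMap A (CLoc B' ((I.map (algebraMap A A')).map (algebraMap A' B'))
      (algebraMap A' B' f'))) =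
      ((I.map (algebraMap A A')).map (algebraMap A' B')).map
        (algebraMap B' (CLoc B' ((I.map (algebraMap A A')).map (algebraMap A' B'))
          (algebraMap A' B' f'))) := by
    rw [hAX, hJ']
    exact (Ideal.map_map (algebraMap A B') _).symm
  haveI hCY : IsAdicComplete (I.map (algebraMap A (CLoc A' (I.map (algebraMap A A')) f')))
      (CLoc A' (I.map (algebraMap A A')) f') := by
    rw [hIY]; exact isAdicComplete_cloc A' _ _
  haveI hCX : IsAdicComplete (I.map (algebraMap A (CLoc B' ((I.map (algebraMap A A')).map
      (algebraMap A' B')) (algebraMap A' B' f'))))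
      (CLoc B' ((I.map (algebraMap A A')).map (algebraMap A' B')) (algebraMap A' B' f')) := by
    rw [hIX]; exact isAdicComplete_cloc B' _ _
  -- flatness
  haveI : Module.Flat A' (CLoc A' (I.map (algebraMap A A')) f') := flat_cloc A' _ _
  haveI : Module.Flat B' (CLoc B' ((I.map (algebraMap A A')).map (algebraMap A' B'))
      (algebraMap A' B' f')) := flat_cloc B' _ _
  haveI hflY : Module.Flat A (CLoc A' (I.map (algebraMap A A')) f') :=
    Module.Flat.trans A A' _
  haveI hflX : Module.Flat B (CLoc B' ((I.map (algebraMap A A')).map (algebraMap A' B'))
      (algebraMap A' B' f')) := Module.Flat.trans B B' _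
  -- finite type and unramifiedness of `Y` modulo `I`
  have hftY : ((Ideal.Quotient.mk (I.map (algebraMap A (CLoc A' (I.map (algebraMap A A')) f')))).comp
      (algebraMap A (CLoc A' (I.map (algebraMap A A')) f'))).FiniteType := by
    have h0 : ((Ideal.Quotient.mk (I.map (algebraMap A A'))).comp (algebraMap A A')).FiniteType :=
      RingHom.finiteType_algebraMap.mpr hftA'
    have h1 := finiteType_cloc_quot A' (I.map (algebraMap A A')) f' (algebraMap A A') h0
    rw [← hAY, ← hIY] at h1
    exact h1
  have hunY : ((Ideal.Quotient.mk (I.map (algebraMap A (CLoc A' (I.map (algebraMap A A')) f')))).comp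
      (algebraMap A (CLoc A' (I.map (algebraMap A A')) f'))).FormallyUnramified := by
    have h00 : (algebraMap (A ⧸ I) (A' ⧸ I.map (algebraMap A A'))).FormallyUnramified :=
      RingHom.formallyUnramified_algebraMap.mpr inferInstance
    have h0 : ((Ideal.Quotient.mk (I.map (algebraMap A A'))).comp
        (algebraMap A A')).FormallyUnramified := by
      have h01 := RingHom.FormallyUnramified.comp
        (RingHom.FormallyUnramified.of_surjective (Ideal.Quotient.mk_surjective (I := I))) h00
      have h02 : (algebraMap (A ⧸ I) (A' ⧸ I.map (algebraMap A A'))).comp (Ideal.Quotient.mk I) =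
          (Ideal.Quotient.mk (I.map (algebraMap A A'))).comp (algebraMap A A') := by
        ext x; rfl
      rw [h02] at h01
      exact h01
    have h1 := formallyUnramified_cloc_quot A' (I.map (algebraMap A A')) f' (algebraMap A A') h0
    rw [← hAY, ← hIY] at h1
    exact h1
  -- finite type of `X` modulo `I`
  have hftX : Algebra.FiniteType A (CLoc B' ((I.map (algebraMap A A')).map (algebraMap A' B'))
      (algebraMap A' B' f') ⧸ I.map (algebraMap A (CLoc B' ((I.map (algebraMap A A')).map
        (algebraMap A' B')) (algebraMap A' B' f')))) := by
    have hb1 : (algebraMap A (B ⧸ I.map (algebraMap A B))).FiniteType :=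
      RingHom.finiteType_algebraMap.mpr hftB
    have hb2 : ((Ideal.Quotient.mk (I.map (algebraMap A B'))).comp (algebraMap B B')).FiniteType :=
      RingHom.finiteType_algebraMap.mpr hftB'B
    have hle : I.map (algebraMap A B) ≤ (I.map (algebraMap A B')).comap (algebraMap B B') := by
      rw [← Ideal.map_le_iff_le_comap, Ideal.map_map, ← IsScalarTower.algebraMap_eq]
    have hb3 : (Ideal.quotientMap (I.map (algebraMap A B')) (algebraMap B B') hle).comp
        (Ideal.Quotient.mk (I.map (algebraMap A B))) =
        (Ideal.Quotient.mk (I.map (algebraMap A B'))).comp (algebraMap B B') := by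
      ext x; rfl
    rw [← hb3] at hb2
    have hb4 := RingHom.FiniteType.of_comp_finiteType hb2
    have hb5 := RingHom.FiniteType.comp hb4 hb1
    have hb6 : (Ideal.quotientMap (I.map (algebraMap A B')) (algebraMap B B') hle).comp
        (algebraMap A (B ⧸ I.map (algebraMap A B))) =
        (Ideal.Quotient.mk (I.map (algebraMap A B'))).comp (algebraMap A B') := by
      ext x
      simp only [RingHom.comp_apply]
      rw [IsScalarTower.algebraMap_apply A B (B ⧸ I.map (algebraMap A B)),
        Ideal.Quotient.algebraMap_eq, Ideal.quotientMap_mk, ← IsScalarTower.algebraMap_apply]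
    rw [hb6, ← hJ'] at hb5
    have hb7 := finiteType_cloc_quot B' ((I.map (algebraMap A A')).map (algebraMap A' B'))
      (algebraMap A' B' f') (algebraMap A B') hb5
    rw [← hAX, ← hIX] at hb7
    exact RingHom.finiteType_algebraMap.mp hb7
  -- the map `ψf'` is an `A`-map
  have hψ' : ψf'.comp (algebraMap A (CLoc A' (I.map (algebraMap A A')) f')) =
      algebraMap A (CLoc B' ((I.map (algebraMap A A')).map (algebraMap A' B'))
        (algebraMap A' B' f')) := by
    have h1 := comp_algebraMap_cloc A' (I.map (algebraMap A A')) B' f' ψf' hψf'
    rw [hAY, ← RingHom.comp_assoc, h1, RingHom.comp_assoc, ← IsScalarTower.algebraMap_eq, hAX]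
  -- rig-closedness
  have hq : Groth.Agent.Lib.Helper44.RigClosed (I.map (algebraMap A (CLoc B'
      ((I.map (algebraMap A A')).map (algebraMap A' B')) (algebraMap A' B' f')))) qf' := by
    rw [hIX, map_cloc]
    exact hqf'
  exact flat_atPrime_of_etale_reduction A I B (CLoc A' (I.map (algebraMap A A')) f')
    (CLoc B' ((I.map (algebraMap A A')).map (algebraMap A' B')) (algebraMap A' B' f'))
    hftY hunY hftX ψf' hψ' (fun f => hAB f) qf' hq

end Groth.Agent.S8845
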