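-- Statement S8850
import Groth.Statements.S8850
import Mathlib

set_option autoImplicit false
open CategoryTheory CategoryTheory.Limits AlgebraicGeometry
universe u

namespace Groth.Agent.S8850

/-- Let S be a scheme, X a Noetherian S-scheme, Y a proper S-scheme, U ⊆ X an open subscheme and f : U ⟶
Y a morphism compatible with the structure morphisms to S. Then there are a proper morphism p : X' ⟶
X restricting to an isomorphism over U and an S-morphism f' : X' ⟶ Y whose restriction to p⁻¹(U) is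
f composed with p. The published statement takes U dense, so that f is an S-rational map; this row
allows any open U, which its proof does not need. -/
theorem result {X Y S : Scheme.{u}} [IsNoetherian X] (a : X ⟶ S) (b : Y ⟶ S)
    [IsProper b] (U : X.Opens) (f : (U : Scheme.{u}) ⟶ Y) (hf : f ≫ b = U.ι ≫ a) :
    ∃ (X' : Scheme.{u}) (p : X' ⟶ X) (f' : X' ⟶ Y), IsProper p ∧ IsIso (p ∣_ U) ∧ f' ≫ b = p ≫ a ∧
      (p ⁻¹ᵁ U).ι ≫ f' = (p ∣_ U) ≫ f := by
  -- the graph
  let γ : (U : Scheme.{u}) ⟶ pullback a b := pullback.lift U.ι f hf.symm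
  have hγ₁ : γ ≫ pullback.fst a b = U.ι := pullback.lift_fst _ _ _
  have hγ₂ : γ ≫ pullback.snd a b = f := pullback.lift_snd _ _ _
  have : TopologicalSpace.NoetherianSpace (↥(U : Scheme.{u})) :=
    (inferInstance : TopologicalSpace.NoetherianSpace (↥(U : Set X)))
  have : QuasiCompact γ := inferInstance
  let j := γ.toImage
  let ι := γ.imageι
  have hjι : j ≫ ι = γ := γ.toImage_imageι
  let π₁ := pullback.fst a b
  let π₂ := pullback.snd a b
  have : IsProper π₁ := inferInstance
  let W : (pullback a b).Opens := π₁ ⁻¹ᵁ U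
  let V' : γ.image.Opens := ι ⁻¹ᵁ W
  let A := j ∣_ V'
  let B := ι ∣_ W
  let C := π₁ ∣_ U
  have hsep : IsSeparated C := inferInstance
  have hABC : A ≫ B ≫ C = (j ⁻¹ᵁ V').ι := by
    rw [← cancel_mono U.ι]
    simp only [Category.assoc]
    rw [morphismRestrict_ι, morphismRestrict_ι_assoc, morphismRestrict_ι_assoc,
      ← Category.assoc j ι, hjι, hγ₁]
  have htop : j ⁻¹ᵁ V' = ⊤ := by
    ext x
    simp only [Scheme.Hom.mem_preimage, TopologicalSpace.Opens.coe_top, Set.mem_univ, iff_true,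
      SetLike.mem_coe]
    change π₁ (ι (j x)) ∈ U
    have h1 : π₁ (ι (j x)) = ((j ≫ ι) ≫ π₁) x := rfl
    rw [h1, hjι, hγ₁]
    exact x.2
  have hiso : IsIso (A ≫ B ≫ C) := by
    rw [hABC, htop]; exact (Scheme.topIso _).isIso_hom
  have h1 : IsClosedImmersion (A ≫ B) := by
    have : IsClosedImmersion ((A ≫ B) ≫ C) := by rw [Category.assoc]; infer_instance
    exact IsClosedImmersion.of_comp (A ≫ B) C
  have h2 : IsClosedImmersion B := inferInstance
  have hqc : QuasiCompact (j ≫ ι) := by rw [hjι]; infer_instance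
  have hAB : A ≫ B = (j ≫ ι) ∣_ W := (morphismRestrict_comp j ι W).symm
  have hker : (A ≫ B).ker = B.ker := by
    ext V : 2
    have e1 : (A ≫ B).ker.ideal V = (j ≫ ι).ker.ideal ⟨W.ι ''ᵁ V, V.2.image_of_isOpenImmersion _⟩ := by
      rw [hAB]
      exact Scheme.ker_morphismRestrict_ideal (j ≫ ι) W V
    have e2 : B.ker.ideal V = ι.ker.ideal ⟨W.ι ''ᵁ V, V.2.image_of_isOpenImmersion _⟩ :=
      Scheme.ker_morphismRestrict_ideal ι W V
    rw [e1, e2, hjι]
    change _ = (Scheme.IdealSheafData.subschemeι γ.ker).ker.ideal _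
    rw [Scheme.IdealSheafData.ker_subschemeι]
  have hisoA : IsIso A := IsClosedImmersion.isIso_of_ker_eq (A ≫ B) B A rfl hker
  have e0 : (ι ≫ π₁) ∣_ U = B ≫ C := morphismRestrict_comp ι π₁ U
  -- now assemble
  refine ⟨γ.image, ι ≫ π₁, ι ≫ π₂, inferInstance, ?_, ?_, ?_⟩
  · rw [e0]
    exact IsIso.of_isIso_comp_left A _
  · rw [Category.assoc, Category.assoc, pullback.condition]
  · have key : V'.ι ≫ ι ≫ π₂ = (B ≫ C) ≫ f := by
      rw [← cancel_epi A, ← Category.assoc A, ← Category.assoc A, hABC]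
      have e3 : A ≫ V'.ι = (j ⁻¹ᵁ V').ι ≫ j := morphismRestrict_ι j V'
      rw [← Category.assoc, e3]
      simp only [Category.assoc]
      rw [← Category.assoc j, hjι, hγ₂]
    have key2 : (B ≫ C) ≫ f = ((ι ≫ π₁) ∣_ U) ≫ f := congrArg (· ≫ f) e0.symm
    exact key.trans key2

end Groth.Agent.S8850
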