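import Groth.Statements.S8851
import Groth.Agent.H8.EffCartier4

set_option autoImplicit false
universe u
open CategoryTheory CategoryTheory.Limits AlgebraicGeometry TopologicalSpace
open SDiv

namespace Groth.Agent.S8851

/-- Let X be a reduced scheme, 𝓘 a quasi-coherent ideal sheaf on X and b : X' ⟶ X a blowing up of X in
𝓘. Then X' is reduced. -/
theorem result {X X' : Scheme.{u}} [IsReduced X] (𝓘 : X.IdealSheafData) (b : X' ⟶ X)
    (hb : BlowUp.IsBlowUp b 𝓘) : IsReduced X' := by
  have : ∀ x' : X', _root_.IsReduced (X'.presheaf.stalk x') := by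
    intro x'
    obtain ⟨U, hxU, -, t, ht, hU⟩ :=
      Groth.Agent.H8.EffCartier.exists_generator_le (𝓘.comap b) hb.1 x' ⊤ trivial
    have hred := Groth.Agent.H8.EffCartier.isReduced_sections_of_isBlowUp 𝓘 b hb U t ht hU
    letI : Algebra Γ(X', U.1) (X'.presheaf.stalk x') :=
      TopCat.Presheaf.algebra_section_stalk X'.presheaf ⟨x', hxU⟩
    have hloc : IsLocalization.AtPrime (X'.presheaf.stalk x')
        (U.2.primeIdealOf ⟨x', hxU⟩).asIdeal := U.2.isLocalization_stalk ⟨x', hxU⟩
    exact isReduced_localizationPreserves (U.2.primeIdealOf ⟨x', hxU⟩).asIdeal.primeCompl _ hred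
  exact isReduced_of_isReduced_stalk X' 

end Groth.Agent.S8851
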