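import Groth.Statements.S8852
import Groth.Agent.Lib.Helper44.CartierProduct

set_option autoImplicit false
universe u
open CategoryTheory CategoryTheory.Limits AlgebraicGeometry TopologicalSpace
open SDiv

namespace Groth.Agent.S8852

theorem aux {X : Scheme.{u}} (𝓘 𝓙 : X.IdealSheafData)
    (h : BlowUp.IsEffCartierIdeal (𝓘 * 𝓙)) : BlowUp.IsEffCartierIdeal 𝓘 := by
  intro pt
  obtain ⟨U, hptU, f, hf, hIJ⟩ := h pt
  rw [Scheme.IdealSheafData.ideal_mul, Pi.mul_apply] at hIJ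
  have hspan := Groth.Agent.Lib.Helper44.span_coeff_eq_top (𝓘.ideal U) (𝓙.ideal U) f hf hIJ
  have hcover := (U.2.self_le_iSup_basicOpen_iff).mpr hspan
  obtain ⟨⟨a, x, hx, y, hy, hxy⟩, hpta⟩ := Opens.mem_iSup.mp (hcover hptU)
  refine ⟨X.affineBasicOpen a, hpta, ?_⟩
  have := U.2.isLocalization_basicOpen a
  obtain ⟨h1, h2⟩ := Groth.Agent.Lib.Helper44.map_eq_span_of_mul_eq (B := Γ(X, X.basicOpen a))
    (𝓘.ideal U) (𝓙.ideal U) f hf hIJ a x y hx hy hxy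
  refine ⟨algebraMap Γ(X, U.1) Γ(X, X.basicOpen a) x, h1, ?_⟩
  rw [← 𝓘.map_ideal_basicOpen U a]
  exact h2

/-- Let 𝓘, 𝓙 be quasi-coherent ideal sheaves on a scheme X (closed subschemes Z, Y). If the product 𝓘𝓙
is the ideal sheaf of an effective Cartier divisor D, then 𝓘 and 𝓙 are ideal sheaves of effective
Cartier divisors (and D is their sum, D having ideal 𝓘𝓙 by assumption). -/
theorem result {X : Scheme.{u}} (𝓘 𝓙 : X.IdealSheafData)
    (h : BlowUp.IsEffCartierIdeal (𝓘 * 𝓙)) : BlowUp.IsEffCartierIdeal 𝓘 ∧ BlowUp.IsEffCartierIdeal 𝓙 := by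
  refine ⟨aux 𝓘 𝓙 h, aux 𝓙 𝓘 ?_⟩
  rwa [mul_comm]

end Groth.Agent.S8852
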