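import Groth.Statements.S8853
-- import your own Groth.Agent.* helpers here

set_option autoImplicit false
universe u
open CategoryTheory CategoryTheory.Limits AlgebraicGeometry TopologicalSpace
open SDiv

namespace Groth.Agent.S8853

/-- Let Z be a locally principal closed subscheme of a scheme S, with ideal sheaf 𝓘 generated by a
single section on some affine open neighbourhood of each point of its support, and let U be the open
complement of Z. Then the inclusion U ⟶ S is an affine morphism. -/
theorem result {S : Scheme.{u}} (𝓘 : S.IdealSheafData) (h : Curv2.IsLocPrincipal 𝓘) :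
    IsAffineHom (Scheme.Opens.ι 𝓘.support.compl) := by
  apply isAffineHom_of_forall_exists_isAffineOpen
  intro x
  by_cases hx : x ∈ 𝓘.support
  · obtain ⟨U, hxU, f, hf⟩ := h x hx
    refine ⟨U.1, hxU, U.2, ?_⟩
    rw [← (Scheme.Opens.ι 𝓘.support.compl).isAffineOpen_iff_of_isOpenImmersion,
      Scheme.Hom.image_preimage_eq_opensRange_inf, Scheme.Opens.opensRange_ι]
    have hEq : 𝓘.support.compl ⊓ U.1 = S.basicOpen f := by
      apply Opens.ext
      ext y
      simp only [Opens.coe_inf, Set.mem_inter_iff, SetLike.mem_coe]
      constructor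
      · rintro ⟨hy1, hy2⟩
        have hy1' : y ∉ 𝓘.support := hy1
        rw [Scheme.IdealSheafData.mem_support_iff_of_mem (U := U) hy2, hf, Scheme.zeroLocus_span,
          Scheme.zeroLocus_singleton] at hy1'
        simpa using hy1'
      · intro hy
        have hy2 : y ∈ U.1 := S.basicOpen_le f hy
        refine ⟨?_, hy2⟩
        change y ∉ 𝓘.support
        rw [Scheme.IdealSheafData.mem_support_iff_of_mem (U := U) hy2, hf, Scheme.zeroLocus_span,
          Scheme.zeroLocus_singleton]
        simpa using hy
    rw [hEq]
    exact U.2.basicOpen f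
  · have hx' : x ∈ 𝓘.support.compl := hx
    obtain ⟨_, ⟨V, hV, rfl⟩, hxV, hVU⟩ :=
      S.isBasis_affineOpens.exists_subset_of_mem_open hx' 𝓘.support.compl.isOpen
    refine ⟨V, hxV, hV, ?_⟩
    rw [← (Scheme.Opens.ι 𝓘.support.compl).isAffineOpen_iff_of_isOpenImmersion,
      Scheme.Hom.image_preimage_eq_opensRange_inf, Scheme.Opens.opensRange_ι]
    have : 𝓘.support.compl ⊓ V = V := inf_eq_right.mpr hVU
    rw [this]
    exact hV

end Groth.Agent.S8853
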