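import Groth.Statements.S8854
import Mathlib.RingTheory.Ideal.UFD
import Mathlib.RingTheory.Ideal.Colon
-- import your own Groth.Agent.* helpers here

set_option autoImplicit false
universe u
open SDiv

namespace Groth.Agent.S8854


theorem principal_of_assoc_height_one (R : Type u) [CommRing R] [IsDomain R] [IsNoetherianRing R]
    [UniqueFactorizationMonoid R] :
    ∀ a : R, a ≠ 0 → ∀ I : Ideal R, a ∈ I →
      (∀ p : Ideal R, p ∈ associatedPrimes R (R ⧸ I) → p.height = 1) →
      ∃ f : R, I = Ideal.span {f} := by
  intro a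
  refine (wellFounded_dvdNotUnit (α := R)).induction
    (C := fun a => a ≠ 0 → ∀ I : Ideal R, a ∈ I →
      (∀ p : Ideal R, p ∈ associatedPrimes R (R ⧸ I) → p.height = 1) →
      ∃ f : R, I = Ideal.span {f}) a ?_
  intro a ih ha I haI hI
  by_cases hItop : I = ⊤
  · exact ⟨1, by rw [hItop, Ideal.span_singleton_one]⟩
  have : Nontrivial (R ⧸ I) := Ideal.Quotient.nontrivial_iff.mpr hItop
  obtain ⟨p, hp⟩ := associatedPrimes.nonempty R (R ⧸ I)
  have hpp : p.IsPrime := hp.isPrime
  have hph : p.height = 1 := hI p hp
  obtain ⟨π, hπ⟩ := (UniqueFactorizationMonoid.isPrincipal_of_height_eq_one hph).principal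
  have hIp : I ≤ p := by
    have := hp.annihilator_le
    rwa [Submodule.annihilator_top, Ideal.annihilator_quotient] at this
  have hπ0 : π ≠ 0 := by
    rintro rfl
    apply Ideal.ne_bot_of_height_eq_one hph
    rw [hπ]
    simp
  have hπprime : Prime π := by
    have : (Ideal.span {π}).IsPrime := by
      have h2 : Submodule.span R {π} = Ideal.span {π} := rfl
      rw [← h2, ← hπ]; exact hpp
    exact (Ideal.span_singleton_prime hπ0).mp this
  have hmem : ∀ c ∈ I, π ∣ c := by
    intro c hc
    have := hIp hc
    rw [hπ] at this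
    exact Ideal.mem_span_singleton.mp this
  -- the quotient ideal
  set J : Ideal R := Submodule.colon I {π} with hJ
  have hJmem : ∀ b, b ∈ J ↔ π * b ∈ I := by
    intro b
    rw [hJ, Submodule.mem_colon_singleton, smul_eq_mul, mul_comm]
  have hIJ : I = Ideal.span {π} * J := by
    apply le_antisymm
    · intro c hc
      obtain ⟨b, rfl⟩ := hmem c hc
      exact Ideal.mul_mem_mul (Ideal.mem_span_singleton_self π) ((hJmem b).mpr hc)
    · rw [Ideal.span_singleton_mul_le_iff]
      intro b hb
      exact (hJmem b).mp hb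
  obtain ⟨a', rfl⟩ := hmem a haI
  have ha'0 : a' ≠ 0 := by
    rintro rfl
    exact ha (mul_zero π)
  have ha'J : a' ∈ J := (hJmem a').mpr haI
  have hdvd : DvdNotUnit a' (π * a') := ⟨ha'0, π, hπprime.not_isUnit, mul_comm π a'⟩
  -- associated primes of R/J are among those of R/I
  have hle : J ≤ Submodule.comap (LinearMap.mulLeft R π) I := by
    intro b hb
    rw [Submodule.mem_comap, LinearMap.mulLeft_apply]
    exact (hJmem b).mp hb
  have hinj : Function.Injective (Submodule.mapQ J I (LinearMap.mulLeft R π) hle) := by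
    rw [injective_iff_map_eq_zero]
    intro x hx
    obtain ⟨b, rfl⟩ := Submodule.Quotient.mk_surjective J x
    rw [Submodule.mapQ_apply, Submodule.Quotient.mk_eq_zero, LinearMap.mulLeft_apply] at hx
    rw [Submodule.Quotient.mk_eq_zero]
    exact (hJmem b).mpr hx
  have hJass : ∀ q : Ideal R, q ∈ associatedPrimes R (R ⧸ J) → q.height = 1 := fun q hq =>
    hI q (associatedPrimes.subset_of_injective hinj hq)
  obtain ⟨g, hg⟩ := ih a' hdvd ha'0 J ha'J hJass
  exact ⟨π * g, by rw [hIJ, hg, Ideal.span_singleton_mul_span_singleton]⟩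

/-- Let R be a Noetherian unique factorisation domain and I ⊆ R an ideal such that every associated
prime of R/I is minimal over I (R/I has no embedded primes) and every prime minimal over I has
height 1. Then I is principal: it is generated by one element. -/
theorem result (R : Type u) [CommRing R] [IsDomain R] [IsNoetherianRing R]
    [UniqueFactorizationMonoid R] (I : Ideal R)
    (h1 : ∀ p : Ideal R, p ∈ associatedPrimes R (R ⧸ I) → p ∈ I.minimalPrimes)
    (h2 : ∀ p : Ideal R, p ∈ I.minimalPrimes → p.height = 1) :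
    ∃ f : R, I = Ideal.span {f} := by
  by_cases hI0 : I = ⊥
  · exact ⟨0, by rw [hI0]; simp⟩
  obtain ⟨a, haI, ha⟩ := Submodule.exists_mem_ne_zero_of_ne_bot hI0
  exact principal_of_assoc_height_one R a ha I haI fun p hp => h2 p (h1 p hp)

end Groth.Agent.S8854
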