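import Groth.Statements.S8856
import Groth.Agent.Lib.Helper10.KoszulSmoothReg
import Groth.Agent.Lib.Helper10.RegImmBaseChange

set_option autoImplicit false
universe u
open CategoryTheory CategoryTheory.Limits AlgebraicGeometry TopologicalSpace
open SDiv

namespace Groth.Agent.S8856


open Groth.Agent.Lib.Helper10.KoszulSmoothReg Groth.Agent.Lib.Helper10.RegImmBaseChange
open RingTheory.Sequence

/-- local data at a point of `X`. -/
lemma exists_data {Z X : Scheme.{u}} (i : Z ⟶ X) [IsClosedImmersion i]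
    (hi : RegImm.IsRegularImmersion RegImm.Kind.koszul i) (x : X) :
    ∃ (U : X.affineOpens) (σ : Type) (_ : Finite σ), x ∈ U.1 ∧
      ∃ gs : List (MvPolynomial σ Γ(X, U.1)),
        IsWeaklyRegular (MvPolynomial σ Γ(X, U.1)) gs ∧
        Ideal.ofList gs = (RingHom.ker (i.app U.1).hom).map
          (algebraMap Γ(X, U.1) (MvPolynomial σ Γ(X, U.1))) := by
  by_cases hx : x ∈ Set.range i
  · obtain ⟨z, rfl⟩ := hx
    obtain ⟨U, hU, -, rs, hrs, hker⟩ := hi.2 z
    obtain ⟨σ, hσ, g, -, hreg, hI⟩ := exists_poly_regular rs.length Γ(X, U.1) rs rfl hrs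
    refine ⟨U, σ, hσ, hU, g, hreg, ?_⟩
    rw [hI, hker, MvPolynomial.algebraMap_eq]
  · have hopen : IsOpen (Set.range i)ᶜ := i.isClosedEmbedding.isClosed_range.isOpen_compl
    obtain ⟨_, ⟨U, hU, rfl⟩, hxU, hle⟩ := X.isBasis_affineOpens.exists_subset_of_mem_open
      (show x ∈ (Set.range i)ᶜ from hx) hopen
    have hbot : i ⁻¹ᵁ U = ⊥ := by
      ext z
      simp only [TopologicalSpace.Opens.coe_bot, Set.mem_empty_iff_false, iff_false]
      intro hz
      exact hle hz ⟨z, rfl⟩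
    have hsub : Subsingleton Γ(Z, i ⁻¹ᵁ U) := by rw [hbot]; infer_instance
    have hker : RingHom.ker (i.app U).hom = ⊤ := by
      rw [Ideal.eq_top_iff_one, RingHom.mem_ker]
      exact Subsingleton.elim _ _
    refine ⟨⟨U, hU⟩, PEmpty, inferInstance, hxU, [1], ?_, ?_⟩
    · rw [isWeaklyRegular_cons_iff]
      refine ⟨IsSMulRegular.one _, ?_⟩
      exact IsWeaklyRegular.nil _ _
    · rw [hker, Ideal.map_top, Ideal.ofList_singleton, Ideal.span_singleton_one]


lemma appLE_SpecMap_fromSpec {X : Scheme.{u}} {U : X.Opens} (hU : IsAffineOpen U)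
    (P : CommRingCat.{u}) (c : Γ(X, U) ⟶ P) (e' : ⊤ ≤ (Spec.map c ≫ hU.fromSpec) ⁻¹ᵁ U) :
    (Spec.map c ≫ hU.fromSpec).appLE U ⊤ e' ≫ (Scheme.ΓSpecIso P).hom = c := by
  have h := IsAffineOpen.SpecMap_appLE_fromSpec (Spec.map c ≫ hU.fromSpec) hU
    (isAffineOpen_top (Spec P)) e'
  rw [← Category.assoc, cancel_mono, IsAffineOpen.fromSpec_top, Scheme.isoSpec_Spec_inv,
    ← Spec.map_comp] at h
  have h' := Spec.map_injective h
  rw [h', Category.assoc, Iso.inv_hom_id, Category.comp_id]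

lemma exists_ringEquiv_component {X X' : Scheme.{u}} (g : X' ⟶ X) {U : X.Opens}
    (hU : IsAffineOpen U)
    (P : CommRingCat.{u}) (c : Γ(X, U) ⟶ P) (ι₀ : Spec P ⟶ X') [IsOpenImmersion ι₀]
    (hfac : ι₀ ≫ g = Spec.map c ≫ hU.fromSpec) :
    ∃ (e : ι₀ ''ᵁ ⊤ ≤ g ⁻¹ᵁ U) (θ : Γ(X', ι₀ ''ᵁ ⊤) ≃+* P),
      (θ : Γ(X', ι₀ ''ᵁ ⊤) →+* P).comp (g.appLE U (ι₀ ''ᵁ ⊤) e).hom = c.hom := by
  have e : ι₀ ''ᵁ ⊤ ≤ g ⁻¹ᵁ U := by
    rintro _ ⟨y, -, rfl⟩
    show g (ι₀ y) ∈ U
    rw [← Scheme.Hom.comp_apply, hfac, Scheme.Hom.comp_apply]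
    have : hU.fromSpec ((Spec.map c) y) ∈ hU.fromSpec.opensRange := ⟨_, rfl⟩
    rwa [hU.opensRange_fromSpec] at this
  refine ⟨e, ((ι₀.appIso ⊤) ≪≫ Scheme.ΓSpecIso P).commRingCatIsoToRingEquiv, ?_⟩
  have key2 : ∀ (h : Spec P ⟶ X) (_ : h = Spec.map c ≫ hU.fromSpec) (e' : ⊤ ≤ h ⁻¹ᵁ U),
      h.appLE U ⊤ e' ≫ (Scheme.ΓSpecIso P).hom = c := by
    rintro h rfl e'
    exact appLE_SpecMap_fromSpec hU P c e'
  have key : g.appLE U (ι₀ ''ᵁ ⊤) e ≫ (ι₀.appIso ⊤).hom ≫ (Scheme.ΓSpecIso P).hom = c := by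
    rw [Scheme.Hom.appIso_hom', ← Category.assoc, Scheme.Hom.appLE_comp_appLE]
    exact key2 (ι₀ ≫ g) hfac _
  ext a
  have := congrArg (fun m => m.hom a) key
  exact this

/-- For a Koszul-regular closed immersion i : Z ⟶ X, some surjective smooth morphism g : X' ⟶ X makes
the base change Z ×_X X' ⟶ X' of i along g a regular immersion. -/
theorem result {Z X : Scheme.{u}} (i : Z ⟶ X) [IsClosedImmersion i]
    (hi : RegImm.IsRegularImmersion RegImm.Kind.koszul i) :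
    ∃ (X' : Scheme.{u}) (g : X' ⟶ X), Smooth g ∧ Surjective g ∧
      RegImm.IsRegularImmersion RegImm.Kind.regular (pullback.snd i g) := by
  choose U σ hσ hxU gs hgs hI using exists_data i hi
  let P : X → CommRingCat.{u} := fun x => CommRingCat.of (MvPolynomial (σ x) Γ(X, (U x).1))
  let c : ∀ x, Γ(X, (U x).1) ⟶ P x := fun x =>
    CommRingCat.ofHom (algebraMap Γ(X, (U x).1) (MvPolynomial (σ x) Γ(X, (U x).1)))
  let gx : ∀ x, Spec (P x) ⟶ X := fun x => Spec.map (c x) ≫ (U x).2.fromSpec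
  refine ⟨∐ fun x => Spec (P x), Sigma.desc gx, ?_, ?_, ?_⟩
  · apply IsZariskiLocalAtSource.sigmaDesc (P := @Smooth)
    intro x
    haveI : Smooth (Spec.map (c x)) := by
      rw [HasRingHomProperty.Spec_iff (P := @Smooth)]
      show (algebraMap Γ(X, (U x).1) (MvPolynomial (σ x) Γ(X, (U x).1))).Smooth
      rw [RingHom.smooth_algebraMap]
      haveI := hσ x
      exact ⟨inferInstance, inferInstance⟩
    show Smooth (Spec.map (c x) ≫ (U x).2.fromSpec)
    infer_instance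
  · apply Surjective.sigmaDesc_of_union_range_eq_univ
    rw [Set.eq_univ_iff_forall]
    intro x
    rw [Set.mem_iUnion]
    refine ⟨x, ?_⟩
    have hx : x ∈ (U x).2.fromSpec.opensRange := by
      rw [(U x).2.opensRange_fromSpec]; exact hxU x
    obtain ⟨p, hp⟩ := hx
    let s : P x ⟶ Γ(X, (U x).1) := CommRingCat.ofHom MvPolynomial.constantCoeff
    have hs : c x ≫ s = 𝟙 _ := by
      ext a
      show MvPolynomial.constantCoeff (algebraMap _ _ a) = a
      rw [MvPolynomial.algebraMap_eq, MvPolynomial.constantCoeff_C]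
    refine ⟨Spec.map s p, ?_⟩
    show (Spec.map (c x) ≫ (U x).2.fromSpec) (Spec.map s p) = x
    rw [Scheme.Hom.comp_apply, ← Scheme.Hom.comp_apply (Spec.map s), ← Spec.map_comp, hs,
      Spec.map_id]
    exact hp
  · have H : IsPullback (pullback.fst i (Sigma.desc gx)) (pullback.snd i (Sigma.desc gx)) i
        (Sigma.desc gx) := IsPullback.of_hasPullback i (Sigma.desc gx)
    refine ⟨inferInstance, fun z' => ?_⟩
    obtain ⟨x₀, y, hy⟩ := (sigmaOpenCover (fun x => Spec (P x))).exists_eq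
      ((pullback.snd i (Sigma.desc gx)) z')
    have hfac : Sigma.ι (fun x => Spec (P x)) x₀ ≫ Sigma.desc gx =
        Spec.map (c x₀) ≫ (U x₀).2.fromSpec := Sigma.ι_desc _ _
    obtain ⟨e, θ, hθ⟩ := exists_ringEquiv_component (Sigma.desc gx) (U x₀).2 (P x₀) (c x₀)
      (Sigma.ι (fun x => Spec (P x)) x₀) hfac
    have hU' : IsAffineOpen (Sigma.ι (fun x => Spec (P x)) x₀ ''ᵁ ⊤) :=
      (isAffineOpen_top _).image_of_isOpenImmersion _
    have hcl : IsClosedImmersion (i ∣_ (U x₀).1) := inferInstance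
    have hker := ker_app_eq_map H (U x₀).2 hU' e hcl
    have hz' : (pullback.snd i (Sigma.desc gx)) z' ∈ Sigma.ι (fun x => Spec (P x)) x₀ ''ᵁ ⊤ :=
      ⟨y, trivial, hy⟩
    have happ : (Scheme.Hom.appLE (Sigma.desc gx) (U x₀).1
        (Sigma.ι (fun x => Spec (P x)) x₀ ''ᵁ ⊤) e).hom =
        (θ.symm : P x₀ →+* _).comp (c x₀).hom := by
      rw [← hθ, ← RingHom.comp_assoc]
      ext a
      simp
    have hkerEq : RingHom.ker ((pullback.snd i (Sigma.desc gx)).app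
        (Sigma.ι (fun x => Spec (P x)) x₀ ''ᵁ ⊤)).hom =
        Ideal.ofList ((gs x₀).map θ.symm) := by
      rw [hker, happ, ← Ideal.map_map]
      show Ideal.map _ (Ideal.map (algebraMap _ _) _) = _
      rw [← hI x₀, Ideal.map_ofList]
      rfl
    refine ⟨⟨_, hU'⟩, hz', inferInstance, (gs x₀).map θ.symm, ⟨?_, ?_⟩, hkerEq⟩
    · exact isWeaklyRegular_map_ringEquiv θ.symm _ (hgs x₀)
    · rw [← hkerEq, smul_eq_mul, Ideal.mul_top]
      intro htop
      have h1 : (1 : Γ(∐ fun x => Spec (P x), Sigma.ι (fun x => Spec (P x)) x₀ ''ᵁ ⊤)) ∈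
          RingHom.ker ((pullback.snd i (Sigma.desc gx)).app
            (Sigma.ι (fun x => Spec (P x)) x₀ ''ᵁ ⊤)).hom := by
        rw [← htop]; trivial
      rw [RingHom.mem_ker, map_one] at h1
      have hsub := subsingleton_of_zero_eq_one h1.symm
      have hne : Nonempty ((pullback.snd i (Sigma.desc gx) ⁻¹ᵁ
          (Sigma.ι (fun x => Spec (P x)) x₀ ''ᵁ ⊤) : (pullback i (Sigma.desc gx)).Opens) :
            Scheme.{u}) := ⟨⟨z', hz'⟩⟩
      have : Nontrivial Γ(pullback i (Sigma.desc gx), pullback.snd i (Sigma.desc gx) ⁻¹ᵁ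
          (Sigma.ι (fun x => Spec (P x)) x₀ ''ᵁ ⊤)) :=
        Scheme.component_nontrivial _ _
      exact not_subsingleton _ hsub

end Groth.Agent.S8856
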