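import Groth.Statements.S8880
import Mathlib.AlgebraicGeometry.Morphisms.QuasiFinite
-- import your own Groth.Agent.* helpers here

set_option autoImplicit false
universe u
open CategoryTheory CategoryTheory.Limits AlgebraicGeometry TopologicalSpace
open SDiv

namespace Groth.Agent.S8880

/-- In a quasi-affine scheme, finitely many points of an open `U` lie in a basic open of a global
section which is contained in `U` (prime avoidance). -/
lemma exists_basicOpen_of_finite {X : Scheme.{u}} [X.IsQuasiAffine] (U : X.Opens) (S : Set X)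
    (hS : S.Finite) (hSU : S ⊆ U) :
    ∃ f : Γ(X, ⊤), S ⊆ X.basicOpen f ∧ X.basicOpen f ≤ U := by
  classical
  let W : (Spec Γ(X, ⊤)).Opens := X.toSpecΓ ''ᵁ U
  let I : Ideal Γ(X, ⊤) := PrimeSpectrum.vanishingIdeal ((W : Set (Spec Γ(X, ⊤)))ᶜ)
  have hI : PrimeSpectrum.zeroLocus (I : Set Γ(X, ⊤)) = (W : Set (Spec Γ(X, ⊤)))ᶜ := by
    rw [PrimeSpectrum.zeroLocus_vanishingIdeal_eq_closure]
    exact IsClosed.closure_eq W.2.isClosed_compl
  have hnot : ¬ ((I : Set Γ(X, ⊤)) ⊆ ⋃ x ∈ S, ((X.toSpecΓ x).asIdeal : Set Γ(X, ⊤))) := by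
    intro hsub
    by_cases hne : S.Nonempty
    · obtain ⟨x0, hx0⟩ := hne
      rw [Ideal.subset_union_prime_finite hS x0 x0
        (fun i _ _ _ => (X.toSpecΓ i).isPrime)] at hsub
      obtain ⟨x, hxS, hle⟩ := hsub
      have : X.toSpecΓ x ∈ PrimeSpectrum.zeroLocus (I : Set Γ(X, ⊤)) := hle
      rw [hI] at this
      exact this ⟨x, hSU hxS, rfl⟩
    · rw [Set.not_nonempty_iff_eq_empty] at hne
      subst hne
      simp only [Set.mem_empty_iff_false, Set.iUnion_of_empty, Set.iUnion_empty,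
        Set.subset_empty_iff] at hsub
      have : (0 : Γ(X, ⊤)) ∈ (I : Set Γ(X, ⊤)) := I.zero_mem
      rw [hsub] at this
      exact this
  rw [Set.not_subset] at hnot
  obtain ⟨f, hfI, hf⟩ := hnot
  simp only [Set.mem_iUnion, not_exists] at hf
  refine ⟨f, fun x hx => ?_, fun x hx => ?_⟩
  · rw [← Scheme.toSpecΓ_preimage_basicOpen]
    exact hf x hx
  · rw [← Scheme.toSpecΓ_preimage_basicOpen] at hx
    have h1 : X.toSpecΓ x ∉ PrimeSpectrum.zeroLocus (I : Set Γ(X, ⊤)) := by
      intro h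
      exact hx (h hfI)
    rw [hI] at h1
    have h2 : X.toSpecΓ x ∈ (W : Set (Spec Γ(X, ⊤))) := by
      by_contra h
      exact h1 h
    obtain ⟨x', hx'U, hx'⟩ := h2
    have := X.toSpecΓ.isOpenEmbedding.injective hx'
    rwa [← this]

/-- A finite morphism admitting a norm is surjective. -/
lemma surjective_of_norm {X Y : Scheme.{u}} (π : X ⟶ Y) [IsFinite π] (d : ℕ)
    (N : Nrm.NormOfDegree π d) : Function.Surjective π.base := by
  intro y
  by_contra hy
  have hcl : IsClosed (Set.range π.base) := π.isClosedMap.isClosed_range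
  let U : Y.Opens := ⟨(Set.range π.base)ᶜ, hcl.isOpen_compl⟩
  have hyU : y ∈ U := hy
  have hpre : π ⁻¹ᵁ U = ⊥ := by
    ext x
    simp only [Opens.map_coe, Set.mem_preimage, SetLike.mem_coe, Opens.coe_bot,
      Set.mem_empty_iff_false, iff_false]
    intro hx
    exact hx ⟨x, rfl⟩
  have hsub : Subsingleton Γ(X, π ⁻¹ᵁ U) := by rw [hpre]; infer_instance
  have h10 : (1 : Γ(Y, U)) = 0 := by
    have h1 : N.norm U 1 = 1 := map_one _
    have h0 : N.norm U 0 = 0 := by
      have := N.norm_app U 0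
      rw [map_zero, zero_pow (by have := N.one_le; omega)] at this
      exact this
    rw [← h1, ← h0, Subsingleton.elim (1 : Γ(X, π ⁻¹ᵁ U)) 0]
  have hU : U = ⊥ := by
    have := Y.basicOpen_of_isUnit (U := U) (f := 1) isUnit_one
    rw [h10, Scheme.basicOpen_zero] at this
    exact this.symm
  rw [hU] at hyU
  exact hyU

/-- Let π : X ⟶ Y be a finite morphism of schemes such that a norm of degree d exists for π, and assume
X is quasi-affine. Then Y is quasi-affine. -/
theorem result {X Y : Scheme.{u}} (π : X ⟶ Y) [IsFinite π] (d : ℕ) (hN : Nrm.HasNorm π d)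
    (hX : X.IsQuasiAffine) : Y.IsQuasiAffine := by
  obtain ⟨N⟩ := hN
  have hsurj := surjective_of_norm π d N
  have hcY : CompactSpace Y := by
    constructor
    rw [← Set.range_eq_univ.mpr hsurj]
    exact isCompact_range π.continuous
  refine .of_forall_exists_mem_basicOpen Y fun y => ?_
  obtain ⟨V, hV, hyV⟩ : ∃ V : Y.Opens, IsAffineOpen V ∧ y ∈ V := by
    obtain ⟨_, ⟨V, hV, rfl⟩, hyV, -⟩ := Y.isBasis_affineOpens.exists_subset_of_mem_open
      (Set.mem_univ y) isOpen_univ
    exact ⟨V, hV, hyV⟩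
  obtain ⟨f, hSf, hfV⟩ := exists_basicOpen_of_finite (π ⁻¹ᵁ V) (π.base ⁻¹' {y})
    (π.finite_preimage_singleton y) (fun x hx => by
      have hx' : π.base x = y := hx
      change π.base x ∈ V
      rw [hx']
      exact hyV)
  let g : Γ(Y, ⊤) := N.norm ⊤ f
  have hsub : ∀ x' : X, π.base x' ∈ Y.basicOpen g → x' ∈ X.basicOpen f := by
    intro x' hy'
    by_contra hxf
    rw [Scheme.mem_basicOpen_top] at hxf
    have h1 := N.norm_mem ⊤ f x' trivial hxf
    rw [Scheme.mem_basicOpen_top] at hy'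
    exact h1 hy'
  have hsup : y ∈ Y.basicOpen g := by
    have hcl : IsClosed (π.base '' ((X.basicOpen f : Set X)ᶜ)) :=
      π.isClosedMap _ (X.basicOpen f).2.isClosed_compl
    let U : Y.Opens := ⟨(π.base '' ((X.basicOpen f : Set X)ᶜ))ᶜ, hcl.isOpen_compl⟩
    have hyU : y ∈ U := by
      rintro ⟨x, hx, hxy⟩
      exact hx (hSf hxy)
    have hUf : π ⁻¹ᵁ U ≤ X.basicOpen f := by
      intro x hx
      by_contra hxf
      exact hx ⟨x, hxf, rfl⟩
    have hunit : IsUnit (X.presheaf.map (homOfLE (le_top : π ⁻¹ᵁ U ≤ ⊤)).op f) := by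
      have h1 := X.toRingedSpace.isUnit_res_basicOpen f
      have h2 := h1.map (X.presheaf.map (homOfLE hUf).op).hom
      have h3 : (X.presheaf.map (homOfLE hUf).op).hom
          ((X.presheaf.map (homOfLE (X.basicOpen_le f)).op).hom f) =
          (X.presheaf.map (homOfLE (le_top : π ⁻¹ᵁ U ≤ ⊤)).op).hom f := by
        rw [← CommRingCat.comp_apply, ← Functor.map_comp]
        rfl
      rw [← h3]
      exact h2
    have h3 := N.norm_res (homOfLE (le_top : U ≤ ⊤)) f
    have h4 : IsUnit (Y.presheaf.map (homOfLE (le_top : U ≤ ⊤)).op g) := by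
      rw [h3]
      exact hunit.map (N.norm U)
    have h5 := Y.basicOpen_of_isUnit h4
    rw [Scheme.basicOpen_res] at h5
    exact (inf_eq_left.mp h5) hyU
  refine ⟨g, ?_, hsup⟩
  have hgV : Y.basicOpen g ≤ V := by
    intro y' hy'
    obtain ⟨x', rfl⟩ := hsurj y'
    exact hfV (hsub x' hy')
  have h6 : Y.basicOpen g = Y.basicOpen (Y.presheaf.map (homOfLE (le_top : V ≤ ⊤)).op g) := by
    rw [Scheme.basicOpen_res]
    exact (inf_eq_right.mpr hgV).symm
  rw [h6]
  exact hV.basicOpen _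

end Groth.Agent.S8880
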