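import Groth.Statements.S8860
import Groth.Agent.Lib.Helper45.NormFree
import Groth.Agent.S8880
import Groth.Agent.S8881
import Mathlib.AlgebraicGeometry.Morphisms.SchemeTheoreticallyDominant

set_option autoImplicit false
universe u
open CategoryTheory CategoryTheory.Limits AlgebraicGeometry TopologicalSpace
open SDiv

namespace Groth.Agent.S8860

/-- case of a finite locally free morphism -/
lemma case_finLocFree {X Y : Scheme.{u}} (π : X ⟶ Y) [IsFinite π] [Surjective π] [Flat π]
    [LocallyOfFinitePresentation π] (hX : X.IsQuasiAffine) : Y.IsQuasiAffine := by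
  have hcY : CompactSpace Y := by
    constructor
    rw [← Set.range_eq_univ.mpr π.surjective]
    exact isCompact_range π.continuous
  have hlc : IsLocallyConstant π.finrank := π.isLocallyConstant_finrank
  have hfin : (Set.range π.finrank).Finite := hlc.range_finite
  let D : ℕ := ∏ n ∈ hfin.toFinset, n
  have h1 : ∀ y, 1 ≤ π.finrank y := fun y =>
    (Scheme.Hom.one_le_finrank_iff_surjective π).mpr inferInstance y
  have hdvd : ∀ y, π.finrank y ∣ D := fun y =>
    Finset.dvd_prod_of_mem _ (hfin.mem_toFinset.mpr ⟨y, rfl⟩)
  have hD : 1 ≤ D := by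
    refine Nat.one_le_iff_ne_zero.mpr (Finset.prod_ne_zero_iff.mpr ?_)
    intro n hn
    obtain ⟨y, rfl⟩ := hfin.mem_toFinset.mp hn
    have := h1 y
    omega
  exact Groth.Agent.S8880.result π D
    (Groth.Agent.Lib.Helper45.NormFree.hasNorm_of_dvd π D hD hdvd) hX

/-- the morphism to the scheme-theoretic image is scheme-theoretically dominant -/
lemma isSchemeTheoreticallyDominant_toImage {X Y : Scheme.{u}} (f : X ⟶ Y) [QuasiCompact f] :
    IsSchemeTheoreticallyDominant f.toImage := by
  constructor
  have hcov : ⨆ U : Y.affineOpens, (f.imageι ⁻¹ᵁ U.1) = ⊤ := by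
    rw [eq_top_iff]
    intro x _
    obtain ⟨_, ⟨U, hU, rfl⟩, hxU, -⟩ :=
      Y.isBasis_affineOpens.exists_subset_of_mem_open (Set.mem_univ (f.imageι x)) isOpen_univ
    exact Opens.mem_iSup.mpr ⟨⟨U, hU⟩, hxU⟩
  refine Scheme.IdealSheafData.ext_of_iSup_eq_top
    (fun U : Y.affineOpens => ⟨f.imageι ⁻¹ᵁ U.1, U.2.preimage f.imageι⟩) hcov (fun U => ?_)
  rw [Scheme.Hom.ker_apply]
  have := f.toImage_app_injective U
  rw [(RingHom.injective_iff_ker_eq_bot _).mp this]
  rfl

/-- the scheme-theoretic image of a quasi-compact morphism from an integral scheme is integral -/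
lemma isIntegral_image {X Y : Scheme.{u}} (f : X ⟶ Y) [QuasiCompact f] [IsIntegral X] :
    IsIntegral f.image := by
  have := isSchemeTheoreticallyDominant_toImage f
  have hred : IsReduced f.image := IsSchemeTheoreticallyDominant.isReduced f.toImage
  have hirr : IrreducibleSpace f.image := by
    have h1 : IsIrreducible (Set.univ : Set X) := IrreducibleSpace.isIrreducible_univ X
    have h2 := (h1.image f.toImage.base f.toImage.continuous.continuousOn).closure
    rw [Set.image_univ, f.toImage.denseRange.closure_range] at h2
    obtain ⟨x, -⟩ := h2.1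
    exact { isPreirreducible_univ := h2.2, toNonempty := ⟨x⟩ }
  exact isIntegral_of_irreducibleSpace_of_isReduced _

/-- Let π : X ⟶ Y be a finite surjective morphism of schemes with X quasi-affine. If either π is finite
locally free (finite, flat and locally of finite presentation), or Y is integral with all local
rings integrally closed domains (normal), then Y is quasi-affine. -/
theorem result {X Y : Scheme.{u}} (π : X ⟶ Y) [IsFinite π] [Surjective π]
    (hX : X.IsQuasiAffine) (h : Mor2.IsFinLocFree π ∨ (IsIntegral Y ∧ Pi1.IsNormalScheme Y)) :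
    Y.IsQuasiAffine := by
  rcases h with ⟨-, h2, h3⟩ | ⟨hYi, hYn⟩
  · exact case_finLocFree π hX
  · obtain ⟨x₀, hx₀⟩ := π.surjective (genericPoint Y)
    let j := X.fromSpecResidueField x₀
    haveI : QuasiCompact j := inferInstance
    haveI : IsIntegral j.image := isIntegral_image j
    haveI : IsFinite (j.imageι ≫ π) := inferInstance
    haveI : Surjective (j.imageι ≫ π) := by
      constructor
      have hcl : IsClosed (Set.range (j.imageι ≫ π).base) :=
        (j.imageι ≫ π).isClosedMap.isClosed_range
      have hmem : genericPoint Y ∈ Set.range (j.imageι ≫ π).base := by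
        have hne : Nonempty (Spec (X.residueField x₀)) := inferInstance
        obtain ⟨pt⟩ := hne
        refine ⟨j.toImage.base pt, ?_⟩
        have h1 : (j.toImage ≫ j.imageι).base pt = x₀ := by
          rw [j.toImage_imageι]
          exact X.fromSpecResidueField_apply x₀ pt
        change π.base ((j.toImage ≫ j.imageι).base pt) = genericPoint Y
        rw [h1, hx₀]
      intro y
      have := (genericPoint_spec Y).specializes (Set.mem_univ y)
      exact this.mem_closed hcl hmem
    haveI : CompactSpace j.image := QuasiCompact.compactSpace_of_compactSpace j.imageι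
    have hX' : j.image.IsQuasiAffine := Scheme.IsQuasiAffine.of_isImmersion j.imageι
    obtain ⟨d, hd⟩ := Groth.Agent.S8881.result (j.imageι ≫ π) hYn
    exact Groth.Agent.S8880.result (j.imageι ≫ π) d hd hX'

end Groth.Agent.S8860
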