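import Groth.Statements.S8861
import Groth.Agent.Lib.Helper45.RegularSections
import Groth.Agent.Lib.Helper18.IdealComap

set_option autoImplicit false
universe u
open CategoryTheory CategoryTheory.Limits AlgebraicGeometry TopologicalSpace
open SDiv

namespace Groth.Agent.S8861

open Groth.Agent.Lib.Helper45

/-- Let f : X ⟶ Y be a morphism of schemes and 𝓘 the ideal sheaf of an effective Cartier divisor D ⊆ Y.
If f x ∉ D for every weakly associated point x of X (weakly associated point of the structure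
sheaf), then the inverse image ideal sheaf of 𝓘 on X is the ideal of an effective Cartier divisor,
i.e. the pullback of D by f is defined. -/
theorem result {X Y : Scheme.{u}} (f : X ⟶ Y) (𝓘 : Y.IdealSheafData)
    (hD : BlowUp.IsEffCartierIdeal 𝓘)
    (h : ∀ x : ↥X, Curv2.IsWeakAssPoint (Coh.structureModule X) x → f x ∉ 𝓘.support) :
    BlowUp.IsEffCartierIdeal (𝓘.comap f) := by
  intro x
  obtain ⟨V, hyV, g, hg, hIg⟩ := hD (f x)
  obtain ⟨_, ⟨U, hU : IsAffineOpen U, rfl⟩, hxU, hUV⟩ :=
    X.isBasis_affineOpens.exists_subset_of_mem_open (show x ∈ f ⁻¹ᵁ V.1 from hyV) (f ⁻¹ᵁ V.1).2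
  have hUV' : U ≤ f ⁻¹ᵁ V.1 := hUV
  refine ⟨⟨U, hU⟩, hxU, f.appLE V.1 U hUV' g, ?_, ?_⟩
  · apply mem_nonZeroDivisors_of_isUnit_germ hU
    intro x' hw
    have hx'V : f (x' : X) ∈ V.1 := hUV' x'.2
    have hns := h x' hw
    rw [Scheme.IdealSheafData.mem_support_iff_of_mem hx'V, hIg, Scheme.mem_zeroLocus_iff] at hns
    have hb : f (x' : X) ∈ Y.basicOpen g := by
      by_contra hc
      apply hns
      intro a ha
      obtain ⟨c, rfl⟩ := Ideal.mem_span_singleton'.mp ha
      intro hmem
      apply hc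
      rw [Scheme.basicOpen_mul] at hmem
      exact hmem.2
    have hunit : IsUnit (Y.presheaf.germ V.1 (f (x' : X)) hx'V g) :=
      (Y.mem_basicOpen g _ hx'V).mp hb
    have h2 := hunit.map (f.stalkMap (x' : X)).hom
    have h3 := Scheme.Hom.germ_stalkMap_apply f V.1 (x' : X) hx'V g
    rw [Scheme.Hom.appLE, CommRingCat.comp_apply, TopCat.Presheaf.germ_res_apply, ← h3]
    exact h2
  · rw [Groth.Agent.Lib.Helper18.ideal_comap_of_le f 𝓘 ⟨U, hU⟩ V hUV', hIg, Ideal.map_span,
      Set.image_singleton]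

end Groth.Agent.S8861
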