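import Groth.Statements.S9582
import Groth.Agent.Lib.Helper45.WeakAssLoc

set_option autoImplicit false
universe u
open CAlg

namespace Groth.Agent.S9582

/-- For a reduced ring R, the primes weakly associated to the R-module R (primes minimal over the
annihilator of some element) are exactly the minimal primes of R. -/
theorem result {R : Type u} [CommRing R] [IsReduced R] :
    FlatCA.weakAss R R = minimalPrimes R := by
  ext p
  constructor
  · rintro ⟨x, hx⟩
    replace hx : p ∈ (Groth.Agent.Lib.Helper45.annEl R x).minimalPrimes := hx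
    have hpP : p.IsPrime := hx.1.1
    -- a prime `q ≤ p` not containing `x`
    obtain ⟨q, hqP, hqp, hxq⟩ : ∃ q : Ideal R, q.IsPrime ∧ q ≤ p ∧ x ∉ q := by
      let T : Submonoid R := p.primeCompl ⊔ Submonoid.powers x
      have hdisj : Disjoint ((⊥ : Ideal R) : Set R) (T : Set R) := by
        rw [Set.disjoint_left]
        intro a ha haT
        have ha0 : a = 0 := ha
        subst ha0
        obtain ⟨s, hs, z, ⟨n, rfl⟩, hsz⟩ := Submonoid.mem_sup.mp haT
        have hsx : s * x = 0 := by
          apply IsReduced.eq_zero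
          refine ⟨n + 1, ?_⟩
          calc (s * x) ^ (n + 1) = s ^ n * x * (s * x ^ n) := by ring
            _ = 0 := by rw [hsz, mul_zero]
        exact hs (hx.1.2 (Groth.Agent.Lib.Helper45.mem_annEl.mpr hsx))
      obtain ⟨q, hqP, -, hq⟩ := Ideal.exists_le_prime_disjoint ⊥ T hdisj
      refine ⟨q, hqP, ?_, ?_⟩
      · intro a ha
        by_contra hap
        exact Set.disjoint_left.mp hq ha ((le_sup_left : p.primeCompl ≤ T) hap)
      · intro hxq
        exact Set.disjoint_left.mp hq hxq
          ((le_sup_right : Submonoid.powers x ≤ T) (Submonoid.mem_powers x))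
    obtain ⟨q', hq', hq'q⟩ := Ideal.exists_minimalPrimes_le (I := ⊥) (J := q) bot_le
    have hq'P : q'.IsPrime := hq'.1.1
    have hxq' : x ∉ q' := fun h => hxq (hq'q h)
    have hann : Groth.Agent.Lib.Helper45.annEl R x ≤ q' := by
      intro r hr
      rw [Groth.Agent.Lib.Helper45.mem_annEl, smul_eq_mul] at hr
      have : r * x ∈ q' := by rw [hr]; exact q'.zero_mem
      exact (hq'P.mem_or_mem this).resolve_right hxq'
    have hle : p ≤ q' := hx.2 ⟨hq'P, hann⟩ (hq'q.trans hqp)
    have : p = q' := le_antisymm hle (hq'q.trans hqp)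
    rw [this]
    exact hq'
  · intro hp
    refine ⟨1, ?_⟩
    have : Groth.Agent.Lib.Helper45.annEl R (1 : R) = ⊥ := by
      ext r
      rw [Groth.Agent.Lib.Helper45.mem_annEl, smul_eq_mul, mul_one, Ideal.mem_bot]
    show p ∈ (Groth.Agent.Lib.Helper45.annEl R (1 : R)).minimalPrimes
    rw [this]
    exact hp

end Groth.Agent.S9582
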