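import Groth.Statements.S8869
import Groth.Agent.Lib.Helper45.WeakAssPoint
import Groth.Agent.Lib.Helper45.AffinePoints
import Groth.Agent.S9582
import Mathlib.Algebra.Category.ModuleCat.Sheaf.LocallyFree

set_option autoImplicit false
universe u
open CategoryTheory CategoryTheory.Limits AlgebraicGeometry TopologicalSpace
open SDiv

namespace Groth.Agent.S8869

open Groth.Agent.Lib.Helper45

/-- The structure sheaf is quasi-coherent. -/
instance isQuasicoherent_unit (X : Scheme.{u}) :
    SheafOfModules.IsQuasicoherent.{u, u, u} (SheafOfModules.unit X.ringCatSheaf) := by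
  have e : SheafOfModules.free (R := X.ringCatSheaf) PUnit.{u+1} ≅
      SheafOfModules.unit X.ringCatSheaf :=
    Limits.coproductUniqueIso (fun _ : PUnit.{u+1} => SheafOfModules.unit X.ringCatSheaf)
  exact (SheafOfModules.isQuasicoherent X.ringCatSheaf).prop_of_iso e
    (inferInstanceAs (SheafOfModules.free (R := X.ringCatSheaf) PUnit.{u+1}).IsQuasicoherent)

/-- Assume X is a reduced scheme and x is a point of X. Then x is weakly associated to the structure
sheaf O_X exactly when every generization of x equals x itself; equivalently, x is a generic point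
of some irreducible component of X. -/
theorem result (X : Scheme.{u}) [IsReduced X] (x : ↥X) :
    Curv2.IsWeakAssPoint (Coh.structureModule X) x ↔ ∀ y : ↥X, y ⤳ x → y = x := by
  obtain ⟨_, ⟨U, hU : IsAffineOpen U, rfl⟩, hxU, -⟩ :=
    X.isBasis_affineOpens.exists_subset_of_mem_open (Set.mem_univ x) isOpen_univ
  have h1 := isWeakAssPoint_iff_of_isAffineOpen hU (Coh.structureModule X) ⟨x, hxU⟩
  have h2 : FlatCA.weakAss Γ(X, U) Γ(Coh.structureModule X, U) =
      FlatCA.weakAss Γ(X, U) Γ(X, U) := rfl
  rw [h2, Groth.Agent.S9582.result] at h1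
  exact h1.trans (primeIdealOf_mem_minimalPrimes_iff hU ⟨x, hxU⟩)

end Groth.Agent.S8869
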