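import Groth.Statements.S8865
import Mathlib.AlgebraicGeometry.AffineScheme

set_option autoImplicit false
universe u
open CategoryTheory CategoryTheory.Limits AlgebraicGeometry TopologicalSpace
open SDiv

namespace Groth.Agent.S8865

/-- Local form: near every point, `f` is a fraction `a / b` over an affine open `W`, and some power
of `h` kills `a`. -/
theorem local_pow {X : Scheme.{u}} (h : Γ(X, ⊤)) (f : Γ(Mero.kmod X, ⊤))
    (hf : ∀ x : X, x ∈ X.basicOpen h → f.1 ⟨x, trivial⟩ = 0) (x : X) :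
    ∃ (W : X.Opens) (_ : x ∈ W) (n : ℕ), ∀ (y : X) (_ : y ∈ W) (k : ℕ), n ≤ k →
      (Mero.toK X ⊤ (h ^ k)).1 ⟨y, trivial⟩ * f.1 ⟨y, trivial⟩ = 0 := by
  obtain ⟨V, hxV, i, a, b, hab⟩ := f.2 ⟨x, trivial⟩
  obtain ⟨_, ⟨W, hW : IsAffineOpen W, rfl⟩, hxW, hWV⟩ :=
    X.isBasis_affineOpens.exists_subset_of_mem_open hxV V.2
  have hWV' : W ≤ V := hWV
  -- the numerator restricted to `W`
  let a' : Γ(X, W) := X.presheaf.map (homOfLE hWV').op a
  let g : Γ(X, W) := X.presheaf.map (homOfLE (le_top : W ≤ ⊤)).op h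
  have hgerm : ∀ (y : X) (hy : y ∈ W), y ∈ X.basicOpen h → X.presheaf.germ W y hy a' = 0 := by
    intro y hy hyh
    have h2 : f.1 (i ⟨y, hWV' hy⟩) = 0 := hf y hyh
    have h3 : LocalizedModule.mk (X.presheaf.germ V y (hWV' hy) a)
        (Mero.regGerm ⟨y, hWV' hy⟩ b) = (0 : Mero.KStalk X y) :=
      (hab ⟨y, hWV' hy⟩).symm.trans h2
    rw [← LocalizedModule.zero_mk (Mero.regGerm ⟨y, hWV' hy⟩ b), LocalizedModule.mk_eq] at h3
    obtain ⟨c, hc⟩ := h3
    simp only [smul_zero] at hc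
    have hc' : (c : X.presheaf.stalk y) * ((Mero.regGerm ⟨y, hWV' hy⟩ b : X.presheaf.stalk y) *
        X.presheaf.germ V y (hWV' hy) a) = 0 := hc
    have hcn : (c : X.presheaf.stalk y) ∈ nonZeroDivisors (X.presheaf.stalk y) :=
      Mero.regStalk_le_nonZeroDivisors y c.2
    have hbn : (Mero.regGerm ⟨y, hWV' hy⟩ b : X.presheaf.stalk y) ∈
        nonZeroDivisors (X.presheaf.stalk y) :=
      Mero.regStalk_le_nonZeroDivisors y (Mero.regGerm ⟨y, hWV' hy⟩ b).2
    have h4 := (mul_left_mem_nonZeroDivisors_eq_zero_iff hcn).mp hc'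
    have h5 := (mul_left_mem_nonZeroDivisors_eq_zero_iff hbn).mp h4
    rw [TopCat.Presheaf.germ_res_apply]
    exact h5
  -- hence `a'` vanishes on the basic open of `g`
  have hres : X.presheaf.map (homOfLE (X.basicOpen_le g)).op a' = 0 := by
    apply TopCat.Presheaf.section_ext X.sheaf (X.basicOpen g)
    intro y hy
    have hyW : y ∈ W := X.basicOpen_le g hy
    have hyh : y ∈ X.basicOpen h := by
      have : X.basicOpen g = W ⊓ X.basicOpen h := Scheme.basicOpen_res X h (homOfLE le_top).op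
      rw [this] at hy
      exact hy.2
    change X.presheaf.germ (X.basicOpen g) y hy (X.presheaf.map (homOfLE (X.basicOpen_le g)).op a') =
      X.presheaf.germ (X.basicOpen g) y hy 0
    rw [TopCat.Presheaf.germ_res_apply, hgerm y hyW hyh, map_zero]
  have hloc := hW.isLocalization_basicOpen g
  have h0 : algebraMap Γ(X, W) Γ(X, X.basicOpen g) a' = 0 := hres
  obtain ⟨⟨_, n, rfl⟩, hn⟩ := (IsLocalization.map_eq_zero_iff (Submonoid.powers g)
    Γ(X, X.basicOpen g) a').mp h0
  refine ⟨W, hxW, n, fun y hy k hk => ?_⟩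
  have h1 := hab ⟨y, hWV' hy⟩
  have h2 : f.1 ⟨y, trivial⟩ = LocalizedModule.mk (X.presheaf.germ V y (hWV' hy) a)
      (Mero.regGerm ⟨y, hWV' hy⟩ b) := h1
  rw [h2, Mero.toK_apply]
  refine LocalizedModule.mk_mul_mk.trans ?_
  have hz : X.presheaf.germ ⊤ y trivial (h ^ k) * X.presheaf.germ V y (hWV' hy) a = 0 := by
    have e1 : X.presheaf.germ ⊤ y trivial (h ^ k) = X.presheaf.germ W y hy (g ^ k) := by
      rw [← TopCat.Presheaf.germ_res_apply X.presheaf (homOfLE (le_top : W ≤ ⊤)) y hy, map_pow]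
    have e2 : X.presheaf.germ V y (hWV' hy) a = X.presheaf.germ W y hy a' :=
      (TopCat.Presheaf.germ_res_apply X.presheaf (homOfLE hWV') y hy a).symm
    rw [e1, e2, ← map_mul]
    have hk' : g ^ k * a' = 0 := by
      obtain ⟨j, rfl⟩ := Nat.exists_eq_add_of_le hk
      rw [pow_add, mul_comm (g ^ n), mul_assoc]
      have : g ^ n * a' = 0 := hn
      rw [this, mul_zero]
    rw [hk', map_zero]
  exact (Mero.mk_congr hz rfl).trans (LocalizedModule.zero_mk _)

/-- Let X be a quasi-compact scheme, h a global section of O_X and f a global section of the sheaf of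
meromorphic functions K_X whose restriction to the open X_h where h is invertible vanishes. Then h^n
f = 0 in K_X(X) for some natural number n. -/
theorem result (X : Scheme.{u}) [CompactSpace ↥X] (h : Γ(X, ⊤))
    (f : Γ(Mero.kmod X, ⊤)) (hf : (Mero.kmod X).presheaf.map (homOfLE (le_top : X.basicOpen h ≤ ⊤)).op f = 0) :
    ∃ n : ℕ, Mero.toK X ⊤ h ^ n * f = 0 := by
  have hf' : ∀ x : X, x ∈ X.basicOpen h → f.1 ⟨x, trivial⟩ = 0 := by
    intro x hx
    have := congrArg (fun t => t.1 ⟨x, hx⟩) hf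
    exact this
  choose W hxW n hn using local_pow h f hf'
  obtain ⟨t, ht⟩ := isCompact_univ.elim_finite_subcover (fun x : X => ((W x : X.Opens) : Set X))
    (fun x => (W x).2) (fun x _ => Set.mem_iUnion.mpr ⟨x, hxW x⟩)
  refine ⟨t.sup n, ?_⟩
  rw [← map_pow]
  refine Subtype.ext (funext fun y => ?_)
  obtain ⟨x, hxt, hyx⟩ := Set.mem_iUnion₂.mp (ht (Set.mem_univ y.1))
  have := hn x y.1 hyx (t.sup n) (Finset.le_sup hxt)
  exact this

end Groth.Agent.S8865
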