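import Groth.Statements.S8866
import Groth.Agent.Lib.Helper97.MeroRed

set_option autoImplicit false
universe u
open CategoryTheory CategoryTheory.Limits AlgebraicGeometry TopologicalSpace
open SDiv

namespace Groth.Agent.S8866

/-- Let X be a reduced scheme in which every quasi-compact open subset has only finitely many
irreducible components, and fix an O_X-module L that is invertible. A regular meromorphic section of
L then exists. For an integral scheme this is the case of one irreducible component. -/
theorem result (X : Scheme.{u}) [IsReduced X]
    (hfin : ∀ U : X.Opens, IsCompact (U : Set ↥X) → (irreducibleComponents ↥(U : Scheme.{u})).Finite)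
    (L : X.Modules) (hL : PicF.IsInvertible L) : Mero.HasRegularMero L := by
  apply Groth.Agent.Lib.Helper97.MeroLib.hasRegularMero_of_locally_finite_gen hL
  intro x
  obtain ⟨U, hU, hxU, -⟩ := (Opens.isBasis_iff_nbhd.mp X.isBasis_affineOpens)
    (show x ∈ (⊤ : X.Opens) from trivial)
  exact ⟨U, hU, hxU, Groth.Agent.Lib.Helper97.MeroLib.finite_gen_of_irreducibleComponents_finite U
    (hfin U hU.isCompact)⟩

end Groth.Agent.S8866
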