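import Groth.Statements.S8871
import Groth.Agent.Lib.Helper45.S1Alg
import Groth.Agent.Lib.Helper45.FiniteType
import Groth.Agent.Lib.Helper45.QCohStalk
import Groth.Agent.Lib.Helper45.AffinePoints

set_option autoImplicit false
universe u
open CategoryTheory CategoryTheory.Limits AlgebraicGeometry TopologicalSpace
open SDiv

namespace Groth.Agent.S8871

open Groth.Agent.Lib.Helper45

attribute [local instance] stalkModuleSections

/-- On a locally Noetherian scheme, for a coherent module `F`, an affine open `V` and `x ∈ V`: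
`x` is an associated point of `F` iff the prime of `x` is an associated prime of `Γ(F, V)`. -/
theorem isAssPoint_iff_mem_associatedPrimes {X : Scheme.{u}} [IsLocallyNoetherian X]
    (F : X.Modules) (hF : Coh.IsCoh F) {V : X.Opens} (hV : IsAffineOpen V) (x : V) :
    Curv2.IsAssPoint F (x : X) ↔
      (hV.primeIdealOf x).asIdeal ∈ associatedPrimes Γ(X, V) Γ(F, V) := by
  have hq : SheafOfModules.IsQuasicoherent.{u, u, u} F := hF.1
  have : IsNoetherianRing Γ(X, V) := IsLocallyNoetherian.component_noetherian ⟨V, hV⟩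
  have := hV.isLocalization_stalk x
  have := isLocalizedModule_germₗ hV F x
  exact maximalIdeal_mem_associatedPrimes_iff (hV.primeIdealOf x).asIdeal
    (X.presheaf.stalk (x : X)) (germₗ F x)

/-- Serre's condition `(S_1)` at a point `x` of an affine open `V`, in terms of `Γ(F, V)`. -/
theorem s1_at_iff {X : Scheme.{u}} [IsLocallyNoetherian X]
    (F : X.Modules) (hF : Coh.IsCoh F) {V : X.Opens} (hV : IsAffineOpen V) (x : V) :
    (min (1 : WithBot ℕ∞) (Module.supportDim ↑(X.presheaf.stalk (x : X))
        ↑(F.presheaf.stalk (x : X))) ≤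
      ((LocCoh.depth (X.presheaf.stalk (x : X)) (F.presheaf.stalk (x : X)) : ℕ∞) : WithBot ℕ∞)) ↔
      ¬ ((hV.primeIdealOf x).asIdeal ∈ associatedPrimes Γ(X, V) Γ(F, V) ∧
        ∃ q : PrimeSpectrum Γ(X, V), q ∈ Module.support Γ(X, V) Γ(F, V) ∧
          q.asIdeal < (hV.primeIdealOf x).asIdeal) := by
  have hq : SheafOfModules.IsQuasicoherent.{u, u, u} F := hF.1
  have : IsNoetherianRing Γ(X, V) := IsLocallyNoetherian.component_noetherian ⟨V, hV⟩
  have : Module.Finite Γ(X, V) Γ(F, V) := finite_sections_of_isCoh hV F hF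
  have := hV.isLocalization_stalk x
  have := isLocalizedModule_germₗ hV F x
  exact s1_cond_iff (hV.primeIdealOf x).asIdeal (X.presheaf.stalk (x : X)) (germₗ F x)

/-- Let X be a locally Noetherian scheme and F a coherent O_X-module. Then F has no embedded associated
points (every associated point of F is maximal among the associated points of F under
specialization) if and only if F has property (S_1): for every point x, depth F_x ≥ min(1, dim Supp
F_x), where dim Supp F_x is the Krull dimension of the support of the O_{X,x}-module F_x (for F_x =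
0 the depth is infinite and the support empty, so the condition holds). -/
theorem result (X : Scheme.{u}) [IsLocallyNoetherian X] (F : X.Modules) (hF : Coh.IsCoh F) :
    (∀ x : ↥X, Curv2.IsAssPoint F x → ∀ y : ↥X, Curv2.IsAssPoint F y → y ⤳ x → y = x) ↔
      ∀ x : ↥X, min (1 : WithBot ℕ∞) (Module.supportDim ↑(X.presheaf.stalk x) ↑(F.presheaf.stalk x)) ≤
        ((LocCoh.depth (X.presheaf.stalk x) (F.presheaf.stalk x) : ℕ∞) : WithBot ℕ∞) := by
  constructor
  · intro hNE x
    obtain ⟨_, ⟨V, hV : IsAffineOpen V, rfl⟩, hxV, -⟩ :=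
      X.isBasis_affineOpens.exists_subset_of_mem_open (Set.mem_univ x) isOpen_univ
    obtain ⟨x, rfl⟩ : ∃ x' : V, (x' : X) = x := ⟨⟨x, hxV⟩, rfl⟩
    have : IsNoetherianRing Γ(X, V) := IsLocallyNoetherian.component_noetherian ⟨V, hV⟩
    have : Module.Finite Γ(X, V) Γ(F, V) := finite_sections_of_isCoh hV F hF
    rw [s1_at_iff F hF hV x]
    rintro ⟨hass, q, hq, hqp⟩
    have hann : Module.annihilator Γ(X, V) Γ(F, V) ≤ q.asIdeal :=
      Module.annihilator_le_of_mem_support hq
    obtain ⟨q0, hq0, hq0q⟩ := Ideal.exists_minimalPrimes_le hann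
    have hq0ass : q0 ∈ associatedPrimes Γ(X, V) Γ(F, V) :=
      Module.associatedPrimes.minimalPrimes_annihilator_subset_associatedPrimes _ _ hq0
    have hq0P : q0.IsPrime := hq0.1.1
    obtain ⟨y, hy⟩ := exists_primeIdealOf_eq hV ⟨q0, hq0P⟩
    have hyq : (hV.primeIdealOf y).asIdeal = q0 := congrArg PrimeSpectrum.asIdeal hy
    have hyass : Curv2.IsAssPoint F (y : X) := by
      rw [isAssPoint_iff_mem_associatedPrimes F hF hV y, hyq]
      exact hq0ass
    have hxass : Curv2.IsAssPoint F (x : X) :=
      (isAssPoint_iff_mem_associatedPrimes F hF hV x).mpr hass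
    have hspec : (y : X) ⤳ (x : X) := by
      rw [← primeIdealOf_le_iff hV x y, hyq]
      exact hq0q.trans hqp.le
    have hyx : (y : X) = (x : X) := hNE x hxass y hyass hspec
    have hyx' : y = x := Subtype.ext hyx
    rw [hyx'] at hyq
    rw [hyq] at hqp
    exact absurd hq0q (not_le_of_gt hqp)
  · intro hS1 x hx y hy hyx
    obtain ⟨_, ⟨V, hV : IsAffineOpen V, rfl⟩, hxV, -⟩ :=
      X.isBasis_affineOpens.exists_subset_of_mem_open (Set.mem_univ x) isOpen_univ
    have hyV : y ∈ V := hyx.mem_open V.2 hxV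
    obtain ⟨x, rfl⟩ : ∃ x' : V, (x' : X) = x := ⟨⟨x, hxV⟩, rfl⟩
    obtain ⟨y, rfl⟩ : ∃ y' : V, (y' : X) = y := ⟨⟨y, hyV⟩, rfl⟩
    have h1 := (s1_at_iff F hF hV x).mp (hS1 x)
    by_contra hne
    apply h1
    refine ⟨(isAssPoint_iff_mem_associatedPrimes F hF hV x).mp hx, hV.primeIdealOf y, ?_, ?_⟩
    · have hyass := (isAssPoint_iff_mem_associatedPrimes F hF hV y).mp hy
      obtain ⟨-, m₀, hm₀⟩ := hyass
      rw [Module.mem_support_iff']
      refine ⟨m₀, fun r hr h0 => hr ?_⟩
      rw [hm₀]
      apply Ideal.le_radical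
      rw [Submodule.mem_colon_singleton]
      exact h0
    · refine lt_of_le_of_ne ((primeIdealOf_le_iff hV x y).mpr hyx) ?_
      intro heq
      exact hne (congrArg Subtype.val (primeIdealOf_injective hV (PrimeSpectrum.ext heq)))

end Groth.Agent.S8871
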