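import Groth.Statements.S8873
import Groth.Agent.Lib.Helper45.FittSheaf
import Groth.Agent.Lib.Helper49.FinitePresentation2
import Groth.Agent.Lib.Helper49.FreeNear

set_option autoImplicit false
universe u
open CategoryTheory CategoryTheory.Limits AlgebraicGeometry TopologicalSpace
open SDiv

namespace Groth.Agent.S8873

/-- Let S be a scheme and F a finitely presented O_S-module. Then for every r the Fitting ideal sheaf
Fit_r(F) is of finite type: its ideal of sections over every affine open is finitely generated. -/
theorem result (S : Scheme.{u}) (F : S.Modules) (hF : CohB1.IsFP F) (r : ℕ) :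
    BlowUp.IsFiniteTypeIdeal (Fitt.sheafIdeal F r) := by
  have hq : F.IsQuasicoherent := Groth.Agent.Lib.Helper49.isQuasicoherent_of_isFinitePresentation F hF
  have hfp : SheafOfModules.IsFinitePresentation (R := S.ringCatSheaf) F := hF
  have hft : SheafOfModules.IsFiniteType (R := S.ringCatSheaf) F := inferInstance
  intro U
  rw [Groth.Agent.Lib.Helper45.sheafIdeal_ideal]
  have := Groth.Agent.Lib.Helper49.finitePresentation_sections_of_isFinitePresentation F hF U.2
  exact Groth.Agent.Lib.Helper45.fitt_fg_of_finitePresentation r

end Groth.Agent.S8873
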