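import Groth.Statements.S8874
import Groth.Agent.Lib.Helper45.FittGen

set_option autoImplicit false
universe u
open CategoryTheory CategoryTheory.Limits AlgebraicGeometry TopologicalSpace
open SDiv

namespace Groth.Agent.S8874

/-- Let S be a scheme, F a quasi-coherent O_S-module of finite type, s a point of S and r a natural
number. Then F can be generated by r sections over some open neighbourhood of s if and only if the
r-th Fitting ideal of F is the unit ideal at s, i.e. s does not lie in the closed subset cut out by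
Fit_r(F). -/
theorem result (S : Scheme.{u}) (F : S.Modules) (hF : Coh.IsQCoh F) (hft : CohB1.IsFT F)
    (s : ↥S) (r : ℕ) :
    (∃ U : S.Opens, s ∈ U ∧ ∃ π : FlatMod.freeMod (↑U) r ⟶ F.restrict U.ι, Epi π) ↔
      s ∉ (Fitt.sheafIdeal F r).support := by
  have : F.IsQuasicoherent := hF
  have : SheafOfModules.IsFiniteType (R := S.ringCatSheaf) F := hft
  obtain ⟨_, ⟨W, hW : IsAffineOpen W, rfl⟩, hsW, -⟩ :=
    S.isBasis_affineOpens.exists_subset_of_mem_open (Set.mem_univ s) isOpen_univ
  obtain ⟨sW, rfl⟩ : ∃ sW : W, (sW : S) = s := ⟨⟨s, hsW⟩, rfl⟩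
  rw [Groth.Agent.Lib.Helper45.not_mem_support_sheafIdeal_iff F hW sW r]
  constructor
  · rintro ⟨U, hsU, π, hπ⟩
    obtain ⟨w, hw⟩ := Groth.Agent.Lib.Helper45.exists_span_stalk_of_epi_freeMod F r π sW hsU
    exact Groth.Agent.Lib.Helper10.Fitting.fitt_eq_top_of_span w hw le_rfl
  · intro h
    have := Groth.Agent.Lib.Helper45.finite_stalk F hW sW
    obtain ⟨g, hg⟩ := Groth.Agent.Lib.Helper10.Fitting.exists_span_eq_top_of_fitt_eq_top h
    obtain ⟨f, hxf, t, ht⟩ :=
      Groth.Agent.Lib.Helper45.exists_basicOpen_generators_of_span_stalk F hW sW g hg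
    exact ⟨S.basicOpen f, hxf,
      Groth.Agent.Lib.Helper45.exists_epi_freeMod_of_span (hW.basicOpen f) F t ht⟩

end Groth.Agent.S8874
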