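import Groth.Statements.S8882
import Groth.Agent.Lib.Helper45.NormGlue
-- import your own Groth.Agent.* helpers here

set_option autoImplicit false
universe u
open CategoryTheory CategoryTheory.Limits AlgebraicGeometry TopologicalSpace
open SDiv

namespace Groth.Agent.S8882

open Groth.Agent.Lib.Helper45

/-- In a localization of a ring whose nilradical has vanishing `m`-th power, nilpotent elements have
vanishing `m`-th power. -/
lemma pow_eq_zero_of_isNilpotent_localization {R S : Type*} [CommRing R] [CommRing S] [Algebra R S]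
    (M : Submonoid R) [IsLocalization M S] (m : ℕ) (hm : nilradical R ^ m = ⊥) (b : S)
    (hb : IsNilpotent b) : b ^ m = 0 := by
  obtain ⟨c, s, rfl⟩ := IsLocalization.exists_mk'_eq M b
  obtain ⟨k, hk⟩ := hb
  rw [← IsLocalization.mk'_pow, IsLocalization.mk'_eq_zero_iff] at hk
  obtain ⟨t, ht⟩ := hk
  have h1 : (t.1 * c) ^ (k + 1) = 0 := by
    have : (t.1 * c) ^ (k + 1) = t.1 ^ k * c * (t.1 * c ^ k) := by ring
    rw [this, ht, mul_zero]
  have h2 : t.1 * c ∈ nilradical R := ⟨k + 1, h1⟩
  have h3 : (t.1 * c) ^ m = 0 := by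
    have := Ideal.pow_mem_pow h2 m
    rw [hm] at this
    exact this
  rw [← IsLocalization.mk'_pow, IsLocalization.mk'_eq_zero_iff]
  refine ⟨t ^ m, ?_⟩
  rw [SubmonoidClass.coe_pow, ← mul_pow]
  exact h3

/-- On a Noetherian scheme there is a uniform bound on the nilpotency index of nilpotent elements of
the stalks. -/
lemma exists_stalk_pow_eq_zero (X : Scheme.{u}) [IsNoetherian X] :
    ∃ m : ℕ, ∀ (x : X) (b : X.presheaf.stalk x), IsNilpotent b → b ^ m = 0 := by
  suffices h : ∀ S : X.Opens, IsCompact (S : Set X) →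
      ∃ m : ℕ, ∀ x ∈ S, ∀ b : X.presheaf.stalk x, IsNilpotent b → b ^ m = 0 by
    obtain ⟨m, hm⟩ := h ⊤ CompactSpace.isCompact_univ
    exact ⟨m, fun x b hb => hm x trivial b hb⟩
  intro S hS
  refine compact_open_induction_on (P := fun S : X.Opens =>
    ∃ m : ℕ, ∀ x ∈ S, ∀ b : X.presheaf.stalk x, IsNilpotent b → b ^ m = 0) S hS ?_ ?_
  · exact ⟨0, fun x hx => (hx : x ∈ (⊥ : X.Opens)).elim⟩
  · intro S hS U ih
    obtain ⟨m₁, h₁⟩ := ih
    have : IsNoetherianRing Γ(X, U.1) := IsLocallyNoetherian.component_noetherian U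
    obtain ⟨m₂, h₂⟩ := IsNoetherianRing.isNilpotent_nilradical Γ(X, U.1)
    refine ⟨max m₁ m₂, fun x hx b hb => ?_⟩
    by_cases hxS : x ∈ S
    · have := h₁ x hxS b hb
      exact pow_eq_zero_of_le (le_max_left _ _) this
    · have hxU : x ∈ U.1 := by
        rcases hx with hx | hx
        · exact (hxS hx).elim
        · exact hx
      let := X.presheaf.algebra_section_stalk ⟨x, hxU⟩
      have := U.2.isLocalization_stalk ⟨x, hxU⟩
      have := pow_eq_zero_of_isNilpotent_localization
        (S := X.presheaf.stalk x) (U.2.primeIdealOf ⟨x, hxU⟩).asIdeal.primeCompl m₂ h₂ b hb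
      exact pow_eq_zero_of_le (le_max_right _ _) this

/-- On a Noetherian scheme there is a uniform bound on the nilpotency index of nilpotent sections. -/
lemma exists_pow_eq_zero (X : Scheme.{u}) [IsNoetherian X] :
    ∃ m : ℕ, ∀ (U : X.Opens) (a : Γ(X, U)), IsNilpotent a → a ^ m = 0 := by
  obtain ⟨m, hm⟩ := exists_stalk_pow_eq_zero X
  refine ⟨m, fun U a ha => ?_⟩
  refine TopCat.Presheaf.section_ext X.sheaf U _ _ (fun x hx => ?_)
  change X.presheaf.germ U x hx (a ^ m) = X.presheaf.germ U x hx 0
  rw [map_pow, map_zero]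
  exact hm x _ (ha.map _)

/-- Let X be a Noetherian scheme on which a prime number p is zero (p·O_X = 0). Then the closed
immersion X_red ⟶ X cut out by the nilradical carries a norm whose degree is p^e for some e > 0. -/
theorem result (X : Scheme.{u}) [IsNoetherian X] (p : ℕ) (hp : p.Prime)
    (hpX : (p : Γ(X, ⊤)) = 0) : ∃ e : ℕ, 0 < e ∧ Nrm.HasNorm X.nilradical.subschemeι (p ^ e) := by
  obtain ⟨m, hm⟩ := exists_pow_eq_zero X
  refine ⟨m + 1, Nat.succ_pos m, ?_⟩
  set q : ℕ := p ^ (m + 1) with hq
  have hmq : m ≤ q := by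
    have h1 : m + 1 < 2 ^ (m + 1) := Nat.lt_two_pow_self
    have h2 : 2 ^ (m + 1) ≤ p ^ (m + 1) := Nat.pow_le_pow_left hp.two_le _
    omega
  have hq1 : 1 ≤ q := Nat.one_le_pow _ _ hp.pos
  let ι := X.nilradical.subschemeι
  have hpV : ∀ V : X.Opens, (p : Γ(X, V)) = 0 := by
    intro V
    have := congrArg (X.presheaf.map (homOfLE (le_top : V ≤ ⊤)).op).hom hpX
    rwa [map_natCast, map_zero] at this
  -- well-definedness
  have hwd : ∀ (V : X.affineOpens) (a b : Γ(X, V.1)),
      (ι.app V.1).hom a = (ι.app V.1).hom b → a ^ q = b ^ q := by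
    intro V a b hab
    have h1 : a - b ∈ RingHom.ker (ι.app V.1).hom := by
      rw [RingHom.mem_ker, map_sub, hab, sub_self]
    rw [X.nilradical.ker_subschemeι_app V] at h1
    have h2 : IsNilpotent (a - b) := by
      change a - b ∈ ((⊥ : X.IdealSheafData).ideal V).radical at h1
      obtain ⟨n, hn⟩ := h1
      exact ⟨n, hn⟩
    have h3 : (a - b) ^ q = 0 := pow_eq_zero_of_le hmq (hm V.1 _ h2)
    have h4 := add_pow_prime_pow_eq hp b (a - b) (m + 1)
    rw [hpV, zero_mul, zero_mul, zero_mul, add_zero, ← hq, h3, add_zero] at h4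
    rw [← h4]
    congr 1
    ring
  have hsurj : ∀ V : X.affineOpens, Function.Surjective (ι.app V.1).hom :=
    fun V => X.nilradical.subschemeι_app_surjective V
  let lift : ∀ V : X.affineOpens, Γ(X.nilradical.subscheme, ι ⁻¹ᵁ V.1) → Γ(X, V.1) :=
    fun V => Function.surjInv (hsurj V)
  have hlift : ∀ (V : X.affineOpens) (s : Γ(X.nilradical.subscheme, ι ⁻¹ᵁ V.1)),
      (ι.app V.1).hom (lift V s) = s := fun V s => Function.surjInv_eq (hsurj V) s
  have hN : ∀ (V : X.affineOpens) (s : Γ(X.nilradical.subscheme, ι ⁻¹ᵁ V.1)) (a : Γ(X, V.1)),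
      (ι.app V.1).hom a = s → (lift V s) ^ q = a ^ q :=
    fun V s a ha => hwd V _ _ ((hlift V s).trans ha.symm)
  let L : LocalNorm ι q X.affineOpens :=
    { N := fun V =>
        { toFun := fun s => (lift V s) ^ q
          map_one' := by
            rw [hN V 1 1 (map_one _), one_pow]
          map_mul' := fun s t => by
            rw [hN V (s * t) (lift V s * lift V t) (by rw [map_mul, hlift, hlift]), mul_pow] }
      res := by
        intro V W h s
        change NormGlue.resY h ((lift V s) ^ q) = (lift W (NormGlue.resX ι h s)) ^ q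
        rw [map_pow]
        symm
        refine hN W _ _ ?_
        have := NormGlue.resX_app ι h (lift V s)
        refine this.symm.trans ?_
        exact congrArg _ (hlift V s)
      app := by
        intro V g
        exact hN V _ g rfl
      mem := by
        intro V s x hx hs
        change X.presheaf.germ V.1 (ι.base x) hx ((lift V s) ^ q) ∈ _
        rw [map_pow]
        refine Ideal.pow_mem_of_mem _ ?_ _ hq1
        rw [IsLocalRing.mem_maximalIdeal, mem_nonunits_iff] at hs ⊢
        intro hu
        apply hs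
        have h1 : ι.base x ∈ X.basicOpen (lift V s) := (X.mem_basicOpen _ _ hx).mpr hu
        have h2 : x ∈ ι ⁻¹ᵁ X.basicOpen (lift V s) := h1
        rw [Scheme.preimage_basicOpen] at h2
        have h3 := (Scheme.mem_basicOpen _ _ x hx).mp h2
        have h4 : (ι.app V.1).hom (lift V s) = s := hlift V s
        rw [← h4]
        exact h3 }
  exact L.hasNorm X.isBasis_affineOpens hq1

end Groth.Agent.S8882
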