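import Groth.Statements.S8886
import Mathlib.AlgebraicGeometry.Morphisms.SchemeTheoreticallyDominant
import Mathlib.AlgebraicGeometry.Morphisms.QuasiCompact
-- import your own Groth.Agent.* helpers here

set_option autoImplicit false
universe u
open CategoryTheory CategoryTheory.Limits AlgebraicGeometry TopologicalSpace
open SDiv

namespace Groth.Agent.S8886

theorem result {X Y : Scheme.{u}} (f : X ⟶ Y) [Flat f] [IsIntegral Y]
    (h : IsIntegral (f.fiber (genericPoint ↥Y))) : IsIntegral X := by
  set η := genericPoint ↥Y with hη
  let g : Spec (Y.residueField η) ⟶ Y := Y.fromSpecResidueField η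
  -- `g` is quasi-compact
  have hqc : QuasiCompact g := by
    constructor
    intro U _ _
    exact (Set.toFinite _).isCompact
  -- `g` is dominant
  have hdom : IsDominant g := by
    rw [isDominant_iff, DenseRange, Scheme.range_fromSpecResidueField]
    rw [dense_iff_closure_eq]
    exact genericPoint_spec Y
  have hstd : IsSchemeTheoreticallyDominant g := IsSchemeTheoreticallyDominant.of_isDominant g
  have hstd' : IsSchemeTheoreticallyDominant (f.fiberι η) :=
    IsSchemeTheoreticallyDominant.pullbackFst f g
  have hqc' : QuasiCompact (f.fiberι η) :=
    inferInstanceAs (QuasiCompact (pullback.fst f g))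
  have hred : IsReduced X := IsSchemeTheoreticallyDominant.isReduced (f.fiberι η)
  have hdom' : IsDominant (f.fiberι η) := inferInstance
  have hirr : IrreducibleSpace X := by
    have h1 : IsIrreducible (Set.univ : Set (f.fiber η)) := IrreducibleSpace.isIrreducible_univ _
    have h2 : IsIrreducible ((f.fiberι η) '' Set.univ) :=
      h1.image _ (f.fiberι η).continuous.continuousOn
    have h3 := h2.closure
    rw [Set.image_univ, (f.fiberι η).denseRange.closure_eq] at h3
    have : PreirreducibleSpace X := ⟨h3.isPreirreducible⟩
    exact ⟨h3.nonempty.to_subtype.map Subtype.val⟩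
  exact isIntegral_of_irreducibleSpace_of_isReduced X

end Groth.Agent.S8886
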