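import Groth.Statements.S8887
import Groth.Agent.Lib.Helper45.FreeMod
import Groth.Agent.Lib.Helper45.GenericFree
import Groth.Agent.Lib.Helper45.FiniteType
import Groth.Agent.Lib.Helper45.QCohStalk

set_option autoImplicit false
universe u
open CategoryTheory CategoryTheory.Limits AlgebraicGeometry TopologicalSpace
open SDiv

namespace Groth.Agent.S8887

open Groth.Agent.Lib.Helper45

attribute [local instance] stalkModuleSections

/-- Freeness near a point whose local ring is a field and at which germs are injective. -/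
theorem free_near_of_isField (X : Scheme.{u}) (F : X.Modules)
    [SheafOfModules.IsQuasicoherent.{u, u, u} F]
    [SheafOfModules.IsFiniteType (R := X.ringCatSheaf) F] (x : X)
    (hK : IsField (X.presheaf.stalk x))
    (hinj : ∀ (V : X.Opens) (hx : x ∈ V), Function.Injective (X.presheaf.germ V x hx)) :
    ∃ U : X.Opens, x ∈ U ∧
      Nonempty (F.restrict U.ι ≅ FlatMod.freeMod (↑U)
        (Module.finrank ↑(X.presheaf.stalk x) ↑(F.presheaf.stalk x))) := by
  classical
  obtain ⟨U, hU, hxU, -⟩ := exists_isAffineOpen_mem_and_subset (x := x) (U := ⊤) trivial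
  obtain ⟨x, rfl⟩ : ∃ x' : U, (x' : X) = x := ⟨⟨x, hxU⟩, rfl⟩
  have hfin : Module.Finite Γ(X, U) Γ(F, U) := finite_sections_of_isFiniteType hU F
  have hloc := hU.isLocalization_stalk x
  have hlm := isLocalizedModule_germₗ hU F x
  obtain ⟨m, f, hfS, hli, hf⟩ := exists_generic_basis'
    (hU.primeIdealOf x).asIdeal.primeCompl (X.presheaf.stalk (x : X)) hK (germₗ F x)
  -- `V = D(f)`
  have hxf : (x : X) ∈ X.basicOpen f := (mem_basicOpen_iff_not_mem_primeIdealOf hU x f).2 hfS
  have hV : IsAffineOpen (X.basicOpen f) := hU.basicOpen f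
  let mV : Fin (Module.finrank ↑(X.presheaf.stalk (x : X)) ↑(F.presheaf.stalk (x : X))) →
      Γ(F, X.basicOpen f) := fun j => F.presheaf.map (homOfLE (X.basicOpen_le f)).op (m j)
  let ψ : (Fin (Module.finrank ↑(X.presheaf.stalk (x : X)) ↑(F.presheaf.stalk (x : X))) →
      Γ(X, X.basicOpen f)) →ₗ[Γ(X, X.basicOpen f)] Γ(F, X.basicOpen f) :=
    Fintype.linearCombination _ mV
  have hψ : ∀ c, ψ c = ∑ j, c j • mV j := fun c => Fintype.linearCombination_apply _ _ _
  have hinjψ : Function.Injective ψ := by
    rw [← LinearMap.ker_eq_bot, LinearMap.ker_eq_bot']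
    intro c hc
    rw [hψ] at hc
    have hg := congrArg (F.presheaf.germ (X.basicOpen f) x hxf) hc
    rw [map_sum, map_zero] at hg
    have hg' : ∑ j, (X.presheaf.germ (X.basicOpen f) x hxf (c j)) • (germₗ F x (m j)) = 0 := by
      rw [← hg]
      refine Finset.sum_congr rfl fun j _ => ?_
      rw [germ_smul]
      congr 1
      exact (TopCat.Presheaf.germ_res_apply F.presheaf (homOfLE (X.basicOpen_le f)) x hxf
        (m j)).symm
    have h0 := Fintype.linearIndependent_iff.1 hli _ hg'
    funext j
    exact hinj _ hxf (by rw [h0 j, Pi.zero_apply, map_zero])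
  have hsurjψ : Function.Surjective ψ := by
    intro y
    obtain ⟨n, t, ht⟩ := exists_restrict_eq_pow_smul hU F f y
    obtain ⟨a, ha⟩ := (Submodule.mem_span_range_iff_exists_fun _).1 (hf t)
    have hunit : IsUnit (X.presheaf.map (homOfLE (X.basicOpen_le f)).op f) :=
      X.toRingedSpace.isUnit_res_basicOpen f
    obtain ⟨v, hv⟩ := hunit
    refine ⟨fun j => (↑(v⁻¹ ^ (n + 1)) : Γ(X, X.basicOpen f)) *
      X.presheaf.map (homOfLE (X.basicOpen_le f)).op (a j), ?_⟩
    rw [hψ]
    have h1 : ∑ j, X.presheaf.map (homOfLE (X.basicOpen_le f)).op (a j) • mV j =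
        (v : Γ(X, X.basicOpen f)) • F.presheaf.map (homOfLE (X.basicOpen_le f)).op t := by
      have := congrArg (F.presheaf.map (homOfLE (X.basicOpen_le f)).op) ha
      rw [map_sum, Scheme.Modules.map_smul, ← hv] at this
      rw [← this]
      refine Finset.sum_congr rfl fun j _ => ?_
      rw [Scheme.Modules.map_smul]
    calc ∑ j, ((↑(v⁻¹ ^ (n + 1)) : Γ(X, X.basicOpen f)) *
          X.presheaf.map (homOfLE (X.basicOpen_le f)).op (a j)) • mV j
        = (↑(v⁻¹ ^ (n + 1)) : Γ(X, X.basicOpen f)) •
            ∑ j, X.presheaf.map (homOfLE (X.basicOpen_le f)).op (a j) • mV j := by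
          rw [Finset.smul_sum]
          refine Finset.sum_congr rfl fun j _ => ?_
          rw [mul_smul]
      _ = (↑(v⁻¹ ^ (n + 1)) : Γ(X, X.basicOpen f)) •
            ((v : Γ(X, X.basicOpen f)) • ((v : Γ(X, X.basicOpen f)) ^ n • y)) := by
          rw [h1, ht, hv]
      _ = y := by
          rw [smul_smul, smul_smul, mul_assoc, ← pow_succ', ← Units.val_pow_eq_pow_val,
            ← Units.val_mul, ← mul_pow, inv_mul_cancel, one_pow, Units.val_one, one_smul]
  let e := (LinearEquiv.ofBijective ψ ⟨hinjψ, hsurjψ⟩).symm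
  exact ⟨X.basicOpen f, hxf, nonempty_restrict_iso_freeMod hV F _ e⟩

/-- Let X be an integral scheme and F a quasi-coherent O_X-module of finite type, of rank r (r being the
finite dimension of the generic stalk of F as a vector space over the function field of X). Then one
can find an open subset U of X, not empty, on which the restriction of F is isomorphic to the free
module of rank r. -/
theorem result (X : Scheme.{u}) [IsIntegral X] (F : X.Modules) (hF : Coh.IsQCoh F)
    (hft : CohB1.IsFT F) :
    ∃ U : X.Opens, (U : Set ↥X).Nonempty ∧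
      Nonempty (F.restrict U.ι ≅ FlatMod.freeMod (↑U)
        (Module.finrank ↑(X.presheaf.stalk (genericPoint ↥X)) ↑(F.presheaf.stalk (genericPoint ↥X)))) := by
  have hq : SheafOfModules.IsQuasicoherent.{u, u, u} F := hF
  have hft' : SheafOfModules.IsFiniteType (R := X.ringCatSheaf) F := hft
  obtain ⟨U, hxU, hiso⟩ := free_near_of_isField X F (genericPoint X)
    (show IsField X.functionField from Field.toIsField _)
    (fun V hx => germ_injective_of_isIntegral X _ hx)
  exact ⟨U, ⟨_, hxU⟩, hiso⟩

end Groth.Agent.S8887
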