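import Groth.Statements.S8888
import Groth.Agent.Lib.Helper16.FlatPull.Stalk

set_option autoImplicit false
universe u
open CategoryTheory CategoryTheory.Limits AlgebraicGeometry TopologicalSpace
open SDiv

namespace Groth.Agent.S8888

open Groth.Agent.Lib.Helper16 TensorProduct

/-- If the local ring of `Y` at `f x` is a field, the rank of the stalk of `f^* G` at `x` is the rank of
the stalk of `G` at `f x`. -/
theorem rank_stalk_pullback {X Y : Scheme.{u}} (f : X ⟶ Y) (G : Y.Modules) [G.IsQuasicoherent] (x : X)
    (hK : IsField ↑(Y.presheaf.stalk (f.base x))) :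
    Module.rank ↑(X.presheaf.stalk x) ↑(((Scheme.Modules.pullback f).obj G).presheaf.stalk x) =
      Module.rank ↑(Y.presheaf.stalk (f.base x)) ↑(G.presheaf.stalk (f.base x)) := by
  letI := (f.stalkMap x).hom.toAlgebra
  letI : Module (Y.presheaf.stalk (f.base x))
      (((Scheme.Modules.pullback f).obj G).presheaf.stalk x) :=
    FlatMod.moduleStalkOver f ((Scheme.Modules.pullback f).obj G) x
  haveI : IsScalarTower (Y.presheaf.stalk (f.base x)) (X.presheaf.stalk x)
      (((Scheme.Modules.pullback f).obj G).presheaf.stalk x) := IsScalarTower.of_compHom _ _ _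
  obtain ⟨ψ, hψ⟩ := FlatPull.exists_isBaseChange_stalk f G x
  have hfree : Module.Free ↑(Y.presheaf.stalk (f.base x)) ↑(G.presheaf.stalk (f.base x)) := by
    letI := hK.toField
    exact Module.Free.of_divisionRing _ _
  rw [← hψ.equiv.rank_eq, Module.rank_baseChange, Cardinal.lift_id]

theorem rank_stalk_congr {Y : Scheme.{u}} (G : Y.Modules) {y y' : Y} (h : y = y') :
    Module.rank ↑(Y.presheaf.stalk y) ↑(G.presheaf.stalk y) =
      Module.rank ↑(Y.presheaf.stalk y') ↑(G.presheaf.stalk y') := by
  subst h; rfl

/-- Let f : X ⟶ Y be a dominant morphism of integral schemes and G a quasi-coherent O_Y-module. Then the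
rank of f^*G on X, the dimension of its stalk at the generic point of X over the function field of
X, equals the rank of G on Y. -/
theorem result {X Y : Scheme.{u}} [IsIntegral X] [IsIntegral Y] (f : X ⟶ Y) [IsDominant f]
    (G : Y.Modules) (hG : Coh.IsQCoh G) :
    Module.rank ↑(X.presheaf.stalk (genericPoint ↥X)) ↑(((Scheme.Modules.pullback f).obj G).presheaf.stalk (genericPoint ↥X)) =
      Module.rank ↑(Y.presheaf.stalk (genericPoint ↥Y)) ↑(G.presheaf.stalk (genericPoint ↥Y)) := by
  haveI : G.IsQuasicoherent := hG
  have hη : f.base (genericPoint ↥X) = genericPoint ↥Y := by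
    apply ((genericPoint_spec ↥Y).eq _).symm
    have h1 := (genericPoint_spec ↥X).image f.continuous
    rw [Set.image_univ, f.denseRange.closure_range] at h1
    exact h1
  have hK : IsField ↑(Y.presheaf.stalk (f.base (genericPoint ↥X))) := by
    rw [hη]
    exact Field.toIsField Y.functionField
  rw [rank_stalk_pullback f G _ hK]
  exact rank_stalk_congr G hη

end Groth.Agent.S8888
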