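import Groth.Statements.S8896
import Groth.Agent.H46.FibreRegSeq

set_option autoImplicit false
universe u
open CategoryTheory CategoryTheory.Limits AlgebraicGeometry TopologicalSpace
open SDiv

namespace Groth.Agent.S8896

/-- Let φ : X ⟶ S be flat and locally of finite presentation and 𝓘 a quasi-coherent ideal sheaf on X
whose closed subscheme T is flat and locally of finite presentation over S. If for every point s of
S the fibre T_s ⟶ X_s (base change of T ⟶ X to the scheme-theoretic fibre) is a quasi-regular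
immersion, then T ⟶ X is a relative quasi-regular immersion. -/
theorem result {X S : Scheme.{u}} (φ : X ⟶ S) [Flat φ] [LocallyOfFinitePresentation φ]
    (𝓘 : X.IdealSheafData) [Flat (𝓘.subschemeι ≫ φ)] [LocallyOfFinitePresentation (𝓘.subschemeι ≫ φ)]
    (hfib : ∀ s : ↥S, RegImm.IsRegularImmersion RegImm.Kind.quasi (pullback.snd 𝓘.subschemeι (φ.fiberι s))) :
    RegImm.IsRelRegularImmersion RegImm.Kind.quasi φ 𝓘.subschemeι := by
  refine ⟨⟨inferInstance, fun z => ?_⟩, inferInstance⟩
  obtain ⟨U, V, hxU, e⟩ :=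
    Groth.Agent.Lib.Helper18.exists_affineOpens_le_preimage φ (𝓘.subschemeι z)
  obtain ⟨h, hxh, rs, hrs, hI⟩ := Groth.Agent.H46.FibreRegSeq.chart_claim φ 𝓘 V U e
    (𝓘.subschemeι z) hxU z rfl (φ (𝓘.subschemeι z)) (hfib _) (φ.asFiber (𝓘.subschemeι z))
    (φ.fiberι_asFiber (𝓘.subschemeι z))
  refine ⟨X.affineBasicOpen h, hxh, inferInstance, rs, hrs, ?_⟩
  rw [𝓘.ker_subschemeι_app (X.affineBasicOpen h)]
  exact hI

end Groth.Agent.S8896
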