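import Groth.Statements.S8899
import Groth.Agent.Lib.Helper16.FlatPull.Stalk
import Groth.Agent.Lib.Helper45.WeakAssFlat
import Groth.Agent.Lib.Helper45.WeakAssPoint

set_option autoImplicit false
set_option linter.style.haveILetI false
universe u
open CategoryTheory CategoryTheory.Limits AlgebraicGeometry TopologicalSpace
open SDiv

namespace Groth.Agent.S8899

open Groth.Agent.Lib.Helper45 IsLocalRing

/-- Flat local base change: if `𝔪_A` is weakly associated to `M`, `B` is flat over `A`, and
`𝔪_B` is the only prime of `B` over `𝔪_A B`, then `𝔪_B` is weakly associated to `B ⊗ M`. -/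
theorem maximalIdeal_mem_weakAss_of_isBaseChange {A B : Type u} [CommRing A] [CommRing B]
    [IsLocalRing A] [IsLocalRing B] [Algebra A B] [Module.Flat A B]
    (hloc : (maximalIdeal A).map (algebraMap A B) ≤ maximalIdeal B)
    (hfib : ∀ q : Ideal B, q.IsPrime → (maximalIdeal A).map (algebraMap A B) ≤ q →
      q = maximalIdeal B)
    {M N : Type u} [AddCommGroup M] [Module A M] [AddCommGroup N] [Module B N] [Module A N]
    [IsScalarTower A B N] (ψ : M →ₗ[A] N) (hψ : IsBaseChange B ψ)
    (h : maximalIdeal A ∈ FlatCA.weakAss A M) : maximalIdeal B ∈ FlatCA.weakAss B N := by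
  obtain ⟨m, hm⟩ := h
  refine ⟨ψ m, ?_⟩
  have hann : annEl B (ψ m) = (annEl A m).map (algebraMap A B) := by
    rw [← annEl_one_tmul_of_flat (B := B) m]
    ext b
    rw [mem_annEl, mem_annEl, ← hψ.equiv_tmul, LinearEquiv.map_eq_zero_iff,
      TensorProduct.smul_tmul', smul_eq_mul, mul_one]
  change maximalIdeal B ∈ (annEl B (ψ m)).minimalPrimes
  rw [hann]
  refine ⟨⟨inferInstance, (Ideal.map_mono hm.1.2).trans hloc⟩, ?_⟩
  rintro q ⟨hq, hle⟩ _
  have hcomap : maximalIdeal A ≤ q.comap (algebraMap A B) := by
    haveI := hq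
    refine hm.2 ⟨inferInstance, Ideal.map_le_iff_le_comap.mp hle⟩ ?_
    exact IsLocalRing.le_maximalIdeal (Ideal.IsPrime.ne_top inferInstance)
  have := hfib q hq (Ideal.map_le_iff_le_comap.mpr hcomap)
  exact this.ge

/-- Let f : X ⟶ S be a morphism of schemes, G a quasi-coherent O_S-module and x a point of X over s = f
x such that f is flat at x, no point of f⁻¹(s) other than x specialises to x (x is the generic point
of some irreducible component of the fibre X_s), and s is weakly associated to G. Then x is weakly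
associated to f^*G. -/
theorem result {X S : Scheme.{u}} (f : X ⟶ S) (G : S.Modules) (hG : Coh.IsQCoh G)
    (x : ↥X) (hfl : (f.stalkMap x).hom.Flat) (hgen : ∀ y : ↥X, f y = f x → y ⤳ x → y = x)
    (hs : Curv2.IsWeakAssPoint G (f x)) : Curv2.IsWeakAssPoint ((Scheme.Modules.pullback f).obj G) x := by
  haveI : G.IsQuasicoherent := hG
  rw [isWeakAssPoint_iff_mem_weakAss_stalk] at hs ⊢
  letI := (f.stalkMap x).hom.toAlgebra
  letI : Module (S.presheaf.stalk (f.base x))
      (((Scheme.Modules.pullback f).obj G).presheaf.stalk x) :=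
    FlatMod.moduleStalkOver f ((Scheme.Modules.pullback f).obj G) x
  haveI : IsScalarTower (S.presheaf.stalk (f.base x)) (X.presheaf.stalk x)
      (((Scheme.Modules.pullback f).obj G).presheaf.stalk x) := IsScalarTower.of_compHom _ _ _
  obtain ⟨ψ, hψ⟩ := Groth.Agent.Lib.Helper16.FlatPull.exists_isBaseChange_stalk f G x
  haveI : Module.Flat (S.presheaf.stalk (f.base x)) (X.presheaf.stalk x) := hfl
  have hlocal : IsLocalHom (algebraMap (S.presheaf.stalk (f.base x)) (X.presheaf.stalk x)) :=
    inferInstanceAs (IsLocalHom (f.stalkMap x).hom)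
  refine maximalIdeal_mem_weakAss_of_isBaseChange ?_ ?_ ψ hψ hs
  · rw [Ideal.map_le_iff_le_comap]
    exact (IsLocalRing.local_hom_TFAE (algebraMap (S.presheaf.stalk (f.base x))
      (X.presheaf.stalk x))).out 0 3 |>.mp hlocal
  · intro q hq hle
    let qp : Spec (X.presheaf.stalk x) := ⟨q, hq⟩
    have hy1 : (X.fromSpecStalk x) qp ⤳ x := by
      have : (X.fromSpecStalk x) qp ∈ Set.range (X.fromSpecStalk x) := ⟨qp, rfl⟩
      rw [Scheme.range_fromSpecStalk] at this
      exact this
    have hcomap : q.comap (f.stalkMap x).hom = maximalIdeal (S.presheaf.stalk (f.base x)) := by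
      refine ((IsLocalRing.maximalIdeal.isMaximal _).eq_of_le ?_ ?_).symm
      · exact Ideal.IsPrime.ne_top inferInstance
      · exact Ideal.map_le_iff_le_comap.mp hle
    have hy2 : f ((X.fromSpecStalk x) qp) = f x := by
      have h1 := Scheme.SpecMap_stalkMap_fromSpecStalk f (x := x)
      have h2 : (Spec.map (f.stalkMap x) ≫ S.fromSpecStalk (f x)) qp =
          (X.fromSpecStalk x ≫ f) qp := by rw [h1]
      rw [Scheme.Hom.comp_apply, Scheme.Hom.comp_apply] at h2
      rw [← h2]
      have h3 : (Spec.map (f.stalkMap x)) qp = IsLocalRing.closedPoint _ := by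
        apply PrimeSpectrum.ext
        exact hcomap
      rw [h3, Scheme.fromSpecStalk_closedPoint]
    have hy3 := hgen _ hy2 hy1
    have hinj : Function.Injective (X.fromSpecStalk x) :=
      (X.fromSpecStalk x).isEmbedding.injective
    have : qp = IsLocalRing.closedPoint _ := by
      apply hinj
      rw [hy3, Scheme.fromSpecStalk_closedPoint]
    exact congrArg PrimeSpectrum.asIdeal this

end Groth.Agent.S8899
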