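import Groth.Statements.S8904
import Groth.Agent.Lib.Helper45.KTotalFrac
import Groth.Agent.Lib.Helper25.MaximalPoints

set_option autoImplicit false
universe u
open CategoryTheory CategoryTheory.Limits AlgebraicGeometry TopologicalSpace
open SDiv

namespace Groth.Agent.S8904

open Groth.Agent.Lib.Helper45

/-- Under the hypotheses of the statement, every affine open has finitely many weakly associated
primes. -/
theorem finite_weakAss (X : Scheme.{u})
    (ha : ∀ x : ↥X, Curv2.IsWeakAssPoint (Coh.structureModule X) x → ∀ y : ↥X, y ⤳ x → y = x)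
    (hb : ∀ U : X.Opens, IsCompact (U : Set ↥X) → (irreducibleComponents ↥(U : Scheme.{u})).Finite)
    {U : X.Opens} (hU : IsAffineOpen U) : (FlatCA.weakAss Γ(X, U) Γ(X, U)).Finite := by
  have hfinC := hb U hU.isCompact
  let T : Set ↥(U : Scheme.{u}) :=
    {y | Curv2.IsWeakAssPoint (Coh.structureModule X) (U.ι y)}
  have hT : T.Finite := by
    refine Set.Finite.of_finite_image (f := fun y : ↥(U : Scheme.{u}) => closure ({y} : Set _))
      (hfinC.subset ?_) ?_
    · rintro _ ⟨y, hy, rfl⟩
      rw [Groth.Agent.Lib.Helper25.closure_singleton_mem_irreducibleComponents_iff]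
      intro z hz
      have h1 : U.ι z ⤳ U.ι y := hz.map U.ι.continuous
      have h2 := ha _ hy _ h1
      exact U.ι.isOpenEmbedding.injective h2
    · intro y _ y' _ h
      exact (inseparable_iff_closure_eq.mpr h).eq
  refine (hT.image (fun y : ↥(U : Scheme.{u}) => (hU.primeIdealOf ⟨U.ι y, y.2⟩).asIdeal)).subset ?_
  intro p hp
  have hpP : p.IsPrime := isPrime_of_mem_weakAss hp
  obtain ⟨x, hx⟩ := exists_primeIdealOf_eq hU ⟨p, hpP⟩
  have hxp : (hU.primeIdealOf x).asIdeal = p := congrArg PrimeSpectrum.asIdeal hx
  refine ⟨⟨x.1, x.2⟩, ?_, hxp⟩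
  show Curv2.IsWeakAssPoint (Coh.structureModule X) (x : X)
  rw [isWeakAssPoint_structureModule_iff hU x, hxp]
  exact hp

/-- Let X be a scheme such that (a) each weakly associated point of X (of O_X) has no proper
generization, i.e. is the generic point of some irreducible component, and (b) every quasi-compact
open of X has finitely many irreducible components. Then for every point x the monoid S_x of germs
of regular sections is the set of all nonzerodivisors of O_{X,x} (so K_{X,x} is the total ring of
fractions of O_{X,x}), and for every affine open U the ring K_X(U) is the total ring of fractions of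
O_X(U). -/
theorem result (X : Scheme.{u})
    (ha : ∀ x : ↥X, Curv2.IsWeakAssPoint (Coh.structureModule X) x → ∀ y : ↥X, y ⤳ x → y = x)
    (hb : ∀ U : X.Opens, IsCompact (U : Set ↥X) → (irreducibleComponents ↥(U : Scheme.{u})).Finite) :
    (∀ x : ↥X, Mero.regStalk X x = nonZeroDivisors ↑(X.presheaf.stalk x)) ∧
      ∀ U : X.affineOpens,
        @IsLocalization Γ(X, U.1) _ (nonZeroDivisors Γ(X, U.1)) Γ(Mero.kmod X, U.1) _ (Mero.toK X U.1).toAlgebra := by
  constructor
  · intro x
    obtain ⟨_, ⟨U, hU : IsAffineOpen U, rfl⟩, hxU, -⟩ :=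
      X.isBasis_affineOpens.exists_subset_of_mem_open (Set.mem_univ x) isOpen_univ
    exact regStalk_eq_nonZeroDivisors_of_finite hU (finite_weakAss X ha hb hU) ⟨x, hxU⟩
  · intro U
    exact isLocalization_kmod_of_finite_weakAss U.2 (finite_weakAss X ha hb U.2)

end Groth.Agent.S8904
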