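import Groth.Statements.S8911
import Groth.Agent.Lib.Helper45.StrictTransform
import Groth.Agent.S8872
import Groth.Agent.S6914

set_option autoImplicit false
set_option linter.style.haveILetI false
universe u
open CategoryTheory CategoryTheory.Limits AlgebraicGeometry TopologicalSpace
open SDiv

namespace Groth.Agent.S8911

/-- Let S be a scheme, F a quasi-coherent O_S-module of finite type, k ≥ 0, b : S' ⟶ S a blowing up of S
in the closed subscheme Z_k cut out by Fit_k(F), and π : b^*F ⟶ G the strict transform of F along b.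
Then G can locally be generated by at most k sections. -/
theorem result (S : Scheme.{u}) (F : S.Modules) (hF : Coh.IsQCoh F) (hft : CohB1.IsFT F)
    (k : ℕ) {S' : Scheme.{u}} (b : S' ⟶ S) (hb : BlowUp.IsBlowUp b (Fitt.sheafIdeal F k)) (G : S'.Modules)
    (π : (Scheme.Modules.pullback b).obj F ⟶ G) (hG : BlowUp.IsStrictTransform b (Fitt.sheafIdeal F k) F G π) (s' : ↥S') :
    ∃ U : S'.Opens, s' ∈ U ∧ ∃ q : FlatMod.freeMod (↑U) k ⟶ G.restrict U.ι, Epi q := by
  haveI : F.IsQuasicoherent := hF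
  haveI : SheafOfModules.IsFiniteType (R := S.ringCatSheaf) F := hft
  haveI hq' : ((Scheme.Modules.pullback b).obj F).IsQuasicoherent :=
    Groth.Agent.Lib.Helper16.FlatPull.isQuasicoherent_pullback b F
  haveI hft' : SheafOfModules.IsFiniteType (R := S'.ringCatSheaf)
      ((Scheme.Modules.pullback b).obj F) := Groth.Agent.S8872.isFiniteType_pullback b F
  have hE : (Fitt.sheafIdeal F k).comap b = Fitt.sheafIdeal ((Scheme.Modules.pullback b).obj F) k :=
    Groth.Agent.S8872.result b F hF hft k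
  obtain ⟨V, hs'V, f, hf, hfV⟩ := hb.1 s'
  have hfV' : Fitt.ideal Γ(S', V.1) Γ((Scheme.Modules.pullback b).obj F, V.1) k = Ideal.span {f} := by
    rw [← Groth.Agent.Lib.Helper45.sheafIdeal_ideal, ← hE]
    exact hfV
  haveI : Epi π := hG.1
  haveI : Module.Finite Γ(S', V.1) Γ((Scheme.Modules.pullback b).obj F, V.1) :=
    Groth.Agent.Lib.Helper45.finite_sections_of_isFiniteType V.2 _
  let T : Submodule Γ(S', V.1) Γ((Scheme.Modules.pullback b).obj F, V.1) :=
    LinearMap.ker (Groth.Agent.Lib.Helper49.appₗ π V.1)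
  have hT : ∀ m : Γ((Scheme.Modules.pullback b).obj F, V.1), f • m = 0 → m ∈ T := by
    intro m hm
    rw [LinearMap.mem_ker]
    change π.app V.1 m = 0
    rw [hG.2 V m]
    refine ⟨1, fun a ha => ?_⟩
    rw [pow_one] at ha
    have ha' : a ∈ Ideal.span {f} := by
      rw [← hfV]
      exact ha
    obtain ⟨c, rfl⟩ := Ideal.mem_span_singleton'.mp ha'
    rw [mul_smul, hm, smul_zero]
  have hfit := Groth.Agent.S6914.fitt_quotient_eq_top
    Γ((Scheme.Modules.pullback b).obj F, V.1) k f hfV' T hT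
  obtain ⟨g, hg, x, hx⟩ := Groth.Agent.Lib.Helper45.exists_generators_mod_of_fitt_eq_top T hfit
    (V.2.primeIdealOf ⟨s', hs'V⟩).asIdeal
  refine ⟨S'.basicOpen g, ?_, ?_⟩
  · exact (Groth.Agent.Lib.Helper45.mem_basicOpen_iff_not_mem_primeIdealOf V.2 ⟨s', hs'V⟩ g).mpr hg
  · refine Groth.Agent.Lib.Helper45.exists_epi_freeMod_basicOpen V.2 _ G π g x (fun m => ?_)
    obtain ⟨c, hc⟩ := hx m
    refine ⟨1, c, ?_⟩
    rw [pow_one]
    have h0 : π.app V.1 (g • m - ∑ i, c i • x i) = 0 := hc
    rw [map_sub, sub_eq_zero] at h0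
    exact h0

end Groth.Agent.S8911
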