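import Groth.Statements.S8912
import Groth.Agent.Lib.Helper45.StrictTransform
import Groth.Agent.Lib.Helper18.IdealComap
import Groth.Agent.S8872
import Groth.Agent.S4652

set_option autoImplicit false
set_option linter.style.haveILetI false
universe u
open CategoryTheory CategoryTheory.Limits AlgebraicGeometry TopologicalSpace
open SDiv

namespace Groth.Agent.S8912

open Groth.Agent.Lib.Helper45 Groth.Agent.Lib.Helper49 Groth.Agent.Lib.Helper10.Fitting

/-- Where `F` is locally free of rank `k ≥ 1`, the `(k-1)`-st Fitting ideal vanishes on small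
affine opens. -/
theorem exists_affine_fitt_eq_bot {S : Scheme.{u}} (F : S.Modules) [F.IsQuasicoherent]
    [SheafOfModules.IsFiniteType (R := S.ringCatSheaf) F] (k : ℕ) (hk : 1 ≤ k) (C : S.Opens)
    (hfree : FlatMod.IsFinLocFreeOfRank k (F.restrict C.ι)) (x : S) (hx : x ∈ C) :
    ∃ W' : S.affineOpens, x ∈ W'.1 ∧ (Fitt.sheafIdeal F (k - 1)).ideal W' = ⊥ := by
  obtain ⟨xC, rfl⟩ : ∃ xC : C, (xC : S) = x := ⟨⟨x, hx⟩, rfl⟩
  obtain ⟨U', hxU', ⟨φ⟩⟩ := hfree xC
  let φ' : F.restrict (U'.ι ≫ C.ι) ≅ FlatMod.freeMod (↑U') k :=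
    (Scheme.Modules.restrictFunctorComp U'.ι C.ι).app F ≪≫ φ
  obtain ⟨ψ⟩ := Groth.Agent.S4652.nonempty_iso_freeMod_opensRange F (U'.ι ≫ C.ι) k φ'
  have hxW₀ : (xC : S) ∈ (U'.ι ≫ C.ι).opensRange := by
    refine ⟨⟨xC, hxU'⟩, ?_⟩
    rfl
  obtain ⟨_, ⟨W', hW' : IsAffineOpen W', rfl⟩, hxW', hW'W₀⟩ :=
    S.isBasis_affineOpens.exists_subset_of_mem_open hxW₀ (U'.ι ≫ C.ι).opensRange.2
  refine ⟨⟨W', hW'⟩, hxW', ?_⟩
  rw [sheafIdeal_ideal]
  have e := sectionsEquivOfIsoFree F k (isoFreeOfLE hW'W₀ F k ψ)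
  exact fitt_eq_bot_of_basis (Module.Basis.ofEquivFun e) (by simp only [Fintype.card_fin]; omega)

/-- Let S be a scheme, F a quasi-coherent O_S-module of finite type and k ≥ 0 such that F is locally
free of rank k on the complement of the closed subscheme Z_k cut out by Fit_k(F). Let b : S' ⟶ S be
a blowing up of S in Z_k and π : b^*F ⟶ G the strict transform of F. Then G is finite locally free
of rank k. -/
theorem result (S : Scheme.{u}) (F : S.Modules) (hF : Coh.IsQCoh F) (hft : CohB1.IsFT F)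
    (k : ℕ) (hfree : FlatMod.IsFinLocFreeOfRank k (F.restrict (Scheme.Opens.ι (Fitt.sheafIdeal F k).support.compl)))
    {S' : Scheme.{u}} (b : S' ⟶ S) (hb : BlowUp.IsBlowUp b (Fitt.sheafIdeal F k)) (G : S'.Modules)
    (π : (Scheme.Modules.pullback b).obj F ⟶ G) (hG : BlowUp.IsStrictTransform b (Fitt.sheafIdeal F k) F G π) :
    FlatMod.IsFinLocFreeOfRank k G := by
  haveI : F.IsQuasicoherent := hF
  haveI : SheafOfModules.IsFiniteType (R := S.ringCatSheaf) F := hft
  haveI hq' : ((Scheme.Modules.pullback b).obj F).IsQuasicoherent :=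
    Groth.Agent.Lib.Helper16.FlatPull.isQuasicoherent_pullback b F
  haveI hft' : SheafOfModules.IsFiniteType (R := S'.ringCatSheaf)
      ((Scheme.Modules.pullback b).obj F) := Groth.Agent.S8872.isFiniteType_pullback b F
  have hE : (Fitt.sheafIdeal F k).comap b = Fitt.sheafIdeal ((Scheme.Modules.pullback b).obj F) k :=
    Groth.Agent.S8872.result b F hF hft k
  haveI : Epi π := hG.1
  intro s'
  obtain ⟨V, hs'V, f, hf, hfV⟩ := hb.1 s'
  have hfV' : Fitt.ideal Γ(S', V.1) Γ((Scheme.Modules.pullback b).obj F, V.1) k = Ideal.span {f} := by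
    rw [← sheafIdeal_ideal, ← hE]
    exact hfV
  refine exists_iso_freeMod_of_fitt ((Scheme.Modules.pullback b).obj F) G π k V.2 s'
    hs'V f hf hfV' ?_ ?_
  · intro W hW hWV m
    rw [hG.2 ⟨W, hW⟩ m]
    exact killedByPowerNear_iff _ _ hfV ⟨W, hW⟩ hWV m
  · rcases Nat.eq_zero_or_pos k with hk | hk
    · exact Or.inl hk
    right
    intro W hW hWV z hz
    set fW := S'.presheaf.map (homOfLE hWV).op f with hfW
    have hEW : ((Fitt.sheafIdeal F k).comap b).ideal ⟨W, hW⟩ = Ideal.span {fW} := by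
      rw [← ((Fitt.sheafIdeal F k).comap b).map_ideal (U := ⟨W, hW⟩) (V := V) hWV, hfV,
        Ideal.map_span, Set.image_singleton]
      rfl
    set 𝓙 := (Fitt.sheafIdeal F (k - 1)).comap b with h𝓙
    have hz' : z ∈ 𝓙.ideal ⟨W, hW⟩ := by
      rw [h𝓙, Groth.Agent.S8872.result b F hF hft (k - 1), sheafIdeal_ideal]
      exact hz
    -- `z` vanishes on `D(fW)`
    have hzero : S'.presheaf.map (homOfLE (S'.basicOpen_le fW)).op z = 0 := by
      refine TopCat.Presheaf.section_ext S'.sheaf (S'.basicOpen fW) _ _ (fun y hy => ?_)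
      have hyW : y ∈ W := S'.basicOpen_le fW hy
      -- `b y` lies off the support of `Fit_k(F)`
      have hy1 : y ∉ ((Fitt.sheafIdeal F k).comap b).support := by
        rw [Scheme.IdealSheafData.mem_support_iff_of_mem (U := ⟨W, hW⟩) hyW, hEW,
          Scheme.zeroLocus_span, Scheme.mem_zeroLocus_iff]
        intro h
        exact h fW (Set.mem_singleton _) hy
      rw [Scheme.IdealSheafData.support_comap] at hy1
      have hby : b y ∈ (Fitt.sheafIdeal F k).support.compl := hy1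
      obtain ⟨W', hbyW', hW'bot⟩ := exists_affine_fitt_eq_bot F k hk _ hfree (b y) hby
      obtain ⟨_, ⟨W₁, hW₁ : IsAffineOpen W₁, rfl⟩, hyW₁, hW₁le⟩ :=
        S'.isBasis_affineOpens.exists_subset_of_mem_open
          (show y ∈ S'.basicOpen fW ⊓ b ⁻¹ᵁ W'.1 from ⟨hy, hbyW'⟩) (S'.basicOpen fW ⊓ b ⁻¹ᵁ W'.1).2
      have hW₁D : W₁ ≤ S'.basicOpen fW := fun a ha => (hW₁le ha).1
      have hW₁W' : W₁ ≤ b ⁻¹ᵁ W'.1 := fun a ha => (hW₁le ha).2
      have hW₁W : W₁ ≤ W := hW₁D.trans (S'.basicOpen_le fW)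
      have hJbot : 𝓙.ideal ⟨W₁, hW₁⟩ = ⊥ := by
        rw [h𝓙, Groth.Agent.Lib.Helper18.ideal_comap_of_le b _ ⟨W₁, hW₁⟩ W' hW₁W', hW'bot,
          Ideal.map_bot]
      have hzW₁ : S'.presheaf.map (homOfLE hW₁W).op z = 0 := by
        have : S'.presheaf.map (homOfLE hW₁W).op z ∈ 𝓙.ideal ⟨W₁, hW₁⟩ := by
          rw [← 𝓙.map_ideal (U := ⟨W₁, hW₁⟩) (V := ⟨W, hW⟩) hW₁W]
          exact Ideal.mem_map_of_mem _ hz'
        rw [hJbot] at this
        exact this
      change S'.presheaf.germ (S'.basicOpen fW) y hy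
        (S'.presheaf.map (homOfLE (S'.basicOpen_le fW)).op z) =
        S'.presheaf.germ (S'.basicOpen fW) y hy 0
      rw [map_zero, ← TopCat.Presheaf.germ_res_apply S'.presheaf (homOfLE hW₁D) y hyW₁]
      have h3 : S'.presheaf.map (homOfLE hW₁D).op
          (S'.presheaf.map (homOfLE (S'.basicOpen_le fW)).op z) =
          S'.presheaf.map (homOfLE hW₁W).op z := by
        rw [← ConcreteCategory.comp_apply, ← Functor.map_comp]
        rfl
      rw [h3, hzW₁, map_zero]
    have hloc := hW.isLocalization_basicOpen fW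
    have h2 : algebraMap Γ(S', W) Γ(S', S'.basicOpen fW) z = 0 := hzero
    rw [IsLocalization.map_eq_zero_iff (Submonoid.powers fW)] at h2
    obtain ⟨⟨_, n, rfl⟩, hn⟩ := h2
    exact ⟨n, hn⟩

end Groth.Agent.S8912
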