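import Groth.Statements.S8915
import Groth.Agent.Lib.Helper13.OmegaQCoh
import Groth.Agent.Lib.Helper13.FittSheaf
import Groth.Agent.Lib.Helper13.UnramNbhd

set_option autoImplicit false
universe u
open CategoryTheory CategoryTheory.Limits AlgebraicGeometry TopologicalSpace
open SDiv

namespace Groth.Agent.S8915

open Groth.Agent.Lib.Helper13 in
/-- Let f : X ⟶ S be locally of finite type and quasi-separated. Then the closed subset of X defined by
the Fitting ideal Fit_0(Ω_{X/S}) is exactly the set of points at which f is not unramified, i.e.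
which have no open neighbourhood on which f is formally unramified. The published statement does not
assume f quasi-separated; this row does, because the module Ω_{X/S} used here is defined for
quasi-separated f. -/
theorem result {X S : Scheme.{u}} (f : X ⟶ S) [LocallyOfFiniteType f] [QuasiSeparated f]
    (x : ↥X) :
    x ∈ (Fitt.sheafIdeal (Omega.sheaf f) 0).support ↔ ¬ ∃ U : X.Opens, x ∈ U ∧ FormallyUnramified (U.ι ≫ f) := by
  have hq : SheafOfModules.IsQuasicoherent.{u, u, u} (Omega.sheaf f) :=
    OmegaQCoh.isQuasicoherent_omega f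
  have hft : SheafOfModules.IsFiniteType (R := X.ringCatSheaf) (Omega.sheaf f) :=
    OmegaQCoh.isFiniteType_omega f
  rw [FittSheaf.mem_support_sheafIdeal_zero_iff, ← not_subsingleton_iff_nontrivial, not_iff_not]
  obtain ⟨_, ⟨V, hV, rfl⟩, hxV, -⟩ := S.isBasis_affineOpens.exists_subset_of_mem_open
    (Set.mem_univ (f x)) isOpen_univ
  obtain ⟨_, ⟨U, hU, rfl⟩, hxU, hUV⟩ := X.isBasis_affineOpens.exists_subset_of_mem_open
    (show x ∈ (f ⁻¹ᵁ V : Set X) from hxV) (f ⁻¹ᵁ V).2
  let := (f.appLE V U hUV).hom.toAlgebra
  obtain ⟨e⟩ := OmegaChart.nonempty_omega_chart_iso f hU hV hUV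
  rw [OmegaStalk.subsingleton_stalk_iff_of_chart _ hU _ e x hxU,
    ← OmegaStalk.isUnramifiedAt_iff_subsingleton_localizedModule,
    ← OmegaStalk.formallyUnramified_stalkMap_iff V hV U hU hUV hxU]
  constructor
  · exact UnramNbhd.exists_nbhd_of_formallyUnramified_stalkMap f x
  · rintro ⟨W, hxW, hW⟩
    exact UnramNbhd.formallyUnramified_stalkMap_of_nbhd f x W hxW

end Groth.Agent.S8915
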