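import Groth.Statements.S8916
import Groth.Agent.S16253
import Groth.Agent.Lib.Helper13.SmoothFibreCons
import Groth.Agent.Lib.Helper14.SmoothFibre
import Groth.Agent.Lib.Helper55.Equidim

set_option autoImplicit false
universe u
open CategoryTheory CategoryTheory.Limits AlgebraicGeometry TopologicalSpace
open SDiv

namespace Groth.Agent.S8916

/-- Let f : X ⟶ S be flat, locally of finite presentation and quasi-separated, and d ≥ 0 such that all
irreducible components of each nonempty fibre of f have dimension d. Then the closed subset of X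
defined by the Fitting ideal Fit_d(Ω_{X/S}) is exactly the set of points at which f is not smooth,
i.e. which have no open neighbourhood on which f is smooth. The published statement does not assume
f quasi-separated; this row does, because the module Ω_{X/S} used here is defined for
quasi-separated f. -/
theorem result {X S : Scheme.{u}} (f : X ⟶ S) [Flat f] [LocallyOfFinitePresentation f] [QuasiSeparated f]
    (d : ℕ) (hdim : ∀ s : ↥S, ∀ T ∈ irreducibleComponents ↥(f.fiber s), topologicalKrullDim ↥T = d) (x : ↥X) :
    x ∈ (Fitt.sheafIdeal (Omega.sheaf f) d).support ↔ ¬ ∃ U : X.Opens, x ∈ U ∧ Smooth (U.ι ≫ f) := by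
  classical
  obtain ⟨W, hW, hxW, -⟩ := exists_isAffineOpen_mem_and_subset (x := f x) (U := ⊤) trivial
  obtain ⟨V, hV, hxV, eV⟩ := exists_isAffineOpen_mem_and_subset (x := x) (U := f ⁻¹ᵁ W) hxW
  let algWV : Algebra Γ(S, W) Γ(X, V) := (f.appLE W V eV).hom.toAlgebra
  have : Algebra.FinitePresentation Γ(S, W) Γ(X, V) := f.finitePresentation_appLE hW hV eV
  have : (hV.primeIdealOf ⟨x, hxV⟩).asIdeal.IsPrime := (hV.primeIdealOf ⟨x, hxV⟩).2
  have hK : IsField (S.residueField (f x)) := Field.toIsField _
  have H : IsPullback (f.fiberι (f x)) (f.fiberToSpecResidueField (f x)) f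
      (S.fromSpecResidueField (f x)) := IsPullback.of_hasPullback f _
  have hlfp : LocallyOfFinitePresentation (f.fiberToSpecResidueField (f x)) :=
    inferInstanceAs (LocallyOfFinitePresentation
      (pullback.snd f (S.fromSpecResidueField (f x))))
  have hlft : LocallyOfFiniteType (f.fiberToSpecResidueField (f x)) := inferInstance
  -- local dimension of the fibre at the point is d
  have hloc : FlatMor.localDim ↥(f.fiber (f x)) (f.asFiber x) = (d : WithBot ℕ∞) := by
    let g : f.fiber (f x) ⟶ Spec (CommRingCat.of (S.residueField (f x))) :=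
      f.fiberToSpecResidueField (f x)
    have hg : LocallyOfFiniteType g := hlft
    exact (Groth.Agent.Lib.Helper55.forall_irreducibleComponents_dim_eq_iff g
      (d : WithBot ℕ∞)).mp (hdim (f x)) (f.asFiber x)
  -- smoothness at x ↔ smoothness of the fibre at x
  have hsm : x ∈ f.smoothLocus ↔
      f.asFiber x ∈ (f.fiberToSpecResidueField (f x)).smoothLocus := by
    constructor
    · intro hx
      refine Groth.Agent.Lib.Helper14.mem_smoothLocus_of_isPullback H (f.asFiber x) ?_
      rw [f.fiberι_asFiber x]
      exact hx
    · intro hx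
      exact Groth.Agent.Lib.Helper14.mem_smoothLocus_of_isPullback_field hK H (f.asFiber x) x
        (f.fiberι_asFiber x) (Flat.stalkMap f x) hx
  have hA := Groth.Agent.Lib.Helper13.SmoothFibreCons.mem_smoothLocus_fiber_iff f (f x)
    (f.asFiber x) hW hV eV x (f.fiberι_asFiber x) hxV
  have h1 := Groth.Agent.S16253.not_mem_support_iff f d hV hW eV x hxV
  have h2 := (Groth.Agent.S6894.result Ω[Γ(X, V)⁄Γ(S, W)] d
    (hV.primeIdealOf ⟨x, hxV⟩).asIdeal).1
  rw [Groth.Agent.Lib.Helper14.exists_smooth_nhd_iff_mem_smoothLocus, hsm, hA, hloc,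
    ← not_iff_not, not_not, h1, h2]
  norm_cast

end Groth.Agent.S8916
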