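import Groth.Statements.S8919
-- import your own Groth.Agent.* helpers here
import Groth.Agent.Lib.Helper51.OmegaUniv.ConormalH1
import Groth.Agent.Lib.Helper51.OmegaUniv.DiffCompatIso
import Groth.Agent.Lib.Helper51.OmegaUniv.ExactCover

set_option autoImplicit false
universe u
open CategoryTheory CategoryTheory.Limits AlgebraicGeometry TopologicalSpace
open SDiv

namespace Groth.Agent.S8919

/-- Let i : Z ⟶ Y and j : Y ⟶ X be quasi-compact immersions of schemes with i an H_1-regular immersion,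
and let a : i^*C_{Y/X} ⟶ C_{Z/X} and b : C_{Z/X} ⟶ C_{Z/Y} be the canonical maps of conormal
sheaves. Then the canonical sequence 0 → i^*C_{Y/X} → C_{Z/X} → C_{Z/Y} → 0 is exact and locally
split; here local splitting is recorded through C_{Z/Y} being finite locally free. The published
statement allows arbitrary immersions; this row takes both immersions quasi-compact, the case in
which the conormal sheaves used here are those of the immersions. -/
theorem result {Z Y X : Scheme.{u}} (i : Z ⟶ Y) (j : Y ⟶ X) [IsImmersion i] [IsImmersion j]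
    [QuasiCompact i] [QuasiCompact j]
    (a : (Scheme.Modules.pullback i).obj (Omega.conormal j) ⟶ Omega.conormal (i ≫ j))
    (ha : OmegaSh.IsConormalMap (i ≫ j) j (𝟙 X) i a)
    (b : (Scheme.Modules.pullback (𝟙 Z)).obj (Omega.conormal (i ≫ j)) ⟶ Omega.conormal i)
    (hb : OmegaSh.IsConormalMap i (i ≫ j) j (𝟙 Z) b)
    (hi : RegImm.IsRegularImmersion RegImm.Kind.h1 i) :
    a ≫ ((Scheme.Modules.pullbackId Z).inv.app (Omega.conormal (i ≫ j)) ≫ b) = 0 ∧
      (∀ w : a ≫ ((Scheme.Modules.pullbackId Z).inv.app (Omega.conormal (i ≫ j)) ≫ b) = 0, (ShortComplex.mk a ((Scheme.Modules.pullbackId Z).inv.app (Omega.conormal (i ≫ j)) ≫ b) w).ShortExact) ∧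
      FlatMod.IsFinLocFree (Omega.conormal i) := by
  have hqf : (Omega.conormal j).IsQuasicoherent :=
    Groth.Agent.Lib.Helper16.FlatPull.isQuasicoherent_pullback j (ClSub.idealMod j.ker)
  have hq₁ : ((Scheme.Modules.pullback i).obj (Omega.conormal j)).IsQuasicoherent :=
    Groth.Agent.Lib.Helper16.FlatPull.isQuasicoherent_pullback i (Omega.conormal j)
  have hq₂ : (Omega.conormal (i ≫ j)).IsQuasicoherent :=
    Groth.Agent.Lib.Helper16.FlatPull.isQuasicoherent_pullback (i ≫ j)
      (ClSub.idealMod (i ≫ j).ker)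
  have hq₂' : ((𝟭 Z.Modules).obj (Omega.conormal (i ≫ j))).IsQuasicoherent := hq₂
  have hq₃ : (Omega.conormal i).IsQuasicoherent :=
    Groth.Agent.Lib.Helper16.FlatPull.isQuasicoherent_pullback i (ClSub.idealMod i.ker)
  have w : a ≫ ((Scheme.Modules.pullbackId Z).inv.app (Omega.conormal (i ≫ j)) ≫ b) = 0 :=
    Groth.Agent.Lib.Helper51.OmegaUniv.conormal_triple_comp_zero j i ha hb
  have chart : ∀ z : Z, ∃ W : Z.Opens, IsAffineOpen W ∧ z ∈ W ∧
      Function.Surjective (((Scheme.Modules.pullbackId Z).inv.app (Omega.conormal (i ≫ j)) ≫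
        b).app W) ∧
      (∀ n : Γ(Omega.conormal (i ≫ j), W),
        ((Scheme.Modules.pullbackId Z).inv.app (Omega.conormal (i ≫ j)) ≫ b).app W n = 0 →
          ∃ m, a.app W m = n) ∧ Function.Injective (a.app W) := by
    intro z
    obtain ⟨V, hV, hzV, hU, hAB, hW, hAC, c, g, hg, hspan⟩ :=
      Groth.Agent.Lib.Helper51.OmegaUniv.exists_triple_h1_chart j i z (hi.2 z)
    obtain ⟨hs, he⟩ := Groth.Agent.Lib.Helper51.OmegaUniv.conormal_triple_chart j i ha hb
      hV hU hAB hW hAC
    exact ⟨i ⁻¹ᵁ (j ⁻¹ᵁ V), hW, hzV, hs, he,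
      Groth.Agent.Lib.Helper51.OmegaUniv.conormalMap₁_app_injective_chart j i ha hV hU hAB hW hAC
        g hg hspan⟩
  refine ⟨w, fun w' => ?_, Groth.Agent.Lib.Helper51.OmegaUniv.isFinLocFree_conormal_of_h1 i hi.2⟩
  have hepi : Epi ((Scheme.Modules.pullbackId Z).inv.app (Omega.conormal (i ≫ j)) ≫ b) := by
    apply Groth.Agent.Lib.Helper51.OmegaUniv.epi_of_app_surjective_of_cover
    intro z
    obtain ⟨W, hW, hzW, hs, -, -⟩ := chart z
    exact ⟨W, hW, hzW, hs⟩
  have hex : (ShortComplex.mk a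
      ((Scheme.Modules.pullbackId Z).inv.app (Omega.conormal (i ≫ j)) ≫ b) w').Exact := by
    apply Groth.Agent.Lib.Helper51.OmegaUniv.exact_of_app_exact_of_cover
    intro z
    obtain ⟨W, hW, hzW, -, he, -⟩ := chart z
    exact ⟨W, hW, hzW, he⟩
  have hmono : Mono a := by
    apply Groth.Agent.Lib.Helper51.OmegaUniv.mono_of_app_injective_of_cover
    intro z
    obtain ⟨W, hW, hzW, -, -, hinj⟩ := chart z
    exact ⟨W, hW, hzW, hinj⟩
  exact { exact := hex, mono_f := hmono, epi_g := hepi }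

end Groth.Agent.S8919
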