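import Groth.Statements.S8923
import Groth.Agent.Lib.Helper45.InvOrd
import Groth.Agent.H8.OrdLocFinite

set_option autoImplicit false
set_option linter.style.haveILetI false
universe u
open CategoryTheory CategoryTheory.Limits AlgebraicGeometry TopologicalSpace
open SDiv

namespace Groth.Agent.S8923

/-- Let X be an integral scheme that is locally Noetherian, L an invertible O_X-module and s a nonzero
rational (regular meromorphic) section of L, viewed as a nonzero element of the stalk of L at the
generic point. Then the collection of prime divisors Z ⊆ X with ord_{Z,L}(s) ≠ 0, i.e. the closures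
of the codimension-1 points x (dim O_{X,x} = 1) along which s has nonzero order, is locally finite
in X. -/
theorem result (X : Scheme.{u}) [IsIntegral X] [IsLocallyNoetherian X] (L : X.Modules)
    (hL : PicF.IsInvertible L) (s : Cyc.secFibre L (genericPoint ↥X)) (hs : s ≠ 0) :
    LocallyFinite (fun x : {x : ↥X // ringKrullDim ↑(X.presheaf.stalk x) = 1 ∧
        Cyc.secOrdAt L (genericPoint ↥X) x ((genericPoint_spec ↥X).specializes (Set.mem_univ x)) s ≠ 0} => closure ({x.1} : Set ↥X)) := by
  classical
  letI : Field (X.presheaf.stalk (genericPoint X)) := inferInstanceAs (Field X.functionField)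
  obtain ⟨σ, rfl⟩ := Groth.Agent.Lib.Helper45.OrdGeneric.secFibre_mk_surjective L s
  have hσ : σ ≠ 0 := by
    rintro rfl
    exact hs rfl
  intro y
  obtain ⟨W, hyW, τ, hτ⟩ := Groth.Agent.Lib.Helper45.exists_isBasisOn_of_isInvertible hL y
  have hηW : genericPoint X ∈ W := (genericPoint_specializes y).mem_open W.isOpen hyW
  obtain ⟨φ, hφ⟩ : ∃ φ : X.presheaf.stalk (genericPoint X),
      φ • L.presheaf.germ W (genericPoint X) hηW τ = σ :=
    Submodule.mem_span_singleton.mp (by
      rw [Groth.Agent.Lib.Helper45.InvOrd.germ_basis_span hτ _ hηW]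
      exact Submodule.mem_top)
  have hφ0 : φ ≠ 0 := by
    rintro rfl
    rw [zero_smul] at hφ
    exact hσ hφ.symm
  obtain ⟨t', ht'mem, ht'fin⟩ := Groth.Agent.H8.ord_ne_zero_locallyFinite X φ hφ0 y
  refine ⟨(W : Set X) ∩ t', Filter.inter_mem (W.isOpen.mem_nhds hyW) ht'mem, ?_⟩
  apply Set.Finite.of_finite_image (f := Subtype.val) _ Subtype.val_injective.injOn
  apply (ht'fin.image Subtype.val).subset
  rintro _ ⟨i, ⟨z, hz1, hzW, hzt'⟩, rfl⟩
  have hspec : i.1 ⤳ z := specializes_iff_mem_closure.mpr hz1
  have hiW : i.1 ∈ W := hspec.mem_open W.isOpen hzW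
  have hcx : Order.coheight i.1 = 1 :=
    (Groth.Agent.Lib.Helper45.OrdGeneric.coheight_eq_one_iff _).mpr i.2.1
  have key := Groth.Agent.Lib.Helper45.InvOrd.secOrdAt_eq_ord_of_isBasisOn hτ i.1 hiW hcx
    ((genericPoint_spec ↥X).specializes (Set.mem_univ i.1)) φ hηW
  rw [hφ] at key
  refine ⟨⟨i.1, hcx, ?_⟩, ⟨z, hz1, hzt'⟩, rfl⟩
  rw [← key]
  exact i.2.2

end Groth.Agent.S8923
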