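import Groth.Statements.S8924
-- import your own Groth.Agent.* helpers here

set_option autoImplicit false
universe u v
open InjHull

namespace Groth.Agent.S8924

/-- For a submodule M of an R-module N, the inclusion of M into N is an essential injection if and only
if every nonzero element x of N has a multiple f • x which is a nonzero element of M. -/
theorem result (R : Type u) [CommRing R] (N : Type v) [AddCommGroup N] [Module R N] (M : Submodule R N) : InjHull.IsEssentialInj M.subtype ↔ ∀ x : N, x ≠ 0 → ∃ f : R, f • x ∈ M ∧ f • x ≠ 0 := by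
  constructor
  · intro h x hx
    have hN : (R ∙ x) ≠ ⊥ := by
      rw [Ne, Submodule.span_singleton_eq_bot]
      exact hx
    have := h.essential (R ∙ x) hN
    rw [Submodule.ne_bot_iff] at this
    obtain ⟨y, ⟨hy1, hy2⟩, hy0⟩ := this
    rw [SetLike.mem_coe, Submodule.mem_span_singleton] at hy1
    obtain ⟨f, rfl⟩ := hy1
    refine ⟨f, ?_, hy0⟩
    simpa using hy2
  · intro h
    refine ⟨M.injective_subtype, fun N' hN' => ?_⟩
    rw [Submodule.ne_bot_iff] at hN' ⊢
    obtain ⟨x, hx, hx0⟩ := hN'
    obtain ⟨f, hf, hf0⟩ := h x hx0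
    exact ⟨f • x, ⟨N'.smul_mem f hx, by simpa using hf⟩, hf0⟩

end Groth.Agent.S8924
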