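import Groth.Statements.S8925
-- import your own Groth.Agent.* helpers here

set_option autoImplicit false
universe u
open InjHull

namespace Groth.Agent.S8925

open TensorProduct in
/-- If S is a flat R-algebra and E is an injective S-module, then E, viewed as an R-module by
restriction of scalars, is an injective R-module. -/
theorem result (R S : Type u) [CommRing R] [CommRing S] [Algebra R S] [Module.Flat R S] (E : Type u) [AddCommGroup E] [Module S E] [Module R E] [IsScalarTower R S E] [Module.Injective S E] : Module.Injective R E := by
  constructor
  intro X Y _ _ _ _ f hf g
  -- base change f to S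
  have hinj : Function.Injective (f.baseChange S) :=
    Module.Flat.lTensor_preserves_injective_linearMap f hf
  -- the S-linear map S ⊗ X → E induced by g
  let g' : S ⊗[R] X →ₗ[S] E := LinearMap.liftBaseChange S g
  obtain ⟨h, hh⟩ := Module.Injective.extension_property S E (S ⊗[R] X) (S ⊗[R] Y)
    (f.baseChange S) hinj g'
  refine ⟨(h.restrictScalars R).comp (TensorProduct.mk R S Y 1), fun x => ?_⟩
  have := congrArg (fun φ => φ (1 ⊗ₜ[R] x)) hh
  simpa [g'] using this

end Groth.Agent.S8925
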