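import Groth.Statements.S8926
-- import your own Groth.Agent.* helpers here

set_option autoImplicit false
universe u
open InjHull

namespace Groth.Agent.S8926

open TensorProduct in
/-- For an epimorphism `R → S`, an `R`-linear map between `S`-modules is `S`-linear. -/
theorem map_smul_of_isEpi (R S : Type*) [CommRing R] [CommRing S] [Algebra R S] [Algebra.IsEpi R S]
    {Y E : Type*} [AddCommGroup Y] [Module S Y] [Module R Y] [IsScalarTower R S Y]
    [AddCommGroup E] [Module S E] [Module R E] [IsScalarTower R S E]
    (h : Y →ₗ[R] E) (s : S) (y : Y) : h (s • y) = s • h y := by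
  let φ₁ : S ⊗[R] Y →ₗ[R] E :=
    h ∘ₗ (TensorProduct.lift <| LinearMap.restrictScalars₁₂ R R (LinearMap.lsmul S Y))
  let φ₂ : S ⊗[R] Y →ₗ[R] E :=
    (TensorProduct.lift <| LinearMap.restrictScalars₁₂ R R (LinearMap.lsmul S E)) ∘ₗ
      (h.lTensor S)
  have key : ∀ z : S ⊗[R] Y, φ₁ z = φ₂ z := by
    intro z
    obtain ⟨y', rfl⟩ : ∃ y' : Y, z = 1 ⊗ₜ[R] y' :=
      ⟨TensorProduct.lid' R S Y z, by
        rw [← TensorProduct.lid'_symm_apply, LinearEquiv.symm_apply_apply]⟩
    simp [φ₁, φ₂]
  simpa [φ₁, φ₂] using key (s ⊗ₜ[R] y)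

/-- Suppose R → S is an epimorphism of rings and E is an S-module whose underlying R-module (via
restriction of scalars) is injective; then E is injective as an S-module as well. -/
theorem result (R S : Type u) [CommRing R] [CommRing S] [Algebra R S] [Algebra.IsEpi R S] (E : Type u) [AddCommGroup E] [Module S E] [Module R E] [IsScalarTower R S E] [Module.Injective R E] : Module.Injective S E := by
  constructor
  intro X Y _ _ _ _ f hf g
  letI : Module R X := Module.compHom X (algebraMap R S)
  letI : Module R Y := Module.compHom Y (algebraMap R S)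
  haveI : IsScalarTower R S X := IsScalarTower.of_compHom R S X
  haveI : IsScalarTower R S Y := IsScalarTower.of_compHom R S Y
  obtain ⟨h, hh⟩ := Module.Injective.extension_property R E X Y
    (f.restrictScalars R) hf (g.restrictScalars R)
  refine ⟨{ toFun := h, map_add' := h.map_add, map_smul' := fun s y => ?_ }, fun x => ?_⟩
  · exact map_smul_of_isEpi R S h s y
  · exact congrArg (fun φ => φ x) hh

end Groth.Agent.S8926
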