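import Groth.Statements.S8928
import Mathlib.RingTheory.Flat.Stability
import Mathlib.RingTheory.Flat.Localization
import Mathlib.RingTheory.Localization.BaseChange
import Mathlib.RingTheory.Localization.LocalizationLocalization
-- import your own Groth.Agent.* helpers here

set_option autoImplicit false
universe u
open scoped TensorProduct
open Disc

namespace Groth.Agent.S8928

/-- If `T = M⁻¹B` is flat over `A` and `q` is a prime of `B` disjoint from `M`, then `B_q` is flat
over `A`. -/
theorem flat_atPrime_of_disjoint {A B T : Type*} [CommRing A] [CommRing B] [CommRing T]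
    [Algebra A B] [Algebra A T] [Algebra B T] [IsScalarTower A B T] (M : Submonoid B)
    [IsLocalization M T] [Module.Flat A T] (q : Ideal B) [q.IsPrime]
    (hq : ∀ b ∈ M, b ∉ q) : Module.Flat A (Localization.AtPrime q) := by
  have hle : M ≤ q.primeCompl := fun b hb => hq b hb
  let f : T →+* Localization.AtPrime q :=
    IsLocalization.lift (M := M) (g := algebraMap B (Localization.AtPrime q))
      (fun y => IsLocalization.map_units _ (⟨y, hle y.2⟩ : q.primeCompl))
  letI : Algebra T (Localization.AtPrime q) := f.toAlgebra
  have hBT : IsScalarTower B T (Localization.AtPrime q) :=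
    .of_algebraMap_eq (fun x => (IsLocalization.lift_eq _ x).symm)
  have hAT : IsScalarTower A T (Localization.AtPrime q) := by
    refine .of_algebraMap_eq (fun a => ?_)
    rw [IsScalarTower.algebraMap_apply A B T, ← IsScalarTower.algebraMap_apply B T,
      ← IsScalarTower.algebraMap_apply A B]
  have : IsLocalization (q.primeCompl.map (algebraMap B T)) (Localization.AtPrime q) :=
    IsLocalization.isLocalization_of_submonoid_le T (Localization.AtPrime q) M q.primeCompl hle
  have : Module.Flat T (Localization.AtPrime q) :=
    IsLocalization.flat (Localization.AtPrime q) (q.primeCompl.map (algebraMap B T))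
  exact Module.Flat.trans A T (Localization.AtPrime q)

attribute [local instance] Algebra.TensorProduct.rightAlgebra in
/-- Let A → B be a map of Noetherian rings such that nonzerodivisors of A map to nonzerodivisors of B
and Q(A) ⊗_A B is flat over the total ring of fractions Q(A). Then B_q is flat over A for every
associated prime q of B and for every prime q of B lying over an associated prime of A. -/
theorem result (A B : Type u) [CommRing A] [CommRing B] [IsNoetherianRing A] [IsNoetherianRing B] [Algebra A B] (h1 : nonZeroDivisors A ≤ (nonZeroDivisors B).comap (algebraMap A B)) (h2 : Module.Flat (FractionRing A) (FractionRing A ⊗[A] B)) : (∀ (q : Ideal B) [q.IsPrime], IsAssociatedPrime q B → Module.Flat A (Localization.AtPrime q)) ∧ (∀ (q : Ideal B) [q.IsPrime], IsAssociatedPrime (q.comap (algebraMap A B)) A → Module.Flat A (Localization.AtPrime q)) := by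
  have hflat : Module.Flat A (FractionRing A ⊗[A] B) :=
    Module.Flat.trans A (FractionRing A) (FractionRing A ⊗[A] B)
  have hloc : IsLocalization (Algebra.algebraMapSubmonoid B (nonZeroDivisors A))
      (FractionRing A ⊗[A] B) := IsLocalization.tensorRight (FractionRing A) (nonZeroDivisors A)
  refine ⟨fun q _ hq => ?_, fun q _ hq => ?_⟩
  · refine flat_atPrime_of_disjoint (T := FractionRing A ⊗[A] B)
      (Algebra.algebraMapSubmonoid B (nonZeroDivisors A)) q ?_
    rintro _ ⟨s, hs, rfl⟩ hmem
    have h : algebraMap A B s ∈ ((nonZeroDivisors B : Set B))ᶜ := by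
      rw [← biUnion_associatedPrimes_eq_compl_nonZeroDivisors]
      simp only [Set.mem_iUnion, SetLike.mem_coe, exists_prop]
      exact ⟨q, hq, hmem⟩
    exact h (h1 hs)
  · refine flat_atPrime_of_disjoint (T := FractionRing A ⊗[A] B)
      (Algebra.algebraMapSubmonoid B (nonZeroDivisors A)) q ?_
    rintro _ ⟨s, hs, rfl⟩ hmem
    have h : s ∈ ((nonZeroDivisors A : Set A))ᶜ := by
      rw [← biUnion_associatedPrimes_eq_compl_nonZeroDivisors]
      simp only [Set.mem_iUnion, SetLike.mem_coe, exists_prop]
      exact ⟨q.comap (algebraMap A B), hq, hmem⟩
    exact h hs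

end Groth.Agent.S8928
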