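import Groth.Statements.S8929
import Groth.Agent.S8928
import Mathlib.RingTheory.Ideal.AssociatedPrime.Finiteness
-- import your own Groth.Agent.* helpers here

set_option autoImplicit false
universe u
open scoped TensorProduct
open Disc

namespace Groth.Agent.S8929

/-- In a Noetherian ring, a prime consisting of zero divisors is contained in an associated
prime. -/
theorem exists_le_associatedPrime (A : Type*) [CommRing A] [IsNoetherianRing A] (p : Ideal A)
    (hp : ∀ a ∈ p, a ∉ nonZeroDivisors A) :
    ∃ p' : Ideal A, IsAssociatedPrime p' A ∧ p ≤ p' := by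
  classical
  have hfin : (associatedPrimes A A).Finite := associatedPrimes.finite A A
  have hsub : (p : Set A) ⊆ ⋃ i ∈ ((hfin.toFinset : Finset (Ideal A)) : Set (Ideal A)), (i : Ideal A) := by
    intro a ha
    have h : a ∈ ((nonZeroDivisors A : Set A))ᶜ := hp a ha
    rw [← biUnion_associatedPrimes_eq_compl_nonZeroDivisors] at h
    simpa using h
  have := (Ideal.subset_union_prime (f := fun i : Ideal A => i) (s := hfin.toFinset) ⊥ ⊥
    (fun i hi _ _ => by
      have : i ∈ associatedPrimes A A := by simpa using hi
      exact IsAssociatedPrime.isPrime this)).mp hsub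
  obtain ⟨i, hi, hpi⟩ := this
  exact ⟨i, (by simpa using hi : i ∈ associatedPrimes A A), hpi⟩

attribute [local instance] Algebra.TensorProduct.rightAlgebra in
theorem result (A B : Type u) [CommRing A] [CommRing B] [IsNoetherianRing A] [IsNoetherianRing B] [Algebra A B] [Algebra.HasGoingUp A B] (h3 : ∀ (q : Ideal B) [q.IsPrime], IsAssociatedPrime q B → Module.Flat A (Localization.AtPrime q)) (h4 : ∀ (q : Ideal B) [q.IsPrime], IsAssociatedPrime (q.comap (algebraMap A B)) A → Module.Flat A (Localization.AtPrime q)) : Module.Flat (FractionRing A) (FractionRing A ⊗[A] B) := by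
  have hloc : IsLocalization (Algebra.algebraMapSubmonoid B (nonZeroDivisors A))
      (FractionRing A ⊗[A] B) := IsLocalization.tensorRight (FractionRing A) (nonZeroDivisors A)
  rw [Module.flat_iff_of_isLocalization (FractionRing A) (nonZeroDivisors A) (FractionRing A ⊗[A] B)]
  refine Module.flat_of_isLocalized_maximal (FractionRing A ⊗[A] B) (FractionRing A ⊗[A] B)
    (fun P _ => Localization.AtPrime P)
    (fun P _ => Algebra.linearMap (FractionRing A ⊗[A] B) (Localization.AtPrime P)) ?_
  intro P hP
  -- the prime of `B` below `P`
  set q : Ideal B := P.comap (algebraMap B (FractionRing A ⊗[A] B)) with hq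
  have hqP : q.IsPrime := Ideal.comap_isPrime _ _
  have hlocq : IsLocalization.AtPrime (Localization.AtPrime P) q :=
    IsLocalization.isLocalization_isLocalization_atPrime_isLocalization
      (Algebra.algebraMapSubmonoid B (nonZeroDivisors A)) (Localization.AtPrime P) P
  -- `q` misses the image of the nonzerodivisors of `A`
  have hdisj : ∀ a ∈ nonZeroDivisors A, algebraMap A B a ∉ q := by
    intro a ha hmem
    have hu : IsUnit (algebraMap B (FractionRing A ⊗[A] B) (algebraMap A B a)) :=
      IsLocalization.map_units (FractionRing A ⊗[A] B)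
        (⟨algebraMap A B a, a, ha, rfl⟩ : Algebra.algebraMapSubmonoid B (nonZeroDivisors A))
    exact hP.ne_top (Ideal.eq_top_of_isUnit_mem _ hmem hu)
  -- the prime of `A` below is contained in an associated prime
  obtain ⟨p', hp', hle⟩ := exists_le_associatedPrime A (q.comap (algebraMap A B))
    (fun a ha hnz => hdisj a hnz ha)
  have : p'.IsPrime := hp'.isPrime
  have : q.LiesOver (q.comap (algebraMap A B)) := ⟨rfl⟩
  obtain ⟨q', hqq', hq'P, hq'over⟩ :=
    Ideal.exists_ideal_ge_liesOver_of_le (p := q.comap (algebraMap A B)) (q := p') q hle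
  have hq'ass : IsAssociatedPrime (q'.comap (algebraMap A B)) A := by
    have : q'.comap (algebraMap A B) = p' := (hq'over.over).symm
    rw [this]; exact hp'
  have hflat' : Module.Flat A (Localization.AtPrime q') := h4 q' hq'ass
  have hflatq : Module.Flat A (Localization.AtPrime q) :=
    Groth.Agent.S8928.flat_atPrime_of_disjoint (T := Localization.AtPrime q') q'.primeCompl q
      (fun b hb hbq => hb (hqq' hbq))
  -- transport along the isomorphism `B_q ≃ T_P`
  let e : Localization.AtPrime q ≃ₐ[B] Localization.AtPrime P :=
    IsLocalization.algEquiv q.primeCompl _ _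
  exact Module.Flat.of_linearEquiv (e.toLinearEquiv.restrictScalars A).symm

end Groth.Agent.S8929
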