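import Groth.Statements.S8930
import Mathlib.AlgebraicGeometry.Morphisms.Flat
import Mathlib.AlgebraicGeometry.Pullbacks
import Mathlib.Algebra.Category.Ring.Epi
import Mathlib.RingTheory.TensorProduct.Finite
-- import your own Groth.Agent.* helpers here

set_option autoImplicit false
universe u
open AlgebraicGeometry
open Disc

namespace Groth.Agent.S8930

open CategoryTheory TensorProduct

/-- If `Spec B → Spec R` is an open immersion then `R → B` is an epimorphism of rings. -/
theorem isEpi_of_isOpenImmersion (R B : Type u) [CommRing R] [CommRing B] [Algebra R B]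
    (h : IsOpenImmersion (Spec.map (CommRingCat.ofHom (algebraMap R B)))) : Algebra.IsEpi R B := by
  rw [← CommRingCat.epi_iff_epi]
  have hmono : Mono (Scheme.Spec.map (CommRingCat.ofHom (algebraMap R B)).op) :=
    inferInstanceAs (Mono (Spec.map (CommRingCat.ofHom (algebraMap R B))))
  have : Mono (CommRingCat.ofHom (algebraMap R B)).op := Scheme.Spec.mono_of_mono_map hmono
  exact unop_epi_of_mono (CommRingCat.ofHom (algebraMap R B)).op

/-- If `Spec B → Spec R` is an open immersion then `B` is flat over `R`. -/
theorem flat_of_isOpenImmersion (R B : Type u) [CommRing R] [CommRing B] [Algebra R B]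
    (h : IsOpenImmersion (Spec.map (CommRingCat.ofHom (algebraMap R B)))) : Module.Flat R B := by
  have : Flat (Spec.map (CommRingCat.ofHom (algebraMap R B))) := inferInstance
  have := Flat.SpecMap_iff.mp this
  exact (RingHom.flat_algebraMap_iff).mp this

/-- Key lemma: for `R → C → B` with `C → B` injective and `Spec B → Spec R` an open immersion,
`Spec B → Spec C` is an open immersion. -/
theorem isOpenImmersion_of_injective (R C B : Type u) [CommRing R] [CommRing C] [CommRing B]
    [Algebra R C] [Algebra C B] [Algebra R B] [IsScalarTower R C B]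
    (hinj : Function.Injective (algebraMap C B))
    (h : IsOpenImmersion (Spec.map (CommRingCat.ofHom (algebraMap R B)))) :
    IsOpenImmersion (Spec.map (CommRingCat.ofHom (algebraMap C B))) := by
  have hepi : Algebra.IsEpi R B := isEpi_of_isOpenImmersion R B h
  have hflat : Module.Flat R B := flat_of_isOpenImmersion R B h
  -- the map `m : C ⊗[R] B → B`
  let m : C ⊗[R] B →ₐ[R] B :=
    Algebra.TensorProduct.productMap (IsScalarTower.toAlgHom R C B) (AlgHom.id R B)
  have hm_tmul : ∀ (c : C) (b : B), m (c ⊗ₜ b) = algebraMap C B c * b := fun c b => by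
    simp [m]
  -- `m` factors as `C ⊗ B → B ⊗ B → B`
  have hfac : (m : C ⊗[R] B →ₗ[R] B) =
      (TensorProduct.lift (LinearMap.mul R B)) ∘ₗ
        ((IsScalarTower.toAlgHom R C B).toLinearMap.rTensor B) := by
    ext c b
    simp [m]
  have hminj : Function.Injective m := by
    have h1 : Function.Injective ((IsScalarTower.toAlgHom R C B).toLinearMap.rTensor B) :=
      Module.Flat.rTensor_preserves_injective_linearMap _ hinj
    have h2 : Function.Injective (TensorProduct.lift (LinearMap.mul R B)) :=
      Algebra.IsEpi.injective_lift_mul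
    have : Function.Injective ((m : C ⊗[R] B →ₗ[R] B)) := by
      rw [hfac]; exact h2.comp h1
    exact this
  have hmsurj : Function.Surjective m := fun b => ⟨1 ⊗ₜ b, by simp [hm_tmul]⟩
  have hmbij : Function.Bijective m := ⟨hminj, hmsurj⟩
  -- `Spec (C ⊗ B) → Spec C` is an open immersion
  have hincl : IsOpenImmersion (Spec.map (CommRingCat.ofHom
      (Algebra.TensorProduct.includeLeftRingHom : C →+* C ⊗[R] B))) := by
    rw [← pullbackSpecIso_inv_fst]
    infer_instance
  -- `Spec m` is an isomorphism
  have hiso : IsIso (Spec.map (CommRingCat.ofHom (m : C ⊗[R] B →+* B))) := by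
    have : IsIso (CommRingCat.ofHom (m : C ⊗[R] B →+* B)) := by
      rw [ConcreteCategory.isIso_iff_bijective]
      exact hmbij
    infer_instance
  have hcomp : algebraMap C B = (m : C ⊗[R] B →+* B).comp
      (Algebra.TensorProduct.includeLeftRingHom : C →+* C ⊗[R] B) := by
    ext c
    simp [hm_tmul]
  rw [hcomp, CommRingCat.ofHom_comp, Spec.map_comp]
  infer_instance

theorem result (A B B' B'' : Type u) [CommRing A] [CommRing B] [CommRing B'] [CommRing B''] [Algebra A B] [Algebra A B'] [Algebra A B''] [Algebra B' B] [Algebra B'' B] [IsScalarTower A B' B] [IsScalarTower A B'' B] [Module.Finite A B'] [Module.Finite A B''] (h' : IsOpenImmersion (Spec.map (CommRingCat.ofHom (algebraMap B' B)))) (h'' : IsOpenImmersion (Spec.map (CommRingCat.ofHom (algebraMap B'' B)))) : ∃ C : Subalgebra A B, Module.Finite A C ∧ Set.range (algebraMap B' B) ⊆ (C : Set B) ∧ Set.range (algebraMap B'' B) ⊆ (C : Set B) ∧ IsOpenImmersion (Spec.map (CommRingCat.ofHom C.val.toRingHom)) := by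
  let f' : B' →ₐ[A] B := IsScalarTower.toAlgHom A B' B
  let f'' : B'' →ₐ[A] B := IsScalarTower.toAlgHom A B'' B
  have hfin' : Module.Finite A f'.range :=
    Module.Finite.of_surjective f'.rangeRestrict.toLinearMap f'.rangeRestrict_surjective
  have hfin'' : Module.Finite A f''.range :=
    Module.Finite.of_surjective f''.rangeRestrict.toLinearMap f''.rangeRestrict_surjective
  let C : Subalgebra A B := f'.range ⊔ f''.range
  have hC' : Set.range (algebraMap B' B) ⊆ (C : Set B) := by
    rintro _ ⟨b, rfl⟩
    exact (le_sup_left : f'.range ≤ C) ⟨b, rfl⟩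
  have hC'' : Set.range (algebraMap B'' B) ⊆ (C : Set B) := by
    rintro _ ⟨b, rfl⟩
    exact (le_sup_right : f''.range ≤ C) ⟨b, rfl⟩
  refine ⟨C, Subalgebra.finite_sup _ _, hC', hC'', ?_⟩
  -- make `C` a `B'`-algebra
  let g : B' →+* C := (algebraMap B' B).codRestrict C.toSubring (fun b => hC' ⟨b, rfl⟩)
  letI : Algebra B' C := g.toAlgebra
  haveI : IsScalarTower B' C B := IsScalarTower.of_algebraMap_eq (fun b => rfl)
  exact isOpenImmersion_of_injective B' C B Subtype.val_injective h'

end Groth.Agent.S8930
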