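import Groth.Statements.S8932
import Groth.Agent.Lib.Helper6.FlatGor11

set_option autoImplicit false
universe u
open CategoryTheory
open scoped TensorProduct
attribute [local instance] HasDerivedCategory.standard
open Dual

namespace Groth.Agent.S8932

open Groth.Agent.Lib.Helper6 in

/-- For a field extension K/k, a finite type k-algebra A and a dualizing complex ω for A, the derived
base change of ω along A → K ⊗_k A is a dualizing complex for K ⊗_k A (the derived base change
functor being assumed to exist). -/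
theorem result (k K : Type u) [Field k] [Field K] [Algebra k K] (A : Type u) [CommRing A] [Algebra k A] [Algebra.FiniteType k A] [DRing.HasLBaseChange (Algebra.TensorProduct.includeRight : A →ₐ[k] K ⊗[k] A).toRingHom] (ω : Dual.D A) (hω : Dual.IsDualizing A ω) : Dual.IsDualizing (K ⊗[k] A) ((DRing.LBaseChange (Algebra.TensorProduct.includeRight : A →ₐ[k] K ⊗[k] A).toRingHom).obj ω) := by
  classical
  letI : Algebra A (K ⊗[k] A) := Algebra.TensorProduct.rightAlgebra
  let c := Algebra.TensorProduct.comm k A K
  have hc : ∀ a : A, c (algebraMap A (A ⊗[k] K) a) = algebraMap A (K ⊗[k] A) a := by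
    intro a
    rw [Algebra.TensorProduct.algebraMap_apply]
    exact Algebra.TensorProduct.comm_tmul (R := k) a (1 : K)
  -- the `A`-algebra equivalence
  let cA : (A ⊗[k] K) ≃ₐ[A] (K ⊗[k] A) := AlgEquiv.ofRingEquiv (f := c.toRingEquiv) hc
  haveI hflat : Module.Flat A (K ⊗[k] A) :=
    Module.Flat.of_linearEquiv cA.toLinearEquiv.symm
  haveI hft : Algebra.FiniteType K (K ⊗[k] A) := inferInstance
  haveI : IsNoetherianRing A := Algebra.FiniteType.isNoetherianRing k A
  haveI : IsNoetherianRing (K ⊗[k] A) := Algebra.FiniteType.isNoetherianRing K (K ⊗[k] A)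
  -- dimension bound
  obtain ⟨N, f, hf⟩ := Algebra.FiniteType.iff_quotient_mvPolynomial''.mp hft
  have hN : ringKrullDim (K ⊗[k] A) ≤ (N : WithBot ℕ∞) := by
    have h1 : ringKrullDim (K ⊗[k] A) ≤ ringKrullDim (MvPolynomial (Fin N) K) :=
      ringKrullDim_le_of_surjective f.toRingHom hf
    have h3 : ringKrullDim (MvPolynomial (Fin N) K) = (N : WithBot ℕ∞) := by
      rw [MvPolynomial.ringKrullDim_of_isNoetherianRing, ringKrullDim_eq_zero_of_field, zero_add,
        Nat.card_eq_fintype_card, Fintype.card_fin]
    rw [h3] at h1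
    exact h1
  -- Gorenstein fibres
  have hfib : ∀ (p : Ideal A) [p.IsPrime], LocCoh.IsGorensteinRing (p.Fiber (K ⊗[k] A)) := by
    intro p _
    have : Algebra.EssFiniteType k p.ResidueField := Algebra.EssFiniteType.comp k A _
    have h := Lib.Helper24.isGorensteinRing_tensor_field_of_essFiniteType k p.ResidueField K
    have h1 := Lib.Helper24.isGorensteinRing_of_ringEquiv
      (Algebra.TensorProduct.comm k K p.ResidueField).toRingEquiv h
    let eF : p.Fiber (A ⊗[k] K) ≃+* p.ResidueField ⊗[k] K :=
      (Algebra.TensorProduct.cancelBaseChange k A A p.ResidueField K).toRingEquiv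
    have h2 := Lib.Helper24.isGorensteinRing_of_ringEquiv eF.symm h1
    let eG : p.Fiber (A ⊗[k] K) ≃+* p.Fiber (K ⊗[k] A) :=
      (Algebra.TensorProduct.congr (AlgEquiv.refl : p.ResidueField ≃ₐ[A] p.ResidueField)
        cA).toRingEquiv
    exact Lib.Helper24.isGorensteinRing_of_ringEquiv eG h2
  have h := Lib.Helper6.FlatGor.isDualizing_G_of_gorenstein_fibres_of_dim N hN hfib ω hω
  haveI : DRing.HasLBaseChange (algebraMap A (K ⊗[k] A)) :=
    ‹DRing.HasLBaseChange (Algebra.TensorProduct.includeRight : A →ₐ[k] K ⊗[k] A).toRingHom›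
  exact Lib.Helper6.HomBC.isDualizing_of_iso
    ((Lib.Helper6.HomBC.lbcIsoG A (K ⊗[k] A)).app ω).symm h

end Groth.Agent.S8932
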