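import Groth.Statements.S8933
import Groth.Agent.S1032
import Groth.Agent.Lib.Helper28.KProjRes2

set_option autoImplicit false
universe u
open CategoryTheory CategoryTheory.Limits
attribute [local instance] HasDerivedCategory.standard
open LocCoh

namespace Groth.Agent.S8933

variable {A : Type u} [CommRing A]

/-- the terms of `a • 𝟙 K` act by scalar multiplication -/
lemma smul_id_f_apply (K : CochainComplex (ModuleCat.{u} A) ℤ) (a : A) (n : ℤ) (x : K.X n) :
    ((a • 𝟙 K : K ⟶ K).f n) x = a • x := by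
  rw [HomologicalComplex.smul_f_apply]
  rfl

/-- if `a` acts bijectively on all terms, `a • 𝟙 K` is an isomorphism of complexes -/
lemma isIso_smul_id (K : CochainComplex (ModuleCat.{u} A) ℤ) (a : A)
    (hK : ∀ n : ℤ, Function.Bijective (fun x : K.X n => a • x)) : IsIso (a • 𝟙 K : K ⟶ K) := by
  have : ∀ n, IsIso ((a • 𝟙 K : K ⟶ K).f n) := fun n => by
    rw [ConcreteCategory.isIso_iff_bijective]
    convert hK n using 1
    ext x
    exact smul_id_f_apply K a n x
  exact HomologicalComplex.Hom.isIso_of_components _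

/-- Lemma A -/
lemma quasiIso_smul_id {K J : CochainComplex (ModuleCat.{u} A) ℤ} (φ : K ⟶ J) [QuasiIso φ] (a : A)
    (hK : ∀ n : ℤ, Function.Bijective (fun x : K.X n => a • x)) : QuasiIso (a • 𝟙 J : J ⟶ J) := by
  have := isIso_smul_id K a hK
  have h : φ ≫ (a • 𝟙 J) = (a • 𝟙 K) ≫ φ := by
    rw [Linear.comp_smul, Linear.smul_comp, Category.comp_id, Category.id_comp]
  have h1 : QuasiIso (φ ≫ (a • 𝟙 J)) := by
    rw [h]
    infer_instance
  exact quasiIso_of_comp_left φ (a • 𝟙 J)

/-- Lemma B -/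
lemma exists_d_eq (I : Ideal A) (J : CochainComplex (ModuleCat.{u} A) ℤ) [J.IsKInjective] (a : A)
    [QuasiIso (a • 𝟙 J : J ⟶ J)] (n : ℤ)
    (x : (((DRing.gammaI I).mapHomologicalComplex (ComplexShape.up ℤ)).obj J).X n)
    (hdx : (((DRing.gammaI I).mapHomologicalComplex (ComplexShape.up ℤ)).obj J).d n (n + 1) x = 0)
    (hax : a • x = 0) :
    ∃ y : (((DRing.gammaI I).mapHomologicalComplex (ComplexShape.up ℤ)).obj J).X (n - 1),
      (((DRing.gammaI I).mapHomologicalComplex (ComplexShape.up ℤ)).obj J).d (n - 1) n y = x := by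
  obtain ⟨e, he⟩ := (CochainComplex.IsKInjective.quasiIso_iff (a • 𝟙 J : J ⟶ J)).mp inferInstance
  let Γe := (DRing.gammaI I).mapHomotopyEquiv e
  have hcomm := Γe.homotopyHomInvId.comm n
  have h1 : ((Γe.hom ≫ Γe.inv).f n) x = 0 := by
    have : (Γe.hom.f n) x = 0 := by
      change ((DRing.gammaI I).map (e.hom.f n)) x = 0
      rw [he]
      apply Subtype.ext
      change ((a • 𝟙 J : J ⟶ J).f n) x.1 = 0
      rw [smul_id_f_apply]
      exact congrArg Subtype.val hax
    rw [HomologicalComplex.comp_f, ModuleCat.comp_apply, this, map_zero]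
  rw [hcomm] at h1
  have hd : (dNext n Γe.homotopyHomInvId.hom) x = 0 := by
    rw [dNext_eq _ (show (ComplexShape.up ℤ).Rel n (n + 1) from rfl), ModuleCat.comp_apply, hdx,
      map_zero]
  have hadd : ∀ (M N : ModuleCat.{u} A) (g h : M ⟶ N) (z : M), (g + h) z = g z + h z :=
    fun _ _ _ _ _ => rfl
  rw [hadd, hadd] at h1
  rw [hd, zero_add, prevD_eq _ (show (ComplexShape.up ℤ).Rel (n - 1) n by simp),
    HomologicalComplex.id_f, ModuleCat.id_apply] at h1
  refine ⟨-(Γe.homotopyHomInvId.hom n (n - 1)) x, ?_⟩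
  rw [map_neg]
  rw [ModuleCat.comp_apply] at h1
  exact neg_eq_of_add_eq_zero_right h1

lemma acyclic_gammaI (I : Ideal A) (K J : CochainComplex (ModuleCat.{u} A) ℤ) [J.IsKInjective]
    (φ : K ⟶ J) [QuasiIso φ] (f : A) (hf : f ∈ I)
    (hK : ∀ n : ℤ, Function.Bijective (fun x : K.X n => f • x)) :
    (((DRing.gammaI I).mapHomologicalComplex (ComplexShape.up ℤ)).obj J).Acyclic := by
  intro n
  rw [HomologicalComplex.exactAt_iff' _ (n - 1) n (n + 1) (by simp) (by simp),
    ShortComplex.moduleCat_exact_iff]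
  intro x hx
  have hpow : ∀ (m : ℕ) (k : ℤ), Function.Bijective (fun y : K.X k => (f ^ m) • y) := by
    intro m k
    have : (fun y : K.X k => (f ^ m) • y) = (fun y : K.X k => f • y)^[m] := by
      ext y
      induction m with
      | zero => simp
      | succ m ih => rw [Function.iterate_succ_apply', ← ih, pow_succ', mul_smul]
    rw [this]
    exact (hK k).iterate m
  obtain ⟨m, hm⟩ := x.2
  have := quasiIso_smul_id φ (f ^ m) (hpow m)
  have hax : (f ^ m) • x = 0 := Subtype.ext (hm _ (Ideal.pow_mem_pow hf m))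
  exact exists_d_eq I J (f ^ m) n x hx hax

lemma isZero_Q_obj_of_acyclic (L : CochainComplex (ModuleCat.{u} A) ℤ) (hL : L.Acyclic) :
    IsZero (DerivedCategory.Q.obj L) := by
  have hq : QuasiIso (0 : L ⟶ L) := by
    rw [quasiIso_iff]
    intro i
    rw [quasiIsoAt_iff_isIso_homologyMap]
    have h1 : IsZero (L.homology i) := (hL i).isZero_homology
    exact ⟨0, h1.eq_of_src _ _, h1.eq_of_src _ _⟩
  have hiso : IsIso (DerivedCategory.Q.map (0 : L ⟶ L)) :=
    (DerivedCategory.isIso_Q_map_iff_quasiIso _ _).mpr hq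
  rw [Functor.map_zero] at hiso
  rw [IsZero.iff_id_eq_zero]
  have := IsIso.hom_inv_id (0 : DerivedCategory.Q.obj L ⟶ DerivedCategory.Q.obj L)
  rw [zero_comp] at this
  exact this.symm

/-- For a ring A, a finitely generated ideal I and a complex K of A-modules such that multiplication by
some f ∈ I is bijective on every term of K, the object RΓ_I(K) of D(A) is zero; here RΓ_I is the
right derived functor of the I-power torsion functor, assumed to exist. -/
theorem result (A : Type u) [CommRing A] (I : Ideal A) (hI : I.FG) [DRing.HasRgammaI I] (K : CochainComplex (ModuleCat.{u} A) ℤ) (f : A) (hf : f ∈ I) (hK : ∀ n : ℤ, Function.Bijective (fun x : K.X n => f • x)) : IsZero ((DRing.RgammaI I).obj (DerivedCategory.Q.obj K)) := by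
  obtain ⟨J, φ, hJ, hφ, -⟩ :=
    Groth.Agent.Lib.Helper28.KProjRes2.exists_kInjective_resolution_termwise K
  have hres : ∀ K : CochainComplex (ModuleCat.{u} A) ℤ, ∃ (I : CochainComplex (ModuleCat.{u} A) ℤ)
      (f : K ⟶ I), I.IsKInjective ∧ QuasiIso f := fun K => by
    obtain ⟨J, φ, hJ, hφ, -⟩ :=
      Groth.Agent.Lib.Helper28.KProjRes2.exists_kInjective_resolution_termwise K
    exact ⟨J, φ, hJ, hφ⟩
  have hunit := (Groth.Agent.S1032.result hres (DRing.gammaIKh I)).2 J hJ
  have hQφ : IsIso (DerivedCategory.Q.map φ) := (DerivedCategory.isIso_Q_map_iff_quasiIso _ φ).mpr hφ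
  have e1 : (DRing.RgammaI I).obj (DerivedCategory.Q.obj K) ≅
      (DRing.RgammaI I).obj (DerivedCategory.Q.obj J) :=
    (DRing.RgammaI I).mapIso (asIso (DerivedCategory.Q.map φ))
  have e2 := asIso (((DRing.gammaIKh I).totalRightDerivedUnit DerivedCategory.Qh
    (HomotopyCategory.quasiIso (ModuleCat.{u} A) (ComplexShape.up ℤ))).app
      ((HomotopyCategory.quotient (ModuleCat.{u} A) (ComplexShape.up ℤ)).obj J))
  have hz : IsZero ((DRing.gammaIKh I).obj
      ((HomotopyCategory.quotient (ModuleCat.{u} A) (ComplexShape.up ℤ)).obj J)) :=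
    isZero_Q_obj_of_acyclic _ (acyclic_gammaI I K J φ f hf hK)
  exact IsZero.of_iso (IsZero.of_iso hz e2.symm) e1

end Groth.Agent.S8933
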