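import Groth.Statements.S8934
import Groth.Agent.Lib.Helper35.HDIGen
import Groth.Agent.Lib.Helper6.FlatPC

set_option autoImplicit false
universe u
open CategoryTheory CategoryTheory.Limits
attribute [local instance] HasDerivedCategory.standard
open LocCoh

namespace Groth.Agent.S8934

/-- Let p be a prime, A a Noetherian ring of characteristic p with Frobenius endomorphism F, and I an
ideal of A. Then the derived base change of RΓ_I(A) along F is isomorphic to RΓ_I(A) in D(A)
(existence of an isomorphism only; RΓ_I, the derived I-power torsion functor, and the derived base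
change along F are assumed to exist). (The published statement is for any ring and a finitely
generated ideal, with local cohomology RΓ_Z; this row takes A Noetherian, where RΓ_Z is the derived
functor of I-power torsion.) -/
theorem result (p : ℕ) [Fact p.Prime] (A : Type u) [CommRing A] [IsNoetherianRing A] [CharP A p] (I : Ideal A) [DRing.HasRgammaI I] [DRing.HasLBaseChange (frobenius A p)] : Nonempty ((DRing.LBaseChange (frobenius A p)).obj ((DRing.RgammaI I).obj (Dual.inD A A)) ≅ (DRing.RgammaI I).obj (Dual.inD A A)) := by
  have hp : 0 < p := (Fact.out : p.Prime).pos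
  have h1 : ∀ f ∈ I, frobenius A p f ∈ I := fun f hf => by
    rw [frobenius_def]
    exact Ideal.pow_mem_of_mem I hf p hp
  have h2 : ∀ M : ModuleCat.{u} A,
      Groth.Agent.Lib.Helper32.GammaNoethD.IsTors (I.map (frobenius A p)) M →
      Groth.Agent.Lib.Helper32.GammaNoethD.IsTors I M := fun M hM =>
    Groth.Agent.Lib.Helper35.HDIGen.isTors_of_pow_mem I _ (fun f hf => ⟨p, by
      rw [← frobenius_def]
      exact Ideal.mem_map_of_mem _ hf⟩) M hM
  obtain ⟨e1⟩ := Groth.Agent.Lib.Helper35.HDIGen.nonempty_Rgamma_lbc_iso_gen (frobenius A p) I I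
    h1 h2 (Dual.inD A A)
  obtain ⟨e2⟩ := @Groth.Agent.Lib.Helper6.FlatPC.nonempty_lbc_unit_iso A A _ _
    (frobenius A p).toAlgebra inferInstance
  exact ⟨e1.symm ≪≫ (DRing.RgammaI I).mapIso e2⟩

end Groth.Agent.S8934
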