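import Groth.Statements.S8935
import Groth.Agent.Lib.Helper94.OmegaGor
import Groth.Agent.Lib.Helper82.RelGCIFlat
import Groth.Agent.Lib.Helper24.GorenFibre
import Groth.Agent.S9287
import Groth.Agent.S1827

set_option autoImplicit false
universe u
open Disc

namespace Groth.Agent.S8935

/-- Let k be a field and B = k[x_1, …, x_n]/(f_1, …, f_n), a global complete intersection with as many
equations as variables, of Krull dimension 0. Then ω_{B/k} = Hom_k(B, k), with B acting through the
argument, is an invertible B-module; since B is Artinian this means it is free of rank one, which is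
the form stated. -/
theorem result (k : Type u) [Field k] (n : ℕ) (f : Fin n → MvPolynomial (Fin n) k) (h0 : ringKrullDim (MvPolynomial (Fin n) k ⧸ Ideal.span (Set.range f)) = 0) : Nonempty (Disc.Omega k (MvPolynomial (Fin n) k ⧸ Ideal.span (Set.range f)) ≃ₗ[MvPolynomial (Fin n) k ⧸ Ideal.span (Set.range f)] (MvPolynomial (Fin n) k ⧸ Ideal.span (Set.range f))) := by
  haveI hnt : Nontrivial (MvPolynomial (Fin n) k ⧸ Ideal.span (Set.range f)) := by
    by_contra hne
    rw [not_nontrivial_iff_subsingleton] at hne
    rw [ringKrullDim_eq_bot_of_subsingleton] at h0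
    exact absurd h0 (by decide)
  haveI hdim : Ring.KrullDimLE 0 (MvPolynomial (Fin n) k ⧸ Ideal.span (Set.range f)) :=
    ringKrullDimZero_iff_ringKrullDim_eq_zero.mpr h0
  haveI hfin : Module.Finite k (MvPolynomial (Fin n) k ⧸ Ideal.span (Set.range f)) :=
    (Module.finite_iff_krullDimLE_zero k _).mpr hdim
  have hgci : Synt.IsRelGCI k n n f := by
    intro p hp
    refine ⟨le_refl n, ?_⟩
    haveI : Ring.KrullDimLE 0 (p.asIdeal.Fiber (Synt.RelGCIRing k n n f)) :=
      (Module.finite_iff_krullDimLE_zero p.asIdeal.ResidueField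
        (p.asIdeal.Fiber (Synt.RelGCIRing k n n f))).mp inferInstance
    rw [Nat.sub_self]
    exact ringKrullDimZero_iff_ringKrullDim_eq_zero.mp inferInstance
  have hsynt := Groth.Agent.Lib.Helper82.RelGCIFlat.isSyntomic_of_isRelGCI k n n f hgci
  have hlci : LCI.IsLCI k (Synt.RelGCIRing k n n f) := ((Groth.Agent.S9287.result _ _).mp hsynt).2
  have hk : LocCoh.IsGorensteinRing k :=
    Groth.Agent.Lib.Helper24.isGorensteinRing_of_isRegularRing k
  have hG : LocCoh.IsGorensteinRing (Synt.RelGCIRing k n n f) :=
    Groth.Agent.S1827.result k _ hk hlci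
  exact (Groth.Agent.Lib.Helper94.OmegaGor.isGorensteinRing_iff_omega k _).mp hG

end Groth.Agent.S8935
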