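import Groth.Statements.S8936
-- import your own Groth.Agent.* helpers here

set_option autoImplicit false
universe u v
open InjHull

namespace Groth.Agent.S8936

/-- For a directed system (E_i) of R-modules over a nonempty directed preorder and a compatible family
of essential injections M → E_i, the induced map from M to the direct limit of the E_i is an
essential injection. -/
theorem result (R : Type u) [CommRing R] (ι : Type v) [Preorder ι] [IsDirectedOrder ι] [DecidableEq ι] (i₀ : ι) (E : ι → Type v) [∀ i, AddCommGroup (E i)] [∀ i, Module R (E i)] (f : ∀ i j, i ≤ j → E i →ₗ[R] E j) [DirectedSystem E fun i j h => f i j h] (M : Type v) [AddCommGroup M] [Module R M] (g : ∀ i, M →ₗ[R] E i) (hg : ∀ i j (h : i ≤ j), f i j h ∘ₗ g i = g j) (he : ∀ i, InjHull.IsEssentialInj (g i)) : InjHull.IsEssentialInj (Module.DirectLimit.of R ι E f i₀ ∘ₗ g i₀) := by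
  have : Nonempty ι := ⟨i₀⟩
  have hg' : ∀ i j (h : i ≤ j) (m : M), f i j h (g i m) = g j m := fun i j h m =>
    congrArg (fun φ => φ m) (hg i j h)
  -- all the maps `of i ∘ g i` agree
  have hφ : ∀ i (m : M), Module.DirectLimit.of R ι E f i (g i m) =
      Module.DirectLimit.of R ι E f i₀ (g i₀ m) := by
    intro i m
    obtain ⟨k, hik, hi₀k⟩ := exists_ge_ge i i₀
    rw [← Module.DirectLimit.of_f (hij := hik), ← Module.DirectLimit.of_f (hij := hi₀k),
      hg', hg']
  -- `of i (g i m) = 0` forces `m = 0`
  have hzero : ∀ i (m : M), Module.DirectLimit.of R ι E f i (g i m) = 0 → m = 0 := by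
    intro i m h
    obtain ⟨k, hik, hk⟩ := Module.DirectLimit.of.zero_exact h
    rw [hg'] at hk
    exact (he k).injective (hk.trans (map_zero _).symm)
  refine ⟨?_, ?_⟩
  · intro m m' h
    have : m - m' = 0 := by
      apply hzero i₀
      simpa [sub_eq_zero] using h
    exact sub_eq_zero.mp this
  · intro N hN
    rw [Submodule.ne_bot_iff] at hN ⊢
    obtain ⟨z, hzN, hz0⟩ := hN
    obtain ⟨i, x, rfl⟩ := Module.DirectLimit.exists_of z
    have hx0 : x ≠ 0 := by
      rintro rfl
      exact hz0 (map_zero _)
    have hspan : (R ∙ x) ≠ ⊥ := by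
      rw [Ne, Submodule.span_singleton_eq_bot]
      exact hx0
    have := (he i).essential (R ∙ x) hspan
    rw [Submodule.ne_bot_iff] at this
    obtain ⟨y, ⟨hy1, hy2⟩, hy0⟩ := this
    rw [SetLike.mem_coe, Submodule.mem_span_singleton] at hy1
    obtain ⟨r, rfl⟩ := hy1
    obtain ⟨m, hm⟩ := hy2
    refine ⟨Module.DirectLimit.of R ι E f i (r • x), ⟨?_, ?_⟩, ?_⟩
    · rw [map_smul]
      exact N.smul_mem r hzN
    · refine ⟨m, ?_⟩
      rw [LinearMap.comp_apply, ← hφ i m, hm]
    · intro h0
      rw [← hm] at h0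
      have := hzero i m h0
      rw [this, map_zero] at hm
      exact hy0 hm.symm

end Groth.Agent.S8936
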