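import Groth.Statements.S8941
import Groth.Agent.Lib.Helper6.DqTri

set_option autoImplicit false
universe u
open CategoryTheory CategoryTheory.Pretriangulated
attribute [local instance] HasDerivedCategory.standard
open Dual

namespace Groth.Agent.S8941

open Pointwise

/-- Let A be a Noetherian local ring with normalized dualizing complex ω, f a nonzerodivisor in the
maximal ideal and B = A/(f); with R right adjoint to restriction of scalars D(B) → D(A) (so that
R(ω) is RHom_A(B, ω), a normalized dualizing complex for B), there is a distinguished triangle in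
D(A) with vertices R(ω) viewed over A, ω, ω, whose middle morphism ω → ω is multiplication by f. -/
theorem result (A : Type u) [CommRing A] [IsLocalRing A] [IsNoetherianRing A] (ω : Dual.D A) (hω : Dual.IsDualizing A ω) (hn : Dual.IsNormalized A ω) (f : A) (hf : f ∈ IsLocalRing.maximalIdeal A) (hf' : f ∈ nonZeroDivisors A) (R : Dual.D A ⥤ Dual.D (A ⧸ Ideal.span {f})) (adj : DRing.restrictD (Ideal.Quotient.mk (Ideal.span {f})) ⊣ R) : ∃ (u : (DRing.restrictD (Ideal.Quotient.mk (Ideal.span {f}))).obj (R.obj ω) ⟶ ω) (w : ω ⟶ ((DRing.restrictD (Ideal.Quotient.mk (Ideal.span {f}))).obj (R.obj ω))⟦(1 : ℤ)⟧), Triangle.mk u (f • 𝟙 ω) w ∈ distinguishedTriangles := by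
  classical
  obtain ⟨I, a, b, hv, hinj, hK, ⟨ι⟩⟩ := Lib.Helper6.DqTri.exists_model ω hω
  haveI := hK
  have hreg : IsSMulRegular A f := by
    intro x y hxy
    have h1 : f * (x - y) = 0 := by
      rw [mul_sub]
      exact sub_eq_zero.2 hxy
    have h2 : x - y = 0 := by
      have := (mem_nonZeroDivisors_iff.1 hf').2 (x - y)
      exact this (by rw [mul_comm]; exact h1)
    exact sub_eq_zero.1 h2
  have hS := hreg.smulShortComplex_shortExact (M := ModuleCat.of A A)
  have hT := DerivedCategory.triangleOfSES_distinguished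
    (Lib.Helper6.Bidual.DcSC_shortExact I hinj _ hS)
  let a' : (Lib.Helper6.Bidual.Dq I).obj (Opposite.op (ModuleCat.of A A)) ≅ ω :=
    Lib.Helper6.DqTri.DqSelfIso I ≪≫ ι.symm
  obtain ⟨β⟩ := Lib.Helper6.DqTri.nonempty_restrict_rightAdjoint_iso
    (Ideal.Quotient.mk (Ideal.span {f})) adj I
  have hEq : (f • (⊤ : Submodule A A)) = Ideal.span {f} := by
    rw [← Submodule.ideal_span_singleton_smul, smul_eq_mul, Ideal.mul_top]
  let l0 : (A ⧸ Ideal.span {f}) ≃ₗ[A]
      (Lib.Helper6.RDual.BA (Ideal.Quotient.mk (Ideal.span {f}))) :=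
    { toFun := fun x => x
      invFun := fun x => x
      map_add' := fun _ _ => rfl
      map_smul' := fun _ _ => rfl
      left_inv := fun _ => rfl
      right_inv := fun _ => rfl }
  let l : QuotSMulTop f A ≃ₗ[A] (Lib.Helper6.RDual.BA (Ideal.Quotient.mk (Ideal.span {f}))) :=
    (Submodule.quotEquivOfEq _ _ hEq).trans l0
  let b' : (DRing.restrictD (Ideal.Quotient.mk (Ideal.span {f}))).obj (R.obj ω) ≅
      (Lib.Helper6.Bidual.Dq I).obj (Opposite.op (ModuleCat.of A (QuotSMulTop f A))) :=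
    (DRing.restrictD (Ideal.Quotient.mk (Ideal.span {f}))).mapIso (R.mapIso ι) ≪≫ β ≪≫
      (Lib.Helper6.Bidual.Dq I).mapIso l.toModuleIso.op
  let T := DerivedCategory.triangleOfSES (Lib.Helper6.Bidual.DcSC_shortExact I hinj _ hS)
  let m₁ : (Lib.Helper6.Bidual.Dq I).obj (Opposite.op (ModuleCat.of A (QuotSMulTop f A))) ⟶
      (Lib.Helper6.Bidual.Dq I).obj (Opposite.op (ModuleCat.of A A)) := T.mor₁
  let m₃ : (Lib.Helper6.Bidual.Dq I).obj (Opposite.op (ModuleCat.of A A)) ⟶
      ((Lib.Helper6.Bidual.Dq I).obj (Opposite.op (ModuleCat.of A (QuotSMulTop f A))))⟦(1 : ℤ)⟧ :=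
    T.mor₃
  have h2 : T.mor₂ = f • 𝟙 ((Lib.Helper6.Bidual.Dq I).obj (Opposite.op (ModuleCat.of A A))) :=
    Lib.Helper6.UniqDual.Dq_map_smul_id I (ModuleCat.of A A) f
  refine ⟨b'.hom ≫ m₁ ≫ a'.hom, a'.inv ≫ m₃ ≫ (shiftFunctor (Dual.D A) (1 : ℤ)).map b'.inv, ?_⟩
  refine isomorphic_distinguished _ hT _ (Triangle.isoMk _ _ b' a'.symm a'.symm ?_ ?_ ?_)
  · change (b'.hom ≫ m₁ ≫ a'.hom) ≫ a'.inv = b'.hom ≫ m₁
    rw [Category.assoc, Category.assoc, Iso.hom_inv_id, Category.comp_id]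
  · change (f • 𝟙 ω) ≫ a'.inv = a'.inv ≫ T.mor₂
    have key : (f • 𝟙 ω) ≫ a'.inv = a'.inv ≫
        (f • 𝟙 ((Lib.Helper6.Bidual.Dq I).obj (Opposite.op (ModuleCat.of A A)))) := by
      rw [Linear.smul_comp, Linear.comp_smul, Category.id_comp, Category.comp_id]
    rw [h2]
    exact key
  · change (a'.inv ≫ m₃ ≫ (shiftFunctor (Dual.D A) (1 : ℤ)).map b'.inv) ≫
      (shiftFunctor (Dual.D A) (1 : ℤ)).map b'.hom = a'.inv ≫ m₃
    rw [Category.assoc, Category.assoc, ← Functor.map_comp, Iso.inv_hom_id,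
      CategoryTheory.Functor.map_id, Category.comp_id]

end Groth.Agent.S8941
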