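import Groth.Statements.S8944
import Groth.Agent.Lib.Helper94.QFLocalC

set_option autoImplicit false
universe u
open AlgebraicGeometry
open scoped TensorProduct
open Disc

namespace Groth.Agent.S8944

/-- Let A → B be a flat homomorphism of Noetherian rings, and suppose it factors through a ring B′ as A
→ B′ → B, where B′ is finite over A and the induced map of spectra Spec(B) → Spec(B′) is an open
immersion, so that the relative dualizing module is ω_{B/A} = Hom_A(B′, A) ⊗_{B′} B (B′ acting on
Hom_A(B′, A) through the argument). Then ω_{B/A} is a flat A-module. -/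
theorem result (A B B' : Type u) [CommRing A] [CommRing B] [CommRing B'] [IsNoetherianRing A] [IsNoetherianRing B] [Algebra A B] [Module.Flat A B] [Algebra A B'] [Algebra B' B] [IsScalarTower A B' B] [Module.Finite A B'] (hopen : IsOpenImmersion (Spec.map (CommRingCat.ofHom (algebraMap B' B)))) : Module.Flat A (B ⊗[B'] Disc.Omega A B') := by
  classical
  refine Module.flat_of_isLocalized_maximal B (B ⊗[B'] Disc.Omega A B')
    (fun P _ => Localization.AtPrime P ⊗[B] (B ⊗[B'] Disc.Omega A B'))
    (fun P _ => TensorProduct.mk B (Localization.AtPrime P) (B ⊗[B'] Disc.Omega A B') 1) ?_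
  intro P hP
  haveI : P.IsPrime := hP.isPrime
  have hbij := Groth.Agent.Lib.Helper94.QFLocal.bijective_localRingHom_of_isOpenImmersion
    (algebraMap B' B) hopen P
  set q' : Ideal B' := P.comap (algebraMap B' B) with hq'
  let σ : Localization.AtPrime q' →+* Localization.AtPrime P :=
    Localization.localRingHom q' P (algebraMap B' B) rfl
  let σl : Localization.AtPrime q' →ₗ[B'] Localization.AtPrime P :=
    { toFun := σ
      map_add' := map_add σ
      map_smul' := fun b x => by
        rw [RingHom.id_apply, Algebra.smul_def, map_mul, Algebra.smul_def]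
        congr 1
        change Localization.localRingHom q' P (algebraMap B' B) rfl (algebraMap B' _ b) = _
        rw [Localization.localRingHom_to_map, ← IsScalarTower.algebraMap_apply] }
  let eσ : Localization.AtPrime q' ≃ₗ[B'] Localization.AtPrime P := LinearEquiv.ofBijective σl hbij
  have hflatL' : Module.Flat A (Localization.AtPrime q') :=
    Module.Flat.of_linearEquiv (eσ.restrictScalars A)
  have h2 := Groth.Agent.Lib.Helper94.QFLocal.flat_localization_omega q' hflatL'
  let e3 : Localization.AtPrime P ⊗[B] (B ⊗[B'] Disc.Omega A B') ≃ₗ[Localization.AtPrime P]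
      Localization.AtPrime P ⊗[B'] Disc.Omega A B' :=
    TensorProduct.AlgebraTensorModule.cancelBaseChange B' B (Localization.AtPrime P)
      (Localization.AtPrime P) (Disc.Omega A B')
  let e4 : Localization.AtPrime q' ⊗[B'] Disc.Omega A B' ≃ₗ[B']
      Localization.AtPrime P ⊗[B'] Disc.Omega A B' :=
    TensorProduct.congr eσ (LinearEquiv.refl B' (Disc.Omega A B'))
  exact Module.Flat.of_linearEquiv ((e3.restrictScalars A).trans (e4.restrictScalars A).symm)

end Groth.Agent.S8944
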