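import Groth.Statements.S8945
import Groth.Agent.Lib.Helper6.DqTri
import Groth.Agent.S1749
import Groth.Agent.Lib.Helper6.Bidual6
import Groth.Agent.Lib.Helper35.TwoTerm

set_option autoImplicit false
universe u
open CategoryTheory CategoryTheory.Pretriangulated
attribute [local instance] HasDerivedCategory.standard
open Dual

namespace Groth.Agent.S8945

/-- Suppose A is a Noetherian local ring with maximal ideal m and residue field κ, and that ω is a
normalized dualizing complex on A; take an ideal I ⊆ m of finite length, set B = A/I, and let E be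
an injective hull of κ; with R right adjoint to restriction of scalars D(B) → D(A) (so that R(ω) =
RHom_A(B, ω) is a normalized dualizing complex for B), there is a distinguished triangle in D(A)
with vertices R(ω) viewed over A, ω, and the module Hom_A(I, E) placed in degree 0. -/
theorem result (A : Type u) [CommRing A] [IsLocalRing A] [IsNoetherianRing A] (ω : Dual.D A) (hω : Dual.IsDualizing A ω) (hn : Dual.IsNormalized A ω) (I : Ideal A) (hI : I ≤ IsLocalRing.maximalIdeal A) (hIl : IsFiniteLength A I) (E : Type u) [AddCommGroup E] [Module A E] (e : IsLocalRing.ResidueField A →ₗ[A] E) (he : InjHull.IsInjectiveHull e) (R : Dual.D A ⥤ Dual.D (A ⧸ I)) (adj : DRing.restrictD (Ideal.Quotient.mk I) ⊣ R) : ∃ (u : (DRing.restrictD (Ideal.Quotient.mk I)).obj (R.obj ω) ⟶ ω) (v : ω ⟶ Dual.inD A (I →ₗ[A] E)) (w : Dual.inD A (I →ₗ[A] E) ⟶ ((DRing.restrictD (Ideal.Quotient.mk I)).obj (R.obj ω))⟦(1 : ℤ)⟧), Triangle.mk u v w ∈ distinguishedTriangles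 := by
  classical
  obtain ⟨J, a, b, hv, hinj, hK, ⟨ι⟩⟩ := Lib.Helper6.DqTri.exists_model ω hω
  haveI := hK
  let S : ShortComplex (ModuleCat.{u} A) :=
    ShortComplex.mk (ModuleCat.ofHom I.subtype) (ModuleCat.ofHom (Submodule.mkQ I)) (by
      apply ModuleCat.hom_ext
      apply LinearMap.ext
      intro r
      change Submodule.mkQ I (I.subtype r) = 0
      rw [Submodule.mkQ_apply, Submodule.Quotient.mk_eq_zero]
      exact r.2)
  have hex : Function.Exact I.subtype (Submodule.mkQ I) := by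
    intro y
    rw [Submodule.mkQ_apply, Submodule.Quotient.mk_eq_zero]
    constructor
    · intro hy
      exact ⟨⟨y, hy⟩, rfl⟩
    · rintro ⟨r, rfl⟩
      exact r.2
  have hS : S.ShortExact := ModuleCat.shortComplex_shortExact S hex
    (Submodule.injective_subtype I) (Submodule.mkQ_surjective I)
  have hT := DerivedCategory.triangleOfSES_distinguished
    (Lib.Helper6.Bidual.DcSC_shortExact J hinj S hS)
  let T := DerivedCategory.triangleOfSES (Lib.Helper6.Bidual.DcSC_shortExact J hinj S hS)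
  let a' : (Lib.Helper6.Bidual.Dq J).obj (Opposite.op (ModuleCat.of A A)) ≅ ω :=
    Lib.Helper6.DqTri.DqSelfIso J ≪≫ ι.symm
  obtain ⟨β⟩ := Lib.Helper6.DqTri.nonempty_restrict_rightAdjoint_iso (Ideal.Quotient.mk I) adj J
  let l0 : (A ⧸ I) ≃ₗ[A] (Lib.Helper6.RDual.BA (Ideal.Quotient.mk I)) :=
    { toFun := fun x => x
      invFun := fun x => x
      map_add' := fun _ _ => rfl
      map_smul' := fun _ _ => rfl
      left_inv := fun _ => rfl
      right_inv := fun _ => rfl }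
  let b' : (DRing.restrictD (Ideal.Quotient.mk I)).obj (R.obj ω) ≅
      (Lib.Helper6.Bidual.Dq J).obj (Opposite.op (ModuleCat.of A (A ⧸ I))) :=
    (DRing.restrictD (Ideal.Quotient.mk I)).mapIso (R.mapIso ι) ≪≫ β ≪≫
      (Lib.Helper6.Bidual.Dq J).mapIso l0.toModuleIso.op
  -- the third vertex
  obtain ⟨hvan, ⟨e0⟩⟩ := Groth.Agent.S1749.result A ω hω hn E e he I hIl
  let Y : Dual.D A := (Lib.Helper6.Bidual.Dq J).obj (Opposite.op (ModuleCat.of A I))
  have hHD : ∀ j : ℤ, Nonempty (Dual.HD A Y j ≃ₗ[A] (Dual.inD A I ⟶ ω⟦j⟧)) := fun j =>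
    ⟨(Lib.Helper6.Bidual.hdQEquiv _ j).trans
      ((Lib.Helper6.Bidual.homologyDcEquiv (M := ModuleCat.of A I) (I := J) (j := j)).trans
        (Linear.homCongr A (Iso.refl _)
          ((shiftFunctor (Dual.D A) j).mapIso ι.symm)))⟩
  have hYvan : ∀ j : ℤ, j ≠ 0 → Subsingleton (Dual.HD A Y j) := by
    intro j hj
    obtain ⟨e1⟩ := hHD j
    have := hvan j hj
    exact e1.toEquiv.subsingleton
  obtain ⟨hge, hle⟩ := Lib.Helper35.KL.isGE_and_isLE_of_subsingleton Y 0 0
    (fun i hi => hYvan i (by omega))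
  obtain ⟨e1⟩ := hHD 0
  let e2 : (Dual.inD A I ⟶ ω⟦(0 : ℤ)⟧) ≃ₗ[A] (Dual.inD A I ⟶ ω) :=
    Linear.homCongr A (Iso.refl _) ((shiftFunctorZero (Dual.D A) ℤ).app ω)
  obtain ⟨c'⟩ := Lib.Helper6.Bidual.nonempty_iso_single Y 0 (I →ₗ[A] E)
    (e1.trans (e2.trans e0))
  let m₁ : (Lib.Helper6.Bidual.Dq J).obj (Opposite.op (ModuleCat.of A (A ⧸ I))) ⟶
      (Lib.Helper6.Bidual.Dq J).obj (Opposite.op (ModuleCat.of A A)) := T.mor₁
  let m₂ : (Lib.Helper6.Bidual.Dq J).obj (Opposite.op (ModuleCat.of A A)) ⟶ Y := T.mor₂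
  let m₃ : Y ⟶
      ((Lib.Helper6.Bidual.Dq J).obj (Opposite.op (ModuleCat.of A (A ⧸ I))))⟦(1 : ℤ)⟧ := T.mor₃
  refine ⟨b'.hom ≫ m₁ ≫ a'.hom, a'.inv ≫ m₂ ≫ c'.hom,
    c'.inv ≫ m₃ ≫ (shiftFunctor (Dual.D A) (1 : ℤ)).map b'.inv, ?_⟩
  refine isomorphic_distinguished _ hT _ (Triangle.isoMk _ _ b' a'.symm c'.symm ?_ ?_ ?_)
  · change (b'.hom ≫ m₁ ≫ a'.hom) ≫ a'.inv = b'.hom ≫ m₁
    rw [Category.assoc, Category.assoc, Iso.hom_inv_id, Category.comp_id]
  · change (a'.inv ≫ m₂ ≫ c'.hom) ≫ c'.inv = a'.inv ≫ m₂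
    rw [Category.assoc, Category.assoc, Iso.hom_inv_id, Category.comp_id]
  · change (c'.inv ≫ m₃ ≫ (shiftFunctor (Dual.D A) (1 : ℤ)).map b'.inv) ≫
      (shiftFunctor (Dual.D A) (1 : ℤ)).map b'.hom = c'.inv ≫ m₃
    rw [Category.assoc, Category.assoc, ← Functor.map_comp, Iso.inv_hom_id,
      CategoryTheory.Functor.map_id, Category.comp_id]

end Groth.Agent.S8945
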