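import Groth.Statements.S8955
import Mathlib

set_option linter.style.haveILetI false

set_option autoImplicit false
universe u
open CategoryTheory AlgebraicGeometry
open LocCoh

namespace Groth.Agent.S8955

section Aux8955
open CategoryTheory AlgebraicGeometry TopologicalSpace Opposite

section Alg
variable {A B M : Type*} [CommRing A] [CommRing B] [Algebra A B] [Algebra.FormallyEtale A B]
  [AddCommGroup M] [Module A M] [Module B M] [IsScalarTower A B M]

/-- extension of a derivation along a formally étale algebra -/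
theorem exists_derivation_ext (d : Derivation ℤ A M) :
    ∃ D : Derivation ℤ B M, ∀ a : A, D (algebraMap A B a) = d a := by
  have h := KaehlerDifferential.isBaseChange_of_formallyEtale ℤ A B
  refine ⟨(h.lift d.liftKaehlerDifferential).compDer (KaehlerDifferential.D ℤ B), fun a => ?_⟩
  change h.lift d.liftKaehlerDifferential (KaehlerDifferential.D ℤ B (algebraMap A B a)) = d a
  rw [← KaehlerDifferential.map_D ℤ ℤ A B a, h.lift_eq, Derivation.liftKaehlerDifferential_comp_D]

theorem derivation_ext_unique (D₁ D₂ : Derivation ℤ B M)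
    (hD : ∀ a : A, D₁ (algebraMap A B a) = D₂ (algebraMap A B a)) : D₁ = D₂ := by
  have h := KaehlerDifferential.isBaseChange_of_formallyEtale ℤ A B
  have key : D₁.liftKaehlerDifferential = D₂.liftKaehlerDifferential := by
    apply h.algHom_ext'
    apply Derivation.liftKaehlerDifferential_unique
    ext a
    change D₁.liftKaehlerDifferential (KaehlerDifferential.map ℤ ℤ A B (KaehlerDifferential.D ℤ A a)) =
      D₂.liftKaehlerDifferential (KaehlerDifferential.map ℤ ℤ A B (KaehlerDifferential.D ℤ A a))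
    rw [KaehlerDifferential.map_D, Derivation.liftKaehlerDifferential_comp_D,
      Derivation.liftKaehlerDifferential_comp_D, hD]
  calc D₁ = D₁.liftKaehlerDifferential.compDer (KaehlerDifferential.D ℤ B) :=
        (Derivation.liftKaehlerDifferential_comp D₁).symm
    _ = D₂.liftKaehlerDifferential.compDer (KaehlerDifferential.D ℤ B) := by rw [key]
    _ = D₂ := Derivation.liftKaehlerDifferential_comp D₂

end Alg

section RingHomForm
variable {A B C : Type u} [CommRing A] [CommRing B] [CommRing C]

theorem exists_der_of_etale (φ : A →+* B) (hφ : φ.Etale) (θ : Derivation ℤ A A) :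
    ∃ δ : B →+ B, (∀ x y, δ (x * y) = x * δ y + y * δ x) ∧ ∀ a, δ (φ a) = φ (θ a) := by
  letI := φ.toAlgebra
  haveI : Algebra.Etale A B := hφ
  haveI : Algebra.FormallyEtale A B := Algebra.Etale.formallyEtale
  obtain ⟨D, hD⟩ := exists_derivation_ext (A := A) (B := B) (M := B)
    ((Algebra.linearMap A B).compDer θ)
  refine ⟨(D : B →ₗ[ℤ] B).toAddMonoidHom, fun x y => ?_, fun a => ?_⟩
  · change D (x * y) = x * D y + y * D x
    rw [D.leibniz, smul_eq_mul, smul_eq_mul]
  · exact hD a

theorem der_unique_of_etale (φ : A →+* B) (hφ : φ.Etale) (ψ : B →+* C) (D₁ D₂ : B →+ C)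
    (h₁ : ∀ x y, D₁ (x * y) = ψ x * D₁ y + ψ y * D₁ x)
    (h₂ : ∀ x y, D₂ (x * y) = ψ x * D₂ y + ψ y * D₂ x)
    (h : ∀ a, D₁ (φ a) = D₂ (φ a)) : D₁ = D₂ := by
  letI := φ.toAlgebra
  letI := ψ.toAlgebra
  letI : Algebra A C := (ψ.comp φ).toAlgebra
  haveI : IsScalarTower A B C := IsScalarTower.of_algebraMap_eq fun _ => rfl
  haveI : Algebra.Etale A B := hφ
  haveI : Algebra.FormallyEtale A B := Algebra.Etale.formallyEtale
  let Δ₁ : Derivation ℤ B C := Derivation.mk' D₁.toIntLinearMap (fun x y => by
    change D₁ (x * y) = x • D₁ y + y • D₁ x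
    rw [h₁, Algebra.smul_def, Algebra.smul_def]
    rfl)
  let Δ₂ : Derivation ℤ B C := Derivation.mk' D₂.toIntLinearMap (fun x y => by
    change D₂ (x * y) = x • D₂ y + y • D₂ x
    rw [h₂, Algebra.smul_def, Algebra.smul_def]
    rfl)
  have key : Δ₁ = Δ₂ := derivation_ext_unique (A := A) Δ₁ Δ₂ h
  ext x
  exact Derivation.congr_fun key x

end RingHomForm

section Sch
variable (A : Type u) [CommRing A] (V : Scheme.{u}) [V.Over (Spec (CommRingCat.of A))]

/-- the structure map `A → Γ(V, U)`. -/
noncomputable def secMap (U : V.Opens) : A →+* Γ(V, U) :=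
  ((V ↘ Spec (CommRingCat.of A)).appLE ⊤ U (by simp)).hom.comp
    (Scheme.ΓSpecIso (CommRingCat.of A)).inv.hom

theorem secMap_res {U U' : V.Opens} (h : U' ≤ U) (a : A) :
    (V.presheaf.map (homOfLE h).op).hom (secMap A V U a) = secMap A V U' a := by
  have e : (V ↘ Spec (CommRingCat.of A)).appLE ⊤ U (by simp) ≫ V.presheaf.map (homOfLE h).op =
      (V ↘ Spec (CommRingCat.of A)).appLE ⊤ U' (by simp) := Scheme.Hom.appLE_map _ _ _
  exact congr($e ((Scheme.ΓSpecIso (CommRingCat.of A)).inv.hom a))

theorem secMap_etale [Etale (V ↘ Spec (CommRingCat.of A))] (U : V.Opens) (hU : IsAffineOpen U) :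
    (secMap A V U).Etale :=
  RingHom.Etale.stableUnderComposition _ _
    (RingHom.Etale.of_bijective
      (ConcreteCategory.bijective_of_isIso (Scheme.ΓSpecIso (CommRingCat.of A)).inv))
    (Etale.etale_appLE _ (isAffineOpen_top _) hU _)

theorem resTop_toGlobal (U : V.Opens) (a : A) :
    Coh.resTop V (op U) (Coh.toGlobal (V ↘ Spec (CommRingCat.of A)) a) = secMap A V U a := rfl

variable [Etale (V ↘ Spec (CommRingCat.of A))] (θ : Derivation ℤ A A)

/-- the unique extension of `θ` to the sections over an affine open. -/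
noncomputable def derU (U : V.affineOpens) : Γ(V, U.1) →+ Γ(V, U.1) :=
  (exists_der_of_etale (secMap A V U.1) (secMap_etale A V U.1 U.2) θ).choose

theorem derU_mul (U : V.affineOpens) (x y : Γ(V, U.1)) :
    derU A V θ U (x * y) = x * derU A V θ U y + y * derU A V θ U x :=
  (exists_der_of_etale (secMap A V U.1) (secMap_etale A V U.1 U.2) θ).choose_spec.1 x y

theorem derU_secMap (U : V.affineOpens) (a : A) :
    derU A V θ U (secMap A V U.1 a) = secMap A V U.1 (θ a) :=
  (exists_der_of_etale (secMap A V U.1) (secMap_etale A V U.1 U.2) θ).choose_spec.2 a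

theorem derU_res (U U' : V.affineOpens) (h : U'.1 ≤ U.1) (s : Γ(V, U.1)) :
    derU A V θ U' ((V.presheaf.map (homOfLE h).op).hom s) =
      (V.presheaf.map (homOfLE h).op).hom (derU A V θ U s) := by
  let ρ : Γ(V, U.1) →+* Γ(V, U'.1) := (V.presheaf.map (homOfLE h).op).hom
  have key := der_unique_of_etale (secMap A V U.1) (secMap_etale A V U.1 U.2) ρ
    ((derU A V θ U').comp ρ.toAddMonoidHom) (ρ.toAddMonoidHom.comp (derU A V θ U)) ?_ ?_ ?_
  · exact DFunLike.congr_fun key s
  · intro x y
    change derU A V θ U' (ρ (x * y)) = ρ x * derU A V θ U' (ρ y) + ρ y * derU A V θ U' (ρ x)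
    rw [map_mul, derU_mul]
  · intro x y
    change ρ (derU A V θ U (x * y)) = ρ x * ρ (derU A V θ U y) + ρ y * ρ (derU A V θ U x)
    rw [derU_mul, map_add, map_mul, map_mul]
  · intro a
    change derU A V θ U' (ρ (secMap A V U.1 a)) = ρ (derU A V θ U (secMap A V U.1 a))
    rw [derU_secMap]
    change derU A V θ U' ((V.presheaf.map (homOfLE h).op).hom (secMap A V U.1 a)) =
      (V.presheaf.map (homOfLE h).op).hom (secMap A V U.1 (θ a))
    rw [secMap_res, secMap_res, derU_secMap]

/-- the abelian sheaf underlying `O_V`. -/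
noncomputable abbrev OSh : TopCat.Sheaf Ab V := Coh.toAb (Coh.structureModule V)

theorem isBasis_affine : Opens.IsBasis (Set.range (Subtype.val : V.affineOpens → V.Opens)) := by
  rw [Subtype.range_coe]
  exact V.isBasis_affineOpens

noncomputable def basisHom :
    (inducedFunctor (Subtype.val : V.affineOpens → V.Opens)).op ⋙ (OSh V).1 ⟶
      (inducedFunctor (Subtype.val : V.affineOpens → V.Opens)).op ⋙ (OSh V).1 where
  app i := AddCommGrpCat.ofHom (derU A V θ i.unop)
  naturality i j g := by
    ext s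
    exact derU_res A V θ i.unop j.unop (leOfHom g.unop.hom) s

/-- the derivation of `O_V` extending `θ`, as an endomorphism of the underlying abelian sheaf. -/
noncomputable def derSh :
    Coh.toAb (Coh.structureModule V) ⟶ Coh.toAb (Coh.structureModule V) :=
  ⟨TopCat.Sheaf.restrictHomEquivHom (OSh V).1 (OSh V) (isBasis_affine V) (basisHom A V θ)⟩

theorem derSh_app (U : V.affineOpens) (s : Γ(V, U.1)) :
    (derSh A V θ).hom.app (op U.1) s = derU A V θ U s := by
  have := TopCat.Sheaf.extend_hom_app (OSh V).1 (OSh V) (isBasis_affine V) (basisHom A V θ) U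
  exact congr($this s)

omit [Etale (V ↘ Spec (CommRingCat.of A))] in
theorem smulAb_toGlobal_app (a : A) (U : V.Opens) (s : Γ(V, U)) :
    (Coh.smulAb (Coh.structureModule V) (Coh.toGlobal (V ↘ Spec (CommRingCat.of A)) a)).hom.app
      (op U) s = secMap A V U a * s := rfl

theorem derSh_leibniz (a : A) :
    Coh.smulAb (Coh.structureModule V) (Coh.toGlobal (V ↘ Spec (CommRingCat.of A)) a) ≫
        derSh A V θ =
      Coh.smulAb (Coh.structureModule V) (Coh.toGlobal (V ↘ Spec (CommRingCat.of A)) (θ a)) +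
        derSh A V θ ≫
          Coh.smulAb (Coh.structureModule V) (Coh.toGlobal (V ↘ Spec (CommRingCat.of A)) a) := by
  apply Sheaf.hom_ext
  apply TopCat.Sheaf.hom_ext (F := (OSh V).1) (F' := OSh V) (isBasis_affine V)
  intro U
  ext s
  obtain ⟨s', rfl⟩ : ∃ s' : Γ(V, U.1), s' = s := ⟨s, rfl⟩
  change (derSh A V θ).hom.app (op U.1) (secMap A V U.1 a * s') =
    secMap A V U.1 (θ a) * s' +
      secMap A V U.1 a * (show Γ(V, U.1) from (derSh A V θ).hom.app (op U.1) s')
  rw [derSh_app, derSh_app, derU_mul, derU_secMap, add_comm, mul_comm s']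

end Sch

end Aux8955

/-- For a ring A, a scheme V quasi-compact, separated and étale over Spec A, and a derivation θ of A,
each cohomology module H^i(V, O_V) carries an additive operator D with D(a • ξ) = θ(a) • ξ + a •
D(ξ) (existence only). (The published statement allows V quasi-separated; this row takes V
separated.) -/
theorem result (A : Type u) [CommRing A] (V : Scheme.{u}) [V.Over (Spec (CommRingCat.of A))] [QuasiCompact (V ↘ Spec (CommRingCat.of A))] [IsSeparated (V ↘ Spec (CommRingCat.of A))] [Etale (V ↘ Spec (CommRingCat.of A))] (θ : Derivation ℤ A A) (i : ℕ) : ∃ D : Coh.HH V (Coh.structureModule V) i →+ Coh.HH V (Coh.structureModule V) i, ∀ (a : A) (ξ : Coh.HH V (Coh.structureModule V) i), D (a • ξ) = θ a • ξ + a • D ξ := by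
  refine ⟨Sheaf.H.map (derSh A V θ) i, fun a ξ => ?_⟩
  change Sheaf.H.map (derSh A V θ) i
      (Sheaf.H.map (Coh.smulAb (Coh.structureModule V)
        (Coh.toGlobal (V ↘ Spec (CommRingCat.of A)) a)) i ξ) =
    Sheaf.H.map (Coh.smulAb (Coh.structureModule V)
        (Coh.toGlobal (V ↘ Spec (CommRingCat.of A)) (θ a))) i ξ +
      Sheaf.H.map (Coh.smulAb (Coh.structureModule V)
        (Coh.toGlobal (V ↘ Spec (CommRingCat.of A)) a)) i (Sheaf.H.map (derSh A V θ) i ξ)
  rw [← Sheaf.H.map_comp_apply, ← Sheaf.H.map_comp_apply, derSh_leibniz, Sheaf.H.map_add_apply]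

end Groth.Agent.S8955
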