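import Groth.Statements.S8960
import Groth.Agent.Lib.Helper27.TraceProj

set_option autoImplicit false
universe u
open QFDual

namespace Groth.Agent.S8960

/-- Suppose the Dedekind different of A → B is defined: A is Noetherian, B is a finite A-algebra,
nonzerodivisors of A are nonzerodivisors on B, and with K = Q(A) the total ring of fractions and L =
B ⊗_A K the map K → L is étale (here with L finite free over K). If A → B is flat, then
Trace_{L/K}(b) lies in A for every b ∈ B; equivalently 1 ∈ 𝓛_{B/A}, the Dedekind complementary
module. -/
theorem result (A K B L : Type u) [CommRing A] [CommRing K] [CommRing B] [CommRing L] [Algebra A K] [Algebra A B] [Algebra B L] [Algebra K L] [Algebra A L] [IsScalarTower A K L] [IsScalarTower A B L] (h : QFDual.IsDedekindDefined A K B L) [Module.Flat A B] : (1 : L) ∈ QFDual.complementary A K B L := by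
  haveI := h.isNoetherianRing
  haveI := h.finite
  haveI := h.free
  haveI := h.finiteKL
  haveI : IsLocalization (nonZeroDivisors A) K := h.isFractionRing
  haveI := h.isLocalization
  haveI : Module.FinitePresentation A B := Module.finitePresentation_of_finite A B
  haveI : Module.Projective A B := Module.Flat.projective_of_finitePresentation
  have hbc : IsBaseChange K (IsScalarTower.toAlgHom A B L).toLinearMap :=
    IsLocalizedModule.isBaseChange (nonZeroDivisors A) K _
  show ∀ b : B, Algebra.trace K L ((1 : L) * algebraMap B L b) ∈ (algebraMap A K).range
  intro b
  rw [one_mul]
  exact Groth.Agent.Lib.Helper27.TraceProj.trace_mem_range_of_projective hbc b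

end Groth.Agent.S8960
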