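import Groth.Statements.S8961
import Groth.Agent.Lib.Helper27.IntegralTrace

set_option autoImplicit false
universe u
open QFDual

namespace Groth.Agent.S8961

/-- Suppose the Dedekind different of A → B is defined: A is Noetherian, B is a finite A-algebra,
nonzerodivisors of A are nonzerodivisors on B, and with K = Q(A) and L = B ⊗_A K the map K → L is
étale (here with L finite free over K). If A is a normal ring, i.e. every localization A_p at a
prime is an integrally closed domain, then Trace_{L/K}(b) lies in A for every b ∈ B; equivalently 1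
∈ 𝓛_{B/A}. -/
theorem result (A K B L : Type u) [CommRing A] [CommRing K] [CommRing B] [CommRing L] [Algebra A K] [Algebra A B] [Algebra B L] [Algebra K L] [Algebra A L] [IsScalarTower A K L] [IsScalarTower A B L] (h : QFDual.IsDedekindDefined A K B L) (hA : EGA4.IsNormalRing A) : (1 : L) ∈ QFDual.complementary A K B L := by
  classical
  haveI := h.isNoetherianRing
  haveI := h.finite
  haveI := h.free
  haveI := h.finiteKL
  haveI : IsLocalization (nonZeroDivisors A) K := h.isFractionRing
  show ∀ b : B, Algebra.trace K L ((1 : L) * algebraMap B L b) ∈ (algebraMap A K).range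
  intro b
  rw [one_mul]
  set β := algebraMap B L b with hβ
  set t := Algebra.trace K L β with ht
  obtain ⟨a, s, hts⟩ := IsLocalization.exists_mk'_eq (nonZeroDivisors A) t
  have hts' : t * algebraMap A K s = algebraMap A K a := by
    rw [← hts]; exact IsLocalization.mk'_spec _ _ _
  -- conductor ideal
  let J : Ideal A := Submodule.comap (LinearMap.mulRight A a) (Ideal.span {(s : A)})
  have hJmem : ∀ r : A, r ∈ J ↔ r * a ∈ Ideal.span {(s : A)} := fun r => Iff.rfl
  have hJtop : J = ⊤ := by
    by_contra hJ
    obtain ⟨p, hpmax, hJp⟩ := Ideal.exists_le_maximal J hJ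
    haveI := hpmax.isPrime
    obtain ⟨hdom, hic⟩ := hA p
    let Ap := Localization.AtPrime p
    let Fp := FractionRing Ap
    let φ : A →+* Fp := (algebraMap Ap Fp).comp (algebraMap A Ap)
    have hφs : ∀ y : nonZeroDivisors A, IsUnit (φ y) := by
      intro y
      rw [isUnit_iff_ne_zero]
      have h1 : algebraMap A Ap y ∈ nonZeroDivisors Ap :=
        IsLocalization.map_nonZeroDivisors_le p.primeCompl Ap ⟨y, y.2, rfl⟩
      change algebraMap Ap Fp (algebraMap A Ap y) ≠ 0
      exact IsFractionRing.to_map_ne_zero_of_mem_nonZeroDivisors (R := Ap) (K := Fp) h1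
    let g : K →+* Fp := IsLocalization.lift (M := nonZeroDivisors A) (g := φ) hφs
    have hg : ∀ x : A, g (algebraMap A K x) = φ x := fun x => IsLocalization.lift_eq _ _
    letI : Algebra K Fp := g.toAlgebra
    have hgalg : algebraMap K Fp = g := rfl
    let f' : Module.End Fp (TensorProduct K Fp L) := (LinearMap.mulLeft K β).baseChange Fp
    obtain ⟨P, hPm, hP0⟩ := (Algebra.IsIntegral.of_finite A B).isIntegral b
    have hPβ : Polynomial.aeval β (P.map (algebraMap A K)) = 0 := by
      rw [Polynomial.aeval_map_algebraMap, Polynomial.aeval_def,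
        IsScalarTower.algebraMap_eq A B L, ← Polynomial.hom_eval₂, hP0, map_zero]
    have hPf : Polynomial.aeval f' (((P.map (algebraMap A Ap))).map (algebraMap Ap Fp)) = 0 := by
      have e1 : ((P.map (algebraMap A Ap))).map (algebraMap Ap Fp) =
          (P.map (algebraMap A K)).map (algebraMap K Fp) := by
        rw [Polynomial.map_map, Polynomial.map_map]
        congr 1
        ext x
        simp only [RingHom.comp_apply, hgalg, hg]
        rfl
      rw [e1, Polynomial.aeval_map_algebraMap]
      have e2 := Polynomial.aeval_algHom_apply (Module.End.baseChangeHom K Fp L)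
        (LinearMap.mulLeft K β) (P.map (algebraMap A K))
      have e3 := Polynomial.aeval_algHom_apply (Algebra.lmul K L) β (P.map (algebraMap A K))
      rw [hPβ, map_zero] at e3
      have e4 : (Algebra.lmul K L) β = LinearMap.mulLeft K β := rfl
      rw [e4] at e3
      rw [e3, map_zero] at e2
      exact e2
    have hint : IsIntegral Ap (LinearMap.trace Fp (TensorProduct K Fp L) f') :=
      Groth.Agent.Lib.Helper27.IntegralTrace.isIntegral_trace_of_aeval_eq_zero f'
        (P.map (algebraMap A Ap)) (hPm.map _) hPf
    have htr : LinearMap.trace Fp (TensorProduct K Fp L) f' = g t := by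
      rw [LinearMap.trace_baseChange, hgalg]
      rfl
    rw [htr] at hint
    obtain ⟨y, hy⟩ := IsIntegrallyClosed.isIntegral_iff.mp hint
    have hinjF : Function.Injective (algebraMap Ap Fp) := IsFractionRing.injective Ap Fp
    have h2 : y * algebraMap A Ap s = algebraMap A Ap a := by
      apply hinjF
      rw [map_mul, hy]
      have := congrArg g hts'
      rw [map_mul, hg, hg] at this
      exact this
    obtain ⟨y0, u, hyu⟩ := IsLocalization.exists_mk'_eq p.primeCompl y
    have h3 : y * algebraMap A Ap u = algebraMap A Ap y0 := by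
      rw [← hyu]; exact IsLocalization.mk'_spec _ _ _
    have h4 : algebraMap A Ap (y0 * s) = algebraMap A Ap (a * u) := by
      rw [map_mul, map_mul, ← h3, ← h2]
      ring
    obtain ⟨c, hc⟩ := (IsLocalization.eq_iff_exists p.primeCompl Ap).mp h4
    have h5 : (c : A) * u ∈ J := by
      rw [hJmem, Ideal.mem_span_singleton']
      refine ⟨c * y0, ?_⟩
      have : (c : A) * (y0 * s) = c * (a * u) := hc
      linear_combination this
    have h6 : (c : A) * u ∈ p := hJp h5
    exact (p.primeCompl.mul_mem c.2 u.2) h6
  have h1 : (1 : A) ∈ J := by rw [hJtop]; trivial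
  rw [hJmem, one_mul, Ideal.mem_span_singleton'] at h1
  obtain ⟨a0, ha0⟩ := h1
  refine ⟨a0, ?_⟩
  have hu : IsUnit (algebraMap A K s) := IsLocalization.map_units K s
  apply hu.mul_right_cancel
  rw [hts', ← ha0, map_mul]

end Groth.Agent.S8961
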