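import Groth.Statements.S8963
import Groth.Agent.Lib.Helper94.QFFibB

set_option autoImplicit false
universe u
open TensorProduct
open QFDual

namespace Groth.Agent.S8963

attribute [local instance] Algebra.TensorProduct.rightAlgebra in
theorem aux (A B' B : Type u) [CommRing A] [CommRing B'] [CommRing B] [IsNoetherianRing A] [IsNoetherianRing B] [Algebra A B'] [Algebra B' B] [Algebra A B] [IsScalarTower A B' B] [Module.Flat A B] (hf : QFDual.IsQFFactor A B' B)
    (H : ∀ (p : Ideal A) [p.IsPrime] (B'₁ B₁ : Type u) [CommRing B'₁] [CommRing B₁] [Algebra B' B'₁] [Algebra p.ResidueField B'₁] [Algebra A B'₁] [IsScalarTower A p.ResidueField B'₁] [IsScalarTower A B' B'₁] [Algebra B B₁] [Algebra p.ResidueField B₁] [Algebra A B₁] [IsScalarTower A p.ResidueField B₁] [IsScalarTower A B B₁] [Algebra B'₁ B₁] [Algebra B' B₁] [IsScalarTower B' B'₁ B₁] [IsScalarTower B' B B₁] [IsScalarTower p.ResidueField B'₁ B₁], Algebra.IsPushout A p.ResidueField B' B'₁ → Algebra.IsPushout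 A p.ResidueField B B₁ → Module.Invertible B₁ (QFDual.omega p.ResidueField B'₁ B₁)) :
    Module.Invertible B (QFDual.omega A B' B) := by
  haveI := hf.finite
  haveI : Module.Finite B' (Disc.Omega A B') :=
    Groth.Agent.Lib.Helper94.QFLocal.finite_omega_of_noetherian A B'
  haveI : Module.Finite B (B ⊗[B'] Disc.Omega A B') := Module.Finite.base_change B' B _
  refine Groth.Agent.Lib.Helper94.QFFib.invertible_of_fibres A B (B ⊗[B'] Disc.Omega A B')
    (fun q _ => Groth.Agent.Lib.Helper94.QFFib.flat_stalk_omega hf.isOpenImmersion q) ?_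
  intro p _
  let κ := p.ResidueField
  letI algB₁ : Algebra (κ ⊗[A] B') (κ ⊗[A] B) :=
    (Algebra.TensorProduct.map (AlgHom.id κ κ) (IsScalarTower.toAlgHom A B' B)).toRingHom.toAlgebra
  letI algB' : Algebra B' (κ ⊗[A] B) := ((algebraMap B (κ ⊗[A] B)).comp (algebraMap B' B)).toAlgebra
  haveI t1 : IsScalarTower B' B (κ ⊗[A] B) := IsScalarTower.of_algebraMap_eq fun _ => rfl
  haveI t2 : IsScalarTower B' (κ ⊗[A] B') (κ ⊗[A] B) := IsScalarTower.of_algebraMap_eq fun b => by
    change (1 : κ) ⊗ₜ[A] algebraMap B' B b =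
      Algebra.TensorProduct.map (AlgHom.id κ κ) (IsScalarTower.toAlgHom A B' B) ((1 : κ) ⊗ₜ[A] b)
    rw [Algebra.TensorProduct.map_tmul]
    rfl
  haveI t3 : IsScalarTower κ (κ ⊗[A] B') (κ ⊗[A] B) := IsScalarTower.of_algebraMap_eq fun a => by
    change _ = Algebra.TensorProduct.map (AlgHom.id κ κ) (IsScalarTower.toAlgHom A B' B)
      (algebraMap κ _ a)
    rw [AlgHom.commutes]
  have h' : Algebra.IsPushout A κ B' (κ ⊗[A] B') := TensorProduct.isPushout
  have hB : Algebra.IsPushout A κ B (κ ⊗[A] B) := TensorProduct.isPushout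
  haveI hinv : Module.Invertible (κ ⊗[A] B) (QFDual.omega κ (κ ⊗[A] B') (κ ⊗[A] B)) :=
    H p (κ ⊗[A] B') (κ ⊗[A] B) h' hB
  have hbij := Groth.Agent.Lib.Helper94.QFBC.omegaBC_bijective_of_flat_qf A B' B κ
    (κ ⊗[A] B') (κ ⊗[A] B) hf h'
  let e : QFDual.omega A B' (κ ⊗[A] B) ≃ₗ[κ ⊗[A] B] QFDual.omega κ (κ ⊗[A] B') (κ ⊗[A] B) :=
    LinearEquiv.ofBijective _ hbij
  let e' : (κ ⊗[A] B) ⊗[B] (B ⊗[B'] Disc.Omega A B') ≃ₗ[κ ⊗[A] B]
      (κ ⊗[A] B) ⊗[B'] Disc.Omega A B' :=
    TensorProduct.AlgebraTensorModule.cancelBaseChange B' B (κ ⊗[A] B) (κ ⊗[A] B) (Disc.Omega A B')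
  exact Module.Invertible.congr (e'.trans e).symm

/-- Invertibility of the relative dualizing module is a fibrewise condition. Let A → B be a flat
homomorphism of Noetherian rings with a factorization A → B' → B, A → B' finite and Spec B → Spec B'
an open immersion, so that A → B is quasi-finite and ω_{B/A} = B ⊗_{B'} Hom_A(B', A). The B-module
ω_{B/A} is invertible exactly when, for every prime p of A and every presentation of the fibre rings
B'_p = B' ⊗_A κ(p), B_p = B ⊗_A κ(p) as cocartesian squares over the residue field κ(p) (compatibly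
with B' → B), the module ω_{B_p/κ(p)} = B_p ⊗_{B'_p} Hom_{κ(p)}(B'_p, κ(p)) is an invertible
B_p-module. -/
theorem result (A B' B : Type u) [CommRing A] [CommRing B'] [CommRing B] [IsNoetherianRing A] [IsNoetherianRing B] [Algebra A B'] [Algebra B' B] [Algebra A B] [IsScalarTower A B' B] [Module.Flat A B] (hf : QFDual.IsQFFactor A B' B) : Module.Invertible B (QFDual.omega A B' B) ↔ ∀ (p : Ideal A) [p.IsPrime] (B'₁ B₁ : Type u) [CommRing B'₁] [CommRing B₁] [Algebra B' B'₁] [Algebra p.ResidueField B'₁] [Algebra A B'₁] [IsScalarTower A p.ResidueField B'₁] [IsScalarTower A B' B'₁] [Algebra B B₁] [Algebra p.ResidueField B₁] [Algebra A B₁] [IsScalarTower A p.ResidueField B₁] [IsScalarTower A B B₁] [Algebra B'₁ B₁] [Algebra B' B₁] [IsScalarTower B' B'₁ B₁] [IsScalarTower B' B B₁] [IsScalarTower p.ResidueField B'₁ B₁], Algebra.IsPushout A p.ResidueField B' B'₁ → Algebra.IsPushout A p.ResidueField B B₁ → Module.Invertible B₁ (QFDual.omega p.ResidueField B'₁ B₁) := by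
  classical
  constructor
  · intro hinv p _ B'₁ B₁ _ _ _ _ _ _ _ _ _ _ _ _ _ _ _ _ _ h _
    have hbij := Groth.Agent.Lib.Helper94.QFBC.omegaBC_bijective_of_flat_qf A B' B p.ResidueField
      B'₁ B₁ hf h
    let e : QFDual.omega A B' B₁ ≃ₗ[B₁] QFDual.omega p.ResidueField B'₁ B₁ :=
      LinearEquiv.ofBijective _ hbij
    let e' : B₁ ⊗[B] (B ⊗[B'] Disc.Omega A B') ≃ₗ[B₁] B₁ ⊗[B'] Disc.Omega A B' :=
      TensorProduct.AlgebraTensorModule.cancelBaseChange B' B B₁ B₁ (Disc.Omega A B')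
    exact Module.Invertible.congr (e'.trans e)
  · intro H
    exact aux A B' B hf H

end Groth.Agent.S8963
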