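import Groth.Statements.S8964
import Groth.Agent.Lib.Helper94.QFLocalD

set_option autoImplicit false
universe u
open TensorProduct
open QFDual

namespace Groth.Agent.S8964

open Groth.Agent.Lib.Helper94.QFLocal IsLocalRing

attribute [local instance] Algebra.TensorProduct.rightAlgebra

open AlgebraicGeometry CategoryTheory in
/-- An open immersion of affine schemes is an epimorphism of rings. -/
theorem epi_of_isOpenImmersion {B' B : Type u} [CommRing B'] [CommRing B] [Algebra B' B]
    (hopen : IsOpenImmersion (Spec.map (CommRingCat.ofHom (algebraMap B' B))))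
    (X : Type u) [CommRing X] (j₁ j₂ : B →+* X)
    (h : j₁.comp (algebraMap B' B) = j₂.comp (algebraMap B' B)) : j₁ = j₂ := by
  have hepi : Epi (CommRingCat.ofHom (algebraMap B' B)) := by
    have h1 : Mono (Spec.map (CommRingCat.ofHom (algebraMap B' B))) := inferInstance
    have h2 : Mono (CommRingCat.ofHom (algebraMap B' B)).op := Scheme.Spec.mono_of_mono_map h1
    exact (op_mono_iff _).mp h2
  have hg : CommRingCat.ofHom (algebraMap B' B) ≫ CommRingCat.ofHom j₁ =
      CommRingCat.ofHom (algebraMap B' B) ≫ CommRingCat.ofHom j₂ := by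
    ext b'
    exact RingHom.congr_fun h b'
  have := (cancel_epi _).mp hg
  exact congrArg CommRingCat.Hom.hom this

/-- The stalk of `ω_{B/A}` at a prime is free of rank one. -/
theorem stalk_free (A B' B : Type u) [CommRing A] [CommRing B'] [CommRing B] [IsNoetherianRing A]
    [Algebra A B'] [Algebra B' B] [Algebra A B] [IsScalarTower A B' B] [Module.Finite A B']
    [IsNoetherianRing B] [Module.Finite B (B ⊗[B'] Disc.Omega A B')]
    (hopen : AlgebraicGeometry.IsOpenImmersion
      (AlgebraicGeometry.Spec.map (CommRingCat.ofHom (algebraMap B' B))))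
    (hs : Synt.IsSyntomic A B) (q : Ideal B) [q.IsPrime] :
    Nonempty (Localization.AtPrime q ≃ₗ[Localization.AtPrime q]
      Localization.AtPrime q ⊗[B] (B ⊗[B'] Disc.Omega A B')) := by
  classical
  haveI : Module.Flat A B := hs.1
  have hbij := bijective_localRingHom_of_isOpenImmersion (algebraMap B' B) hopen q
  set q' : Ideal B' := q.comap (algebraMap B' B) with hq'
  let BQ := Localization.AtPrime q
  let σ : Localization.AtPrime q' →ₐ[B'] BQ :=
    { Localization.localRingHom q' q (algebraMap B' B) rfl with
      commutes' := fun b => by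
        change Localization.localRingHom q' q (algebraMap B' B) rfl (algebraMap B' _ b) = _
        rw [Localization.localRingHom_to_map, ← IsScalarTower.algebraMap_apply] }
  let eσ : Localization.AtPrime q' ≃ₐ[B'] BQ := AlgEquiv.ofBijective σ hbij
  haveI : IsLocalization.AtPrime BQ q' := IsLocalization.isLocalization_of_algEquiv q'.primeCompl eσ
  have hflatL' : Module.Flat A (Localization.AtPrime q') :=
    Module.Flat.of_linearEquiv (eσ.toLinearEquiv.restrictScalars A)
  obtain ⟨A₂, _, _, _, _, _, e₂, he₂, hloc, hfin, hfree, hflatB', hmax, ⟨eΩ⟩⟩ :=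
    exists_local_structure q' hflatL'
  set C := Localization.Away e₂ with hC
  letI : Algebra BQ C := (localLift (L' := BQ) q' hmax).toAlgebra
  haveI : IsScalarTower B' BQ C := IsScalarTower.of_algebraMap_eq fun b => by
    change _ = localLift (L' := BQ) q' hmax (algebraMap B' BQ b)
    rw [← RingHom.comp_apply, localLift_comp]
  haveI : Module.FaithfullyFlat BQ C := faithfullyFlat_of_local q' hmax
  -- `C` is a `B`-algebra compatibly with `B'`
  let β : B →ₐ[A] C :=
    { (algebraMap BQ C).comp (algebraMap B BQ) with
      commutes' := fun a => by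
        change algebraMap BQ C (algebraMap B BQ (algebraMap A B a)) = algebraMap A C a
        rw [IsScalarTower.algebraMap_apply A B' B, ← IsScalarTower.algebraMap_apply B' B BQ,
          ← IsScalarTower.algebraMap_apply B' BQ C, ← IsScalarTower.algebraMap_apply A B' C] }
  have hβ : ∀ b', β (algebraMap B' B b') = algebraMap B' C b' := by
    intro b'
    change algebraMap BQ C (algebraMap B BQ (algebraMap B' B b')) = algebraMap B' C b'
    rw [← IsScalarTower.algebraMap_apply B' B BQ, ← IsScalarTower.algebraMap_apply B' BQ C]
  have hsC : Synt.IsSyntomic A₂ C :=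
    isSyntomic_local_factor e₂ he₂ (epi_of_isOpenImmersion hopen) β hβ hs
  obtain ⟨eC⟩ := exists_generator_of_syntomic hsC
  let e3 : BQ ⊗[B] (B ⊗[B'] Disc.Omega A B') ≃ₗ[BQ] BQ ⊗[B'] Disc.Omega A B' :=
    TensorProduct.AlgebraTensorModule.cancelBaseChange B' B BQ BQ (Disc.Omega A B')
  let e4 : C ⊗[BQ] (BQ ⊗[B] (B ⊗[B'] Disc.Omega A B')) ≃ₗ[C]
      C ⊗[BQ] (BQ ⊗[B'] Disc.Omega A B') :=
    TensorProduct.AlgebraTensorModule.congr (LinearEquiv.refl C C) e3
  let e5 : C ⊗[BQ] (BQ ⊗[B'] Disc.Omega A B') ≃ₗ[C] C ⊗[B'] Disc.Omega A B' :=
    TensorProduct.AlgebraTensorModule.cancelBaseChange B' BQ C C (Disc.Omega A B')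
  exact nonempty_equiv_of_faithfullyFlat (R := BQ) (S := C)
    (((e4.trans e5).trans eΩ).trans eC.symm)

/-- A quasi-finite syntomic map has an invertible relative dualizing module. Let A be a Noetherian ring
and A → B a syntomic ring map (flat, of finite presentation, with fibres local complete
intersections), and suppose it factors through an intermediate ring B', with A → B' a finite map and
the induced morphism Spec B → Spec B' an open immersion, so that A → B is quasi-finite and ω_{B/A} =
B ⊗_{B'} Hom_A(B', A). Then ω_{B/A} is an invertible B-module. (The published statement is for a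
locally quasi-finite syntomic morphism of locally Noetherian schemes and the sheaf ω_{Y/X}; this row
is its form over a pair of affine opens.) -/
theorem result (A B' B : Type u) [CommRing A] [CommRing B'] [CommRing B] [IsNoetherianRing A] [Algebra A B'] [Algebra B' B] [Algebra A B] [IsScalarTower A B' B] (hf : QFDual.IsQFFactor A B' B) (hs : Synt.IsSyntomic A B) : Module.Invertible B (QFDual.omega A B' B) := by
  classical
  haveI := hf.finite
  have hopen := hf.isOpenImmersion
  haveI : Algebra.FinitePresentation A B := hs.2.1
  haveI : IsNoetherianRing B' := IsNoetherianRing.of_finite A B'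
  haveI : IsNoetherianRing B := Algebra.FiniteType.isNoetherianRing A B
  haveI : Module.Finite B' (Disc.Omega A B') := finite_omega_of_noetherian A B'
  haveI : Module.Finite B (B ⊗[B'] Disc.Omega A B') := inferInstance
  haveI : Module.FinitePresentation B (B ⊗[B'] Disc.Omega A B') :=
    Module.finitePresentation_of_finite B _
  exact invertible_of_stalks B (B ⊗[B'] Disc.Omega A B')
    (fun q _ => stalk_free A B' B hopen hs q)

end Groth.Agent.S8964
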