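import Groth.Statements.S8965
import Groth.Agent.Lib.Helper27.Complementary

set_option autoImplicit false
universe u
open QFDual

namespace Groth.Agent.S8965

/-- Suppose the Dedekind different of A → B is defined (A Noetherian, B a finite A-algebra,
nonzerodivisors of A nonzerodivisors on B, K = Q(A) → L = B ⊗_A K étale, here with L finite free
over K) and that B is free as an A-module. Then the Dedekind different 𝔇_{B/A} ⊆ L is the image
under B → L of the ideal of b ∈ B with b · Hom_A(B, A) ⊆ B · Trace_{B/A}, where B acts on Hom_A(B,
A) through the argument. (The published statement assumes only A → B flat, with the trace element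
τ_{B/A} of the relative dualizing module ω_{B/A}; for B finite free these are Trace_{B/A} and
Hom_A(B, A), the case taken here.) -/
theorem result (A K B L : Type u) [CommRing A] [CommRing K] [CommRing B] [CommRing L] [Algebra A K] [Algebra A B] [Algebra B L] [Algebra K L] [Algebra A L] [IsScalarTower A K L] [IsScalarTower A B L] (h : QFDual.IsDedekindDefined A K B L) [Module.Finite A B] [Module.Free A B] : QFDual.dedekindDifferent A K B L = Submodule.map (Algebra.linearMap B L) (QFDual.different B (Disc.Omega.trace A B)) := by
  haveI : IsLocalization (nonZeroDivisors A) K := h.isFractionRing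
  haveI := h.isLocalization
  have hinj := Groth.Agent.Lib.Helper27.Complementary.injective_algebraMap h
  have htr : ∀ b : B, Algebra.trace K L (algebraMap B L b) = algebraMap A K (Algebra.trace A B b) :=
    fun b => Algebra.trace_localization A (nonZeroDivisors A) b
  have hone : (1 : L) ∈ QFDual.complementary A K B L := by
    intro b
    rw [one_mul, htr]
    exact ⟨_, rfl⟩
  let f := Groth.Agent.Lib.Helper27.Complementary.equivOmega h
  have hf : ∀ (x : QFDual.complementary A K B L) (b : B),
      algebraMap A K ((f x).toLinearMap b) = Algebra.trace K L ((x : L) * algebraMap B L b) :=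
    fun x b => Groth.Agent.Lib.Helper27.Complementary.algebraMap_equivOmega h x b
  ext x
  constructor
  · intro hx
    obtain ⟨r, hr⟩ := hx 1 hone
    rw [mul_one] at hr
    refine ⟨r, ?_, hr⟩
    change r ∈ QFDual.different B (Disc.Omega.trace A B)
    rw [QFDual.mem_different_iff]
    intro m
    obtain ⟨y, rfl⟩ := f.surjective m
    obtain ⟨c, hc⟩ := hx y y.2
    refine ⟨c, ?_⟩
    apply Disc.Omega.ext
    apply LinearMap.ext
    intro b
    apply hinj
    rw [Disc.Omega.smul_toLinearMap_apply, Disc.Omega.smul_toLinearMap_apply, hf]
    change algebraMap A K (Algebra.trace A B (c * b)) = _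
    rw [← htr]
    congr 1
    rw [map_mul (algebraMap B L), map_mul (algebraMap B L), hc, hr]
    ring
  · rintro ⟨r, hr, rfl⟩
    change r ∈ QFDual.different B (Disc.Omega.trace A B) at hr
    rw [QFDual.mem_different_iff] at hr
    intro y hy
    obtain ⟨c, hc⟩ := hr (f ⟨y, hy⟩)
    refine ⟨c, ?_⟩
    rw [← sub_eq_zero]
    apply Groth.Agent.Lib.Helper27.Complementary.eq_zero_of_trace_mul_algebraMap_eq_zero h
    intro b
    rw [sub_mul, map_sub, sub_eq_zero, ← map_mul, htr]
    have h1 := congrArg (fun φ : Disc.Omega A B => algebraMap A K (φ.toLinearMap b)) hc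
    simp only [Disc.Omega.smul_toLinearMap_apply] at h1
    rw [hf] at h1
    change algebraMap A K (Algebra.trace A B (c * b)) = _ at h1
    rw [h1]
    congr 1
    change y * algebraMap B L (r * b) = algebraMap B L r * y * algebraMap B L b
    rw [map_mul]
    ring

end Groth.Agent.S8965
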