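import Groth.Statements.S8971
import Mathlib
import Groth.Agent.Lib.Helper27.AssOmega
import Groth.Agent.Lib.Helper27.AssFlat

set_option autoImplicit false
universe u
open TensorProduct
open QFDual

namespace Groth.Agent.S8971

/-- Let A → B be a quasi-finite homomorphism of Noetherian rings, presented by writing it as a composite
A → B' → B, where the map A → B' is finite and the induced morphism Spec B → Spec B' is an open
immersion, so that ω_{B/A} = B ⊗_{B'} Hom_A(B', A) (B' acting on Hom_A(B', A) through the argument).
Then Ass_B(ω_{B/A}) is the set of primes of B whose preimage in A is an associated prime of A. -/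
theorem result (A B' B : Type u) [CommRing A] [CommRing B'] [CommRing B] [IsNoetherianRing A] [IsNoetherianRing B] [Algebra A B'] [Algebra B' B] [Algebra A B] [IsScalarTower A B' B] (hf : QFDual.IsQFFactor A B' B) : associatedPrimes B (QFDual.omega A B' B) = {q : Ideal B | q.IsPrime ∧ q.comap (algebraMap A B) ∈ associatedPrimes A A} := by
  classical
  have hopen := hf.isOpenImmersion
  haveI := hf.finite
  have hflat : Module.Flat B' B := by
    have h1 : AlgebraicGeometry.Flat
        (AlgebraicGeometry.Spec.map (CommRingCat.ofHom (algebraMap B' B))) := inferInstance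
    have h2 := (AlgebraicGeometry.HasRingHomProperty.Spec_iff
      (P := @AlgebraicGeometry.Flat)).mp h1
    exact RingHom.flat_algebraMap_iff.mp h2
  haveI : IsNoetherianRing B' := IsNoetherianRing.of_finite A B'
  have hinj : ∀ q₁ q₂ : Ideal B, q₁.IsPrime → q₂.IsPrime →
      q₁.comap (algebraMap B' B) = q₂.comap (algebraMap B' B) → q₁ = q₂ := by
    intro q₁ q₂ h₁ h₂ h
    have hi := (AlgebraicGeometry.Spec.map
      (CommRingCat.ofHom (algebraMap B' B))).isOpenEmbedding.injective
    have := @hi ⟨q₁, h₁⟩ ⟨q₂, h₂⟩ (PrimeSpectrum.ext h)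
    exact congrArg PrimeSpectrum.asIdeal this
  rw [Groth.Agent.Lib.Helper27.AssFlat.ass_tensor hinj,
    Groth.Agent.Lib.Helper27.AssOmega.ass_omega]
  ext q
  simp only [Set.mem_setOf_eq]
  constructor
  · rintro ⟨hq, _, h⟩
    refine ⟨hq, ?_⟩
    rwa [Ideal.comap_comap, ← IsScalarTower.algebraMap_eq] at h
  · rintro ⟨hq, h⟩
    refine ⟨hq, Ideal.IsPrime.comap _, ?_⟩
    rwa [Ideal.comap_comap, ← IsScalarTower.algebraMap_eq]

end Groth.Agent.S8971
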