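import Groth.Statements.S8972
import Mathlib

set_option autoImplicit false
open Synt

namespace Groth.Agent.S8972

open MvPolynomial

section helpers
variable (n d : ℕ)

/-- the zero exponent index -/
def E0 : UnivIdx n d := ⟨fun _ => 0, by simp⟩

lemma E0_exponent : (E0 n d).exponent = 0 := by
  ext i; simp [UnivIdx.exponent, E0]

abbrev Idx' : Type := {p : Fin n × UnivIdx n d // p.2 ≠ E0 n d}
abbrev A' : Type := MvPolynomial (Idx' n d) ℤ
abbrev P' : Type := MvPolynomial (Fin n) (A' n d)

/-- the image of the variable `a_{i,E}` -/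
noncomputable def gen (p : Fin n × UnivIdx n d) : P' n d :=
  if h : p.2 = E0 n d then
    - ∑ E : {E : UnivIdx n d // E ≠ E0 n d},
        (monomial E.1.exponent (X (⟨(p.1, E.1), E.2⟩ : Idx' n d) : A' n d) : P' n d)
  else C (X (⟨p, h⟩ : Idx' n d) : A' n d)

noncomputable def φ₀ : UnivBase n d →+* P' n d := eval₂Hom (Int.castRingHom _) (gen n d)

noncomputable def φ : MvPolynomial (Fin n) (UnivBase n d) →+* P' n d := eval₂Hom (φ₀ n d) X

lemma φ_monomial (s : Fin n →₀ ℕ) (a : UnivBase n d) :
    φ n d (monomial s a) = φ₀ n d a * monomial s 1 := by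
  rw [φ, eval₂Hom_monomial]
  congr 1
  rw [monomial_eq]
  simp

lemma φ_univPoly (i : Fin n) : φ n d (univPoly n d i) = 0 := by
  rw [univPoly, map_sum, Fintype.sum_eq_add_sum_subtype_ne _ (E0 n d)]
  simp only [φ_monomial]
  have h0 : φ₀ n d (X (i, E0 n d)) = gen n d (i, E0 n d) := by simp [φ₀]
  rw [h0, E0_exponent]
  have h1 : ∀ E : {E : UnivIdx n d // E ≠ E0 n d},
      φ₀ n d (X (i, E.1)) * monomial E.1.exponent 1 = (monomial E.1.exponent (X (⟨(i, E.1), E.2⟩ : Idx' n d) : A' n d) : P' n d) := by
    intro E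
    have : φ₀ n d (X (i, E.1)) = gen n d (i, E.1) := by simp [φ₀]
    rw [this, gen, dif_neg E.2, C_mul_monomial, mul_one]
  rw [Finset.sum_congr rfl fun E _ => h1 E, gen, dif_pos rfl]
  simp


/-- the descended map `B → P'` -/
noncomputable def φbar : UnivAlg n d →+* P' n d :=
  Ideal.Quotient.lift (univIdeal n d) (φ n d) (by
    intro a ha
    have hle : univIdeal n d ≤ RingHom.ker (φ n d) := by
      rw [univIdeal, Ideal.span_le]
      rintro _ ⟨i, rfl⟩
      exact φ_univPoly n d i
    exact hle ha)

lemma φbar_mk (a : MvPolynomial (Fin n) (UnivBase n d)) :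
    φbar n d (UnivAlg.mk n d a) = φ n d a := by
  show Ideal.Quotient.lift _ _ _ (Ideal.Quotient.mk _ a) = _
  exact Ideal.Quotient.lift_mk _ _ _

noncomputable def ψ₀ : A' n d →+* UnivAlg n d :=
  (algebraMap (UnivBase n d) (UnivAlg n d)).comp
    (rename (Subtype.val : Idx' n d → Fin n × UnivIdx n d)).toRingHom

noncomputable def ψ : P' n d →+* UnivAlg n d :=
  eval₂Hom (ψ₀ n d) (fun j => UnivAlg.mk n d (X j))

lemma algebraMap_eq_mk_C (a : UnivBase n d) :
    algebraMap (UnivBase n d) (UnivAlg n d) a = UnivAlg.mk n d (C a) := by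
  rw [IsScalarTower.algebraMap_apply (UnivBase n d) (MvPolynomial (Fin n) (UnivBase n d))
    (UnivAlg n d)]
  rfl

lemma ψ₀_X (p : Idx' n d) : ψ₀ n d (X p) = UnivAlg.mk n d (C (X p.1)) := by
  simp only [ψ₀, RingHom.comp_apply, AlgHom.toRingHom_eq_coe, RingHom.coe_coe, rename_X]
  exact algebraMap_eq_mk_C n d _

lemma mk_monomial_one (s : Fin n →₀ ℕ) :
    UnivAlg.mk n d (monomial s 1) = s.prod fun i k => UnivAlg.mk n d (X i) ^ k := by
  rw [monomial_eq, C_1, one_mul, Finsupp.prod, map_prod]
  simp only [map_pow]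
  rfl

lemma ψ_monomial (s : Fin n →₀ ℕ) (p : Idx' n d) :
    ψ n d (monomial s (X p)) = UnivAlg.mk n d (monomial s (X p.1)) := by
  rw [ψ, eval₂Hom_monomial, ← mk_monomial_one, ψ₀_X, ← map_mul, C_mul_monomial, mul_one]

lemma mk_univPoly (i : Fin n) : UnivAlg.mk n d (univPoly n d i) = 0 := by
  show (Ideal.Quotient.mk (univIdeal n d)) (univPoly n d i) = 0
  exact Ideal.Quotient.eq_zero_iff_mem.mpr (Ideal.subset_span ⟨i, rfl⟩)

lemma ψ_gen (p : Fin n × UnivIdx n d) : ψ n d (gen n d p) = UnivAlg.mk n d (C (X p)) := by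
  by_cases h : p.2 = E0 n d
  · obtain ⟨i, E⟩ := p
    simp only at h
    subst h
    rw [gen, dif_pos rfl, map_neg, map_sum]
    simp only [ψ_monomial]
    have := mk_univPoly n d i
    rw [univPoly, map_sum, Fintype.sum_eq_add_sum_subtype_ne _ (E0 n d), E0_exponent] at this
    have h2 : (monomial 0 (X (i, E0 n d)) : MvPolynomial (Fin n) (UnivBase n d)) =
        C (X (i, E0 n d)) := rfl
    rw [h2] at this
    rw [neg_eq_iff_eq_neg]
    exact eq_neg_of_add_eq_zero_right this
  · rw [gen, dif_neg h, ψ, eval₂Hom_C]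
    exact ψ₀_X n d ⟨p, h⟩

lemma ψ_φ₀ (a : UnivBase n d) : ψ n d (φ₀ n d a) = UnivAlg.mk n d (C a) := by
  have : (ψ n d).comp (φ₀ n d) = ((UnivAlg.mk n d : MvPolynomial (Fin n) (UnivBase n d) →+* UnivAlg n d)).comp C := by
    apply MvPolynomial.ringHom_ext
    · intro m; simp
    · intro p
      simp only [RingHom.comp_apply, φ₀, eval₂Hom_X']
      exact ψ_gen n d p
  exact congrArg (fun f => f a) this

lemma ψ_φ (a : MvPolynomial (Fin n) (UnivBase n d)) : ψ n d (φ n d a) = UnivAlg.mk n d a := by
  have : (ψ n d).comp (φ n d) = (UnivAlg.mk n d : MvPolynomial (Fin n) (UnivBase n d) →+* UnivAlg n d) := by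
    apply MvPolynomial.ringHom_ext
    · intro a
      simp only [RingHom.comp_apply, φ, eval₂Hom_C]
      exact ψ_φ₀ n d a
    · intro j
      simp only [RingHom.comp_apply, φ, eval₂Hom_X', ψ]
      rfl
  exact congrArg (fun f => f a) this

lemma φbar_ψ (b : P' n d) : φbar n d (ψ n d b) = b := by
  have : (φbar n d).comp (ψ n d) = RingHom.id _ := by
    apply MvPolynomial.ringHom_ext
    · intro a
      simp only [RingHom.comp_apply, ψ, eval₂Hom_C, RingHom.id_apply]
      have : (φbar n d).comp (ψ₀ n d) = C := by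
        apply MvPolynomial.ringHom_ext
        · intro m; simp
        · intro p
          simp only [RingHom.comp_apply, ψ₀_X, φbar_mk, φ, eval₂Hom_C, φ₀, eval₂Hom_X']
          rw [gen, dif_neg p.2]
      exact congrArg (fun f => f a) this
    · intro j
      simp only [RingHom.comp_apply, ψ, eval₂Hom_X', φbar_mk, φ, RingHom.id_apply]
  exact congrArg (fun f => f b) this

lemma mk_surjective : Function.Surjective (UnivAlg.mk n d) :=
  Ideal.Quotient.mk_surjective

noncomputable def equiv : UnivAlg n d ≃+* P' n d :=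
  RingEquiv.ofRingHom (φbar n d) (ψ n d)
    (RingHom.ext fun b => φbar_ψ n d b)
    (RingHom.ext fun b => by
      obtain ⟨a, rfl⟩ := mk_surjective n d b
      simp only [RingHom.comp_apply, φbar_mk, ψ_φ, RingHom.id_apply])


end helpers

/-- Let n, d ≥ 1 and let B = A[x_1, …, x_n]/(f_1, …, f_n) be the universal algebra over A = ℤ[a_{i,E}],
f_i = Σ_E a_{i,E} x^E summed over exponent vectors E with |E| ≤ d. Then B is an integral domain and
every localization of B at a prime ideal is a regular local ring. (The published statement says that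
X_{n,d} = Spec A and the quasi-finite locus Y_{n,d} ⊆ Spec B are regular and irreducible; for A, a
polynomial ring over ℤ, this is standard, and for the open Y_{n,d} it follows from the assertion
about all of Spec B made here, which is what the printed argument shows. The published statement
also asserts that Y_{n,d} → X_{n,d} is locally quasi-finite and syntomic, an instance of the general
characterisation of quasi-finite syntomic maps; that clause is not part of this row.) -/
theorem result (n d : ℕ) (hn : 1 ≤ n) (hd : 1 ≤ d) : IsDomain (Synt.UnivAlg n d) ∧ ∀ q : PrimeSpectrum (Synt.UnivAlg n d), IsRegularLocalRing (Localization.AtPrime q.asIdeal) := by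
  haveI : IsRegularRing (P' n d) := inferInstance
  haveI : IsRegularRing (UnivAlg n d) := IsRegularRing.of_ringEquiv (equiv n d).symm
  exact ⟨MulEquiv.isDomain (P' n d) (equiv n d).toMulEquiv, fun q => inferInstance⟩

end Groth.Agent.S8972
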