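import Groth.Statements.S8973
import Mathlib

set_option autoImplicit false
open Synt

namespace Groth.Agent.S8973

open MvPolynomial

section helpers
variable (n d : ℕ)

/-- the naive presentation of the universal algebra -/
noncomputable def pres :
    Algebra.PreSubmersivePresentation (UnivBase n d) (UnivAlg n d) (Fin n) (Fin n) :=
  Algebra.PreSubmersivePresentation.naive (v := univPoly n d) id Function.injective_id

lemma pres_jacobiMatrix (i j : Fin n) : (pres n d).jacobiMatrix i j = pderiv i (univPoly n d j) :=
  Algebra.PreSubmersivePresentation.jacobiMatrix_naive _ _ _ _ i j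

lemma pres_jacobian :
    (pres n d).jacobian = UnivAlg.mk n d ((pres n d).jacobiMatrix.det) := by
  rw [Algebra.PreSubmersivePresentation.jacobian_eq_jacobiMatrix_det,
    Algebra.Generators.algebraMap_apply]
  have : (aeval (pres n d).val : MvPolynomial (Fin n) (UnivBase n d) →ₐ[UnivBase n d] UnivAlg n d) =
      UnivAlg.mk n d := by
    apply MvPolynomial.algHom_ext
    intro i
    rw [aeval_X]
    rfl
  exact DFunLike.congr_fun this _


theorem etale_away :
    Algebra.FormallyEtale (UnivBase n d) (Localization.Away (pres n d).jacobian) := by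
  let Q := Algebra.PreSubmersivePresentation.localizationAway
    (Localization.Away (pres n d).jacobian) (pres n d).jacobian
  have hjac : IsUnit (Q.comp (pres n d)).jacobian := by
    rw [Algebra.PreSubmersivePresentation.comp_jacobian_eq_jacobian_smul_jacobian,
      Algebra.PreSubmersivePresentation.localizationAway_jacobian, Algebra.smul_def]
    exact (IsLocalization.Away.algebraMap_isUnit _).mul (IsLocalization.Away.algebraMap_isUnit _)
  let SP : Algebra.SubmersivePresentation (UnivBase n d) (Localization.Away (pres n d).jacobian)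
      (Unit ⊕ Fin n) (Unit ⊕ Fin n) := ⟨Q.comp (pres n d), hjac⟩
  have h0 : Algebra.IsStandardSmoothOfRelativeDimension 0 (UnivBase n d)
      (Localization.Away (pres n d).jacobian) :=
    SP.isStandardSmoothOfRelativeDimension (by simp [Algebra.Presentation.dimension])
  have : Algebra.Etale (UnivBase n d) (Localization.Away (pres n d).jacobian) :=
    Algebra.Etale.iff_isStandardSmoothOfRelativeDimension_zero.mpr h0
  infer_instance


section eval
variable {n d}

/-- the index of the monomial `x_j` -/
def Ei (hd : 1 ≤ d) (j : Fin n) : UnivIdx n d :=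
  ⟨fun k => if k = j then ⟨1, by omega⟩ else ⟨0, by omega⟩, by
    simp only [apply_ite Fin.val, Finset.sum_ite_eq', Finset.mem_univ, if_true]
    exact hd⟩

lemma Ei_exponent (hd : 1 ≤ d) (j : Fin n) : (Ei hd j).exponent = Finsupp.single j 1 := by
  ext k
  simp only [UnivIdx.exponent, Ei, Finsupp.equivFunOnFinite_symm_apply_apply, Finsupp.single_apply]
  by_cases h : k = j
  · simp [h]
  · simp [h, Ne.symm h]

/-- evaluation of the coefficients: `a_{j,E} ↦ [E = E_j]` -/
noncomputable def φ₀ (hd : 1 ≤ d) : UnivBase n d →+* ℤ :=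
  eval₂Hom (RingHom.id ℤ) (fun p => if p.2 = Ei hd p.1 then 1 else 0)

/-- evaluation at `x = 0`, `f_j = x_j` -/
noncomputable def ev' (hd : 1 ≤ d) : MvPolynomial (Fin n) (UnivBase n d) →+* ℤ :=
  (φ₀ hd).comp constantCoeff

lemma ev'_univPoly (hd : 1 ≤ d) (i : Fin n) : ev' hd (univPoly n d i) = 0 := by
  rw [univPoly, map_sum]
  apply Finset.sum_eq_zero
  intro E _
  simp only [ev', RingHom.comp_apply, constantCoeff_monomial]
  split_ifs with h
  · simp only [φ₀, eval₂Hom_X']
    rw [if_neg]
    rintro rfl
    rw [Ei_exponent] at h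
    exact absurd (DFunLike.congr_fun h i) (by simp)
  · simp

lemma ev'_pderiv (hd : 1 ≤ d) (i j : Fin n) :
    ev' hd (pderiv i (univPoly n d j)) = if i = j then 1 else 0 := by
  rw [univPoly, map_sum, map_sum]
  rw [Finset.sum_eq_single (Ei hd j)]
  · rw [pderiv_monomial, Ei_exponent]
    simp only [ev', RingHom.comp_apply, constantCoeff_monomial]
    by_cases h : i = j
    · subst h
      simp [φ₀]
    · rw [if_neg h]
      have : (Finsupp.single j 1 : Fin n →₀ ℕ) i = 0 := by
        simp [Ne.symm h]
      rw [this]
      simp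
  · intro E _ hE
    rw [pderiv_monomial]
    simp only [ev', RingHom.comp_apply, constantCoeff_monomial]
    split_ifs
    · simp [φ₀, hE]
    · simp
  · intro h; exact absurd (Finset.mem_univ _) h


/-- evaluation on the universal algebra -/
noncomputable def ev (hd : 1 ≤ d) : UnivAlg n d →+* ℤ :=
  Ideal.Quotient.lift (univIdeal n d) (ev' hd) (by
    intro a ha
    have hle : univIdeal n d ≤ RingHom.ker (ev' hd) := by
      rw [univIdeal, Ideal.span_le]
      rintro _ ⟨i, rfl⟩
      exact ev'_univPoly hd i
    exact hle ha)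

lemma ev_mk (hd : 1 ≤ d) (a : MvPolynomial (Fin n) (UnivBase n d)) :
    ev hd (UnivAlg.mk n d a) = ev' hd a := by
  show Ideal.Quotient.lift _ _ _ (Ideal.Quotient.mk _ a) = _
  exact Ideal.Quotient.lift_mk _ _ _

lemma ev_jacobian (hd : 1 ≤ d) : ev hd (pres n d).jacobian = 1 := by
  rw [pres_jacobian, ev_mk, RingHom.map_det]
  have : (ev' hd).mapMatrix (pres n d).jacobiMatrix = 1 := by
    ext i j
    rw [RingHom.mapMatrix_apply, Matrix.map_apply, pres_jacobiMatrix, ev'_pderiv,
      Matrix.one_apply]
  rw [this, Matrix.det_one]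

end eval


instance : Algebra.FiniteType (UnivBase n d) (UnivAlg n d) :=
  Algebra.FiniteType.of_surjective (UnivAlg.mk n d) Ideal.Quotient.mk_surjective


end helpers

/-- Let n, d ≥ 1 and let B = A[x_1, …, x_n]/(f_1, …, f_n) be the universal algebra over A = ℤ[a_{i,E}],
f_i = Σ_E a_{i,E} x^E summed over exponent vectors E with |E| ≤ d. Then there is a prime q of B at
which B is quasi-finite over A and étale over A (that is, B_q is quasi-finite and formally étale
over A). (The published statement asserts a dense open V of the quasi-finite locus Y_{n,d} ⊆ Spec B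
that is étale over Spec A; as Spec B is irreducible and the étale locus is open, that amounts to the
existence of one such point, which is what is stated here and what the printed argument exhibits.) -/
theorem result (n d : ℕ) (hn : 1 ≤ n) (hd : 1 ≤ d) : ∃ q : PrimeSpectrum (Synt.UnivAlg n d), Algebra.QuasiFiniteAt (Synt.UnivBase n d) q.asIdeal ∧ Algebra.IsEtaleAt (Synt.UnivBase n d) q.asIdeal := by
  obtain ⟨q, hqe⟩ : ∃ q : PrimeSpectrum (UnivAlg n d), q.asIdeal = RingHom.ker (ev hd) :=
    ⟨⟨RingHom.ker (ev hd), RingHom.ker_isPrime _⟩, rfl⟩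
  have hq : q ∈ (PrimeSpectrum.basicOpen (pres n d).jacobian : Set (PrimeSpectrum (UnivAlg n d))) := by
    show (pres n d).jacobian ∉ q.asIdeal
    rw [hqe, RingHom.mem_ker, ev_jacobian]
    exact one_ne_zero
  have het : Algebra.IsEtaleAt (UnivBase n d) q.asIdeal :=
    Algebra.basicOpen_subset_etaleLocus_iff.mpr (etale_away n d) hq
  refine ⟨q, ?_, het⟩
  haveI : Algebra.FormallyEtale (UnivBase n d) (Localization.AtPrime q.asIdeal) := het
  show Algebra.QuasiFinite (UnivBase n d) (Localization.AtPrime q.asIdeal)
  infer_instance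


end Groth.Agent.S8973
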