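import Groth.Statements.S8974
-- import your own Groth.Agent.* helpers here

set_option autoImplicit false
universe u
open Synt

namespace Groth.Agent.S8974

theorem exponent_apply {n d : ℕ} (E : Synt.UnivIdx n d) (j : Fin n) :
    E.exponent j = (E.1 j : ℕ) := rfl

theorem exponent_injective {n d : ℕ} : Function.Injective (Synt.UnivIdx.exponent (n := n) (d := d)) := by
  intro E E' h
  apply Subtype.ext
  funext j
  apply Fin.ext
  have := DFunLike.congr_fun h j
  simpa [exponent_apply] using this

theorem result (R : Type u) [CommRing R] (n d : ℕ) (hn : 1 ≤ n) (hd : 1 ≤ d) (g : Fin n → MvPolynomial (Fin n) R) (hg : ∀ i, (g i).totalDegree ≤ d) : ∃ φ : Synt.UnivBase n d →+* R, ∀ i, MvPolynomial.map φ (Synt.univPoly n d i) = g i := by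
  classical
  refine ⟨MvPolynomial.eval₂Hom (Int.castRingHom R)
    (fun q : Fin n × Synt.UnivIdx n d => MvPolynomial.coeff q.2.exponent (g q.1)), fun i => ?_⟩
  ext m
  simp only [Synt.univPoly, map_sum, MvPolynomial.map_monomial, MvPolynomial.coeff_sum,
    MvPolynomial.coeff_monomial, MvPolynomial.coe_eval₂Hom, MvPolynomial.eval₂_X]
  by_cases h : ∑ j, m j ≤ d
  · have hlt : ∀ j, m j < d + 1 := fun j =>
      Nat.lt_succ_of_le ((Finset.single_le_sum (f := fun j => m j) (fun _ _ => Nat.zero_le _)
        (Finset.mem_univ j)).trans h)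
    let E₀ : Synt.UnivIdx n d := ⟨fun j => ⟨m j, hlt j⟩, h⟩
    have hE₀ : E₀.exponent = m := by
      ext j
      rfl
    rw [Finset.sum_eq_single E₀]
    · rw [if_pos hE₀, hE₀]
    · intro E _ hE
      rw [if_neg]
      intro hEm
      exact hE (exponent_injective (hEm.trans hE₀.symm))
    · intro h'
      exact absurd (Finset.mem_univ _) h'
  · rw [Finset.sum_eq_zero]
    · symm
      by_contra hne
      have hmem : m ∈ (g i).support := MvPolynomial.mem_support_iff.mpr hne
      have := (MvPolynomial.le_totalDegree hmem).trans (hg i)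
      apply h
      rwa [Finsupp.sum_fintype _ _ (fun _ => rfl)] at this
    · intro E _
      rw [if_neg]
      intro hEm
      apply h
      rw [← hEm]
      simpa [exponent_apply] using E.2

end Groth.Agent.S8974
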