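import Groth.Statements.S8975
import Mathlib

set_option autoImplicit false
universe u
open TensorProduct
open QFDual

namespace Groth.Agent.S8975

/-- The relative dualizing module of a product. Suppose A, B, C are Noetherian rings and the ring maps A
→ B, A → C are quasi-finite, presented by factorizations A → B' → B and A → C' → C with A → B', A →
C' finite and Spec B → Spec B', Spec C → Spec C' open immersions, and let B × C carry the product
algebra structure over B' × C' (so that A → B' × C' → B × C is a factorization of the same kind).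
Then ω_{(B × C)/A} = (B × C) ⊗_{B' × C'} Hom_A(B' × C', A) is identified with ω_{B/A} × ω_{C/A}:
there is an A-linear isomorphism sending (b, c) ⊗ φ to (b ⊗ φ∘ι_{B'}, c ⊗ φ∘ι_{C'}), where ι_{B'},
ι_{C'} are the inclusions of the factors; this formula determines the isomorphism and makes it (B ×
C)-linear. -/
theorem result (A B' B C' C : Type u) [CommRing A] [CommRing B'] [CommRing B] [CommRing C'] [CommRing C] [IsNoetherianRing A] [IsNoetherianRing B] [IsNoetherianRing C] [Algebra A B'] [Algebra B' B] [Algebra A B] [IsScalarTower A B' B] [Algebra A C'] [Algebra C' C] [Algebra A C] [IsScalarTower A C' C] (hB : QFDual.IsQFFactor A B' B) (hC : QFDual.IsQFFactor A C' C) [Algebra (B' × C') (B × C)] [IsScalarTower A (B' × C') (B × C)] (halg : algebraMap (B' × C') (B × C) = (algebraMap B' B).prodMap (algebraMap C' C)) : ∃ e : QFDual.omega A (B' × C') (B × C) ≃ₗ[A] QFDual.omega A B' B × QFDual.omega A C' C, ∀ (b : B) (c : C) (φ : Disc.Omega A (B' × C')), e ((b, c) ⊗ₜ[B' × C'] φ) = (b ⊗ₜ[B'] Disc.Omega.mk (φ.toLinearMap ∘ₗ LinearMap.inl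 A B' C'), c ⊗ₜ[C'] Disc.Omega.mk (φ.toLinearMap ∘ₗ LinearMap.inr A B' C')) := by
  classical
  have hsm : ∀ (r : B' × C') (x : B × C), r • x = (r.1 • x.1, r.2 • x.2) := by
    intro r x
    rw [Algebra.smul_def, halg]
    ext <;> simp [Algebra.smul_def]
  -- forward map
  let F : (B × C) ⊗[B' × C'] Disc.Omega A (B' × C') →+
      (B ⊗[B'] Disc.Omega A B') × (C ⊗[C'] Disc.Omega A C') :=
    TensorProduct.liftAddHom
      { toFun := fun x =>
          { toFun := fun φ =>
              (x.1 ⊗ₜ[B'] Disc.Omega.mk (φ.toLinearMap ∘ₗ LinearMap.inl A B' C'),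
               x.2 ⊗ₜ[C'] Disc.Omega.mk (φ.toLinearMap ∘ₗ LinearMap.inr A B' C'))
            map_zero' := by
              have h1 : (Disc.Omega.mk ((0 : Disc.Omega A (B' × C')).toLinearMap ∘ₗ
                  LinearMap.inl A B' C') : Disc.Omega A B') = 0 := by
                apply Disc.Omega.ext; simp
              have h2 : (Disc.Omega.mk ((0 : Disc.Omega A (B' × C')).toLinearMap ∘ₗ
                  LinearMap.inr A B' C') : Disc.Omega A C') = 0 := by
                apply Disc.Omega.ext; simp
              rw [h1, h2, tmul_zero, tmul_zero]; rfl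
            map_add' := fun φ ψ => by
              have h1 : (Disc.Omega.mk ((φ + ψ).toLinearMap ∘ₗ LinearMap.inl A B' C') :
                  Disc.Omega A B') = Disc.Omega.mk (φ.toLinearMap ∘ₗ LinearMap.inl A B' C') +
                    Disc.Omega.mk (ψ.toLinearMap ∘ₗ LinearMap.inl A B' C') := by
                apply Disc.Omega.ext; ext; simp
              have h2 : (Disc.Omega.mk ((φ + ψ).toLinearMap ∘ₗ LinearMap.inr A B' C') :
                  Disc.Omega A C') = Disc.Omega.mk (φ.toLinearMap ∘ₗ LinearMap.inr A B' C') +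
                    Disc.Omega.mk (ψ.toLinearMap ∘ₗ LinearMap.inr A B' C') := by
                apply Disc.Omega.ext; ext; simp
              rw [h1, h2, tmul_add, tmul_add]; rfl }
        map_zero' := by
          ext φ <;> simp
        map_add' := fun x y => by
          ext φ <;> simp [add_tmul] }
      (by
        intro r x φ
        change ((r • x).1 ⊗ₜ[B'] Disc.Omega.mk (φ.toLinearMap ∘ₗ LinearMap.inl A B' C'),
               (r • x).2 ⊗ₜ[C'] Disc.Omega.mk (φ.toLinearMap ∘ₗ LinearMap.inr A B' C')) =
            (x.1 ⊗ₜ[B'] Disc.Omega.mk ((r • φ).toLinearMap ∘ₗ LinearMap.inl A B' C'),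
               x.2 ⊗ₜ[C'] Disc.Omega.mk ((r • φ).toLinearMap ∘ₗ LinearMap.inr A B' C'))
        have h1 : (Disc.Omega.mk ((r • φ).toLinearMap ∘ₗ LinearMap.inl A B' C') :
            Disc.Omega A B') = r.1 • Disc.Omega.mk (φ.toLinearMap ∘ₗ LinearMap.inl A B' C') := by
          apply Disc.Omega.ext; ext y
          change φ.toLinearMap (r * (y, 0)) = φ.toLinearMap (r.1 * y, 0)
          congr 1; ext <;> simp
        have h2 : (Disc.Omega.mk ((r • φ).toLinearMap ∘ₗ LinearMap.inr A B' C') :
            Disc.Omega A C') = r.2 • Disc.Omega.mk (φ.toLinearMap ∘ₗ LinearMap.inr A B' C') := by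
          apply Disc.Omega.ext; ext y
          change φ.toLinearMap (r * (0, y)) = φ.toLinearMap (0, r.2 * y)
          congr 1; ext <;> simp
        rw [h1, h2, hsm, tmul_smul, tmul_smul, smul_tmul', smul_tmul'])
  have hF : ∀ (b : B) (c : C) (φ : Disc.Omega A (B' × C')),
      F ((b, c) ⊗ₜ[B' × C'] φ) =
        (b ⊗ₜ[B'] Disc.Omega.mk (φ.toLinearMap ∘ₗ LinearMap.inl A B' C'),
         c ⊗ₜ[C'] Disc.Omega.mk (φ.toLinearMap ∘ₗ LinearMap.inr A B' C')) := fun _ _ _ => rfl
  -- backward maps
  let G1 : B ⊗[B'] Disc.Omega A B' →+ (B × C) ⊗[B' × C'] Disc.Omega A (B' × C') :=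
    TensorProduct.liftAddHom
      { toFun := fun b =>
          { toFun := fun ψ => ((b, 0) : B × C) ⊗ₜ[B' × C']
              Disc.Omega.mk (ψ.toLinearMap ∘ₗ LinearMap.fst A B' C')
            map_zero' := by
              have h1 : (Disc.Omega.mk ((0 : Disc.Omega A B').toLinearMap ∘ₗ
                  LinearMap.fst A B' C') : Disc.Omega A (B' × C')) = 0 := by
                apply Disc.Omega.ext; simp
              rw [h1, tmul_zero]
            map_add' := fun φ ψ => by
              have h1 : (Disc.Omega.mk ((φ + ψ).toLinearMap ∘ₗ LinearMap.fst A B' C') :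
                  Disc.Omega A (B' × C')) = Disc.Omega.mk (φ.toLinearMap ∘ₗ LinearMap.fst A B' C') +
                    Disc.Omega.mk (ψ.toLinearMap ∘ₗ LinearMap.fst A B' C') := by
                apply Disc.Omega.ext; ext <;> simp
              rw [h1, tmul_add] }
        map_zero' := by
          ext ψ
          change ((0, 0) : B × C) ⊗ₜ[B' × C'] _ = 0
          rw [← Prod.zero_eq_mk, zero_tmul]
        map_add' := fun x y => by
          ext ψ
          change ((x + y, 0) : B × C) ⊗ₜ[B' × C'] _ = ((x, 0) : B × C) ⊗ₜ[B' × C'] _ +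
            ((y, 0) : B × C) ⊗ₜ[B' × C'] _
          rw [← add_tmul]
          congr 1
          ext <;> simp }
      (by
        intro r b ψ
        change ((r • b, 0) : B × C) ⊗ₜ[B' × C'] Disc.Omega.mk (ψ.toLinearMap ∘ₗ LinearMap.fst A B' C')
          = ((b, 0) : B × C) ⊗ₜ[B' × C'] Disc.Omega.mk ((r • ψ).toLinearMap ∘ₗ LinearMap.fst A B' C')
        have h1 : ((r • b, 0) : B × C) = ((r, 0) : B' × C') • ((b, 0) : B × C) := by
          rw [hsm]; simp
        have h2 : (Disc.Omega.mk ((r • ψ).toLinearMap ∘ₗ LinearMap.fst A B' C') :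
            Disc.Omega A (B' × C')) = ((r, 0) : B' × C') •
              Disc.Omega.mk (ψ.toLinearMap ∘ₗ LinearMap.fst A B' C') := by
          apply Disc.Omega.ext; ext y <;> simp
        rw [h1, h2, smul_tmul])
  let G2 : C ⊗[C'] Disc.Omega A C' →+ (B × C) ⊗[B' × C'] Disc.Omega A (B' × C') :=
    TensorProduct.liftAddHom
      { toFun := fun c =>
          { toFun := fun ψ => ((0, c) : B × C) ⊗ₜ[B' × C']
              Disc.Omega.mk (ψ.toLinearMap ∘ₗ LinearMap.snd A B' C')
            map_zero' := by
              have h1 : (Disc.Omega.mk ((0 : Disc.Omega A C').toLinearMap ∘ₗ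
                  LinearMap.snd A B' C') : Disc.Omega A (B' × C')) = 0 := by
                apply Disc.Omega.ext; simp
              rw [h1, tmul_zero]
            map_add' := fun φ ψ => by
              have h1 : (Disc.Omega.mk ((φ + ψ).toLinearMap ∘ₗ LinearMap.snd A B' C') :
                  Disc.Omega A (B' × C')) = Disc.Omega.mk (φ.toLinearMap ∘ₗ LinearMap.snd A B' C') +
                    Disc.Omega.mk (ψ.toLinearMap ∘ₗ LinearMap.snd A B' C') := by
                apply Disc.Omega.ext; ext <;> simp
              rw [h1, tmul_add] }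
        map_zero' := by
          ext ψ
          change ((0, 0) : B × C) ⊗ₜ[B' × C'] _ = 0
          rw [← Prod.zero_eq_mk, zero_tmul]
        map_add' := fun x y => by
          ext ψ
          change ((0, x + y) : B × C) ⊗ₜ[B' × C'] _ = ((0, x) : B × C) ⊗ₜ[B' × C'] _ +
            ((0, y) : B × C) ⊗ₜ[B' × C'] _
          rw [← add_tmul]
          congr 1
          ext <;> simp }
      (by
        intro r c ψ
        change ((0, r • c) : B × C) ⊗ₜ[B' × C'] Disc.Omega.mk (ψ.toLinearMap ∘ₗ LinearMap.snd A B' C')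
          = ((0, c) : B × C) ⊗ₜ[B' × C'] Disc.Omega.mk ((r • ψ).toLinearMap ∘ₗ LinearMap.snd A B' C')
        have h1 : ((0, r • c) : B × C) = ((0, r) : B' × C') • ((0, c) : B × C) := by
          rw [hsm]; simp
        have h2 : (Disc.Omega.mk ((r • ψ).toLinearMap ∘ₗ LinearMap.snd A B' C') :
            Disc.Omega A (B' × C')) = ((0, r) : B' × C') •
              Disc.Omega.mk (ψ.toLinearMap ∘ₗ LinearMap.snd A B' C') := by
          apply Disc.Omega.ext; ext y <;> simp
        rw [h1, h2, smul_tmul])
  have hG1 : ∀ (b : B) (ψ : Disc.Omega A B'), G1 (b ⊗ₜ[B'] ψ) = ((b, 0) : B × C) ⊗ₜ[B' × C']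
      Disc.Omega.mk (ψ.toLinearMap ∘ₗ LinearMap.fst A B' C') := fun _ _ => rfl
  have hG2 : ∀ (c : C) (ψ : Disc.Omega A C'), G2 (c ⊗ₜ[C'] ψ) = ((0, c) : B × C) ⊗ₜ[B' × C']
      Disc.Omega.mk (ψ.toLinearMap ∘ₗ LinearMap.snd A B' C') := fun _ _ => rfl
  let G : (B ⊗[B'] Disc.Omega A B') × (C ⊗[C'] Disc.Omega A C') →+
      (B × C) ⊗[B' × C'] Disc.Omega A (B' × C') := AddMonoidHom.coprod G1 G2
  have hGF : ∀ x, G (F x) = x := by
    intro x
    induction x using TensorProduct.induction_on with
    | zero => simp
    | add x y hx hy => rw [map_add, map_add, hx, hy]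
    | tmul x φ =>
      obtain ⟨b, c⟩ := x
      rw [hF, AddMonoidHom.coprod_apply, hG1, hG2]
      have h1 : (Disc.Omega.mk ((Disc.Omega.mk (φ.toLinearMap ∘ₗ LinearMap.inl A B' C') :
          Disc.Omega A B').toLinearMap ∘ₗ LinearMap.fst A B' C') : Disc.Omega A (B' × C')) =
            ((1, 0) : B' × C') • φ := by
        apply Disc.Omega.ext; ext y <;> simp
      have h2 : (Disc.Omega.mk ((Disc.Omega.mk (φ.toLinearMap ∘ₗ LinearMap.inr A B' C') :
          Disc.Omega A C').toLinearMap ∘ₗ LinearMap.snd A B' C') : Disc.Omega A (B' × C')) =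
            ((0, 1) : B' × C') • φ := by
        apply Disc.Omega.ext; ext y <;> simp
      rw [h1, h2, ← smul_tmul, ← smul_tmul, hsm, hsm, ← add_tmul]
      congr 1
      ext <;> simp
  have hFG : ∀ y, F (G y) = y := by
    intro y
    obtain ⟨y1, y2⟩ := y
    have e1 : ∀ y1, F (G1 y1) = (y1, 0) := by
      intro y1
      induction y1 using TensorProduct.induction_on with
      | zero => simp; rfl
      | add x y hx hy => rw [map_add, map_add, hx, hy]; simp
      | tmul b ψ =>
        rw [hG1, hF]
        have h1 : (Disc.Omega.mk ((Disc.Omega.mk (ψ.toLinearMap ∘ₗ LinearMap.fst A B' C') :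
            Disc.Omega A (B' × C')).toLinearMap ∘ₗ LinearMap.inl A B' C') : Disc.Omega A B') = ψ := by
          apply Disc.Omega.ext; ext y; simp
        rw [h1, zero_tmul]
    have e2 : ∀ y2, F (G2 y2) = (0, y2) := by
      intro y2
      induction y2 using TensorProduct.induction_on with
      | zero => simp; rfl
      | add x y hx hy => rw [map_add, map_add, hx, hy]; simp
      | tmul c ψ =>
        rw [hG2, hF]
        have h1 : (Disc.Omega.mk ((Disc.Omega.mk (ψ.toLinearMap ∘ₗ LinearMap.snd A B' C') :
            Disc.Omega A (B' × C')).toLinearMap ∘ₗ LinearMap.inr A B' C') : Disc.Omega A C') = ψ := by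
          apply Disc.Omega.ext; ext y; simp
        rw [h1, zero_tmul]
    rw [AddMonoidHom.coprod_apply, map_add, e1, e2]
    simp
  have hFsmul : ∀ (a : A) x, F (a • x) = a • F x := by
    intro a x
    induction x using TensorProduct.induction_on with
    | zero => simp
    | add x y hx hy => rw [smul_add, map_add, map_add, hx, hy, smul_add]
    | tmul x φ =>
      obtain ⟨b, c⟩ := x
      rw [smul_tmul']
      change F ((a • b, a • c) ⊗ₜ[B' × C'] φ) = _
      rw [hF, hF]
      rfl
  refine ⟨{ toFun := F, map_add' := map_add F, map_smul' := hFsmul, invFun := G,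
            left_inv := hGF, right_inv := hFG }, fun b c φ => hF b c φ⟩

end Groth.Agent.S8975
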