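import Groth.Statements.S8977
-- import your own Groth.Agent.* helpers here
import Groth.Agent.S7476
import Groth.Agent.S7477
import Groth.Agent.S14770

set_option autoImplicit false
universe u
open HTop

namespace Groth.Agent.S8977

open CategoryTheory CategoryTheory.Limits AlgebraicGeometry IsLocalRing

/-- The morphism out of a finite coproduct of quasi-compact morphisms is quasi-compact. -/
theorem quasiCompact_sigmaDesc {X : Scheme.{u}} (E : PreZeroHypercover.{u} X) [Finite E.I₀]
    [∀ i, QuasiCompact (E.f i)] : QuasiCompact (Sigma.desc E.f) := by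
  rw [quasiCompact_iff_forall_isAffineOpen]
  intro U hU
  have hcov : ((Sigma.desc E.f) ⁻¹ᵁ U : Set ↑(∐ E.X)) =
      ⋃ i, (Sigma.ι E.X i) '' ((E.f i) ⁻¹ᵁ U : Set (E.X i)) := by
    ext x
    simp only [Set.mem_iUnion, Set.mem_image]
    constructor
    · intro hx
      obtain ⟨⟨i, y⟩, rfl⟩ := (sigmaMk E.X).surjective x
      refine ⟨i, y, ?_, (sigmaMk_mk E.X i y).symm⟩
      have : (Sigma.desc E.f) ((Sigma.ι E.X i) y) ∈ U := by
        rw [← sigmaMk_mk E.X i y]; exact hx
      rw [← Scheme.Hom.comp_apply, Sigma.ι_desc] at this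
      exact this
    · rintro ⟨i, y, hy, rfl⟩
      show (Sigma.desc E.f) ((Sigma.ι E.X i) y) ∈ U
      rw [← Scheme.Hom.comp_apply, Sigma.ι_desc]
      exact hy
  rw [hcov]
  apply isCompact_iUnion
  intro i
  exact (QuasiCompact.isCompact_preimage (f := E.f i) _ U.2 hU.isCompact).image
    (Sigma.ι E.X i).continuous

/-- The valuation-ring lifting property for the morphism out of the coproduct gives the
valuation-ring lifting property of the family. -/
theorem hasValLift_of_sigmaDesc {X : Scheme.{u}} (E : PreZeroHypercover.{u} X)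
    (h : HTop.HasValLift (PreZeroHypercover.singleton.{u} (Sigma.desc E.f))) :
    HTop.HasValLift E := by
  rw [Groth.Agent.Lib.Helper37.hasValLift_singleton_iff] at h
  intro V _ _ g
  obtain ⟨W, hW1, hW2, φ, hφ, g', hg'⟩ := h V g
  obtain ⟨⟨i, y⟩, hy⟩ := (sigmaMk E.X).surjective (g' (closedPoint W))
  have hmem : g' (closedPoint W) ∈ (Sigma.ι E.X i).opensRange := by
    refine ⟨y, ?_⟩
    rw [← hy]
    exact (sigmaMk_mk E.X i y).symm
  have hrange : Set.range g' ⊆ Set.range (Sigma.ι E.X i) :=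
    Groth.Agent.Lib.Helper37.range_subset_of_closedPoint_mem g' _ hmem
  refine ⟨W, hW1, hW2, φ, hφ, i, IsOpenImmersion.lift (Sigma.ι E.X i) g' hrange, ?_⟩
  have h1 : IsOpenImmersion.lift (Sigma.ι E.X i) g' hrange ≫ Sigma.ι E.X i = g' :=
    IsOpenImmersion.lift_fac _ _ _
  calc IsOpenImmersion.lift (Sigma.ι E.X i) g' hrange ≫ E.f i
      = IsOpenImmersion.lift (Sigma.ι E.X i) g' hrange ≫ Sigma.ι E.X i ≫ Sigma.desc E.f := by
        rw [Sigma.ι_desc]
    _ = g' ≫ Sigma.desc E.f := by rw [← Category.assoc, h1]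
    _ = Spec.map φ ≫ g := hg'

/-- A finite family of quasi-compact morphisms with the valuation-ring lifting property is a
V covering. -/
theorem isVCover_of_hasValLift {X : Scheme.{u}} (E : PreZeroHypercover.{u} X) [Finite E.I₀]
    [∀ i, QuasiCompact (E.f i)] (hf : HTop.HasValLift E) : HTop.IsVCover E := by
  intro U
  have hUaff : IsAffine ((U : X.Opens) : Scheme.{u}) := U.2
  have hc : ∀ i, IsCompact (((E.f i) ⁻¹ᵁ (U : X.Opens) : (E.X i).Opens) : Set (E.X i)) := fun i =>
    QuasiCompact.isCompact_preimage (f := E.f i) _ (U : X.Opens).2 U.2.isCompact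
  have hs : ∀ i, ∃ s : Set (E.X i).affineOpens, s.Finite ∧
      ((E.f i) ⁻¹ᵁ (U : X.Opens) : (E.X i).Opens) = ⨆ W ∈ s, (W : (E.X i).Opens) := fun i =>
    isCompact_iff_finite_and_eq_biUnion_affineOpens.mp (hc i)
  choose s hsfin hsU using hs
  have hsfin' : ∀ i, Finite (s i) := fun i => hsfin i
  let J := Σ i : E.I₀, s i
  have hJ : Finite J := inferInstance
  let e : Fin (Nat.card J) ≃ J := (Finite.equivFin J).symm
  have hle : ∀ k, (((e k).2 : (E.X (e k).1).affineOpens) : (E.X (e k).1).Opens) ≤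
      (E.f (e k).1) ⁻¹ᵁ (U : X.Opens) := by
    intro k
    rw [hsU]
    exact le_iSup₂ (f := fun (W : (E.X (e k).1).affineOpens) (_ : W ∈ s (e k).1) =>
      (W : (E.X (e k).1).Opens)) (e k).2.1 (e k).2.2
  let G : PreZeroHypercover.{0} ((U : X.Opens) : Scheme.{u}) :=
    { I₀ := Fin (Nat.card J)
      X := fun k => ((((e k).2 : (E.X (e k).1).affineOpens) : (E.X (e k).1).Opens) : Scheme.{u})
      f := fun k => (E.f (e k).1).resLE (U : X.Opens)
        (((e k).2 : (E.X (e k).1).affineOpens) : (E.X (e k).1).Opens) (hle k) }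
  refine ⟨G, ⟨hUaff, inferInstanceAs (Finite (Fin _)), fun k => (e k).2.1.2, ?_⟩, ?_⟩
  · intro R _ _ v
    obtain ⟨W, hW1, hW2, φ, hφ, i, g', hg'⟩ := hf R (v ≫ (U : X.Opens).ι)
    have hx : g' (closedPoint W) ∈ (E.f i) ⁻¹ᵁ (U : X.Opens) := by
      show (E.f i) (g' (closedPoint W)) ∈ (U : X.Opens)
      rw [← Scheme.Hom.comp_apply, hg', Scheme.Hom.comp_apply, Scheme.Hom.comp_apply]
      exact ((v (Spec.map φ (closedPoint W)))).2
    rw [hsU] at hx
    simp only [TopologicalSpace.Opens.mem_iSup] at hx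
    obtain ⟨V, hVs, hxV⟩ := hx
    have key : ∀ (j : J) (g' : Spec W ⟶ E.X j.1),
        g' (closedPoint W) ∈ ((j.2 : (E.X j.1).affineOpens) : (E.X j.1).Opens) →
        g' ≫ E.f j.1 = Spec.map φ ≫ v ≫ (U : X.Opens).ι →
        ∃ (k : G.I₀) (g'' : Spec W ⟶ G.X k), g'' ≫ G.f k = Spec.map φ ≫ v := by
      intro j
      obtain ⟨k, rfl⟩ := e.surjective j
      intro g' hxk hg'
      have hrange : Set.range g' ⊆
          Set.range (((e k).2 : (E.X (e k).1).affineOpens) : (E.X (e k).1).Opens).ι := by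
        rw [Scheme.Opens.range_ι]
        exact Groth.Agent.Lib.Helper37.range_subset_of_closedPoint_mem g' _ hxk
      refine ⟨k, IsOpenImmersion.lift
        (((e k).2 : (E.X (e k).1).affineOpens) : (E.X (e k).1).Opens).ι g' hrange, ?_⟩
      show IsOpenImmersion.lift
          (((e k).2 : (E.X (e k).1).affineOpens) : (E.X (e k).1).Opens).ι g' hrange ≫
        (E.f (e k).1).resLE (U : X.Opens)
          (((e k).2 : (E.X (e k).1).affineOpens) : (E.X (e k).1).Opens) (hle k) = Spec.map φ ≫ v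
      rw [← cancel_mono (U : X.Opens).ι, Category.assoc, Scheme.Hom.resLE_comp_ι,
        ← Category.assoc, IsOpenImmersion.lift_fac, hg', Category.assoc]
    obtain ⟨k, g'', hg''⟩ := key ⟨i, ⟨V, hVs⟩⟩ g' hxV hg'
    exact ⟨W, hW1, hW2, φ, hφ, k, g'', hg''⟩
  · intro k
    refine ⟨(e k).1, (((e k).2 : (E.X (e k).1).affineOpens) : (E.X (e k).1).Opens).ι, ?_⟩
    show (((e k).2 : (E.X (e k).1).affineOpens) : (E.X (e k).1).Opens).ι ≫ E.f (e k).1 =
      (E.f (e k).1).resLE (U : X.Opens)
        (((e k).2 : (E.X (e k).1).affineOpens) : (E.X (e k).1).Opens) (hle k) ≫ (U : X.Opens).ι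
    rw [Scheme.Hom.resLE_comp_ι]

end Groth.Agent.S8977

namespace Groth.Agent.S8977

open CategoryTheory CategoryTheory.Limits AlgebraicGeometry in
/-- For a Noetherian scheme X and a finite family of finite type morphisms X_i → X, the induced morphism
from the coproduct of the X_i to X is universally submersive if and only if the family is an h
covering. -/
theorem result {X : Scheme.{u}} [IsNoetherian X] (E : PreZeroHypercover.{u} X) [Finite E.I₀] [∀ i, LocallyOfFiniteType (E.f i)] [∀ i, QuasiCompact (E.f i)] : SGA1.UnivSubmersive (Sigma.desc E.f) ↔ HTop.IsHCover E := by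
  constructor
  · intro h
    refine ⟨fun i => inferInstance, ?_⟩
    have hqc : QuasiCompact (Sigma.desc E.f) := quasiCompact_sigmaDesc E
    have hS : Subtr.UnivSSubtrusive (Sigma.desc E.f) := (Groth.Agent.S14770.result _).mp h
    apply isVCover_of_hasValLift E
    apply hasValLift_of_sigmaDesc E
    apply (Groth.Agent.S7476.result.{u, 0, u, u} (Sigma.desc E.f)).2.mpr
    intro Z g z' z hz
    obtain ⟨w, w', hw, h1, h2⟩ := hS _ _ _ (IsPullback.of_hasPullback g (Sigma.desc E.f)) hz
    exact ⟨w', w, hw, h2, h1⟩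
  · intro hE
    exact Groth.Agent.S7477.result E hE.2

end Groth.Agent.S8977
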