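import Groth.Statements.S8979
import Groth.Agent.S7468
import Groth.Agent.Lib.Helper37.VSheaf

set_option autoImplicit false
universe u
open HTop

namespace Groth.Agent.S8979

open CategoryTheory CategoryTheory.Limits AlgebraicGeometry in
/-- A surjective proper morphism of finite presentation, as a one-member family, is an h covering of its
target. -/
theorem result {X Y : Scheme.{u}} (f : Y ⟶ X) [IsProper f] [Surjective f] [LocallyOfFinitePresentation f] : HTop.IsHCover (PreZeroHypercover.singleton.{0} f) := by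
  refine ⟨fun _ => ‹_›, ?_⟩
  intro U
  have hUaff : IsAffine ((U : X.Opens) : Scheme.{u}) := U.2
  have hproper : IsProper (f ∣_ (U : X.Opens)) := inferInstance
  have hsurj : Surjective (f ∣_ (U : X.Opens)) :=
    IsZariskiLocalAtTarget.restrict (P := @Surjective) ‹_› (U : X.Opens)
  have hc : CompactSpace ((f ⁻¹ᵁ (U : X.Opens) : Y.Opens) : Scheme.{u}) :=
    QuasiCompact.compactSpace_of_compactSpace (f ∣_ (U : X.Opens))
  let 𝒱 := ((f ⁻¹ᵁ (U : X.Opens) : Y.Opens) : Scheme.{u}).affineCover.finiteSubcover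
  have hfin : Finite 𝒱.I₀ := inferInstance
  let e : Fin (Nat.card 𝒱.I₀) ≃ 𝒱.I₀ := (Finite.equivFin 𝒱.I₀).symm
  let G : PreZeroHypercover.{0} ((U : X.Opens) : Scheme.{u}) :=
    { I₀ := Fin (Nat.card 𝒱.I₀)
      X := fun k => 𝒱.X (e k)
      f := fun k => 𝒱.f (e k) ≫ (f ∣_ (U : X.Opens)) }
  have hGph : IsStandardPh G := by
    refine ⟨hUaff, inferInstanceAs (Finite (Fin _)), fun k => ?_, ?_⟩
    · show IsAffine (𝒱.X (e k))
      dsimp [𝒱]
      infer_instance
    · refine ⟨_, f ∣_ (U : X.Opens), fun k => 𝒱.f (e k), hproper, hsurj, fun k => inferInstance,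
        fun k => rfl, fun x => ?_⟩
      obtain ⟨i, hi⟩ := 𝒱.exists_eq x
      obtain ⟨k, rfl⟩ := e.surjective i
      exact ⟨k, hi⟩
  refine ⟨G, Groth.Agent.S7468.result G hGph, fun k => ?_⟩
  refine ⟨PUnit.unit, 𝒱.f (e k) ≫ (f ⁻¹ᵁ (U : X.Opens) : Y.Opens).ι, ?_⟩
  show (𝒱.f (e k) ≫ (f ⁻¹ᵁ (U : X.Opens) : Y.Opens).ι) ≫ f =
    (𝒱.f (e k) ≫ (f ∣_ (U : X.Opens))) ≫ (U : X.Opens).ι
  rw [Category.assoc, Category.assoc, morphismRestrict_ι]

end Groth.Agent.S8979
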