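import Groth.Statements.S8980
import Groth.Agent.Lib.Helper37.VRefineOpen

set_option autoImplicit false
universe u
open HTop

namespace Groth.Agent.S8980

open CategoryTheory CategoryTheory.Limits AlgebraicGeometry in
/-- A family of morphisms T_i → T, indexed by a type in the universe of T and all locally of finite
presentation, is an h covering if and only if the one-member family given by the induced morphism
from the coproduct of the T_i to T is an h covering. (The published statement also lists, as a
further equivalent condition, that some h covering refines the family; that equivalence is immediate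
from the definitions and is not restated here.) -/
theorem result {T : Scheme.{u}} (E : PreZeroHypercover.{u} T) (hE : ∀ i, LocallyOfFinitePresentation (E.f i)) : HTop.IsHCover E ↔ HTop.IsHCover (PreZeroHypercover.singleton.{0} (Sigma.desc E.f)) := by
  constructor
  · rintro ⟨-, hV⟩
    refine ⟨fun _ => IsZariskiLocalAtSource.sigmaDesc hE, fun U => ?_⟩
    obtain ⟨G, hG, hGE⟩ := hV U
    refine ⟨G, hG, fun j => ?_⟩
    obtain ⟨i, h, hh⟩ := hGE j
    refine ⟨PUnit.unit, h ≫ Sigma.ι E.X i, ?_⟩
    show (h ≫ Sigma.ι E.X i) ≫ Sigma.desc E.f = G.f j ≫ (U : T.Opens).ι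
    rw [Category.assoc, Sigma.ι_desc, hh]
  · rintro ⟨-, hV⟩
    refine ⟨hE, fun U => ?_⟩
    obtain ⟨G, hG, hGE⟩ := hV U
    have hGE' : ∀ j, ∃ h : G.X j ⟶ ∐ E.X, h ≫ Sigma.desc E.f = G.f j ≫ (U : T.Opens).ι := by
      intro j
      obtain ⟨_, h, hh⟩ := hGE j
      exact ⟨h, hh⟩
    choose h hh using hGE'
    have hGaff := hG.isAffine_obj
    have key : ∀ j, ∃ F : PreZeroHypercover.{0} (G.X j), IsStandardV F ∧
        ∀ k : F.I₀, ∃ (i : E.I₀) (r : F.X k ⟶ E.X i), r ≫ Sigma.ι E.X i = F.f k ≫ h j := by
      intro j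
      obtain ⟨F, hF, hFr⟩ := Groth.Agent.Lib.Helper37.exists_isStandardV_refining_openCover
        ((sigmaOpenCover E.X).pullback₁ (h j))
      refine ⟨F, hF, fun k => ?_⟩
      obtain ⟨i, r, hr⟩ := hFr k
      let i' : E.I₀ := i
      let r' : F.X k ⟶ pullback (h j) (Sigma.ι E.X i') := r
      have hr' : r' ≫ pullback.fst (h j) (Sigma.ι E.X i') = F.f k := hr
      refine ⟨i', r' ≫ pullback.snd (h j) (Sigma.ι E.X i'), ?_⟩
      rw [Category.assoc, ← pullback.condition, ← Category.assoc, hr']
    choose F hF hFr using key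
    refine ⟨G.bind F, Groth.Agent.S7470.result G hG F hF, ?_⟩
    rintro ⟨j, k⟩
    obtain ⟨i, r, hr⟩ := hFr j k
    refine ⟨i, r, ?_⟩
    show r ≫ E.f i = ((F j).f k ≫ G.f j) ≫ (U : T.Opens).ι
    rw [← Sigma.ι_desc E.f i, ← Category.assoc, hr, Category.assoc, hh j, Category.assoc]

end Groth.Agent.S8980
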