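import Groth.Statements.S8988
import Groth.Agent.S8979

set_option autoImplicit false
universe u
open HTop

namespace Groth.Agent.S8988

open CategoryTheory CategoryTheory.Limits AlgebraicGeometry Opposite in
/-- An h sheaf on schemes over S takes the same sections on an S-scheme and on any thickening of it of
finite presentation. -/
theorem result (S : Scheme.{u}) (F : HTop.ShH S) {X X' : Over S} (f : X ⟶ X') (hf : MoreMor.IsThickening f.left) [LocallyOfFinitePresentation f.left] : Function.Bijective (F.obj.map f.op) := by
  obtain ⟨hcl, hsurj⟩ := hf
  have hmono : Mono f := by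
    have : Mono f.left := inferInstance
    exact (Over.forget S).mono_of_mono_map this
  have hcov : HTop.IsHCover (PreZeroHypercover.singleton.{0} f.left) :=
    Groth.Agent.S8979.result f.left
  have hmem : Presieve.singleton f.left ∈ HTop.hPrecoverage X'.left := by
    have h1 := (HTop.presieve₀_mem_hPrecoverage_iff (PreZeroHypercover.singleton.{0} f.left)).mpr hcov
    rwa [PreZeroHypercover.presieve₀_singleton] at h1
  have hgen : Sieve.generate (Presieve.singleton f) ∈ (HTop.Jh S) X' := by
    rw [GrothendieckTopology.mem_over_iff]
    have h1 : Sieve.generate (Presieve.singleton f) =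
        Sieve.ofArrows (fun _ : PUnit.{1} => X) (fun _ => f) := by
      rw [Sieve.ofArrows, Presieve.ofArrows_pUnit]
    rw [h1, Sieve.overEquiv_ofArrows]
    have h2 : Sieve.ofArrows (fun _ : PUnit.{1} => X.left) (fun _ => f.left) =
        Sieve.generate (Presieve.singleton f.left) := by
      rw [Sieve.ofArrows, Presieve.ofArrows_pUnit]
    rw [h2]
    exact Precoverage.generate_mem_toGrothendieck hmem
  have hsheaf : Presieve.IsSheafFor F.obj (Presieve.singleton f) :=
    (Presieve.isSheafFor_iff_generate _).mpr
      ((isSheaf_iff_isSheaf_of_type _ _).mp F.property _ hgen)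
  rw [Presieve.isSheafFor_singleton] at hsheaf
  rw [Function.bijective_iff_existsUnique]
  intro x
  refine hsheaf x (fun p₁ p₂ h => ?_)
  rw [(cancel_mono f).mp h]

end Groth.Agent.S8988
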