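import Groth.Statements.S8991
import Mathlib.AlgebraicGeometry.Morphisms.Proper
import Mathlib.AlgebraicGeometry.Cover.Open

set_option autoImplicit false
universe u
open HTop

namespace Groth.Agent.S8991

section helpers
open CategoryTheory CategoryTheory.Limits AlgebraicGeometry Opposite

/-- A proper surjective morphism is a ph covering (as a one-member family). -/
theorem isPhCover_singleton_of_proper_surjective {X Y : Scheme.{u}} (f : Y ⟶ X) [IsProper f]
    [Surjective f] : HTop.IsPhCover (PreZeroHypercover.singleton.{0} f) := by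
  refine ⟨fun _ => inferInstanceAs (LocallyOfFiniteType f), ?_⟩
  intro U
  have hUaff : IsAffine ((U : X.Opens) : Scheme.{u}) := U.2
  have hproper : IsProper (f ∣_ (U : X.Opens)) := inferInstance
  have hsurj : Surjective (f ∣_ (U : X.Opens)) :=
    IsZariskiLocalAtTarget.restrict (P := @Surjective) ‹_› (U : X.Opens)
  have hc : CompactSpace ((f ⁻¹ᵁ (U : X.Opens) : Y.Opens) : Scheme.{u}) :=
    QuasiCompact.compactSpace_of_compactSpace (f ∣_ (U : X.Opens))
  let 𝒱 := ((f ⁻¹ᵁ (U : X.Opens) : Y.Opens) : Scheme.{u}).affineCover.finiteSubcover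
  have hfin : Finite 𝒱.I₀ := inferInstance
  let e : Fin (Nat.card 𝒱.I₀) ≃ 𝒱.I₀ := (Finite.equivFin 𝒱.I₀).symm
  let G : PreZeroHypercover.{0} ((U : X.Opens) : Scheme.{u}) :=
    { I₀ := Fin (Nat.card 𝒱.I₀)
      X := fun k => 𝒱.X (e k)
      f := fun k => 𝒱.f (e k) ≫ (f ∣_ (U : X.Opens)) }
  have hGph : HTop.IsStandardPh G := by
    refine ⟨hUaff, inferInstanceAs (Finite (Fin _)), fun k => ?_, ?_⟩
    · show IsAffine (𝒱.X (e k))
      dsimp [𝒱]
      infer_instance
    · refine ⟨_, f ∣_ (U : X.Opens), fun k => 𝒱.f (e k), hproper, hsurj, fun k => inferInstance,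
        fun k => rfl, fun x => ?_⟩
      obtain ⟨i, hi⟩ := 𝒱.exists_eq x
      obtain ⟨k, rfl⟩ := e.surjective i
      exact ⟨k, hi⟩
  refine ⟨G, hGph, fun k => ?_⟩
  refine ⟨PUnit.unit, 𝒱.f (e k) ≫ (f ⁻¹ᵁ (U : X.Opens) : Y.Opens).ι, ?_⟩
  show (𝒱.f (e k) ≫ (f ⁻¹ᵁ (U : X.Opens) : Y.Opens).ι) ≫ f =
    (𝒱.f (e k) ≫ (f ∣_ (U : X.Opens))) ≫ (U : X.Opens).ι
  rw [Category.assoc, Category.assoc, morphismRestrict_ι]

end helpers

open CategoryTheory CategoryTheory.Limits AlgebraicGeometry Opposite in
/-- A ph sheaf on schemes over S takes the same sections on an S-scheme and on any thickening of it. -/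
theorem result (S : Scheme.{u}) (F : HTop.ShPh S) {X X' : Over S} (f : X ⟶ X') (hf : MoreMor.IsThickening f.left) : Function.Bijective (F.obj.map f.op) := by
  obtain ⟨hcl, hsurj⟩ := hf
  have hmono : Mono f := by
    have : Mono f.left := inferInstance
    exact (Over.forget S).mono_of_mono_map this
  have hcov : HTop.IsPhCover (PreZeroHypercover.singleton.{0} f.left) :=
    isPhCover_singleton_of_proper_surjective f.left
  have hmem : Presieve.singleton f.left ∈ HTop.phPrecoverage X'.left := by
    have h1 := (HTop.presieve₀_mem_phPrecoverage_iff (PreZeroHypercover.singleton.{0} f.left)).mpr hcov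
    rwa [PreZeroHypercover.presieve₀_singleton] at h1
  have hgen : Sieve.generate (Presieve.singleton f) ∈ (HTop.Jph S) X' := by
    rw [GrothendieckTopology.mem_over_iff]
    have h1 : Sieve.generate (Presieve.singleton f) =
        Sieve.ofArrows (fun _ : PUnit.{1} => X) (fun _ => f) := by
      rw [Sieve.ofArrows, Presieve.ofArrows_pUnit]
    rw [h1, Sieve.overEquiv_ofArrows]
    have h2 : Sieve.ofArrows (fun _ : PUnit.{1} => X.left) (fun _ => f.left) =
        Sieve.generate (Presieve.singleton f.left) := by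
      rw [Sieve.ofArrows, Presieve.ofArrows_pUnit]
    rw [h2]
    exact Precoverage.generate_mem_toGrothendieck hmem
  have hsheaf : Presieve.IsSheafFor F.obj (Presieve.singleton f) :=
    (Presieve.isSheafFor_iff_generate _).mpr
      ((isSheaf_iff_isSheaf_of_type _ _).mp F.property _ hgen)
  rw [Presieve.isSheafFor_singleton] at hsheaf
  rw [Function.bijective_iff_existsUnique]
  intro x
  refine hsheaf x (fun p₁ p₂ h => ?_)
  rw [(cancel_mono f).mp h]

end Groth.Agent.S8991
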