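import Groth.Statements.S8992
-- import your own Groth.Agent.* helpers here

set_option autoImplicit false
universe u
open HTop

namespace Groth.Agent.S8992

theorem exists_two_three (n : ℕ) (hn : 2 ≤ n) : ∃ i j : ℕ, 2 * i + 3 * j = n := by
  rcases Nat.even_or_odd' n with ⟨k, rfl | rfl⟩
  · exact ⟨k, 0, by omega⟩
  · exact ⟨k - 1, 1, by omega⟩

/-- An algebra over the prime field with p elements is absolutely weakly normal if and only if its p-th
power map is bijective (the algebra is perfect). -/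
theorem result (p : ℕ) [Fact p.Prime] (A : Type u) [CommRing A] [Algebra (ZMod p) A] : HTop.IsAWNRing A ↔ PerfectRing A p := by
  have hp : p.Prime := Fact.out
  have hp0 : (p : A) = 0 := by
    rw [← map_natCast (algebraMap (ZMod p) A) p, ZMod.natCast_self, map_zero]
  have hpp : (p : A) ^ p = 0 := by rw [hp0, zero_pow hp.ne_zero]
  constructor
  · intro h
    refine ⟨⟨fun a b hab => ?_, fun x => ?_⟩⟩
    · obtain ⟨c, _, hc⟩ := h.2 p hp (a ^ p) 0 (by rw [hpp, zero_mul, zero_pow hp.ne_zero])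
      have ha := hc a ⟨rfl, by rw [hp0, zero_mul]⟩
      have hb := hc b ⟨hab, by rw [hp0, zero_mul]⟩
      rw [ha, hb]
    · obtain ⟨c, hc, _⟩ := h.2 p hp x 0 (by rw [hpp, zero_mul, zero_pow hp.ne_zero])
      exact ⟨c, hc.1.symm⟩
  · rintro ⟨hinj, hsurj⟩
    have hinj' : ∀ a b : A, a ^ p = b ^ p → a = b := fun a b h => hinj h
    refine ⟨fun x y hxy => ?_, fun ℓ hℓ x y hxy => ?_⟩
    · obtain ⟨i, j, hij⟩ := exists_two_three p hp.two_le
      obtain ⟨a, ha⟩ := hsurj (x ^ i * y ^ j)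
      have ha : a ^ p = x ^ i * y ^ j := ha
      have h2 : x = a ^ 2 := by
        apply hinj'
        calc x ^ p = x ^ (2 * i) * (x ^ 3) ^ j := by rw [← pow_mul, ← pow_add, ← hij]
          _ = (x ^ i * y ^ j) ^ 2 := by rw [hxy]; ring
          _ = (a ^ 2) ^ p := by rw [← ha]; ring
      have h3 : y = a ^ 3 := by
        apply hinj'
        calc y ^ p = (y ^ 2) ^ i * y ^ (3 * j) := by rw [← pow_mul, ← pow_add, ← hij]
          _ = (x ^ i * y ^ j) ^ 3 := by rw [← hxy]; ring
          _ = (a ^ 3) ^ p := by rw [← ha]; ring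
      refine ⟨a, ⟨h2, h3⟩, fun b ⟨hb2, hb3⟩ => ?_⟩
      apply hinj'
      rw [ha, hb2, hb3, ← hij]
      ring
    · by_cases hℓp : ℓ = p
      · subst hℓp
        rw [hpp, zero_mul] at hxy
        have hy : y = 0 := hinj' y 0 (by rw [← hxy, zero_pow hp.ne_zero])
        obtain ⟨a, ha⟩ := hsurj x
        have ha : a ^ ℓ = x := ha
        refine ⟨a, ⟨ha.symm, by rw [hy, hp0, zero_mul]⟩, fun b ⟨hb, _⟩ => ?_⟩
        apply hinj'
        rw [ha, ← hb]
      · have hcop : Nat.Coprime ℓ p := (Nat.coprime_primes hℓ hp).mpr hℓp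
        have hu : IsUnit (ℓ : A) := by
          have : IsUnit ((ℓ : ZMod p)) := (ZMod.isUnit_iff_coprime ℓ p).mpr hcop
          have := this.map (algebraMap (ZMod p) A)
          rwa [map_natCast] at this
        obtain ⟨u, hu⟩ := hu
        refine ⟨↑u⁻¹ * y, ⟨?_, ?_⟩, fun b ⟨_, hb⟩ => ?_⟩
        · rw [mul_pow, ← hxy, ← hu, ← mul_assoc, ← mul_pow, Units.inv_mul, one_pow, one_mul]
        · rw [← hu, ← mul_assoc, Units.mul_inv, one_mul]
        · rw [hb, ← hu, ← mul_assoc, Units.inv_mul, one_mul]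

end Groth.Agent.S8992
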