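import Groth.Statements.S8995
import Mathlib.RingTheory.Unramified.Finite
import Mathlib.RingTheory.Flat.Stability
import Mathlib.AlgebraicGeometry.Morphisms.FormallyUnramified
import Mathlib.AlgebraicGeometry.Morphisms.Flat
import Mathlib.AlgebraicGeometry.Morphisms.FiniteType
-- import your own Groth.Agent.* helpers here

set_option autoImplicit false
universe v u
open FlatMor

namespace Groth.Agent.S8995

open TensorProduct

section Algebra

variable (A B : Type*) [CommRing A] [CommRing B] [Algebra A B]
variable (M : Type*) [AddCommGroup M] [Module B M] [Module A M] [IsScalarTower A B M]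

/-- The bilinear map `m, x ⊗ y ↦ x ⊗ (y • m)`. -/
noncomputable def Ψ : M →ₗ[A] (B ⊗[A] B →ₗ[A] B ⊗[A] M) :=
  (LinearMap.lTensorHom B) ∘ₗ ((Algebra.lsmul A A M : B →ₐ[A] Module.End A M).toLinearMap.flip)

@[simp] theorem Ψ_tmul (m : M) (x y : B) : Ψ A B M m (x ⊗ₜ y) = x ⊗ₜ (y • m) := by
  simp [Ψ]

theorem Ψ_smul_right (b : B) (m : M) (z : B ⊗[A] B) :
    Ψ A B M (b • m) z = Ψ A B M m (z * (1 ⊗ₜ b)) := by
  induction z using TensorProduct.induction_on with
  | zero => simp
  | tmul x y => simp [mul_smul]
  | add z w hz hw => rw [map_add, hz, hw, add_mul, map_add]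

theorem smul_Ψ (b : B) (m : M) (z : B ⊗[A] B) :
    b • Ψ A B M m z = Ψ A B M m (z * (b ⊗ₜ 1)) := by
  induction z using TensorProduct.induction_on with
  | zero => simp
  | tmul x y => simp [TensorProduct.smul_tmul', mul_comm]
  | add z w hz hw => rw [map_add, smul_add, hz, hw, add_mul, map_add]

/-- The retraction `b ⊗ m ↦ b • m`. -/
noncomputable def retr : B ⊗[A] M →ₗ[B] M :=
  LinearMap.liftBaseChange B (LinearMap.id (R := A) (M := M))

@[simp] theorem retr_tmul (b : B) (m : M) : retr A B M (b ⊗ₜ m) = b • m := by
  simp [retr]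

theorem retr_Ψ (m : M) (z : B ⊗[A] B) :
    retr A B M (Ψ A B M m z) = (Algebra.TensorProduct.lmul' A z : B) • m := by
  induction z using TensorProduct.induction_on with
  | zero => simp
  | tmul x y => simp [mul_smul]
  | add z w hz hw => rw [map_add, map_add, hz, hw, map_add, add_smul]

/-- For a formally unramified algebra essentially of finite type, a module which is flat over the
base is flat over the algebra. -/
theorem flat_of_formallyUnramified [Algebra.FormallyUnramified A B] [Algebra.EssFiniteType A B]
    [Module.Flat A M] : Module.Flat B M := by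
  let e := Algebra.FormallyUnramified.elem A B
  let i : M →ₗ[B] B ⊗[A] M :=
    { toFun := fun m => Ψ A B M m e
      map_add' := fun m m' => by rw [map_add, LinearMap.add_apply]
      map_smul' := fun b m => by
        rw [RingHom.id_apply, Ψ_smul_right, smul_Ψ, mul_comm e, mul_comm e,
          Algebra.FormallyUnramified.one_tmul_mul_elem] }
  refine Module.Flat.of_retract (M := B ⊗[A] M) i (retr A B M) ?_
  ext m
  change retr A B M (Ψ A B M m e) = m
  rw [retr_Ψ, Algebra.FormallyUnramified.lmul_elem, one_smul]

end Algebra

open CategoryTheory CategoryTheory.Limits AlgebraicGeometry in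
theorem result {T S : Scheme.{u}} (g : T ⟶ S) [Etale g] (t : T) (M : Type v) [AddCommGroup M] [Module (T.presheaf.stalk t) M] [Algebra (S.presheaf.stalk (g.base t)) (T.presheaf.stalk t)] [Module (S.presheaf.stalk (g.base t)) M] [IsScalarTower (S.presheaf.stalk (g.base t)) (T.presheaf.stalk t) M] (halg : algebraMap (S.presheaf.stalk (g.base t)) (T.presheaf.stalk t) = (g.stalkMap t).hom) : Module.Flat (S.presheaf.stalk (g.base t)) M ↔ Module.Flat (T.presheaf.stalk t) M := by
  have hflat : (algebraMap (S.presheaf.stalk (g.base t)) (T.presheaf.stalk t)).Flat := by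
    rw [halg]; exact Flat.stalkMap g t
  have hunr : (algebraMap (S.presheaf.stalk (g.base t)) (T.presheaf.stalk t)).FormallyUnramified := by
    rw [halg]; exact FormallyUnramified.stalkMap g t
  have hft : (algebraMap (S.presheaf.stalk (g.base t)) (T.presheaf.stalk t)).EssFiniteType := by
    rw [halg]; exact LocallyOfFiniteType.stalkMap g t
  have h1 : Module.Flat (S.presheaf.stalk (g.base t)) (T.presheaf.stalk t) :=
    RingHom.flat_algebraMap_iff.mp hflat
  have h2 : Algebra.FormallyUnramified (S.presheaf.stalk (g.base t)) (T.presheaf.stalk t) :=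
    RingHom.formallyUnramified_algebraMap.mp hunr
  have h3 : Algebra.EssFiniteType (S.presheaf.stalk (g.base t)) (T.presheaf.stalk t) :=
    RingHom.essFiniteType_algebraMap.mp hft
  constructor
  · intro h
    exact flat_of_formallyUnramified (S.presheaf.stalk (g.base t)) (T.presheaf.stalk t) M
  · intro h
    exact Module.Flat.trans (S.presheaf.stalk (g.base t)) (T.presheaf.stalk t) M

end Groth.Agent.S8995
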