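import Groth.Statements.S9005
import Groth.Agent.Lib.Helper12.ProjPure

set_option autoImplicit false
universe u
open FlatMor

namespace Groth.Agent.S9005

/-- For an affine finite type morphism Spec B → Spec A: a finite B-module which is projective as an
A-module is universally pure over Spec A. (The published statement allows any base scheme S and asks
the direct image to be locally projective; over an affine base a projective module gives such a
direct image, so this row is that case.) -/
theorem result {A B : Type u} [CommRing A] [CommRing B] [Algebra A B] [Algebra.FiniteType A B] (N : Type u) [AddCommGroup N] [Module B N] [Module A N] [IsScalarTower A B N] [Module.Finite B N] [Module.Projective A N] : FlatCA.IsUnivPure A B N := by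
  intro p _ A' B' N' _ _ _ _ _ _ _ _ _ _ _ _ _ _ f t' t _ _ P _
  rintro ⟨hpush, hbc, hle, htp, hPt', hass, hno⟩
  -- `N'` is projective over `A'`
  haveI : Algebra.IsPushout A A' B B' := hpush.symm
  haveI : Module.Projective A' N' := by
    let e1 : TensorProduct B B' N ≃ₗ[B'] N' := hbc.equiv
    let e2 : TensorProduct B B' N ≃ₗ[A'] TensorProduct A A' N := Algebra.IsPushout.cancelBaseChange A A' B B' N
    exact Module.Projective.of_equiv ((e1.restrictScalars A').symm ≪≫ₗ e2).symm
  -- the element witnessing the associated prime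
  obtain ⟨hq, x, hx⟩ := hass
  obtain ⟨s, hs, hsmem⟩ := Groth.Agent.Lib.Helper12.ProjPure.exists_mem_sup_map t P
    (fun P' _ h1 h2 => hno P' h1 h2)
  obtain ⟨g, hgP, τ, hτ, hsum⟩ := Submodule.mem_sup.mp hsmem
  have hgq : Algebra.TensorProduct.includeRight (R := A') (A := t'.ResidueField) (B := B') g ∈
      FlatCA.fiberIdeal t' P := Ideal.mem_map_of_mem _ hgP
  rw [hx] at hgq
  obtain ⟨k, hk⟩ := hgq
  rw [Submodule.mem_colon_singleton, Submodule.mem_bot, ← map_pow] at hk
  have hx0 : x ≠ 0 := by
    rintro rfl
    apply hq.ne_top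
    rw [hx, Ideal.eq_top_iff_one]
    refine Ideal.le_radical ?_
    rw [Submodule.mem_colon_singleton, smul_zero]
    exact Submodule.zero_mem _
  obtain ⟨n, hn1, hn2⟩ := Groth.Agent.Lib.Helper12.ProjPure.exists_of_fibre t' N' x hx0 (g ^ k) hk
  apply hn1
  refine Groth.Agent.Lib.Helper12.ProjPure.key N' t' t hle (g ^ k) (s ^ k)
    (fun h => hs (Ideal.IsPrime.mem_of_pow_mem inferInstance k h)) ?_ n hn2
  rw [map_pow]
  obtain ⟨c, hc⟩ := sub_dvd_pow_sub_pow (algebraMap A' B' s) g k
  rw [hc]
  refine Ideal.mul_mem_right _ _ ?_
  have : algebraMap A' B' s - g = τ := by rw [← hsum]; ring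
  rw [this]
  exact hτ

end Groth.Agent.S9005
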