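import Groth.Statements.S9007
-- import your own Groth.Agent.* helpers here

set_option autoImplicit false
universe u
open FlatMor

namespace Groth.Agent.S9007

open CategoryTheory CategoryTheory.Limits AlgebraicGeometry in
theorem result {X S : Scheme.{u}} [CompactSpace S] [QuasiSeparatedSpace S] (p : X ⟶ S) [IsSeparated p] [QuasiCompact p] [LocallyOfFiniteType p] {Y Y' : Scheme.{u}} (j : X ⟶ Y) (q : Y ⟶ S) [IsOpenImmersion j] [IsProper q] (h : j ≫ q = p) (j' : X ⟶ Y') (q' : Y' ⟶ S) [IsOpenImmersion j'] [IsProper q'] (h' : j' ≫ q' = p) (f : Y' ⟶ Y) (hf : f ≫ q = q') (hfj : j' ≫ f = j) (hd : Dense (Set.range j'.base)) : f ⁻¹ᵁ j.opensRange = j'.opensRange := by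
  set U : Y'.Opens := f ⁻¹ᵁ j.opensRange with hU
  -- `j'` factors through `U`
  have hj'U : Set.range j' ⊆ Set.range U.ι := by
    rintro _ ⟨x, rfl⟩
    rw [Scheme.Opens.range_ι]
    change f (j' x) ∈ j.opensRange
    rw [← Scheme.Hom.comp_apply, hfj]
    exact ⟨x, rfl⟩
  let s : X ⟶ U := IsOpenImmersion.lift U.ι j' hj'U
  have hs : s ≫ U.ι = j' := IsOpenImmersion.lift_fac _ _ _
  -- `U.ι ≫ f` factors through `j`
  have hUj : Set.range (U.ι ≫ f) ⊆ Set.range j := by
    rintro _ ⟨y, rfl⟩
    rw [Scheme.Hom.comp_apply]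
    exact (show f (U.ι y) ∈ j.opensRange from y.2)
  let r : (U : Scheme) ⟶ X := IsOpenImmersion.lift j (U.ι ≫ f) hUj
  have hr : r ≫ j = U.ι ≫ f := IsOpenImmersion.lift_fac _ _ _
  have hsr : s ≫ r = 𝟙 X := by
    rw [← cancel_mono j, Category.assoc, hr, ← Category.assoc, hs, hfj, Category.id_comp]
  -- `r` is separated
  have hrp : r ≫ p = U.ι ≫ q' := by
    rw [← h, ← Category.assoc, hr, Category.assoc, hf]
  have : IsSeparated (r ≫ p) := by rw [hrp]; infer_instance
  have : IsSeparated r := IsSeparated.of_comp r p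
  have : IsClosedImmersion (s ≫ r) := by rw [hsr]; infer_instance
  have hcl : IsClosedImmersion s := IsClosedImmersion.of_comp s r
  -- `s` has dense range
  have hdense : Dense (Set.range s) := by
    have h1 : Set.range j' = U.ι '' Set.range s := by
      rw [← Set.range_comp]
      ext y
      simp only [Set.mem_range, Function.comp_apply]
      constructor
      · rintro ⟨x, rfl⟩
        exact ⟨x, by rw [← Scheme.Hom.comp_apply, hs]⟩
      · rintro ⟨x, rfl⟩
        exact ⟨x, by rw [← Scheme.Hom.comp_apply, hs]⟩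
    have hemb : Topology.IsOpenEmbedding U.ι := U.ι.isOpenEmbedding
    rw [h1] at hd
    rw [dense_iff_closure_eq, ← Set.preimage_univ (f := U.ι), ← hd.closure_eq,
      hemb.isInducing.closure_eq_preimage_closure_image]
  have hsurj : Function.Surjective s := by
    rw [← Set.range_eq_univ, ← hdense.closure_eq]
    exact ((Scheme.Hom.isClosedEmbedding s).isClosed_range.closure_eq).symm
  apply le_antisymm
  · intro y hy
    obtain ⟨x, hx⟩ := hsurj ⟨y, hy⟩
    refine ⟨x, ?_⟩
    rw [← hs, Scheme.Hom.comp_apply, hx]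
    rfl
  · intro y hy
    obtain ⟨x, rfl⟩ := hy
    have := hj'U ⟨x, rfl⟩
    rw [Scheme.Opens.range_ι] at this
    exact this

end Groth.Agent.S9007
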