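import Groth.Statements.S9008
import Mathlib

set_option autoImplicit false
set_option linter.style.haveILetI false
universe u
open FlatMor

namespace Groth.Agent.S9008

/-- For Spec B → Spec A affine of finite type: a finite B-module is universally pure along the fibre
over a prime p of A exactly when every base change of it along a ring map A → A' is pure along the
fibre over every prime of A' above p. -/
theorem result {A B : Type u} [CommRing A] [CommRing B] [Algebra A B] [Algebra.FiniteType A B] (N : Type u) [AddCommGroup N] [Module B N] [Module.Finite B N] (p : Ideal A) [p.IsPrime] : FlatCA.IsUnivPureAlong A B N p ↔ ∀ (A' B' N' : Type u) [CommRing A'] [CommRing B'] [Algebra A A'] [Algebra B B'] [Algebra A' B'] [Algebra A B'] [IsScalarTower A B B'] [IsScalarTower A A' B'] [Algebra.IsPushout A B A' B'] [AddCommGroup N'] [Module B' N'] [Module B N'] [IsScalarTower B B' N'] (g : N →ₗ[B] N'), IsBaseChange B' g → ∀ (p' : Ideal A') [p'.IsPrime], p'.LiesOver p → FlatCA.IsPureAlong A' B' N' p' := by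
  constructor
  · intro h A' B' N' _ _ _ _ _ _ _ _ _ _ _ _ _ g hg p' _ hp'
    intro A'' B'' N'' _ _ _ _ _ _ _ _ _ _ _ _ _ _ f' t' t _ _ P _ het himp
    obtain ⟨hpo, hbc, hle, hlies, hPlies, hass, hno⟩ := himp
    letI : Algebra A A'' := ((algebraMap A' A'').comp (algebraMap A A')).toAlgebra
    haveI : IsScalarTower A A' A'' := IsScalarTower.of_algebraMap_eq fun _ => rfl
    letI : Algebra B B'' := ((algebraMap B' B'').comp (algebraMap B B')).toAlgebra
    haveI : IsScalarTower B B' B'' := IsScalarTower.of_algebraMap_eq fun _ => rfl
    letI : Algebra A B'' := ((algebraMap B B'').comp (algebraMap A B)).toAlgebra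
    haveI : IsScalarTower A B B'' := IsScalarTower.of_algebraMap_eq fun _ => rfl
    haveI : IsScalarTower A B' B'' := IsScalarTower.of_algebraMap_eq fun x => by
      change algebraMap B' B'' (algebraMap B B' (algebraMap A B x)) = _
      rw [← IsScalarTower.algebraMap_apply A B B']
    haveI : IsScalarTower A A'' B'' := IsScalarTower.of_algebraMap_eq fun x => by
      change algebraMap B' B'' (algebraMap B B' (algebraMap A B x)) =
        algebraMap A'' B'' (algebraMap A' A'' (algebraMap A A' x))
      rw [← IsScalarTower.algebraMap_apply A B B', IsScalarTower.algebraMap_apply A A' B',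
        ← IsScalarTower.algebraMap_apply A' B' B'', ← IsScalarTower.algebraMap_apply A' A'' B'']
    letI : Module B N'' := Module.compHom N'' (algebraMap B B'')
    haveI : IsScalarTower B B'' N'' := ⟨fun b b'' n => by
      change (b • b'') • n = algebraMap B B'' b • (b'' • n)
      rw [Algebra.smul_def, mul_smul]⟩
    haveI : IsScalarTower B B' N'' := ⟨fun b b' n => by
      change (b • b') • n = algebraMap B B'' b • (b' • n)
      rw [Algebra.smul_def, mul_smul, ← algebraMap_smul B'' (algebraMap B B' b),
        ← IsScalarTower.algebraMap_apply B B' B'']⟩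
    refine h A'' B'' N'' ((f'.restrictScalars B).comp g) t' t P
      ⟨?_, IsBaseChange.comp hg hbc, hle, ?_, hPlies, hass, hno⟩
    · -- pasting of pushouts
      have h1 : Algebra.IsPushout A A' B B' := Algebra.IsPushout.symm inferInstance
      have h2 : Algebra.IsPushout A' A'' B' B'' := Algebra.IsPushout.symm hpo
      have h3 : Algebra.IsPushout A A'' B B'' :=
        (Algebra.IsPushout.comp_iff A A' B (T := A'') (S' := B') (T' := B'')).mpr h2
      exact Algebra.IsPushout.symm h3
    · exact Ideal.LiesOver.trans t p' p
  · intro h A' B' N' _ _ _ _ _ _ _ _ _ _ _ _ _ _ f t' t _ _ P _ himp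
    obtain ⟨hpo, hbc, hle, hlies, hPlies, hass, hno⟩ := himp
    haveI := hpo
    have hpure := h A' B' N' f hbc t hlies
    refine hpure A' B' N' LinearMap.id t' t P ⟨inferInstance, ⟨⟨rfl⟩, ?_⟩⟩
      ⟨inferInstance, ?_, hle, ⟨rfl⟩, hPlies, hass, hno⟩
    · have hlo : t.LiesOver t := ⟨rfl⟩
      have hid : (Ideal.ResidueField.mapₐ t t (Algebra.ofId A' A') hlo.over) =
          AlgHom.id A' t.ResidueField := by
        ext
      rw [hid]
      exact Function.bijective_id
    · exact IsBaseChange.ofEquiv (LinearEquiv.refl B' N')

end Groth.Agent.S9008
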