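import Groth.Statements.S9013
import Groth.Agent.Lib.Helper62.LimPres
import Groth.Agent.Lib.Helper23.FlatStageCore
import Groth.Agent.Lib.Helper16.FlatPull.BaseChange
import Groth.Agent.Lib.Helper23.FibreFlatCons
-- import your own Groth.Agent.* helpers here

set_option autoImplicit false
universe u
open FlatMor

namespace Groth.Agent.S9013

open CategoryTheory CategoryTheory.Limits AlgebraicGeometry Opposite in
/-- For f : X → S quasi-compact and locally of finite presentation and F a quasi-coherent O_X-module of
finite presentation, the functor F_flat on schemes over S (one point on T when F_T is flat over T,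
empty otherwise; the subfunctor of the final functor generated by that condition) is limit
preserving: its value on a directed limit of affine schemes over S is the colimit of its values. -/
theorem result {X S : Scheme.{u}} (f : X ⟶ S) [QuasiCompact f] [LocallyOfFinitePresentation f]
    (F : X.Modules) [Coh.IsQCoh F] (hF : CohB1.IsFP F) :
    AlgSp.IsLimitPreserving
      (FlatFun.genPSp S (fun T => FlatMod.IsFlatOver (PicF.XTproj f T) (FGA.ET f F T))) := by
  open Groth.Agent.Helper19.FpqcModDesc Limits in
  have hFq : F.IsQuasicoherent := ‹Coh.IsQCoh F›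
  apply Groth.Agent.Lib.Helper62.LimPres.isLimitPreserving_genPSp
  · intro T T₀ k hk x
    haveI : ((Scheme.Modules.pullback (pullback.fst f T₀.hom)).obj F).IsQuasicoherent :=
      Groth.Agent.Lib.Helper16.FlatPull.isQuasicoherent_pullback _ F
    have h5 := Groth.Agent.Lib.Helper16.FlatPull.isFlatOverAt_baseChange
      (pullback.snd f T₀.hom) (pullback.snd f T.hom) (bcMap f k) k.left (isPullback_bcMap f k)
      ((Scheme.Modules.pullback (pullback.fst f T₀.hom)).obj F) x (hk _)
    exact Groth.Agent.Lib.Helper23.FibreFlatCons.isFlatOverAt_of_iso _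
      ((bcIso f k).app F) x h5
  · intro I _ _ D c hc hD hT hx
    haveI : ∀ (i j : I) (φ : i ⟶ j), IsAffineHom ((D ⋙ Over.forget S).map φ) := fun i j φ => by
      haveI := hD i
      haveI := hD j
      exact inferInstanceAs (IsAffineHom (D.map φ).left)
    haveI : Nonempty I := IsCofiltered.nonempty
    let j₀ : I := Classical.arbitrary I
    haveI := hD j₀
    have hqc : QuasiCompact (@pullback.snd Scheme _ X (D.obj j₀).left S f (D.obj j₀).hom _) :=
      inferInstance
    haveI : CompactSpace ↥(pullback f (D.obj j₀).hom) :=
      @QuasiCompact.compactSpace_of_compactSpace _ _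
        (@pullback.snd Scheme _ X (D.obj j₀).left S f (D.obj j₀).hom _) hqc inferInstance
    have hlfp : LocallyOfFinitePresentation
        (@pullback.snd Scheme _ X (D.obj j₀).left S f (D.obj j₀).hom _) := inferInstance
    haveI : ((Scheme.Modules.pullback (pullback.fst f (D.obj j₀).hom)).obj F).IsQuasicoherent :=
      Groth.Agent.Lib.Helper16.FlatPull.isQuasicoherent_pullback _ F
    have hF₀ := Groth.Agent.S8913.isFinitePresentation_pullback
      (pullback.fst f (D.obj j₀).hom) F hF
    have hfl : FlatMod.IsFlatOver (pullback.snd f c.pt.hom)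
        ((Scheme.Modules.pullback (bcMap f (c.π.app j₀))).obj
          ((Scheme.Modules.pullback (pullback.fst f (D.obj j₀).hom)).obj F)) := fun x =>
      Groth.Agent.Lib.Helper23.FibreFlatCons.isFlatOverAt_of_iso _
        ((bcIso f (c.π.app j₀)).app F).symm x (hx x)
    obtain ⟨k, hk⟩ := @Groth.Agent.Lib.Helper23.FlatStage.exists_stage_isFlatOver I _ _
      (D ⋙ Over.forget S) ((Over.forget S).mapCone c) _ j₀ hc (pullback f (D.obj j₀).hom) _
      (pullback.snd f (D.obj j₀).hom) hlfp
      ((Scheme.Modules.pullback (pullback.fst f (D.obj j₀).hom)).obj F) _ hF₀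
      (pullback f c.pt.hom) (pullback.snd f c.pt.hom) (bcMap f (c.π.app j₀))
      (isPullback_bcMap f (c.π.app j₀)) hfl
    refine ⟨k.left, fun x => ?_⟩
    have h6 := hk k (𝟙 k) (pullback.snd f (D.obj k.left).hom) (bcMap f (D.map k.hom))
      (isPullback_bcMap f (D.map k.hom)) x
    exact Groth.Agent.Lib.Helper23.FibreFlatCons.isFlatOverAt_of_iso _
      ((bcIso f (D.map k.hom)).app F) x h6

end Groth.Agent.S9013
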