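import Groth.Statements.S9019
import Groth.Agent.Lib.Helper62.LimPres
-- import your own Groth.Agent.* helpers here

set_option autoImplicit false
universe u
open FlatMor

namespace Groth.Agent.S9019

open CategoryTheory CategoryTheory.Limits AlgebraicGeometry Opposite in
/-- For f : X → S quasi-compact and a homomorphism u : F → G of quasi-coherent O_X-modules with F of
finite type, the functor F_zero (one point on T when the base change u_T on X ×_S T is zero, empty
otherwise; the subfunctor of the final functor generated by that condition) is limit preserving. -/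
theorem result {X S : Scheme.{u}} (f : X ⟶ S) [QuasiCompact f] {F G : X.Modules} [Coh.IsQCoh F] [Coh.IsQCoh G]
    (hF : CohB1.IsFT F) (u : F ⟶ G) :
    AlgSp.IsLimitPreserving (FlatFun.genPSp S (fun T => ((Scheme.Modules.pullback (pullback.fst f T.hom)).map u) = 0)) := by
  have hFq : F.IsQuasicoherent := ‹Coh.IsQCoh F›
  have hGq : G.IsQuasicoherent := ‹Coh.IsQCoh G›
  refine Groth.Agent.Lib.Helper62.LimPres.isLimitPreserving_of_arrowProp f u
    (fun _ _ _ v => v = 0) ?_ ?_ ?_
  · intro Z₁ Z₂ Z₃ a g h e A B v
    exact Groth.Agent.Lib.Helper18.LimModEpi.eq_zero_stage_iff a g h e v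
  · intro Z₁ Z₂ a A B v hv
    rw [hv, Functor.map_zero]
  · intro I _ _ D c hc _ i₀ _ p hx
    haveI : ((Scheme.Modules.pullback p).obj F).IsQuasicoherent :=
      Groth.Agent.Lib.Helper16.FlatPull.isQuasicoherent_pullback p F
    haveI : ((Scheme.Modules.pullback p).obj G).IsQuasicoherent :=
      Groth.Agent.Lib.Helper16.FlatPull.isQuasicoherent_pullback p G
    have hF' : SheafOfModules.IsFiniteType (R := (D.obj i₀).ringCatSheaf)
        ((Scheme.Modules.pullback p).obj F) :=
      haveI := hF
      Groth.Agent.S8872.isFiniteType_pullback p F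
    exact Groth.Agent.Lib.Helper18.LimModZero.exists_pullback_map_eq_zero D c hc i₀
      ((Scheme.Modules.pullback p).map u) hF' hx

end Groth.Agent.S9019
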