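import Groth.Statements.S9022
import Groth.Agent.Lib.Helper62.FreeGen
-- import your own Groth.Agent.* helpers here

set_option autoImplicit false
universe u
open FlatMor

namespace Groth.Agent.S9022

open CategoryTheory CategoryTheory.Limits AlgebraicGeometry Opposite in
/-- For f : X → S smooth with geometrically irreducible fibres, F a quasi-coherent O_X-module of finite
presentation and p ≥ 0, the functor H_p on schemes over S (one point on T when F_T is free of rank p
near the generic point of every fibre of X ×_S T → T, empty otherwise; the subfunctor of the final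
functor generated by that condition) is limit preserving. -/
theorem result {X S : Scheme.{u}} (f : X ⟶ S) [Smooth f] [GeometricallyIrreducible f] (F : X.Modules) [Coh.IsQCoh F]
    (hF : CohB1.IsFP F) (p : ℕ) :
    AlgSp.IsLimitPreserving (FlatFun.genPSp S (fun T => FlatFun.FreeAtGenericPts (PicF.XTproj f T) (FGA.ET f F T) p)) := by
  open Groth.Agent.Lib.Helper62.FreeGen in
  have hFq : F.IsQuasicoherent := ‹Coh.IsQCoh F›
  apply Groth.Agent.Lib.Helper62.LimPres.isLimitPreserving_genPSp
  · intro T T₀ k hk
    have hk' := (freeAtGenericPts_iff_good f F p T₀).mp hk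
    exact (freeAtGenericPts_iff_good f F p T).mpr
      (fun t => Good.of_hom f F p k t (hk' _))
  · intro I _ _ D c hc hD hT hx
    have hx' := (freeAtGenericPts_iff_good f F p c.pt).mp hx
    obtain ⟨i, hi⟩ := forall_good_descent f F p hF D c hc hD hT hx'
    exact ⟨i, (freeAtGenericPts_iff_good f F p (D.obj i)).mpr hi⟩

end Groth.Agent.S9022
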