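import Groth.Statements.S9034
import Groth.Agent.Lib.Helper7.CpctFrac
import Groth.Agent.Lib.Helper7.LocOfFractions

set_option autoImplicit false
universe u
open Cpct

namespace Groth.Agent.S9034

open CategoryTheory CategoryTheory.Limits AlgebraicGeometry Opposite in
/-- Fix a scheme S which is quasi-separated and quasi-compact. Sending a pair (X, X̄) to X gives a
functor from the category of compactifications over S (pairs of a scheme X̄ proper over S and a
quasi-compact open X ⊆ X̄, with morphisms the S-morphisms X̄' → X̄ sending X' into X) to the
category of compactifyable schemes over S (the full subcategory of schemes over S that are the open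
part of such a pair), and this functor is a localization functor for the class of morphisms whose
open part X' → X is an isomorphism: it inverts that class and the induced functor from the localized
category is an equivalence. -/
theorem result (S : Scheme.{u}) [CompactSpace S] [QuasiSeparatedSpace S] :
    (Cpct.openFunctor S).IsLocalization (Cpct.isoOpen S) := by
  haveI := Groth.Agent.Lib.Helper7.CpctFrac.hasRightCalculusOfFractions (S := S)
  haveI : (Cpct.openFunctor S).EssSurj := ⟨fun X => by
    obtain ⟨A, ⟨e⟩⟩ := X.property
    exact ⟨A, ⟨ObjectProperty.isoMk _ e⟩⟩⟩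
  refine Groth.Agent.Lib.Helper7.LocOfFractions.isLocalization_of_rightFractions
    (Cpct.openFunctor S) (Cpct.isoOpen S) ?_ ?_ ?_
  · intro A B f hf
    rw [← ObjectProperty.isIso_hom_iff]
    exact Groth.Agent.Lib.Helper7.CpctFrac.isIso_openOver_map f hf
  · intro A B φ
    obtain ⟨A', s, hs, f, h⟩ := Groth.Agent.Lib.Helper7.CpctFrac.exists_fraction φ.hom
    exact ⟨A', s, hs, f, ObjectProperty.hom_ext _ h⟩
  · intro A B f₁ f₂ h
    have h' : Cpct.openOver.map f₁ = Cpct.openOver.map f₂ :=
      congrArg (fun m => m.hom) h
    obtain ⟨A', t, ht, h''⟩ := Groth.Agent.Lib.Helper7.CpctFrac.exists_equalizing f₁ f₂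
      (congrArg CommaMorphism.left h')
    exact ⟨A', t, ht, h''⟩

end Groth.Agent.S9034
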