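import Groth.Statements.S9035
import Mathlib
import Groth.Agent.Lib.Helper30.CptRetract

set_option autoImplicit false
universe v u
open CategoryTheory CategoryTheory.Limits Opposite
open CohDer

namespace Groth.Agent.S9035

/-- Let A be a Grothendieck abelian category and S a set of objects such that (1) every object of A is a
quotient of a direct sum of members of S and (2) for every E in S the functor Hom(E, -)
(abelian-group valued) preserves direct sums. Then every compact object K of the derived category
D(A) is a retract in D(A) of the image of a bounded cochain complex whose terms are finite direct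
sums of members of S. The derived category, the existence of direct sums in it, and the (automatic)
finite biproduct and direct sum structure of A are taken as instance hypotheses. -/
theorem result
    {A : Type u} [Category.{v} A] [Abelian A] [IsGrothendieckAbelian.{v} A] [HasCoproducts.{v} A] [HasFiniteBiproducts A]
    [HasDerivedCategory.{v} A] [HasCoproducts.{v} (DerivedCategory A)]
    (S : Set A)
    (h1 : ∀ X : A, ∃ (ι : Type v) (E : ι → A) (π : ∐ E ⟶ X), (∀ i, E i ∈ S) ∧ Epi π)
    (h2 : ∀ E ∈ S, ∀ ι : Type v, PreservesColimitsOfShape (Discrete ι) (preadditiveCoyoneda.obj (op E)))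
    (K : DerivedCategory A) (hK : CohDer.IsCompactObject K) :
    ∃ (L : CochainComplex A ℤ) (a b : ℤ),
      (∀ i : ℤ, i < a ∨ b < i → IsZero (L.X i)) ∧
      (∀ i : ℤ, ∃ (n : ℕ) (E : Fin n → A), (∀ j, E j ∈ S) ∧ Nonempty (L.X i ≅ ⨁ E)) ∧
      Nonempty (Retract K (DerivedCategory.Q.obj L)) := by
  classical
  -- exactness of countable filtered colimits
  have hN : HasExactColimitsOfShape ℕ A := by
    have : HasFilteredColimitsOfSize.{0, 0} A := hasFilteredColimitsOfSize_of_univLE.{0, 0, v, v}
    have := AB5OfSize_of_univLE.{0, 0, v, v} A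
    infer_instance
  -- finite support of members of `S`
  have hS : ∀ E ∈ S, Groth.Agent.Lib.Helper30.CptMain.FinSupp.{v} E := by
    intro E hE Λ G f
    have hpres := h2 E hE Λ
    let H : A ⥤ AddCommGrpCat.{v} := preadditiveCoyoneda.obj (op E)
    have hcof : IsColimit (Cofan.mk (H.obj (∐ G)) (fun l => H.map (Sigma.ι G l))) :=
      isColimitCofanMkObjOfIsColimit H G (Sigma.ι G) (coproductIsCoproduct G)
    -- the subgroup generated by the images of the summands
    let T : AddSubgroup (E ⟶ ∐ G) := ⨆ l : Λ, (H.map (Sigma.ι G l)).hom.range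
    have hT : T = ⊤ := by
      let q : H.obj (∐ G) ⟶ AddCommGrpCat.of ((E ⟶ ∐ G) ⧸ T) :=
        AddCommGrpCat.ofHom (QuotientAddGroup.mk' T)
      have hq : q = 0 := by
        apply Cofan.IsColimit.hom_ext hcof
        intro l
        ext y
        change (QuotientAddGroup.mk' T) ((H.map (Sigma.ι G l)).hom y) = 0
        rw [QuotientAddGroup.mk'_apply, QuotientAddGroup.eq_zero_iff]
        exact AddSubgroup.mem_iSup_of_mem l ⟨y, rfl⟩
      rw [eq_top_iff]
      intro g _
      have := congrArg (fun z => z.hom g) hq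
      change (QuotientAddGroup.mk' T) g = 0 at this
      rwa [QuotientAddGroup.mk'_apply, QuotientAddGroup.eq_zero_iff] at this
    have hf : f ∈ T := by rw [hT]; trivial
    refine AddSubgroup.iSup_induction (fun l : Λ => (H.map (Sigma.ι G l)).hom.range)
      (C := fun g : E ⟶ ∐ G => ∃ F : Finset Λ,
        g ≫ Groth.Agent.Lib.Helper30.CptSplit.projCompl G F = 0) hf ?_ ?_ ?_
    · rintro l g ⟨y, rfl⟩
      refine ⟨{l}, ?_⟩
      change (y ≫ Sigma.ι G l) ≫ _ = 0
      rw [Category.assoc, Groth.Agent.Lib.Helper30.CptSplit.ι_projCompl_of_mem G {l}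
        (Finset.mem_singleton_self l), comp_zero]
    · exact ⟨∅, zero_comp⟩
    · rintro g g' ⟨F, hF⟩ ⟨F', hF'⟩
      refine ⟨F ∪ F', ?_⟩
      have e1 := Groth.Agent.Lib.Helper30.CptSplit.comp_projCompl_eq_zero_of_subset G
          (Finset.subset_union_left (s₁ := F) (s₂ := F')) g hF
      have e2 := Groth.Agent.Lib.Helper30.CptSplit.comp_projCompl_eq_zero_of_subset G
          (Finset.subset_union_right (s₁ := F) (s₂ := F')) g' hF'
      exact (Preadditive.add_comp _ _ _ g g' _).trans (by rw [e1, e2, add_zero])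
  -- generation
  have hgen : ∀ X : A, ∃ (Y : A) (π : Y ⟶ X),
      Groth.Agent.Lib.Helper30.CptMain.PSum.{v} S Y ∧ Epi π := by
    intro X
    obtain ⟨ι, E, π, hE, hπ⟩ := h1 X
    exact ⟨∐ E, π, ⟨ι, E, hE, ⟨Iso.refl _⟩⟩, hπ⟩
  -- decomposition property
  have hD : ∀ J : Type v, Groth.Agent.Lib.Helper30.CptDecomp.DecompAt K J := fun J =>
    Groth.Agent.Lib.Helper30.CptDecomp.decompAt_of_surjective K J (fun E _ => (hK J E).2)
  have hDN : Groth.Agent.Lib.Helper30.CptDecomp.DecompAt K ℕ :=
    (hD (ULift.{v} ℕ)).of_equiv Equiv.ulift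
  have hDZ : Groth.Agent.Lib.Helper30.CptDecomp.DecompAt K ℤ :=
    (hD (ULift.{v} ℤ)).of_equiv Equiv.ulift
  exact Groth.Agent.Lib.Helper30.CptMain.exists_retract S hS hgen K hD hDN hDZ

end Groth.Agent.S9035
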