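import Groth.Statements.S9036
import Groth.Agent.S9035
import Groth.Agent.S0484
import Groth.Agent.Lib.Helper74.ModQc.FreeOnMap
import Groth.Agent.Lib.Helper74.ModQc.QcSite

set_option autoImplicit false
universe u
open CategoryTheory CategoryTheory.Limits Opposite
open ModSite


namespace Groth.Agent.S9036.Aux

open Groth.Agent.Lib.Helper74.ModQc

variable {C : Type u} [SmallCategory C] {J : GrothendieckTopology C} (O : Sheaf J CommRingCat.{u})

/-- quasi-compact objects -/
def Qc (U : C) : Prop := CohCx.IsQcObject ((presheafToSheaf J (Type u)).obj (yoneda.obj U))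

/-- the set of free modules on quasi-compact objects -/
def S : Set (ModSite.Mod O) := {M | ∃ U : C, Qc (J := J) U ∧ M = ModSite.freeOn O U}

lemma separated (N : ModSite.Mod O) {V : C} (R : Sieve V) (hR : R ∈ J V) (x y : N.val.obj (op V))
    (h : ∀ ⦃W : C⦄ (g : W ⟶ V), R g → N.val.map g.op x = N.val.map g.op y) : x = y := by
  have hsep : Presieve.IsSeparated J (N.val.presheaf ⋙ forget Ab) := by
    apply Presieve.IsSheaf.isSeparated
    rw [← isSheaf_iff_isSheaf_of_type]
    exact ((sheafCompose J (forget Ab)).obj ⟨N.val.presheaf, N.isSheaf⟩).2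
  exact (hsep _ hR).ext (fun Y f hf => h f hf)

lemma cov (hC : ∀ V : C, ∃ R ∈ J V, ∀ ⦃W : C⦄ (g : W ⟶ V), R g →
      ∃ (U : C) (a : W ⟶ U) (b : U ⟶ V), Qc (J := J) U ∧ a ≫ b = g) (M : ModSite.Mod O) :
    ∃ (ι : Type u) (E : ι → ModSite.Mod O) (π : ∐ E ⟶ M), (∀ i, E i ∈ S O) ∧ Epi π := by
  refine ⟨{p : (Σ U : C, M.val.obj (op U)) // Qc (J := J) p.1},
    fun p => ModSite.freeOn O p.1.1, Sigma.desc fun p => ofSec O p.1.2,
    fun p => ⟨p.1.1, p.2, rfl⟩, ⟨fun {N} g h hgh => ?_⟩⟩
  have key : ∀ (U : C) (_ : Qc (J := J) U) (s : M.val.obj (op U)), secMap g U s = secMap h U s := by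
    intro U hU s
    have h1 := congrArg (fun φ => Sigma.ι (fun p : {p : (Σ U : C, M.val.obj (op U)) //
      Qc (J := J) p.1} => ModSite.freeOn O p.1.1) ⟨⟨U, s⟩, hU⟩ ≫ φ) hgh
    simp only [Sigma.ι_desc_assoc] at h1
    have h2 := congrArg (toSec O) h1
    rwa [toSec_comp, toSec_comp, toSec_ofSec] at h2
  have key2 : ∀ (V : C) (s : M.val.obj (op V)), secMap g V s = secMap h V s := by
    intro V s
    obtain ⟨R, hR, hfac⟩ := hC V
    apply separated O N R hR
    intro W f hf
    obtain ⟨U, a, b, hU, rfl⟩ := hfac f hf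
    have e : ∀ (ψ : M ⟶ N), N.val.map (a ≫ b).op (secMap ψ V s) =
        N.val.map a.op (secMap ψ U (M.val.map b.op s)) := by
      intro ψ
      rw [← secMap_map ψ b s, op_comp, PresheafOfModules.map_comp]
      rfl
    rw [e g, e h, key U hU]
  apply SheafOfModules.hom_ext
  apply PresheafOfModules.hom_ext
  intro X
  ext s
  exact key2 X.unop s

end Groth.Agent.S9036.Aux

namespace Groth.Agent.S9036

open Groth.Agent.S9036.Aux Groth.Agent.Lib.Helper74.ModQc

/-- Let (C, O) be a ringed site in which every object has a covering by quasi-compact objects (an object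
U is called quasi-compact here when the sheaf h_U^# is a quasi-compact object of the topos, which is
equivalent to the site-level definition). Then every compact object of D(O) is a retract in D(O) of
the image of a bounded complex whose terms are finite direct sums of modules of the form j_{U!} O_U
with U quasi-compact. The derived category of O-modules, direct sums in it and finite biproducts of
O-modules (automatic) are instance hypotheses. -/
theorem result
    {C : Type u} [SmallCategory C] {J : GrothendieckTopology C} (O : Sheaf J CommRingCat.{u})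
    [HasFiniteBiproducts (ModSite.Mod O)]
    [HasDerivedCategory.{u} (ModSite.Mod O)] [HasCoproducts.{u} (DerivedCategory (ModSite.Mod O))]
    (hC : ∀ V : C, ∃ R ∈ J V, ∀ ⦃W : C⦄ (g : W ⟶ V), R g →
      ∃ (U : C) (a : W ⟶ U) (b : U ⟶ V), CohCx.IsQcObject ((presheafToSheaf J (Type u)).obj (yoneda.obj U)) ∧ a ≫ b = g)
    (K : DerivedCategory (ModSite.Mod O)) (hK : CohDer.IsCompactObject K) :
    ∃ (L : CochainComplex (ModSite.Mod O) ℤ) (a b : ℤ),
      (∀ i : ℤ, i < a ∨ b < i → IsZero (L.X i)) ∧
      (∀ i : ℤ, ∃ (n : ℕ) (U : Fin n → C),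
        (∀ j, CohCx.IsQcObject ((presheafToSheaf J (Type u)).obj (yoneda.obj (U j)))) ∧
        Nonempty (L.X i ≅ ⨁ fun j => ModSite.freeOn O (U j))) ∧
      Nonempty (Retract K (DerivedCategory.Q.obj L)) := by
  haveI : IsGrothendieckAbelian.{u} (ModSite.Mod O) :=
    Groth.Agent.S0484.result J (ModSite.ringSh O)
  obtain ⟨L, a, b, hz, hL, hr⟩ := Groth.Agent.S9035.result (A := ModSite.Mod O) (S O)
    (cov O hC) (fun E hE ι => by
      obtain ⟨U, hU, rfl⟩ := hE
      exact preservesCoproducts_freeOn O U (isQCSite_of_isQcObject hU) ι) K hK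
  refine ⟨L, a, b, hz, fun i => ?_, hr⟩
  obtain ⟨n, E, hE, ⟨e⟩⟩ := hL i
  choose U hU hEU using hE
  obtain rfl : E = fun j => ModSite.freeOn O (U j) := funext hEU
  exact ⟨n, U, hU, ⟨e⟩⟩

end Groth.Agent.S9036
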