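import Groth.Statements.S9039
-- import your own Groth.Agent.* helpers here

set_option autoImplicit false
universe u
open Topology
open CohTop

namespace Groth.Agent.S9039

theorem result
    {B : Type u} [TopologicalSpace B] [T2Space B] [LocallyCompactSpace B]
    {ι : Type u} {X : ι → Type u} [∀ i, TopologicalSpace (X i)] [∀ i, T2Space (X i)]
    [∀ i, LocallyCompactSpace (X i)]
    (f : ∀ i, X i → B) (hf : ∀ i, Continuous (f i))
    (hcov : ∀ x : B, ∃ (t : Finset ι) (E : ∀ i, Set (X i)),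
      (∀ i ∈ t, IsCompact (E i)) ∧ (⋃ i ∈ t, f i '' E i) ∈ 𝓝 x)
    {B' : Type u} [TopologicalSpace B'] [T2Space B'] [LocallyCompactSpace B'] (g : B' → B) (hg : Continuous g) :
    ∀ x' : B', ∃ (t : Finset ι) (E : ∀ i, Set {p : B' × X i // g p.1 = f i p.2}),
      (∀ i ∈ t, IsCompact (E i)) ∧ (⋃ i ∈ t, (fun p : {p : B' × X i // g p.1 = f i p.2} => p.1.1) '' E i) ∈ 𝓝 x' := by
  intro x'
  obtain ⟨t, E, hE, hnhds⟩ := hcov (g x')
  have hpre : g ⁻¹' (⋃ i ∈ t, f i '' E i) ∈ 𝓝 x' := hg.continuousAt hnhds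
  obtain ⟨K', hK'n, hK'sub, hK'c⟩ := local_compact_nhds hpre
  refine ⟨t, fun i => Subtype.val ⁻¹' (K' ×ˢ E i), fun i hi => ?_, ?_⟩
  · have hclosed : IsClosed {p : B' × X i | g p.1 = f i p.2} :=
      isClosed_eq (hg.comp continuous_fst) ((hf i).comp continuous_snd)
    exact hclosed.isClosedEmbedding_subtypeVal.isCompact_preimage (hK'c.prod (hE i hi))
  · refine Filter.mem_of_superset hK'n ?_
    intro b' hb'
    have := hK'sub hb'
    simp only [Set.mem_preimage, Set.mem_iUnion, Set.mem_image, exists_prop] at this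
    obtain ⟨i, hi, e, he, hfe⟩ := this
    simp only [Set.mem_iUnion, Set.mem_image, exists_prop]
    exact ⟨i, hi, ⟨(b', e), hfe.symm⟩, ⟨hb', he⟩, rfl⟩

end Groth.Agent.S9039
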