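import Groth.Statements.S9040
-- import your own Groth.Agent.* helpers here

set_option autoImplicit false
universe u
open Topology
open CohTop

namespace Groth.Agent.S9040

theorem result
    {X Y : Type u} [TopologicalSpace X] [T2Space X] [LocallyCompactSpace X] [TopologicalSpace Y] [T2Space Y]
    (f : X → Y) (hf : IsProperMap f) (hsurj : Function.Surjective f) (y : Y) :
    ∃ E : Set X, IsCompact E ∧ f '' E ∈ 𝓝 y := by
  have hK : IsCompact (f ⁻¹' {y}) := hf.isCompact_preimage isCompact_singleton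
  obtain ⟨K, hKc, hKsub⟩ := exists_compact_superset hK
  refine ⟨K, hKc, ?_⟩
  have hclosed : IsClosed (f '' (interior K)ᶜ) :=
    hf.isClosedMap _ isOpen_interior.isClosed_compl
  have hopen : IsOpen (f '' (interior K)ᶜ)ᶜ := hclosed.isOpen_compl
  have hy : y ∈ (f '' (interior K)ᶜ)ᶜ := by
    rintro ⟨x, hx, hxy⟩
    exact hx (hKsub hxy)
  refine Filter.mem_of_superset (hopen.mem_nhds hy) ?_
  intro z hz
  obtain ⟨x, rfl⟩ := hsurj z
  refine ⟨x, ?_, rfl⟩
  by_contra hxK
  exact hz ⟨x, fun hx => hxK (interior_subset hx), rfl⟩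

end Groth.Agent.S9040
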