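import Groth.Statements.S9041
import Groth.Agent.Lib.Helper30.FreeTerminal
import Groth.Agent.Lib.Helper30.ModEpi

set_option autoImplicit false
universe u
open CategoryTheory CategoryTheory.Limits Opposite
open ModSite

namespace Groth.Agent.S9041

open Groth.Agent.Lib.Helper30 Groth.Agent.Lib.Helper30.FreeTerminal

/-- the sieve of arrows lying in all the sieves of a family -/
def interSieve {C : Type u} [SmallCategory C] {V : C} {ι : Type u} (S : ι → Sieve V) : Sieve V where
  arrows W g := ∀ k, S k g
  downward_closed := fun h f k => (S k).downward_closed (h k) f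

lemma interSieve_mem {C : Type u} [SmallCategory C] (J : GrothendieckTopology C) {V : C}
    {ι : Type u} [Finite ι] (S : ι → Sieve V) (h : ∀ k, S k ∈ J V) : interSieve S ∈ J V := by
  classical
  have : Fintype ι := Fintype.ofFinite ι
  have key : ∀ T : Finset ι, ∃ R ∈ J V, ∀ ⦃W : C⦄ (g : W ⟶ V), R g → ∀ k ∈ T, S k g := by
    intro T
    induction T using Finset.induction_on with
    | empty => exact ⟨⊤, J.top_mem V, fun W g _ k hk => absurd hk (Finset.notMem_empty k)⟩
    | insert a T _ ih =>
      obtain ⟨R, hR, hR'⟩ := ih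
      refine ⟨S a ⊓ R, J.intersection_covering (h a) hR, fun W g hg k hk => ?_⟩
      rcases Finset.mem_insert.mp hk with rfl | hk
      · exact hg.1
      · exact hR' g hg.2 k hk
  obtain ⟨R, hR, hR'⟩ := key Finset.univ
  exact J.superset_covering (fun W g hg k => hR' g hg k (Finset.mem_univ k)) hR



/-- On a ringed site (C, O), let E be a direct summand of a finite free O-module, p : G → F a surjection
of O-modules and φ : E → F a morphism. Then locally φ lifts through p: every object V has a covering
sieve such that over each of its arrows W → V there is a morphism E|_W → G|_W whose composite with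
p|_W is φ|_W. (The published statement is phrased for modules over the localisation (C/U, O_U) at an
object U and a covering of U; a localised ringed site is again a ringed site, and this row states
the conclusion at every object of an arbitrary ringed site.) -/
theorem result
    {C : Type u} [SmallCategory C] {J : GrothendieckTopology C} (O : Sheaf J CommRingCat.{u})
    (E F G : ModSite.Mod O) (hE : DCoh.IsFinFreeSummandMod (ModSite.ringSh O) E)
    (p : G ⟶ F) [Epi p] (φ : E ⟶ F) (V : C) :
    ∃ R ∈ J V, ∀ ⦃W : C⦄ (g : W ⟶ V), R g →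
      ∃ l : (ModSite.restr O W).obj E ⟶ (ModSite.restr O W).obj G,
        l ≫ (ModSite.restr O W).map p = (ModSite.restr O W).map φ := by
  classical
  obtain ⟨n, i, r, hir⟩ := hE
  let ψ : SheafOfModules.free (R := ModSite.ringSh O) (ULift.{u} (Fin n)) ⟶ F := r ≫ φ
  let σ : ULift.{u} (Fin n) → F.sections := F.freeHomEquiv ψ
  have hσ : ∀ (k : ULift.{u} (Fin n)) (W : C),
      (σ k).val (op W) = ψ.val.app (op W) (eF k W) := by
    intro k W
    have h := SheafOfModules.unitHomEquiv_symm_freeHomEquiv_apply ψ k
    have h2 : σ k = F.unitHomEquiv (SheafOfModules.ιFree k ≫ ψ) := by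
      rw [← h, Equiv.apply_symm_apply]
    rw [h2]
    rfl
  have hls := ModEpi.isLocallySurjective_of_epi p
  let S : ULift.{u} (Fin n) → Sieve V := fun k =>
    Presheaf.imageSieve ((PresheafOfModules.toPresheaf _).map p.val) ((σ k).val (op V))
  have hS : ∀ k, S k ∈ J V := fun k => hls.imageSieve_mem _
  refine ⟨interSieve S, interSieve_mem J S hS, ?_⟩
  intro W g hg
  choose t ht using hg
  let hT := Over.mkIdTerminal (X := W)
  let lam : SheafOfModules.free (ULift.{u} (Fin n)) ⟶ (ModSite.restr O W).obj G :=
    freeDesc hT ((ModSite.restr O W).obj G) t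
  let e : SheafOfModules.free (ULift.{u} (Fin n)) ≅
      (ModSite.restr O W).obj (SheafOfModules.free (ULift.{u} (Fin n))) :=
    SheafOfModules.mapFreeIso (ModSite.restr O W) (ULift.{u} (Fin n)) (Iso.refl _)
  refine ⟨(ModSite.restr O W).map i ≫ e.inv ≫ lam, ?_⟩
  have hφ : φ = i ≫ ψ := by
    change φ = i ≫ r ≫ φ
    rw [← Category.assoc, hir, Category.id_comp]
  rw [hφ, Functor.map_comp, Category.assoc, Category.assoc]
  congr 1
  rw [Iso.inv_comp_eq]
  apply free_hom_ext hT
  intro k
  have hL : (lam ≫ (ModSite.restr O W).map p).val.app (op (Over.mk (𝟙 W))) (eF k (Over.mk (𝟙 W))) =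
      p.val.app (op W) (t k) := by
    have h1 := freeDesc_eF hT ((ModSite.restr O W).obj G) t k
    change ((ModSite.restr O W).map p).val.app (op (Over.mk (𝟙 W)))
      (lam.val.app (op (Over.mk (𝟙 W))) (eF k (Over.mk (𝟙 W)))) = _
    rw [h1]
    rfl
  have hR1 : e.hom.val.app (op (Over.mk (𝟙 W))) (eF k (Over.mk (𝟙 W))) =
      (eF k W : (SheafOfModules.free (R := ModSite.ringSh O) (ULift.{u} (Fin n))).val.obj (op W)) := by
    have h2 := SheafOfModules.ιFree_mapFreeIso_hom (ModSite.restr O W) (ULift.{u} (Fin n))
      (Iso.refl _) k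
    have h2' : SheafOfModules.ιFree k ≫ e.hom =
        (ModSite.restr O W).map (SheafOfModules.ιFree k) := by
      refine h2.trans ?_
      exact Category.id_comp _
    have h3 := congrArg (fun v => v.val.app (op (Over.mk (𝟙 W)))
      (1 : ((ModSite.ringSh O).over W).obj.obj (op (Over.mk (𝟙 W))))) h2'
    exact h3
  have hR : (e.hom ≫ (ModSite.restr O W).map ψ).val.app (op (Over.mk (𝟙 W)))
      (eF k (Over.mk (𝟙 W))) = ψ.val.app (op W) (eF k W) := by
    change ((ModSite.restr O W).map ψ).val.app (op (Over.mk (𝟙 W)))
      (e.hom.val.app (op (Over.mk (𝟙 W))) (eF k (Over.mk (𝟙 W)))) = _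
    rw [hR1]
    rfl
  rw [hL, hR, ← hσ]
  have h4 := (σ k).property g.op
  exact (ht k).trans h4


end Groth.Agent.S9041
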