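import Groth.Statements.S9044
import Groth.Agent.Lib.Helper83.ModCech
import Groth.Agent.Lib.Helper83.CechAdj
import Groth.Agent.Lib.Helper83.WidePB
-- import your own Groth.Agent.* helpers here

set_option autoImplicit false
universe u
open CategoryTheory CategoryTheory.Limits Opposite
open ModSite

namespace Groth.Agent.S9044

/-- Suppose the functor of sites u : C → D is both continuous and cocontinuous (sites with fibre
products; u sends coverings to coverings and commutes with fibre products), g the associated
morphism of topoi (g⁻¹ is precomposition with u, and g_! on sheaves of sets is the sheaf pullback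
along u), O_D a sheaf of rings on D and I an injective O_D-module. If g_! commutes with fibre
products then the abelian sheaf g⁻¹ I is totally acyclic. Stated for a sheaf of commutative rings
O_D. -/
theorem result
    {C : Type u} [SmallCategory C] [HasPullbacks C] (J : GrothendieckTopology C)
    {D : Type u} [SmallCategory D] [HasPullbacks D] (K : GrothendieckTopology D)
    (u : C ⥤ D) (hu : CoverPreserving J K u) [PreservesLimitsOfShape WalkingCospan u]
    [u.IsContinuous J K] [u.IsCocontinuous J K]
    (hfib : PreservesLimitsOfShape WalkingCospan (u.sheafPullback (Type u) J K))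
    (O_D : Sheaf K CommRingCat.{u}) (I : ModSite.Mod O_D) (hI : Injective I) :
    CohCx.IsTotallyAcyclic ((u.sheafPushforwardContinuous AddCommGrpCat.{u} J K).obj (ModSite.toAb I)) := by
  let R := ModSite.ringSh O_D
  let gsh := u.sheafPullback (Type u) J K
  let ginvAb := u.sheafPushforwardContinuous AddCommGrpCat.{u} J K
  let ginvSet := u.sheafPushforwardContinuous (Type u) J K
  let Ψ : ModSite.Mod O_D ⥤ Sheaf J AddCommGrpCat.{u} := SheafOfModules.toSheaf R ⋙ ginvAb
  let Fr : Sheaf K (Type u) ⥤ ModSite.Mod O_D := sheafToPresheaf K (Type u) ⋙ Groth.Agent.Lib.Helper83.ModCech.L R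
  let Φ : Sheaf J (Type u) ⥤ ModSite.Mod O_D := gsh ⋙ Fr
  let adj0 : Φ ⊣ (SheafOfModules.toSheaf R ⋙ sheafCompose K (forget AddCommGrpCat.{u})) ⋙ ginvSet :=
    (u.sheafAdjunctionContinuous (Type u) J K).comp (Groth.Agent.Lib.Helper83.ModCech.adjLs R)
  let β : (SheafOfModules.toSheaf R ⋙ sheafCompose K (forget AddCommGrpCat.{u})) ⋙ ginvSet ≅
      Ψ ⋙ sheafCompose J (forget AddCommGrpCat.{u}) :=
    NatIso.ofComponents (fun M => Iso.refl _) (by
      intro M N φ
      exact (Category.comp_id _).trans (Category.id_comp _).symm)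
  let adj : Φ ⊣ Ψ ⋙ sheafCompose J (forget AddCommGrpCat.{u}) := adj0.ofNatIsoRight β
  have := hI
  have hΨ : Ψ.Additive := inferInstance
  refine Groth.Agent.Lib.Helper83.CechAdj.isTotallyAcyclic Ψ Φ adj ?_ I
  intro K' K'' f hf n
  have hpres : ∀ n : ℕ, PreservesLimitsOfShape (WidePullbackShape (Fin (n + 1))) gsh :=
    fun n => Groth.Agent.Lib.Helper83.WidePB.preservesLimitsOfShape_widePullbackShape_fin gsh (n + 1)
  have : gsh.IsLeftAdjoint := (u.sheafAdjunctionContinuous (Type u) J K).isLeftAdjoint
  have hepi : Epi (gsh.map f) := inferInstance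
  let e : (Arrow.mk f).cechNerve ⋙ gsh ≅ (Arrow.mk (gsh.map f)).cechNerve :=
    Groth.Agent.Lib.Helper30.CechMap.cechIso gsh (Arrow.mk f)
  let eX : Groth.Agent.Lib.Helper83.CechAdj.XO Φ f ≅ (Arrow.mk (gsh.map f)).cechNerve ⋙ Fr := Functor.isoWhiskerRight e Fr
  let eP := (AlgebraicTopology.alternatingFaceMapComplex _).mapIso eX
  have h0 := Groth.Agent.Lib.Helper83.ModCech.exact_XO R (gsh.map f) n
  exact (ShortComplex.exact_iff_of_iso
    ((HomologicalComplex.shortComplexFunctor' _ _ (n + 2) (n + 1) n).mapIso eP)).2 h0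
end Groth.Agent.S9044
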