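import Groth.Statements.S9053
import Groth.Agent.S9046

set_option autoImplicit false
universe u
open CategoryTheory CategoryTheory.Limits Opposite
open ModSite

namespace Groth.Agent.S9053

/-- On a ringed site (C, O), let E be a strictly perfect complex of O-modules, F a complex of O-modules
and α : E → F a morphism in D(O). Then locally α is represented by a morphism of complexes: every
object V has a covering sieve such that over each of its arrows W → V the restriction α|_W in
D(O_W), namely the image of α under the derived functor of the exact restriction functor, equals the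
class of a morphism of complexes E|_W → F|_W (up to the canonical identifications of the derived
restriction of a complex with the restricted complex). Only this first part is stated; the second
part of the published lemma carries no proof in the text. The derived categories, additivity and
right exactness of restriction are instance hypotheses (always satisfied). (The published statement
is phrased over the localisation (C/U, O_U) at an object U with a covering of U; this row states it
at every object of an arbitrary ringed site, which covers that case.) -/
theorem result
    {C : Type u} [SmallCategory C] {J : GrothendieckTopology C} (O : Sheaf J CommRingCat.{u})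
    [HasDerivedCategory.{u} (ModSite.Mod O)] [∀ W : C, HasDerivedCategory.{u} (ModSite.Mod (O.over W))]
    [∀ W : C, (ModSite.restr O W).Additive] [∀ W : C, PreservesFiniteColimits (ModSite.restr O W)]
    (E F : CochainComplex (ModSite.Mod O) ℤ) (hE : DCoh.IsStrictlyPerfectMod (ModSite.ringSh O) E)
    (α : DerivedCategory.Q.obj E ⟶ DerivedCategory.Q.obj F) (V : C) :
    ∃ R ∈ J V, ∀ ⦃W : C⦄ (g : W ⟶ V), R g →
      ∃ α' : ((ModSite.restr O W).mapHomologicalComplex (ComplexShape.up ℤ)).obj E ⟶
          ((ModSite.restr O W).mapHomologicalComplex (ComplexShape.up ℤ)).obj F,
        (ModSite.restr O W).mapDerivedCategory.map α =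
          (ModSite.restr O W).mapDerivedCategoryFactors.hom.app E ≫ DerivedCategory.Q.map α' ≫
            (ModSite.restr O W).mapDerivedCategoryFactors.inv.app F := by
  obtain ⟨F', φ, s, hs, rfl⟩ := DerivedCategory.left_fac α
  have hqi : QuasiIso s := (DerivedCategory.isIso_Q_map_iff_quasiIso _ s).mp hs
  obtain ⟨a, b, hab⟩ := hE.1
  have hj : ∀ j, IsIso (HomologicalComplex.homologyMap s j) := fun j =>
    (quasiIsoAt_iff_isIso_homologyMap s j).mp (hqi.quasiIsoAt j)
  obtain ⟨R, hR, H⟩ := Groth.Agent.S9046.result O E F' F φ s hE a
    (fun j hj => hab j (Or.inl hj)) (fun j _ => hj j) (have := hj a; inferInstance) V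
  refine ⟨R, hR, fun W g hg => ?_⟩
  obtain ⟨β, ⟨hβ⟩⟩ := H g hg
  refine ⟨β, ?_⟩
  have h1 : DerivedCategory.Q.map β ≫ DerivedCategory.Q.map
      (((ModSite.restr O W).mapHomologicalComplex (ComplexShape.up ℤ)).map s) =
      DerivedCategory.Q.map (((ModSite.restr O W).mapHomologicalComplex (ComplexShape.up ℤ)).map φ) := by
    rw [← Functor.map_comp]
    exact DerivedCategory.Q_map_eq_of_homotopy _ hβ
  have hiso : IsIso ((ModSite.restr O W).mapDerivedCategory.map (DerivedCategory.Q.map s)) :=
    inferInstance
  rw [← cancel_mono ((ModSite.restr O W).mapDerivedCategory.map (DerivedCategory.Q.map s))]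
  rw [← Functor.map_comp, Category.assoc, IsIso.inv_hom_id]
  erw [Category.comp_id]
  have n1 := (ModSite.restr O W).mapDerivedCategoryFactors.inv.naturality s
  have n2 := (ModSite.restr O W).mapDerivedCategoryFactors_hom_naturality φ
  simp only [Functor.comp_map] at n1
  rw [Category.assoc, Category.assoc, ← n1, ← Category.assoc (DerivedCategory.Q.map β), h1,
    ← reassoc_of% n2, Iso.hom_inv_id_app]
  exact (Category.comp_id _).symm

end Groth.Agent.S9053
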