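import Groth.Statements.S9054
import Groth.Agent.Lib.Helper5.TotMapFunctor
import Groth.Agent.Lib.Helper30.ExtZeroFlat
import Groth.Prelude.Def_DerComp

set_option autoImplicit false
universe u
open CategoryTheory CategoryTheory.Limits Opposite
attribute [local instance] HasDerivedCategory.standard
open ModSite


namespace Groth.Agent.S9054
open Groth.Agent.Lib.Helper5.TotMapFunctor Groth.Agent.Lib.Helper30.ExtZero

section General

variable {A B : Type*} [Category A] [Category B] [Abelian A] [Abelian B]
  {ι : Type*} {c : ComplexShape ι}

/-- an exact functor preserves exactness of a complex in a given degree. -/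
lemma exactAt_map (F : A ⥤ B) [F.Additive] [PreservesFiniteLimits F] [PreservesFiniteColimits F]
    (K : HomologicalComplex A c) (i : ι) (h : K.ExactAt i) :
    ((F.mapHomologicalComplex c).obj K).ExactAt i := by
  rw [HomologicalComplex.exactAt_iff] at h ⊢
  exact h.map F

/-- a faithful exact functor reflects exactness of a complex in a given degree. -/
lemma exactAt_of_map (F : A ⥤ B) [F.Additive] [PreservesFiniteLimits F]
    [PreservesFiniteColimits F] [F.Faithful]
    (K : HomologicalComplex A c) (i : ι) (h : ((F.mapHomologicalComplex c).obj K).ExactAt i) :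
    K.ExactAt i := by
  rw [HomologicalComplex.exactAt_iff] at h ⊢
  exact (ShortComplex.exact_map_iff_of_faithful _ F).1 h

end General

end Groth.Agent.S9054

namespace Groth.Agent.S9054

/-- On a ringed site (C, O), if U is an object of C and K is a K-flat complex of O-modules, then the
restriction K|_U to the localised ringed site (C/U, O_U) is a K-flat complex of O_U-modules. -/
theorem result
    {C : Type u} [SmallCategory C] {J : GrothendieckTopology C} (O : Sheaf J CommRingCat.{u})
    (U : C) (K : CochainComplex (ModSite.Mod O) ℤ) (hK : ModSite.IsKFlat K) :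
    ModSite.IsKFlat (((ModSite.restr O U).mapHomologicalComplex (ComplexShape.up ℤ)).obj K) := by
  intro L hL n
  have : PreservesFiniteLimits (ModSite.extZero O U) :=
    Groth.Agent.Lib.Helper30.ExtZero.jS_preservesFiniteLimits O U
  have : (ModSite.extZero O U).Faithful := Groth.Agent.Lib.Helper30.ExtZero.jS_faithful O U
  -- `j_! L` is acyclic
  have hjL : ∀ i : ℤ, IsZero ((((ModSite.extZero O U).mapHomologicalComplex
      (ComplexShape.up ℤ)).obj L).homology i) := fun i => by
    rw [← HomologicalComplex.exactAt_iff_isZero_homology]
    exact exactAt_map _ L i ((HomologicalComplex.exactAt_iff_isZero_homology _ _).2 (hL i))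
  have hT' := hK _ hjL n
  rw [← HomologicalComplex.exactAt_iff_isZero_homology] at hT' ⊢
  -- the projection formula
  let e : ∀ (P : ModSite.Mod (O.over U)) (N : ModSite.Mod O),
      (ModSite.extZero O U).obj (((ModSite.tensorBi (O.over U)).obj P).obj
        ((ModSite.restr O U).obj N)) ≅
      ((ModSite.tensorBi O).obj ((ModSite.extZero O U).obj P)).obj N :=
    fun P N => (Groth.Agent.Lib.Helper30.ExtZero.projIsoP O U N).app P
  have he₁ : ∀ {P P' : ModSite.Mod (O.over U)} (p : P ⟶ P') (N : ModSite.Mod O),
      (ModSite.extZero O U).map (((ModSite.tensorBi (O.over U)).map p).app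
        ((ModSite.restr O U).obj N)) ≫ (e P' N).hom =
      (e P N).hom ≫ ((ModSite.tensorBi O).map ((ModSite.extZero O U).map p)).app N :=
    fun p N => (Groth.Agent.Lib.Helper30.ExtZero.projIsoP O U N).hom.naturality p
  have he₂ : ∀ (P : ModSite.Mod (O.over U)) {N N' : ModSite.Mod O} (n : N ⟶ N'),
      (ModSite.extZero O U).map (((ModSite.tensorBi (O.over U)).obj P).map
        ((ModSite.restr O U).map n)) ≫ (e P N').hom =
      (e P N).hom ≫ ((ModSite.tensorBi O).obj ((ModSite.extZero O U).obj P)).map n :=
    fun P _ _ n => (Groth.Agent.Lib.Helper30.ExtZero.projIsoN O U P).hom.naturality n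
  let iso := Groth.Agent.Lib.Helper5.TotMapFunctor.mapTotIso (ModSite.tensorBi (O.over U))
    (ModSite.tensorBi O) (ModSite.extZero O U) (ModSite.restr O U) (ModSite.extZero O U) e he₁ he₂
    (ComplexShape.up ℤ) L K
  apply exactAt_of_map (ModSite.extZero O U)
  exact hT'.of_iso iso.symm

end Groth.Agent.S9054
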