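import Groth.Statements.S9063
import Groth.Agent.Lib.Helper36.TorsionSh
import Groth.Agent.Lib.Helper36.TorsionDerived

set_option autoImplicit false
universe u
open CategoryTheory CategoryTheory.Limits Opposite
attribute [local instance] HasDerivedCategory.standard
open SiteCmp

namespace Groth.Agent.S9063

/-- Let C be a site and A ⊂ Ab(C) the Serre subcategory of torsion abelian sheaves. Then the functor
from D(A) to D_A(C) gives an equivalence: the canonical functor D(A) → D(Ab(C)) induced by the exact
inclusion is fully faithful, and a complex lies in its essential image exactly when every cohomology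
sheaf of it is torsion. That torsion abelian sheaves form a Serre subcategory is carried as an
instance hypothesis. -/
theorem result
    {C : Type u} [SmallCategory C] (J : GrothendieckTopology C)
    [(SiteCmp.torsionSh J).IsSerreClass] :
    (WSerre.toDerived (SiteCmp.torsionSh J)).Full ∧ (WSerre.toDerived (SiteCmp.torsionSh J)).Faithful ∧
      ∀ K : DerivedCategory (Sheaf J AddCommGrpCat.{u}),
        WSerre.cohIn (SiteCmp.torsionSh J) K ↔ (WSerre.toDerived (SiteCmp.torsionSh J)).essImage K := by
  exact Groth.Agent.Lib.Helper36.TorsionDerived.main (SiteCmp.torsionSh J)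
    (Groth.Agent.Lib.Helper36.TorsionSh.adjT J)
    (fun K n hn h => Groth.Agent.Lib.Helper36.TorsionSh.isTorsionSh_of_nsmul_eq_zero K n hn h)
    (fun H hH hm => Groth.Agent.Lib.Helper36.TorsionSh.isZero_of_torsion_of_mono H hH hm)
    (fun I hI n hn => Groth.Agent.Lib.Helper36.TorsionSh.epi_nsmul_of_injective I n hn)

end Groth.Agent.S9063
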