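import Groth.Statements.S9070
import Groth.Agent.Lib.Helper74.ModTrunc.ModRlim
import Groth.Agent.Lib.Helper74.ModTrunc.RlimFunctor
import Groth.Agent.Lib.Helper6.ExactDC
import Groth.Agent.Lib.Helper32.DProd
import Groth.Agent.S9069
import Groth.Agent.S9064

set_option autoImplicit false
universe u
open CategoryTheory CategoryTheory.Limits Opposite
attribute [local instance] HasDerivedCategory.standard
open SiteCmp

namespace Groth.Agent.S9070.Aux

open DerivedCategory DerivedCategory.TStructure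
open Groth.Agent.Lib.Helper74.ModTrunc Groth.Agent.Lib.Helper83.TruncTower

variable {C : Type u} [SmallCategory C] {J : GrothendieckTopology C}
  {O_C : Sheaf J CommRingCat.{u}}
  {D : Type u} [SmallCategory D] {K : GrothendieckTopology D} {O_D : Sheaf K CommRingCat.{u}}

/-- countable products exist in `D(Mod O)` -/
lemma hasProduct_nat (O : Sheaf J CommRingCat.{u}) (X : ℕ → DerivedCategory (ModSite.Mod O)) :
    HasProduct X := by
  apply Groth.Agent.Lib.Helper32.DProd.hasProduct_of_kInjective_reps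
  intro n
  obtain ⟨L, hL, ⟨e⟩⟩ := Groth.Agent.Lib.Helper74.ModTrunc.exists_kInjective (X n)
  exact ⟨L, hL, ⟨e.symm⟩⟩

/-- a functor which is fully faithful on a class of objects reflects isomorphisms between them -/
lemma isIso_of_isIso_map {𝒜 ℬ : Type*} [Category 𝒜] [Category ℬ] (G : 𝒜 ⥤ ℬ)
    (P : ObjectProperty 𝒜)
    (h : ∀ F' G' : 𝒜, P F' → P G' → Function.Bijective (fun φ : F' ⟶ G' => G.map φ))
    {F' G' : 𝒜} (hF : P F') (hG : P G') (φ : F' ⟶ G') (hφ : IsIso (G.map φ)) : IsIso φ := by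
  obtain ⟨ψ, hψ⟩ := (h G' F' hG hF).2 (inv (G.map φ))
  have hψ' : G.map ψ = inv (G.map φ) := hψ
  refine ⟨ψ, ?_, ?_⟩
  · apply (h F' F' hF hF).1
    show G.map (φ ≫ ψ) = G.map (𝟙 F')
    rw [Functor.map_comp, hψ', IsIso.hom_inv_id, CategoryTheory.Functor.map_id]
  · apply (h G' G' hG hG).1
    show G.map (ψ ≫ φ) = G.map (𝟙 G')
    rw [Functor.map_comp, hψ', IsIso.inv_hom_id, CategoryTheory.Functor.map_id]

lemma cohInPlus_truncTower {O : Sheaf J CommRingCat.{u}} (A : ObjectProperty (ModSite.Mod O))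
    [WSerre.IsWeakSerre A] (X : DerivedCategory (ModSite.Mod O)) (hX : WSerre.cohIn A X) (n : ℕ) :
    WSerre.cohInPlus A (CohCx.truncTower X n) := by
  refine ⟨fun i => ?_, ⟨-(n : ℤ), inferInstanceAs (t.IsGE ((t.truncGE (-(n : ℤ))).obj X) _)⟩⟩
  by_cases hi : -(n : ℤ) ≤ i
  · have := Groth.Agent.Lib.Helper58.isIso_homology_truncGEπ X (-(n : ℤ)) i hi
    exact A.prop_of_iso
      (asIso ((homologyFunctor _ i).map ((t.truncGEπ (-(n : ℤ))).app X))) (hX i)
  · exact A.prop_of_isZero
      (((t.truncGE (-(n : ℤ))).obj X).isZero_of_isGE (-(n : ℤ)) i (by omega))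

lemma isIso_homology_truncTowerMap {O : Sheaf J CommRingCat.{u}}
    (X : DerivedCategory (ModSite.Mod O)) (n : ℕ) (j : ℤ) (hj : -(n : ℤ) ≤ j) :
    IsIso ((homologyFunctor (ModSite.Mod O) j).map (CohCx.truncTowerMap X n)) := by
  have h1 : IsIso ((homologyFunctor (ModSite.Mod O) j).map (CohCx.toTruncTower X (n + 1))) :=
    isIso_homology_toTruncTower X (n + 1) j (by push_cast; omega)
  have h2 : IsIso ((homologyFunctor (ModSite.Mod O) j).map (CohCx.toTruncTower X n)) :=
    isIso_homology_toTruncTower X n j hj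
  have h3 : (homologyFunctor (ModSite.Mod O) j).map (CohCx.toTruncTower X (n + 1)) ≫
      (homologyFunctor (ModSite.Mod O) j).map (CohCx.truncTowerMap X n) =
      (homologyFunctor (ModSite.Mod O) j).map (CohCx.toTruncTower X n) := by
    rw [← Functor.map_comp, toTruncTower_comp]
  exact IsIso.of_isIso_fac_left h3

section

variable (f : ModSite.RMor O_C O_D) [PreservesFiniteLimits f.pull] [SiteCmp.HasRpushD f]
    (adj : SiteCmp.pullD f ⊣ SiteCmp.RpushD f)
    (A : ObjectProperty (ModSite.Mod O_C)) [WSerre.IsWeakSerre A]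
    (A' : ObjectProperty (ModSite.Mod O_D)) [WSerre.IsWeakSerre A']
    (h2a : ∀ F' : ModSite.Mod O_D, A' F' → A (f.pull.obj F'))
    (h2b : ∀ F' G' : ModSite.Mod O_D, A' F' → A' G' →
      Function.Bijective (fun φ : F' ⟶ G' => f.pull.map φ))
    (h2c : ∀ F : ModSite.Mod O_C, A F → ∃ F' : ModSite.Mod O_D, A' F' ∧ Nonempty (f.pull.obj F' ≅ F))
    (h3 : ∀ F' : ModSite.Mod O_D, A' F' → IsIso (adj.unit.app (SiteCmp.inD O_D F')))
    (B : Set C) (B' : Set D)
    (hB : ∀ U : C, ∃ (ι : Type u) (Y : ι → C) (g : ∀ i, Y i ⟶ U), Sieve.ofArrows Y g ∈ J U ∧ ∀ i, Y i ∈ B)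
    (hA : ∀ V ∈ B, ∃ d : ℕ, ∀ T ∈ J V, ∃ (ι : Type u) (Y : ι → C) (g : ∀ i, Y i ⟶ V),
      (∀ i, T.arrows (g i)) ∧ Sieve.ofArrows Y g ∈ J V ∧
      ∀ (i : ι) (F : ModSite.Mod O_C), A F → ∀ k : ℕ, d < k → Subsingleton (ModSite.HU O_C F k (Y i)))
    (hB' : ∀ U : D, ∃ (ι : Type u) (Y : ι → D) (g : ∀ i, Y i ⟶ U), Sieve.ofArrows Y g ∈ K U ∧ ∀ i, Y i ∈ B')
    (hA' : ∀ V ∈ B', ∃ d : ℕ, ∀ T ∈ K V, ∃ (ι : Type u) (Y : ι → D) (g : ∀ i, Y i ⟶ V),
      (∀ i, T.arrows (g i)) ∧ Sieve.ofArrows Y g ∈ K V ∧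
      ∀ (i : ι) (F : ModSite.Mod O_D), A' F → ∀ k : ℕ, d < k → Subsingleton (ModSite.HU O_D F k (Y i)))

lemma isIso_homology_pullD_iff {Y Y' : DerivedCategory (ModSite.Mod O_D)} (φ : Y ⟶ Y') (j : ℤ) :
    IsIso ((homologyFunctor (ModSite.Mod O_C) j).map ((SiteCmp.pullD f).map φ)) ↔
      IsIso (f.pull.map ((homologyFunctor (ModSite.Mod O_D) j).map φ)) :=
  NatIso.isIso_map_iff (Groth.Agent.Lib.Helper6.ExactDC.homologyIso f.pull j) φ

include h2a h2b h2c h3 hB hA hB' hA' in
theorem part2 (X : DerivedCategory (ModSite.Mod O_C)) (hX : WSerre.cohIn A X) :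
    WSerre.cohIn A' ((SiteCmp.RpushD f).obj X) ∧ IsIso (adj.counit.app X) := by
  letI : (SiteCmp.RpushD f).CommShift ℤ := adj.rightAdjointCommShift ℤ
  haveI : adj.CommShift ℤ := adj.commShift_of_leftAdjoint ℤ
  haveI : (SiteCmp.RpushD f).IsTriangulated := adj.isTriangulated_rightAdjoint
  have h69 := Groth.Agent.S9069.result f adj A A' h2a h2b h2c h3
  haveI : HasProduct (CohCx.truncTower X) := hasProduct_nat O_C _
  haveI : HasProduct (fun n => (SiteCmp.RpushD f).obj (CohCx.truncTower X n)) :=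
    hasProduct_nat O_D _
  haveI : PreservesLimit (Discrete.functor (CohCx.truncTower X)) (SiteCmp.RpushD f) := by
    have := adj.rightAdjoint_preservesLimits
    infer_instance
  have hXlim : CohCx.IsRlimVia (CohCx.truncTower X) (CohCx.truncTowerMap X) X
      (CohCx.toTruncTower X) := by
    apply isRlimVia_truncTower_modSite X B hB
    intro V hV m
    obtain ⟨d, hd⟩ := hA V hV
    refine ⟨(max ((d : ℤ) - m) (-m)).toNat, by omega, ?_⟩
    intro T hT
    obtain ⟨ι, Y, g, hgT, hcov, hvan⟩ := hd T hT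
    refine ⟨ι, Y, g, hgT, hcov, fun i n hn k hk => ?_⟩
    exact hvan i _ (hX (m - k)) k (by omega)
  have hRlim := RlimFunctor.isRlimVia_map (SiteCmp.RpushD f) (CohCx.truncTower X)
    (CohCx.truncTowerMap X) X (CohCx.toTruncTower X) hXlim
  have hXn : ∀ n, WSerre.cohInPlus A (CohCx.truncTower X n) := cohInPlus_truncTower A X hX
  have hRXn : ∀ n, WSerre.cohInPlus A' ((SiteCmp.RpushD f).obj (CohCx.truncTower X n)) :=
    fun n => (h69.2 _ (hXn n)).1
  have hεn : ∀ n, IsIso (adj.counit.app (CohCx.truncTower X n)) := fun n => (h69.2 _ (hXn n)).2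
  have hconst : ∀ j : ℤ, ∃ n₀ : ℕ, ∀ n, n₀ ≤ n →
      IsIso ((homologyFunctor (ModSite.Mod O_D) j).map
        ((SiteCmp.RpushD f).map (CohCx.truncTowerMap X n))) := by
    intro j
    refine ⟨(-j).toNat, fun n hn => ?_⟩
    have hj : -(n : ℤ) ≤ j := by omega
    have i1 := isIso_homology_truncTowerMap X n j hj
    have nat : (SiteCmp.pullD f).map ((SiteCmp.RpushD f).map (CohCx.truncTowerMap X n)) ≫
        adj.counit.app (CohCx.truncTower X n) =
        adj.counit.app (CohCx.truncTower X (n + 1)) ≫ CohCx.truncTowerMap X n :=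
      adj.counit.naturality (CohCx.truncTowerMap X n)
    have := hεn n
    have := hεn (n + 1)
    have i2 : IsIso ((homologyFunctor (ModSite.Mod O_C) j).map
        ((SiteCmp.pullD f).map ((SiteCmp.RpushD f).map (CohCx.truncTowerMap X n)))) := by
      have e := congrArg (fun φ => (homologyFunctor (ModSite.Mod O_C) j).map φ) nat
      simp only [Functor.map_comp] at e
      have e' : (homologyFunctor (ModSite.Mod O_C) j).map
          ((SiteCmp.pullD f).map ((SiteCmp.RpushD f).map (CohCx.truncTowerMap X n))) =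
          ((homologyFunctor (ModSite.Mod O_C) j).map (adj.counit.app (CohCx.truncTower X (n + 1))) ≫
            (homologyFunctor (ModSite.Mod O_C) j).map (CohCx.truncTowerMap X n)) ≫
          inv ((homologyFunctor (ModSite.Mod O_C) j).map (adj.counit.app (CohCx.truncTower X n))) := by
        rw [← e, Category.assoc, IsIso.hom_inv_id, Category.comp_id]
      rw [e']
      infer_instance
    exact isIso_of_isIso_map f.pull A' h2b ((hRXn (n + 1)).1 j) ((hRXn n).1 j) _
      ((isIso_homology_pullD_iff f _ j).1 i2)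
  have h64 : ∀ j : ℤ, ∃ n₀ : ℕ, ∀ n, n₀ ≤ n →
      IsIso ((homologyFunctor (ModSite.Mod O_D) j).map
        ((SiteCmp.RpushD f).map (CohCx.toTruncTower X n))) := fun j =>
    Groth.Agent.S9064.result O_D A' B' hB' hA'
      (fun n => (SiteCmp.RpushD f).obj (CohCx.truncTower X n))
      (fun n => (SiteCmp.RpushD f).map (CohCx.truncTowerMap X n)) hRXn hconst
      ((SiteCmp.RpushD f).obj X) (fun n => (SiteCmp.RpushD f).map (CohCx.toTruncTower X n)) hRlim j
  constructor
  · intro j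
    obtain ⟨n₀, hn₀⟩ := h64 j
    have := hn₀ n₀ le_rfl
    exact A'.prop_of_iso (asIso ((homologyFunctor (ModSite.Mod O_D) j).map
      ((SiteCmp.RpushD f).map (CohCx.toTruncTower X n₀)))).symm ((hRXn n₀).1 j)
  · rw [DerivedCategory.isIso_iff]
    intro j
    obtain ⟨n₀, hn₀⟩ := h64 j
    obtain ⟨n, hn1, hn2⟩ : ∃ n : ℕ, n₀ ≤ n ∧ -(n : ℤ) ≤ j :=
      ⟨max n₀ (-j).toNat, le_max_left _ _, by
        have := le_max_right n₀ (-j).toNat
        omega⟩
    have a1 := hn₀ n hn1
    have a2 : IsIso ((homologyFunctor (ModSite.Mod O_C) j).map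
        ((SiteCmp.pullD f).map ((SiteCmp.RpushD f).map (CohCx.toTruncTower X n)))) :=
      (isIso_homology_pullD_iff f _ j).2 inferInstance
    have a3 : IsIso ((homologyFunctor (ModSite.Mod O_C) j).map (CohCx.toTruncTower X n)) :=
      isIso_homology_toTruncTower X n j hn2
    have := hεn n
    have nat : (SiteCmp.pullD f).map ((SiteCmp.RpushD f).map (CohCx.toTruncTower X n)) ≫
        adj.counit.app (CohCx.truncTower X n) =
        adj.counit.app X ≫ CohCx.toTruncTower X n :=
      adj.counit.naturality (CohCx.toTruncTower X n)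
    have e := congrArg (fun φ => (homologyFunctor (ModSite.Mod O_C) j).map φ) nat
    simp only [Functor.map_comp] at e
    have e' : (homologyFunctor (ModSite.Mod O_C) j).map (adj.counit.app X) =
        ((homologyFunctor (ModSite.Mod O_C) j).map
          ((SiteCmp.pullD f).map ((SiteCmp.RpushD f).map (CohCx.toTruncTower X n))) ≫
          (homologyFunctor (ModSite.Mod O_C) j).map (adj.counit.app (CohCx.truncTower X n))) ≫
        inv ((homologyFunctor (ModSite.Mod O_C) j).map (CohCx.toTruncTower X n)) := by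
      rw [e, Category.assoc, IsIso.hom_inv_id, Category.comp_id]
    rw [e']
    infer_instance

include h2a h2b h2c h3 hB hA hB' hA' in
theorem part1 (Y : DerivedCategory (ModSite.Mod O_D)) (hY : WSerre.cohIn A' Y) :
    WSerre.cohIn A ((SiteCmp.pullD f).obj Y) ∧ IsIso (adj.unit.app Y) := by
  have hFY : WSerre.cohIn A ((SiteCmp.pullD f).obj Y) := fun i =>
    A.prop_of_iso ((Groth.Agent.Lib.Helper6.ExactDC.homologyIso f.pull i).app Y).symm
      (h2a _ (hY i))
  obtain ⟨hRFY, hε⟩ := part2 f adj A A' h2a h2b h2c h3 B B' hB hA hB' hA' _ hFY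
  refine ⟨hFY, ?_⟩
  have tri : (SiteCmp.pullD f).map (adj.unit.app Y) ≫ adj.counit.app ((SiteCmp.pullD f).obj Y) =
      𝟙 _ := adj.left_triangle_components Y
  have hFη : IsIso ((SiteCmp.pullD f).map (adj.unit.app Y)) := by
    have e : (SiteCmp.pullD f).map (adj.unit.app Y) =
        inv (adj.counit.app ((SiteCmp.pullD f).obj Y)) := by
      rw [← cancel_mono (adj.counit.app ((SiteCmp.pullD f).obj Y)), tri, IsIso.inv_hom_id]
    rw [e]
    infer_instance
  rw [DerivedCategory.isIso_iff]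
  intro j
  exact isIso_of_isIso_map f.pull A' h2b (hY j) (hRFY j) _
    ((isIso_homology_pullD_iff f _ j).1 inferInstance)

end

end Groth.Agent.S9070.Aux

namespace Groth.Agent.S9070

/-- Let f be a flat morphism from the ringed site (C, O_C) to the ringed site (D, O_D) and A ⊂ Mod(O_C),
A' ⊂ Mod(O_D) weak Serre subcategories such that (2) f^* restricts to an equivalence from A' onto A,
(3) the unit F' → Rf_*f^*F' is invertible for each F' ∈ A', and (4), (5) each of C, O_C, A and D,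
O_D, A' admits a set of objects covering everything, every member V having an integer d_V and a
cofinal system of coverings {V_i → V} with H^p(V_i, F) = 0 for F in the subcategory and p > d_V.
Then f^* : D_{A'}(O_D) → D_A(O_C) is an equivalence with quasi-inverse Rf_*: on objects with
cohomology sheaves in A' (resp. A) the functor f^* (resp. Rf_*) lands in objects with cohomology
sheaves in A (resp. A') and the unit (resp. counit) is an isomorphism there. The adjunction f^* ⊣
Rf_* on unbounded derived categories is a hypothesis; f^* is exact, so it is its own derived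
functor. Stated for ringed sites; the published statement is for ringed topoi. -/
theorem result
    {C : Type u} [SmallCategory C] {J : GrothendieckTopology C} {O_C : Sheaf J CommRingCat.{u}}
    {D : Type u} [SmallCategory D] {K : GrothendieckTopology D} {O_D : Sheaf K CommRingCat.{u}}
    (f : ModSite.RMor O_C O_D) [PreservesFiniteLimits f.pull] [SiteCmp.HasRpushD f]
    (adj : SiteCmp.pullD f ⊣ SiteCmp.RpushD f)
    (A : ObjectProperty (ModSite.Mod O_C)) [WSerre.IsWeakSerre A]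
    (A' : ObjectProperty (ModSite.Mod O_D)) [WSerre.IsWeakSerre A']
    (h2a : ∀ F' : ModSite.Mod O_D, A' F' → A (f.pull.obj F'))
    (h2b : ∀ F' G' : ModSite.Mod O_D, A' F' → A' G' →
      Function.Bijective (fun φ : F' ⟶ G' => f.pull.map φ))
    (h2c : ∀ F : ModSite.Mod O_C, A F → ∃ F' : ModSite.Mod O_D, A' F' ∧ Nonempty (f.pull.obj F' ≅ F))
    (h3 : ∀ F' : ModSite.Mod O_D, A' F' → IsIso (adj.unit.app (SiteCmp.inD O_D F')))
    (B : Set C) (B' : Set D)
    (hB : ∀ U : C, ∃ (ι : Type u) (Y : ι → C) (g : ∀ i, Y i ⟶ U), Sieve.ofArrows Y g ∈ J U ∧ ∀ i, Y i ∈ B)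
    (hA : ∀ V ∈ B, ∃ d : ℕ, ∀ T ∈ J V, ∃ (ι : Type u) (Y : ι → C) (g : ∀ i, Y i ⟶ V),
      (∀ i, T.arrows (g i)) ∧ Sieve.ofArrows Y g ∈ J V ∧
      ∀ (i : ι) (F : ModSite.Mod O_C), A F → ∀ k : ℕ, d < k → Subsingleton (ModSite.HU O_C F k (Y i)))
    (hB' : ∀ U : D, ∃ (ι : Type u) (Y : ι → D) (g : ∀ i, Y i ⟶ U), Sieve.ofArrows Y g ∈ K U ∧ ∀ i, Y i ∈ B')
    (hA' : ∀ V ∈ B', ∃ d : ℕ, ∀ T ∈ K V, ∃ (ι : Type u) (Y : ι → D) (g : ∀ i, Y i ⟶ V),
      (∀ i, T.arrows (g i)) ∧ Sieve.ofArrows Y g ∈ K V ∧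
      ∀ (i : ι) (F : ModSite.Mod O_D), A' F → ∀ k : ℕ, d < k → Subsingleton (ModSite.HU O_D F k (Y i))) :
    (∀ Y : DerivedCategory (ModSite.Mod O_D), WSerre.cohIn A' Y →
      WSerre.cohIn A ((SiteCmp.pullD f).obj Y) ∧ IsIso (adj.unit.app Y)) ∧
    (∀ X : DerivedCategory (ModSite.Mod O_C), WSerre.cohIn A X →
      WSerre.cohIn A' ((SiteCmp.RpushD f).obj X) ∧ IsIso (adj.counit.app X)) := by
  exact ⟨fun Y hY => Aux.part1 f adj A A' h2a h2b h2c h3 B B' hB hA hB' hA' Y hY,
    fun X hX => Aux.part2 f adj A A' h2a h2b h2c h3 B B' hB hA hB' hA' X hX⟩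

end Groth.Agent.S9070
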