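import Groth.Statements.S9071
import Groth.Agent.S9080
import Groth.Agent.Lib.Helper20.EpsFF
import Groth.Agent.Lib.Helper20.UnitInD

set_option autoImplicit false
universe u
open CategoryTheory CategoryTheory.Limits Opposite
attribute [local instance] HasDerivedCategory.standard
open SiteCmp

namespace Groth.Agent.S9071

/-- Let τ' be a coarser topology than τ on a category C, O a τ-sheaf of rings and ε the comparison
morphism from (C_τ, O) to (C_τ', O). Let B be a set of objects and A a full subcategory of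
presheaves of O-modules such that (1) every object of A is a τ-sheaf, (2) A forms a weak Serre
subcategory inside Mod(O_τ), (3) each object of C admits a τ'-covering by members of B, and (4)
H^p_τ(U, F) = 0 for U ∈ B, F ∈ A, p > 0. Then the essential image of A under ε_* forms a weak Serre
subcategory inside Mod(O_τ') and ε^*, Rε_* are quasi-inverse equivalences between D_A(O_τ') and
D_A(O_τ): on objects with cohomology sheaves in the respective subcategory, ε^* and Rε_* preserve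
that condition and the unit and counit are isomorphisms. In the order of topologies used here the
finer topology τ is the larger one, J, and τ' is J' ≤ J; A is given as a property of τ-sheaves of
modules (condition (1) built in); flatness of ε, existence of the unbounded Rε_* and an adjunction
ε^* ⊣ Rε_* are hypotheses. -/
theorem result
    {C : Type u} [SmallCategory C] {J J' : GrothendieckTopology C} (h : J' ≤ J) (O : Sheaf J CommRingCat.{u})
    [PreservesFiniteLimits (SiteCmp.eps h O).pull] [SiteCmp.HasRpushD (SiteCmp.eps h O)]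
    (adj : SiteCmp.pullD (SiteCmp.eps h O) ⊣ SiteCmp.RpushD (SiteCmp.eps h O))
    (A : ObjectProperty (ModSite.Mod O)) [WSerre.IsWeakSerre A] (B : Set C)
    (h3 : ∀ U : C, ∃ (ι : Type u) (Y : ι → C) (g : ∀ i, Y i ⟶ U), Sieve.ofArrows Y g ∈ J' U ∧ ∀ i, Y i ∈ B)
    (h4 : ∀ U ∈ B, ∀ F : ModSite.Mod O, A F → ∀ p : ℕ, 0 < p → Subsingleton (ModSite.HU O F p U)) :
    WSerre.IsWeakSerre (A.map (SiteCmp.eps h O).push) ∧
    (∀ Y : DerivedCategory (ModSite.Mod (SiteCmp.epsRing h O)), WSerre.cohIn (A.map (SiteCmp.eps h O).push) Y →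
      WSerre.cohIn A ((SiteCmp.pullD (SiteCmp.eps h O)).obj Y) ∧ IsIso (adj.unit.app Y)) ∧
    (∀ X : DerivedCategory (ModSite.Mod O), WSerre.cohIn A X →
      WSerre.cohIn (A.map (SiteCmp.eps h O).push) ((SiteCmp.RpushD (SiteCmp.eps h O)).obj X) ∧
      IsIso (adj.counit.app X)) := by
  have hExtC : HasExt.{u} (ModSite.Mod O) := hasExt_of_enoughInjectives _
  have hExt : ∀ V ∈ B, ∀ F : ModSite.Mod O, A F → ∀ k : ℕ, 0 < k →
      Subsingleton (Abelian.Ext.{u} (ModSite.freeOn O V) F k) := fun V hV F hF k hk =>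
    Groth.Agent.Lib.Helper74.ModTrunc.subsingleton_ext_freeOn F k V (h4 V hV F hF k hk)
  have hWS : WSerre.IsWeakSerre (A.map (SiteCmp.eps h O).push) :=
    Groth.Agent.Lib.Helper20.EpsFF.isWeakSerre_map_push h O A B h3
      (fun V hV F hF => hExt V hV F hF 1 one_pos)
  haveI := hWS
  refine ⟨hWS, ?_⟩
  have hcounit : IsIso (SiteCmp.eps h O).adj.counit := inferInstance
  have h2a : ∀ F' : ModSite.Mod (SiteCmp.epsRing h O), (A.map (SiteCmp.eps h O).push) F' →
      A ((SiteCmp.eps h O).pull.obj F') := by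
    rintro F' ⟨F, hF, ⟨e⟩⟩
    exact A.prop_of_iso ((asIso ((SiteCmp.eps h O).adj.counit.app F)).symm ≪≫
      (SiteCmp.eps h O).pull.mapIso e) hF
  have hunit : ∀ F' : ModSite.Mod (SiteCmp.epsRing h O), (A.map (SiteCmp.eps h O).push) F' →
      IsIso ((SiteCmp.eps h O).adj.unit.app F') := by
    rintro F' ⟨F, hF, ⟨e⟩⟩
    exact (SiteCmp.eps h O).adj.isIso_unit_app_of_iso e.symm
  have h2b : ∀ F' G' : ModSite.Mod (SiteCmp.epsRing h O), (A.map (SiteCmp.eps h O).push) F' →
      (A.map (SiteCmp.eps h O).push) G' →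
      Function.Bijective (fun φ : F' ⟶ G' => (SiteCmp.eps h O).pull.map φ) := by
    intro F' G' _ hG'
    haveI := hunit G' hG'
    exact Groth.Agent.Lib.Helper20.UnitInD.bijective_map_of_isIso_unit (SiteCmp.eps h O).adj F' G'
  have h2c : ∀ F : ModSite.Mod O, A F → ∃ F' : ModSite.Mod (SiteCmp.epsRing h O),
      (A.map (SiteCmp.eps h O).push) F' ∧ Nonempty ((SiteCmp.eps h O).pull.obj F' ≅ F) :=
    fun F hF => ⟨(SiteCmp.eps h O).push.obj F, A.prop_map_obj _ hF,
      ⟨asIso ((SiteCmp.eps h O).adj.counit.app F)⟩⟩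
  have h3' : ∀ F' : ModSite.Mod (SiteCmp.epsRing h O), (A.map (SiteCmp.eps h O).push) F' →
      IsIso (adj.unit.app (SiteCmp.inD (SiteCmp.epsRing h O) F')) := by
    intro F' hF'
    haveI := hunit F' hF'
    exact Groth.Agent.Lib.Helper20.UnitInD.isIso_unit_inD (SiteCmp.eps h O) adj F' B h3
      (fun V hV k hk => hExt V hV _ (h2a F' hF') k hk)
  have hB : ∀ U : C, ∃ (ι : Type u) (Y : ι → C) (g : ∀ i, Y i ⟶ U),
      Sieve.ofArrows Y g ∈ J U ∧ ∀ i, Y i ∈ B := by
    intro U
    obtain ⟨ι, Y, g, hc, hY⟩ := h3 U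
    exact ⟨ι, Y, g, h _ hc, hY⟩
  have hA : ∀ V ∈ B, ∃ d : ℕ, ∀ T ∈ J V, ∃ (ι : Type u) (Y : ι → C) (g : ∀ i, Y i ⟶ V),
      (∀ i, T.arrows (g i)) ∧ Sieve.ofArrows Y g ∈ J V ∧
      ∀ (i : ι) (F : ModSite.Mod O), A F → ∀ k : ℕ, d < k →
        Subsingleton (ModSite.HU O F k (Y i)) := by
    intro V _
    refine ⟨0, fun T hT => ?_⟩
    obtain ⟨ι, Y, g, hgT, hcov, hYB⟩ :=
      Groth.Agent.Lib.Helper20.EpsFF.exists_cofinal h B h3 V T hT
    exact ⟨ι, Y, g, hgT, hcov, fun i F hF k hk => h4 (Y i) (hYB i) F hF k hk⟩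
  have hA' : ∀ V ∈ B, ∃ d : ℕ, ∀ T ∈ J' V, ∃ (ι : Type u) (Y : ι → C) (g : ∀ i, Y i ⟶ V),
      (∀ i, T.arrows (g i)) ∧ Sieve.ofArrows Y g ∈ J' V ∧
      ∀ (i : ι) (F : ModSite.Mod O), A F → ∀ k : ℕ, d < k →
        Subsingleton (ModSite.HU O F k ((SiteCmp.eps h O).fn.obj (Y i))) := by
    intro V _
    refine ⟨0, fun T hT => ?_⟩
    obtain ⟨ι, Y, g, hgT, hcov, hYB⟩ :=
      Groth.Agent.Lib.Helper20.EpsFF.exists_cofinal (le_refl J') B h3 V T hT
    exact ⟨ι, Y, g, hgT, hcov, fun i F hF k hk => h4 (Y i) (hYB i) F hF k hk⟩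
  exact Groth.Agent.S9080.result (SiteCmp.eps h O) adj A (A.map (SiteCmp.eps h O).push)
    h2a h2b h2c h3' B B hB hA h3 hA'


end Groth.Agent.S9071
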