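import Groth.Statements.S9078
import Groth.Agent.Lib.Helper28.TowerRes
import Groth.Agent.Lib.Helper5.KFlatColim
import Groth.Agent.Lib.Helper74.ModQc.FreeOnMap

set_option autoImplicit false
universe u
open CategoryTheory CategoryTheory.Limits Opposite
attribute [local instance] HasDerivedCategory.standard
open ModSite


namespace Groth.Agent.S9078.Aux

open Groth.Agent.Lib.Helper74.ModQc Groth.Agent.Lib.Helper28.TowerRes Groth.Agent.S1030

variable {C : Type u} [SmallCategory C] {J : GrothendieckTopology C} (O : Sheaf J CommRingCat.{u})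

/-- the class of modules isomorphic to a coproduct of modules `j_{U!} O_U` -/
def P : ObjectProperty (ModSite.Mod O) := fun M =>
  ∃ (ι : Type u) (U : ι → C), Nonempty (M ≅ ∐ fun j => ModSite.freeOn O (U j))

instance : (P O).IsClosedUnderIsomorphisms where
  of_iso e h := by
    obtain ⟨ι, U, ⟨e'⟩⟩ := h
    exact ⟨ι, U, ⟨e.symm ≪≫ e'⟩⟩

lemma P_zero : ∃ Z : ModSite.Mod O, IsZero Z ∧ P O Z := by
  refine ⟨∐ fun j : PEmpty.{u + 1} => ModSite.freeOn O (j.elim : C), ?_,
    ⟨PEmpty.{u + 1}, fun j => j.elim, ⟨Iso.refl _⟩⟩⟩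
  rw [IsZero.iff_id_eq_zero]
  apply Sigma.hom_ext
  intro j
  exact j.elim

/-- the cofan exhibiting `∐ f₁ ⊞ ∐ f₂` as a coproduct over the sum type -/
noncomputable def sumInj {ι κ : Type u} (U : ι → C) (V : κ → C) :
    ∀ s : ι ⊕ κ, ModSite.freeOn O (Sum.elim U V s) ⟶
      (∐ fun j => ModSite.freeOn O (U j)) ⊞ (∐ fun j => ModSite.freeOn O (V j))
  | Sum.inl a => Sigma.ι (fun j => ModSite.freeOn O (U j)) a ≫ biprod.inl
  | Sum.inr b => Sigma.ι (fun j => ModSite.freeOn O (V j)) b ≫ biprod.inr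

noncomputable def isColimitSum {ι κ : Type u} (U : ι → C) (V : κ → C) :
    IsColimit (Cofan.mk _ (sumInj O U V)) :=
  Cofan.IsColimit.mk _
    (fun s => biprod.desc (Sigma.desc fun a => s.inj (Sum.inl a))
      (Sigma.desc fun b => s.inj (Sum.inr b)))
    (fun s j => by
      cases j with
      | inl a => simp [sumInj]
      | inr b => simp [sumInj])
    (fun s m hm => by
      apply biprod.hom_ext'
      · apply Sigma.hom_ext
        intro a
        have := hm (Sum.inl a)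
        simp only [cofan_mk_inj, sumInj, Category.assoc] at this
        simpa using this
      · apply Sigma.hom_ext
        intro b
        have := hm (Sum.inr b)
        simp only [cofan_mk_inj, sumInj, Category.assoc] at this
        simpa using this)

lemma P_sum (X Y : ModSite.Mod O) (hX : P O X) (hY : P O Y) : P O (X ⊞ Y) := by
  obtain ⟨ι, U, ⟨eX⟩⟩ := hX
  obtain ⟨κ, V, ⟨eY⟩⟩ := hY
  refine ⟨ι ⊕ κ, Sum.elim U V, ⟨biprod.mapIso eX eY ≪≫ ?_⟩⟩
  exact (isColimitSum O U V).coconePointUniqueUpToIso (coproductIsCoproduct _)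

lemma P_cov (M : ModSite.Mod O) : ∃ (Y : ModSite.Mod O) (π : Y ⟶ M), P O Y ∧ Epi π := by
  refine ⟨∐ fun p : (Σ U : C, M.val.obj (op U)) => ModSite.freeOn O p.1,
    Sigma.desc fun p => ofSec O p.2,
    ⟨_, fun p : (Σ U : C, M.val.obj (op U)) => p.1, ⟨Iso.refl _⟩⟩, ⟨fun g h hgh => ?_⟩⟩
  have key : ∀ (U : C) (s : M.val.obj (op U)), secMap g U s = secMap h U s := by
    intro U s
    have h1 := congrArg (fun φ => Sigma.ι (fun p : (Σ U : C, M.val.obj (op U)) =>
      ModSite.freeOn O p.1) ⟨U, s⟩ ≫ φ) hgh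
    simp only [Sigma.ι_desc_assoc] at h1
    have h2 := congrArg (toSec O) h1
    rwa [toSec_comp, toSec_comp, toSec_ofSec] at h2
  apply SheafOfModules.hom_ext
  apply PresheafOfModules.hom_ext
  intro X
  ext s
  exact key X.unop s

lemma eqToHom_ι (G : CochainComplex (ModSite.Mod O) ℤ) (a b : ℤ) (h : a = b) :
    eqToHom (congrArg (fun m => G.truncLE m) h) ≫ G.ιTruncLE b = G.ιTruncLE a := by
  subst h
  simp

variable (G : CochainComplex (ModSite.Mod O) ℤ)

/-- the shifted tower of truncations -/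
noncomputable def T : ℕ ⥤ CochainComplex (ModSite.Mod O) ℤ :=
  Functor.ofSequence (X := fun n : ℕ => G.truncLE ((n : ℤ) + 1))
    (fun n : ℕ => truncTrans G ((n : ℤ) + 1) (((n + 1 : ℕ) : ℤ) + 1) (by push_cast; omega))

lemma T_map_succ (n : ℕ) : (T O G).map (homOfLE (Nat.le_add_right n 1)) =
    truncTrans G ((n : ℤ) + 1) (((n + 1 : ℕ) : ℤ) + 1) (by push_cast; omega) :=
  Functor.ofSequence_map_homOfLE_succ _ n

/-- the cocone of the shifted tower -/
noncomputable def Tcocone : Cocone (T O G) where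
  pt := G
  ι := NatTrans.ofSequence (F := T O G) (G := (Functor.const ℕ).obj G)
    (fun n : ℕ => G.ιTruncLE ((n : ℤ) + 1)) (fun n => by
      rw [T_map_succ]
      exact (truncTrans_ι G _ _ _).trans (Category.comp_id _).symm)

noncomputable def isColimitTcocone : IsColimit (Tcocone O G) :=
  HomologicalComplex.isColimitOfEval _ _ (fun i =>
    isColimitOfEventuallyIso _ _ i.toNat (fun n hn => by
      have hn' : i ≤ (n : ℤ) := Int.toNat_le.1 hn
      exact isIso_ιTruncLE_f G ((n : ℤ) + 1) i (by omega)))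

end Groth.Agent.S9078.Aux

namespace Groth.Agent.S9078

open Groth.Agent.S9078.Aux Groth.Agent.Lib.Helper28.TowerRes Groth.Agent.S1030

/-- Let (C, O) be a ringed site and G a complex of O-modules. There is a commutative diagram of
complexes K_1 → K_2 → … over τ_{≤1}G → τ_{≤2}G → … such that (1) the vertical maps K_n → τ_{≤n}G are
termwise surjective quasi-isomorphisms, (2) every K_n is bounded above with terms direct sums of
modules of the form j_{U!}O_U, (3) each K_n → K_{n+1} is split injective in every degree, with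
cokernel in each degree a direct sum of modules j_{U!}O_U; moreover colim K_n → G is a
quasi-isomorphism. Here the system is indexed by n ≥ 0 with K_n mapping to τ_{≤ n+1}G, commutativity
of the diagram is expressed after composing with the inclusions τ_{≤ m}G → G, 'direct sum of modules
j_{U!}O_U' means isomorphic to a coproduct of such modules, and the map colim K_n → G is the one
induced by the K_n → τ_{≤ n+1}G → G. -/
theorem result
    {C : Type u} [SmallCategory C] {J : GrothendieckTopology C} (O : Sheaf J CommRingCat.{u})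
    (G : CochainComplex (ModSite.Mod O) ℤ) :
    ∃ (Kc : ℕ ⥤ CochainComplex (ModSite.Mod O) ℤ) (π : ∀ n : ℕ, Kc.obj n ⟶ G.truncLE ((n : ℤ) + 1)),
      (∀ n : ℕ, Kc.map (homOfLE (Nat.le_succ n)) ≫ π (n + 1) ≫ G.ιTruncLE (((n + 1 : ℕ) : ℤ) + 1) =
        π n ≫ G.ιTruncLE ((n : ℤ) + 1)) ∧
      (∀ n : ℕ, QuasiIso (π n) ∧ ∀ i : ℤ, Epi ((π n).f i)) ∧
      (∀ n : ℕ, ∃ b : ℤ, (Kc.obj n).IsStrictlyLE b) ∧
      (∀ (n : ℕ) (i : ℤ), ∃ (ι : Type u) (U : ι → C),
        Nonempty ((Kc.obj n).X i ≅ ∐ fun j => ModSite.freeOn O (U j))) ∧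
      (∀ (n : ℕ) (i : ℤ), ∃ r : (Kc.obj (n + 1)).X i ⟶ (Kc.obj n).X i,
        (Kc.map (homOfLE (Nat.le_succ n))).f i ≫ r = 𝟙 _ ∧
        ∃ (ι : Type u) (U : ι → C),
          Nonempty (cokernel ((Kc.map (homOfLE (Nat.le_succ n))).f i) ≅ ∐ fun j => ModSite.freeOn O (U j))) ∧
      ∃ c : colimit Kc ⟶ G, (∀ n : ℕ, colimit.ι Kc n ≫ c = π n ≫ G.ιTruncLE ((n : ℤ) + 1)) ∧ QuasiIso c := by
  haveI := Groth.Agent.Lib.Helper5.KFlatColim.hasExactColimitsOfShape_nat O
  obtain ⟨Q, ι, π, hπ, hb, hPQ, hι, hcomp⟩ :=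
    Groth.Agent.S1030.result (P O) (P_zero O) (P_sum O) (P_cov O) G
  let Kc : ℕ ⥤ CochainComplex (ModSite.Mod O) ℤ :=
    Functor.ofSequence (X := fun n => Q (n + 1)) (fun n => ι (n + 1))
  have hKc : ∀ n : ℕ, Kc.map (homOfLE (Nat.le_succ n)) = ι (n + 1) :=
    fun n => Functor.ofSequence_map_homOfLE_succ _ n
  have hcast : ∀ n : ℕ, ((n + 1 : ℕ) : ℤ) = (n : ℤ) + 1 := fun n => by push_cast; rfl
  let ε : ∀ n : ℕ, G.truncLE ((n + 1 : ℕ) : ℤ) ⟶ G.truncLE ((n : ℤ) + 1) :=
    fun n => eqToHom (congrArg (fun m => G.truncLE m) (hcast n))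
  have hε : ∀ n : ℕ, ε n ≫ G.ιTruncLE ((n : ℤ) + 1) = G.ιTruncLE ((n + 1 : ℕ) : ℤ) :=
    fun n => eqToHom_ι O G _ _ (hcast n)
  let π' : ∀ n : ℕ, Kc.obj n ⟶ G.truncLE ((n : ℤ) + 1) := fun n => π (n + 1) ≫ ε n
  have h1 : ∀ n : ℕ, Kc.map (homOfLE (Nat.le_succ n)) ≫ π' (n + 1) ≫
      G.ιTruncLE (((n + 1 : ℕ) : ℤ) + 1) = π' n ≫ G.ιTruncLE ((n : ℤ) + 1) := by
    intro n
    rw [hKc]
    dsimp only [π']
    rw [Category.assoc, Category.assoc, hε, hε]
    exact (hcomp (n + 1)).symm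
  refine ⟨Kc, π', h1, ?_, fun n => hb (n + 1), fun n i => hPQ (n + 1) i, ?_, ?_⟩
  · intro n
    haveI := (hπ (n + 1)).1
    haveI : IsIso (ε n) := inferInstanceAs (IsIso (eqToHom _))
    refine ⟨inferInstanceAs (QuasiIso (π (n + 1) ≫ ε n)), fun i => ?_⟩
    haveI := (hπ (n + 1)).2 i
    haveI : IsIso ((ε n).f i) :=
      inferInstanceAs (IsIso ((HomologicalComplex.eval _ _ i).map (ε n)))
    exact inferInstanceAs (Epi ((π (n + 1)).f i ≫ (ε n).f i))
  · intro n i
    rw [hKc]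
    obtain ⟨⟨r, hr⟩, hP⟩ := hι (n + 1) i
    exact ⟨r, hr, hP⟩
  · -- the colimit
    let πnat : Kc ⟶ T O G :=
      NatTrans.ofSequence (F := Kc) (G := T O G) (fun n => π' n) (fun n => by
        rw [T_map_succ]
        apply (cancel_mono (G.ιTruncLE (((n + 1 : ℕ) : ℤ) + 1))).1
        have e2 := truncTrans_ι G ((n : ℤ) + 1) (((n + 1 : ℕ) : ℤ) + 1) (by push_cast; omega)
        exact (Category.assoc _ _ _).trans ((h1 n).trans
          ((congrArg (fun φ => π' n ≫ φ) e2.symm).trans (Category.assoc _ _ _).symm)))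
    let t : Cocone Kc := ⟨G, πnat ≫ (Tcocone O G).ι⟩
    refine ⟨colimit.desc Kc t, fun n => ?_, ?_⟩
    · rw [colimit.ι_desc]
      rfl
    · exact quasiIso_colimMap πnat (fun n => by
          haveI := (hπ (n + 1)).1
          haveI : IsIso (ε n) := inferInstanceAs (IsIso (eqToHom _))
          exact inferInstanceAs (QuasiIso (π (n + 1) ≫ ε n))) _ (colimit.isColimit Kc) _
        (isColimitTcocone O G) _ (fun n => colimit.ι_desc t n)

end Groth.Agent.S9078
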