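import Groth.Statements.S9089
import Mathlib

set_option autoImplicit false
universe u
open CategoryTheory Opposite
open ModSite

namespace Groth.Agent.S9089

/-- restriction notation -/
private abbrev res {C : Type u} [SmallCategory C] {J : GrothendieckTopology C}
    (O : Sheaf J CommRingCat.{u}) {U V : C} (g : V ⟶ U) : O.obj.obj (op U) →+* O.obj.obj (op V) :=
  (O.obj.map g.op).hom

private lemma res_comp {C : Type u} [SmallCategory C] {J : GrothendieckTopology C}
    (O : Sheaf J CommRingCat.{u}) {U V W : C} (g : V ⟶ U) (k : W ⟶ V) (x : O.obj.obj (op U)) :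
    res O (k ≫ g) x = res O k (res O g x) := by
  simp only [res, op_comp, Functor.map_comp, CommRingCat.hom_comp, RingHom.coe_comp,
    Function.comp_apply]

private lemma step {C : Type u} [SmallCategory C] (J : GrothendieckTopology C)
    (O : Sheaf J CommRingCat.{u})
    (h : ∀ (U : C) (f : O.obj.obj (op U)), ∃ S ∈ J U, ∀ ⦃V : C⦄ (g : V ⟶ U), S g →
        IsUnit (res O g f) ∨ IsUnit (res O g (1 - f))) :
    ∀ (m : ℕ) (U : C) (f : Fin (m + 1) → O.obj.obj (op U)), Ideal.span (Set.range f) = ⊤ →
        ∃ S ∈ J U, ∀ ⦃V : C⦄ (g : V ⟶ U), S g → ∃ i, IsUnit (res O g (f i)) := by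
  intro m
  induction m with
  | zero =>
    intro U f hf
    refine ⟨⊤, J.top_mem U, fun V g _ => ⟨0, ?_⟩⟩
    have h1 : Set.range f = {f 0} := by
      ext x
      simp only [Set.mem_range, Set.mem_singleton_iff]
      constructor
      · rintro ⟨i, rfl⟩
        rw [show i = 0 from Fin.fin_one_eq_zero i]
      · rintro rfl
        exact ⟨0, rfl⟩
    rw [h1, Ideal.span_singleton_eq_top] at hf
    exact hf.map _
  | succ m ih =>
    intro U f hf
    have h1 : (1 : O.obj.obj (op U)) ∈ Ideal.span (Set.range f) := by rw [hf]; trivial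
    obtain ⟨a, ha⟩ := (Ideal.mem_span_range_iff_exists_fun).mp h1
    rw [Fin.sum_univ_succ] at ha
    obtain ⟨S, hS, hS'⟩ := h U (a 0 * f 0)
    have key : ∀ ⦃V : C⦄ (g : V ⟶ U), S g → ∃ R ∈ J V, ∀ ⦃W : C⦄ (k : W ⟶ V), R k →
        ∃ i, IsUnit (res O (k ≫ g) (f i)) := by
      intro V g hg
      rcases hS' g hg with hu | hu
      · refine ⟨⊤, J.top_mem V, fun W k _ => ⟨0, ?_⟩⟩
        rw [map_mul] at hu
        rw [res_comp]
        exact (isUnit_of_mul_isUnit_right hu).map _
      · have h2 : 1 - a 0 * f 0 = ∑ i : Fin (m + 1), a i.succ * f i.succ := by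
          rw [← ha]; ring
        rw [h2, map_sum] at hu
        have h3 : Ideal.span (Set.range (fun i : Fin (m + 1) => res O g (f i.succ))) = ⊤ := by
          rw [Ideal.eq_top_iff_one]
          have h4 : ∑ i : Fin (m + 1), res O g (a i.succ * f i.succ) ∈
              Ideal.span (Set.range (fun i : Fin (m + 1) => res O g (f i.succ))) := by
            refine Ideal.sum_mem _ (fun i _ => ?_)
            rw [map_mul]
            exact Ideal.mul_mem_left _ _ (Ideal.subset_span ⟨i, rfl⟩)
          exact (Ideal.eq_top_of_isUnit_mem _ h4 hu) ▸ Submodule.mem_top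
        obtain ⟨R, hR, hR'⟩ := ih V _ h3
        refine ⟨R, hR, fun W k hk => ?_⟩
        obtain ⟨i, hi⟩ := hR' k hk
        exact ⟨i.succ, by rw [res_comp]; exact hi⟩
    choose R hR hR' using key
    refine ⟨Sieve.bind S R, J.bind_covering hS (fun V g hg => hR g hg), ?_⟩
    rintro W _ ⟨V, k, g, hg, hk, rfl⟩
    exact hR' g hg k hk

/-- Part (1): ⇔ (2), for a ringed site (C, O) with C small and O a sheaf of commutative rings: the
following are equivalent. (1) For every object U and every section f of O over U there is a covering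
sieve on U on each of whose arrows either f or 1 - f restricts to a unit. (2) For every object U,
every n ≥ 1 and all sections f₁, …, fₙ of O over U generating the unit ideal of O(U), there is a
covering sieve on U on each of whose arrows some fᵢ restricts to a unit. -/
theorem result {C : Type u} [SmallCategory C] (J : GrothendieckTopology C)
    (O : Sheaf J CommRingCat.{u}) :
    (∀ (U : C) (f : O.obj.obj (op U)), ∃ S ∈ J U, ∀ ⦃V : C⦄ (g : V ⟶ U), S g →
        IsUnit ((O.obj.map g.op).hom f) ∨ IsUnit ((O.obj.map g.op).hom (1 - f))) ↔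
    (∀ (U : C) (n : ℕ) (f : Fin n → O.obj.obj (op U)), 1 ≤ n → Ideal.span (Set.range f) = ⊤ →
        ∃ S ∈ J U, ∀ ⦃V : C⦄ (g : V ⟶ U), S g → ∃ i, IsUnit ((O.obj.map g.op).hom (f i))) := by
  constructor
  · intro h U n f hn hf
    obtain ⟨m, rfl⟩ : ∃ m, n = m + 1 := ⟨n - 1, by omega⟩
    exact step J O h m U f hf
  · intro h U f
    obtain ⟨S, hS, hS'⟩ := h U 2 ![f, 1 - f] (by norm_num) (by
      rw [Ideal.eq_top_iff_one]
      have h1 : f ∈ Ideal.span (Set.range ![f, 1 - f]) := Ideal.subset_span ⟨0, rfl⟩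
      have h2 : 1 - f ∈ Ideal.span (Set.range ![f, 1 - f]) := Ideal.subset_span ⟨1, rfl⟩
      have := Ideal.add_mem _ h1 h2
      simpa using this)
    refine ⟨S, hS, fun V g hg => ?_⟩
    obtain ⟨i, hi⟩ := hS' g hg
    fin_cases i
    · exact Or.inl hi
    · exact Or.inr hi

end Groth.Agent.S9089
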