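import Groth.Statements.S9091
import Mathlib

set_option autoImplicit false
universe u
open CategoryTheory Opposite
open ModSite

namespace Groth.Agent.S9091

private lemma exists_isUnit_res {C : Type u} [SmallCategory C] {J : GrothendieckTopology C}
    (O : Sheaf J CommRingCat.{u}) (p : GrothendieckTopology.Point.{u} J) (X : C)
    (x : p.fiber.obj X) (f : O.obj.obj (op X))
    (hu : IsUnit ((p.toPresheafFiber X x O.obj).hom f)) :
    ∃ (Y : C) (g : Y ⟶ X) (y : p.fiber.obj Y), p.fiber.map g y = x ∧
      IsUnit ((O.obj.map g.op).hom f) := by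
  obtain ⟨b, hb⟩ := hu.exists_right_inv
  obtain ⟨X', x', b', rfl⟩ := p.toPresheafFiber_jointly_surjective (P := O.obj) b
  let W := IsCofiltered.min (Functor.elementsMk p.fiber X x) (Functor.elementsMk p.fiber X' x')
  let gX := IsCofiltered.minToLeft (Functor.elementsMk p.fiber X x) (Functor.elementsMk p.fiber X' x')
  let gX' := IsCofiltered.minToRight (Functor.elementsMk p.fiber X x) (Functor.elementsMk p.fiber X' x')
  have hX : (p.toPresheafFiber X x O.obj).hom f =
      (p.toPresheafFiber W.1 W.2 O.obj).hom ((O.obj.map gX.1.op).hom f) :=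
    ((congrArg (fun t => (p.toPresheafFiber X t O.obj).hom f) gX.2).symm).trans
      (p.toPresheafFiber_w_apply gX.1 W.2 O.obj f).symm
  have hX' : (p.toPresheafFiber X' x' O.obj).hom b' =
      (p.toPresheafFiber W.1 W.2 O.obj).hom ((O.obj.map gX'.1.op).hom b') :=
    ((congrArg (fun t => (p.toPresheafFiber X' t O.obj).hom b') gX'.2).symm).trans
      (p.toPresheafFiber_w_apply gX'.1 W.2 O.obj b').symm
  have h1 : (p.toPresheafFiber W.1 W.2 O.obj).hom
      ((O.obj.map gX.1.op).hom f * (O.obj.map gX'.1.op).hom b') =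
      (p.toPresheafFiber W.1 W.2 O.obj).hom 1 := by
    rw [map_mul, map_one, ← hX, ← hX']
    exact hb
  obtain ⟨Y, k, y, hy, hk⟩ := (p.toPresheafFiber_eq_iff' (P := O.obj) W.1 W.2 _ _).mp h1
  refine ⟨Y, k ≫ gX.1, y, ?_, ?_⟩
  · rw [Functor.map_comp]
    have := gX.2
    simp only [Functor.elementsMk] at this
    change p.fiber.map gX.1 (p.fiber.map k y) = x
    rw [hy]
    exact this
  · have hk' : (O.obj.map k.op).hom ((O.obj.map gX.1.op).hom f * (O.obj.map gX'.1.op).hom b') =
        (O.obj.map k.op).hom 1 := hk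
    rw [map_mul, map_one] at hk'
    have : (O.obj.map (k ≫ gX.1).op).hom f = (O.obj.map k.op).hom ((O.obj.map gX.1.op).hom f) := by
      simp only [op_comp, Functor.map_comp, CommRingCat.hom_comp, RingHom.coe_comp,
        Function.comp_apply]
    rw [this]
    exact IsUnit.of_mul_eq_one _ hk'

/-- Part (2): ⇒ (1) when the site has enough points, for a ringed site (C, O) with C small and O a sheaf
of commutative rings: if at every point p of the site the stalk O_p is the zero ring or is local,
then for every object U and every section f of O over U there is a covering sieve on U on each of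
whose arrows either f or 1 - f restricts to a unit. -/
theorem result {C : Type u} [SmallCategory C] {J : GrothendieckTopology C}
    (O : Sheaf J CommRingCat.{u}) [GrothendieckTopology.HasEnoughPoints.{u} J]
    (h : ∀ p : GrothendieckTopology.Point.{u} J, Subsingleton (ModSite.stalkRing p O) ∨ IsLocalRing (ModSite.stalkRing p O))
    (U : C) (f : O.obj.obj (op U)) :
    ∃ S ∈ J U, ∀ ⦃V : C⦄ (g : V ⟶ U), S g →
        IsUnit ((O.obj.map g.op).hom f) ∨ IsUnit ((O.obj.map g.op).hom (1 - f)) := by
  obtain ⟨P, hPs, hP⟩ := GrothendieckTopology.HasEnoughPoints.exists_objectProperty.{u} J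
  let ι : Type u := Σ V : C, {g : V ⟶ U //
    IsUnit ((O.obj.map g.op).hom f) ∨ IsUnit ((O.obj.map g.op).hom (1 - f))}
  refine ⟨Sieve.ofArrows (fun i : ι => i.1) (fun i => i.2.1), ?_, ?_⟩
  · rw [hP.jointly_reflect_ofArrows_mem_of_small]
    intro Φ x
    have key : IsUnit ((Φ.obj.toPresheafFiber U x O.obj).hom f) ∨
        IsUnit ((Φ.obj.toPresheafFiber U x O.obj).hom (1 - f)) := by
      rcases h Φ.obj with hs | hl
      · left
        have hs' : Subsingleton ↑(Φ.obj.presheafFiber.obj O.obj) := hs
        exact isUnit_of_subsingleton _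
      · have hl' : IsLocalRing ↑(Φ.obj.presheafFiber.obj O.obj) := hl
        have := IsLocalRing.isUnit_or_isUnit_one_sub_self
          ((Φ.obj.toPresheafFiber U x O.obj).hom f)
        rw [map_sub, map_one]
        exact this
    rcases key with hu | hu
    · obtain ⟨Y, g, y, hy, hg⟩ := exists_isUnit_res O Φ.obj U x f hu
      exact ⟨⟨Y, g, Or.inl hg⟩, y, hy⟩
    · obtain ⟨Y, g, y, hy, hg⟩ := exists_isUnit_res O Φ.obj U x (1 - f) hu
      exact ⟨⟨Y, g, Or.inr hg⟩, y, hy⟩
  · rintro V g ⟨W, k, _, ⟨i⟩, rfl⟩
    have e : ∀ t, (O.obj.map (k ≫ i.2.1).op).hom t =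
        (O.obj.map k.op).hom ((O.obj.map i.2.1.op).hom t) := by
      intro t
      simp only [op_comp, Functor.map_comp, CommRingCat.hom_comp, RingHom.coe_comp,
        Function.comp_apply]
    rw [e, e]
    exact i.2.2.imp (fun hu => hu.map _) (fun hu => hu.map _)

end Groth.Agent.S9091
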