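import Groth.Statements.S9092
import Mathlib
import Groth.Agent.Lib.Helper30.EqFlat

set_option autoImplicit false
universe u
open CategoryTheory
open ModSite

namespace Groth.Agent.S9092

section Helpers

variable {C : Type u} [SmallCategory C] {J : GrothendieckTopology C}
  {O : Sheaf J CommRingCat.{u}} (p : GrothendieckTopology.Point.{u} J)

lemma exists_common_nbhd {ι : Type} [Fintype ι] (E : ι → p.fiber.Elements) :
    ∃ S : p.fiber.Elements, ∀ i, Nonempty (S ⟶ E i) := by
  classical
  obtain ⟨S, hS⟩ := IsCofiltered.inf_objs_exists (Finset.univ.image E)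
  exact ⟨S, fun i => hS (Finset.mem_image_of_mem E (Finset.mem_univ i))⟩

lemma germRing_res {X Y : C} (f : Y ⟶ X) (y : p.fiber.obj Y) (r : O.obj.obj (Opposite.op X)) :
    ModSite.germRing p Y y ((O.obj.map f.op).hom r) = ModSite.germRing p X (p.fiber.map f y) r :=
  p.toPresheafFiber_w_apply f y O.obj r

lemma germ_res (F : ModSite.Mod O) {X Y : C} (f : Y ⟶ X) (y : p.fiber.obj Y)
    (s : ModSite.sect F X) :
    ModSite.germ p F Y y (F.val.map f.op s) = ModSite.germ p F X (p.fiber.map f y) s :=
  p.toPresheafFiber_w_apply f y (ModSite.toAb F).obj s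

lemma germ_sum (F : ModSite.Mod O) (X : C) (x : p.fiber.obj X) {ι : Type} (s : Finset ι)
    (f : ι → ModSite.sect F X) :
    ModSite.germ p F X x (∑ i ∈ s, f i) = ∑ i ∈ s, ModSite.germ p F X x (f i) :=
  map_sum (p.toPresheafFiber X x (ModSite.toAb F).obj).hom f s

lemma germRing_sum (X : C) (x : p.fiber.obj X) {ι : Type} (s : Finset ι)
    (f : ι → O.obj.obj (Opposite.op X)) :
    ModSite.germRing p X x (∑ i ∈ s, f i) = ∑ i ∈ s, ModSite.germRing p X x (f i) :=
  map_sum (p.toPresheafFiber X x O.obj).hom f s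

lemma germRing_mul (X : C) (x : p.fiber.obj X) (a b : O.obj.obj (Opposite.op X)) :
    ModSite.germRing p X x (a * b) = ModSite.germRing p X x a * ModSite.germRing p X x b :=
  map_mul (p.toPresheafFiber X x O.obj).hom a b

lemma germRing_zero (X : C) (x : p.fiber.obj X) :
    ModSite.germRing (O := O) p X x 0 = 0 :=
  map_zero (p.toPresheafFiber X x O.obj).hom

lemma germ_zero (F : ModSite.Mod O) (X : C) (x : p.fiber.obj X) :
    ModSite.germ p F X x 0 = 0 :=
  map_zero (p.toPresheafFiber X x (ModSite.toAb F).obj).hom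

lemma exists_of_germ_eq_zero (F : ModSite.Mod O) (X : C) (x : p.fiber.obj X)
    (s : ModSite.sect F X) (h : ModSite.germ p F X x s = 0) :
    ∃ (Y : C) (f : Y ⟶ X) (y : p.fiber.obj Y), p.fiber.map f y = x ∧ F.val.map f.op s = 0 := by
  have h' : ModSite.germ p F X x s = ModSite.germ p F X x 0 := by rw [h, germ_zero]
  obtain ⟨Y, f, y, hy, hs⟩ := (p.toPresheafFiber_eq_iff' (P := (ModSite.toAb F).obj) X x s 0).mp h'
  refine ⟨Y, f, y, hy, hs.trans ?_⟩
  exact map_zero ((ModSite.toAb F).obj.map f.op).hom

end Helpers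

/-- On a small ringed site (C, O) with O commutative: if F is a flat O-module (tensoring with F is exact
on O-modules), then for every point p of the site the stalk F_p is a flat O_p-module. -/
theorem result {C : Type u} [SmallCategory C] {J : GrothendieckTopology C}
    (O : Sheaf J CommRingCat.{u}) (F : ModSite.Mod O) (hF : ModSite.IsFlat F)
    (p : GrothendieckTopology.Point.{u} J) :
    Module.Flat (ModSite.stalkRing p O) (ModSite.stalkMod p F) := by
  rw [Module.Flat.iff_forall_isTrivialRelation]
  intro n f x hrel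
  -- represent all the germs on a common neighbourhood
  choose X ξ r hr using fun i => p.toPresheafFiber_jointly_surjective (P := O.obj) (f i)
  choose Y η m hm using fun i =>
    p.toPresheafFiber_jointly_surjective (P := (ModSite.toAb F).obj) (x i)
  obtain ⟨⟨W, w⟩, hW⟩ := exists_common_nbhd p
    (Sum.elim (fun i : Fin n => (⟨X i, ξ i⟩ : p.fiber.Elements)) (fun i : Fin n => ⟨Y i, η i⟩))
  have gX : ∀ i : Fin n, ∃ g : W ⟶ X i, p.fiber.map g w = ξ i := fun i => by
    obtain ⟨g⟩ := hW (Sum.inl i)
    exact ⟨g.1, g.2⟩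
  have gY : ∀ i : Fin n, ∃ g : W ⟶ Y i, p.fiber.map g w = η i := fun i => by
    obtain ⟨g⟩ := hW (Sum.inr i)
    exact ⟨g.1, g.2⟩
  choose gX hgX using gX
  choose gY hgY using gY
  let r' : Fin n → O.obj.obj (Opposite.op W) := fun i => (O.obj.map (gX i).op).hom (r i)
  let m' : Fin n → ModSite.sect F W := fun i => F.val.map (gY i).op (m i)
  have hr' : ∀ i, ModSite.germRing p W w (r' i) = f i := fun i => by
    rw [germRing_res, hgX]
    exact hr i
  have hm' : ∀ i, ModSite.germ p F W w (m' i) = x i := fun i => by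
    rw [germ_res, hgY]
    exact hm i
  -- the relation holds on a smaller neighbourhood
  have h0 : ModSite.germ p F W w (∑ i, r' i • m' i) = 0 := by
    rw [germ_sum, ← hrel]
    refine Finset.sum_congr rfl (fun i _ => ?_)
    rw [ModSite.germ_smul, hr', hm']
  obtain ⟨W', h, w', hw', hW'⟩ := exists_of_germ_eq_zero p F W w _ h0
  let r'' : Fin n → O.obj.obj (Opposite.op W') := fun i => (O.obj.map h.op).hom (r' i)
  let m'' : Fin n → ModSite.sect F W' := fun i => F.val.map h.op (m' i)
  have hrel'' : ∑ i, r'' i • m'' i = 0 := by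
    refine Eq.trans ?_ hW'
    refine Eq.trans ?_ (map_sum (F.val.map h.op).hom (fun i => r' i • m' i) Finset.univ).symm
    refine Finset.sum_congr rfl (fun i _ => ?_)
    exact (F.val.map_smul h.op (r' i) (m' i)).symm
  obtain ⟨S, hS, hflat⟩ := Groth.Agent.Lib.Helper30.EqFlat.eqFlat O F hF W'
    (n := n) (m := 1) (fun i _ => r'' i) m'' (fun _ => hrel'')
  obtain ⟨V, g, hg, v, hv⟩ := p.jointly_surjective S hS w'
  obtain ⟨l, t, a, h1, h2⟩ := hflat g hg
  refine ⟨l, fun i k => ModSite.germRing p V v (a i k), fun k => ModSite.germ p F V v (t k), ?_, ?_⟩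
  · intro i
    rw [← hm' i, ← hw', ← germ_res p F h w' (m' i), ← hv, ← germ_res p F g v]
    show ModSite.germ p F V v (F.val.map g.op (m'' i)) = _
    rw [h1 i, germ_sum]
    refine Finset.sum_congr rfl (fun k _ => ?_)
    exact ModSite.germ_smul p F V v _ _
  · intro k
    have e : ∀ i, f i = ModSite.germRing p V v ((O.obj.map g.op).hom (r'' i)) := fun i => by
      rw [germRing_res, hv, germRing_res, hw']
      exact (hr' i).symm
    have := h2 0 k
    rw [Finset.sum_congr rfl (fun i _ => by rw [e i, ← germRing_mul, mul_comm]), ← germRing_sum,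
      this, germRing_zero]

end Groth.Agent.S9092
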