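import Groth.Statements.S9096
import Mathlib
import Groth.Agent.Lib.Helper74.HomFP.Local
import Groth.Agent.Lib.Helper74.HomFP.Global

set_option autoImplicit false
universe u
open CategoryTheory
open ModSite

namespace Groth.Agent.S9096

open CategoryTheory.Limits in
/-- On a small ringed site (C, O) with O commutative: let F be an O-module of finite presentation, with
internal hom functor Hom_O(F, -) (the right adjoint of - ⊗_O F, available under the binder). Then
Hom_O(F, -) commutes with filtered colimits: for every small filtered diagram of O-modules the
canonical comparison map from the colimit of the internal homs to the internal hom into the colimit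
is an isomorphism. -/
theorem result {C : Type u} [SmallCategory C] {J : GrothendieckTopology C}
    (O : Sheaf J CommRingCat.{u}) (F : ModSite.Mod O) [ModSite.HasSheafHom F]
    [SheafOfModules.IsFinitePresentation (R := ModSite.ringSh O) F] {Λ : Type u} [SmallCategory Λ] [IsFiltered Λ] (D : Λ ⥤ ModSite.Mod O) :
    PreservesColimit D (ModSite.sheafHom F) := by
  open Groth.Agent.Lib.Helper74.HomFP in
  obtain ⟨σ, hσ⟩ := SheafOfModules.IsFinitePresentation.exists_quasicoherentData F
  refine preservesColimit_of_restr D (ModSite.sheafHom F) σ.X σ.coversTop (fun i => ?_)
  haveI : PreservesColimit D (ModSite.restr O (σ.X i)) := inferInstance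
  haveI : PreservesColimit (D ⋙ ModSite.restr O (σ.X i))
      (ModSite.sheafHom ((ModSite.restr O (σ.X i)).obj F)) :=
    preservesColimit_sheafHom_of_presentation (O := O.over (σ.X i))
      ((ModSite.restr O (σ.X i)).obj F) (σ.presentation i) (hσ.isFinite_presentation i)
      (D ⋙ ModSite.restr O (σ.X i))
  exact preservesColimit_of_natIso D (sheafHomRestrIso O F (σ.X i)).symm

end Groth.Agent.S9096
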