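import Groth.Statements.S9097
import Mathlib

set_option autoImplicit false
universe u
open CategoryTheory Opposite
open CohSite

namespace Groth.Agent.S9097

/-- If 0 → A → B → C → 0 is short exact in the category of abelian groups then, for every object U, the
sequence 0 → A̲(U) → B̲(U) → C̲(U) → 0 of sections of the constant abelian sheaves is short exact;
in other words the sequence of constant sheaves is exact even as a sequence of abelian presheaves.
The instance binder on the sections-of-constant-sheaf functor (it preserves zero morphisms) always
holds and is only needed to form the complex. -/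
theorem result {C : Type u} [SmallCategory C] (J : GrothendieckTopology C)
    (S : ShortComplex AddCommGrpCat.{u}) (hS : S.ShortExact) (U : C)
    [(constantSheaf J AddCommGrpCat.{u} ⋙ (sheafSections J AddCommGrpCat.{u}).obj (op U)).PreservesZeroMorphisms] :
    (S.map (constantSheaf J AddCommGrpCat.{u} ⋙ (sheafSections J AddCommGrpCat.{u}).obj (op U))).ShortExact := by
  let F := constantSheaf J AddCommGrpCat.{u} ⋙ (sheafSections J AddCommGrpCat.{u}).obj (op U)
  have h1 : Limits.PreservesFiniteLimits (Functor.const Cᵒᵖ : AddCommGrpCat.{u} ⥤ _) := inferInstance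
  have h2 : Limits.PreservesFiniteLimits (presheafToSheaf J AddCommGrpCat.{u}) := inferInstance
  have h3 : Limits.PreservesFiniteLimits ((sheafSections J AddCommGrpCat.{u}).obj (op U)) :=
    Limits.preservesFiniteLimits_of_natIso (sheafSectionsNatIsoEvaluation (J := J) (A := AddCommGrpCat.{u}) (X := U)).symm
  have h4 : Limits.PreservesFiniteLimits (constantSheaf J AddCommGrpCat.{u}) := by
    unfold constantSheaf; infer_instance
  have hlim : Limits.PreservesFiniteLimits F := inferInstance
  have hmono : Mono (F.map S.f) := by
    have := hS.mono_f
    infer_instance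
  have hex : (S.map F).Exact := hS.exact.map_of_mono_of_preservesKernel F hS.mono_f inferInstance
  have hepi : Epi (F.map S.g) := by
    rw [AddCommGrpCat.epi_iff_surjective]
    have hg : Function.Surjective S.g.hom := (AddCommGrpCat.epi_iff_surjective _).1 hS.epi_g
    let FA := forget AddCommGrpCat.{u}
    let σ : FA.obj S.X₃ ⟶ FA.obj S.X₂ := ↾(fun c => (hg c).choose)
    have hσ : σ ≫ FA.map S.g = 𝟙 _ := by
      ext c
      exact (hg c).choose_spec
    let e := constantCommuteCompose J FA
    let s : (sheafCompose J FA).obj ((constantSheaf J AddCommGrpCat.{u}).obj S.X₃) ⟶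
        (sheafCompose J FA).obj ((constantSheaf J AddCommGrpCat.{u}).obj S.X₂) :=
      e.hom.app S.X₃ ≫ (constantSheaf J (Type u)).map σ ≫ e.inv.app S.X₂
    have hs : s ≫ (sheafCompose J FA).map ((constantSheaf J AddCommGrpCat.{u}).map S.g) = 𝟙 _ := by
      have nat := e.inv.naturality S.g
      simp only [Functor.comp_map] at nat
      simp only [s, Category.assoc]
      rw [← nat, ← Functor.map_comp_assoc, hσ, CategoryTheory.Functor.map_id, Category.id_comp]
      exact e.hom_inv_id_app S.X₃
    intro c
    refine ⟨s.hom.app (op U) c, ?_⟩
    have := congrArg (fun φ => φ.hom.app (op U) c) hs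
    exact this
  exact ShortComplex.ShortExact.mk' hex hmono hepi

end Groth.Agent.S9097
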