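import Groth.Statements.S9108
import Mathlib

set_option autoImplicit false
universe u
open CategoryTheory
open CohSite

namespace Groth.Agent.S9108

/-- Let u : C ⥤ D be a functor between small sites which is cocontinuous, continuous (restriction along
u preserves sheaves, and u sends covering families to covering families) and fully faithful; let g
be the morphism of topoi attached to u, so that g⁻¹ is restriction along u, g_* its right adjoint
and g_! its left adjoint on abelian sheaves. Then for every abelian sheaf F on C the canonical maps
F → g⁻¹g_!F (unit) and g⁻¹g_*F → F (counit) are isomorphisms. -/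
theorem result {C D : Type u} [SmallCategory C] [SmallCategory D]
    (J : GrothendieckTopology C) (K : GrothendieckTopology D) (u : C ⥤ D)
    [u.IsCocontinuous J K] [u.IsContinuous J K] (hu : CoverPreserving J K u) [u.Full] [u.Faithful]
    (F : Sheaf J AddCommGrpCat.{u}) :
    IsIso ((u.sheafAdjunctionContinuous AddCommGrpCat.{u} J K).unit.app F) ∧
      IsIso ((u.sheafAdjunctionCocontinuous AddCommGrpCat.{u} J K).counit.app F) := by
  constructor
  · let A := AddCommGrpCat.{u}
    let i : u.sheafPullback A J K ⋙ u.sheafPushforwardContinuous A J K ≅ 𝟭 (Sheaf J A) :=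
      Functor.isoWhiskerRight (Functor.sheafPullbackConstruction.sheafPullbackIso u A J K) _ ≪≫
      Functor.associator _ _ _ ≪≫
      Functor.isoWhiskerLeft (sheafToPresheaf J A)
        (Functor.associator _ _ _ ≪≫
          Functor.isoWhiskerLeft u.op.lan
            (u.pushforwardContinuousSheafificationCompatibility A J K).symm ≪≫
          (Functor.associator _ _ _).symm ≪≫
          Functor.isoWhiskerRight (asIso (u.op.lanUnit (H := A))).symm (presheafToSheaf J A) ≪≫
          Functor.leftUnitor _) ≪≫
      (sheafificationNatIso J A).symm
    have := (u.sheafAdjunctionContinuous A J K).isIso_unit_of_iso i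
    infer_instance
  · have h : IsIso ((sheafToPresheaf J AddCommGrpCat.{u}).map
        ((u.sheafAdjunctionCocontinuous AddCommGrpCat.{u} J K).counit.app F)) := by
      show IsIso ((u.sheafAdjunctionCocontinuous AddCommGrpCat.{u} J K).counit.app F).hom
      rw [Functor.sheafAdjunctionCocontinuous_counit_app_hom, Functor.ranAdjunction_counit]
      have h1 : ∀ X, IsIso ((u.op.ranCounit.app F.obj).app X) := fun X =>
        (Functor.isPointwiseRightKanExtensionRanCounit u.op F.obj (u.op.obj X)).isIso_hom_app
      exact @NatIso.isIso_of_isIso_app _ _ _ _ _ _ _ h1
    exact isIso_of_reflects_iso _ (sheafToPresheaf J AddCommGrpCat.{u})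

end Groth.Agent.S9108
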