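import Groth.Statements.S9109
import Mathlib

set_option autoImplicit false
universe u
open CategoryTheory CategoryTheory.Limits
open CohSite

namespace Groth.Agent.S9109

/-- Part (1): on a small site (C, J) with a point p: the skyscraper functor p_* from abelian groups to
abelian sheaves on C (right adjoint to the stalk functor at p; its value on A is the sheaf U ↦ ∏_{x
∈ p⁻¹U} A) is exact. As a right adjoint it preserves limits; the statement here is that it also
preserves finite colimits. -/
theorem result {C : Type u} [SmallCategory C] {J : GrothendieckTopology C}
    (p : GrothendieckTopology.Point.{u} J) :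
    PreservesFiniteColimits (p.skyscraperSheafFunctor (A := AddCommGrpCat.{u})) := by
  let G := p.skyscraperSheafFunctor (A := AddCommGrpCat.{u})
  have : PreservesLimitsOfSize.{0, 0} G := p.skyscraperSheafAdjunction.rightAdjoint_preservesLimits
  have : PreservesFiniteLimits G := PreservesLimitsOfSize.preservesFiniteLimits _
  have : G.Additive := Functor.additive_of_preserves_binary_products G
  have : G.PreservesEpimorphisms := by
    refine ⟨fun {A B} f hf => ?_⟩
    apply (sheafToPresheaf J AddCommGrpCat.{u}).epi_of_epi_map
    apply (config := { allowSynthFailures := true }) NatTrans.epi_of_epi_app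
    intro X
    show Epi (Limits.Pi.map (fun (_ : p.fiber.obj X.unop) => f))
    have : Epi (Discrete.natTrans (fun (i : Discrete (p.fiber.obj X.unop)) => f) :
        Discrete.functor (fun _ => A) ⟶ Discrete.functor (fun _ => B)) := by
      apply (config := { allowSynthFailures := true }) NatTrans.epi_of_epi_app
      intro i
      exact hf
    have : (Limits.lim : (Discrete (p.fiber.obj X.unop) ⥤ AddCommGrpCat.{u}) ⥤ _).PreservesEpimorphisms :=
      preservesEpimorphisms_of_preservesColimitsOfShape _
    exact (Limits.lim : (Discrete (p.fiber.obj X.unop) ⥤ AddCommGrpCat.{u}) ⥤ _).map_epi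
      (Discrete.natTrans (fun (i : Discrete (p.fiber.obj X.unop)) => f) :
        Discrete.functor (fun _ => A) ⟶ Discrete.functor (fun _ => B))
  have : G.PreservesHomology := G.preservesHomology_of_preservesEpis_and_kernels
  exact G.preservesFiniteColimits_of_preservesHomology

end Groth.Agent.S9109
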