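import Groth.Statements.S9111
import Mathlib

set_option autoImplicit false
universe u
open CategoryTheory CategoryTheory.Limits
open ModSite

namespace Groth.Agent.S9111

open TensorProduct

-- the module-level Tor argument
lemma rTensor_injective_of_flat_quotient {A : Type u} [CommRing A]
    {M'' M' M K P N : Type u} [AddCommGroup M''] [Module A M''] [AddCommGroup M'] [Module A M']
    [AddCommGroup M] [Module A M] [AddCommGroup K] [Module A K] [AddCommGroup P] [Module A P]
    [AddCommGroup N] [Module A N] [Module.Flat A P]
    (f : M'' →ₗ[A] M') (g : M' →ₗ[A] M) (hf : Function.Injective f) (hfg : Function.Exact f g)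
    (hg : Function.Surjective g)
    (i : K →ₗ[A] P) (p : P →ₗ[A] N) (hip : Function.Exact i p) (hp : Function.Surjective p)
    (hi : Function.Injective (i.lTensor M)) :
    Function.Injective (f.rTensor N) := by
  rw [injective_iff_map_eq_zero]
  intro x hx
  -- lift `x` to `M'' ⊗ P`
  obtain ⟨y, rfl⟩ := LinearMap.lTensor_surjective M'' hp x
  -- `y' = (f ⊗ P) y`
  have h1 : p.lTensor M' (f.rTensor P y) = 0 := by
    have : p.lTensor M' (f.rTensor P y) = f.rTensor N (p.lTensor M'' y) := by
      rw [← LinearMap.comp_apply, ← LinearMap.comp_apply, LinearMap.lTensor_comp_rTensor,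
        LinearMap.rTensor_comp_lTensor]
    rw [this, hx]
  obtain ⟨z, hz⟩ := (lTensor_exact M' hip hp (f.rTensor P y)).1 h1
  have h2 : i.lTensor M (g.rTensor K z) = 0 := by
    have e1 : i.lTensor M (g.rTensor K z) = g.rTensor P (i.lTensor M' z) := by
      rw [← LinearMap.comp_apply, ← LinearMap.comp_apply, LinearMap.lTensor_comp_rTensor,
        LinearMap.rTensor_comp_lTensor]
    rw [e1, hz, ← LinearMap.comp_apply, ← LinearMap.rTensor_comp]
    have : g ∘ₗ f = 0 := by
      ext m
      exact hfg.apply_apply_eq_zero m
    rw [this, LinearMap.rTensor_zero, LinearMap.zero_apply]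
  have h3 : g.rTensor K z = 0 := hi (by rw [h2, map_zero])
  obtain ⟨w, hw⟩ := (rTensor_exact K hfg hg z).1 h3
  have h4 : f.rTensor P (i.lTensor M'' w) = f.rTensor P y := by
    have e1 : f.rTensor P (i.lTensor M'' w) = i.lTensor M' (f.rTensor K w) := by
      rw [← LinearMap.comp_apply, ← LinearMap.comp_apply, LinearMap.rTensor_comp_lTensor,
        LinearMap.lTensor_comp_rTensor]
    rw [e1, hw, hz]
  have h5 : i.lTensor M'' w = y :=
    Module.Flat.rTensor_preserves_injective_linearMap f hf h4
  rw [← h5, ← LinearMap.comp_apply, ← LinearMap.lTensor_comp]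
  have : p ∘ₗ i = 0 := by
    ext m
    exact hip.apply_apply_eq_zero m
  rw [this, LinearMap.lTensor_zero, LinearMap.zero_apply]

open MonoidalCategory

section

variable {C : Type u} [SmallCategory C] (O : Cᵒᵖ ⥤ CommRingCat.{u})

-- the free presheaf of modules on the underlying presheaf of sets of `G`
noncomputable def freeP (G : PresheafOfModules.{u} (O ⋙ forget₂ CommRingCat.{u} RingCat.{u})) :
    PresheafOfModules.{u} (O ⋙ forget₂ CommRingCat.{u} RingCat.{u}) :=
  PresheafOfModules.freeObj (G.presheaf ⋙ forget _)

noncomputable def freeπ (G : PresheafOfModules.{u} (O ⋙ forget₂ CommRingCat.{u} RingCat.{u})) :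
    freeP O G ⟶ G :=
  PresheafOfModules.freeObjDesc (𝟙 _)

lemma freeπ_surjective (G : PresheafOfModules.{u} (O ⋙ forget₂ CommRingCat.{u} RingCat.{u}))
    (X : Cᵒᵖ) : Function.Surjective ((freeπ O G).app X) := by
  intro g
  refine ⟨ModuleCat.freeMk g, ?_⟩
  simp only [freeπ, PresheafOfModules.freeObjDesc_app]
  erw [ModuleCat.freeDesc_apply]
  rfl

lemma freeP_flat (G : PresheafOfModules.{u} (O ⋙ forget₂ CommRingCat.{u} RingCat.{u}))
    (X : Cᵒᵖ) : Module.Flat ((O ⋙ forget₂ CommRingCat.{u} RingCat.{u}).obj X)
      ((freeP O G).obj X) := by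
  change Module.Flat (O.obj X) (_ →₀ (O.obj X))
  infer_instance

-- sectionwise exactness of a short exact sequence of presheaves of modules
lemma exact_app {S : ShortComplex (PresheafOfModules.{u} (O ⋙ forget₂ CommRingCat.{u} RingCat.{u}))}
    (hS : S.Exact) (X : Cᵒᵖ) : Function.Exact (S.f.app X).hom (S.g.app X).hom := by
  have h := hS.map (PresheafOfModules.evaluation (O ⋙ forget₂ CommRingCat.{u} RingCat.{u}) X)
  exact (ShortComplex.ShortExact.moduleCat_exact_iff_function_exact _).1 h

end

/-- Let C be a small category and O a presheaf of commutative rings on C. If 0 → F'' → F' → F → 0 is a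
short exact sequence of presheaves of O-modules whose right-hand term F is flat (the sectionwise
tensor product functor - ⊗_{p,O} F is exact), then for every presheaf of O-modules G the tensored
sequence 0 → F'' ⊗_{p,O} G → F' ⊗_{p,O} G → F ⊗_{p,O} G → 0 is short exact. The instance binder (the
functor - ⊗_{p,O} G preserves zero morphisms) always holds and is only needed to form the complex. -/
theorem result {C : Type u} [SmallCategory C] (O : Cᵒᵖ ⥤ CommRingCat.{u})
    (S : ShortComplex (PresheafOfModules.{u} (O ⋙ forget₂ CommRingCat.{u} RingCat.{u}))) (hS : S.ShortExact)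
    (hF : PreservesFiniteLimits (MonoidalCategory.tensorRight S.X₃) ∧ PreservesFiniteColimits (MonoidalCategory.tensorRight S.X₃))
    (G : PresheafOfModules.{u} (O ⋙ forget₂ CommRingCat.{u} RingCat.{u})) [(MonoidalCategory.tensorRight G).PreservesZeroMorphisms] :
    (S.map (MonoidalCategory.tensorRight G)).ShortExact := by
  haveI := hS.mono_f
  haveI := hS.epi_g
  haveI : PreservesFiniteColimits (MonoidalCategory.tensorRight G) := by
    have : PreservesColimitsOfSize.{u, u} (MonoidalCategory.tensorRight G) := inferInstance
    exact PreservesColimitsOfSize.preservesFiniteColimits _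
  haveI := hF.1
  -- exactness and epi from right exactness
  have hex : (S.map (MonoidalCategory.tensorRight G)).Exact :=
    hS.exact.map_of_epi_of_preservesCokernel (MonoidalCategory.tensorRight G) hS.epi_g inferInstance
  haveI hepi : Epi (S.map (MonoidalCategory.tensorRight G)).g := by
    change Epi ((MonoidalCategory.tensorRight G).map S.g)
    infer_instance
  -- mono: sectionwise
  haveI hmono : Mono (S.map (MonoidalCategory.tensorRight G)).f := by
    change Mono (S.f ▷ G)
    apply PresheafOfModules.mono_of_injective
    intro X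
    -- the presentation of `G`
    let T : ShortComplex (PresheafOfModules.{u} (O ⋙ forget₂ CommRingCat.{u} RingCat.{u})) :=
      ShortComplex.mk (kernel.ι (freeπ O G)) (freeπ O G) (kernel.condition _)
    have hT : T.Exact := ShortComplex.exact_of_f_is_kernel _ (kernelIsKernel _)
    have hTX := exact_app O hT X
    have hSX := exact_app O hS.exact X
    haveI : Mono (kernel.ι (freeπ O G) ▷ S.X₃) := by
      change Mono ((MonoidalCategory.tensorRight S.X₃).map (kernel.ι (freeπ O G)))
      infer_instance
    have hK := PresheafOfModules.injective_of_mono (kernel.ι (freeπ O G) ▷ S.X₃) X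
    haveI := freeP_flat O G X
    -- translate `hK` to `lTensor`
    have hi : Function.Injective
        (((kernel.ι (freeπ O G)).app X).hom.lTensor (S.X₃.obj X)) := by
      have hcomm := LinearMap.comm_comp_rTensor_comp_comm_eq (Q := S.X₃.obj X)
        ((kernel.ι (freeπ O G)).app X).hom
      rw [← hcomm]
      simp only [LinearMap.coe_comp, LinearEquiv.coe_coe]
      exact (LinearEquiv.injective _).comp (Function.Injective.comp hK (LinearEquiv.injective _))
    exact rTensor_injective_of_flat_quotient (S.f.app X).hom (S.g.app X).hom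
      (PresheafOfModules.injective_of_mono S.f X) hSX (PresheafOfModules.surjective_of_epi S.g X)
      ((kernel.ι (freeπ O G)).app X).hom ((freeπ O G).app X).hom hTX (freeπ_surjective O G X) hi
  exact ShortComplex.ShortExact.mk hex


end Groth.Agent.S9111
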