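import Groth.Statements.S9117
import Groth.Agent.Lib.Helper74.ModQc.TypeASerre
import Groth.Agent.S9115

set_option autoImplicit false
universe u
open CategoryTheory CategoryTheory.Limits Opposite
open ModSite

namespace Groth.Agent.S9117.Aux

open Groth.Agent.Lib.Helper74.ModQc Groth.Agent.Lib.Helper74.ModQc.TypeA

variable {C : Type u} [SmallCategory C] {J : GrothendieckTopology C}
  {O : Sheaf J CommRingCat.{u}} {B : Set C}

lemma IsTypeA.of_iso {F F' : ModSite.Mod O} (e : F ≅ F') (h : IsTypeA O B F') :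
    IsTypeA O B F := by
  obtain ⟨m, n, V, U, ψ, hV, hU, ⟨e'⟩⟩ := h
  exact ⟨m, n, V, U, ψ, hV, hU, ⟨e ≪≫ e'⟩⟩

lemma IsFF.isFP {R : ModSite.Mod O} (h : IsFF O B R) : IsFP O B R := by
  refine ⟨R, h, 𝟙 R, inferInstance, R, h, 0, ?_⟩
  have hz : IsZero (kernel (𝟙 R)) := isZero_kernel_of_mono _
  exact ⟨fun g g' _ => hz.eq_of_src g g'⟩

end Groth.Agent.S9117.Aux

namespace Groth.Agent.S9117

/-- Let (C, O) be a small ringed site with O commutative and B a set of objects of C such that every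
object has a covering family by members of B, each member of B is quasi-compact (its sheaf h_U^# is
a quasi-compact object of the topos), C has fibre products, and U₁ ×_U U₂ is quasi-compact for all
U, U₁, U₂ in B. Call an O-module of type A if it is isomorphic to Coker(⊕_{j≤m} j_{V_j!}O_{V_j} →
⊕_{i≤n} j_{U_i!}O_{U_i}) with finitely many Uᵢ, Vⱼ in B. If the kernel of every morphism ⊕_{j≤m}
j_{V_j!}O_{V_j} → ⊕_{i≤n} j_{U_i!}O_{U_i} with Uᵢ, Vⱼ in B is of type A, then the kernel of every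
morphism between modules of type A is of type A; together with closure under cokernels and
extensions this makes A a weak Serre subcategory of Mod(O). (The published setting involves only the
fibre products U₁ ×_U U₂ of two members of a covering family of U, which exist in its notion of
site; this row assumes that C has all fibre products and asks quasi-compactness of U₁ ×_U U₂ for all
maps U₁ → U, U₂ → U between members of B.) -/
theorem result {C : Type u} [SmallCategory C] {J : GrothendieckTopology C}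
    (O : Sheaf J CommRingCat.{u}) (B : Set C)
    (hB₁ : ∀ X : C, ∃ (κ : Type u) (Y : κ → C) (g : ∀ k, Y k ⟶ X), Sieve.ofArrows Y g ∈ J X ∧ ∀ k, Y k ∈ B)
    (hB₂ : ∀ U ∈ B, CohCx.IsQcObject ((presheafToSheaf J (Type u)).obj (yoneda.obj U)))
    [HasPullbacks C]
    (hB₃ : ∀ (U U₁ U₂ : C) (f₁ : U₁ ⟶ U) (f₂ : U₂ ⟶ U), U ∈ B → U₁ ∈ B → U₂ ∈ B →
      CohCx.IsQcObject ((presheafToSheaf J (Type u)).obj (yoneda.obj (pullback f₁ f₂))))
    (hker : ∀ (m n : ℕ) (V : Fin m → C) (U : Fin n → C)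
      (φ : (∐ fun j => ModSite.freeOn O (V j)) ⟶ ∐ fun i => ModSite.freeOn O (U i)),
      (∀ j, V j ∈ B) → (∀ i, U i ∈ B) → (∃ (m' n' : ℕ) (V' : Fin m' → C) (U' : Fin n' → C)
        (ψ : (∐ fun j => ModSite.freeOn O (V' j)) ⟶ ∐ fun i => ModSite.freeOn O (U' i)),
        (∀ j, V' j ∈ B) ∧ (∀ i, U' i ∈ B) ∧ Nonempty (kernel φ ≅ cokernel ψ)))
    (F G : ModSite.Mod O) (α : F ⟶ G)
    (hF : (∃ (m' n' : ℕ) (V' : Fin m' → C) (U' : Fin n' → C)
        (ψ : (∐ fun j => ModSite.freeOn O (V' j)) ⟶ ∐ fun i => ModSite.freeOn O (U' i)),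
        (∀ j, V' j ∈ B) ∧ (∀ i, U' i ∈ B) ∧ Nonempty (F ≅ cokernel ψ)))
    (hG : (∃ (m' n' : ℕ) (V' : Fin m' → C) (U' : Fin n' → C)
        (ψ : (∐ fun j => ModSite.freeOn O (V' j)) ⟶ ∐ fun i => ModSite.freeOn O (U' i)),
        (∀ j, V' j ∈ B) ∧ (∀ i, U' i ∈ B) ∧ Nonempty (G ≅ cokernel ψ))) :
    (∃ (m' n' : ℕ) (V' : Fin m' → C) (U' : Fin n' → C)
        (ψ : (∐ fun j => ModSite.freeOn O (V' j)) ⟶ ∐ fun i => ModSite.freeOn O (U' i)),
        (∀ j, V' j ∈ B) ∧ (∀ i, U' i ∈ B) ∧ Nonempty (kernel α ≅ cokernel ψ)) := by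
  open Groth.Agent.Lib.Helper74.ModQc.TypeA Groth.Agent.S9117.Aux in
  -- kernels of morphisms of finite free modules are of type A
  have hker' : ∀ {Q P : ModSite.Mod O} (ψ : Q ⟶ P), IsFF O B Q → IsFF O B P →
      IsTypeA O B (kernel ψ) := by
    intro Q P ψ hQ hP
    obtain ⟨m, V, hV, ⟨eQ⟩⟩ := hQ.exists_fin
    obtain ⟨n, U, hU, ⟨eP⟩⟩ := hP.exists_fin
    have h := hker m n V U (eQ.inv ≫ ψ ≫ eP.hom) hV hU
    refine IsTypeA.of_iso (kernel.mapIso ψ (eQ.inv ≫ ψ ≫ eP.hom) eQ eP ?_) h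
    rw [Iso.hom_inv_id_assoc]
  obtain ⟨P, Q, R, φ, c, hP, hQ, hR, ⟨e⟩⟩ := exists_kernel_presentation hB₁ hB₂ hB₃
    (fun ψ hQ hP => by
      obtain ⟨P', hP', p, hp, -⟩ := (hker' ψ hQ hP).isFP
      exact ⟨P', hP', p, hp⟩)
    α (IsTypeA.isFP hF) (IsTypeA.isFP hG)
  have h1 : IsTypeA O B (cokernel c) :=
    Groth.Agent.S9115.result O B hB₁ hB₂ R (kernel φ) c (IsFF.isFP hR).isTypeA (hker' φ hP hQ)
  exact IsTypeA.of_iso e h1

end Groth.Agent.S9117
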