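import Groth.Statements.S9121
import Mathlib

set_option autoImplicit false
universe u
open CategoryTheory CategoryTheory.Limits
open CohSite

namespace Groth.Agent.S9121

/-- Part (1): for the morphism of topoi f : Sh(C) → Sh(D) attached to a continuous functor u : D ⥤ C
between small sites whose induced pullback of sheaves of sets is exact (f_* is restriction along u):
if f_* transforms epimorphisms of sheaves of sets into epimorphisms, then f_* on abelian sheaves is
exact; being a right adjoint it preserves finite limits, and the statement is that it also preserves
finite colimits. -/
theorem result {C D : Type u} [SmallCategory C] [SmallCategory D]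
    (J : GrothendieckTopology C) (K : GrothendieckTopology D) (u : D ⥤ C) [u.IsContinuous K J]
    [PreservesFiniteLimits (u.sheafPullback (Type u) K J)]
    [(u.sheafPushforwardContinuous (Type u) K J).PreservesEpimorphisms] :
    PreservesFiniteColimits (u.sheafPushforwardContinuous AddCommGrpCat.{u} K J) := by
  let G := u.sheafPushforwardContinuous AddCommGrpCat.{u} K J
  have : PreservesFiniteLimits G := inferInstance
  have : G.Additive := Functor.additive_of_preserves_binary_products G
  have : G.PreservesEpimorphisms := by
    refine ⟨fun {A B} f hf => ?_⟩
    rw [← Sheaf.isLocallySurjective_iff_epi'] at hf ⊢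
    have h1 : Sheaf.IsLocallySurjective ((sheafCompose J (forget AddCommGrpCat.{u})).map f) :=
      inferInstance
    have h2 : Epi ((sheafCompose J (forget AddCommGrpCat.{u})).map f) := inferInstance
    have h3 : Epi ((u.sheafPushforwardContinuous (Type u) K J).map
        ((sheafCompose J (forget AddCommGrpCat.{u})).map f)) := inferInstance
    rw [← Sheaf.isLocallySurjective_iff_epi] at h3
    exact (Presheaf.isLocallySurjective_iff_whisker_forget K (G.map f).hom).2 h3
  have : G.PreservesHomology := G.preservesHomology_of_preservesEpis_and_kernels
  exact G.preservesFiniteColimits_of_preservesHomology

end Groth.Agent.S9121
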