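import Groth.Statements.S9129
import Groth.Agent.Lib.Helper29.DepthFlat2

set_option autoImplicit false
universe u
open CAlg

namespace Groth.Agent.S9129

/-- Suppose R → S is a flat local homomorphism between Noetherian local rings, with R Cohen–Macaulay.
Assume either that S is finite over R or that the Krull dimension of S is at most that of R. Then
the two rings have equal dimension and S is itself Cohen–Macaulay. -/
theorem result (R S : Type u) [CommRing R] [CommRing S]
    [LocCoh.IsCohenMacaulayLocalRing R] [IsNoetherianRing S] [IsLocalRing S] [Algebra R S]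
    [IsLocalHom (algebraMap R S)] [Module.Flat R S]
    (h : Module.Finite R S ∨ ringKrullDim S ≤ ringKrullDim R) :
    LocCoh.IsCohenMacaulayLocalRing S ∧ ringKrullDim R = ringKrullDim S := by
  open Groth.Agent.Lib.Helper29 in
  have hR : LocCoh.IsCohenMacaulayLocalRing R := inferInstance
  have hNR : IsNoetherianRing R := inferInstance
  have hLR : IsLocalRing R := inferInstance
  apply isCohenMacaulayLocalRing_of_flat_of_fibre_dim_zero R S hR
  rcases h with hfin | hle
  · exact ringKrullDim_fibre_eq_zero_of_finite R S
  · have h1 := ringKrullDim_eq_add_of_flat R S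
    rw [h1] at hle
    have hne : (IsLocalRing.maximalIdeal R).map (algebraMap R S) ≠ ⊤ :=
      ((IsLocalRing.map_maximalIdeal_le (algebraMap R S)).trans_lt
        (IsLocalRing.maximalIdeal.isMaximal S).lt_top).ne
    have : Nontrivial (S ⧸ (IsLocalRing.maximalIdeal R).map (algebraMap R S)) :=
      Ideal.Quotient.nontrivial_iff.mpr hne
    have h0 : (0 : WithBot ℕ∞) ≤
        ringKrullDim (S ⧸ (IsLocalRing.maximalIdeal R).map (algebraMap R S)) :=
      ringKrullDim_nonneg_of_nontrivial
    have hR0 : (0 : WithBot ℕ∞) ≤ ringKrullDim R := ringKrullDim_nonneg_of_nontrivial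
    have hRtop : ringKrullDim R ≠ ⊤ := ringKrullDim_ne_top
    generalize ringKrullDim (S ⧸ (IsLocalRing.maximalIdeal R).map (algebraMap R S)) = f at hle h0
    generalize ringKrullDim R = n at hle hR0 hRtop
    induction n with
    | bot => simp at hR0
    | coe n =>
      induction f with
      | bot => simp at h0
      | coe f =>
        have hn : n ≠ ⊤ := fun h => hRtop (by rw [h]; rfl)
        have h2 : n + f ≤ n := by exact_mod_cast hle
        obtain ⟨k, rfl⟩ := ENat.ne_top_iff_exists.mp hn
        induction f with
        | top => simp at h2
        | coe f =>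
          have : k + f ≤ k := by exact_mod_cast h2
          have : f = 0 := by omega
          rw [this]
          rfl

end Groth.Agent.S9129
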