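import Groth.Statements.S9130
import Groth.Agent.S9133

set_option autoImplicit false
universe u
open CAlg

namespace Groth.Agent.S9130

/-- Let A ⊆ B be domains with B of finite type over A and A Noetherian, and assume every element of B is
algebraic over A. For a height-one prime p of A, only finitely many primes of B lie over p and each
of them has height one. (The published statement assumes that Frac(B) is finite over Frac(A); this
row assumes B algebraic over A, which is equivalent for a finite type extension of domains.) -/
theorem result (A B : Type u) [CommRing A] [IsDomain A]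
    [IsNoetherianRing A] [CommRing B] [IsDomain B] [Algebra A B] [FaithfulSMul A B]
    [Algebra.FiniteType A B] [Algebra.IsAlgebraic A B] (p : Ideal A) [p.IsPrime]
    (hp : p.height = 1) :
    (p.primesOver B).Finite ∧ ∀ q ∈ p.primesOver B, q.height = 1 := by
  classical
  -- notation
  have hinjAB : Function.Injective (algebraMap A B) := FaithfulSMul.algebraMap_injective A B
  set M' : Submonoid B := Algebra.algebraMapSubmonoid B p.primeCompl with hM'
  have hM'le : M' ≤ nonZeroDivisors B := by
    rintro _ ⟨a, ha, rfl⟩
    apply mem_nonZeroDivisors_of_ne_zero
    intro h0
    have : a = 0 := hinjAB (by rw [h0, map_zero])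
    exact ha (this ▸ p.zero_mem)
  haveI : IsDomain (Localization M') := IsLocalization.isDomain_localization hM'le
  -- `Algebra S L`
  letI algSL : Algebra (Localization M') (FractionRing B) :=
    IsLocalization.localizationAlgebraOfSubmonoidLe (Localization M') (FractionRing B) M'
      (nonZeroDivisors B) hM'le
  haveI : IsScalarTower B (Localization M') (FractionRing B) :=
    IsLocalization.localization_isScalarTower_of_submonoid_le (Localization M') (FractionRing B) M'
      (nonZeroDivisors B) hM'le
  haveI : IsFractionRing (Localization M') (FractionRing B) :=
    IsFractionRing.isFractionRing_of_isDomain_of_isLocalization M' (Localization M') (FractionRing B)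
  -- `Algebra K L`
  haveI : FaithfulSMul A (FractionRing B) := by
    rw [faithfulSMul_iff_algebraMap_injective, IsScalarTower.algebraMap_eq A B (FractionRing B)]
    exact (IsFractionRing.injective B (FractionRing B)).comp hinjAB
  letI algKL : Algebra (FractionRing A) (FractionRing B) := FractionRing.liftAlgebra A (FractionRing B)
  haveI : IsScalarTower A (FractionRing A) (FractionRing B) :=
    FractionRing.isScalarTower_liftAlgebra A (FractionRing B)
  -- `Algebra R K`
  haveI : IsFractionRing (Localization.AtPrime p) (FractionRing A) :=
    IsFractionRing.isFractionRing_of_isDomain_of_isLocalization p.primeCompl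
      (Localization.AtPrime p) (FractionRing A)
  -- `Algebra R L`
  letI algRL : Algebra (Localization.AtPrime p) (FractionRing B) :=
    ((algebraMap (FractionRing A) (FractionRing B)).comp
      (algebraMap (Localization.AtPrime p) (FractionRing A))).toAlgebra
  haveI : IsScalarTower (Localization.AtPrime p) (FractionRing A) (FractionRing B) :=
    IsScalarTower.of_algebraMap_eq' rfl
  haveI : IsScalarTower (Localization.AtPrime p) (Localization M') (FractionRing B) := by
    apply IsScalarTower.of_algebraMap_eq'
    apply IsLocalization.ringHom_ext p.primeCompl
    ext a
    simp only [RingHom.comp_apply]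
    show algebraMap (FractionRing A) (FractionRing B)
        (algebraMap (Localization.AtPrime p) (FractionRing A) (algebraMap A _ a)) =
      algebraMap (Localization M') (FractionRing B)
        (algebraMap (Localization.AtPrime p) (Localization M') (algebraMap A _ a))
    rw [← IsScalarTower.algebraMap_apply A (Localization.AtPrime p) (FractionRing A),
      ← IsScalarTower.algebraMap_apply A (FractionRing A) (FractionRing B),
      ← IsScalarTower.algebraMap_apply A (Localization.AtPrime p) (Localization M'),
      IsScalarTower.algebraMap_apply A B (Localization M'),
      ← IsScalarTower.algebraMap_apply B (Localization M') (FractionRing B),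
      ← IsScalarTower.algebraMap_apply A B (FractionRing B)]
  -- finiteness of `L / K`
  haveI hAL : Algebra.IsAlgebraic A (FractionRing B) :=
    (IsFractionRing.isAlgebraic_iff' A B (FractionRing B)).mp inferInstance
  haveI : Algebra.IsAlgebraic (FractionRing A) (FractionRing B) :=
    IsFractionRing.comap_isAlgebraic_iff.mp hAL
  haveI : Algebra.EssFiniteType (FractionRing A) (FractionRing B) :=
    Algebra.EssFiniteType.of_comp A (FractionRing A) (FractionRing B)
  haveI : FiniteDimensional (FractionRing A) (FractionRing B) :=
    Algebra.finite_of_essFiniteType_of_isAlgebraic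
  have hdim : ringKrullDim (Localization.AtPrime p) = 1 := by
    rw [IsLocalization.AtPrime.ringKrullDim_eq_height p (Localization.AtPrime p), hp]; rfl
  obtain ⟨hmax, hfin, -⟩ := Groth.Agent.S9133.result (Localization.AtPrime p) (Localization M')
    (FractionRing A) (FractionRing B) hdim
    -- basic facts about primes over `p`
  have hp0 : p ≠ ⊥ := by
    intro h
    rw [h, Ideal.height_bot] at hp
    exact zero_ne_one hp
  have hdisj : ∀ q : Ideal B, q.under A = p → Disjoint (M' : Set B) (q : Set B) := by
    intro q hq
    rw [Set.disjoint_left]
    rintro _ ⟨a, ha, rfl⟩ hmem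
    apply ha
    rw [← hq]
    exact hmem
  have hover : ∀ q : Ideal B, q.IsPrime → q.under A = p →
      q.map (algebraMap B (Localization M')) ∈
        (IsLocalRing.maximalIdeal (Localization.AtPrime p)).primesOver (Localization M') := by
    intro q hqp hq
    have hd := hdisj q hq
    have hnp : (q.map (algebraMap B (Localization M'))).IsPrime :=
      IsLocalization.isPrime_of_isPrime_disjoint M' (Localization M') q hqp hd
    refine ⟨hnp, ⟨?_⟩⟩
    set m' := (q.map (algebraMap B (Localization M'))).under (Localization.AtPrime p) with hm'
    have h1 : m'.under A = p := by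
      rw [hm', Ideal.under_under,
        ← Ideal.under_under (B := B) (q.map (algebraMap B (Localization M'))),
        IsLocalization.under_map_of_isPrime_disjoint M' (Localization M') hqp hd, hq]
    rw [← IsLocalization.map_under p.primeCompl (Localization.AtPrime p) m', h1,
      Localization.AtPrime.map_eq_maximalIdeal]
  constructor
  · -- finiteness
    refine (hfin.image (fun n => n.under B)).subset ?_
    rintro q ⟨hqp, hq⟩
    have hq' : q.under A = p := hq.over.symm
    exact ⟨_, hover q hqp hq',
      IsLocalization.under_map_of_isPrime_disjoint M' (Localization M') hqp (hdisj q hq')⟩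
  · rintro q ⟨hqp, hq⟩
    have hq' : q.under A = p := hq.over.symm
    have hq0 : q ≠ ⊥ := by
      intro h
      apply hp0
      rw [← hq', h]
      exact (RingHom.injective_iff_ker_eq_bot _).mp hinjAB
    apply le_antisymm
    · rw [show (1 : ℕ∞) = ((1 : ℕ) : ℕ∞) from rfl, Ideal.height_le_iff]
      intro q' hq'p hlt
      suffices h : q' = ⊥ by
        rw [h, Ideal.height_bot]; exact zero_lt_one
      by_contra hne
      obtain ⟨x, hxq', hx0⟩ := Submodule.exists_mem_ne_zero_of_ne_bot hne
      have hc0 : q'.under A ≠ ⊥ :=
        Ideal.comap_ne_bot_of_algebraic_mem hx0 hxq' (Algebra.IsAlgebraic.isAlgebraic x)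
      have hcle : q'.under A ≤ p := by
        rw [← hq']; exact Ideal.comap_mono hlt.le
      haveI : (q'.under A).IsPrime := Ideal.comap_isPrime _ q'
      have hceq : q'.under A = p := by
        by_contra hne2
        have hlt2 : q'.under A < p := lt_of_le_of_ne hcle hne2
        have hbot : (⊥ : Ideal A) < q'.under A := bot_lt_iff_ne_bot.mpr hc0
        haveI : (⊥ : Ideal A).IsPrime := Ideal.isPrime_bot
        have h1 := Ideal.height_add_one_le_of_lt_of_isPrime hbot
        have h2 := Ideal.height_add_one_le_of_lt_of_isPrime hlt2
        have h3 : (1 : ℕ∞) ≤ (q'.under A).height := le_trans le_add_self h1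
        have h4 : (1 : ℕ∞) + 1 ≤ 1 := le_trans (add_le_add h3 le_rfl) (h2.trans hp.le)
        exact absurd h4 (by decide)
      have hn' := hover q' hq'p hceq
      have hn := hover q hqp hq'
      have hmax' := hmax _ hn'
      have hle : q'.map (algebraMap B (Localization M')) ≤ q.map (algebraMap B (Localization M')) :=
        Ideal.map_mono hlt.le
      have heq := hmax'.eq_of_le hn.1.ne_top hle
      have : q' = q := by
        rw [← IsLocalization.under_map_of_isPrime_disjoint M' (Localization M') hq'p (hdisj q' hceq),
          ← IsLocalization.under_map_of_isPrime_disjoint M' (Localization M') hqp (hdisj q hq'), heq]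
      exact hlt.ne this
    · haveI : (⊥ : Ideal B).IsPrime := Ideal.isPrime_bot
      have h1 := Ideal.height_add_one_le_of_lt_of_isPrime (bot_lt_iff_ne_bot.mpr hq0)
      exact le_trans le_add_self h1

end Groth.Agent.S9130
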