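import Mathlib
import Groth.Statements.S9132
-- import your own Groth.Agent.* helpers here

set_option autoImplicit false
universe u
open CAlg

namespace Groth.Agent.S9132

open IsLocalRing

/-- A Noetherian local domain R that is not a field is dominated by a Noetherian local ring R' of
dimension one lying between R and its fraction field, with R' essentially of finite type over R. -/
theorem result (R : Type u) [CommRing R] [IsDomain R]
    [IsNoetherianRing R] [IsLocalRing R] (hR : ¬ IsField R) :
    ∃ R' : Subalgebra R (FractionRing R), ∃ _ : IsLocalRing R',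
      IsNoetherianRing R' ∧ ringKrullDim R' = 1 ∧ IsLocalHom (algebraMap R R') ∧
        Algebra.EssFiniteType R R' := by
  classical
  let K := FractionRing R
  have hinj : Function.Injective (algebraMap R K) := IsFractionRing.injective R K
  obtain ⟨V, hV, hVloc⟩ := IsLocalRing.exists_factor_valuationRing (algebraMap R K)
  have hVlt : ∀ a ∈ maximalIdeal R, V.valuation (algebraMap R K a) < 1 := by
    intro a ha
    have h1 : ¬ IsUnit ((algebraMap R K).codRestrict V.toSubring hV a) := fun h =>
      ha (hVloc.map_nonunit a h)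
    exact (V.valuation_lt_one_iff ⟨algebraMap R K a, hV a⟩).mp h1
  obtain ⟨G, hG⟩ := (isNoetherianRing_iff_ideal_fg R).mp inferInstance (maximalIdeal R)
  have hm0 : maximalIdeal R ≠ ⊥ := fun h => hR ((IsLocalRing.isField_iff_maximalIdeal_eq).mpr h)
  have hGne : G.Nonempty := by
    rw [Finset.nonempty_iff_ne_empty]
    rintro rfl
    apply hm0
    rw [← hG]; simp
  obtain ⟨g₀, hg₀G, hg₀⟩ := Finset.exists_max_image G (fun g => V.valuation (algebraMap R K g)) hGne
  set y : K := algebraMap R K g₀ with hy
  have hGm : ∀ g ∈ G, g ∈ maximalIdeal R := fun g hg => by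
    rw [← hG]; exact Ideal.subset_span hg
  have hy0 : y ≠ 0 := by
    intro h
    apply hm0
    rw [← hG, Ideal.span_eq_bot]
    intro g hg
    have h1 := hg₀ g hg
    rw [h, map_zero] at h1
    have h2 : V.valuation (algebraMap R K g) = 0 := le_antisymm h1 zero_le
    rw [map_eq_zero] at h2
    exact hinj (by rw [h2, map_zero])
  have hylt : V.valuation y < 1 := hVlt g₀ (hGm g₀ hg₀G)
  let τ : R → K := fun g => algebraMap R K g / y
  have hτV : ∀ g ∈ G, τ g ∈ V := by
    intro g hg
    rw [← V.valuation_le_one_iff]
    simp only [τ, map_div₀]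
    exact div_le_one_of_le₀ (hg₀ g hg) zero_le
  let T : Finset K := G.image τ
  have hTV : ∀ t ∈ T, t ∈ V := by
    intro t ht
    obtain ⟨g, hg, rfl⟩ := Finset.mem_image.mp ht; exact hτV g hg
  let B : Subalgebra R K := Algebra.adjoin R (T : Set K)
  have hBV : ∀ b ∈ B, b ∈ V := by
    intro b hb
    induction hb using Algebra.adjoin_induction with
    | mem x hx => exact hTV x hx
    | algebraMap r => exact hV r
    | add x y _ _ hx hy => exact V.add_mem _ _ hx hy
    | mul x y _ _ hx hy => exact V.mul_mem _ _ hx hy
  have hTB : ∀ t ∈ T, t ∈ B := fun t ht => Algebra.subset_adjoin ht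
  have hBft : Algebra.FiniteType R B :=
    (Subalgebra.fg_iff_finiteType _).mp (Subalgebra.fg_adjoin_finset T)
  have hBN : IsNoetherianRing B := Algebra.FiniteType.isNoetherianRing R B
  let yB : B := algebraMap R B g₀
  have hyB : (yB : K) = y := rfl
  have hyB0 : yB ≠ 0 := by
    intro h
    apply hy0
    rw [← hyB, h]; rfl
  have hyBnu : ¬ IsUnit yB := by
    rintro ⟨u, hu⟩
    have h1 : y * ((u⁻¹ : Bˣ) : B) = 1 := by
      rw [← hyB, ← hu, ← Subalgebra.coe_mul, Units.mul_inv]; rfl
    have h2 : V.valuation y * V.valuation (((u⁻¹ : Bˣ) : B) : K) = 1 := by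
      rw [← map_mul, h1, map_one]
    have h3 : V.valuation (((u⁻¹ : Bˣ) : B) : K) ≤ 1 :=
      (V.valuation_le_one_iff _).mpr (hBV _ (Subtype.mem _))
    have h4 : V.valuation y * V.valuation (((u⁻¹ : Bˣ) : B) : K) < 1 :=
      mul_lt_one_of_nonneg_of_lt_one_left zero_le hylt h3
    exact absurd h2 h4.ne
  obtain ⟨J, hJmax, hJle⟩ := Ideal.exists_le_maximal (Ideal.span {yB})
    (by rw [Ne, Ideal.span_singleton_eq_top]; exact hyBnu)
  have hJprime : J.IsPrime := hJmax.isPrime
  obtain ⟨q, hqmin, -⟩ := Ideal.exists_minimalPrimes_le hJle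
  have hqprime : q.IsPrime := hqmin.1.1
  have hyq : yB ∈ q := hqmin.1.2 (Ideal.mem_span_singleton_self yB)
  have hq0 : q ≠ ⊥ := fun h => hyB0 (by rw [h, Ideal.mem_bot] at hyq; exact hyq)
  have hqht : q.height ≤ 1 :=
    Ideal.height_le_one_of_isPrincipal_of_mem_minimalPrimes (Ideal.span {yB}) q hqmin
  have hmq : ∀ a ∈ maximalIdeal R, algebraMap R B a ∈ q := by
    intro a ha
    have h1 : Ideal.map (algebraMap R B) (maximalIdeal R) ≤ q := by
      rw [← hG, Ideal.map_span, Ideal.span_le]
      rintro _ ⟨g, hg, rfl⟩
      have hτB : τ g ∈ B := hTB _ (Finset.mem_image_of_mem τ hg)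
      have : algebraMap R B g = ⟨τ g, hτB⟩ * yB := by
        apply Subtype.ext
        change algebraMap R K g = (algebraMap R K g / y) * y
        rw [div_mul_cancel₀ _ hy0]
      rw [this]
      exact q.mul_mem_left _ hyq
    exact h1 (Ideal.mem_map_of_mem _ ha)
  have hS : q.primeCompl ≤ nonZeroDivisors B := q.primeCompl_le_nonZeroDivisors
  let S' : Subalgebra B K := Localization.subalgebra K q.primeCompl hS
  have hloc : IsLocalization.AtPrime S' q := Localization.subalgebra.isLocalization_subalgebra K _ hS
  have hlocal : IsLocalRing S' := IsLocalization.AtPrime.isLocalRing S' q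
  have hN : IsNoetherianRing S' := IsLocalization.isNoetherianRing q.primeCompl S' hBN
  have hdim : ringKrullDim S' = 1 := by
    rw [IsLocalization.AtPrime.ringKrullDim_eq_height q S']
    have h1 : q.height ≠ 0 := fun h0 => hq0 (Ideal.height_eq_zero_iff_eq_bot.mp h0)
    have h2 : q.height = 1 := le_antisymm hqht (Order.one_le_iff_ne_zero.mpr h1)
    rw [h2]
    rfl
  have hlochom : IsLocalHom (algebraMap R S') := by
    constructor
    intro a ha
    by_contra hna
    have hmem : a ∈ maximalIdeal R := hna
    have h1 : algebraMap B S' (algebraMap R B a) ∈ maximalIdeal S' := by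
      rw [IsLocalization.AtPrime.to_map_mem_maximal_iff S' q]
      exact hmq a hmem
    have h2 : algebraMap R S' a = algebraMap B S' (algebraMap R B a) :=
      IsScalarTower.algebraMap_apply R B S' a
    rw [h2] at ha
    exact h1 ha
  have hess : Algebra.EssFiniteType R S' := by
    have h1 : Algebra.EssFiniteType B S' := Algebra.EssFiniteType.of_isLocalization S' q.primeCompl
    have h2 : Algebra.EssFiniteType R B := inferInstance
    exact Algebra.EssFiniteType.comp R B S'
  exact ⟨S'.restrictScalars R, hlocal, hN, hdim, hlochom, hess⟩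

end Groth.Agent.S9132
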