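import Groth.Statements.S9135
import Mathlib
import Groth.Agent.H46.QuasiFiniteMin

set_option autoImplicit false
universe u
open CAlg

namespace Groth.Agent.S9135

/-- Let R → S be of finite type and p a minimal prime of R over which only finitely many primes of S
lie. Then for some g ∈ R outside p the localized map R_g → S_g is finite. -/
theorem result (R S : Type u) [CommRing R] [CommRing S]
    [Algebra R S] [Algebra.FiniteType R S] (p : Ideal R) (hp : p ∈ minimalPrimes R)
    (hfin : (p.primesOver S).Finite) :
    ∃ g : R, g ∉ p ∧ (Localization.awayMap (algebraMap R S) g).Finite := by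
  have : p.IsPrime := hp.1.1
  have : Ring.KrullDimLE 0 (Localization.AtPrime p) :=
    Ring.KrullDimLE.of_isLocalization p hp (Localization.AtPrime p)
  have hnil : IsLocalRing.maximalIdeal (Localization.AtPrime p) ≤
      nilradical (Localization.AtPrime p) :=
    (Ring.KrullDimLE.nilradical_eq_maximalIdeal (Localization.AtPrime p)).ge
  have h1 : Module.Finite p.ResidueField (p.Fiber S) :=
    Groth.Agent.H46.finite_fiber_of_finite_primesOver p hfin
  have : Module.Finite (IsLocalRing.ResidueField (Localization.AtPrime p))
      (TensorProduct (Localization.AtPrime p) (IsLocalRing.ResidueField (Localization.AtPrime p))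
        (TensorProduct R (Localization.AtPrime p) S)) :=
    Module.Finite.equiv (Algebra.TensorProduct.cancelBaseChange R (Localization.AtPrime p)
      p.ResidueField p.ResidueField S).symm.toLinearEquiv
  have := Groth.Agent.H46.isIntegral_of_finite_residue_tensor
    (A := Localization.AtPrime p) (T := TensorProduct R (Localization.AtPrime p) S) hnil
  obtain ⟨g, hg, hfin⟩ :=
    Groth.Agent.H46.exists_finite_awayMap_of_forall_exists_isIntegral_smul (S := S) p.primeCompl
      (fun x => Groth.Agent.H46.exists_isIntegral_smul_of_isIntegral_tmul p.primeCompl
        (Localization.AtPrime p) x (Algebra.IsIntegral.isIntegral _))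
  exact ⟨g, hg, hfin⟩

end Groth.Agent.S9135
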