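import Groth.Statements.S9142
import Groth.Agent.Lib.Helper82.GCICM

set_option autoImplicit false
universe u
open Synt

namespace Groth.Agent.S9142

/-- A local complete intersection over a field is a Cohen–Macaulay ring. -/
theorem result (k S : Type u) [Field k] [CommRing S] [Algebra k S]
    (h : Synt.IsLCIOver k S) : LocCoh.IsCohenMacaulayRing S := by
  exact Groth.Agent.Lib.Helper82.GCICM.isCohenMacaulayRing_of_isLCIOver k S h

end Groth.Agent.S9142
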