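import Groth.Statements.S9143
import Groth.Agent.Lib.Helper82.CIEssFT

set_option autoImplicit false
universe u
open Synt

namespace Groth.Agent.S9143

/-- For a local k-algebra S which is essentially of finite type over a field k, being a complete
intersection over k is equivalent to each of: (2) whenever a regular local ring R, essentially of
finite type over k, maps onto S by a surjective k-algebra map, the kernel is generated by a regular
sequence; (3) some regular local ring R, essentially of finite type over k, maps onto S by a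
surjective k-algebra map whose kernel is generated by a list of dim R − dim S elements (stated as
dim R = dim S + the length of the list); (4) S is isomorphic over k to a localization at a prime of
a global complete intersection over k; (5) the same with a local complete intersection over k. -/
theorem result (k S : Type u) [Field k] [CommRing S]
    [IsLocalRing S] [Algebra k S] [Algebra.EssFiniteType k S] :
    (Synt.IsCIOver k S ↔
        ∀ (R : Type u) [CommRing R] [IsRegularLocalRing R] [Algebra k R], Algebra.EssFiniteType k R →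
          ∀ π : R →ₐ[k] S, Function.Surjective π →
            ∃ rs : List R, RingTheory.Sequence.IsRegular R rs ∧ RingHom.ker π.toRingHom = Ideal.ofList rs) ∧
      (Synt.IsCIOver k S ↔
        ∃ (R : Type u) (_ : CommRing R) (_ : IsRegularLocalRing R) (_ : Algebra k R),
          Algebra.EssFiniteType k R ∧ ∃ π : R →ₐ[k] S, Function.Surjective π ∧
            ∃ rs : List R, RingHom.ker π.toRingHom = Ideal.ofList rs ∧
              ringKrullDim R = ringKrullDim S + (rs.length : WithBot ℕ∞)) ∧
      (Synt.IsCIOver k S ↔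
        ∃ (A : Type u) (_ : CommRing A) (_ : Algebra k A) (a : Ideal A) (_ : a.IsPrime),
          Algebra.FiniteType k A ∧ Synt.IsGlobalCI k A ∧ Nonempty (S ≃ₐ[k] Localization.AtPrime a)) ∧
      (Synt.IsCIOver k S ↔
        ∃ (A : Type u) (_ : CommRing A) (_ : Algebra k A) (a : Ideal A) (_ : a.IsPrime),
          Synt.IsLCIOver k A ∧ Nonempty (S ≃ₐ[k] Localization.AtPrime a)) := by
  classical
  obtain ⟨n, I, q, hq, ⟨e⟩⟩ :=
    Groth.Agent.Lib.Helper82.CIEssFT.exists_algEquiv_localization_quotient k S
  obtain ⟨πL, hπL⟩ := Groth.Agent.Lib.Helper82.CIEssFT.exists_presentation (k := k) n I q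
  have hsurjπ : Function.Surjective (e.symm.toAlgHom.comp πL) := e.symm.surjective.comp hπL
  have hC1 : Synt.IsCIOver k S →
      ∃ (A : Type u) (_ : CommRing A) (_ : Algebra k A) (a : Ideal A) (_ : a.IsPrime),
        Algebra.FiniteType k A ∧ Synt.IsGlobalCI k A ∧
          Nonempty (S ≃ₐ[k] Localization.AtPrime a) := by
    intro h
    have h' : Synt.IsCIOver k (Localization.AtPrime q) :=
      Groth.Agent.Lib.Helper82.CIField.isCIOver_of_algEquiv k e h
    obtain ⟨g, hg, hG⟩ :=
      Groth.Agent.Lib.Helper82.CIField.exists_isGlobalCI_away_of_isCIOver_quotient n I q h'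
    have hP' := Groth.Agent.Lib.Helper82.CIField.map_isPrime_of_notMem q g hg
    obtain ⟨e2⟩ := Groth.Agent.Lib.Helper82.CIEssFT.nonempty_algEquiv_localization_away
      (k := k) q g hg
    exact ⟨Localization.Away g, inferInstance, inferInstance,
      q.map (algebraMap _ (Localization.Away g)), hP', inferInstance, hG, ⟨e.trans e2⟩⟩
  refine ⟨⟨?_, ?_⟩, ⟨?_, ?_⟩, ⟨hC1, ?_⟩, ⟨?_, ?_⟩⟩
  · intro h R _ _ _ _ π hπ
    exact Groth.Agent.Lib.Helper82.CIEssFT.forall_of_isCIOver S h R π hπ
  · intro H
    obtain ⟨rs, hreg, hker⟩ := H (Localization.AtPrime (q.comap (Ideal.Quotient.mk I)))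
      inferInstance (e.symm.toAlgHom.comp πL) hsurjπ
    exact Groth.Agent.Lib.Helper82.CIEssFT.isCIOver_of_presentation S _ inferInstance
      (e.symm.toAlgHom.comp πL) hsurjπ rs hreg hker
  · intro h
    obtain ⟨R, _, hR, _, hess, rs, hmem, hreg, ⟨e'⟩⟩ := h
    have hsurj : Function.Surjective
        (e'.symm.toAlgHom.comp (Ideal.Quotient.mkₐ k (Ideal.ofList rs))) :=
      e'.symm.surjective.comp (Ideal.Quotient.mkₐ_surjective k _)
    have hker : RingHom.ker (e'.symm.toAlgHom.comp
        (Ideal.Quotient.mkₐ k (Ideal.ofList rs))).toRingHom = Ideal.ofList rs := by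
      change RingHom.ker (((e'.symm : (R ⧸ Ideal.ofList rs) ≃+* S) :
        (R ⧸ Ideal.ofList rs) →+* S).comp (Ideal.Quotient.mk (Ideal.ofList rs))) = _
      rw [← RingEquiv.toRingHom_eq_coe, RingHom.ker_equiv_comp, Ideal.mk_ker]
    refine ⟨R, inferInstance, hR, inferInstance, hess,
      e'.symm.toAlgHom.comp (Ideal.Quotient.mkₐ k (Ideal.ofList rs)), hsurj, rs, hker, ?_⟩
    rw [← ringKrullDim_add_length_eq_ringKrullDim_of_isRegular rs hreg,
      ringKrullDim_eq_of_ringEquiv e'.toRingEquiv]
  · rintro ⟨R, _, hR, _, hess, π', hsurj, rs, hker, hdim⟩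
    have hCM := Groth.Agent.Lib.Helper28.isCohenMacaulayModule_self_of_isRegularLocalRing R
    have hne : RingHom.ker π'.toRingHom ≠ ⊤ := RingHom.ker_ne_top _
    have hmem : ∀ r ∈ rs, r ∈ IsLocalRing.maximalIdeal R := fun r hr =>
      IsLocalRing.le_maximalIdeal hne (hker ▸ Ideal.subset_span hr)
    have hdimQ : ringKrullDim (R ⧸ Ideal.ofList rs) = ringKrullDim S := by
      rw [ringKrullDim_eq_of_ringEquiv (Ideal.quotEquivOfEq hker.symm)]
      exact ringKrullDim_eq_of_ringEquiv (RingHom.quotientKerEquivOfSurjective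
        (f := π'.toRingHom) hsurj)
    have hreg : RingTheory.Sequence.IsRegular R rs :=
      Groth.Agent.Lib.Helper82.CMDim.isRegular_of_ringKrullDim_quotient_add_le hCM rs hmem
        (by rw [hdimQ, hdim])
    exact Groth.Agent.Lib.Helper82.CIEssFT.isCIOver_of_presentation S R hess π' hsurj rs hreg hker
  · rintro ⟨A, _, _, a, ha, hft, hG, ⟨e'⟩⟩
    exact Groth.Agent.Lib.Helper82.CIField.isCIOver_of_algEquiv k e'.symm
      (Groth.Agent.Lib.Helper82.CIField.isCIOver_localization_of_isGlobalCI hG a)
  · intro h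
    obtain ⟨A, _, _, a, ha, hft, hG, he'⟩ := hC1 h
    exact ⟨A, inferInstance, inferInstance, a, ha,
      Groth.Agent.Lib.Helper82.CIField.isLCIOver_of_isGlobalCI hG, he'⟩
  · rintro ⟨A, _, _, a, ha, hL, ⟨e'⟩⟩
    obtain ⟨g, hg, hG⟩ := hL.2 ⟨a, ha⟩
    exact Groth.Agent.Lib.Helper82.CIField.isCIOver_of_algEquiv k e'.symm
      (Groth.Agent.Lib.Helper82.CIField.isCIOver_of_isGlobalCI_away a g hg hG)

end Groth.Agent.S9143
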