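import Groth.Statements.S9153
-- import your own Groth.Agent.* helpers here
import Groth.Agent.Lib.Helper55.Catenary

set_option autoImplicit false
universe u
open CAlg

namespace Groth.Agent.S9153

open Groth.Agent.Lib.Helper55

/-- In a polynomial ring in finitely many variables over a field, every saturated chain of primes
between two primes p ⊆ q has length equal to the difference of their heights (stated additively:
length + height p = height q). -/
theorem result (k : Type u) [Field k] (n : ℕ)
    (s : LTSeries (PrimeSpectrum (MvPolynomial (Fin n) k)))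
    (hsat : ∀ i : Fin s.length, s (Fin.castSucc i) ⋖ s (Fin.succ i)) :
    (s.length : ℕ∞) + s.head.asIdeal.height = s.last.asIdeal.height := by
  have hnoeth : IsNoetherianRing (MvPolynomial (Fin n) k) := inferInstance
  have hdim : ringKrullDim (MvPolynomial (Fin n) k) = n := by
    rw [MvPolynomial.ringKrullDim_of_isNoetherianRing, ringKrullDim_eq_zero_of_field, zero_add,
      Nat.card_eq_fintype_card, Fintype.card_fin]
  have h1 := ringKrullDim_quotient_add_height k (MvPolynomial (Fin n) k) s.head.asIdeal
  have h2 := ringKrullDim_quotient_add_height k (MvPolynomial (Fin n) k) s.last.asIdeal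
  have h3 := ringKrullDim_quotient_head_eq_of_saturated k (MvPolynomial (Fin n) k) s hsat
  have hdom1 : IsDomain (MvPolynomial (Fin n) k ⧸ s.head.asIdeal) :=
    (Ideal.Quotient.isDomain_iff_prime _).mpr s.head.2
  have hdom2 : IsDomain (MvPolynomial (Fin n) k ⧸ s.last.asIdeal) :=
    (Ideal.Quotient.isDomain_iff_prime _).mpr s.last.2
  obtain ⟨a, ha, -⟩ := exists_ringKrullDim_eq_and_trdeg_eq k
    (MvPolynomial (Fin n) k ⧸ s.head.asIdeal)
  obtain ⟨b, hb, -⟩ := exists_ringKrullDim_eq_and_trdeg_eq k
    (MvPolynomial (Fin n) k ⧸ s.last.asIdeal)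
  obtain ⟨c, hc⟩ := ENat.ne_top_iff_exists.mp (Ideal.height_ne_top_of_isPrime (I := s.head.asIdeal))
  obtain ⟨e, he⟩ := ENat.ne_top_iff_exists.mp (Ideal.height_ne_top_of_isPrime (I := s.last.asIdeal))
  rw [ha, hdim, ← hc] at h1
  rw [hb, hdim, ← he] at h2
  rw [ha, hb] at h3
  rw [← hc, ← he]
  have e1 : a + c = n := by exact_mod_cast h1
  have e2 : b + e = n := by exact_mod_cast h2
  have e3 : a = b + s.length := by exact_mod_cast h3
  have e4 : s.length + c = e := by omega
  exact_mod_cast e4

end Groth.Agent.S9153
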