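import Groth.Statements.S9155
import Groth.Agent.Lib.Helper14.DiffOpEtaleExt

set_option autoImplicit false
universe u
open Diff16

namespace Groth.Agent.S9155

/-- A differential operator of order at most k between modules over B (relative to A → B) has exactly
one extension to the localized modules over S⁻¹B that is again a differential operator of order at
most k (relative to A → S⁻¹B), compatible with the localization maps. -/
theorem result (A B : Type u) [CommRing A] [CommRing B] [Algebra A B]
    (S : Submonoid B) (M N : Type u) [AddCommGroup M] [Module B M] [Module A M] [IsScalarTower A B M]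
    [AddCommGroup N] [Module B N] [Module A N] [IsScalarTower A B N] (k : ℕ) (D : M →ₗ[A] N)
    (hD : Diff16.IsDiffOpLE A B M N k D) :
    ∃! E : LocalizedModule S M →ₗ[A] LocalizedModule S N,
      Diff16.IsDiffOpLE A (Localization S) (LocalizedModule S M) (LocalizedModule S N) k E ∧
        E ∘ₗ (LocalizedModule.mkLinearMap S M).restrictScalars A =
          (LocalizedModule.mkLinearMap S N).restrictScalars A ∘ₗ D := by
  haveI : Algebra.FormallyEtale B (Localization S) := Algebra.FormallyEtale.of_isLocalization S
  obtain ⟨D', hD'1, hD'2⟩ := Groth.Agent.Lib.Helper14.exists_extension_of_formallyEtale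
    (R := A) (S := B) (S' := Localization S) k D hD
  let eM := LocalizedModule.equivTensorProduct S M
  let eN := LocalizedModule.equivTensorProduct S N
  have heM : ∀ m : M, eM (LocalizedModule.mkLinearMap S M m) = (1 : Localization S) ⊗ₜ[B] m := by
    intro m
    rw [← LinearEquiv.eq_symm_apply]
    have := LocalizedModule.equivTensorProduct_symm_apply_tmul (S := S) m (1 : B) (1 : S)
    rw [Localization.mk_one, one_smul] at this
    exact this.symm
  have heN : ∀ n : N, eN.symm ((1 : Localization S) ⊗ₜ[B] n) = LocalizedModule.mkLinearMap S N n := by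
    intro n
    have := LocalizedModule.equivTensorProduct_symm_apply_tmul (S := S) n (1 : B) (1 : S)
    rw [Localization.mk_one, one_smul] at this
    exact this
  have h0 : ∀ {X Y : Type u} [AddCommGroup X] [Module A X] [Module (Localization S) X]
      [IsScalarTower A (Localization S) X] [AddCommGroup Y] [Module A Y] [Module (Localization S) Y]
      [IsScalarTower A (Localization S) Y] (f : X →ₗ[Localization S] Y),
      Diff16.IsDiffOpLE A (Localization S) X Y 0 (f.restrictScalars A) := by
    intro X Y _ _ _ _ _ _ _ _ f
    rw [Groth.Agent.Lib.Helper14.isDiffOpLE_zero_iff]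
    intro b m
    exact map_smul f b m
  let E : LocalizedModule S M →ₗ[A] LocalizedModule S N :=
    (eN.symm.toLinearMap.restrictScalars A) ∘ₗ D' ∘ₗ (eM.toLinearMap.restrictScalars A)
  have hE : Diff16.IsDiffOpLE A (Localization S) (LocalizedModule S M) (LocalizedModule S N) k E := by
    have h1 := Groth.Agent.Lib.Helper14.isDiffOpLE_comp (h0 eM.toLinearMap) hD'1
    have h2 := Groth.Agent.Lib.Helper14.isDiffOpLE_comp h1 (h0 eN.symm.toLinearMap)
    rw [zero_add, add_zero] at h2
    exact h2
  have hEmk : ∀ m : M, E (LocalizedModule.mkLinearMap S M m) =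
      LocalizedModule.mkLinearMap S N (D m) := by
    intro m
    change eN.symm (D' (eM (LocalizedModule.mkLinearMap S M m))) = _
    rw [heM, hD'2, heN]
  refine ⟨E, ⟨hE, ?_⟩, ?_⟩
  · ext m
    exact hEmk m
  · rintro E₂ ⟨h1, h2⟩
    rw [← sub_eq_zero]
    refine Groth.Agent.Lib.Helper14.eq_zero_of_isDiffOpLE_of_vanish (S := B)
      (Set.range (LocalizedModule.mkLinearMap S M)) ?_ ?_ k _
      (Groth.Agent.Lib.Helper14.isDiffOpLE_sub h1 hE) ?_
    · rintro b _ ⟨m, rfl⟩
      refine ⟨b • m, ?_⟩
      rw [map_smul, algebraMap_smul]
    · rw [eq_top_iff]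
      rintro x -
      induction x using LocalizedModule.induction_on with
      | h m s =>
        have : LocalizedModule.mk m s =
            (Localization.mk (1 : B) s) • LocalizedModule.mkLinearMap S M m := by
          rw [LocalizedModule.mkLinearMap_apply, LocalizedModule.mk_smul_mk, one_smul, mul_one]
        rw [this]
        exact Submodule.smul_mem _ _ (Submodule.subset_span ⟨m, rfl⟩)
    · rintro _ ⟨m, rfl⟩
      have h3 := congrArg (fun f : M →ₗ[A] LocalizedModule S N => f m) h2
      simp only [LinearMap.comp_apply, LinearMap.restrictScalars_apply] at h3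
      rw [LinearMap.sub_apply, sub_eq_zero, h3, hEmk]

end Groth.Agent.S9155
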