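import Groth.Statements.S9156
import Groth.Agent.Lib.Helper82.CMDecomp

set_option autoImplicit false
universe u
open CAlg

namespace Groth.Agent.S9156

/-- A Cohen–Macaulay finite type algebra S over a field k decomposes as a finite product of k-algebras
S_0 × ⋯ × S_N in which every maximal ideal of the factor S_d has height d (so Spec S is a finite
disjoint union of equidimensional open and closed pieces). -/
theorem result (k S : Type u) [Field k] [CommRing S]
    [Algebra k S] [Algebra.FiniteType k S] [LocCoh.IsCohenMacaulayRing S] :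
    ∃ (N : ℕ) (T : Fin (N + 1) → Type u) (_ : ∀ d, CommRing (T d)) (_ : ∀ d, Algebra k (T d)),
      Nonempty (S ≃ₐ[k] ((d : Fin (N + 1)) → T d)) ∧
        ∀ (d : Fin (N + 1)) (m : Ideal (T d)), m.IsMaximal → m.height = (d : ℕ) := by
  classical
  obtain ⟨N, e, he, hht⟩ := Groth.Agent.Lib.Helper82.CMDecomp.exists_idempotents k S
  refine ⟨N, fun d => S ⧸ Ideal.span {1 - e d}, fun d => inferInstance, fun d => inferInstance,
    ⟨AlgEquiv.ofBijective (AlgHom.pi fun d => Ideal.Quotient.mkₐ k (Ideal.span {1 - e d}))
      he.bijective_pi⟩, ?_⟩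
  intro d m hm
  have hloc : IsLocalization.Away (e d) (S ⧸ Ideal.span {1 - e d}) :=
    IsLocalization.Away.quotient_of_isIdempotentElem (he.idem d)
  have h1 := IsLocalization.height_under (Submonoid.powers (e d)) m
  rw [← h1]
  have hmax : (m.under S).IsMaximal :=
    Ideal.comap_isMaximal_of_surjective _ Ideal.Quotient.mk_surjective
  apply hht d _ hmax
  intro hed
  have h2 : (1 - e d) ∈ m.under S := by
    rw [Ideal.under_def, Ideal.mem_comap]
    have : algebraMap S (S ⧸ Ideal.span {1 - e d}) (1 - e d) = 0 :=
      Ideal.Quotient.eq_zero_iff_mem.mpr (Ideal.mem_span_singleton_self _)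
    rw [this]
    exact zero_mem _
  have h3 : (1 : S) ∈ m.under S := by
    have := Ideal.add_mem _ hed h2
    rwa [add_sub_cancel] at this
  exact hmax.ne_top ((Ideal.eq_top_iff_one _).mpr h3)

end Groth.Agent.S9156
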