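import Groth.Statements.S9157
import Mathlib
import Groth.Agent.H46.LocFP

set_option autoImplicit false
universe u
open CAlg

namespace Groth.Agent.S9157

/-- If the localization S⁻¹M of an R-module M is finitely presented over S⁻¹R, then some finitely
presented R-module M' maps to M inducing an isomorphism S⁻¹M' → S⁻¹M. -/
theorem result (R : Type u) [CommRing R] (S : Submonoid R)
    (M : Type u) [AddCommGroup M] [Module R M]
    [Module.FinitePresentation (Localization S) (LocalizedModule S M)] :
    ∃ (M' : Type u) (_ : AddCommGroup M') (_ : Module R M') (φ : M' →ₗ[R] M),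
      Module.FinitePresentation R M' ∧ Function.Bijective (LocalizedModule.map S φ) := by
  classical
  obtain ⟨T, hT⟩ := (Module.Finite.fg_top : (⊤ : Submodule (Localization S) (LocalizedModule S M)).FG)
  have h1 : ∀ t : LocalizedModule S M, ∃ (m : M) (s : S), LocalizedModule.mk m s = t := by
    intro t
    induction t using LocalizedModule.induction_on with
    | _ m s => exact ⟨m, s, rfl⟩
  choose m s hms using h1
  let g : (T → R) →ₗ[R] M := Fintype.linearCombination R (fun t : T => m t.1)
  have hg : ∀ t : T, g (Pi.single t 1) = m t.1 := by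
    intro t
    simp [g, Fintype.linearCombination_apply_single]
  have hsurj : Function.Surjective (LocalizedModule.map S g) := by
    rw [← LinearMap.range_eq_top, eq_top_iff, ← hT, Submodule.span_le]
    intro t ht
    refine ⟨LocalizedModule.mk (Pi.single ⟨t, ht⟩ 1) (s t), ?_⟩
    rw [LocalizedModule.map_mk, hg, hms]
  have hker : (LinearMap.ker (LocalizedModule.map S g)).FG :=
    Module.FinitePresentation.fg_ker _ hsurj
  have hkereq : (LinearMap.ker g).localized' (Localization S) S (LocalizedModule.mkLinearMap S (T → R))
      = LinearMap.ker (LocalizedModule.map S g) :=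
    LinearMap.localized'_ker_eq_ker_localizedMap (Localization S) S
      (LocalizedModule.mkLinearMap S (T → R)) (LocalizedModule.mkLinearMap S M) g
  rw [← hkereq] at hker
  obtain ⟨K₀, hK₀le, hK₀fg, hK₀⟩ := Groth.Agent.H46.exists_fg_le_localized'_eq S (Localization S)
    (LocalizedModule.mkLinearMap S (T → R)) (LinearMap.ker g) hker
  refine ⟨(T → R) ⧸ K₀, inferInstance, inferInstance, K₀.liftQ g hK₀le, ?_, ?_, ?_⟩
  · exact Module.finitePresentation_of_free_of_surjective K₀.mkQ (Submodule.mkQ_surjective _)
      (by rwa [Submodule.ker_mkQ])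
  · rw [injective_iff_map_eq_zero]
    intro x hx
    induction x using LocalizedModule.induction_on with
    | _ q t =>
      obtain ⟨l, rfl⟩ := Submodule.Quotient.mk_surjective _ q
      rw [LocalizedModule.map_mk, Submodule.liftQ_apply] at hx
      have h2 : LocalizedModule.mk l t ∈ LinearMap.ker (LocalizedModule.map S g) := by
        rw [LinearMap.mem_ker, LocalizedModule.map_mk, hx]
      rw [← hkereq, ← hK₀] at h2
      obtain ⟨k, hk, s', hs'⟩ := h2
      rw [← IsLocalizedModule.mk_eq_mk', LocalizedModule.mk_eq] at hs'
      obtain ⟨u, hu⟩ := hs'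
      rw [← LocalizedModule.zero_mk 1, LocalizedModule.mk_eq]
      refine ⟨u * s', ?_⟩
      rw [smul_zero, smul_zero, one_smul, ← Submodule.Quotient.mk_smul,
        Submodule.Quotient.mk_eq_zero, mul_smul, ← hu]
      exact K₀.smul_mem _ (K₀.smul_mem _ hk)
  · intro y
    obtain ⟨x, rfl⟩ := hsurj y
    induction x using LocalizedModule.induction_on with
    | _ l t =>
      exact ⟨LocalizedModule.mk (Submodule.Quotient.mk l) t, by
        rw [LocalizedModule.map_mk, LocalizedModule.map_mk, Submodule.liftQ_apply]⟩

end Groth.Agent.S9157
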