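import Groth.Statements.S9159
import Groth.Agent.H46.MiracleQF

set_option autoImplicit false
universe u
open CAlg

namespace Groth.Agent.S9159

/-- Fix a field k, a k-algebra S of finite type, and a quasi-finite map of k-algebras k[y_1, …, y_d] →
S. A prime q of S has S_q flat over k[y_1, …, y_d] exactly when S_q is Cohen–Macaulay and Spec S has
local dimension d at q. -/
theorem result (k S : Type u) [Field k] [CommRing S]
    [Algebra k S] [Algebra.FiniteType k S] (d : ℕ) [Algebra (MvPolynomial (Fin d) k) S]
    [IsScalarTower k (MvPolynomial (Fin d) k) S] [Algebra.QuasiFinite (MvPolynomial (Fin d) k) S]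
    (q : Ideal S) [q.IsPrime] :
    Module.Flat (MvPolynomial (Fin d) k) (Localization.AtPrime q) ↔
      (LocCoh.IsCohenMacaulayLocalRing (Localization.AtPrime q) ∧
        FlatMor.localDim (PrimeSpectrum S) ⟨q, inferInstance⟩ = (d : WithBot ℕ∞)) := by
  classical
  have hlo : q.LiesOver (q.under (MvPolynomial (Fin d) k)) := ⟨rfl⟩
  let _ := Localization.AtPrime.algebraOfLiesOver (q.under (MvPolynomial (Fin d) k)) q
  have hsmP : Algebra.Smooth k (MvPolynomial (Fin d) k) := ⟨inferInstance, inferInstance⟩
  have hA : IsRegularLocalRing (Localization.AtPrime (q.under (MvPolynomial (Fin d) k))) :=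
    Groth.Agent.S1535.isRegularLocalRing_atPrime_of_smooth k (MvPolynomial (Fin d) k) _
  have hNS : IsNoetherianRing S := Algebra.FiniteType.isNoetherianRing k S
  have hNB : IsNoetherianRing (Localization.AtPrime q) :=
    IsLocalization.isNoetherianRing q.primeCompl _ inferInstance
  have hloc : IsLocalHom (algebraMap (Localization.AtPrime (q.under (MvPolynomial (Fin d) k)))
      (Localization.AtPrime q)) := by
    rw [Localization.AtPrime.IsLiesOverAlgebra.algebraMap_eq]
    exact Localization.isLocalHom_localRingHom _ _ _ _
  have h0 := Groth.Agent.H46.MiracleQF.ringKrullDim_fibRing_eq_zero (MvPolynomial (Fin d) k) S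
    (q.under (MvPolynomial (Fin d) k)) q
  have hdimq := Groth.Agent.H46.MiracleQF.ringKrullDim_quotient_eq_under k (MvPolynomial (Fin d) k) S q
  have hP := Groth.Agent.Lib.Helper55.ringKrullDim_quotient_add_height k (MvPolynomial (Fin d) k)
    (q.under (MvPolynomial (Fin d) k))
  have hdimP : ringKrullDim (MvPolynomial (Fin d) k) = d := by
    rw [MvPolynomial.ringKrullDim_of_isNoetherianRing, ringKrullDim_eq_zero_of_field]
    simp
  rw [hdimP] at hP
  have hloc_eq := Groth.Agent.Lib.Helper55.localDim_primeSpectrum_eq k S ⟨q, inferInstance⟩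
  have hdimA := IsLocalization.AtPrime.ringKrullDim_eq_height (q.under (MvPolynomial (Fin d) k))
    (Localization.AtPrime (q.under (MvPolynomial (Fin d) k)))
  have hdimB := IsLocalization.AtPrime.ringKrullDim_eq_height q (Localization.AtPrime q)
  obtain ⟨s, hs, -⟩ :=
    Groth.Agent.Lib.Helper55.exists_ringKrullDim_quotient_eq_and_trdeg_residueField_eq k
      (MvPolynomial (Fin d) k) (q.under (MvPolynomial (Fin d) k))
  rw [hs] at hdimq hP
  have hcancel : ∀ a b : ℕ∞, ((s : ℕ) : WithBot ℕ∞) + (a : WithBot ℕ∞) = (s : ℕ) + (b : WithBot ℕ∞) →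
      a = b := by
    intro a b h
    have h' : (((s : ℕ∞) + a : ℕ∞) : WithBot ℕ∞) = (((s : ℕ∞) + b : ℕ∞) : WithBot ℕ∞) := by
      push_cast; exact h
    have h'' := WithBot.coe_injective h'
    exact ENat.add_right_injective_of_ne_top (ENat.natCast_ne_top s) h''
  constructor
  · intro hflat
    have hflatAB : Module.Flat (Localization.AtPrime (q.under (MvPolynomial (Fin d) k)))
        (Localization.AtPrime q) :=
      (Module.flat_iff_of_isLocalization (R := MvPolynomial (Fin d) k)
        (S := Localization.AtPrime (q.under (MvPolynomial (Fin d) k)))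
        (p := (q.under (MvPolynomial (Fin d) k)).primeCompl) (Localization.AtPrime q)).mpr hflat
    have hdimAB := Groth.Agent.Lib.Helper55.ringKrullDim_eq_add_quotient_of_flat
      (algebraMap (Localization.AtPrime (q.under (MvPolynomial (Fin d) k))) (Localization.AtPrime q))
      (RingHom.flat_algebraMap_iff.mpr hflatAB)
    rw [h0, add_zero] at hdimAB
    have hdepth := Groth.Agent.Lib.Helper29.depth_self_eq_add_of_flat
      (Localization.AtPrime (q.under (MvPolynomial (Fin d) k))) (Localization.AtPrime q)
    have hCMA := Groth.Agent.Lib.Helper28.isCohenMacaulayLocalRing_of_isRegularLocalRing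
      (Localization.AtPrime (q.under (MvPolynomial (Fin d) k)))
    have hF0 : LocCoh.depth (EGA4.FibRing (Localization.AtPrime (q.under (MvPolynomial (Fin d) k)))
        (Localization.AtPrime q)) (EGA4.FibRing (Localization.AtPrime (q.under (MvPolynomial (Fin d) k)))
        (Localization.AtPrime q)) = 0 := by
      have h1 := Groth.Agent.Lib.Helper29.depth_le_supportDim
        (EGA4.FibRing (Localization.AtPrime (q.under (MvPolynomial (Fin d) k)))
          (Localization.AtPrime q))
        (EGA4.FibRing (Localization.AtPrime (q.under (MvPolynomial (Fin d) k)))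
          (Localization.AtPrime q))
      rw [Module.supportDim_self_eq_ringKrullDim] at h1
      have h0' : ringKrullDim (EGA4.FibRing (Localization.AtPrime (q.under (MvPolynomial (Fin d) k)))
          (Localization.AtPrime q)) = 0 := h0
      rw [h0'] at h1
      have h2 : (LocCoh.depth (EGA4.FibRing (Localization.AtPrime (q.under (MvPolynomial (Fin d) k)))
        (Localization.AtPrime q)) (EGA4.FibRing (Localization.AtPrime (q.under (MvPolynomial (Fin d) k)))
        (Localization.AtPrime q)) : ℕ∞) ≤ 0 := by exact_mod_cast h1
      exact le_antisymm h2 zero_le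
    have hht : q.height = (q.under (MvPolynomial (Fin d) k)).height := by
      have := hdimAB
      rw [hdimA, hdimB] at this
      exact_mod_cast this
    refine ⟨{ supportDim_eq_depth := ?_ }, ?_⟩
    · rw [Module.supportDim_self_eq_ringKrullDim, hdepth, hF0, add_zero, hdimAB,
        ← Module.supportDim_self_eq_ringKrullDim, hCMA.supportDim_eq_depth]
    · rw [hloc_eq, hdimq, ← hP, hht]
  · rintro ⟨hCM, hld⟩
    have hht : q.height = (q.under (MvPolynomial (Fin d) k)).height := by
      apply hcancel
      rw [hP, ← hld, hloc_eq, hdimq]
    have hdim : ringKrullDim (Localization.AtPrime q) =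
        ringKrullDim (Localization.AtPrime (q.under (MvPolynomial (Fin d) k))) +
        ringKrullDim (Localization.AtPrime q ⧸
          (IsLocalRing.maximalIdeal (Localization.AtPrime (q.under (MvPolynomial (Fin d) k)))).map
          (algebraMap (Localization.AtPrime (q.under (MvPolynomial (Fin d) k)))
            (Localization.AtPrime q))) := by
      rw [h0, add_zero, hdimA, hdimB, hht]
    have hflatAB : Module.Flat (Localization.AtPrime (q.under (MvPolynomial (Fin d) k)))
        (Localization.AtPrime q) := Groth.Agent.S2082.result hdim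
    have : Module.Flat (MvPolynomial (Fin d) k)
        (Localization.AtPrime (q.under (MvPolynomial (Fin d) k))) :=
      IsLocalization.flat _ (q.under (MvPolynomial (Fin d) k)).primeCompl
    exact Module.Flat.trans (MvPolynomial (Fin d) k)
      (Localization.AtPrime (q.under (MvPolynomial (Fin d) k))) (Localization.AtPrime q)

end Groth.Agent.S9159
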