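import Groth.Statements.S9163
import Mathlib

set_option autoImplicit false
universe u
open CAlg

namespace Groth.Agent.S9163

open Polynomial in
/-- If S is integral over R, then any finitely many elements of R and of S lie in a pair R₀ ⊆ R, S₀ ⊆ S
with R₀ a finite type ℤ-subalgebra, S₀ an R₀-subalgebra of S, and S₀ finite as an R₀-module; so R →
S is the directed colimit of finite maps between finite type ℤ-algebras. -/
theorem result (R S : Type u) [CommRing R] [CommRing S] [Algebra R S]
    [Algebra.IsIntegral R S] (E : Finset R) (F : Finset S) :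
    ∃ (R₀ : Subalgebra ℤ R) (S₀ : Subalgebra R₀ S), Algebra.FiniteType ℤ R₀ ∧ (E : Set R) ⊆ R₀ ∧
      (F : Set S) ⊆ S₀ ∧ Module.Finite R₀ S₀ := by
  classical
  -- monic polynomials
  have hint : ∀ y : S, ∃ p : R[X], p.Monic ∧ eval₂ (algebraMap R S) y p = 0 :=
    fun y => Algebra.IsIntegral.isIntegral (R := R) y
  choose p hpm hp0 using hint
  let T : Set R := (E : Set R) ∪ ⋃ y ∈ F, ((p y).coeffs : Set R)
  have hT : T.Finite := by
    refine (Finset.finite_toSet E).union ?_
    exact Set.Finite.biUnion (Finset.finite_toSet F) (fun y _ => Finset.finite_toSet _)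
  let R₀ : Subalgebra ℤ R := Algebra.adjoin ℤ T
  have hR₀ : Algebra.FiniteType ℤ R₀ := .adjoin_of_finite hT
  have hE : (E : Set R) ⊆ R₀ := fun x hx => Algebra.subset_adjoin (Or.inl hx)
  let S₀ : Subalgebra R₀ S := Algebra.adjoin R₀ (F : Set S)
  refine ⟨R₀, S₀, hR₀, hE, Algebra.subset_adjoin, ?_⟩
  -- each `y ∈ F` is integral over `R₀`
  have hy : ∀ y ∈ (F : Set S), IsIntegral R₀ y := by
    intro y hyF
    rcases subsingleton_or_nontrivial R with hR | hR
    · have : Subsingleton S := (algebraMap R S).codomain_trivial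
      exact ⟨1, monic_one, Subsingleton.elim _ _⟩
    have hl : p y ∈ lifts (algebraMap R₀ R) := by
      rw [lifts_iff_coeff_lifts]
      intro n
      by_cases hn : (p y).coeff n = 0
      · exact ⟨0, by simp [hn]⟩
      · have : (p y).coeff n ∈ (p y).coeffs := coeff_mem_coeffs hn
        have h2 : (p y).coeff n ∈ R₀ :=
          Algebra.subset_adjoin (Or.inr (Set.mem_biUnion hyF this))
        exact ⟨⟨_, h2⟩, rfl⟩
    obtain ⟨q, hq, -, hqm⟩ := lifts_and_degree_eq_and_monic hl (hpm y)
    refine ⟨q, hqm, ?_⟩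
    have := hp0 y
    rw [← hq, eval₂_map] at this
    exact this
  have := fg_adjoin_of_finite (Finset.finite_toSet F) hy
  exact Module.Finite.iff_fg.mpr this

end Groth.Agent.S9163
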