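import Groth.Statements.S9166
import Groth.Agent.H46.NilpBij

set_option autoImplicit false
universe u
open CAlg

namespace Groth.Agent.S9166

/-- Let I be an ideal of a ring R, S → S' a surjective homomorphism of R-algebras with S of finite type
and S' of finite presentation over R, and q a prime of S containing IS. Assume S'_q is flat over R
and that S_q/IS_q → S'_q/IS'_q is an isomorphism, which for a surjection says: every element of the
kernel of S → S' maps into I·S_q. Then for some g ∉ q the localized map S_g → S'_g is bijective. -/
theorem result (R S S' : Type u) [CommRing R] [CommRing S]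
    [CommRing S'] [Algebra R S] [Algebra R S'] [Algebra.FiniteType R S] [Algebra.FinitePresentation R S']
    (I : Ideal R) (f : S →ₐ[R] S') (hf : Function.Surjective f) (q : Ideal S) [q.IsPrime]
    (hq : I.map (algebraMap R S) ≤ q)
    (hker : ∀ j : S, f j = 0 →
      algebraMap S (Localization.AtPrime q) j ∈ I.map (algebraMap R (Localization.AtPrime q)))
    (hflat : letI : Module S S' := f.toRingHom.toModule
      Module.Flat R (LocalizedModule q.primeCompl S')) :
    ∃ g : S, g ∉ q ∧ Function.Bijective (Localization.awayMap f.toRingHom g) := by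
  classical
  letI modS : Module S S' := f.toRingHom.toModule
  have hflat' : Module.Flat R (LocalizedModule q.primeCompl S') := hflat
  have hsmul : ∀ (s : S) (x : S'), s • x = f s * x := fun s x => rfl
  haveI tow : IsScalarTower R S S' := ⟨fun r s x => by
    rw [hsmul, hsmul, map_smul, smul_mul_assoc]⟩
  let fS : S →ₗ[S] S' :=
    { toFun := f
      map_add' := map_add f
      map_smul' := fun s x => by
        rw [smul_eq_mul, map_mul, RingHom.id_apply, hsmul] }
  let F := LocalizedModule.map q.primeCompl fS
  have : IsScalarTower R (Localization q.primeCompl) (LocalizedModule q.primeCompl S') := inferInstance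
  let FR : Localization.AtPrime q →ₗ[R] LocalizedModule q.primeCompl S' := F.restrictScalars R
  have hFsurj : Function.Surjective FR := LocalizedModule.map_surjective q.primeCompl fS hf
  let Iq : Ideal (Localization.AtPrime q) := I.map (algebraMap R (Localization.AtPrime q))
  let J : Ideal S := RingHom.ker f.toRingHom
  let Jq : Ideal (Localization.AtPrime q) := J.map (algebraMap S (Localization.AtPrime q))
  have hkerF : ∀ y : Localization.AtPrime q, FR y = 0 → y ∈ Jq := by
    intro y hy
    induction y using LocalizedModule.induction_on with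
    | h s t =>
      have h1 : FR (LocalizedModule.mk s t) = LocalizedModule.mk (f s) t :=
        LocalizedModule.map_mk q.primeCompl fS s t
      rw [h1, ← LocalizedModule.zero_mk t, LocalizedModule.mk_eq] at hy
      obtain ⟨u, hu⟩ := hy
      simp only [smul_zero] at hu
      -- hu : u • t • f s = 0
      have hus : (u : S) * (t : S) * s ∈ J := by
        show f ((u : S) * (t : S) * s) = 0
        have : (u : S) • ((t : S) • f s) = 0 := hu
        rw [hsmul, hsmul] at this
        rw [map_mul, map_mul, mul_assoc]
        exact this
      have hunit : IsUnit (algebraMap S (Localization.AtPrime q) ((u : S) * (t : S))) :=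
        IsLocalization.map_units (Localization.AtPrime q) (u * t)
      have hmem : Localization.mk ((u : S) * (t : S) * s) t ∈ Jq := by
        rw [Localization.mk_eq_mk'_apply, IsLocalization.mk'_eq_mul_mk'_one]
        exact Ideal.mul_mem_right _ _ (Ideal.mem_map_of_mem _ hus)
      have hmul : algebraMap S (Localization.AtPrime q) ((u : S) * (t : S)) * Localization.mk s t =
          Localization.mk ((u : S) * (t : S) * s) t := by
        rw [Localization.mk_eq_mk'_apply, Localization.mk_eq_mk'_apply, ← IsLocalization.mk'_one (M := q.primeCompl)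
          (Localization.AtPrime q), ← IsLocalization.mk'_mul, one_mul]
      show Localization.mk s t ∈ Jq
      rw [← hmul] at hmem
      exact (Ideal.unit_mul_mem_iff_mem _ hunit).1 hmem
  have hJI : ∀ j ∈ J, algebraMap S (Localization.AtPrime q) j ∈ Iq * Jq := by
    intro j hj
    have hfj : f j = 0 := hj
    have hj0 : FR (algebraMap S (Localization.AtPrime q) j) = 0 := by
      have h1 : algebraMap S (Localization.AtPrime q) j = LocalizedModule.mk j 1 := by
        show _ = Localization.mk j 1
        rw [Localization.mk_eq_mk'_apply, IsLocalization.mk'_one]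
      rw [h1]
      have h2 : FR (LocalizedModule.mk j 1) = LocalizedModule.mk (f j) 1 :=
        LocalizedModule.map_mk q.primeCompl fS j 1
      rw [h2, hfj, LocalizedModule.zero_mk]
    have hjI : algebraMap S (Localization.AtPrime q) j ∈
        I • (⊤ : Submodule R (Localization.AtPrime q)) := by
      rw [Ideal.smul_top_eq_map]
      exact hker j hfj
    have h2 := Groth.Agent.H46.mem_smul_ker_of_flat_module I FR hFsurj _ hj0 hjI
    refine Submodule.smul_induction_on h2 ?_ ?_
    · intro a ha y hy
      rw [Algebra.smul_def]
      exact Ideal.mul_mem_mul (Ideal.mem_map_of_mem _ ha) (hkerF y hy)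
    · intro x y hx hy
      exact Ideal.add_mem _ hx hy
  have hJfg : J.FG := Groth.Agent.H46.ker_fg_of_finiteType_of_finitePresentation R S S' f hf
  have hJqfg : Jq.FG := hJfg.map _
  have hJq_le : Jq ≤ Iq • Jq := by
    rw [Ideal.map_le_iff_le_comap]
    intro j hj
    exact hJI j hj
  have hIq_le : Iq ≤ Ideal.jacobson ⊥ := by
    rw [IsLocalRing.jacobson_eq_maximalIdeal ⊥ bot_ne_top]
    have hIq : Iq = (I.map (algebraMap R S)).map (algebraMap S (Localization.AtPrime q)) := by
      rw [Ideal.map_map, ← IsScalarTower.algebraMap_eq]
    rw [hIq, ← Localization.AtPrime.map_eq_maximalIdeal]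
    exact Ideal.map_mono hq
  have hJq0 : Jq = ⊥ :=
    Submodule.eq_bot_of_le_smul_of_le_jacobson_bot Iq Jq hJqfg hJq_le hIq_le
  have hkill : ∀ j ∈ J, ∃ g : q.primeCompl, (g : S) * j = 0 := by
    intro j hj
    have h0 : algebraMap S (Localization.AtPrime q) j = 0 := by
      have : algebraMap S (Localization.AtPrime q) j ∈ Jq := Ideal.mem_map_of_mem _ hj
      rw [hJq0] at this
      exact this
    exact (IsLocalization.map_eq_zero_iff q.primeCompl (Localization.AtPrime q) j).1 h0
  obtain ⟨T, hT⟩ := hJfg
  have hTJ : ∀ t ∈ T, t ∈ J := fun t ht => hT ▸ Ideal.subset_span ht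
  choose! g hg using fun t (ht : t ∈ T) => hkill t (hTJ t ht)
  let G : S := ∏ t ∈ T, (g t : S)
  have hGq : G ∉ q := by
    have : G ∈ q.primeCompl := Submonoid.prod_mem _ (fun t _ => (g t).2)
    exact this
  have hGJ : ∀ j ∈ J, G * j = 0 := by
    intro j hj
    rw [← hT] at hj
    refine Submodule.span_induction ?_ ?_ ?_ ?_ hj
    · intro t ht
      have hdvd : (g t : S) ∣ G := Finset.dvd_prod_of_mem _ ht
      obtain ⟨c, hc⟩ := hdvd
      rw [hc, mul_comm (g t : S) c, mul_assoc, hg t ht, mul_zero]
    · rw [mul_zero]
    · intro x y _ _ hx hy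
      rw [mul_add, hx, hy, add_zero]
    · intro a x _ hx
      rw [smul_eq_mul, mul_left_comm, hx, mul_zero]
  refine ⟨G, hGq, ?_, ?_⟩
  · rw [Localization.awayMap_injective_iff]
    intro a ha
    exact ⟨1, by rw [pow_one]; exact hGJ a ha⟩
  · rw [Localization.awayMap_surjective_iff]
    intro a
    obtain ⟨b, rfl⟩ := hf a
    exact ⟨b, 0, by simp⟩

end Groth.Agent.S9166
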