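import Groth.Statements.S9167
import Mathlib
import Groth.Agent.H46.LocFP
import Groth.Agent.S9157

set_option autoImplicit false
universe u
open CAlg

namespace Groth.Agent.S9167

/-- With R' = S⁻¹(R/I), every finitely presented R'-module is of the form S⁻¹(M/IM) for some finitely
presented R-module M. -/
theorem result (R : Type u) [CommRing R] (I : Ideal R)
    (S : Submonoid R) (M' : Type u) [AddCommGroup M']
    [Module (Localization (S.map (Ideal.Quotient.mk I))) M']
    [Module.FinitePresentation (Localization (S.map (Ideal.Quotient.mk I))) M'] :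
    ∃ (M : Type u) (_ : AddCommGroup M) (_ : Module R M), Module.FinitePresentation R M ∧
      Nonempty (LocalizedModule (S.map (Ideal.Quotient.mk I)) (M ⧸ (I • ⊤ : Submodule R M))
        ≃ₗ[Localization (S.map (Ideal.Quotient.mk I))] M') := by
  let S' := S.map (Ideal.Quotient.mk I)
  let _ : Module (R ⧸ I) M' := Module.compHom M' (algebraMap (R ⧸ I) (Localization S'))
  have : IsScalarTower (R ⧸ I) (Localization S') M' :=
    IsScalarTower.of_algebraMap_smul fun r x => rfl
  have : IsLocalizedModule S' (LinearMap.id : M' →ₗ[R ⧸ I] M') :=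
    isLocalizedModule_id S' M' (Localization S')
  let e₀ : LocalizedModule S' M' ≃ₗ[Localization S'] M' :=
    (IsLocalizedModule.linearEquiv S' (LocalizedModule.mkLinearMap S' M')
      LinearMap.id).extendScalarsOfIsLocalization S' (Localization S')
  have : Module.FinitePresentation (Localization S') (LocalizedModule S' M') :=
    Module.FinitePresentation.of_equiv e₀.symm
  obtain ⟨M₁, _, _, φ, hfp, hbij⟩ := Groth.Agent.S9157.result (R ⧸ I) S' M'
  obtain ⟨M, _, _, hM, ⟨e₂⟩⟩ := Groth.Agent.H46.exists_finitePresentation_quotient_lift I M₁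
  refine ⟨M, inferInstance, inferInstance, hM, ⟨?_⟩⟩
  exact (IsLocalizedModule.mapEquiv S' (LocalizedModule.mkLinearMap S' _)
    (LocalizedModule.mkLinearMap S' _) (Localization S') e₂).trans
      ((LinearEquiv.ofBijective _ hbij).trans e₀)

end Groth.Agent.S9167
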