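import Groth.Statements.S9168
import Mathlib
import Groth.Agent.H46.LocSub

set_option autoImplicit false
universe u
open CAlg

namespace Groth.Agent.S9168

/-- For a local homomorphism of local rings R → S and finite subsets E ⊆ R, F ⊆ S there are local
subrings R₀ ⊆ R and S₀ ⊆ S containing E and F, with R → S mapping R₀ into S₀, such that the
inclusions and the induced map R₀ → S₀ are local homomorphisms, R₀ is essentially of finite type
over ℤ and S₀ is essentially of finite type over R₀. (So R → S is the directed colimit of such R₀ →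
S₀.) -/
theorem result (R S : Type u) [CommRing R] [CommRing S] [IsLocalRing R]
    [IsLocalRing S] [Algebra R S] [IsLocalHom (algebraMap R S)] (E : Finset R) (F : Finset S) :
    ∃ (R₀ : Subring R) (S₀ : Subring S) (h : ∀ x ∈ R₀, algebraMap R S x ∈ S₀),
      (E : Set R) ⊆ R₀ ∧ (F : Set S) ⊆ S₀ ∧ ∃ (_ : IsLocalRing R₀) (_ : IsLocalRing S₀),
        IsLocalHom R₀.subtype ∧ IsLocalHom S₀.subtype ∧
          IsLocalHom ((algebraMap R S).restrict R₀ S₀ h) ∧
          (algebraMap ℤ R₀).EssFiniteType ∧ ((algebraMap R S).restrict R₀ S₀ h).EssFiniteType := by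
  classical
  let A : Subring R := Subring.closure (Set.range (Int.castRingHom R) ∪ (E : Set R))
  let R₀ : Subring R := Groth.Agent.H46.locSubring A
  let ψ : R₀ →+* S := (algebraMap R S).comp R₀.subtype
  let B : Subring S := Subring.closure (Set.range ψ ∪ (F : Set S))
  let S₀ : Subring S := Groth.Agent.H46.locSubring B
  have h : ∀ x ∈ R₀, algebraMap R S x ∈ S₀ := fun x hx =>
    Groth.Agent.H46.le_locSubring B (Subring.subset_closure (Or.inl ⟨⟨x, hx⟩, rfl⟩))
  have hR₀ : IsLocalHom R₀.subtype := Groth.Agent.H46.isLocalHom_subtype_locSubring A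
  have hS₀ : IsLocalHom S₀.subtype := Groth.Agent.H46.isLocalHom_subtype_locSubring B
  have lR₀ : IsLocalRing R₀ := RingHom.domain_isLocalRing R₀.subtype
  have lS₀ : IsLocalRing S₀ := RingHom.domain_isLocalRing S₀.subtype
  refine ⟨R₀, S₀, h, ?_, ?_, lR₀, lS₀, hR₀, hS₀, ?_, ?_, ?_⟩
  · exact fun x hx => Groth.Agent.H46.le_locSubring A (Subring.subset_closure (Or.inr hx))
  · exact fun x hx => Groth.Agent.H46.le_locSubring B (Subring.subset_closure (Or.inr hx))
  · have hcomp : S₀.subtype.comp ((algebraMap R S).restrict R₀ S₀ h) = ψ := rfl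
    have : IsLocalHom (S₀.subtype.comp ((algebraMap R S).restrict R₀ S₀ h)) := by
      rw [hcomp]
      exact RingHom.isLocalHom_comp _ _
    exact isLocalHom_of_comp _ S₀.subtype
  · exact Groth.Agent.H46.essFiniteType_locSubring (Int.castRingHom R) E A rfl _
      (fun x => by simp)
  · exact Groth.Agent.H46.essFiniteType_locSubring ψ F B rfl _ (fun x => rfl)

end Groth.Agent.S9168
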