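import Groth.Statements.S9180
-- import your own Groth.Agent.* helpers here
import Groth.Agent.Lib.Helper55.FibLocRing
import Groth.Agent.Lib.Helper55.FieldExtLocalDim
import Groth.Agent.Lib.Helper55.GroupLocalDim
import Groth.Agent.S7589

set_option autoImplicit false
universe u
open CAlg

namespace Groth.Agent.S9180

open Groth.Agent.Lib.Helper55

section aux

open TensorProduct

variable (k S K : Type u) [Field k] [CommRing S] [Algebra k S] [Algebra.FiniteType k S]
  [Field K] [Algebra k K]

attribute [local instance] Algebra.TensorProduct.rightAlgebra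

theorem isNoetherianRing_tensor : IsNoetherianRing (S ⊗[k] K) :=
  have := finiteType_tensor_right k S K
  Algebra.FiniteType.isNoetherianRing K (S ⊗[k] K)

/-- Parts (1) and (2), for a prime `Q` of `S ⊗ K` and its contraction. -/
theorem fib_dim (Q : Ideal (S ⊗[k] K)) [Q.IsPrime] (r rK : ℕ)
    (hr : Algebra.trdeg k (Q.comap (algebraMap S (S ⊗[k] K))).ResidueField = r)
    (hrK : Algebra.trdeg K Q.ResidueField = rK) :
    ringKrullDim (EGA4.FibLocRing S (S ⊗[k] K) Q) +
        ringKrullDim (Localization.AtPrime (Q.comap (algebraMap S (S ⊗[k] K)))) =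
      ringKrullDim (Localization.AtPrime Q) ∧
    ringKrullDim (EGA4.FibLocRing S (S ⊗[k] K) Q) + (rK : WithBot ℕ∞) = (r : WithBot ℕ∞) := by
  have hNS : IsNoetherianRing S := Algebra.FiniteType.isNoetherianRing k S
  have hNB : IsNoetherianRing (S ⊗[k] K) := isNoetherianRing_tensor k S K
  have hftB : Algebra.FiniteType K (S ⊗[k] K) := finiteType_tensor_right k S K
  have h1 := ringKrullDim_fibLocRing_add S (S ⊗[k] K) Q
  refine ⟨by rw [h1, add_comm], ?_⟩
  set p := Q.comap (algebraMap S (S ⊗[k] K)) with hp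
  have h2 := localDim_tensor_field_eq k S K ⟨Q, inferInstance⟩
  rw [localDim_primeSpectrum_eq K (S ⊗[k] K) ⟨Q, inferInstance⟩, localDim_primeSpectrum_eq k S] at h2
  change ringKrullDim ((S ⊗[k] K) ⧸ Q) + (Q.height : WithBot ℕ∞) =
    ringKrullDim (S ⧸ p) + (p.height : WithBot ℕ∞) at h2
  obtain ⟨s, hs1, hs2⟩ := exists_ringKrullDim_quotient_eq_and_trdeg_residueField_eq k S p
  obtain ⟨t, ht1, ht2⟩ := exists_ringKrullDim_quotient_eq_and_trdeg_residueField_eq K (S ⊗[k] K) Q
  have hsr : s = r := by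
    have : ((s : ℕ) : Cardinal) = ((r : ℕ) : Cardinal) := by rw [← hs2, ← hr]
    exact_mod_cast this
  have htr : t = rK := by
    have : ((t : ℕ) : Cardinal) = ((rK : ℕ) : Cardinal) := by rw [← ht2, ← hrK]
    exact_mod_cast this
  obtain ⟨a, ha⟩ := Groth.Agent.S7589.exists_natCast_ringKrullDim (Localization.AtPrime p)
  have hA : (p.height : WithBot ℕ∞) = a := by
    rw [← IsLocalization.AtPrime.ringKrullDim_eq_height p (Localization.AtPrime p), ha]
  have hB : (Q.height : WithBot ℕ∞) =
      (a : WithBot ℕ∞) + ringKrullDim (EGA4.FibLocRing S (S ⊗[k] K) Q) := by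
    rw [← IsLocalization.AtPrime.ringKrullDim_eq_height Q (Localization.AtPrime Q), h1, ha]
  rw [hs1, ht1, hA, hB, hsr, htr] at h2
  apply withBot_enat_add_left_cancel a
  rw [add_comm (a : WithBot ℕ∞) (r : WithBot ℕ∞), ← h2]
  abel

omit [Field k] [CommRing S] [Algebra k S] [Algebra.FiniteType k S] [Field K] [Algebra k K] in
theorem eq_zero_of_add_le (a : ℕ) (c : WithBot ℕ∞) (e : ℕ∞)
    (h1 : (e : WithBot ℕ∞) = (a : WithBot ℕ∞) + c) (h2 : (e : WithBot ℕ∞) ≤ (a : WithBot ℕ∞)) :
    c = 0 := by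
  induction c using WithBot.recBotCoe with
  | bot =>
    rw [WithBot.add_bot] at h1
    exact absurd h1 WithBot.coe_ne_bot
  | coe m =>
    rw [h1] at h2
    have h3 : ((a : ℕ∞) : WithBot ℕ∞) + (m : WithBot ℕ∞) = (((a : ℕ∞) + m : ℕ∞) : WithBot ℕ∞) := by
      push_cast; rfl
    have h4 : ((a : ℕ∞) + m : ℕ∞) ≤ (a : ℕ∞) := by
      have : (((a : ℕ∞) + m : ℕ∞) : WithBot ℕ∞) ≤ ((a : ℕ∞) : WithBot ℕ∞) := by
        rw [← h3]; exact h2
      exact WithBot.coe_le_coe.mp this
    have hm : m = 0 := by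
      induction m using ENat.recTopCoe with
      | top => simp at h4
      | coe n =>
        have : a + n ≤ a := by exact_mod_cast h4
        have : n = 0 := by omega
        simp [this]
    rw [hm]
    rfl

/-- Part (3): a prime over `q` with zero-dimensional fibre local ring. -/
theorem exists_prime_fib_dim_zero (q : Ideal S) [q.IsPrime] :
    ∃ (q' : Ideal (S ⊗[k] K)) (_ : q'.IsPrime), q'.LiesOver q ∧
      ringKrullDim (EGA4.FibLocRing S (S ⊗[k] K) q') = 0 := by
  have hNS : IsNoetherianRing S := Algebra.FiniteType.isNoetherianRing k S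
  have hNB : IsNoetherianRing (S ⊗[k] K) := isNoetherianRing_tensor k S K
  have hne : q.map (algebraMap S (S ⊗[k] K)) ≠ ⊤ := by
    intro h
    have h1 := Ideal.comap_map_eq_self_of_faithfullyFlat (B := S ⊗[k] K) q
    rw [h, Ideal.comap_top] at h1
    exact ‹q.IsPrime›.ne_top h1.symm
  obtain ⟨q', hq'⟩ := Ideal.nonempty_minimalPrimes hne
  have hq'p : q'.IsPrime := hq'.1.1
  have hle : q ≤ q'.under S := Ideal.map_le_iff_le_comap.mp hq'.1.2
  have hover0 : q'.LiesOver (q'.under S) := ⟨rfl⟩
  have hup : (q'.under S).IsPrime := Ideal.comap_isPrime _ _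
  obtain ⟨Q'', hQ''le, hQ''p, hQ''over⟩ :=
    Ideal.exists_ideal_le_liesOver_of_le (S := S ⊗[k] K) (p := q) (q := q'.under S) q' hle
  have hqQ'' : q.map (algebraMap S (S ⊗[k] K)) ≤ Q'' := by
    rw [Ideal.map_le_iff_le_comap]
    exact hQ''over.over.le
  have hQ''eq : Q'' = q' := le_antisymm hQ''le (hq'.2 ⟨hQ''p, hqQ''⟩ hQ''le)
  have hover : q'.LiesOver q := hQ''eq ▸ hQ''over
  refine ⟨q', hq'p, hover, ?_⟩
  have h1 := ringKrullDim_fibLocRing_add S (S ⊗[k] K) q'
  have hcomap : q'.comap (algebraMap S (S ⊗[k] K)) = q := hover.over.symm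
  have hht := Ideal.height_le_height_add_of_liesOver q q'
  have hmin : q'.map (Ideal.Quotient.mk (q.map (algebraMap S (S ⊗[k] K)))) ∈
      minimalPrimes ((S ⊗[k] K) ⧸ q.map (algebraMap S (S ⊗[k] K))) := by
    have h3 := Ideal.minimalPrimes_map_of_surjective
      (f := Ideal.Quotient.mk (q.map (algebraMap S (S ⊗[k] K)))) Ideal.Quotient.mk_surjective
      (q.map (algebraMap S (S ⊗[k] K)))
    rw [Ideal.map_quotient_self, Ideal.mk_ker, sup_idem] at h3
    change _ ∈ (⊥ : Ideal _).minimalPrimes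
    rw [h3]
    exact ⟨q', hq', rfl⟩
  have hmp : (q'.map (Ideal.Quotient.mk (q.map (algebraMap S (S ⊗[k] K))))).IsPrime := hmin.1.1
  rw [Ideal.height_eq_zero_iff.mpr hmin, add_zero] at hht
  obtain ⟨a, ha⟩ := Groth.Agent.S7589.exists_natCast_ringKrullDim (Localization.AtPrime q)
  have hA : (q.height : WithBot ℕ∞) = a := by
    rw [← IsLocalization.AtPrime.ringKrullDim_eq_height q (Localization.AtPrime q), ha]
  have hB : (q'.height : WithBot ℕ∞) =
      (a : WithBot ℕ∞) + ringKrullDim (EGA4.FibLocRing S (S ⊗[k] K) q') := by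
    rw [← IsLocalization.AtPrime.ringKrullDim_eq_height q' (Localization.AtPrime q'), h1,
      IsLocalization.AtPrime.ringKrullDim_eq_height (q'.comap (algebraMap S (S ⊗[k] K)))
        (Localization.AtPrime (q'.comap (algebraMap S (S ⊗[k] K)))),
      congrArg Ideal.height hcomap, hA]
  have hle' : (q'.height : WithBot ℕ∞) ≤ (a : WithBot ℕ∞) := by
    rw [← hA]
    exact WithBot.coe_le_coe.mpr hht
  exact eq_zero_of_add_le a _ _ hB hle'

end aux

open TensorProduct in
/-- Let S be of finite type over a field k, K an extension field of k, S_K = S ⊗_k K, q a prime of S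
whose residue field has transcendence degree r over k, and q_K a prime of S_K lying over q whose
residue field has transcendence degree r_K over K. Then the local ring at q_K of the fibre of S →
S_K over q has dimension dim (S_K)_{q_K} − dim S_q = r − r_K (stated additively), and there is a
prime of S_K over q for which this dimension is zero. -/
theorem result (k S K : Type u) [Field k] [CommRing S] [Algebra k S]
    [Algebra.FiniteType k S] [Field K] [Algebra k K] (q : Ideal S) [q.IsPrime] (r : ℕ)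
    (hr : Algebra.trdeg k q.ResidueField = r) (qK : Ideal (S ⊗[k] K)) [qK.IsPrime] [qK.LiesOver q]
    (rK : ℕ)
    (hrK : letI : Algebra K (S ⊗[k] K) := Algebra.TensorProduct.rightAlgebra
      Algebra.trdeg K qK.ResidueField = rK) :
    ringKrullDim (EGA4.FibLocRing S (S ⊗[k] K) qK) + ringKrullDim (Localization.AtPrime q) =
        ringKrullDim (Localization.AtPrime qK) ∧
      ringKrullDim (EGA4.FibLocRing S (S ⊗[k] K) qK) + (rK : WithBot ℕ∞) = (r : WithBot ℕ∞) ∧
      ∃ (q' : Ideal (S ⊗[k] K)) (_ : q'.IsPrime), q'.LiesOver q ∧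
        ringKrullDim (EGA4.FibLocRing S (S ⊗[k] K) q') = 0 := by
  have hq : q = qK.comap (algebraMap S (S ⊗[k] K)) := Ideal.LiesOver.over
  subst hq
  obtain ⟨h1, h2⟩ := fib_dim k S K qK r rK hr hrK
  exact ⟨h1, h2, exists_prime_fib_dim_zero k S K _⟩

end Groth.Agent.S9180
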