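import Groth.Statements.S9182
import Groth.Agent.Lib.Helper73.CotLoc

set_option autoImplicit false
universe u
open CAlg

namespace Groth.Agent.S9182

/-- For presentations α : R[x_1, …, x_n] → S and β : R[y_1, …, y_m] → S_g (g ∈ S) with kernels I and J,
the S_g-modules (I/I²)_g ⊕ S_g^m and J/J² ⊕ S_g^n are isomorphic. -/
theorem result (R S : Type u) [CommRing R] [CommRing S] [Algebra R S]
    (g : S) (n m : ℕ) (α : MvPolynomial (Fin n) R →ₐ[R] S) (hα : Function.Surjective α)
    (β : MvPolynomial (Fin m) R →ₐ[R] Localization.Away g) (hβ : Function.Surjective β) :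
    Nonempty ((LocalizedModule (Submonoid.powers g) (Algebra.Extension.ofSurjective α hα).Cotangent ×
        (Fin m → Localization.Away g)) ≃ₗ[Localization.Away g]
      ((Algebra.Extension.ofSurjective β hβ).Cotangent × (Fin n → Localization.Away g))) := by
  obtain ⟨e⟩ := Groth.Agent.Lib.Helper73.CotLoc.nonempty_tensor_cotangent_prod_free_linearEquiv
    (Localization.Away g) α hα β hβ (Submonoid.powers g)
  let e₀ := (IsLocalizedModule.isBaseChange (Submonoid.powers g) (Localization.Away g)
    (LocalizedModule.mkLinearMap (Submonoid.powers g)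
      (Algebra.Extension.ofSurjective α hα).Cotangent)).equiv
  exact ⟨(e₀.symm.prodCongr (LinearEquiv.refl _ _)) ≪≫ₗ e⟩

end Groth.Agent.S9182
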