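import Groth.Statements.S9185
import Groth.Agent.H46.DiffOpUniv

set_option autoImplicit false
universe u
open Diff16

namespace Groth.Agent.S9185

/-- For a ring map R → S, an S-module M and k ≥ 0 there is an S-module P together with a differential
operator D : M → P of order at most k (relative to R → S) such that every differential operator of
order at most k from M to an S-module N is α ∘ D for a unique S-linear map α : P → N; that is,
differential operators of order ≤ k out of M are represented by P. (Target modules N are taken in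
the same universe.) -/
theorem result (R S : Type u) [CommRing R] [CommRing S] [Algebra R S] (M : Type u)
    [AddCommGroup M] [Module S M] [Module R M] [IsScalarTower R S M] (k : ℕ) :
    ∃ (P : Type u) (_ : AddCommGroup P) (_ : Module S P) (_ : Module R P) (_ : IsScalarTower R S P)
      (D : M →ₗ[R] P), Diff16.IsDiffOpLE R S M P k D ∧
        ∀ (N : Type u) [AddCommGroup N] [Module S N] [Module R N] [IsScalarTower R S N] (D' : M →ₗ[R] N),
          Diff16.IsDiffOpLE R S M N k D' → ∃! α : P →ₗ[S] N, α.restrictScalars R ∘ₗ D = D' := by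
  classical
  let T := TensorProduct R S M
  let K : Submodule S T := ⨆ (l : {l : List S // l.length = k + 1}),
    LinearMap.range (Groth.Agent.H46.DiffOp.τs (R := R) (M := M) l.1)
  let ι : M →ₗ[R] T := (TensorProduct.mk R S M 1)
  let D : M →ₗ[R] (T ⧸ K) := (K.mkQ.restrictScalars R) ∘ₗ ι
  have hlift : LinearMap.liftBaseChange S D = K.mkQ := by
    apply TensorProduct.AlgebraTensorModule.ext
    intro s m
    simp only [LinearMap.liftBaseChange_tmul]
    show s • K.mkQ ((1 : S) ⊗ₜ[R] m) = K.mkQ (s ⊗ₜ[R] m)
    rw [← map_smul, TensorProduct.smul_tmul', smul_eq_mul, mul_one]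
  refine ⟨T ⧸ K, inferInstance, inferInstance, inferInstance, inferInstance, D, ?_, ?_⟩
  · rw [Groth.Agent.H46.DiffOp.isDiffOpLE_iff]
    intro l hl
    rw [hlift]
    refine LinearMap.ext fun x => ?_
    have hx : Groth.Agent.H46.DiffOp.τs (R := R) (M := M) l x ∈ K :=
      (le_iSup (fun (l : {l : List S // l.length = k + 1}) =>
        LinearMap.range (Groth.Agent.H46.DiffOp.τs (R := R) (M := M) l.1)) ⟨l, hl⟩) ⟨x, rfl⟩
    show K.mkQ (Groth.Agent.H46.DiffOp.τs (R := R) (M := M) l x) = 0
    simpa using hx
  · intro N _ _ _ _ D' hD'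
    rw [Groth.Agent.H46.DiffOp.isDiffOpLE_iff] at hD'
    have hK : K ≤ LinearMap.ker (LinearMap.liftBaseChange S D') := by
      refine iSup_le ?_
      rintro ⟨l, hl⟩ _ ⟨x, rfl⟩
      exact LinearMap.congr_fun (hD' l hl) x
    refine ⟨K.liftQ (LinearMap.liftBaseChange S D') hK, ?_, ?_⟩
    · ext m
      show (LinearMap.liftBaseChange S D') ((1 : S) ⊗ₜ[R] m) = D' m
      rw [LinearMap.liftBaseChange_tmul, one_smul]
    · intro α hα
      apply Submodule.linearMap_qext
      apply TensorProduct.AlgebraTensorModule.ext
      intro s m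
      have h1 := LinearMap.congr_fun hα m
      simp only [LinearMap.comp_apply, Submodule.liftQ_mkQ] at h1 ⊢
      simp only [LinearMap.liftBaseChange_tmul]
      have h2 : α (K.mkQ ((1 : S) ⊗ₜ[R] m)) = D' m := h1
      have h3 : s ⊗ₜ[R] m = s • ((1 : S) ⊗ₜ[R] m) := by
        rw [TensorProduct.smul_tmul', smul_eq_mul, mul_one]
      rw [h3, map_smul, map_smul, h2]

end Groth.Agent.S9185
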