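import Groth.Statements.S9207
-- import your own Groth.Agent.* helpers here

set_option autoImplicit false
universe u
open CategoryTheory CategoryTheory.Limits AlgebraicGeometry
open Lim

open CategoryTheory CategoryTheory.Limits AlgebraicGeometry

namespace Groth.Agent.S9207

variable {I : Type u} [SmallCategory I] (D : I ⥤ Scheme.{u}) (c : Limits.Cone D)
  (i : I) {T : Scheme.{u}} (a : T ⟶ D.obj i)

set_option backward.isDefEq.respectTransparency false in
/-- the diagram of pullbacks `S_j ×_{S_i} T`. -/
noncomputable def F : Over i ⥤ Scheme.{u} where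
  obj j := pullback (D.map j.hom) a
  map {j k} f := pullback.lift (pullback.fst (D.map j.hom) a ≫ D.map f.left)
    (pullback.snd (D.map j.hom) a)
    (by rw [Category.assoc, ← D.map_comp, Over.w f, pullback.condition])
  map_id j := by apply pullback.hom_ext <;> simp
  map_comp f g := by apply pullback.hom_ext <;> simp

set_option backward.isDefEq.respectTransparency false in
noncomputable def α : F D i a ⟶ Over.forget i ⋙ D where
  app j := pullback.fst (D.map j.hom) a
  naturality j k f := by simp [F]

set_option backward.isDefEq.respectTransparency false in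
noncomputable def cF : Cone (F D i a) where
  pt := pullback (c.π.app i) a
  π :=
  { app j := pullback.lift (pullback.fst (c.π.app i) a ≫ c.π.app j.left)
      (pullback.snd (c.π.app i) a)
      (by rw [Category.assoc, Cone.w, pullback.condition])
    naturality j k f := by
      apply pullback.hom_ext <;> simp [F] }

set_option backward.isDefEq.respectTransparency false in
noncomputable def fF : (Cone.postcompose (α D i a)).obj (cF D c i a) ⟶ c.whisker (Over.forget i) where
  hom := pullback.fst (c.π.app i) a
  w j := by simp [cF, α]

set_option backward.isDefEq.respectTransparency false in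
theorem hf (j : Over i) : IsPullback ((cF D c i a).π.app j) (fF D c i a).hom ((α D i a).app j)
    ((c.whisker (Over.forget i)).π.app j) := by
  have s : IsPullback (pullback.snd (c.π.app i) a) (pullback.fst (c.π.app i) a) a (c.π.app i) :=
    (IsPullback.of_hasPullback (c.π.app i) a).flip
  have t : IsPullback (pullback.snd (D.map j.hom) a) (pullback.fst (D.map j.hom) a) a
      (D.map j.hom) := (IsPullback.of_hasPullback (D.map j.hom) a).flip
  have e1 : (cF D c i a).π.app j ≫ pullback.snd (D.map j.hom) a = pullback.snd (c.π.app i) a := by
    simp [cF]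
  have e2 : c.π.app j.left ≫ D.map j.hom = c.π.app i := by simp
  have s' : IsPullback ((cF D c i a).π.app j ≫ pullback.snd (D.map j.hom) a)
      (pullback.fst (c.π.app i) a) a (c.π.app j.left ≫ D.map j.hom) := by
    rw [e1, e2]; exact s
  exact IsPullback.of_right s' (by simp [cF, fF, α]) t

attribute [local instance] CategoryTheory.isConnected_of_hasTerminal

noncomputable def hcF [IsCofiltered I] (hc : IsLimit c) : IsLimit (cF D c i a) :=
  isLimitOfIsPullbackOfIsConnected (α D i a) (cF D c i a) (c.whisker (Over.forget i))
    (fF D c i a) (hf D c i a)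
    ((Functor.Initial.isLimitWhiskerEquiv (Over.forget i) c).symm hc)

set_option backward.isDefEq.respectTransparency false in
theorem F_map_snd {j k : Over i} (f : j ⟶ k) :
    (F D i a).map f ≫ pullback.snd (D.map k.hom) a = pullback.snd (D.map j.hom) a := by
  simp [F]

set_option backward.isDefEq.respectTransparency false in
theorem isAffineHom_F_map [∀ (i j : I) (f : i ⟶ j), IsAffineHom (D.map f)] {j k : Over i}
    (f : j ⟶ k) : IsAffineHom ((F D i a).map f) := by
  have h1 : IsAffineHom (pullback.snd (D.map k.hom) a) :=
    MorphismProperty.pullback_snd _ _ inferInstance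
  have h2 : IsAffineHom (pullback.snd (D.map j.hom) a) :=
    MorphismProperty.pullback_snd _ _ inferInstance
  have h3 : IsAffineHom ((F D i a).map f ≫ pullback.snd (D.map k.hom) a) := by
    rw [F_map_snd]; exact h2
  exact IsAffineHom.of_comp _ (pullback.snd (D.map k.hom) a)

theorem main [IsCofiltered I] (hc : IsLimit c)
    [∀ (i j : I) (f : i ⟶ j), IsAffineHom (D.map f)] [CompactSpace T]
    (h : IsEmpty ↥(pullback a (c.π.app i))) :
    ∃ (i' : I) (φ : i' ⟶ i), IsEmpty ↥(pullback a (D.map φ)) := by
  by_contra H
  push Not at H
  have hne : ∀ j : Over i, Nonempty ((F D i a).obj j) := by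
    intro j
    have := H j.left j.hom
    exact this.map (pullbackSymmetry a (D.map j.hom)).hom
  have hcpt : ∀ j : Over i, CompactSpace ((F D i a).obj j) := by
    intro j
    change CompactSpace ↥(pullback (D.map j.hom) a)
    infer_instance
  have haff : ∀ {j k : Over i} (f : j ⟶ k), IsAffineHom ((F D i a).map f) :=
    fun f => isAffineHom_F_map D i a f
  have : Nonempty (cF D c i a).pt := Scheme.nonempty_of_isLimit (F D i a) (cF D c i a) (hcF D c i a hc)
  obtain ⟨x⟩ := this
  exact h.elim ((pullbackSymmetry (c.π.app i) a).hom x)

end Groth.Agent.S9207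


namespace Groth.Agent.S9207

/-- Let S = lim S_i be a cofiltered limit of quasi-compact quasi-separated schemes with affine
transition morphisms, let i be an index and T → S_i a morphism of schemes with T quasi-compact. If
the fibre product T ×_{S_i} S is empty, then T ×_{S_i} S_{i'} is empty for some index i' over i (and
then for every index over i'). -/
theorem result {I : Type u} [SmallCategory I] [IsCofiltered I]
    (D : I ⥤ Scheme.{u}) (c : Limits.Cone D) (hc : Limits.IsLimit c)
    [∀ (i j : I) (f : i ⟶ j), IsAffineHom (D.map f)] [∀ i, CompactSpace (D.obj i)]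
    [∀ i, QuasiSeparatedSpace (D.obj i)] (i : I) {T : Scheme.{u}} (a : T ⟶ D.obj i) [CompactSpace T]
    (h : IsEmpty ↥(pullback a (c.π.app i))) :
    ∃ (i' : I) (φ : i' ⟶ i), IsEmpty ↥(pullback a (D.map φ)) := by
  exact main D c i a hc h

end Groth.Agent.S9207
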