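import Groth.Statements.S9209
import Groth.Agent.H76.DVRThrough
import Groth.Agent.Lib.Helper78.QCSpecialize

set_option autoImplicit false
universe u
open CategoryTheory CategoryTheory.Limits AlgebraicGeometry
open Lim

namespace Groth.Agent.S9209

/-- Let S be a locally Noetherian scheme, f : X → S a separated morphism of finite type and h : U → X a
morphism of finite type whose image is dense in X. Suppose that for every discrete valuation ring A
with fraction field K and every commutative square formed by a morphism Spec K → U → X and a
morphism Spec A → S, there is a morphism Spec A → X making the resulting diagram commute. Then f is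
proper. -/
theorem result {X S U : Scheme.{u}} [IsLocallyNoetherian S] (f : X ⟶ S)
    [IsSeparated f] [LocallyOfFiniteType f] [QuasiCompact f] (h : U ⟶ X) [LocallyOfFiniteType h] [QuasiCompact h]
    (hd : DenseRange h.base)
    (H : ∀ (A : Type u) [CommRing A] [IsDomain A] [IsDiscreteValuationRing A]
      (u : Spec (CommRingCat.of (FractionRing A)) ⟶ U) (y : Spec (CommRingCat.of A) ⟶ S),
      u ≫ h ≫ f = Spec.map (CommRingCat.ofHom (algebraMap A (FractionRing A))) ≫ y →
        ∃ l : Spec (CommRingCat.of A) ⟶ X, l ≫ f = y ∧ Spec.map (CommRingCat.ofHom (algebraMap A (FractionRing A))) ≫ l = u ≫ h) :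
    IsProper f := by
  have huc : UniversallyClosed f := by
    refine Groth.Agent.H76.DVRThrough.universallyClosed_of_dvr_through f h Set.univ ?_ ?_
    · intro x
      obtain ⟨u, hu⟩ := Groth.Agent.Lib.Helper78.exists_specializes_of_mem_closure_range h x
        (by rw [hd.closure_range]; trivial)
      exact ⟨u, trivial, hu⟩
    · intro u _ A hA y hy
      let e : FractionRing A ≃ₐ[A] U.residueField u := FractionRing.algEquiv A (U.residueField u)
      let ι : U.residueField u →+* FractionRing A := (e.symm : U.residueField u →+* FractionRing A)
      have hι : ι.comp A.subtype = algebraMap A (FractionRing A) := by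
        ext a
        change e.symm (algebraMap A (U.residueField u) a) = _
        exact e.symm.commutes a
      have hmap : Spec.map (CommRingCat.ofHom (algebraMap A (FractionRing A))) =
          Spec.map (CommRingCat.ofHom ι) ≫ Spec.map (CommRingCat.ofHom A.subtype) := by
        rw [← Spec.map_comp, ← CommRingCat.ofHom_comp, hι]
      obtain ⟨l, hl1, hl2⟩ := H A (Spec.map (CommRingCat.ofHom ι) ≫ U.fromSpecResidueField u) y
        (by rw [hmap, Category.assoc, Category.assoc, hy])
      refine ⟨l, hl1, ?_⟩
      rw [hmap, Category.assoc, Category.assoc] at hl2
      have hiso : IsIso (CommRingCat.ofHom ι) :=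
        (e.symm.toRingEquiv.toCommRingCatIso).isIso_hom
      have hiso' : IsIso (Spec.map (CommRingCat.ofHom ι)) := inferInstance
      exact (cancel_epi (Spec.map (CommRingCat.ofHom ι))).mp hl2
  exact { }

end Groth.Agent.S9209
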