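import Groth.Statements.S9210
import Groth.Agent.Lib.Helper78.DVRSeparated

set_option autoImplicit false
universe u
open CategoryTheory CategoryTheory.Limits AlgebraicGeometry
open Lim

namespace Groth.Agent.S9210

/-- Let S be a locally Noetherian scheme, f : X → S a morphism locally of finite type and h : U → X a
morphism of finite type whose image is dense in X. Suppose that for every discrete valuation ring A
with fraction field K and every commutative square formed by a morphism Spec K → U → X and a
morphism Spec A → S, there is at most one morphism Spec A → X making the resulting diagram commute.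
Then f is separated. -/
theorem result {X S U : Scheme.{u}} [IsLocallyNoetherian S] (f : X ⟶ S)
    [LocallyOfFiniteType f] (h : U ⟶ X) [LocallyOfFiniteType h] [QuasiCompact h] (hd : DenseRange h.base)
    (H : ∀ (A : Type u) [CommRing A] [IsDomain A] [IsDiscreteValuationRing A]
      (u : Spec (CommRingCat.of (FractionRing A)) ⟶ U) (y : Spec (CommRingCat.of A) ⟶ S),
      u ≫ h ≫ f = Spec.map (CommRingCat.ofHom (algebraMap A (FractionRing A))) ≫ y →
        ∀ l₁ l₂ : Spec (CommRingCat.of A) ⟶ X, l₁ ≫ f = y → Spec.map (CommRingCat.ofHom (algebraMap A (FractionRing A))) ≫ l₁ = u ≫ h →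
          l₂ ≫ f = y → Spec.map (CommRingCat.ofHom (algebraMap A (FractionRing A))) ≫ l₂ = u ≫ h → l₁ = l₂) :
    IsSeparated f := by
  refine Groth.Agent.Lib.Helper78.isSeparated_of_dvr_through f h Set.univ ?_ ?_
  · intro x
    obtain ⟨u, hu⟩ := Groth.Agent.Lib.Helper78.exists_specializes_of_mem_closure_range h x
      (by rw [hd.closure_range]; trivial)
    exact ⟨u, trivial, hu⟩
  · intro u _ A hA l₁ l₂ h1 h2 h3
    let e : FractionRing A ≃ₐ[A] U.residueField u := FractionRing.algEquiv A (U.residueField u)
    let ι : U.residueField u →+* FractionRing A := (e.symm : U.residueField u →+* FractionRing A)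
    have hι : ι.comp A.subtype = algebraMap A (FractionRing A) := by
      ext a
      change e.symm (algebraMap A (U.residueField u) a) = _
      exact e.symm.commutes a
    have hmap : Spec.map (CommRingCat.ofHom (algebraMap A (FractionRing A))) =
        Spec.map (CommRingCat.ofHom ι) ≫ Spec.map (CommRingCat.ofHom A.subtype) := by
      rw [← Spec.map_comp, ← CommRingCat.ofHom_comp, hι]
    refine H A (Spec.map (CommRingCat.ofHom ι) ≫ U.fromSpecResidueField u) (l₁ ≫ f) ?_ l₁ l₂ rfl ?_
      h1.symm ?_
    · rw [hmap, Category.assoc, Category.assoc, ← Category.assoc (Spec.map (CommRingCat.ofHom A.subtype)),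
        h2, Category.assoc]
    · rw [hmap, Category.assoc, h2, Category.assoc]
    · rw [hmap, Category.assoc, h3, Category.assoc]

end Groth.Agent.S9210
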