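import Groth.Statements.S9212
import Groth.Agent.H76.DVRThrough
import Groth.Agent.S9211

set_option autoImplicit false
universe u
open CategoryTheory CategoryTheory.Limits AlgebraicGeometry
open Lim

namespace Groth.Agent.S9212

/-- Let S be a locally Noetherian scheme and f : X → S a morphism of finite type. Then f is proper if
and only if: for every generic point η of an irreducible component of X, every discrete valuation
ring A contained in the residue field κ(η) with fraction field κ(η) (a valuation subring of κ(η)
which is a discrete valuation ring), and every morphism Spec A → S whose restriction to Spec κ(η) is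
the canonical morphism Spec κ(η) → X followed by f, there is exactly one morphism Spec A → X over S
restricting to the canonical morphism on Spec κ(η). -/
theorem result {X S : Scheme.{u}} [IsLocallyNoetherian S] (f : X ⟶ S)
    [LocallyOfFiniteType f] [QuasiCompact f] :
    IsProper f ↔ ∀ (η : X), closure {η} ∈ irreducibleComponents (X : Type u) →
      ∀ (A : ValuationSubring (X.residueField η)), IsDiscreteValuationRing A →
        ∀ y : Spec (CommRingCat.of A) ⟶ S,
          Spec.map (CommRingCat.ofHom A.subtype) ≫ y = X.fromSpecResidueField η ≫ f →
          ∃! l : Spec (CommRingCat.of A) ⟶ X,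
            l ≫ f = y ∧ Spec.map (CommRingCat.ofHom A.subtype) ≫ l = X.fromSpecResidueField η := by
  constructor
  · intro hf η _ A hA y hy
    have hex : ValuativeCriterion.Existence f :=
      (UniversallyClosed.eq_valuativeCriterion ▸ (inferInstance : UniversallyClosed f)).1
    have hu := IsSeparated.valuativeCriterion f
    let Sq : ValuativeCommSq f :=
      { R := A, K := X.residueField η
        i₁ := X.fromSpecResidueField η
        i₂ := y
        commSq := ⟨by rw [← hy]; rfl⟩ }
    obtain ⟨l, hl₁, hl₂⟩ := (hex Sq).exists_lift
    refine ⟨l, ⟨hl₂, hl₁⟩, ?_⟩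
    rintro l' ⟨h1, h2⟩
    have := hu Sq
    let L₁ : Sq.commSq.LiftStruct := ⟨l, hl₁, hl₂⟩
    let L₂ : Sq.commSq.LiftStruct := ⟨l', h2, h1⟩
    exact congrArg CommSq.LiftStruct.l (Subsingleton.elim L₂ L₁)
  · intro H
    have hsep : IsSeparated f := by
      rw [Groth.Agent.S9211.result f]
      intro η hη A hA l₁ l₂ h1 h2 h3
      obtain ⟨l, -, hl⟩ := H η hη A hA (l₁ ≫ f) (by rw [← Category.assoc, h2])
      rw [hl l₁ ⟨rfl, h2⟩, hl l₂ ⟨h1.symm, h3⟩]
    have huc : UniversallyClosed f := by
      refine Groth.Agent.H76.DVRThrough.universallyClosed_of_dvr_through f (𝟙 X)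
        {η | closure {η} ∈ irreducibleComponents (X : Type u)} ?_ ?_
      · intro x
        obtain ⟨η, hη⟩ := QuasiSober.sober (isIrreducible_irreducibleComponent (x := x))
          isClosed_irreducibleComponent
        refine ⟨η, ?_, ?_⟩
        · change closure {η} ∈ irreducibleComponents (X : Type u)
          rw [hη.def]
          exact irreducibleComponent_mem_irreducibleComponents x
        · change η ⤳ x
          rw [specializes_iff_mem_closure, hη.def]
          exact mem_irreducibleComponent
      · intro η hη A hA y hy
        rw [Category.id_comp] at hy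
        obtain ⟨l, ⟨hl1, hl2⟩, -⟩ := H η hη A hA y hy
        exact ⟨l, hl1, by rw [Category.comp_id]; exact hl2⟩
    exact { }

end Groth.Agent.S9212
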