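import Groth.Statements.S9215
import Groth.Agent.H76.FibreDimStage

set_option autoImplicit false
universe u
open CategoryTheory CategoryTheory.Limits AlgebraicGeometry
open Lim

namespace Groth.Agent.S9215

/-- Consider a system of scheme morphisms (f_i : X_i → S_i) indexed by a cofiltered category: two
diagrams X_•, S_• with a natural transformation between them, such that all transition morphisms
S_{i'} → S_i are affine, all S_i are quasi-compact and quasi-separated, all f_i are of finite type,
and for every arrow i' → i the induced morphism X_{i'} → X_i ×_{S_i} S_{i'} is a closed immersion.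
Let X = lim X_i and S = lim S_i (limit cones) and f : X → S the induced morphism. Let d be a natural
number. Suppose each fibre of f is of dimension at most d; then there is an index i for which all
fibres of f_i are of dimension at most d. -/
theorem result {I : Type u} [SmallCategory I] [IsCofiltered I]
    (DX DS : I ⥤ Scheme.{u}) (φ : DX ⟶ DS) (cX : Limits.Cone DX) (cS : Limits.Cone DS)
    (hX : Limits.IsLimit cX) (hS : Limits.IsLimit cS)
    [∀ (i j : I) (a : i ⟶ j), IsAffineHom (DS.map a)] [∀ i, CompactSpace (DS.obj i)]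
    [∀ i, QuasiSeparatedSpace (DS.obj i)] [∀ i, LocallyOfFiniteType (φ.app i)] [∀ i, QuasiCompact (φ.app i)]
    (hcl : ∀ (i j : I) (a : i ⟶ j), IsClosedImmersion (pullback.lift (DX.map a) (φ.app i) (φ.naturality a)))
    (f : cX.pt ⟶ cS.pt) (hf : ∀ i, f ≫ cS.π.app i = cX.π.app i ≫ φ.app i) (d : ℕ)
    (hd : ∀ s : cS.pt, topologicalKrullDim ↥(f.fiber s) ≤ d) :
    ∃ i : I, ∀ s : DS.obj i, topologicalKrullDim ↥((φ.app i).fiber s) ≤ d := by
  classical
  -- affine transition maps on `DX`
  haveI haff : ∀ {i j : I} (a : i ⟶ j), IsAffineHom (DX.map a) := by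
    intro i j a
    haveI := hcl i j a
    have e : DX.map a = pullback.lift (DX.map a) (φ.app i) (φ.naturality a) ≫
        pullback.fst (φ.app j) (DS.map a) := (pullback.lift_fst _ _ _).symm
    rw [e]
    haveI : IsAffineHom (pullback.fst (φ.app j) (DS.map a)) :=
      MorphismProperty.of_isPullback (P := @IsAffineHom)
        (IsPullback.of_hasPullback (φ.app j) (DS.map a)).flip inferInstance
    infer_instance
  haveI hcpt : ∀ i, CompactSpace (DX.obj i) := fun i =>
    QuasiCompact.compactSpace_of_compactSpace (φ.app i)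
  -- Lemma A
  have hA : ∀ {i j : I} (a : i ⟶ j) (x : DX.obj i),
      FlatMor.fibreDimAt (φ.app i) x ≤ FlatMor.fibreDimAt (φ.app j) (DX.map a x) := by
    intro i j a x
    haveI := hcl i j a
    have e : φ.app i = pullback.lift (DX.map a) (φ.app i) (φ.naturality a) ≫
        pullback.snd (φ.app j) (DS.map a) := (pullback.lift_snd _ _ _).symm
    have h1 := Groth.Agent.Lib.Helper55.fibreDimAt_preimmersion_comp_le
      (pullback.snd (φ.app j) (DS.map a))
      (pullback.lift (DX.map a) (φ.app i) (φ.naturality a)) x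
    have h2 := Groth.Agent.Lib.Helper55.fibreDimAt_eq_of_isPullback (φ.app j) (DS.map a)
      (pullback.fst (φ.app j) (DS.map a)) (pullback.snd (φ.app j) (DS.map a))
      (IsPullback.of_hasPullback _ _) (pullback.lift (DX.map a) (φ.app i) (φ.naturality a) x)
    have h3 : pullback.fst (φ.app j) (DS.map a)
        (pullback.lift (DX.map a) (φ.app i) (φ.naturality a) x) = DX.map a x := by
      rw [← Scheme.Hom.comp_apply, pullback.lift_fst]
    rw [h2, h3] at h1
    calc FlatMor.fibreDimAt (φ.app i) x
        = FlatMor.fibreDimAt (pullback.lift (DX.map a) (φ.app i) (φ.naturality a) ≫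
            pullback.snd (φ.app j) (DS.map a)) x := by rw [← e]
      _ ≤ _ := h1
  by_contra hcon
  simp only [not_exists, not_forall] at hcon
  -- the bad loci
  let Z : ∀ i : I, Set (DX.obj i) := fun i => {x | ¬ FlatMor.fibreDimAt (φ.app i) x ≤ (d : WithBot ℕ∞)}
  have hZc : ∀ i, IsClosed (Z i) := fun i => by
    have := Groth.Agent.Lib.Helper55.isOpen_setOf_fibreDimAt_le' (φ.app i) (d : WithBot ℕ∞)
    exact this.isClosed_compl
  have hZne : ∀ i, (Z i).Nonempty := by
    intro i
    obtain ⟨s, hs⟩ := hcon i
    rw [Groth.Agent.Lib.Helper55.topologicalKrullDim_fiber_le_iff] at hs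
    simp only [not_forall] at hs
    obtain ⟨x, -, hx⟩ := hs
    exact ⟨x, hx⟩
  have hmaps : ∀ {i j : I} (a : i ⟶ j), Set.MapsTo (DX.map a) (Z i) (Z j) := by
    intro i j a x hx hle
    exact hx ((hA a x).trans hle)
  obtain ⟨x, hx⟩ := exists_mem_of_isClosed_of_nonempty DX cX hX Z hZc hZne
    (fun i => (hZc i).isCompact) hmaps
  obtain ⟨i₁, hi₁⟩ := Groth.Agent.H76.FibreDimLimit.exists_fibreDimAt_eq DX DS φ cX cS hX hS f hf hcl x
  have hle : FlatMor.fibreDimAt f x ≤ (d : WithBot ℕ∞) :=
    (Groth.Agent.Lib.Helper55.topologicalKrullDim_fiber_le_iff f (f x) d).mp (hd (f x)) x rfl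
  rw [hi₁] at hle
  exact hx i₁ hle

end Groth.Agent.S9215
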