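import Groth.Statements.S9216
import Groth.Agent.H76.FibreDimOver
import Groth.Agent.Lib.Helper37.FTLim

set_option autoImplicit false
universe u
open CategoryTheory CategoryTheory.Limits AlgebraicGeometry
open Lim

namespace Groth.Agent.S9216

/-- Let S be a quasi-compact quasi-separated scheme, f : X → S a morphism of finite presentation and d a
natural number. Let Z be a closed subscheme of X such that every fibre of Z → S has dimension at
most d. Then there is a closed subscheme Z' of X containing Z such that Z' → X is of finite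
presentation and every fibre of Z' → S has dimension at most d. -/
theorem result {X S Z : Scheme.{u}} [CompactSpace S]
    [QuasiSeparatedSpace S] (f : X ⟶ S) [LocallyOfFinitePresentation f] [QuasiCompact f] [QuasiSeparated f]
    (d : ℕ) (ι : Z ⟶ X) [IsClosedImmersion ι] (hZ : ∀ s : S, topologicalKrullDim ↥((ι ≫ f).fiber s) ≤ d) :
    ∃ (Z' : Scheme.{u}) (ι' : Z' ⟶ X) (k : Z ⟶ Z'), IsClosedImmersion ι' ∧ LocallyOfFinitePresentation ι' ∧
      k ≫ ι' = ι ∧ ∀ s : S, topologicalKrullDim ↥((ι' ≫ f).fiber s) ≤ d := by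
  classical
  haveI : CompactSpace X := QuasiCompact.compactSpace_of_compactSpace f
  haveI : QuasiSeparatedSpace X := quasiSeparatedSpace_of_quasiSeparated f
  obtain ⟨J, instP, instD, instN, D, c, hc, hD, ⟨e⟩⟩ :=
    Groth.Agent.Lib.Helper37.FTLim.closedImmersion_limit ι
  haveI : IsFiltered J := inferInstance
  haveI : IsCofiltered Jᵒᵖ := inferInstance
  haveI : IsConnected Jᵒᵖ := IsCofiltered.isConnected Jᵒᵖ
  have hX : IsLimit ((Over.forget X).mapCone c) := isLimitOfPreserves (Over.forget X) hc
  let g : ∀ i : Jᵒᵖ, (D ⋙ Over.forget X).obj i ⟶ X := fun i => (D.obj i).hom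
  have hg : ∀ {i j : Jᵒᵖ} (a : i ⟶ j), (D ⋙ Over.forget X).map a ≫ g j = g i := fun a =>
    Over.w (D.map a)
  haveI : ∀ i, IsClosedImmersion (g i) := fun i => (hD i).1
  let p : ((Over.forget X).mapCone c).pt ⟶ X := c.pt.hom
  have hp : ∀ i, ((Over.forget X).mapCone c).π.app i ≫ g i = p := fun i => Over.w (c.π.app i)
  have hpe : p = e.hom.left ≫ ι := (Over.w e.hom).symm
  have hd : ∀ s : S, topologicalKrullDim ↥((p ≫ f).fiber s) ≤ d := by
    intro s
    have h1 := Groth.Agent.H76.FibreDimLimit.fiber_dim_le_of_iso e.hom.left (ι ≫ f) d hZ s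
    have h2 : p ≫ f = e.hom.left ≫ ι ≫ f :=
      (congrArg (· ≫ f) hpe).trans (Category.assoc _ _ _)
    rw [h2]
    exact h1
  obtain ⟨i, hi⟩ := Groth.Agent.H76.FibreDimLimit.exists_stage_of_closedSubschemes f
    (D ⋙ Over.forget X) g hg ((Over.forget X).mapCone c) hX p hp d hd
  refine ⟨(D.obj i).left, (D.obj i).hom, e.inv.left ≫ (c.π.app i).left, (hD i).1, (hD i).2, ?_, ?_⟩
  · rw [Category.assoc, Over.w (c.π.app i)]
    exact Over.w e.inv
  · intro s
    exact hi s

end Groth.Agent.S9216
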