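import Groth.Statements.S9217
import Groth.Agent.S9718
import Groth.Agent.Lib.Helper55.SpreadOutUnique
import Groth.Agent.H76.ShrinkNhd
import Groth.Agent.H76.GlueNearPoint
open Groth.Agent.H76.GlueNearPoint

set_option autoImplicit false
universe u
open CategoryTheory AlgebraicGeometry
open Lim

namespace Groth.Agent.S9217

/-- Let S be a scheme, X and Y schemes over S with Y locally of finite presentation over S, and x a
closed point of X such that the inclusion of U = X - {x} in X is quasi-compact; let V be the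
complement of the closed point in Spec O_{X,x}, i.e. the preimage of U under the canonical morphism
Spec O_{X,x} → X. Then restriction is a bijection from the S-morphisms X → Y to the pairs (a, b) of
S-morphisms a : U → Y, b : Spec O_{X,x} → Y which agree on V: two morphisms X → Y with the same
restrictions to U and to Spec O_{X,x} are equal, and every such compatible pair of S-morphisms is
the pair of restrictions of an S-morphism X → Y. -/
theorem result {X Y S : Scheme.{u}} (p : X ⟶ S) (q : Y ⟶ S) [LocallyOfFinitePresentation q]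
    (x : X) (U : X.Opens) (hU : (U : Set X) = {x}ᶜ) [QuasiCompact U.ι] :
    (∀ g₁ g₂ : X ⟶ Y, U.ι ≫ g₁ = U.ι ≫ g₂ → X.fromSpecStalk x ≫ g₁ = X.fromSpecStalk x ≫ g₂ → g₁ = g₂) ∧
    (∀ (a : (U : Scheme.{u}) ⟶ Y) (b : Spec (X.presheaf.stalk x) ⟶ Y), a ≫ q = U.ι ≫ p →
      b ≫ q = X.fromSpecStalk x ≫ p → ((X.fromSpecStalk x) ⁻¹ᵁ U).ι ≫ b = ((X.fromSpecStalk x) ∣_ U) ≫ a →
        ∃ g : X ⟶ Y, g ≫ q = p ∧ U.ι ≫ g = a ∧ X.fromSpecStalk x ≫ g = b) := by
  have hU' : ∀ y : X, y = x ∨ y ∈ U := by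
    intro y
    by_cases h : y = x
    · exact Or.inl h
    · right
      show y ∈ (U : Set X)
      rw [hU]; exact h
  have hcov : ∀ (W : X.Opens), x ∈ W → ∀ y : X, y ∈ W ∨ y ∈ U := fun W hxW y =>
    (hU' y).imp (fun h => by rw [h]; exact hxW) id
  refine ⟨fun g₁ g₂ h1 h2 => hom_ext_near_point x U hU' g₁ g₂ h1 h2, ?_⟩
  intro a b ha hb hab
  -- Step 1: spread out `b`
  obtain ⟨W₀, hxW₀, f₀, hbf, hf₀⟩ := Groth.Agent.S9718.spread_out_of_lfp' p q b hb
  -- Step 2: the locus where `f₀` and `a` agree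
  let T : X.Opens := W₀ ⊓ U
  let f₁ : (T : Scheme.{u}) ⟶ Y := X.homOfLE (inf_le_left : T ≤ W₀) ≫ f₀
  let f₂ : (T : Scheme.{u}) ⟶ Y := X.homOfLE (inf_le_right : T ≤ U) ≫ a
  have hS : f₁ ≫ q = f₂ ≫ q := by
    simp only [f₁, f₂, Category.assoc, hf₀, ha, Scheme.homOfLE_ι_assoc]
  let E : (T : Scheme.{u}).Opens :=
    ⨆ N : {N : (T : Scheme.{u}).Opens // N.ι ≫ f₁ = N.ι ≫ f₂}, N.1
  have hE : E.ι ≫ f₁ = E.ι ≫ f₂ := by
    apply Groth.Agent.Lib.Helper20.GlueOpens.hom_ext_iSup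
    intro N
    rw [Scheme.homOfLE_ι_assoc, Scheme.homOfLE_ι_assoc]
    exact N.2
  have hgen : ∀ u ∈ U, u ⤳ x → u ∈ T.ι ''ᵁ E := by
    intro u hu hux
    have huW₀ : u ∈ W₀ := hux.mem_open W₀.isOpen hxW₀
    have huT : u ∈ T := ⟨huW₀, hu⟩
    have key : T.fromSpecStalkOfMem u huT ≫ f₁ = T.fromSpecStalkOfMem u huT ≫ f₂ := by
      simp only [f₁, f₂]
      rw [← Category.assoc, ← Category.assoc, fromSpecStalkOfMem_homOfLE,
        fromSpecStalkOfMem_homOfLE]
      let ψ := Spec.map (X.presheaf.stalkSpecializes hux)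
      have hψ : ψ ≫ X.fromSpecStalk x = X.fromSpecStalk u :=
        Scheme.SpecMap_stalkSpecializes_fromSpecStalk hux
      have h₁ : ψ ≫ b = W₀.fromSpecStalkOfMem u huW₀ ≫ f₀ := by
        rw [hbf, ← Category.assoc]
        congr 1
        rw [← cancel_mono W₀.ι, Category.assoc, Scheme.Opens.fromSpecStalkOfMem_ι,
          Scheme.Opens.fromSpecStalkOfMem_ι, hψ]
      have h₂ : ψ ≫ b = U.fromSpecStalkOfMem u hu ≫ a := by
        have hr : Set.range ψ ⊆ Set.range ((X.fromSpecStalk x) ⁻¹ᵁ U).ι := by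
          rw [Scheme.Opens.range_ι]
          rintro _ ⟨w, rfl⟩
          show X.fromSpecStalk x (ψ w) ∈ U
          rw [← Scheme.Hom.comp_apply, hψ]
          have h3 : X.fromSpecStalk u w ⤳ u := by
            have := Set.mem_range_self (f := X.fromSpecStalk u) w
            rwa [Scheme.range_fromSpecStalk] at this
          exact h3.mem_open U.isOpen hu
        let ψ' := IsOpenImmersion.lift ((X.fromSpecStalk x) ⁻¹ᵁ U).ι ψ hr
        have hψ' : ψ' ≫ ((X.fromSpecStalk x) ⁻¹ᵁ U).ι = ψ := IsOpenImmersion.lift_fac _ _ _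
        rw [← hψ', Category.assoc, hab, ← Category.assoc]
        congr 1
        rw [← cancel_mono U.ι, Category.assoc, morphismRestrict_ι, ← Category.assoc, hψ', hψ,
          Scheme.Opens.fromSpecStalkOfMem_ι]
      rw [← h₁, h₂]
    have e : (T : Scheme.{u}).fromSpecStalk ⟨u, huT⟩ ≫ f₁ =
        (T : Scheme.{u}).fromSpecStalk ⟨u, huT⟩ ≫ f₂ := by
      rw [fromSpecStalk_eq, Category.assoc, Category.assoc]
      exact congrArg (Spec.map (Scheme.Hom.stalkMap T.ι ⟨u, huT⟩) ≫ ·) key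
    have : LocallyOfFiniteType q := inferInstance
    obtain ⟨N, huN, hN⟩ :=
      Groth.Agent.Lib.Helper55.spread_out_unique_of_locallyOfFiniteType' q f₁ f₂ hS e
    have hNE : N ≤ E :=
      le_iSup (fun N : {N : (T : Scheme.{u}).Opens // N.ι ≫ f₁ = N.ι ≫ f₂} => N.1) ⟨N, hN⟩
    exact ⟨⟨u, huT⟩, hNE huN, rfl⟩
  -- Step 3: shrink
  obtain ⟨W₁, hxW₁, hW₁⟩ :=
    Groth.Agent.H76.ShrinkNhd.exists_opens_inf_le x U (T.ι ''ᵁ E) hgen
  let W : X.Opens := W₁ ⊓ W₀
  have hxW : x ∈ W := ⟨hxW₁, hxW₀⟩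
  let f : (W : Scheme.{u}) ⟶ Y := X.homOfLE (inf_le_right : W ≤ W₀) ≫ f₀
  have hfa : X.homOfLE (inf_le_left : W ⊓ U ≤ W) ≫ f =
      X.homOfLE (inf_le_right : W ⊓ U ≤ U) ≫ a := by
    have hle : W ⊓ U ≤ T := fun y hy => ⟨hy.1.2, hy.2⟩
    have hr : Set.range (W ⊓ U).ι ⊆ Set.range (E.ι ≫ T.ι) := by
      rw [Scheme.Opens.range_ι]
      intro y hy
      have h3 : y ∈ T.ι ''ᵁ E := hW₁ ⟨hy.1.1, hy.2⟩
      obtain ⟨e, he, rfl⟩ := h3
      exact ⟨⟨e, he⟩, rfl⟩
    let lam := IsOpenImmersion.lift (E.ι ≫ T.ι) (W ⊓ U).ι hr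
    have hlam : lam ≫ E.ι ≫ T.ι = (W ⊓ U).ι := IsOpenImmersion.lift_fac _ _ _
    have hlam' : lam ≫ E.ι = X.homOfLE hle := by
      rw [← cancel_mono T.ι, Category.assoc, hlam, Scheme.homOfLE_ι]
    have h4 := congrArg (lam ≫ ·) hE
    simp only [← Category.assoc, hlam'] at h4
    simp only [f₁, f₂, f, ← Category.assoc, Scheme.homOfLE_homOfLE] at h4 ⊢
    exact h4
  -- Step 4: glue
  obtain ⟨g, hgW, hgU⟩ := exists_glue_of_cover W U (hcov W hxW) f a hfa
  refine ⟨g, ?_, hgU, ?_⟩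
  · apply hom_ext_of_cover W U (hcov W hxW)
    · rw [← Category.assoc, hgW]
      simp only [f, Category.assoc, hf₀, Scheme.homOfLE_ι_assoc]
    · rw [← Category.assoc, hgU, ha]
  · rw [← Scheme.Opens.fromSpecStalkOfMem_ι W x hxW, Category.assoc, hgW, hbf]
    simp only [f]
    rw [← Category.assoc, fromSpecStalkOfMem_homOfLE]

end Groth.Agent.S9217
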