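import Groth.Statements.S9226
import Groth.Agent.Lib.Helper47.RegularCotangent
import Groth.Agent.Lib.Helper47.RegularQuotient
import Mathlib.LinearAlgebra.Matrix.NonsingularInverse

set_option autoImplicit false
universe u
open CAlg

namespace Groth.Agent.S9226

/-- Let R be a regular local ring, m ≥ 1, f_1, ..., f_m elements of the maximal ideal, and D_1, ..., D_m
derivations of R such that the determinant of the matrix (D_i(f_j)) is a unit of R. Then R/(f_1,
..., f_m) is a regular local ring and f_1, ..., f_m is a regular sequence on R. -/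
theorem result (R : Type u) [CommRing R]
    [IsRegularLocalRing R] (m : ℕ) (hm : 1 ≤ m) (f : Fin m → R)
    (hf : ∀ i, f i ∈ IsLocalRing.maximalIdeal R) (D : Fin m → Derivation ℤ R R)
    (hdet : IsUnit (Matrix.det (Matrix.of (fun i j : Fin m => D i (f j))))) :
    IsRegularLocalRing (R ⧸ Ideal.span (Set.range f)) ∧
      RingTheory.Sequence.IsRegular R (List.ofFn f) := by
  apply Groth.Agent.Lib.Helper47.isRegularLocalRing_quotient_and_isRegular_of_indep m R f hf
  intro c hc i
  -- apply the derivations
  set M : Matrix (Fin m) (Fin m) R := Matrix.of (fun i j : Fin m => D i (f j)) with hM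
  have h1 : ∀ k, (M.mulVec c) k ∈ IsLocalRing.maximalIdeal R := by
    intro k
    have h2 := Groth.Agent.Lib.Helper47.derivation_mem_of_mem_sq (D k)
      (IsLocalRing.maximalIdeal R) hc
    rw [map_sum] at h2
    have h3 : ∑ j, (D k) (c j * f j) = ∑ j, c j * (D k) (f j) + ∑ j, f j * (D k) (c j) := by
      rw [← Finset.sum_add_distrib]
      refine Finset.sum_congr rfl fun j _ => ?_
      rw [(D k).leibniz, smul_eq_mul, smul_eq_mul]
    rw [h3] at h2
    have h4 : ∑ j, f j * (D k) (c j) ∈ IsLocalRing.maximalIdeal R :=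
      Ideal.sum_mem _ fun j _ => Ideal.mul_mem_right _ _ (hf j)
    have h5 := (Ideal.add_mem_iff_left _ h4).mp h2
    have h6 : (M.mulVec c) k = ∑ j, c j * (D k) (f j) := by
      rw [Matrix.mulVec, dotProduct]
      refine Finset.sum_congr rfl fun j _ => ?_
      rw [hM, Matrix.of_apply, mul_comm]
    rw [h6]
    exact h5
  have h7 : c = M⁻¹.mulVec (M.mulVec c) := by
    rw [Matrix.mulVec_mulVec, Matrix.nonsing_inv_mul _ hdet, Matrix.one_mulVec]
  rw [h7, Matrix.mulVec, dotProduct]
  exact Ideal.sum_mem _ fun j _ => Ideal.mul_mem_left _ _ (h1 j)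

end Groth.Agent.S9226
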