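import Groth.Statements.S9227
import Groth.Agent.Lib.Helper47.RegularQuotient
import Mathlib.RingTheory.Derivation.MapCoeffs
import Mathlib.RingTheory.RegularLocalRing.Polynomial

set_option autoImplicit false
universe u
open CAlg

namespace Groth.Agent.S9227

/-- Let R be a regular ring, f an element of R and D a derivation of R with D(f) a unit of R. Then for
every polynomial p with integer coefficients the ring R[z]/(p(z) - f) is regular; in particular
R[z]/(z^n - f) is regular for every n ≥ 1. -/
theorem result (R : Type u) [CommRing R]
    [IsRegularRing R] (f : R) (D : Derivation ℤ R R) (hD : IsUnit (D f)) (p : Polynomial ℤ) :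
    IsRegularRing (Polynomial R ⧸
      Ideal.span ({Polynomial.map (Int.castRingHom R) p - Polynomial.C f} : Set (Polynomial R))) := by
  let _ : Differential R := ⟨D⟩
  let Dt : Derivation ℤ (Polynomial R) (Polynomial R) := Differential.mapCoeffs
  have h1 : Dt (Polynomial.map (Int.castRingHom R) p) = 0 := by
    ext i
    rw [Differential.coeff_mapCoeffs, Polynomial.coeff_map, Polynomial.coeff_zero]
    change D (Int.castRingHom R (p.coeff i)) = 0
    have : Int.castRingHom R (p.coeff i) = algebraMap ℤ R (p.coeff i) := rfl
    rw [this, D.map_algebraMap]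
  have h2 : Dt (Polynomial.C f) = Polynomial.C (D f) := Differential.mapCoeffs_C f
  have h3 : Dt (Polynomial.map (Int.castRingHom R) p - Polynomial.C f) = - Polynomial.C (D f) := by
    rw [map_sub, h1, h2, zero_sub]
  apply Groth.Agent.Lib.Helper47.isRegularRing_quotient_span_singleton_of_leibniz _ (fun g => Dt g)
    (fun a b => map_add Dt a b)
    (fun a b => by rw [Dt.leibniz, smul_eq_mul, smul_eq_mul])
  change IsUnit (Ideal.Quotient.mk _ (Dt _))
  rw [h3]
  exact ((Polynomial.isUnit_C.mpr hD).neg).map _

end Groth.Agent.S9227
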