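import Groth.Statements.S9239
import Groth.Agent.Lib.Helper3.BranchCompletion
import Groth.Agent.Lib.Helper9.HensK.StrictUnique
import Groth.Agent.S9237
import Groth.Agent.S9238
import Groth.Agent.S0506
import Groth.Agent.S0537

set_option autoImplicit false
universe u
open Brnch

namespace Groth.Agent.S9239

/-- For a Noetherian local ring A with completion A^ at its maximal ideal, A^ has at least as many
branches as A, and at least as many geometric branches as A. -/
theorem result (A : Type u) [CommRing A] [IsLocalRing A] [IsNoetherianRing A] :
    Brnch.numBranches A ≤ Brnch.numBranches (AdicCompletion (IsLocalRing.maximalIdeal A) A) ∧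
      Brnch.numGeomBranches A ≤
        Brnch.numGeomBranches (AdicCompletion (IsLocalRing.maximalIdeal A) A) := by
  open Groth.Agent.Lib.Helper3 Groth.Agent.Lib.Helper9 IsLocalRing in
  have hCh : HenselianLocalRing (AdicCompletion (maximalIdeal A) A) :=
    Branch.henselianLocalRing_adicCompletion A
  constructor
  · obtain ⟨S, _, _, _, _, hS⟩ := Groth.Agent.S0506.result A
    obtain ⟨ψ, hψ, -⟩ := Hensel.IsHenselization.universal (R := A) (S := S)
      (AdicCompletion (maximalIdeal A) A) (algebraMap A _) inferInstance
    let _ : Algebra S (AdicCompletion (maximalIdeal A) A) := ψ.toAlgebra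
    have : IsScalarTower A S (AdicCompletion (maximalIdeal A) A) :=
      IsScalarTower.of_algebraMap_eq (fun r => (DFunLike.congr_fun hψ r).symm)
    obtain ⟨hflat, hloc⟩ := Branch.flat_and_isLocalHom_of_isEtaleCoveredFin A S
      (AdicCompletion (maximalIdeal A) A) (isEtaleCoveredFin_of_isHenselization A S)
      (Hens.map_maximalIdeal_of_isHenselization (R := A) (S := S))
    have := isHenselization_self (AdicCompletion (maximalIdeal A) A)
    rw [← Groth.Agent.S9237.result A S, ← Groth.Agent.S9237.result
      (AdicCompletion (maximalIdeal A) A) (AdicCompletion (maximalIdeal A) A)]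
    exact Branch.card_minimalPrimes_le_of_flat_of_isLocalHom S _
  · obtain ⟨Ash, _, _, _, _, hAsh⟩ := Groth.Agent.S0537.result A
    obtain ⟨Csh, _, _, _, _, hCsh⟩ :=
      Groth.Agent.S0537.result (AdicCompletion (maximalIdeal A) A)
    have : HenselianLocalRing Csh := hCsh.henselian
    let _ : Algebra A Csh := ((algebraMap (AdicCompletion (maximalIdeal A) A) Csh).comp
      (algebraMap A (AdicCompletion (maximalIdeal A) A))).toAlgebra
    have : IsScalarTower A (AdicCompletion (maximalIdeal A) A) Csh :=
      IsScalarTower.of_algebraMap_eq (fun r => rfl)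
    have hlocA : IsLocalHom (algebraMap A Csh) :=
      RingHom.isLocalHom_comp (algebraMap (AdicCompletion (maximalIdeal A) A) Csh)
        (algebraMap A (AdicCompletion (maximalIdeal A) A))
    have : IsSepClosed (ResidueField Csh) := hCsh.isSepClosure.sep_closed
    have : Algebra.IsSeparable (ResidueField A) (ResidueField Ash) :=
      hAsh.isSepClosure.separable
    let τ : ResidueField Ash →ₐ[ResidueField A] ResidueField Csh := IsSepClosed.lift
    have hτ : (τ : ResidueField Ash →+* ResidueField Csh).comp
        (ResidueField.map (algebraMap A Ash)) = ResidueField.map (algebraMap A Csh) := by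
      refine RingHom.ext fun x => ?_
      exact τ.commutes x
    obtain ⟨v, ⟨hv1, hv2⟩, -⟩ := Hensel.IsStrictHenselization.universal (R := A) (S := Ash) Csh
      (algebraMap A Csh) (τ : ResidueField Ash →+* ResidueField Csh) hτ
    let _ : Algebra Ash Csh := v.toAlgebra
    have : IsScalarTower A Ash Csh :=
      IsScalarTower.of_algebraMap_eq (fun r => (DFunLike.congr_fun hv1 r).symm)
    have : Module.Flat (AdicCompletion (maximalIdeal A) A) Csh :=
      HensK.flat_of_isStrictHenselization _ _
    have : Module.Flat A Csh := Module.Flat.trans A (AdicCompletion (maximalIdeal A) A) Csh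
    obtain ⟨hflat, hloc⟩ := Branch.flat_and_isLocalHom_of_isEtaleCoveredFin A Ash Csh
      (isEtaleCoveredFin_of_isStrictHenselization A Ash)
      (HensK.map_maximalIdeal_of_isStrictHenselization (R := A) (S := Ash))
    rw [← Groth.Agent.S9238.result A Ash, ← Groth.Agent.S9238.result
      (AdicCompletion (maximalIdeal A) A) Csh]
    exact Branch.card_minimalPrimes_le_of_flat_of_isLocalHom Ash Csh

end Groth.Agent.S9239
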