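import Groth.Statements.S9240
import Groth.Agent.Lib.Helper9.Hens.NoetherianHens
import Groth.Agent.Lib.Helper9.Hens.Unique

set_option autoImplicit false
universe u
open Brnch

namespace Groth.Agent.S9240

/-- Let A be a Noetherian local ring, S its henselization and A^ its completion, and let ψ : S → A^ be
the ring map compatible with the structure maps from A (it is unique, A^ being henselian). Then
contraction along ψ sends every minimal prime of A^ to a minimal prime of S, and every minimal prime
of S arises this way: contraction maps the minimal primes of A^ onto the minimal primes of S. -/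
theorem result (A S : Type u) [CommRing A] [IsLocalRing A]
    [IsNoetherianRing A] [CommRing S] [IsLocalRing S] [Algebra A S] [IsLocalHom (algebraMap A S)]
    [Hensel.IsHenselization A S] (ψ : S →+* AdicCompletion (IsLocalRing.maximalIdeal A) A)
    (hψ : ψ.comp (algebraMap A S) = algebraMap A (AdicCompletion (IsLocalRing.maximalIdeal A) A)) :
    Set.MapsTo (Ideal.comap ψ) (minimalPrimes (AdicCompletion (IsLocalRing.maximalIdeal A) A))
        (minimalPrimes S) ∧
      Set.SurjOn (Ideal.comap ψ) (minimalPrimes (AdicCompletion (IsLocalRing.maximalIdeal A) A))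
        (minimalPrimes S) := by
  let _ : Algebra S (AdicCompletion (IsLocalRing.maximalIdeal A) A) := ψ.toAlgebra
  have htower : IsScalarTower A S (AdicCompletion (IsLocalRing.maximalIdeal A) A) :=
    IsScalarTower.of_algebraMap_eq (fun r => by
      change _ = ψ (algebraMap A S r)
      rw [← RingHom.comp_apply, hψ])
  have hflat : Module.Flat S (AdicCompletion (IsLocalRing.maximalIdeal A) A) :=
    (Groth.Agent.Lib.Helper9.isEtaleCoveredFin_of_isHenselization A S).flat _
  have hloc : IsLocalHom (algebraMap S (AdicCompletion (IsLocalRing.maximalIdeal A) A)) := by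
    refine ⟨fun s hs => ?_⟩
    by_contra hns
    have hsm : s ∈ IsLocalRing.maximalIdeal S := (IsLocalRing.mem_maximalIdeal s).mpr hns
    rw [← Groth.Agent.Lib.Helper9.Hens.map_maximalIdeal_of_isHenselization (R := A) (S := S)] at hsm
    have hmem : algebraMap S (AdicCompletion (IsLocalRing.maximalIdeal A) A) s ∈
        IsLocalRing.maximalIdeal (AdicCompletion (IsLocalRing.maximalIdeal A) A) := by
      have h1 : algebraMap S (AdicCompletion (IsLocalRing.maximalIdeal A) A) s ∈
          ((IsLocalRing.maximalIdeal A).map (algebraMap A S)).map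
            (algebraMap S (AdicCompletion (IsLocalRing.maximalIdeal A) A)) :=
        Ideal.mem_map_of_mem _ hsm
      rw [Ideal.map_map, ← IsScalarTower.algebraMap_eq] at h1
      have h2 : (IsLocalRing.maximalIdeal A).map
          (algebraMap A (AdicCompletion (IsLocalRing.maximalIdeal A) A)) ≤
          IsLocalRing.maximalIdeal (AdicCompletion (IsLocalRing.maximalIdeal A) A) :=
        IsLocalRing.map_maximalIdeal_le _
      exact h2 h1
    exact (IsLocalRing.mem_maximalIdeal _).mp hmem hs
  have hff : Module.FaithfullyFlat S (AdicCompletion (IsLocalRing.maximalIdeal A) A) :=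
    Module.FaithfullyFlat.of_flat_of_isLocalHom
  have hinj : Function.Injective ψ :=
    FaithfulSMul.algebraMap_injective S (AdicCompletion (IsLocalRing.maximalIdeal A) A)
  constructor
  · intro q hq
    have hqp : q.IsPrime := hq.1.1
    refine ⟨⟨Ideal.comap_isPrime ψ q, bot_le⟩, fun p' hp' hle => ?_⟩
    have hp'p : p'.IsPrime := hp'.1
    have hlo : q.LiesOver (Ideal.comap ψ q) := ⟨rfl⟩
    obtain ⟨P, hPq, hPp, hPlo⟩ :=
      Ideal.exists_ideal_le_liesOver_of_le (p := p') (q := Ideal.comap ψ q) q hle
    have hPq' : q ≤ P := hq.2 ⟨hPp, bot_le⟩ hPq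
    have : P = q := le_antisymm hPq hPq'
    rw [hPlo.over, this]
    exact le_rfl
  · intro p hp
    have hp' : p ∈ ((⊥ : Ideal (AdicCompletion (IsLocalRing.maximalIdeal A) A)).comap ψ).minimalPrimes := by
      rwa [Ideal.comap_bot_of_injective ψ hinj]
    obtain ⟨q, hq, hqp⟩ := Ideal.exists_minimalPrimes_comap_eq ψ p hp'
    exact ⟨q, hq, hqp⟩

end Groth.Agent.S9240
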