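import Groth.Statements.S9242
import Groth.Agent.Lib.Helper29.HensDimOne
import Groth.Agent.Lib.Helper3.BranchCompletion
import Groth.Agent.Lib.Helper9.Hens.NoetherianHens
import Groth.Agent.S9240

set_option autoImplicit false
universe u
open Brnch

namespace Groth.Agent.S9242

/-- Let A be a Noetherian local ring with henselization S and completion A^, let ψ : S → A^ be the ring
map compatible with the structure maps from A, and let q be a minimal prime of A^ with dim(A^/q) =
1. Then q is the radical of the extension along ψ of some minimal prime of S. -/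
theorem result (A S : Type u) [CommRing A]
    [IsLocalRing A] [IsNoetherianRing A] [CommRing S] [IsLocalRing S] [Algebra A S]
    [IsLocalHom (algebraMap A S)] [Hensel.IsHenselization A S]
    (ψ : S →+* AdicCompletion (IsLocalRing.maximalIdeal A) A)
    (hψ : ψ.comp (algebraMap A S) = algebraMap A (AdicCompletion (IsLocalRing.maximalIdeal A) A))
    (q : Ideal (AdicCompletion (IsLocalRing.maximalIdeal A) A))
    (hq : q ∈ minimalPrimes (AdicCompletion (IsLocalRing.maximalIdeal A) A))
    (hdim : ringKrullDim (AdicCompletion (IsLocalRing.maximalIdeal A) A ⧸ q) = 1) :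
    ∃ q' ∈ minimalPrimes S, (Ideal.map ψ q').radical = q := by
  open Groth.Agent.Lib.Helper29 Groth.Agent.Lib.Helper9 Groth.Agent.Lib.Helper3 IsLocalRing Hensel in
  classical
  let _ : Algebra S (AdicCompletion (maximalIdeal A) A) := ψ.toAlgebra
  have htower : IsScalarTower A S (AdicCompletion (maximalIdeal A) A) :=
    IsScalarTower.of_algebraMap_eq (fun r => (DFunLike.congr_fun hψ r).symm)
  have hLC : IsLocalRing (AdicCompletion (maximalIdeal A) A) := isLocalRing_cpl A
  have hNC : IsNoetherianRing (AdicCompletion (maximalIdeal A) A) := isNoetherianRing_cpl A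
  have hlhA : IsLocalHom (algebraMap A (AdicCompletion (maximalIdeal A) A)) :=
    isLocalHom_algebraMap_adicCompletion A (maximalIdeal A) (Ideal.IsPrime.ne_top inferInstance)
  have hmaxS := Hens.map_maximalIdeal_of_isHenselization (R := A) (S := S)
  obtain ⟨hflat, hloc⟩ := Branch.flat_and_isLocalHom_of_isEtaleCoveredFin A S
    (AdicCompletion (maximalIdeal A) A) (isEtaleCoveredFin_of_isHenselization A S) hmaxS
  have hNS : IsNoetherianRing S := (isNoetherianRing_iff_of_isHenselization A S).mp inferInstance
  have hHS : HenselianLocalRing S := IsHenselization.henselian (R := A)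
  have hmax : (maximalIdeal S).map (algebraMap S (AdicCompletion (maximalIdeal A) A)) =
      maximalIdeal (AdicCompletion (maximalIdeal A) A) := by
    rw [← hmaxS, Ideal.map_map, ← IsScalarTower.algebraMap_eq]
    exact (maximalIdeal_adicCompletion_eq_map A (maximalIdeal A)
      (Ideal.IsPrime.ne_top inferInstance)).symm
  have hres : ∀ x : AdicCompletion (maximalIdeal A) A, ∃ b : S,
      x - algebraMap S (AdicCompletion (maximalIdeal A) A) b ∈
        maximalIdeal (AdicCompletion (maximalIdeal A) A) := by
    intro x
    obtain ⟨a, ha⟩ := exists_sub_algebraMap_mem_maximalIdeal_adicCompletion A x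
    exact ⟨algebraMap A S a, by rw [← IsScalarTower.algebraMap_apply]; exact ha⟩
  have hmin : q.comap ψ ∈ minimalPrimes S := (Groth.Agent.S9240.result A S ψ hψ).1 hq
  refine ⟨q.comap ψ, hmin, ?_⟩
  have hqprime : q.IsPrime := hq.1.1
  have hq' : (q.comap ψ).IsPrime := Ideal.comap_isPrime ψ q
  have hqmem : q ∈ ((q.comap ψ).map ψ).minimalPrimes :=
    ⟨⟨hqprime, Ideal.map_comap_le⟩, fun P hP hPq => hq.2 ⟨hP.1, bot_le⟩ hPq⟩
  have hall : ∀ P ∈ ((q.comap ψ).map ψ).minimalPrimes, P = q := fun P hP =>
    (minimalPrimes_map_eq_of_henselian_of_comp S (AdicCompletion (maximalIdeal A) A) hmax hres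
      (q.comap ψ) q P hqmem hdim hP).symm
  have hsing : ((q.comap ψ).map ψ).minimalPrimes = {q} :=
    Set.eq_singleton_iff_unique_mem.mpr ⟨hqmem, hall⟩
  rw [← Ideal.sInf_minimalPrimes, hsing, sInf_singleton]

end Groth.Agent.S9242
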