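import Groth.Statements.S9244
import Mathlib
import Groth.Agent.Lib.Helper48.StrictHenselizationNormalFibres
import Groth.Agent.Lib.Helper29.HensDimOne
import Groth.Agent.Lib.Helper3.BranchCompletion
import Groth.Agent.Lib.Helper9.HensK.StrictUnique
import Groth.Agent.Lib.Helper9.Hens.NoetherianHens
import Groth.Agent.Lib.Helper9.Hens.Dimension
import Groth.Agent.S9237
import Groth.Agent.S9238
import Groth.Agent.S9243
import Groth.Agent.S0506
import Groth.Agent.S0537

set_option autoImplicit false
universe u
open Brnch

namespace Groth.Agent.S9244

/-- Let A be a Noetherian local ring all of whose formal fibres are geometrically normal (for example a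
quasi-excellent local ring). Then A and its completion A^ have the same number of branches and the
same number of geometric branches. (The published statement also concludes that A is Nagata; this
row omits that conclusion.) -/
theorem result (A : Type u) [CommRing A]
    [IsLocalRing A] [IsNoetherianRing A] (hA : EGA4.HasGeomNormalFormalFibres A) :
    Brnch.numBranches (AdicCompletion (IsLocalRing.maximalIdeal A) A) = Brnch.numBranches A ∧
      Brnch.numGeomBranches (AdicCompletion (IsLocalRing.maximalIdeal A) A) =
        Brnch.numGeomBranches A := by
  open Groth.Agent.Lib.Helper29 Groth.Agent.Lib.Helper9 Groth.Agent.Lib.Helper3 IsLocalRing Hensel in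
  classical
  have hCh : HenselianLocalRing (AdicCompletion (maximalIdeal A) A) :=
    Branch.henselianLocalRing_adicCompletion A
  have hLC : IsLocalRing (AdicCompletion (maximalIdeal A) A) := isLocalRing_cpl A
  have hNC : IsNoetherianRing (AdicCompletion (maximalIdeal A) A) := isNoetherianRing_cpl A
  have hlhA : IsLocalHom (algebraMap A (AdicCompletion (maximalIdeal A) A)) :=
    isLocalHom_algebraMap_adicCompletion A (maximalIdeal A) (Ideal.IsPrime.ne_top inferInstance)
  have hmaxC := maximalIdeal_adicCompletion_eq_map A (maximalIdeal A)
    (Ideal.IsPrime.ne_top inferInstance)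
  -- residue-field surjectivity gives bijectivity of the residue field map
  have hkof : ∀ (S T : Type u) [CommRing S] [IsLocalRing S] [CommRing T] [IsLocalRing T]
      [Algebra S T] [IsLocalHom (algebraMap S T)],
      (∀ x : T, ∃ b : S, x - algebraMap S T b ∈ maximalIdeal T) →
      Function.Bijective (ResidueField.map (algebraMap S T)) := by
    intro S T _ _ _ _ _ _ hres
    refine ⟨RingHom.injective _, fun y => ?_⟩
    obtain ⟨x, rfl⟩ := residue_surjective y
    obtain ⟨b, hb⟩ := hres x
    refine ⟨residue S b, ?_⟩
    rw [ResidueField.map_residue]
    symm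
    rw [← sub_eq_zero, ← map_sub, residue_eq_zero_iff]
    exact hb
  constructor
  · obtain ⟨S, _, _, _, _, hS⟩ := Groth.Agent.S0506.result A
    obtain ⟨ψ, hψ, -⟩ := Hensel.IsHenselization.universal (R := A) (S := S)
      (AdicCompletion (maximalIdeal A) A) (algebraMap A _) inferInstance
    refine ((Groth.Agent.S9243.result A S ψ hψ).mpr ?_).symm
    let _ : Algebra S (AdicCompletion (maximalIdeal A) A) := ψ.toAlgebra
    have htower : IsScalarTower A S (AdicCompletion (maximalIdeal A) A) :=
      IsScalarTower.of_algebraMap_eq (fun r => (DFunLike.congr_fun hψ r).symm)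
    have hmaxS := Hens.map_maximalIdeal_of_isHenselization (R := A) (S := S)
    obtain ⟨hflat, hloc⟩ := Branch.flat_and_isLocalHom_of_isEtaleCoveredFin A S
      (AdicCompletion (maximalIdeal A) A) (isEtaleCoveredFin_of_isHenselization A S) hmaxS
    have hNS : IsNoetherianRing S :=
      (isNoetherianRing_iff_of_isHenselization A S).mp inferInstance
    have hHS : HenselianLocalRing S := IsHenselization.henselian (R := A)
    have hmax : (maximalIdeal S).map (algebraMap S (AdicCompletion (maximalIdeal A) A)) =
        maximalIdeal (AdicCompletion (maximalIdeal A) A) := by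
      rw [← hmaxS, Ideal.map_map, ← IsScalarTower.algebraMap_eq]
      exact hmaxC.symm
    have hres : ∀ x : AdicCompletion (maximalIdeal A) A, ∃ b : S,
        x - algebraMap S (AdicCompletion (maximalIdeal A) A) b ∈
          maximalIdeal (AdicCompletion (maximalIdeal A) A) := by
      intro x
      obtain ⟨a, ha⟩ := exists_sub_algebraMap_mem_maximalIdeal_adicCompletion A x
      exact ⟨algebraMap A S a, by rw [← IsScalarTower.algebraMap_apply]; exact ha⟩
    have hSn : EGA4.HasGeomNormalFormalFibres S :=
      Groth.Agent.Lib.Helper48.hasGeomNormalFormalFibres_of_isHenselization A S hA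
    intro q hq
    haveI : q.IsPrime := hq.1.1
    have hprime : (q.map (algebraMap S (AdicCompletion (maximalIdeal A) A))).IsPrime :=
      Groth.Agent.Lib.Helper48.map_isPrime_of_henselian_of_completion_iso S
        (AdicCompletion (maximalIdeal A) A) hSn hmax (hkof S _ hres) q
    have hrad : (q.map ψ).radical = q.map (algebraMap S (AdicCompletion (maximalIdeal A) A)) :=
      hprime.radical
    rw [hrad]
    exact hprime
  · obtain ⟨Ash, _, _, _, _, hAsh⟩ := Groth.Agent.S0537.result A
    obtain ⟨Csh, _, _, _, _, hCsh⟩ :=
      Groth.Agent.S0537.result (AdicCompletion (maximalIdeal A) A)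
    have : HenselianLocalRing Csh := hCsh.henselian
    have hHAsh : HenselianLocalRing Ash := hAsh.henselian
    let _ : Algebra A Csh := ((algebraMap (AdicCompletion (maximalIdeal A) A) Csh).comp
      (algebraMap A (AdicCompletion (maximalIdeal A) A))).toAlgebra
    have : IsScalarTower A (AdicCompletion (maximalIdeal A) A) Csh :=
      IsScalarTower.of_algebraMap_eq (fun r => rfl)
    have hlocA : IsLocalHom (algebraMap A Csh) :=
      RingHom.isLocalHom_comp (algebraMap (AdicCompletion (maximalIdeal A) A) Csh)
        (algebraMap A (AdicCompletion (maximalIdeal A) A))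
    have : IsSepClosed (ResidueField Csh) := hCsh.isSepClosure.sep_closed
    have : IsSepClosed (ResidueField Ash) := hAsh.isSepClosure.sep_closed
    have : Algebra.IsSeparable (ResidueField A) (ResidueField Ash) :=
      hAsh.isSepClosure.separable
    -- `κ(Csh)` is separable over `κ(A)`
    have hsepC : Algebra.IsSeparable (ResidueField (AdicCompletion (maximalIdeal A) A))
        (ResidueField Csh) := hCsh.isSepClosure.separable
    have hsepAC : Algebra.IsSeparable (ResidueField A)
        (ResidueField (AdicCompletion (maximalIdeal A) A)) := by
      refine ⟨fun x => ?_⟩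
      obtain ⟨x, rfl⟩ := residue_surjective x
      obtain ⟨a, ha⟩ := exists_sub_algebraMap_mem_maximalIdeal_adicCompletion A x
      have : residue _ x = algebraMap (ResidueField A)
          (ResidueField (AdicCompletion (maximalIdeal A) A)) (residue A a) := by
        rw [ResidueField.algebraMap_residue]
        exact (Ideal.Quotient.eq.mpr ha)
      rw [this]
      exact isSeparable_algebraMap _
    have hsepK : Algebra.IsSeparable (ResidueField A) (ResidueField Csh) :=
      Algebra.IsSeparable.trans (ResidueField A)
        (ResidueField (AdicCompletion (maximalIdeal A) A)) (ResidueField Csh)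
    let τ : ResidueField Ash →ₐ[ResidueField A] ResidueField Csh := IsSepClosed.lift
    have hτ : (τ : ResidueField Ash →+* ResidueField Csh).comp
        (ResidueField.map (algebraMap A Ash)) = ResidueField.map (algebraMap A Csh) := by
      refine RingHom.ext fun x => ?_
      exact τ.commutes x
    have hτsurj : Function.Surjective τ := by
      let _ : Algebra (ResidueField Ash) (ResidueField Csh) := τ.toRingHom.toAlgebra
      have : IsScalarTower (ResidueField A) (ResidueField Ash) (ResidueField Csh) :=
        IsScalarTower.of_algebraMap_eq (fun x => (τ.commutes x).symm)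
      have : Algebra.IsSeparable (ResidueField Ash) (ResidueField Csh) :=
        Algebra.isSeparable_tower_top_of_isSeparable (ResidueField A) (ResidueField Ash)
          (ResidueField Csh)
      exact IsSepClosed.algebraMap_surjective (ResidueField Ash) (ResidueField Csh)
    obtain ⟨v, ⟨hv1, hv2⟩, -⟩ := Hensel.IsStrictHenselization.universal (R := A) (S := Ash) Csh
      (algebraMap A Csh) (τ : ResidueField Ash →+* ResidueField Csh) hτ
    let _ : Algebra Ash Csh := v.toAlgebra
    have : IsScalarTower A Ash Csh :=
      IsScalarTower.of_algebraMap_eq (fun r => (DFunLike.congr_fun hv1 r).symm)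
    have : Module.Flat (AdicCompletion (maximalIdeal A) A) Csh :=
      HensK.flat_of_isStrictHenselization _ _
    have : Module.Flat A Csh := Module.Flat.trans A (AdicCompletion (maximalIdeal A) A) Csh
    have hmaxAsh := HensK.map_maximalIdeal_of_isStrictHenselization (R := A) (S := Ash)
    have hmaxCsh := HensK.map_maximalIdeal_of_isStrictHenselization
      (R := AdicCompletion (maximalIdeal A) A) (S := Csh)
    obtain ⟨hflat, hloc⟩ := Branch.flat_and_isLocalHom_of_isEtaleCoveredFin A Ash Csh
      (isEtaleCoveredFin_of_isStrictHenselization A Ash) hmaxAsh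
    have hNAsh : IsNoetherianRing Ash :=
      (isNoetherianRing_iff_of_isStrictHenselization A Ash).mp inferInstance
    have hNCsh : IsNoetherianRing Csh :=
      (isNoetherianRing_iff_of_isStrictHenselization (AdicCompletion (maximalIdeal A) A) Csh).mp
        inferInstance
    have hmax : (maximalIdeal Ash).map (algebraMap Ash Csh) = maximalIdeal Csh := by
      rw [← hmaxAsh, Ideal.map_map, ← IsScalarTower.algebraMap_eq,
        IsScalarTower.algebraMap_eq A (AdicCompletion (maximalIdeal A) A) Csh, ← Ideal.map_map,
        ← hmaxC, hmaxCsh]
    have hres : ∀ x : Csh, ∃ b : Ash, x - algebraMap Ash Csh b ∈ maximalIdeal Csh := by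
      intro x
      obtain ⟨y, hy⟩ := hτsurj (residue Csh x)
      obtain ⟨b, rfl⟩ := residue_surjective y
      refine ⟨b, ?_⟩
      rw [← Ideal.Quotient.eq]
      change residue Csh x = residue Csh (v b)
      rw [hv2 b]
      exact hy.symm
    have hAshn : EGA4.HasGeomNormalFormalFibres Ash :=
      Groth.Agent.Lib.Helper48.hasGeomNormalFormalFibres_of_isStrictHenselization A Ash hA
    rw [← Groth.Agent.S9238.result A Ash, ← Groth.Agent.S9238.result
      (AdicCompletion (maximalIdeal A) A) Csh]
    refine ((Branch.card_minimalPrimes_eq_iff_radical_map_isPrime Ash Csh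
      (minimalPrimes.finite_of_isNoetherianRing Ash)
      (minimalPrimes.finite_of_isNoetherianRing Csh)).mpr ?_).symm
    intro q hq
    haveI : q.IsPrime := hq.1.1
    have hprime : (q.map (algebraMap Ash Csh)).IsPrime :=
      Groth.Agent.Lib.Helper48.map_isPrime_of_henselian_of_completion_iso Ash Csh hAshn hmax
        (hkof Ash Csh hres) q
    rw [hprime.radical]
    exact hprime

end Groth.Agent.S9244
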