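import Groth.Statements.S9257
import Groth.Agent.Lib.Helper64.CplSurj
import Mathlib

set_option autoImplicit false
universe u
open CAlg

namespace Groth.Agent.S9257

open Groth.Agent.Lib.Helper64 TensorProduct IsLocalRing

section Core

variable (R : Type u) [CommRing R] (q : Ideal R) [q.IsPrime] (P : Ideal (R ⧸ q)) [P.IsPrime]

/-- the local ring `R_p`, `p` the preimage of `P` -/
abbrev LocA : Type u := Localization.AtPrime (P.comap (Ideal.Quotient.mk q))

/-- the structure map `R_p → (R/q)_P` -/
@[reducible] noncomputable def locAlgebra : Algebra (LocA R q P) (Localization.AtPrime P) :=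
  (Localization.localRingHom (P.comap (Ideal.Quotient.mk q)) P (Ideal.Quotient.mk q) rfl).toAlgebra

attribute [local instance] locAlgebra

theorem loc_surjective :
    Function.Surjective (algebraMap (LocA R q P) (Localization.AtPrime P)) :=
  RingHom.surjective_localRingHom_of_surjective _ Ideal.Quotient.mk_surjective P

theorem comap_bot_eq :
    (⊥ : Ideal (Localization.AtPrime P)).comap (algebraMap (LocA R q P) (Localization.AtPrime P)) =
      q.map (algebraMap R (LocA R q P)) := by
  rw [← IsLocalization.map_comap (P.comap (Ideal.Quotient.mk q)).primeCompl (LocA R q P)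
    ((⊥ : Ideal (Localization.AtPrime P)).comap (algebraMap (LocA R q P) (Localization.AtPrime P)))]
  congr 1
  rw [Ideal.under_def, Ideal.comap_comap]
  have hcomp : (algebraMap (LocA R q P) (Localization.AtPrime P)).comp (algebraMap R (LocA R q P)) =
      (algebraMap (R ⧸ q) (Localization.AtPrime P)).comp (Ideal.Quotient.mk q) := by
    ext x
    exact Localization.localRingHom_to_map _ _ _ rfl x
  rw [hcomp, ← Ideal.comap_comap]
  have hinj : Function.Injective (algebraMap (R ⧸ q) (Localization.AtPrime P)) :=
    IsLocalization.injective (Localization.AtPrime P) P.primeCompl_le_nonZeroDivisors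
  have h1 : (⊥ : Ideal (Localization.AtPrime P)).comap (algebraMap (R ⧸ q) (Localization.AtPrime P)) = ⊥ := by
    rw [← RingHom.ker_eq_comap_bot, (RingHom.injective_iff_ker_eq_bot _).mp hinj]
  rw [h1, ← RingHom.ker_eq_comap_bot, Ideal.mk_ker]

theorem key [IsNoetherianRing R] (𝔮 : Ideal (LocA R q P)) [𝔮.IsPrime]
    (h𝔮 : 𝔮 = (⊥ : Ideal (Localization.AtPrime P)).comap
      (algebraMap (LocA R q P) (Localization.AtPrime P))) :
    CAlg.IsGeometricallyRegular (⊥ : Ideal (Localization.AtPrime P)).ResidueField
        (EGA4.formalFibre (Localization.AtPrime P) (⊥ : Ideal (Localization.AtPrime P))) ↔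
      CAlg.IsGeometricallyRegular 𝔮.ResidueField (EGA4.formalFibre (LocA R q P) 𝔮) := by
  have hN : IsNoetherianRing (LocA R q P) :=
    IsLocalization.isNoetherianRing (P.comap (Ideal.Quotient.mk q)).primeCompl _ inferInstance
  have hsurj := loc_surjective R q P
  have hnt := nontrivial_quot_ker (LocA R q P) (Localization.AtPrime P) hsurj
  let φ := Ideal.ResidueField.map 𝔮 (⊥ : Ideal (Localization.AtPrime P))
    (algebraMap (LocA R q P) (Localization.AtPrime P)) h𝔮
  have hφ : Function.Bijective φ :=
    (RingHom.surjectiveOnStalks_of_surjective hsurj).residueFieldMap_bijective 𝔮 ⊥ h𝔮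
  let ψ : 𝔮.ResidueField ≃+* (⊥ : Ideal (Localization.AtPrime P)).ResidueField :=
    RingEquiv.ofBijective φ hφ
  let _ : Algebra 𝔮.ResidueField (⊥ : Ideal (Localization.AtPrime P)).ResidueField := φ.toAlgebra
  constructor
  · intro h k' _ _ hfin
    let _ : Algebra (⊥ : Ideal (Localization.AtPrime P)).ResidueField k' :=
      ((algebraMap 𝔮.ResidueField k').comp (ψ.symm : _ →+* _)).toAlgebra
    have hK : algebraMap 𝔮.ResidueField k' =
        (algebraMap (⊥ : Ideal (Localization.AtPrime P)).ResidueField k').comp φ := by
      refine RingHom.ext fun x => ?_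
      change algebraMap 𝔮.ResidueField k' x = algebraMap 𝔮.ResidueField k' (ψ.symm (ψ x))
      rw [RingEquiv.symm_apply_apply]
    have : IsScalarTower 𝔮.ResidueField (⊥ : Ideal (Localization.AtPrime P)).ResidueField k' :=
      IsScalarTower.of_algebraMap_eq fun x => by rw [hK]; rfl
    have : Module.Finite (⊥ : Ideal (Localization.AtPrime P)).ResidueField k' :=
      Module.Finite.of_restrictScalars_finite 𝔮.ResidueField _ k'
    obtain ⟨e⟩ := nonempty_ringEquiv_formalFibre_tensor_of_surjective (LocA R q P)
      (Localization.AtPrime P) hsurj ⊥ 𝔮 h𝔮 k' hK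
    have hreg : IsRegularRing (k' ⊗[(⊥ : Ideal (Localization.AtPrime P)).ResidueField]
        (EGA4.formalFibre (Localization.AtPrime P) ⊥)) := h k' inferInstance
    exact IsRegularRing.of_ringEquiv (R := k' ⊗[(⊥ : Ideal (Localization.AtPrime P)).ResidueField]
        (EGA4.formalFibre (Localization.AtPrime P) ⊥)) e
  · intro h k' _ _ hfin
    let _ : Algebra 𝔮.ResidueField k' :=
      ((algebraMap (⊥ : Ideal (Localization.AtPrime P)).ResidueField k').comp φ).toAlgebra
    have : IsScalarTower 𝔮.ResidueField (⊥ : Ideal (Localization.AtPrime P)).ResidueField k' :=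
      IsScalarTower.of_algebraMap_eq fun x => rfl
    have : Module.Finite 𝔮.ResidueField (⊥ : Ideal (Localization.AtPrime P)).ResidueField :=
      Module.Finite.of_surjective (Algebra.linearMap _ _) hφ.2
    have : Module.Finite 𝔮.ResidueField k' :=
      Module.Finite.trans (⊥ : Ideal (Localization.AtPrime P)).ResidueField k'
    obtain ⟨e⟩ := nonempty_ringEquiv_formalFibre_tensor_of_surjective (LocA R q P)
      (Localization.AtPrime P) hsurj ⊥ 𝔮 h𝔮 k' rfl
    have hreg : IsRegularRing (k' ⊗[𝔮.ResidueField] (EGA4.formalFibre (LocA R q P) 𝔮)) :=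
      h k' inferInstance
    exact IsRegularRing.of_ringEquiv
      (R := k' ⊗[𝔮.ResidueField] (EGA4.formalFibre (LocA R q P) 𝔮)) e.symm

end Core

/-- A Noetherian ring R is a G-ring exactly when, for all primes q ⊆ p of R, the completion of the local
domain (R/q)_p tensored with its fraction field κ(q) is geometrically regular over κ(q). Here the
pairs q ⊆ p are enumerated as primes P of R/q. -/
theorem result (R : Type u) [CommRing R] [IsNoetherianRing R] :
    CAlg.IsGRing R ↔
      ∀ (q : Ideal R) [q.IsPrime] (P : Ideal (R ⧸ q)) [P.IsPrime],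
        CAlg.IsGeometricallyRegular (⊥ : Ideal (Localization.AtPrime P)).ResidueField
          (EGA4.formalFibre (Localization.AtPrime P) (⊥ : Ideal (Localization.AtPrime P))) := by

  constructor
  · intro hG q _ P _
    obtain ⟨_, hG⟩ := hG
    have h := hG (P.comap (Ideal.Quotient.mk q))
    let _ := locAlgebra R q P
    rw [key R q P ((⊥ : Ideal _).comap (algebraMap (LocA R q P) (Localization.AtPrime P))) rfl]
    exact (h.2 _).2
  · intro H
    refine ⟨inferInstance, fun p hp => ?_⟩
    have hN : IsNoetherianRing (Localization.AtPrime p) :=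
      IsLocalization.isNoetherianRing p.primeCompl _ inferInstance
    have hff := Groth.Agent.Lib.Helper29.faithfullyFlat_cpl (Localization.AtPrime p)
    refine ⟨inferInstance, fun 𝔮 h𝔮 => ⟨?_, ?_⟩⟩
    · have hNc : IsNoetherianRing (EGA4.Cpl (Localization.AtPrime p)) :=
        Groth.Agent.Lib.Helper29.isNoetherianRing_cpl _
      have h1 : IsNoetherianRing
          (EGA4.Cpl (Localization.AtPrime p) ⊗[Localization.AtPrime p] 𝔮.ResidueField) :=
        Algebra.EssFiniteType.isNoetherianRing (EGA4.Cpl (Localization.AtPrime p))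
          (EGA4.Cpl (Localization.AtPrime p) ⊗[Localization.AtPrime p] 𝔮.ResidueField)
      exact isNoetherianRing_of_ringEquiv _
        (Algebra.TensorProduct.comm (Localization.AtPrime p) (EGA4.Cpl (Localization.AtPrime p))
          𝔮.ResidueField).toRingEquiv
    · obtain ⟨q, hq, hqp, rfl⟩ : ∃ q : Ideal R, q.IsPrime ∧ q ≤ p ∧
          𝔮 = q.map (algebraMap R (Localization.AtPrime p)) := by
        refine ⟨𝔮.comap (algebraMap R _), inferInstance, ?_,
          (IsLocalization.map_comap p.primeCompl _ 𝔮).symm⟩
        intro x hx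
        by_contra hxp
        have hu : IsUnit (algebraMap R (Localization.AtPrime p) x) :=
          IsLocalization.map_units (Localization.AtPrime p) (⟨x, hxp⟩ : p.primeCompl)
        exact h𝔮.ne_top (Ideal.eq_top_of_isUnit_mem _ hx hu)
      obtain ⟨P, hP, rfl⟩ : ∃ P : Ideal (R ⧸ q), P.IsPrime ∧
          p = P.comap (Ideal.Quotient.mk q) := by
        have hker : RingHom.ker (Ideal.Quotient.mk q) ≤ p := by rw [Ideal.mk_ker]; exact hqp
        refine ⟨p.map (Ideal.Quotient.mk q),
          Ideal.map_isPrime_of_surjective Ideal.Quotient.mk_surjective hker, ?_⟩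
        rw [Ideal.comap_map_of_surjective _ Ideal.Quotient.mk_surjective, ← RingHom.ker_eq_comap_bot]
        exact (sup_eq_left.mpr hker).symm
      let _ := locAlgebra R q P
      exact (key R q P _ (comap_bot_eq R q P).symm).mp (H q P)

end Groth.Agent.S9257
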