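import Groth.Statements.S9261
import Mathlib.LinearAlgebra.TensorProduct.Pi
import Mathlib.RingTheory.Flat.Basic
-- import your own Groth.Agent.* helpers here

set_option autoImplicit false
universe u
open CAlg

namespace Groth.Agent.S9261

/-- Let G be a finite group acting on a ring R, S = R^G its ring of invariants (here: S → R injective
with image the invariants) and A a flat S-algebra. Then the map A → A ⊗_S R is injective with image
the invariants of G acting on A ⊗_S R through the second factor; that is, A → (A ⊗_S R)^G is an
isomorphism. -/
theorem result (S R A G : Type u) [CommRing S] [CommRing R] [Algebra S R]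
    [FaithfulSMul S R] [Group G] [Finite G] [MulSemiringAction G R] [SMulCommClass G S R]
    [Algebra.IsInvariant S R G] [CommRing A] [Algebra S A] [Module.Flat S A] :
    Function.Injective (algebraMap A (TensorProduct S A R)) ∧
      ∀ x : TensorProduct S A R,
        (∀ σ : G, Algebra.TensorProduct.map (AlgHom.id S A) (MulSemiringAction.toAlgHom S R σ) x = x) →
          x ∈ Set.range (algebraMap A (TensorProduct S A R)) := by
  classical
  cases nonempty_fintype G
  -- the inclusion `S → R` and the map `r ↦ (σ • r - r)_σ`
  let ι : S →ₗ[S] R := Algebra.linearMap S R
  let d : R →ₗ[S] (G → R) :=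
    LinearMap.pi fun σ => (MulSemiringAction.toAlgHom S R σ).toLinearMap - LinearMap.id
  have hι : Function.Injective ι := FaithfulSMul.algebraMap_injective S R
  have hex : Function.Exact ι d := by
    intro r
    constructor
    · intro hr
      have hr' : ∀ σ : G, σ • r = r := by
        intro σ
        have := congrFun hr σ
        simpa [d, sub_eq_zero] using this
      obtain ⟨s, hs⟩ := Algebra.IsInvariant.isInvariant (A := S) (G := G) r hr'
      exact ⟨s, hs⟩
    · rintro ⟨s, rfl⟩
      funext σ
      simp [d, ι, smul_algebraMap]
  have hex' := Module.Flat.lTensor_exact A hex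
  have hinj' := Module.Flat.lTensor_preserves_injective_linearMap (M := A) ι hι
  -- `a ↦ a ⊗ 1` through `A ⊗ S`
  have key : ∀ a : A, algebraMap A (TensorProduct S A R) a = (ι.lTensor A) (a ⊗ₜ[S] (1 : S)) := by
    intro a
    simp [ι, Algebra.TensorProduct.algebraMap_apply]
  constructor
  · intro a b hab
    rw [key, key] at hab
    have h1 := hinj' hab
    have h2 := congrArg (TensorProduct.rid S A) h1
    simpa using h2
  · intro x hx
    have hdx : (d.lTensor A) x = 0 := by
      apply (TensorProduct.piRight S S A (fun _ : G => R)).injective
      rw [map_zero]
      funext σ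
      have hlin : ∀ y : TensorProduct S A R,
          (TensorProduct.piRight S S A (fun _ : G => R)) ((d.lTensor A) y) σ =
          Algebra.TensorProduct.map (AlgHom.id S A) (MulSemiringAction.toAlgHom S R σ) y - y := by
        intro y
        induction y using TensorProduct.induction_on with
        | zero => simp
        | tmul a r => simp [d, TensorProduct.tmul_sub]
        | add y z hy hz =>
          simp only [map_add, Pi.add_apply] at hy hz ⊢
          rw [hy, hz]; abel
      rw [hlin x, hx σ, sub_self]
      rfl
    obtain ⟨y, hy⟩ := (hex' x).mp hdx
    -- `y : A ⊗ S` comes from `A`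
    refine ⟨TensorProduct.rid S A y, ?_⟩
    rw [key, ← hy]
    congr 1
    exact ((TensorProduct.rid S A).symm_apply_apply y)

end Groth.Agent.S9261
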