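import Groth.Statements.S9262
import Groth.Agent.Lib.Helper47.DVRRegular
import Groth.Agent.Lib.Helper47.RegularLocalFlat
import Groth.Agent.Lib.Helper9.Hens.Regular
import Groth.Agent.Lib.Helper9.Hens.Dimension
import Groth.Agent.Lib.Helper9.Hens.NoetherianHens
import Groth.Agent.Lib.Helper9.HensK.StrictUnique

set_option autoImplicit false
universe u
open Hensel

namespace Groth.Agent.S9262

/-- Let R be a Noetherian local ring with henselization S and strict henselization T. Then R is a
discrete valuation ring exactly when S is one, and exactly when T is one. -/
theorem result (R S T : Type u)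
    [CommRing R] [IsLocalRing R] [IsNoetherianRing R] [CommRing S] [IsLocalRing S] [Algebra R S]
    [IsLocalHom (algebraMap R S)] [Hensel.IsHenselization R S] [CommRing T] [IsLocalRing T]
    [Algebra R T] [IsLocalHom (algebraMap R T)] [Hensel.IsStrictHenselization R T] :
    ((∃ _ : IsDomain R, IsDiscreteValuationRing R) ↔ (∃ _ : IsDomain S, IsDiscreteValuationRing S)) ∧
      ((∃ _ : IsDomain R, IsDiscreteValuationRing R) ↔
        (∃ _ : IsDomain T, IsDiscreteValuationRing T)) := by
  open Groth.Agent.Lib.Helper47 Groth.Agent.Lib.Helper9 in
  constructor
  · rw [exists_isDiscreteValuationRing_iff, exists_isDiscreteValuationRing_iff,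
      isRegularLocalRing_iff_of_isHenselization R S, ringKrullDim_eq_of_isHenselization R S]
  · have hN : IsNoetherianRing T :=
      (isNoetherianRing_iff_of_isStrictHenselization R T).mp inferInstance
    have hflat : Module.Flat R T := HensK.flat_of_isStrictHenselization R T
    have hm := HensK.map_maximalIdeal_of_isStrictHenselization R T
    rw [exists_isDiscreteValuationRing_iff, exists_isDiscreteValuationRing_iff,
      isRegularLocalRing_iff_of_flat_of_map_maximalIdeal hm,
      ringKrullDim_eq_of_flat_of_map_maximalIdeal hm]

end Groth.Agent.S9262
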