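import Groth.Statements.S9265
import Groth.Agent.Lib.Helper47.LocExact

set_option autoImplicit false
universe u
attribute [local instance] HasDerivedCategory.standard
open CategoryTheory
open DerCA

namespace Groth.Agent.S9265

/-- Every element of the cohomology of the extended alternating Cech complex of M with respect to f_1,
..., f_r is killed by a common power of the f_i; in particular these cohomology modules are
supported on V(f_1, ..., f_r). -/
theorem result (R : Type u) [CommRing R] (fs : List R) (M : ModuleCat.{u} R)
    (q : ℤ) (x : DerCA.extCechH fs M q) :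
    ∃ n : ℕ, 1 ≤ n ∧ ∀ f ∈ fs, (f ^ n) • x = 0 := by
  -- each `f ∈ fs` kills `x` after some power; take a common exponent
  have key : ∀ l : List R, (∀ f ∈ l, ∃ n : ℕ, f ^ n • x = 0) →
      ∃ n : ℕ, 1 ≤ n ∧ ∀ f ∈ l, (f ^ n) • x = 0 := by
    intro l
    induction l with
    | nil => intro _; exact ⟨1, le_rfl, by simp⟩
    | cons g l ih =>
      intro h
      obtain ⟨n, hn1, hn⟩ := ih (fun f hf => h f (List.mem_cons_of_mem _ hf))
      obtain ⟨m, hm⟩ := h g List.mem_cons_self
      refine ⟨n + m, by omega, ?_⟩
      intro f hf
      rcases List.mem_cons.mp hf with rfl | hf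
      · rw [pow_add, mul_smul, hm, smul_zero]
      · rw [add_comm, pow_add, mul_smul, hn f hf, smul_zero]
  exact key fs (fun f hf =>
    Groth.Agent.Lib.Helper47.exists_pow_smul_extCechH_eq_zero M fs f hf q x)

end Groth.Agent.S9265
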