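import Groth.Statements.S9268
import Mathlib
import Groth.Agent.Lib.Helper62.LocalJacobianAdic

set_option autoImplicit false
universe u
open CAlg

namespace Groth.Agent.S9268

open Groth.Agent.Lib.Helper62.LocalJacobian Groth.Agent.Lib.Helper62.LocalJacobianAdic
  Groth.Agent.Lib.Helper62.JacobianFS IsLocalRing

theorem aux {A B : Type u} [CommRing A] [CommRing B] [Algebra A B] (A' : Type u) [CommRing A']
    [Algebra A A'] [Algebra A' B] [IsScalarTower A A' B] [IsNoetherianRing A']
    [Algebra.FormallySmooth A A'] (q : Ideal B) [q.IsPrime]
    (hsurjAB : Function.Surjective (algebraMap A' B)) :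
    letI := Localization.AtPrime.algebraOfLiesOver (q.comap (algebraMap A B)) q
    CAlgX.IsAdicFormallySmooth (Localization.AtPrime (q.comap (algebraMap A B)))
      (Localization.AtPrime q) (maximalIdeal (Localization.AtPrime q)) →
    Algebra.FormallySmooth A (Localization.AtPrime q) := by
  intro h
  let q' : Ideal A' := q.comap (algebraMap A' B)
  have : q'.IsPrime := Ideal.comap_isPrime _ _
  have : q.LiesOver q' := ⟨rfl⟩
  have : q'.LiesOver (q.comap (algebraMap A B)) := ⟨by
    show q.comap (algebraMap A B) = (q.comap (algebraMap A' B)).comap (algebraMap A A')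
    rw [Ideal.comap_comap, ← IsScalarTower.algebraMap_eq]⟩
  letI := Localization.AtPrime.algebraOfLiesOver (q.comap (algebraMap A B)) q
  letI := Localization.AtPrime.algebraOfLiesOver q' q
  letI := Localization.AtPrime.algebraOfLiesOver (q.comap (algebraMap A B)) q'
  have hsurj : Function.Surjective
      (algebraMap (Localization.AtPrime q') (Localization.AtPrime q)) :=
    localRingHom_surjective q' q hsurjAB
  have : Algebra.FormallyEtale A' (Localization.AtPrime q') :=
    Algebra.FormallyEtale.of_isLocalization q'.primeCompl
  have : Algebra.FormallySmooth A (Localization.AtPrime q') :=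
    Algebra.FormallySmooth.comp A A' (Localization.AtPrime q')
  have : IsNoetherianRing (Localization.AtPrime q') :=
    IsLocalization.isNoetherianRing q'.primeCompl _ inferInstance
  exact formallySmooth_of_isAdicFormallySmooth
    (R₀ := A) (R₁ := Localization.AtPrime (q.comap (algebraMap A B)))
    (P := Localization.AtPrime q') (C := Localization.AtPrime q) hsurj h


/-- Suppose A is a Noetherian ring and B is a finitely generated A-algebra, and consider a prime q of B
lying over p in A. Then A → B is smooth at q (meaning some g not in q makes A → B_g smooth) exactly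
when the induced map A_p → B_q is formally smooth with respect to the adic topology defined by the
maximal ideal of B_q. -/
theorem result (A B : Type u) [CommRing A] [IsNoetherianRing A]
    [CommRing B] [Algebra A B] [Algebra.FiniteType A B] (q : Ideal B) [q.IsPrime] :
    (∃ g : B, g ∉ q ∧ Algebra.Smooth A (Localization.Away g)) ↔
      letI := (Localization.localRingHom (Ideal.comap (algebraMap A B) q) q (algebraMap A B) rfl).toAlgebra
      CAlgX.IsAdicFormallySmooth (Localization.AtPrime (Ideal.comap (algebraMap A B) q))
        (Localization.AtPrime q) (IsLocalRing.maximalIdeal (Localization.AtPrime q)) := by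
  classical
  have : q.LiesOver (q.comap (algebraMap A B)) := ⟨rfl⟩
  have hfp : Algebra.FinitePresentation A B :=
    Algebra.FinitePresentation.of_finiteType.mp inferInstance
  have hL : (∃ g : B, g ∉ q ∧ Algebra.Smooth A (Localization.Away g)) ↔
      Algebra.IsSmoothAt A q := by
    constructor
    · rintro ⟨g, hg, hsm⟩
      have h := Algebra.basicOpen_subset_smoothLocus_iff_smooth.mpr hsm
      exact h (show (⟨q, inferInstance⟩ : PrimeSpectrum B) ∈ PrimeSpectrum.basicOpen g from hg)
    · intro h
      have : Algebra.IsSmoothAt A q := h
      obtain ⟨f, hf, hsm⟩ := Algebra.IsSmoothAt.exists_notMem_smooth A q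
      exact ⟨f, hf, hsm⟩
  rw [hL]
  letI := Localization.AtPrime.algebraOfLiesOver (q.comap (algebraMap A B)) q
  show Algebra.FormallySmooth A (Localization.AtPrime q) ↔
    CAlgX.IsAdicFormallySmooth (Localization.AtPrime (q.comap (algebraMap A B)))
      (Localization.AtPrime q) (maximalIdeal (Localization.AtPrime q))
  constructor
  · intro h
    have : Algebra.FormallySmooth (Localization.AtPrime (q.comap (algebraMap A B)))
        (Localization.AtPrime q) :=
      Algebra.FormallySmooth.localization_base (R := A) (q.comap (algebraMap A B)).primeCompl
    exact isAdicFormallySmooth_of_formallySmooth _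
  · intro h
    obtain ⟨n, φ, hφ⟩ :=
      Algebra.FiniteType.iff_quotient_mvPolynomial''.mp ‹Algebra.FiniteType A B›
    letI : Algebra (MvPolynomial (Fin n) A) B := φ.toRingHom.toAlgebra
    haveI : IsScalarTower A (MvPolynomial (Fin n) A) B :=
      IsScalarTower.of_algebraMap_eq' φ.comp_algebraMap.symm
    exact aux (MvPolynomial (Fin n) A) q hφ h

end Groth.Agent.S9268
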