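import Groth.Statements.S9274
import Groth.Agent.H8.FinReg
import Groth.Agent.H8.FormalFibreFin3

set_option autoImplicit false
universe u
open CAlg

namespace Groth.Agent.S9274

/-- For a Noetherian ring R, being a G-ring is equivalent to the following: whenever S is an R-algebra
that is finite and free as an R-module, every formal fibre of every local ring of S is a regular
ring. -/
theorem result (R : Type u) [CommRing R] [IsNoetherianRing R] :
    CAlg.IsGRing R ↔
      ∀ (S : Type u) [CommRing S] [Algebra R S] [Module.Finite R S] [Module.Free R S]
        (q : Ideal S) [q.IsPrime] (p : Ideal (Localization.AtPrime q)) [p.IsPrime],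
        IsRegularRing (EGA4.formalFibre (Localization.AtPrime q) p) := by
  constructor
  · -- (→)
    rintro ⟨hN, hG⟩ S _ _ _ _ q _ P _
    haveI : q.LiesOver (q.under R) := ⟨rfl⟩
    have h1 := Groth.Agent.H8.FinReg.isRegularHom_cpl_of_finite R S (q.under R) q (hG (q.under R))
    haveI h2 := (h1.2 P).2 P.ResidueField inferInstance
    exact IsRegularRing.of_ringEquiv (R := TensorProduct P.ResidueField P.ResidueField
      (P.Fiber (AdicCompletion (IsLocalRing.maximalIdeal (Localization.AtPrime q))
        (Localization.AtPrime q)))) (Algebra.TensorProduct.lid _ _).toRingEquiv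
  · -- (←)
    intro H
    refine ⟨inferInstance, fun p _ => ?_⟩
    haveI : IsNoetherianRing (Localization.AtPrime p) :=
      IsLocalization.isNoetherianRing p.primeCompl _ inferInstance
    haveI := Groth.Agent.Lib.Helper29.isNoetherianRing_cpl (Localization.AtPrime p)
    refine ⟨inferInstance, fun Q _ => ?_⟩
    have hNfib : IsNoetherianRing (Q.Fiber (AdicCompletion
        (IsLocalRing.maximalIdeal (Localization.AtPrime p)) (Localization.AtPrime p))) :=
      Groth.Agent.Lib.Helper29.isNoetherianRing_fiber (Localization.AtPrime p) _ Q
    refine ⟨hNfib, ?_⟩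
    intro k' _ _ hfin
    exact Groth.Agent.H8.FFF.isRegularRing_tensor_fibre_of_finite_free R H p Q k'

end Groth.Agent.S9274
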