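import Groth.Statements.S9275
import Mathlib.RingTheory.RingHom.Etale
import Mathlib.RingTheory.Localization.Away.Basic
-- import your own Groth.Agent.* helpers here

set_option autoImplicit false
universe u
open EtAlg

namespace Groth.Agent.S9275

/-- If `A → B_h` is étale then so is `A → B_g → (B_g)_h`. -/
theorem etale_comp_away (A B : Type u) [CommRing A] [CommRing B] [Algebra A B] (g h : B)
    [Algebra.Etale A (Localization.Away h)] :
    RingHom.Etale ((algebraMap (Localization.Away g)
      (Localization.Away (algebraMap B (Localization.Away g) h))).comp
        (algebraMap A (Localization.Away g))) := by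
  -- `T'` is the localization of `B_h` away from `g`, `T` that of `B_g` away from `h`
  let T' := Localization.Away (algebraMap B (Localization.Away h) g)
  let T := Localization.Away (algebraMap B (Localization.Away g) h)
  have hT' : IsLocalization.Away (h * g) T' := inferInstance
  have hT : IsLocalization.Away (h * g) T := inferInstance
  let e : T' ≃ₐ[B] T := IsLocalization.algEquiv (Submonoid.powers (h * g)) T' T
  have h1 : Algebra.Etale A T' := Algebra.Etale.comp A (Localization.Away h) T'
  have h2 : RingHom.Etale (algebraMap A T') := RingHom.etale_algebraMap.mpr h1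
  have h3 := RingHom.Etale.respectsIso.1 (algebraMap A T') e.toRingEquiv h2
  convert h3 using 1
  ext a
  simp only [RingHom.comp_apply]
  have e1 : algebraMap A T' a = algebraMap B T' (algebraMap A B a) := by
    rw [IsScalarTower.algebraMap_apply A (Localization.Away h) T',
      IsScalarTower.algebraMap_apply A B (Localization.Away h),
      ← IsScalarTower.algebraMap_apply B (Localization.Away h) T']
  have e2 : algebraMap (Localization.Away g) T (algebraMap A (Localization.Away g) a) =
      algebraMap B T (algebraMap A B a) := by
    rw [IsScalarTower.algebraMap_apply A B (Localization.Away g),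
      ← IsScalarTower.algebraMap_apply B (Localization.Away g) T]
  rw [e2, e1]
  exact (e.commutes (algebraMap A B a)).symm

/-- Let A → B be a ring map and J an ideal of B such that A → B is étale at every prime of V(J), in the
sense that every prime q ⊇ J has some h ∉ q with A → B_h étale. Then there is g ∈ B mapping to a
unit of B/J such that A → B_g is étale. -/
theorem result (A B : Type u) [CommRing A] [CommRing B]
    [Algebra A B] (J : Ideal B)
    (h : ∀ (q : Ideal B) [q.IsPrime], J ≤ q → ∃ h : B, h ∉ q ∧ Algebra.Etale A (Localization.Away h)) :
    ∃ g : B, IsUnit (Ideal.Quotient.mk J g) ∧ Algebra.Etale A (Localization.Away g) := by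
  classical
  let H : Set B := {h | Algebra.Etale A (Localization.Away h)}
  -- `J` and the span of `H` are comaximal
  have htop : J ⊔ Ideal.span H = ⊤ := by
    by_contra hne
    obtain ⟨q, hq, hle⟩ := Ideal.exists_le_maximal _ hne
    have hq' : q.IsPrime := hq.isPrime
    obtain ⟨h', hh'q, hh'⟩ := h q (le_sup_left.trans hle)
    exact hh'q (hle (Ideal.mem_sup_right (Ideal.subset_span hh')))
  obtain ⟨j, hj, g, hg, hjg⟩ := Submodule.mem_sup.mp ((Ideal.eq_top_iff_one _).mp htop)
  refine ⟨g, ?_, ?_⟩
  · have : Ideal.Quotient.mk J g = 1 := by
      rw [← map_one (Ideal.Quotient.mk J), Ideal.Quotient.eq]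
      have : g - 1 = -j := by rw [← hjg]; ring
      rw [this]
      exact J.neg_mem hj
    rw [this]
    exact isUnit_one
  · rw [← RingHom.etale_algebraMap]
    refine RingHom.Etale.ofLocalizationSpanTarget (algebraMap A (Localization.Away g))
      ((algebraMap B (Localization.Away g)) '' H) ?_ ?_
    · -- the images of `H` generate the unit ideal of `B_g`
      rw [← Ideal.map_span]
      refine Ideal.eq_top_of_isUnit_mem _ (Ideal.mem_map_of_mem _ hg)
        (IsLocalization.Away.algebraMap_isUnit g)
    · rintro ⟨_, h', hh', rfl⟩
      have : Algebra.Etale A (Localization.Away h') := hh'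
      exact etale_comp_away A B g h'

end Groth.Agent.S9275
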