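import Groth.Statements.S9278
import Groth.Agent.Lib.Helper47.McCoy
import Mathlib.RingTheory.Ideal.AssociatedPrime.Finiteness

set_option autoImplicit false
universe u
open CAlgX

namespace Groth.Agent.S9278

/-- Let R be a Noetherian local ring and φ : R^m → R^n a map of finite free modules with matrix M. Then
φ is injective if and only if the rank of M is m and the determinantal ideal I(M) is the unit ideal
or contains a nonzerodivisor. -/
theorem result (R : Type u) [CommRing R]
    [IsLocalRing R] [IsNoetherianRing R] (m n : ℕ) (M : Matrix (Fin n) (Fin m) R) :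
    Function.Injective (Matrix.mulVecLin M) ↔
      CAlgX.matrixRank M = m ∧ (CAlgX.detIdeal M = ⊤ ∨ ∃ a ∈ CAlgX.detIdeal M, IsRegular a) := by
  rw [Groth.Agent.Lib.Helper47.mulVecLin_injective_iff M]
  refine and_congr_right fun _ => ?_
  set I := CAlgX.detIdeal M with hI
  constructor
  · intro hann
    by_contra hcon
    push Not at hcon
    have hdisj : Disjoint (I : Set R) (nonZeroDivisors R) := by
      rw [Set.disjoint_left]
      intro a haI haN
      exact hcon.2 a haI (isRegular_iff_mem_nonZeroDivisors.mpr haN)
    have := Ideal.bot_lt_annihilator_of_disjoint_nonZeroDivisors hdisj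
    exact this.ne' hann
  · rintro (htop | ⟨a, haI, ha⟩)
    · rw [eq_bot_iff]
      intro b hb
      have := (Submodule.mem_annihilator.mp hb) 1 (by rw [htop]; trivial)
      simpa using this
    · rw [eq_bot_iff]
      intro b hb
      have h1 : b * a = 0 := (Submodule.mem_annihilator.mp hb) a haI
      have h2 : b * a = 0 * a := by rw [h1, zero_mul]
      exact ha.right h2

end Groth.Agent.S9278
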