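import Groth.Statements.S9279
import Mathlib
import Groth.Agent.Lib.Helper98.PunctConnD
import Groth.Agent.Lib.Helper47.CompletionIso
import Groth.Agent.Lib.Helper73.CplMap
import Groth.Agent.Lib.Helper9.Hens.NoetherianHens
import Groth.Agent.Lib.Helper9.Hens.LocalFlat

set_option autoImplicit false
universe u
open Brnch

namespace Groth.Agent.S9279

/-- For a Noetherian local ring A with henselization S and completion A^ at its maximal ideal, the
spectrum of A^ with its closed point removed is preconnected exactly when the spectrum of S with its
closed point removed is (the two sets are empty together, namely when A has dimension zero). Stated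
as: the complement of the closed point in Spec A^ is preconnected iff the complement of the closed
point in Spec S is. -/
theorem result (A S : Type u) [CommRing A]
    [IsLocalRing A] [IsNoetherianRing A] [CommRing S] [IsLocalRing S] [Algebra A S]
    [IsLocalHom (algebraMap A S)] [Hensel.IsHenselization A S] :
    IsPreconnected
        ({IsLocalRing.closedPoint (AdicCompletion (IsLocalRing.maximalIdeal A) A)}ᶜ :
          Set (PrimeSpectrum (AdicCompletion (IsLocalRing.maximalIdeal A) A))) ↔
      IsPreconnected ({IsLocalRing.closedPoint S}ᶜ : Set (PrimeSpectrum S)) := by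
  haveI hH : HenselianLocalRing S := Hensel.IsHenselization.henselian (R := A)
  haveI : Module.Flat A S := Groth.Agent.Lib.Helper9.Hens.flat_of_isHenselization A S
  haveI : IsNoetherianRing S :=
    (Groth.Agent.Lib.Helper9.isNoetherianRing_iff_of_isHenselization A S).mp inferInstance
  have hmAS := Groth.Agent.Lib.Helper9.Hens.map_maximalIdeal_of_isHenselization A S
  have hkAS := Groth.Agent.Lib.Helper9.Hens.residueField_map_bijective_of_isHenselization A S
  have hbij := Groth.Agent.Lib.Helper47.completion_map_bijective A S hmAS hkAS
    (Groth.Agent.Lib.Helper73.CplMap.cplMap A S) (Groth.Agent.Lib.Helper73.CplMap.cplMap_comp A S)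
  haveI : IsLocalHom (Groth.Agent.Lib.Helper73.CplMap.cplMap A S) :=
    Groth.Agent.Lib.Helper73.CplMap.isLocalHom_cplMap A S
  have h1 := Groth.Agent.Lib.Helper98.PunctConn.isPreconnected_iff_of_isHomeomorph
    (Groth.Agent.Lib.Helper73.CplMap.cplMap A S)
    (PrimeSpectrum.isHomeomorph_comap_of_bijective hbij)
  haveI : IsNoetherianRing (AdicCompletion (IsLocalRing.maximalIdeal S) S) :=
    Groth.Agent.Lib.Helper73.CplMap.isNoetherianRing_cpl S
  have hk : ∀ c : AdicCompletion (IsLocalRing.maximalIdeal S) S, ∃ r : S,
      c - algebraMap S (AdicCompletion (IsLocalRing.maximalIdeal S) S) r ∈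
        IsLocalRing.maximalIdeal (AdicCompletion (IsLocalRing.maximalIdeal S) S) := by
    intro c
    obtain ⟨y, hy⟩ := (AdicCompletion.residueField_map_bijective S).2 (IsLocalRing.residue _ c)
    obtain ⟨r, rfl⟩ := IsLocalRing.residue_surjective y
    refine ⟨r, ?_⟩
    rw [IsLocalRing.ResidueField.map_residue] at hy
    rw [← IsLocalRing.residue_eq_zero_iff, map_sub, hy, sub_self]
  have h2 := Groth.Agent.Lib.Helper98.PunctConn.isPreconnected_iff S
    (AdicCompletion (IsLocalRing.maximalIdeal S) S) (AdicCompletion.maximalIdeal_eq_map).symm hk
  exact h1.symm.trans h2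

end Groth.Agent.S9279
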