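import Groth.Statements.S9283
-- import your own Groth.Agent.* helpers here

set_option autoImplicit false
universe u
open CAlg

namespace Groth.Agent.S9283

/-- Let R be an auto-associated ring, that is, a local ring whose maximal ideal is weakly associated to
R: some nonzero x ∈ R is killed by a power of every element of the maximal ideal. Then every proper
finitely generated ideal of R has a nonzero annihilator. -/
theorem result (R : Type u) [CommRing R] [IsLocalRing R]
    (h : ∃ x : R, x ≠ 0 ∧ ∀ f ∈ IsLocalRing.maximalIdeal R, ∃ n : ℕ, f ^ n * x = 0)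
    (I : Ideal R) (hI : I.FG) (hI' : I ≠ ⊤) : I.annihilator ≠ ⊥ := by
  classical
  obtain ⟨x, hx0, hx⟩ := h
  -- key claim: for any finite subset of the maximal ideal there is a nonzero element killed by it
  have key : ∀ s : Finset R, (∀ f ∈ s, f ∈ IsLocalRing.maximalIdeal R) →
      ∃ y : R, y ≠ 0 ∧ (∀ f ∈ IsLocalRing.maximalIdeal R, ∃ n : ℕ, f ^ n * y = 0) ∧
        ∀ f ∈ s, f * y = 0 := by
    intro s
    induction s using Finset.induction_on with
    | empty => intro _; exact ⟨x, hx0, hx, by simp⟩
    | insert a s has ih =>
      intro hs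
      obtain ⟨y, hy0, hy, hys⟩ := ih fun f hf => hs f (Finset.mem_insert_of_mem hf)
      have ha : a ∈ IsLocalRing.maximalIdeal R := hs a (Finset.mem_insert_self a s)
      have hex : ∃ n : ℕ, a ^ n * y = 0 := hy a ha
      have hn0 : Nat.find hex ≠ 0 := by
        intro h0
        have := Nat.find_spec hex
        rw [h0] at this
        exact hy0 (by simpa using this)
      obtain ⟨k, hk⟩ := Nat.exists_eq_succ_of_ne_zero hn0
      refine ⟨a ^ k * y, ?_, ?_, ?_⟩
      · exact Nat.find_min hex (by omega)
      · intro f hf
        obtain ⟨n, hn⟩ := hy f hf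
        exact ⟨n, by rw [mul_left_comm, hn, mul_zero]⟩
      · intro f hf
        rcases Finset.mem_insert.mp hf with rfl | hf
        · have := Nat.find_spec hex
          rw [hk, pow_succ'] at this
          rw [← mul_assoc]; exact this
        · rw [mul_left_comm, hys f hf, mul_zero]
  obtain ⟨s, rfl⟩ := hI
  have hle : Ideal.span (s : Set R) ≤ IsLocalRing.maximalIdeal R :=
    IsLocalRing.le_maximalIdeal hI'
  obtain ⟨y, hy0, -, hys⟩ := key s fun f hf => hle (Ideal.subset_span hf)
  intro hbot
  apply hy0
  have hmem : y ∈ (Ideal.span (s : Set R)).annihilator := by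
    rw [Ideal.span, Submodule.mem_annihilator_span]
    rintro ⟨f, hf⟩
    simpa [mul_comm] using hys f hf
  rw [hbot] at hmem
  simpa using hmem

end Groth.Agent.S9283
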