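import Groth.Statements.S9289
import Groth.Agent.H8.FinReg

set_option autoImplicit false
universe u
open CAlg

namespace Groth.Agent.S9289

/-- Let R and R' be Noetherian rings with R' of finite type over R and quasi-finite at the prime p' of
R', lying over p. If R_p has geometrically regular formal fibres, so does R'_{p'}; stated as: if the
completion map of R_p is regular, so is that of R'_{p'}. -/
theorem result (R R' : Type u) [CommRing R]
    [CommRing R'] [IsNoetherianRing R] [IsNoetherianRing R'] [Algebra R R'] [Algebra.FiniteType R R']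
    (p' : Ideal R') [p'.IsPrime] [Algebra.QuasiFiniteAt R p']
    (h : CAlg.IsRegularHom (Localization.AtPrime (Ideal.comap (algebraMap R R') p'))
      (AdicCompletion (IsLocalRing.maximalIdeal (Localization.AtPrime (Ideal.comap (algebraMap R R') p')))
        (Localization.AtPrime (Ideal.comap (algebraMap R R') p')))) :
    CAlg.IsRegularHom (Localization.AtPrime p')
      (AdicCompletion (IsLocalRing.maximalIdeal (Localization.AtPrime p')) (Localization.AtPrime p')) := by
  classical
  obtain ⟨S', hfg, r, hr, hbij⟩ :=
    Algebra.QuasiFiniteAt.exists_fg_and_exists_notMem_and_awayMap_bijective (R := R) p'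
  haveI : Module.Finite R S' := Module.Finite.iff_fg.mpr hfg
  haveI : IsNoetherianRing S' := IsNoetherianRing.of_finite R S'
  haveI hlo : p'.LiesOver (p'.comap (algebraMap S' R')) := ⟨rfl⟩
  have hsat : S'.saturation (p'.primeCompl ⊓ S'.toSubmonoid) (by simp) = ⊤ := by
    rw [eq_top_iff]
    intro x _
    obtain ⟨b, k, hb⟩ := Localization.awayMap_surjective_iff.mp hbij.2 x
    refine ⟨(r : R') ^ k, ⟨?_, pow_mem r.2 k⟩, ?_⟩
    · exact fun h => hr (Ideal.IsPrime.mem_of_pow_mem inferInstance k h)
    · change (r : R') ^ k * x ∈ S'
      have : (r : R') ^ k * x = (b : R') := hb.symm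
      rw [this]
      exact b.2
  have hloc := Localization.localRingHom_bijective_of_saturated_inf_eq_top R' hsat
    (p'.comap (algebraMap S' R'))
  haveI : IsNoetherianRing (Localization.AtPrime p') :=
    IsLocalization.isNoetherianRing p'.primeCompl _ inferInstance
  haveI : IsNoetherianRing (Localization.AtPrime (p'.comap (algebraMap S' R'))) :=
    IsLocalization.isNoetherianRing (p'.comap (algebraMap S' R')).primeCompl _ inferInstance
  haveI : (p'.comap (algebraMap S' R')).LiesOver (Ideal.comap (algebraMap R R') p') :=
    ⟨by rw [Ideal.under_def, Ideal.comap_comap, ← IsScalarTower.algebraMap_eq]⟩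
  have hfin := Groth.Agent.H8.FinReg.isRegularHom_cpl_of_finite R S'
    (Ideal.comap (algebraMap R R') p') (p'.comap (algebraMap S' R')) h
  exact Groth.Agent.H8.GRing.isRegularHom_cpl_of_ringEquiv
    (RingEquiv.ofBijective _ hloc).symm hfin

end Groth.Agent.S9289
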