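import Groth.Statements.S9290
import Groth.Agent.H8.FormalFibreFin

set_option autoImplicit false
universe u
open CAlg

namespace Groth.Agent.S9290

/-- Let R' be a Noetherian algebra of finite type over the Noetherian ring R, quasi-finite at the prime
p' over p, and let Q' ⊆ R'_{p'} and Q ⊆ R_p be primes with the same contraction to R (that is, a
prime q' ⊆ p' of R' lying over the prime q ⊆ p of R). If the formal fibre of R_p at Q is
geometrically regular over κ(Q), then the formal fibre of R'_{p'} at Q' is geometrically regular
over κ(Q'). -/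
theorem result (R R' : Type u) [CommRing R] [CommRing R']
    [IsNoetherianRing R] [IsNoetherianRing R'] [Algebra R R'] [Algebra.FiniteType R R']
    (p' : Ideal R') [p'.IsPrime] [Algebra.QuasiFiniteAt R p']
    (Q' : Ideal (Localization.AtPrime p')) [Q'.IsPrime]
    (Q : Ideal (Localization.AtPrime (Ideal.comap (algebraMap R R') p'))) [Q.IsPrime]
    (hQ : Ideal.comap (algebraMap R (Localization.AtPrime (Ideal.comap (algebraMap R R') p'))) Q =
      Ideal.comap (algebraMap R (Localization.AtPrime p')) Q')
    (h : CAlg.IsGeometricallyRegular Q.ResidueField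
      (EGA4.formalFibre (Localization.AtPrime (Ideal.comap (algebraMap R R') p')) Q)) :
    CAlg.IsGeometricallyRegular Q'.ResidueField (EGA4.formalFibre (Localization.AtPrime p') Q') := by
  classical
  obtain ⟨S', hfg, r, hr, hbij⟩ :=
    Algebra.QuasiFiniteAt.exists_fg_and_exists_notMem_and_awayMap_bijective (R := R) p'
  haveI : Module.Finite R S' := Module.Finite.iff_fg.mpr hfg
  haveI : IsNoetherianRing S' := IsNoetherianRing.of_finite R S'
  haveI hlo : p'.LiesOver (p'.comap (algebraMap S' R')) := ⟨rfl⟩
  have hsat : S'.saturation (p'.primeCompl ⊓ S'.toSubmonoid) (by simp) = ⊤ := by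
    rw [eq_top_iff]
    intro x _
    obtain ⟨b, k, hb⟩ := Localization.awayMap_surjective_iff.mp hbij.2 x
    refine ⟨(r : R') ^ k, ⟨?_, pow_mem r.2 k⟩, ?_⟩
    · exact fun h => hr (Ideal.IsPrime.mem_of_pow_mem inferInstance k h)
    · change (r : R') ^ k * x ∈ S'
      have : (r : R') ^ k * x = (b : R') := hb.symm
      rw [this]
      exact b.2
  have hloc := Localization.localRingHom_bijective_of_saturated_inf_eq_top R' hsat
    (p'.comap (algebraMap S' R'))
  haveI : IsNoetherianRing (Localization.AtPrime p') :=
    IsLocalization.isNoetherianRing p'.primeCompl _ inferInstance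
  haveI : IsNoetherianRing (Localization.AtPrime (p'.comap (algebraMap S' R'))) :=
    IsLocalization.isNoetherianRing (p'.comap (algebraMap S' R')).primeCompl _ inferInstance
  haveI : (p'.comap (algebraMap S' R')).LiesOver (Ideal.comap (algebraMap R R') p') :=
    ⟨by rw [Ideal.under_def, Ideal.comap_comap, ← IsScalarTower.algebraMap_eq]⟩
  -- transport along the isomorphism `S'_n ≃ R'_{p'}`
  refine Groth.Agent.H8.FFF.isGeometricallyRegular_formalFibre_of_bijective _ hloc Q' ?_
  refine Groth.Agent.H8.FFF.isGeometricallyRegular_formalFibre_of_finite R S'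
    (Ideal.comap (algebraMap R R') p') (p'.comap (algebraMap S' R')) Q _ ?_ h
  -- the primes correspond
  letI := Localization.AtPrime.algebraOfLiesOver (Ideal.comap (algebraMap R R') p')
    (p'.comap (algebraMap S' R'))
  have key : ∀ J₁ J₂ : Ideal (Localization.AtPrime (Ideal.comap (algebraMap R R') p')),
      J₁.comap (algebraMap R _) = J₂.comap (algebraMap R _) → J₁ = J₂ := by
    intro J₁ J₂ hJ
    have h1 := IsLocalization.map_comap (Ideal.comap (algebraMap R R') p').primeCompl _ J₁
    have h2 := IsLocalization.map_comap (Ideal.comap (algebraMap R R') p').primeCompl _ J₂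
    rw [← h1, ← h2]
    exact congrArg (Ideal.map _) hJ
  apply key
  rw [hQ, Ideal.comap_comap, Ideal.comap_comap]
  congr 1
  ext x
  change Localization.localRingHom (p'.comap (algebraMap S' R')) p' (algebraMap S' R') rfl
    (algebraMap (Localization.AtPrime (Ideal.comap (algebraMap R R') p'))
      (Localization.AtPrime (p'.comap (algebraMap S' R')))
      (algebraMap R (Localization.AtPrime (Ideal.comap (algebraMap R R') p')) x)) = _
  rw [← IsScalarTower.algebraMap_apply R (Localization.AtPrime (Ideal.comap (algebraMap R R') p'))
    (Localization.AtPrime (p'.comap (algebraMap S' R'))),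
    IsScalarTower.algebraMap_apply R S' (Localization.AtPrime (p'.comap (algebraMap S' R'))),
    Localization.localRingHom_to_map, ← IsScalarTower.algebraMap_apply R S' R',
    ← IsScalarTower.algebraMap_apply R R' (Localization.AtPrime p')]

end Groth.Agent.S9290
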