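import Groth.Statements.S9292
import Mathlib.RingTheory.Etale.Pi
import Mathlib.RingTheory.Localization.Ideal
import Mathlib.RingTheory.Localization.Away.Basic
-- import your own Groth.Agent.* helpers here

set_option autoImplicit false
universe u
open EtAlg

namespace Groth.Agent.S9292

section aux

variable {A : Type u} [CommRing A] (I : Ideal A) {n : ℕ} (a : Fin n → A)

/-- The product of the localizations away from the `a j`. -/
abbrev Prd : Type u := ∀ j : Fin n, Localization.Away (a j)

/-- componentwise membership implies membership in the extended ideal of the product -/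
theorem mem_map_of_forall (z : Prd a)
    (hz : ∀ j, z j ∈ I.map (algebraMap A (Localization.Away (a j)))) :
    z ∈ I.map (algebraMap A (Prd a)) := by
  classical
  have hsingle : ∀ j (w : Localization.Away (a j)),
      w ∈ I.map (algebraMap A (Localization.Away (a j))) →
      (Pi.single j w : Prd a) ∈ I.map (algebraMap A (Prd a)) := by
    intro j w hw
    refine Submodule.span_induction ?_ ?_ ?_ ?_ hw
    · rintro _ ⟨i, hi, rfl⟩
      have : (Pi.single j (algebraMap A (Localization.Away (a j)) i) : Prd a) =
          algebraMap A (Prd a) i * Pi.single j 1 := by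
        ext k
        by_cases hk : k = j
        · subst hk; simp
        · simp [Pi.single_eq_of_ne hk]
      rw [this]
      exact Ideal.mul_mem_right _ _ (Ideal.mem_map_of_mem _ hi)
    · simp
    · intro x y _ _ hx hy
      rw [Pi.single_add]
      exact Ideal.add_mem _ hx hy
    · intro r x _ hx
      have : (Pi.single j (r • x) : Prd a) = Pi.single j r * Pi.single j x := by
        rw [smul_eq_mul, Pi.single_mul]
      rw [this]
      exact Ideal.mul_mem_left _ _ hx
  have hsum : z = ∑ j, Pi.single j (z j) := (Finset.univ_sum_single z).symm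
  rw [hsum]
  exact Ideal.sum_mem _ fun j _ => hsingle j _ (hz j)

/-- membership in the extended ideal of the product implies componentwise membership -/
theorem forall_mem_of_mem_map (z : Prd a) (hz : z ∈ I.map (algebraMap A (Prd a))) (j : Fin n) :
    z j ∈ I.map (algebraMap A (Localization.Away (a j))) := by
  have h1 : Pi.evalRingHom (fun j => Localization.Away (a j)) j z ∈
      (I.map (algebraMap A (Prd a))).map (Pi.evalRingHom (fun j => Localization.Away (a j)) j) :=
    Ideal.mem_map_of_mem _ hz
  rw [Ideal.map_map] at h1
  exact h1

end aux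

/-- Let A be a ring, I an ideal, and e_1, ..., e_n a complete system of orthogonal idempotents of A/I
(equivalently a finite disjoint open covering of Spec(A/I)). Then one can find an A-algebra A' that
is étale over A, such that the induced map A/I → A'/IA' is bijective, together with a complete
system of orthogonal idempotents of A' lifting the e_j. -/
theorem result (A : Type u) [CommRing A] (I : Ideal A)
    (n : ℕ) (e : Fin n → A ⧸ I) (he : CompleteOrthogonalIdempotents e) :
    ∃ (A' : Type u) (_ : CommRing A') (_ : Algebra A A'), Algebra.Etale A A' ∧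
      Function.Bijective (Ideal.quotientMap (Ideal.map (algebraMap A A') I) (algebraMap A A')
        Ideal.le_comap_map) ∧
      ∃ e' : Fin n → A', CompleteOrthogonalIdempotents e' ∧
        ∀ j, Ideal.Quotient.mk (Ideal.map (algebraMap A A') I) (e' j) =
          Ideal.quotientMap (Ideal.map (algebraMap A A') I) (algebraMap A A') Ideal.le_comap_map
            (e j) := by
  classical
  choose a ha using fun j => Ideal.Quotient.mk_surjective (e j)
  -- basic relations among the lifts
  have hidem : ∀ k, a k * (a k - 1) ∈ I := by
    intro k
    rw [← Ideal.Quotient.eq_zero_iff_mem, map_mul, map_sub, map_one, ha, mul_sub, mul_one,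
      (he.idem k).eq, sub_self]
  have horth : ∀ j k, j ≠ k → a k * a j ∈ I := by
    intro j k hjk
    rw [← Ideal.Quotient.eq_zero_iff_mem, map_mul, ha, ha]
    exact he.ortho (Ne.symm hjk)
  have hsum : ∑ j, a j - 1 ∈ I := by
    rw [← Ideal.Quotient.eq_zero_iff_mem, map_sub, map_sum, map_one]
    simp only [ha]
    rw [he.complete, sub_self]
  -- consequences in the localizations
  have hunit : ∀ k, IsUnit (algebraMap A (Localization.Away (a k)) (a k)) :=
    fun k => IsLocalization.Away.algebraMap_isUnit (a k)
  have F1 : ∀ k, algebraMap A (Localization.Away (a k)) (a k) - 1 ∈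
      I.map (algebraMap A (Localization.Away (a k))) := by
    intro k
    have h1 := Ideal.mem_map_of_mem (algebraMap A (Localization.Away (a k))) (hidem k)
    rw [map_mul, map_sub, map_one] at h1
    obtain ⟨u, hu⟩ := hunit k
    have : algebraMap A (Localization.Away (a k)) (a k) - 1 =
        (↑u⁻¹ : Localization.Away (a k)) * (algebraMap A (Localization.Away (a k)) (a k) *
          (algebraMap A (Localization.Away (a k)) (a k) - 1)) := by
      rw [← mul_assoc, ← hu, Units.inv_mul, one_mul]
    rw [this]
    exact Ideal.mul_mem_left _ _ h1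
  have F2 : ∀ j k, j ≠ k → algebraMap A (Localization.Away (a k)) (a j) ∈
      I.map (algebraMap A (Localization.Away (a k))) := by
    intro j k hjk
    have h1 := Ideal.mem_map_of_mem (algebraMap A (Localization.Away (a k))) (horth j k hjk)
    rw [map_mul] at h1
    obtain ⟨u, hu⟩ := hunit k
    have : algebraMap A (Localization.Away (a k)) (a j) =
        (↑u⁻¹ : Localization.Away (a k)) * (algebraMap A (Localization.Away (a k)) (a k) *
          algebraMap A (Localization.Away (a k)) (a j)) := by
      rw [← mul_assoc, ← hu, Units.inv_mul, one_mul]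
    rw [this]
    exact Ideal.mul_mem_left _ _ h1
  refine ⟨Prd a, inferInstance, inferInstance, inferInstance, ⟨?_, ?_⟩, ?_⟩
  · -- injectivity
    rw [injective_iff_map_eq_zero]
    intro x hx
    obtain ⟨x, rfl⟩ := Ideal.Quotient.mk_surjective x
    rw [Ideal.quotientMap_mk, Ideal.Quotient.eq_zero_iff_mem] at hx
    -- each `e j * x = 0`
    have hj : ∀ j, e j * Ideal.Quotient.mk I x = 0 := by
      intro j
      have h1 := forall_mem_of_mem_map I a _ hx j
      change algebraMap A (Localization.Away (a j)) x ∈ _ at h1
      rw [IsLocalization.mem_map_algebraMap_iff (Submonoid.powers (a j))] at h1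
      obtain ⟨⟨i, ⟨_, m, rfl⟩⟩, h2⟩ := h1
      rw [← map_mul] at h2
      obtain ⟨⟨_, l, rfl⟩, h3⟩ := (IsLocalization.eq_iff_exists (Submonoid.powers (a j)) _).mp h2
      have h4 : a j ^ l * (x * a j ^ m) ∈ I := by
        simp only at h3
        rw [h3]
        exact I.mul_mem_left _ i.2
      have h5 : e j ^ (l + m) * Ideal.Quotient.mk I x = 0 := by
        rw [← ha j, ← map_pow, ← map_mul, Ideal.Quotient.eq_zero_iff_mem]
        have : a j ^ (l + m) * x = a j ^ l * (x * a j ^ m) := by ring
        rw [this]; exact h4
      have hpow : ∀ N : ℕ, e j * e j ^ N = e j := by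
        intro N
        induction N with
        | zero => simp
        | succ N ih => rw [pow_succ, ← mul_assoc, ih, (he.idem j).eq]
      calc e j * Ideal.Quotient.mk I x = (e j * e j ^ (l + m)) * Ideal.Quotient.mk I x := by
            rw [hpow]
        _ = e j * (e j ^ (l + m) * Ideal.Quotient.mk I x) := by ring
        _ = 0 := by rw [h5, mul_zero]
    calc Ideal.Quotient.mk I x = (∑ j, e j) * Ideal.Quotient.mk I x := by
          rw [he.complete, one_mul]
      _ = ∑ j, e j * Ideal.Quotient.mk I x := Finset.sum_mul _ _ _
      _ = 0 := Finset.sum_eq_zero fun j _ => hj j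
  · -- surjectivity
    intro y
    obtain ⟨y, rfl⟩ := Ideal.Quotient.mk_surjective y
    choose m x hxm using fun j => IsLocalization.Away.surj (a j) (y j)
    refine ⟨Ideal.Quotient.mk I (∑ j, a j * x j), ?_⟩
    rw [Ideal.quotientMap_mk, Ideal.Quotient.eq]
    refine mem_map_of_forall I a _ fun k => ?_
    change algebraMap A (Localization.Away (a k)) (∑ j, a j * x j) - y k ∈ _
    set J := I.map (algebraMap A (Localization.Away (a k))) with hJ
    set φ := algebraMap A (Localization.Away (a k)) with hφ
    -- work modulo `J`
    rw [← Ideal.Quotient.eq]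
    have h1 : Ideal.Quotient.mk J (φ (a k)) = 1 := by
      rw [← map_one (Ideal.Quotient.mk J), Ideal.Quotient.eq]; exact F1 k
    have h2 : ∀ j, j ≠ k → Ideal.Quotient.mk J (φ (a j)) = 0 := by
      intro j hjk
      rw [Ideal.Quotient.eq_zero_iff_mem]; exact F2 j k hjk
    have h3 : Ideal.Quotient.mk J (y k) = Ideal.Quotient.mk J (φ (x k)) := by
      have := congrArg (Ideal.Quotient.mk J) (hxm k)
      rw [map_mul, map_pow, h1, one_pow, mul_one] at this
      exact this
    rw [h3, map_sum, map_sum]
    rw [Finset.sum_eq_single k]
    · rw [map_mul, map_mul, h1, one_mul]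
    · intro j _ hjk
      rw [map_mul, map_mul, h2 j hjk, zero_mul]
    · intro hk; exact absurd (Finset.mem_univ k) hk
  · refine ⟨fun j => Pi.single j 1, CompleteOrthogonalIdempotents.single _, fun j => ?_⟩
    rw [← ha j, Ideal.quotientMap_mk, Ideal.Quotient.eq]
    refine mem_map_of_forall I a _ fun k => ?_
    change (Pi.single j (1 : Localization.Away (a j)) : Prd a) k -
      algebraMap A (Localization.Away (a k)) (a j) ∈ _
    by_cases hjk : j = k
    · subst hjk
      rw [Pi.single_eq_same]
      have := F1 j
      rw [← neg_sub]
      exact Ideal.neg_mem_iff _ |>.mpr this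
    · rw [Pi.single_eq_of_ne (Ne.symm hjk), zero_sub]
      exact Ideal.neg_mem_iff _ |>.mpr (F2 j k hjk)

end Groth.Agent.S9292
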