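import Groth.Statements.S9297
import Mathlib
import Groth.Agent.Lib.Helper22.DimFormula

set_option autoImplicit false
universe u
open EGA4

namespace Groth.Agent.S9297

/-- Let A → B be a flat local homomorphism of Noetherian local rings with B catenary and Spec(B)
equidimensional. Then Spec(B/pB) is equidimensional for every prime p of A. -/
theorem result (A B : Type u) [CommRing A] [CommRing B]
    [IsNoetherianRing A] [IsNoetherianRing B] [IsLocalRing A] [IsLocalRing B] [Algebra A B]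
    [IsLocalHom (algebraMap A B)] [Module.Flat A B] (hcat : CAlg.IsCatenary B) (heq : EGA4.IsEquidim B)
    (p : Ideal A) [p.IsPrime] : EGA4.IsEquidim (B ⧸ Ideal.map (algebraMap A B) p) := by
  set I : Ideal B := Ideal.map (algebraMap A B) p with hI
  have hfin : FiniteDimensionalOrder (PrimeSpectrum B) := (inferInstance : FiniteRingKrullDim B)
  have hmin_eq : I.minimalPrimes =
      Ideal.comap (Ideal.Quotient.mk I) '' (⊥ : Ideal (B ⧸ I)).minimalPrimes := by
    rw [← Ideal.comap_minimalPrimes_eq_of_surjective Ideal.Quotient.mk_surjective,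
      ← RingHom.ker_eq_comap_bot, Ideal.mk_ker]
  -- (F1) primes minimal over `pB` have the height of `p`
  have hF1 : ∀ q ∈ I.minimalPrimes, ∀ hq : q.IsPrime,
      Order.height (⟨q, hq⟩ : PrimeSpectrum B) = p.height := by
    intro q hqmin hq
    have hunder : q.under A = p := by
      apply le_antisymm
      · obtain ⟨q', hq'le, hq'prime, hq'over⟩ :=
          Ideal.exists_ideal_le_liesOver_of_le (p := p) (q := q.under A) q
            (fun a ha => hqmin.1.2 (Ideal.mem_map_of_mem _ ha))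
        have hIq' : I ≤ q' := by
          rw [hI, Ideal.map_le_iff_le_comap]
          exact hq'over.over.le
        have : q ≤ q' := hqmin.2 ⟨hq'prime, hIq'⟩ hq'le
        have heq : q = q' := le_antisymm this hq'le
        rw [heq]
        exact hq'over.over.symm.le
      · intro a ha
        exact hqmin.1.2 (Ideal.mem_map_of_mem _ ha)
    have hlies : q.LiesOver p := ⟨hunder.symm⟩
    have heq := Ideal.height_eq_height_add_of_liesOver_of_hasGoingDown p q
    have hzero : (q.map (Ideal.Quotient.mk I)).height = 0 := by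
      have hqmin' := hqmin
      rw [hmin_eq] at hqmin'
      obtain ⟨q', hq', rfl⟩ := hqmin'
      rw [Ideal.map_comap_of_surjective _ Ideal.Quotient.mk_surjective]
      have : q'.IsPrime := hq'.1.1
      rw [Ideal.height_eq_zero_iff]
      exact hq'
    rw [hzero, add_zero] at heq
    rw [← heq]
    exact (PrimeSpectrum.height_eq_orderHeight (⟨q, hq⟩ : PrimeSpectrum B)).symm
  -- (F3) all primes minimal over `pB` have the same coheight
  have hpfin : p.height ≠ ⊤ := Ideal.height_ne_top_of_isPrime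
  have hF3 : ∀ q₁ ∈ I.minimalPrimes, ∀ q₂ ∈ I.minimalPrimes, ∀ (h₁ : q₁.IsPrime) (h₂ : q₂.IsPrime),
      Order.coheight (⟨q₁, h₁⟩ : PrimeSpectrum B) = Order.coheight (⟨q₂, h₂⟩ : PrimeSpectrum B) := by
    intro q₁ hq₁ q₂ hq₂ h₁ h₂
    have e₁ := Groth.Agent.Lib.Helper22.ringKrullDim_eq_coheight_add_height B heq hcat ⟨q₁, h₁⟩
    have e₂ := Groth.Agent.Lib.Helper22.ringKrullDim_eq_coheight_add_height B heq hcat ⟨q₂, h₂⟩
    rw [hF1 q₁ hq₁ h₁] at e₁
    rw [hF1 q₂ hq₂ h₂] at e₂
    have e₃ : Order.coheight (⟨q₁, h₁⟩ : PrimeSpectrum B) + p.height =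
        Order.coheight (⟨q₂, h₂⟩ : PrimeSpectrum B) + p.height := by
      exact_mod_cast e₁.symm.trans e₂
    exact ENat.add_left_injective_of_ne_top hpfin e₃
  -- dimension of the quotient by a minimal prime of `B/pB`
  have hF5 : ∀ Q ∈ minimalPrimes (B ⧸ I), ∀ hQ : Q.IsPrime,
      ringKrullDim ((B ⧸ I) ⧸ Q) = ((Order.coheight (⟨Q.comap (Ideal.Quotient.mk I),
        Ideal.comap_isPrime _ _⟩ : PrimeSpectrum B) : ℕ∞) : WithBot ℕ∞) := by
    intro Q hQmin hQ
    have hle : I ≤ Q.comap (Ideal.Quotient.mk I) := by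
      intro x hx
      rw [Ideal.mem_comap, Ideal.Quotient.eq_zero_iff_mem.mpr hx]
      exact Q.zero_mem
    have e := DoubleQuot.quotQuotEquivQuotOfLE hle
    rw [Ideal.map_comap_of_surjective _ Ideal.Quotient.mk_surjective] at e
    rw [ringKrullDim_eq_of_ringEquiv e]
    exact Groth.Agent.H46.ringKrullDim_quotient_eq_coheight
      (⟨Q.comap (Ideal.Quotient.mk I), Ideal.comap_isPrime _ _⟩ : PrimeSpectrum B)
  intro Q₀ hQ₀
  have hQ₀prime : Q₀.IsPrime := hQ₀.1.1
  apply le_antisymm (ringKrullDim_quotient_le Q₀)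
  rw [ringKrullDim, Order.krullDim_eq_iSup_coheight]
  refine iSup_le fun P => ?_
  obtain ⟨Q, hQmin, hQle⟩ := Ideal.exists_minimalPrimes_le (bot_le : (⊥ : Ideal (B ⧸ I)) ≤ P.asIdeal)
  have hQprime : Q.IsPrime := hQmin.1.1
  have h1 : Order.coheight P ≤ Order.coheight (⟨Q, hQprime⟩ : PrimeSpectrum (B ⧸ I)) :=
    Order.coheight_anti (show (⟨Q, hQprime⟩ : PrimeSpectrum (B ⧸ I)) ≤ P from hQle)
  have h2 := Groth.Agent.H46.ringKrullDim_quotient_eq_coheight (⟨Q, hQprime⟩ : PrimeSpectrum (B ⧸ I))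
  simp only at h2
  have hQI : Q.comap (Ideal.Quotient.mk I) ∈ I.minimalPrimes := by
    rw [hmin_eq]; exact ⟨Q, hQmin, rfl⟩
  have hQ₀I : Q₀.comap (Ideal.Quotient.mk I) ∈ I.minimalPrimes := by
    rw [hmin_eq]; exact ⟨Q₀, hQ₀, rfl⟩
  have h3 := hF3 _ hQI _ hQ₀I (Ideal.comap_isPrime _ _) (Ideal.comap_isPrime _ _)
  calc ((Order.coheight P : ℕ∞) : WithBot ℕ∞)
      ≤ ((Order.coheight (⟨Q, hQprime⟩ : PrimeSpectrum (B ⧸ I)) : ℕ∞) : WithBot ℕ∞) := by
        exact_mod_cast h1
    _ = ringKrullDim ((B ⧸ I) ⧸ Q) := h2.symm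
    _ = _ := hF5 Q hQmin hQprime
    _ = _ := by rw [h3]
    _ = ringKrullDim ((B ⧸ I) ⧸ Q₀) := (hF5 Q₀ hQ₀ hQ₀prime).symm

end Groth.Agent.S9297
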