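import Groth.Statements.S9300
-- import your own Groth.Agent.* helpers here

set_option autoImplicit false
universe u
open CAlg

namespace Groth.Agent.S9300

/-- Let A and B be domains and A → B a ring map for which the generic point of Spec(A) has a unique
preimage in Spec(B). Then every nonzero ideal of B has nonzero preimage in A. -/
theorem result (A B : Type u) [CommRing A] [IsDomain A]
    [CommRing B] [IsDomain B] (φ : A →+* B)
    (h : ∃! q : PrimeSpectrum B, Ideal.comap φ q.asIdeal = ⊥) (J : Ideal B) (hJ : J ≠ ⊥) :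
    Ideal.comap φ J ≠ ⊥ := by
  classical
  obtain ⟨q, hq, huniq⟩ := h
  -- the zero ideal of `B` lies over the zero ideal of `A`
  have hbot : Ideal.comap φ (⊥ : Ideal B) = ⊥ := by
    rw [eq_bot_iff, ← hq]
    exact Ideal.comap_mono bot_le
  have hq0 : q = ⟨⊥, Ideal.isPrime_bot⟩ := (huniq ⟨⊥, Ideal.isPrime_bot⟩ hbot).symm
  intro hcomap
  obtain ⟨b, hbJ, hb0⟩ := Submodule.exists_mem_ne_zero_of_ne_bot hJ
  let S : Submonoid B := (nonZeroDivisors A).map φ
  have hdisj : Disjoint ((Ideal.span {b} : Ideal B) : Set B) (S : Set B) := by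
    rw [Set.disjoint_left]
    rintro x hx ⟨a, ha, rfl⟩
    have haJ : a ∈ Ideal.comap φ J := by
      rw [Ideal.mem_comap]
      exact (Ideal.span_singleton_le_iff_mem J |>.mpr hbJ) hx
    rw [hcomap] at haJ
    exact nonZeroDivisors.ne_zero ha (by simpa using haJ)
  obtain ⟨P, hP, hbP, hPS⟩ := Ideal.exists_le_prime_disjoint (Ideal.span {b}) S hdisj
  have hPcomap : Ideal.comap φ P = ⊥ := by
    rw [eq_bot_iff]
    intro a ha
    by_contra ha0
    have ha0' : a ≠ 0 := by simpa using ha0
    exact Set.disjoint_left.mp hPS (Ideal.mem_comap.mp ha)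
      ⟨a, mem_nonZeroDivisors_of_ne_zero ha0', rfl⟩
  have hPq : (⟨P, hP⟩ : PrimeSpectrum B) = q := huniq ⟨P, hP⟩ hPcomap
  have hPbot : P = ⊥ := by
    have := congrArg PrimeSpectrum.asIdeal (hPq.trans hq0)
    simpa using this
  have hbmem : b ∈ P := hbP (Ideal.mem_span_singleton_self b)
  rw [hPbot] at hbmem
  exact hb0 (by simpa using hbmem)

end Groth.Agent.S9300
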