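import Groth.Statements.S9301
import Mathlib.RingTheory.Flat.TorsionFree
import Mathlib.RingTheory.Localization.Ideal
-- import your own Groth.Agent.* helpers here

set_option autoImplicit false
universe u
open CAlg

namespace Groth.Agent.S9301

/-- Let A and B be domains and A → B a flat ring map which is the localization of a quasi-finite ring
map A → B₀ (of finite type with finite fibres). Then every nonzero ideal of B has nonzero preimage
in A. -/
theorem result (A B₀ B : Type u) [CommRing A] [IsDomain A]
    [CommRing B₀] [CommRing B] [IsDomain B] [Algebra A B₀] [Algebra.FiniteType A B₀]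
    [Algebra.QuasiFinite A B₀] (S : Submonoid B₀) [Algebra B₀ B] [IsLocalization S B] [Algebra A B]
    [IsScalarTower A B₀ B] [Module.Flat A B] (J : Ideal B) (hJ : J ≠ ⊥) :
    Ideal.comap (algebraMap A B) J ≠ ⊥ := by
  classical
  -- `A → B` is injective since `B` is flat and nonzero
  have hinj : Function.Injective (algebraMap A B) := by
    rw [injective_iff_map_eq_zero]
    intro a ha
    by_contra ha0
    have hreg : IsSMulRegular B a :=
      Module.Flat.isSMulRegular_of_nonZeroDivisors (mem_nonZeroDivisors_of_ne_zero ha0)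
    have h1 : a • (1 : B) = a • (0 : B) := by
      rw [Algebra.smul_def, mul_one, ha, smul_zero]
    exact one_ne_zero (hreg h1)
  intro hcomap
  obtain ⟨b, hbJ, hb0⟩ := Submodule.exists_mem_ne_zero_of_ne_bot hJ
  let T : Submonoid B := (nonZeroDivisors A).map (algebraMap A B)
  have hdisj : Disjoint ((Ideal.span {b} : Ideal B) : Set B) (T : Set B) := by
    rw [Set.disjoint_left]
    rintro x hx ⟨a, ha, rfl⟩
    have haJ : a ∈ Ideal.comap (algebraMap A B) J := by
      rw [Ideal.mem_comap]
      exact (Ideal.span_singleton_le_iff_mem J |>.mpr hbJ) hx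
    rw [hcomap] at haJ
    exact nonZeroDivisors.ne_zero ha (by simpa using haJ)
  obtain ⟨P, hP, hbP, hPT⟩ := Ideal.exists_le_prime_disjoint (Ideal.span {b}) T hdisj
  have hPcomap : Ideal.comap (algebraMap A B) P = ⊥ := by
    rw [eq_bot_iff]
    intro a ha
    by_contra ha0
    have ha0' : a ≠ 0 := by simpa using ha0
    exact Set.disjoint_left.mp hPT (Ideal.mem_comap.mp ha)
      ⟨a, mem_nonZeroDivisors_of_ne_zero ha0', rfl⟩
  have hbotcomap : Ideal.comap (algebraMap A B) (⊥ : Ideal B) = ⊥ := by
    rw [eq_bot_iff]
    intro a ha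
    have : algebraMap A B a = 0 := by simpa using ha
    have : a = 0 := hinj (by rw [this, map_zero])
    simpa using this
  -- pull back to `B₀`
  let P₀ : Ideal B₀ := P.comap (algebraMap B₀ B)
  let Z₀ : Ideal B₀ := (⊥ : Ideal B).comap (algebraMap B₀ B)
  have hle : Z₀ ≤ P₀ := Ideal.comap_mono bot_le
  have hunder : Z₀.under A = P₀.under A := by
    change Ideal.comap (algebraMap A B₀) (Ideal.comap (algebraMap B₀ B) ⊥) =
      Ideal.comap (algebraMap A B₀) (Ideal.comap (algebraMap B₀ B) P)
    rw [Ideal.comap_comap, Ideal.comap_comap, ← IsScalarTower.algebraMap_eq, hbotcomap, hPcomap]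
  have heq : Z₀ = P₀ := Algebra.QuasiFinite.eq_of_le_of_under_eq (R := A) Z₀ P₀ hle hunder
  have hPbot : P = ⊥ := by
    rw [← IsLocalization.map_under S B P, ← IsLocalization.map_under S B (⊥ : Ideal B)]
    exact congrArg (Ideal.map (algebraMap B₀ B)) heq.symm
  have hbmem : b ∈ P := hbP (Ideal.mem_span_singleton_self b)
  rw [hPbot] at hbmem
  exact hb0 (by simpa using hbmem)

end Groth.Agent.S9301
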