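import Groth.Statements.S9302
import Mathlib.Algebra.Polynomial.Identities
import Mathlib.CategoryTheory.Limits.ConcreteCategory.Basic
-- import your own Groth.Agent.* helpers here

set_option autoImplicit false
universe u
open CategoryTheory
open EtAlg

namespace Groth.Agent.S9302

open Polynomial in
/-- Uniqueness of Hensel lifts: two roots of `g` congruent modulo an ideal `I` contained in the
Jacobson radical, at which the derivative is a unit modulo `I`, are equal. -/
theorem root_unique {R : Type*} [CommRing R] (I : Ideal R) (hI : I ≤ Ideal.jacobson ⊥)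
    (g : R[X]) (a b : R) (ha : g.IsRoot a) (hb : g.IsRoot b) (hab : b - a ∈ I)
    (hu : IsUnit (Ideal.Quotient.mk I (g.derivative.eval a))) : a = b := by
  obtain ⟨k, hk⟩ := g.binomExpansion a (b - a)
  have hb' : g.eval (a + (b - a)) = 0 := by rw [add_sub_cancel]; exact hb
  have ha' : g.eval a = 0 := ha
  rw [hb', ha', zero_add] at hk
  have hunit : IsUnit (g.derivative.eval a + k * (b - a)) := by
    have := isLocalHom_of_le_jacobson_bot I hI
    apply isUnit_of_map_unit (Ideal.Quotient.mk I)
    have h1 : Ideal.Quotient.mk I (g.derivative.eval a + k * (b - a)) =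
        Ideal.Quotient.mk I (g.derivative.eval a) := by
      rw [map_add, add_eq_left, Ideal.Quotient.eq_zero_iff_mem]
      exact I.mul_mem_left _ hab
    rw [h1]; exact hu
  have h0 : (g.derivative.eval a + k * (b - a)) * (b - a) = 0 := by
    linear_combination -hk
  have h2 : b - a = 0 := (hunit.mul_right_eq_zero).mp h0
  exact (sub_eq_zero.mp h2).symm

open Polynomial in
/-- Abstract form: a ring `A` which is the limit of henselian pairs `(B j, I j)` (joint
injectivity and glueing of compatible families) is henselian along the limit ideal. -/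
theorem henselian_of_limit {A : Type*} [CommRing A] {J : Type*} {B : J → Type*}
    [∀ j, CommRing (B j)] (π : ∀ j, A →+* B j) (I : ∀ j, Ideal (B j))
    (h : ∀ j, HenselianRing (B j) (I j))
    {T : J → J → Sort*} (t : ∀ {i j}, T i j → (B i →+* B j))
    (t1 : ∀ {i j} (φ : T i j) (a : A), t φ (π i a) = π j a)
    (t2 : ∀ {i j} (φ : T i j) (x : B i), x ∈ I i → t φ x ∈ I j)
    (inj : ∀ x y : A, (∀ j, π j x = π j y) → x = y)
    (glue : ∀ x : ∀ j, B j, (∀ i j (φ : T i j), t φ (x i) = x j) → ∃ a : A, ∀ j, π j a = x j) :
    HenselianRing A (⨅ j, Ideal.comap (π j) (I j)) := by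
  -- units can be detected componentwise
  have unit_of : ∀ a : A, (∀ j, IsUnit (π j a)) → IsUnit a := by
    intro a ha
    choose b hb using fun j => (isUnit_iff_exists_inv.mp (ha j))
    have hcompat : ∀ i j (φ : T i j), t φ (b i) = b j := by
      intro i j φ
      have h1 : π j a * t φ (b i) = 1 := by
        rw [← t1 φ a, ← map_mul, hb i, map_one]
      calc t φ (b i) = t φ (b i) * (π j a * b j) := by rw [hb j, mul_one]
        _ = (π j a * t φ (b i)) * b j := by ring
        _ = b j := by rw [h1, one_mul]
    obtain ⟨c, hc⟩ := glue b hcompat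
    refine isUnit_iff_exists_inv.mpr ⟨c, inj _ _ fun j => ?_⟩
    rw [map_mul, hc j, hb j, map_one]
  refine ⟨?_, ?_⟩
  · intro x hx
    rw [Ideal.mem_jacobson_bot]
    intro y
    refine unit_of _ fun j => ?_
    have hxj : π j x ∈ I j := by
      have := (Ideal.mem_iInf.mp hx) j
      exact this
    have := (Ideal.mem_jacobson_bot.mp ((h j).jac hxj)) (π j y)
    simpa using this
  · intro f hf a₀ hfa hder
    -- data at each level
    have hroot : ∀ j, ∃ a : B j, (f.map (π j)).IsRoot a ∧ a - π j a₀ ∈ I j := by
      intro j
      refine (h j).is_henselian (f.map (π j)) (hf.map _) (π j a₀) ?_ ?_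
      · rw [eval_map_apply]
        exact (Ideal.mem_iInf.mp hfa) j
      · rw [derivative_map, eval_map_apply]
        obtain ⟨v, hv⟩ := isUnit_iff_exists_inv.mp hder
        obtain ⟨w, rfl⟩ := Ideal.Quotient.mk_surjective v
        rw [← map_mul, ← map_one (Ideal.Quotient.mk _), Ideal.Quotient.eq] at hv
        have hvj := (Ideal.mem_iInf.mp hv) j
        rw [Ideal.mem_comap, map_sub, map_mul, map_one] at hvj
        refine isUnit_iff_exists_inv.mpr ⟨Ideal.Quotient.mk _ (π j w), ?_⟩
        rw [← map_mul, ← map_one (Ideal.Quotient.mk _), Ideal.Quotient.eq]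
        exact hvj
    choose a ha using hroot
    have hcompat : ∀ i j (φ : T i j), t φ (a i) = a j := by
      intro i j φ
      have hmap : (f.map (π i)).map (t φ) = f.map (π j) := by
        rw [map_map]
        congr 1
        ext x
        exact t1 φ x
      have hr1 : (f.map (π j)).IsRoot (t φ (a i)) := by
        rw [← hmap, IsRoot.def, eval_map_apply, (ha i).1.eq_zero, map_zero]
      have hmem : t φ (a i) - π j a₀ ∈ I j := by
        rw [← t1 φ a₀, ← map_sub]
        exact t2 φ _ (ha i).2
      have hdiff : t φ (a i) - a j ∈ I j := by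
        have := (I j).sub_mem hmem (ha j).2
        simpa using this
      refine (root_unique (I j) (h j).jac (f.map (π j)) (a j) (t φ (a i)) (ha j).1 hr1 hdiff ?_).symm
      -- derivative at `a j` is a unit modulo `I j`
      obtain ⟨v, hv⟩ := isUnit_iff_exists_inv.mp hder
      obtain ⟨w, rfl⟩ := Ideal.Quotient.mk_surjective v
      rw [← map_mul, ← map_one (Ideal.Quotient.mk _), Ideal.Quotient.eq] at hv
      have hvj := (Ideal.mem_iInf.mp hv) j
      rw [Ideal.mem_comap, map_sub, map_mul, map_one] at hvj
      refine isUnit_iff_exists_inv.mpr ⟨Ideal.Quotient.mk _ (π j w), ?_⟩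
      rw [← map_mul, ← map_one (Ideal.Quotient.mk _), Ideal.Quotient.eq]
      -- compare derivative at `a j` and at `π j a₀`
      obtain ⟨z, hz⟩ := (f.map (π j)).derivative.evalSubFactor (a j) (π j a₀)
      have h3 : (f.map (π j)).derivative.eval (π j a₀) = π j (f.derivative.eval a₀) := by
        rw [derivative_map, eval_map_apply]
      have : (f.map (π j)).derivative.eval (a j) * π j w - 1 =
          (π j (f.derivative.eval a₀) * π j w - 1) + z * (a j - π j a₀) * π j w := by
        rw [← h3]
        linear_combination (π j w) * hz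
      rw [this]
      exact (I j).add_mem hvj ((I j).mul_mem_right _ ((I j).mul_mem_left _ (ha j).2))
    obtain ⟨r, hr⟩ := glue a hcompat
    refine ⟨r, ?_, ?_⟩
    · rw [IsRoot.def]
      refine inj _ _ fun j => ?_
      rw [map_zero, ← eval_map_apply, hr j]
      exact (ha j).1
    · rw [Ideal.mem_iInf]
      intro j
      rw [Ideal.mem_comap, map_sub, hr j]
      exact (ha j).2

/-- Henselian pairs are preserved under limits: for an inverse system (A_j, I_j) of henselian pairs over
a preordered set J, the limit A = lim A_j with the ideal I = lim I_j (elements all of whose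
projections lie in the I_j) is a henselian pair. -/
theorem result (J : Type u) [Preorder J] (F : J ⥤ CommRingCat.{u})
    (I : ∀ j : J, Ideal (F.obj j))
    (hI : ∀ (i j : J) (φ : i ⟶ j), Ideal.map (F.map φ).hom (I i) ≤ I j)
    (h : ∀ j : J, HenselianRing (F.obj j) (I j)) :
    HenselianRing ((Limits.limit F : CommRingCat.{u}) : Type u)
      (⨅ j : J, Ideal.comap (Limits.limit.π F j).hom (I j)) := by
  refine henselian_of_limit (A := ((Limits.limit F : CommRingCat.{u}) : Type u))
    (B := fun j => (F.obj j : Type u)) (fun j => (Limits.limit.π F j).hom) I h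
    (T := fun i j => (i ⟶ j)) (fun φ => (F.map φ).hom) ?_ ?_ ?_ ?_
  · intro i j φ a
    have := Limits.limit.w F φ
    exact congrArg (fun (g : Limits.limit F ⟶ F.obj j) => g.hom a) this
  · intro i j φ x hx
    exact hI i j φ (Ideal.mem_map_of_mem _ hx)
  · intro x y hxy
    exact Limits.Concrete.limit_ext F x y hxy
  · intro x hx
    let e := Limits.Types.isLimitEquivSections
      (Limits.isLimitOfPreserves (forget CommRingCat.{u}) (Limits.limit.isLimit F))
    let sec : (F ⋙ forget CommRingCat.{u}).sections := ⟨x, fun {i j} φ => hx i j φ⟩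
    refine ⟨e.symm sec, fun j => ?_⟩
    have := Limits.Types.isLimitEquivSections_symm_apply
      (Limits.isLimitOfPreserves (forget CommRingCat.{u}) (Limits.limit.isLimit F)) sec j
    exact this

end Groth.Agent.S9302
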