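import Groth.Statements.S9303
-- import your own Groth.Agent.* helpers here
import Groth.Agent.Lib.Helper89.IdemCompl

set_option autoImplicit false
universe u
open CAlg

namespace Groth.Agent.S9303

/-- Let A be a ring, I a finitely generated ideal and A → C a ring map such that for every f ∈ I the map
A_f → C_f is the localization of A_f at an idempotent. Then there is a surjection A → C' (C' = A/K
for an ideal K) such that A_f → (C × C')_f is an isomorphism for every f ∈ I. -/
theorem result (A : Type u) [CommRing A]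
    (I : Ideal A) (hI : I.FG) (C : Type u) [CommRing C] [Algebra A C]
    (h : ∀ f ∈ I, ∃ e : Localization.Away f, IsIdempotentElem e ∧
      IsLocalization.Away e (Localization (Algebra.algebraMapSubmonoid C (Submonoid.powers f)))) :
    ∃ K : Ideal A, ∀ f ∈ I, Function.Bijective
      (algebraMap (Localization.Away f)
        (Localization (Algebra.algebraMapSubmonoid (C × (A ⧸ K)) (Submonoid.powers f)))) := by
  classical
  have hdat : ∀ f ∈ I, ∃ (u : A) (k : ℕ), Groth.Agent.Lib.Helper89.IdemCompl.Datum A C f u k := by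
    intro f hf
    obtain ⟨e, he, hloc⟩ := h f hf
    exact Groth.Agent.Lib.Helper89.IdemCompl.datum_of_away f (Af := Localization.Away f)
      (Cf := Localization (Algebra.algebraMapSubmonoid C (Submonoid.powers f))) e he
  obtain ⟨S, hS⟩ := hI
  have hdatS : ∀ x : A, x ∈ S →
      ∃ (u : A) (k : ℕ), Groth.Agent.Lib.Helper89.IdemCompl.Datum A C x u k := by
    intro x hx
    exact hdat x (hS ▸ Ideal.subset_span hx)
  choose! U L hD using hdatS
  refine ⟨Groth.Agent.Lib.Helper89.IdemCompl.K A C I, fun f hf => ?_⟩
  obtain ⟨u, k, hfd⟩ := hdat f hf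
  apply Groth.Agent.Lib.Helper89.IdemCompl.bijective_of_elementwise f (A := A)
    (C := C × (A ⧸ Groth.Agent.Lib.Helper89.IdemCompl.K A C I))
  · rintro a ⟨N, hN⟩
    rw [Prod.algebraMap_apply, Prod.mk_eq_zero] at hN
    exact Groth.Agent.Lib.Helper89.IdemCompl.elementwise_injective I hf hfd a N hN.1
      (Ideal.Quotient.eq_zero_iff_mem.mp hN.2)
  · rintro ⟨c, b'⟩
    obtain ⟨b, rfl⟩ := Ideal.Quotient.mk_surjective b'
    obtain ⟨a, n, N, h1, h2⟩ :=
      Groth.Agent.Lib.Helper89.IdemCompl.elementwise_surjective I S hS U L hD hfd c b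
    refine ⟨a, n, N, ?_⟩
    simp only [Prod.algebraMap_apply]
    refine Prod.ext ?_ ?_
    · simpa using h1
    · have h3 := Ideal.Quotient.eq_zero_iff_mem.mpr h2
      simpa using h3

end Groth.Agent.S9303
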