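import Groth.Statements.S9305
import Groth.Agent.Lib.Helper3.NormRedNormal
import Groth.Agent.Lib.Helper3.BranchStrict
import Groth.Agent.Lib.Helper47.Unibranch

set_option autoImplicit false
universe u
open CAlg

namespace Groth.Agent.S9305

open TensorProduct in
/-- Let A be a local ring with finitely many minimal primes, A' the integral closure of A_red in its
total ring of fractions and A^sh a strict henselization of A. In the ring A' ⊗_A A^sh, each minimal
prime lies in exactly one maximal ideal and each maximal ideal contains exactly one minimal prime. -/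
theorem result {A Ash : Type u} [CommRing A]
    [IsLocalRing A] (hfin : (minimalPrimes A).Finite) [CommRing Ash] [IsLocalRing Ash] [Algebra A Ash]
    [IsLocalHom (algebraMap A Ash)] [Hensel.IsStrictHenselization A Ash] :
    (∀ q ∈ minimalPrimes ((CAlg2.normRed A) ⊗[A] Ash),
        ∃! m : Ideal ((CAlg2.normRed A) ⊗[A] Ash), m.IsMaximal ∧ q ≤ m) ∧
      (∀ m : Ideal ((CAlg2.normRed A) ⊗[A] Ash), m.IsMaximal →
        ∃! q : Ideal ((CAlg2.normRed A) ⊗[A] Ash), q ∈ minimalPrimes ((CAlg2.normRed A) ⊗[A] Ash) ∧ q ≤ m) := by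
  open Groth.Agent.Lib.Helper3 in
  have hred : IsReduced (CAlg2.red A) :=
    (Ideal.isRadical_iff_quotient_reduced (nilradical A)).mp (Ideal.radical_isRadical _)
  have hfin' : (minimalPrimes (CAlg2.red A)).Finite :=
    (Groth.Agent.Lib.Helper47.finite_minimalPrimes_red_iff A).mpr hfin
  have hN : ∀ (m' : Ideal (CAlg2.normRed A)) [m'.IsMaximal],
      IsDomain (Localization.AtPrime m') ∧ IsIntegrallyClosed (Localization.AtPrime m') :=
    fun m' _ => NormRed.isDomain_and_isIntegrallyClosed_atPrime hfin' m'
  have hint1 : Algebra.IsIntegral A (CAlg2.red A) :=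
    Algebra.isIntegral_of_surjective Ideal.Quotient.mk_surjective
  have hint : Algebra.IsIntegral A (CAlg2.normRed A) :=
    Algebra.IsIntegral.trans (R := A) (A := CAlg2.red A) (B := CAlg2.normRed A)
  exact Branch.minimalPrimes_maximal_unique_of_ringEquiv
    (B₁ := CAlg2.normRed A ⊗[A] Ash) (B₂ := Ash ⊗[A] CAlg2.normRed A)
    (Algebra.TensorProduct.comm A (CAlg2.normRed A) Ash).toRingEquiv
    (Branch.minimalPrimes_maximal_unique_strict A Ash (CAlg2.normRed A) hN)

end Groth.Agent.S9305
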