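import Groth.Statements.S9307
import Mathlib
import Groth.Agent.Lib.Helper9.TameBC

set_option autoImplicit false
universe u
open EtRam

namespace Groth.Agent.S9307

open TensorProduct in
/-- Let A → B be an injective local homomorphism of discrete valuation rings with fraction fields K ⊆ L,
and let K' be a finite separable extension of K that is tamely ramified relative to A. Then every
field F onto which K' ⊗_K L surjects is, as an extension of L, tamely ramified relative to B. (The
published statement also records that K' ⊗_K L is a finite product of fields, whose factors are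
these F; this row does not state that part.) -/
theorem result (A B K L K' : Type u) [CommRing A] [IsDomain A]
    [IsDiscreteValuationRing A] [CommRing B] [IsDomain B] [IsDiscreteValuationRing B] [Algebra A B]
    [IsLocalHom (algebraMap A B)] (hinj : Function.Injective (algebraMap A B))
    [Field K] [Field L] [Field K'] [Algebra A K] [IsFractionRing A K] [Algebra B L] [IsFractionRing B L]
    [Algebra K L] [Algebra A L] [IsScalarTower A K L] [IsScalarTower A B L]
    [Algebra K K'] [FiniteDimensional K K'] [Algebra.IsSeparable K K']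
    (h : EtRam.IsTamelyRamified A ((algebraMap K K').comp (algebraMap A K)))
    (F : Type u) [Field F] [Algebra (K' ⊗[K] L) F] (hF : Function.Surjective (algebraMap (K' ⊗[K] L) F)) :
    EtRam.IsTamelyRamified B ((algebraMap (K' ⊗[K] L) F).comp
      ((Algebra.TensorProduct.includeRight : L →ₐ[K] K' ⊗[K] L).toRingHom.comp (algebraMap B L))) := by
  letI algAK' : Algebra A K' := ((algebraMap K K').comp (algebraMap A K)).toAlgebra
  haveI : IsScalarTower A K K' := IsScalarTower.of_algebraMap_eq (fun _ => rfl)
  have h' : EtRam.IsTamelyRamified A (algebraMap A K') := h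
  let iK' : K' →+* F := (algebraMap (K' ⊗[K] L) F).comp
    (Algebra.TensorProduct.includeLeft : K' →ₐ[K] K' ⊗[K] L).toRingHom
  let iL : L →+* F := (algebraMap (K' ⊗[K] L) F).comp
    (Algebra.TensorProduct.includeRight : L →ₐ[K] K' ⊗[K] L).toRingHom
  have hcompat : iK'.comp (algebraMap K K') = iL.comp (algebraMap K L) := by
    ext c
    show algebraMap (K' ⊗[K] L) F ((algebraMap K K' c) ⊗ₜ[K] (1 : L)) =
      algebraMap (K' ⊗[K] L) F ((1 : K') ⊗ₜ[K] (algebraMap K L c))
    congr 1
    rw [Algebra.algebraMap_eq_smul_one, Algebra.algebraMap_eq_smul_one, TensorProduct.smul_tmul]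
  have hgen : ∀ E : Subfield F, Set.range iK' ⊆ E → Set.range iL ⊆ E → E = ⊤ := by
    intro E h1 h2
    have key : ∀ t : K' ⊗[K] L, algebraMap (K' ⊗[K] L) F t ∈ E := by
      intro t
      induction t using TensorProduct.induction_on with
      | zero => rw [map_zero]; exact E.zero_mem
      | tmul k' l =>
        have hkl : (k' ⊗ₜ[K] l : K' ⊗[K] L) = (k' ⊗ₜ[K] (1 : L)) * ((1 : K') ⊗ₜ[K] l) := by
          rw [Algebra.TensorProduct.tmul_mul_tmul, mul_one, one_mul]
        rw [hkl, map_mul]
        exact mul_mem (h1 ⟨k', rfl⟩) (h2 ⟨l, rfl⟩)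
      | add x y hx hy => rw [map_add]; exact add_mem hx hy
    rw [eq_top_iff]
    intro x _
    obtain ⟨t, rfl⟩ := hF x
    exact key t
  letI algLF : Algebra L F := iL.toAlgebra
  letI algBF : Algebra B F := (iL.comp (algebraMap B L)).toAlgebra
  haveI towBLF : IsScalarTower B L F := IsScalarTower.of_algebraMap_eq (fun _ => rfl)
  let ψ : L ⊗[K] K' →ₐ[L] F :=
    { toRingHom := (algebraMap (K' ⊗[K] L) F).comp
        (Algebra.TensorProduct.comm K L K').toAlgHom.toRingHom
      commutes' := fun l => by
        show algebraMap (K' ⊗[K] L) F (Algebra.TensorProduct.comm K L K' (l ⊗ₜ[K] (1 : K'))) = iL l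
        rw [Algebra.TensorProduct.comm_tmul]
        rfl }
  have hψ : Function.Surjective ψ := by
    intro x
    obtain ⟨t, rfl⟩ := hF x
    refine ⟨(Algebra.TensorProduct.comm K L K').symm t, ?_⟩
    show algebraMap (K' ⊗[K] L) F (Algebra.TensorProduct.comm K L K'
      ((Algebra.TensorProduct.comm K L K').symm t)) = _
    rw [AlgEquiv.apply_symm_apply]
  obtain ⟨hfd, hsep⟩ := Groth.Agent.Lib.Helper9.TameBC.finite_separable_of_quotient K L K' F ψ hψ
  haveI := hfd
  haveI := hsep
  exact Groth.Agent.Lib.Helper9.TameBC.tame_base_change A B K L K' F hinj h' iK' hcompat hgen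

end Groth.Agent.S9307
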