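import Groth.Statements.S9310
import Groth.Agent.Lib.Helper61.PSLocal
import Groth.Agent.Lib.Helper65.NoethEndo

set_option autoImplicit false
universe u
open CAlg

namespace Groth.Agent.S9310

open IsLocalRing MvPowerSeries

/-- Let K be a field, A = K[[x_1, ..., x_n]], and y_1, ..., y_n ∈ A a regular system of parameters (n
elements generating the maximal ideal). Then the substitution map K[[y_1, ..., y_n]] → A is an
isomorphism: f ↦ f(y_1, ..., y_n) is a bijection of K[[x_1, ..., x_n]] onto itself. -/
theorem result (K : Type u) [Field K] (n : ℕ)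
    (y : Fin n → MvPowerSeries (Fin n) K)
    (hy : Ideal.span (Set.range y) = IsLocalRing.maximalIdeal (MvPowerSeries (Fin n) K)) :
    Function.Bijective (MvPowerSeries.subst y : MvPowerSeries (Fin n) K → MvPowerSeries (Fin n) K) := by
  have hym : ∀ i, y i ∈ maximalIdeal (MvPowerSeries (Fin n) K) := fun i => by
    rw [← hy]; exact Ideal.subset_span ⟨i, rfl⟩
  have hy0 : ∀ i, constantCoeff (y i) = 0 := fun i =>
    (Groth.Agent.Lib.Helper61.PSLocal.mem_maximalIdeal_iff (y i)).1 (hym i)
  have hs : HasSubst y := hasSubst_of_constantCoeff_zero hy0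
  let ψ : MvPowerSeries (Fin n) K →ₐ[K] MvPowerSeries (Fin n) K := substAlgHom hs
  have hψc : ⇑ψ = subst y := coe_substAlgHom hs
  have hψX : ∀ i, ψ (X i) = y i := fun i => by rw [hψc, subst_X hs]
  have hψ : ∀ i : Fin n, ψ (X i) ∈ maximalIdeal (MvPowerSeries (Fin n) K) := fun i => by
    rw [hψX]; exact hym i
  haveI : IsAdicComplete (maximalIdeal (MvPowerSeries (Fin n) K)) (MvPowerSeries (Fin n) K) := by
    rw [Groth.Agent.Lib.Helper61.PSLocal.maximalIdeal_eq_span_X]
    infer_instance
  have hR : Function.Surjective ((IsLocalRing.residue (MvPowerSeries (Fin n) K)).comp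
      (algebraMap K (MvPowerSeries (Fin n) K))) := by
    intro z
    obtain ⟨f, rfl⟩ := IsLocalRing.residue_surjective z
    refine ⟨constantCoeff f, ?_⟩
    rw [RingHom.comp_apply, ← sub_eq_zero, ← map_sub, IsLocalRing.residue_eq_zero_iff,
      Groth.Agent.Lib.Helper61.PSLocal.mem_maximalIdeal_iff, map_sub]
    simp [MvPowerSeries.algebraMap_apply]
  have hsp : Submodule.span (ResidueField (MvPowerSeries (Fin n) K))
      (Set.range (fun i : Fin n => (maximalIdeal (MvPowerSeries (Fin n) K)).toCotangent
        ⟨ψ (X i), hψ i⟩)) = ⊤ := by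
    have h1 : Set.range (fun i : Fin n => (maximalIdeal (MvPowerSeries (Fin n) K)).toCotangent
        ⟨ψ (X i), hψ i⟩) = (maximalIdeal (MvPowerSeries (Fin n) K)).toCotangent ''
        (Set.range (fun i : Fin n =>
          (⟨ψ (X i), hψ i⟩ : maximalIdeal (MvPowerSeries (Fin n) K)))) := by
      rw [← Set.range_comp]
      rfl
    rw [h1, CotangentSpace.span_image_eq_top_iff]
    apply Submodule.map_injective_of_injective
      (f := Submodule.subtype (maximalIdeal (MvPowerSeries (Fin n) K))) Subtype.val_injective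
    rw [Submodule.map_span, Submodule.map_top, Submodule.range_subtype, ← Set.range_comp]
    have h2 : ((Submodule.subtype (maximalIdeal (MvPowerSeries (Fin n) K))) ∘ fun i : Fin n =>
        (⟨ψ (X i), hψ i⟩ : maximalIdeal (MvPowerSeries (Fin n) K))) = y := by
      funext i
      exact hψX i
    rw [h2]
    exact hy
  have hsurj : Function.Surjective ψ :=
    Groth.Agent.Lib.Helper61.PSLocal.surjective K _ n ψ hψ hR hsp
  have hinj : Function.Injective ψ :=
    Groth.Agent.Lib.Helper65.ringHom_injective_of_surjective_endo ψ.toRingHom hsurj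
  rw [← hψc]
  exact ⟨hinj, hsurj⟩

end Groth.Agent.S9310
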