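import Groth.Statements.S9311
import Mathlib
import Groth.Agent.S10826

set_option autoImplicit false
universe u
open CAlg

namespace Groth.Agent.S9311.Aux

set_option autoImplicit false

open MvPowerSeries

theorem coeff_single_mul {R : Type*} [CommRing R] {n : ℕ} (g y : MvPowerSeries (Fin n) R)
    (hy : constantCoeff y = 0) (k : Fin n) :
    coeff (Finsupp.single k 1) (g * y) = constantCoeff g * coeff (Finsupp.single k 1) y := by
  classical
  rw [coeff_mul, Finsupp.antidiagonal_single]
  simp [Finset.Nat.antidiagonal_succ, hy, coeff_zero_eq_constantCoeff]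

theorem main (Λ : Type u) [CommRing Λ] [IsLocalRing Λ] (p : ℕ)
    (hm : IsLocalRing.maximalIdeal Λ = Ideal.span {(p : Λ)}) (n : ℕ)
    (y : Fin n → MvPowerSeries (Fin n) Λ) (hy0 : ∀ i, MvPowerSeries.constantCoeff (y i) = 0)
    (hy : Ideal.span (insert (p : MvPowerSeries (Fin n) Λ) (Set.range y)) =
      IsLocalRing.maximalIdeal (MvPowerSeries (Fin n) Λ)) :
    Function.Bijective (MvPowerSeries.subst y :
      MvPowerSeries (Fin n) Λ → MvPowerSeries (Fin n) Λ) := by
  classical
  have hs : HasSubst y := hasSubst_of_constantCoeff_zero hy0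
  set φ : MvPowerSeries (Fin n) Λ →ₐ[Λ] MvPowerSeries (Fin n) Λ := substAlgHom hs with hφ
  have hφX : ∀ i, φ (X i) = y i := fun i => substAlgHom_X hs i
  have hcoe : (φ : MvPowerSeries (Fin n) Λ → MvPowerSeries (Fin n) Λ) = subst y :=
    coe_substAlgHom hs
  rw [← hcoe]
  set M : Matrix (Fin n) (Fin n) Λ := Matrix.of fun i j : Fin n =>
      coeff (Finsupp.single j 1) (φ (X i)) with hM
  have hMy : ∀ i j, M i j = coeff (Finsupp.single j 1) (y i) := by
    intro i j; simp [hM, hφX]
  -- X j in the maximal ideal
  have hXm : ∀ j : Fin n, (X j : MvPowerSeries (Fin n) Λ) ∈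
      Ideal.span (insert (p : MvPowerSeries (Fin n) Λ) (Set.range y)) := by
    intro j
    rw [hy, IsLocalRing.mem_maximalIdeal, mem_nonunits_iff, MvPowerSeries.isUnit_iff_constantCoeff,
      constantCoeff_X]
    exact not_isUnit_zero
  have hdecomp : ∀ j : Fin n, ∃ (g₀ : MvPowerSeries (Fin n) Λ) (g : Fin n → MvPowerSeries (Fin n) Λ),
      (X j : MvPowerSeries (Fin n) Λ) = g₀ * (p : MvPowerSeries (Fin n) Λ) + ∑ i, g i * y i := by
    intro j
    obtain ⟨g₀, z, hz, e⟩ := Ideal.mem_span_insert.mp (hXm j)
    obtain ⟨g, hg⟩ := (Ideal.mem_span_range_iff_exists_fun).mp hz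
    exact ⟨g₀, g, by rw [e, hg]⟩
  choose g₀ g hg using hdecomp
  let Cm : Matrix (Fin n) (Fin n) Λ := Matrix.of fun j i => constantCoeff (g j i)
  let N : Matrix (Fin n) (Fin n) Λ := Matrix.of fun j k => coeff (Finsupp.single k 1) (g₀ j)
  have hCM : Cm * M = 1 - (p : Λ) • N := by
    ext j k
    have h1 := congrArg (coeff (Finsupp.single k 1)) (hg j)
    rw [map_add, map_sum] at h1
    have h2 : coeff (Finsupp.single k 1) (g₀ j * (p : MvPowerSeries (Fin n) Λ))
        = (p : Λ) * N j k := by
      have : (p : MvPowerSeries (Fin n) Λ) = C (p : Λ) := by simp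
      rw [this, coeff_mul_C, mul_comm]
      rfl
    have h3 : ∀ i, coeff (Finsupp.single k 1) (g j i * y i) = Cm j i * M i k := by
      intro i
      rw [coeff_single_mul _ _ (hy0 i), hMy]
      rfl
    rw [h2, Finset.sum_congr rfl (fun i _ => h3 i)] at h1
    rw [Matrix.mul_apply, Matrix.sub_apply, Matrix.smul_apply, smul_eq_mul]
    have h4 : coeff (Finsupp.single k 1) (X j : MvPowerSeries (Fin n) Λ) = (1 : Matrix (Fin n) (Fin n) Λ) j k := by
      rw [coeff_X, Matrix.one_apply]
      by_cases hjk : j = k
      · subst hjk; simp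
      · rw [if_neg hjk, if_neg]
        intro h
        exact hjk (Finsupp.single_left_injective one_ne_zero h).symm
    rw [h4] at h1
    rw [h1]; ring
  -- det (1 - p N) is a unit
  have hU : IsUnit (1 - (p : Λ) • N).det := by
    by_contra hnu
    have h1 : (1 - (p : Λ) • N).det ∈ IsLocalRing.maximalIdeal Λ :=
      (IsLocalRing.mem_maximalIdeal _).mpr hnu
    have h2 : IsLocalRing.residue Λ ((1 - (p : Λ) • N).det) = 0 :=
      (IsLocalRing.residue_eq_zero_iff _).mpr h1
    rw [RingHom.map_det] at h2
    have h3 : (IsLocalRing.residue Λ).mapMatrix (1 - (p : Λ) • N) = 1 := by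
      ext a b
      have hp : IsLocalRing.residue Λ (p : Λ) = 0 := by
        rw [IsLocalRing.residue_eq_zero_iff, hm]
        exact Ideal.subset_span rfl
      simp [Matrix.sub_apply, Matrix.one_apply, hp]
    rw [h3, Matrix.det_one] at h2
    exact one_ne_zero h2
  have hJ : IsUnit M.det := by
    have : Cm.det * M.det = (1 - (p : Λ) • N).det := by rw [← Matrix.det_mul, hCM]
    rw [← this] at hU
    exact isUnit_of_mul_isUnit_right hU
  exact Groth.Agent.S10826.Aux.main φ (fun i => by rw [hφX]; exact hy0 i) hJ

end Groth.Agent.S9311.Aux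

namespace Groth.Agent.S9311

/-- Let Λ be a Cohen ring (a complete discrete valuation ring whose maximal ideal is generated by a
prime number p), B = Λ[[x_1, ..., x_n]], and y_1, ..., y_n ∈ B with zero constant terms such that p,
y_1, ..., y_n is a regular system of parameters of B (these n + 1 elements generate the maximal
ideal). Then the substitution map Λ[[y_1, ..., y_n]] → B is an isomorphism: f ↦ f(y_1, ..., y_n) is
a bijection of Λ[[x_1, ..., x_n]] onto itself. (The published statement allows the y_i to have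
constant terms in pΛ, the substitution being defined through the (p, x)-adic topology of B; this row
asks the constant terms to vanish, the case in which substitution is defined coefficientwise with no
topology on Λ.) -/
theorem result (Λ : Type u) [CommRing Λ] [IsDomain Λ]
    [IsDiscreteValuationRing Λ] [IsAdicComplete (IsLocalRing.maximalIdeal Λ) Λ] (p : ℕ) (hp : p.Prime)
    (hm : IsLocalRing.maximalIdeal Λ = Ideal.span {(p : Λ)}) (n : ℕ)
    (y : Fin n → MvPowerSeries (Fin n) Λ) (hy0 : ∀ i, MvPowerSeries.constantCoeff (y i) = 0)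
    (hy : Ideal.span (insert (p : MvPowerSeries (Fin n) Λ) (Set.range y)) =
      IsLocalRing.maximalIdeal (MvPowerSeries (Fin n) Λ)) :
    Function.Bijective (MvPowerSeries.subst y : MvPowerSeries (Fin n) Λ → MvPowerSeries (Fin n) Λ) := by
  exact Aux.main Λ p hm n y hy0 hy

end Groth.Agent.S9311
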