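import Groth.Statements.S9312
import Mathlib

set_option autoImplicit false
universe u
open CAlg

namespace Groth.Agent.S9312.Aux

open Polynomial TensorProduct
set_option linter.unusedSectionVars false

section K
variable (R G : Type u) [CommRing R] [Group G] [Fintype G] [MulSemiringAction G R]

/-- linear form `Σ_j σ(y_j) X_j`. -/
noncomputable def lin {κ : Type*} [Fintype κ] (y : κ → R) (σ : G) : MvPolynomial κ R :=
  ∑ j, MvPolynomial.C (σ • y j) * MvPolynomial.X j

noncomputable def big {κ : Type*} [Fintype κ] (y : κ → R) : Polynomial (MvPolynomial κ R) :=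
  ∏ σ : G, (X - C (lin R G y σ))

noncomputable def act {κ : Type*} (τ : G) : MvPolynomial κ R →+* MvPolynomial κ R :=
  MvPolynomial.map (MulSemiringAction.toRingHom G R τ)

lemma act_lin {κ : Type*} [Fintype κ] (y : κ → R) (τ σ : G) :
    act R G τ (lin R G y σ) = lin R G y (τ * σ) := by
  simp only [act, lin, map_sum, map_mul, MvPolynomial.map_C, MvPolynomial.map_X,
    MulSemiringAction.toRingHom_apply, mul_smul]

lemma map_act_big {κ : Type*} [Fintype κ] (y : κ → R) (τ : G) :
    (big R G y).map (act R G τ) = big R G y := by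
  simp only [big, Polynomial.map_prod, Polynomial.map_sub, Polynomial.map_X, Polynomial.map_C,
    act_lin]
  exact Fintype.prod_equiv (Equiv.mulLeft τ) _ _ (fun σ => rfl)

lemma coeff_big_mem {κ : Type*} [Fintype κ] (y : κ → R) (k : ℕ) (μ : κ →₀ ℕ) :
    ((big R G y).coeff k).coeff μ ∈ FixedPoints.subring R G := by
  intro τ
  have h := congrArg (fun p => (Polynomial.coeff p k).coeff μ) (map_act_big R G y τ)
  simp only [Polynomial.coeff_map, act, MvPolynomial.coeff_map,
    MulSemiringAction.toRingHom_apply] at h
  exact h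

lemma big_monic {κ : Type*} [Fintype κ] (y : κ → R) : (big R G y).Monic :=
  monic_prod_of_monic _ _ (fun σ _ => monic_X_sub_C _)

lemma exists_descent {κ : Type*} [Fintype κ] (y : κ → R) :
    ∃ Q₀ : Polynomial (MvPolynomial κ (FixedPoints.subring R G)), Q₀.Monic ∧
      Q₀.map (MvPolynomial.map (FixedPoints.subring R G).subtype) = big R G y := by
  have hl : big R G y ∈ Polynomial.lifts (MvPolynomial.map (FixedPoints.subring R G).subtype) := by
    rw [Polynomial.lifts_iff_coeff_lifts]
    intro k
    change _ ∈ Set.range (MvPolynomial.map (FixedPoints.subring R G).subtype)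
    rw [MvPolynomial.mem_range_map_iff_coeffs_subset]
    intro c hc
    rw [Finset.mem_coe, MvPolynomial.mem_coeffs_iff] at hc
    obtain ⟨μ, -, rfl⟩ := hc
    exact ⟨⟨_, coeff_big_mem R G y k μ⟩, rfl⟩
  rw [Polynomial.mem_lifts] at hl
  obtain ⟨Q₀, hQ⟩ := hl
  refine ⟨Q₀, ?_, hQ⟩
  apply Polynomial.monic_of_injective
    (MvPolynomial.map_injective _ (FixedPoints.subring R G).subtype_injective)
  rw [hQ]
  exact big_monic R G y

end K

section P1
variable (R G A : Type u) [CommRing R] [Group G] [Fintype G] [MulSemiringAction G R]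
  [CommRing A] [Algebra (FixedPoints.subring R G) A]

/-- the evaluation `R[x] → A ⊗ R`, `x_i ↦ a_i ⊗ 1`, `r ↦ 1 ⊗ r`. -/
noncomputable def Psi {κ : Type u} (a : κ → A) :
    MvPolynomial κ R →+* TensorProduct (FixedPoints.subring R G) A R :=
  MvPolynomial.eval₂Hom
    (Algebra.TensorProduct.includeRight :
      R →ₐ[FixedPoints.subring R G] TensorProduct (FixedPoints.subring R G) A R).toRingHom
    (fun i => a i ⊗ₜ 1)

lemma Psi_comp {κ : Type u} (a : κ → A) :
    (algebraMap A (TensorProduct (FixedPoints.subring R G) A R)).comp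
      (MvPolynomial.aeval a : MvPolynomial κ (FixedPoints.subring R G) →ₐ[_] A).toRingHom =
    (Psi R G A a).comp (MvPolynomial.map (FixedPoints.subring R G).subtype) := by
  apply MvPolynomial.ringHom_ext
  · intro s
    have h1 : (MvPolynomial.aeval a : MvPolynomial κ (FixedPoints.subring R G) →ₐ[_] A)
        (MvPolynomial.C s) = algebraMap _ A s := MvPolynomial.aeval_C _ _
    have h2 : Psi R G A a (MvPolynomial.C (s : R)) =
        (1 : A) ⊗ₜ[FixedPoints.subring R G] (s : R) := by
      simp [Psi]
    have h3 : (algebraMap (FixedPoints.subring R G) A s) ⊗ₜ[FixedPoints.subring R G] (1 : R) =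
        (1 : A) ⊗ₜ[FixedPoints.subring R G] (s : R) := by
      rw [Algebra.algebraMap_eq_smul_one, TensorProduct.smul_tmul, Subring.smul_def, smul_eq_mul,
        mul_one]
    simp only [RingHom.coe_comp, Function.comp_apply, AlgHom.toRingHom_eq_coe, RingHom.coe_coe,
      MvPolynomial.map_C, Subring.subtype_apply]
    rw [h1, h2, Algebra.TensorProduct.algebraMap_apply, Algebra.algebraMap_self, RingHom.id_apply, h3]
  · intro i
    simp [Psi]

lemma Psi_lin {κ : Type u} [Fintype κ] (a : κ → A) (y : κ → R) (σ : G) :
    Psi R G A a (lin R G y σ) = ∑ j, a j ⊗ₜ[FixedPoints.subring R G] (σ • y j) := by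
  simp only [lin, map_sum, map_mul, Psi, MvPolynomial.coe_eval₂Hom, MvPolynomial.eval₂_C,
    MvPolynomial.eval₂_X, AlgHom.toRingHom_eq_coe, RingHom.coe_coe,
    Algebra.TensorProduct.includeRight_apply, Algebra.TensorProduct.tmul_mul_tmul, one_mul,
    mul_one]

theorem part1 (b : TensorProduct (FixedPoints.subring R G) A R)
    (hb : ∀ σ : G, Algebra.TensorProduct.map (AlgHom.id (FixedPoints.subring R G) A)
        (MulSemiringAction.toAlgHom (FixedPoints.subring R G) R σ) b = b) :
    ∃ P : Polynomial A, P.Monic ∧
        Polynomial.map (algebraMap A (TensorProduct (FixedPoints.subring R G) A R)) P =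
          (Polynomial.X - Polynomial.C b) ^ Fintype.card G := by
  classical
  obtain ⟨s, hs⟩ := TensorProduct.exists_finset b
  let κ : Type u := ↥s
  let a : κ → A := fun i => i.1.1
  let y : κ → R := fun i => i.1.2
  have hb' : b = ∑ j : κ, a j ⊗ₜ[FixedPoints.subring R G] y j := by
    rw [hs]; exact (Finset.sum_coe_sort s (fun i => i.1 ⊗ₜ[FixedPoints.subring R G] i.2)).symm
  obtain ⟨Q₀, hmon, hQ⟩ := exists_descent R G y
  refine ⟨Q₀.map (MvPolynomial.aeval a :
    MvPolynomial κ (FixedPoints.subring R G) →ₐ[_] A).toRingHom, hmon.map _, ?_⟩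
  rw [Polynomial.map_map, Psi_comp, ← Polynomial.map_map, hQ, big, Polynomial.map_prod]
  have : ∀ σ : G, Psi R G A a (lin R G y σ) = b := by
    intro σ
    rw [Psi_lin]
    conv_rhs => rw [← hb σ, hb']
    simp only [map_sum, Algebra.TensorProduct.map_tmul, AlgHom.coe_id, id_eq,
      MulSemiringAction.toAlgHom_apply]
  simp only [Polynomial.map_sub, Polynomial.map_X, Polynomial.map_C, this]
  rw [Finset.prod_const, Finset.card_univ]

end P1

section P2
variable (R G A : Type u) [CommRing R] [Group G] [Fintype G] [MulSemiringAction G R]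
  [CommRing A] [Algebra (FixedPoints.subring R G) A]

lemma constantCoeff_lin {κ : Type*} [Fintype κ] (y : κ → R) (σ : G) :
    MvPolynomial.constantCoeff (lin R G y σ) = 0 := by
  simp [lin]

/-- `Q₀` evaluated at `x = 0` is `T^n`. -/
lemma map_constantCoeff {κ : Type*} [Fintype κ] (y : κ → R)
    (Q₀ : Polynomial (MvPolynomial κ (FixedPoints.subring R G)))
    (hQ : Q₀.map (MvPolynomial.map (FixedPoints.subring R G).subtype) = big R G y) :
    Q₀.map MvPolynomial.constantCoeff = X ^ Fintype.card G := by
  apply Polynomial.map_injective _ (FixedPoints.subring R G).subtype_injective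
  rw [Polynomial.map_map]
  have : (FixedPoints.subring R G).subtype.comp
      (MvPolynomial.constantCoeff : MvPolynomial κ (FixedPoints.subring R G) →+* _) =
      (MvPolynomial.constantCoeff : MvPolynomial κ R →+* R).comp
        (MvPolynomial.map (FixedPoints.subring R G).subtype) := by
    apply MvPolynomial.ringHom_ext
    · intro s; simp
    · intro i; simp
  rw [this, ← Polynomial.map_map, hQ, big, Polynomial.map_prod]
  simp only [Polynomial.map_sub, Polynomial.map_X, Polynomial.map_C, constantCoeff_lin, map_zero,
    sub_zero, Finset.prod_const, Finset.card_univ, Polynomial.map_pow]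

/-- substitution `X_j ↦ Σ_i c_ij Z_i` over `S`. -/
noncomputable def subS {ι κ : Type*} [Fintype ι] (c : ι → κ → FixedPoints.subring R G) :
    MvPolynomial κ (FixedPoints.subring R G) →+* MvPolynomial ι (FixedPoints.subring R G) :=
  (MvPolynomial.aeval (fun j => ∑ i, MvPolynomial.C (c i j) * MvPolynomial.X i) :
    MvPolynomial κ (FixedPoints.subring R G) →ₐ[FixedPoints.subring R G] _).toRingHom

/-- substitution `X_j ↦ Σ_i c_ij Z_i` over `R`. -/
noncomputable def subR {ι κ : Type*} [Fintype ι] (c : ι → κ → FixedPoints.subring R G) :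
    MvPolynomial κ R →+* MvPolynomial ι R :=
  (MvPolynomial.aeval (fun j => ∑ i, MvPolynomial.C (c i j : R) * MvPolynomial.X i) :
    MvPolynomial κ R →ₐ[R] _).toRingHom

lemma sub_comm {ι κ : Type*} [Fintype ι] (c : ι → κ → FixedPoints.subring R G) :
    (MvPolynomial.map (FixedPoints.subring R G).subtype).comp (subS R G c) =
      (subR R G c).comp (MvPolynomial.map (FixedPoints.subring R G).subtype) := by
  apply MvPolynomial.ringHom_ext
  · intro s; simp [subS, subR]
  · intro j; simp [subS, subR]

lemma subR_lin {ι κ : Type*} [Fintype ι] [Fintype κ] (c : ι → κ → FixedPoints.subring R G)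
    (y : κ → R) (σ : G) :
    subR R G c (lin R G y σ) =
      ∑ i, MvPolynomial.C (σ • ∑ j, (c i j : R) * y j) * MvPolynomial.X i := by
  simp only [subR, lin, map_sum, map_mul, AlgHom.toRingHom_eq_coe, RingHom.coe_coe,
    MvPolynomial.aeval_C, MvPolynomial.aeval_X, MvPolynomial.algebraMap_eq, Finset.mul_sum,
    Finset.smul_sum, smul_mul', Finset.sum_mul]
  rw [Finset.sum_comm]
  refine Finset.sum_congr rfl fun i _ => Finset.sum_congr rfl fun j _ => ?_
  have : σ • (c i j : R) = (c i j : R) := (c i j).2 σ
  rw [this]
  ring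

theorem part2 (a : A)
    (ha : algebraMap A (TensorProduct (FixedPoints.subring R G) A R) a = 0) :
    (X - C a) ^ Fintype.card G = (X ^ Fintype.card G : Polynomial A) := by
  classical
  -- Step 1: pass to a finitely generated submodule
  let N' : Submodule (FixedPoints.subring R G) A := Submodule.span _ {a}
  have haN : a ∈ N' := Submodule.mem_span_singleton_self a
  let x : TensorProduct (FixedPoints.subring R G) N' R := (⟨a, haN⟩ : N') ⊗ₜ (1 : R)
  have hx : N'.subtype.rTensor R x = N'.subtype.rTensor R 0 := by
    rw [map_zero]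
    change a ⊗ₜ[FixedPoints.subring R G] (1 : R) = 0
    rw [Algebra.TensorProduct.algebraMap_apply, Algebra.algebraMap_self, RingHom.id_apply] at ha
    exact ha
  obtain ⟨P', hP'fg, hle, hx'⟩ :=
    (Submodule.fg_span_singleton a).exists_rTensor_fg_inclusion_eq hx
  rw [map_zero] at hx'
  have hx'' : (⟨a, hle haN⟩ : P') ⊗ₜ[FixedPoints.subring R G] (1 : R) = 0 := hx'
  -- Step 2: spanning family
  have : Module.Finite (FixedPoints.subring R G) P' := Module.Finite.iff_fg.mpr hP'fg
  obtain ⟨n, s, hs⟩ := Module.Finite.exists_fin (R := FixedPoints.subring R G) (M := P')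
  let m : Option (Fin n) → P' := fun i => Option.elim i ⟨a, hle haN⟩ s
  let n' : Option (Fin n) → R := fun i => Option.elim i 1 (fun _ => 0)
  have hm : Submodule.span (FixedPoints.subring R G) (Set.range m) = ⊤ := by
    rw [eq_top_iff, ← hs]
    apply Submodule.span_mono
    rintro _ ⟨j, rfl⟩
    exact ⟨some j, rfl⟩
  have hsum : ∑ i, m i ⊗ₜ[FixedPoints.subring R G] n' i = 0 := by
    rw [Fintype.sum_option]
    simp only [m, n', Option.elim_none, Option.elim_some, TensorProduct.tmul_zero,
      Finset.sum_const_zero, add_zero]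
    exact hx''
  obtain ⟨k, c, y, h₁, h₂⟩ := TensorProduct.vanishesTrivially_of_sum_tmul_eq_zero _ hm hsum
  -- Step 3: the polynomial
  obtain ⟨Q₀, -, hQ⟩ := exists_descent R G y
  -- Q₁ := Q₀ after substitution equals (T - Z_none)^n
  have hQ₁ : Q₀.map (subS R G c) =
      (X - C (MvPolynomial.X none)) ^ Fintype.card G := by
    apply Polynomial.map_injective _
      (MvPolynomial.map_injective _ (FixedPoints.subring R G).subtype_injective)
    rw [Polynomial.map_map, sub_comm, ← Polynomial.map_map, hQ, big, Polynomial.map_prod]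
    have hl : ∀ σ : G, subR R G c (lin R G y σ) = MvPolynomial.X none := by
      intro σ
      rw [subR_lin, Fintype.sum_option]
      have e : ∀ i, ∑ j, (c i j : R) * y j = n' i := by
        intro i
        rw [h₁ i]
        exact Finset.sum_congr rfl fun j _ => by rw [Subring.smul_def, smul_eq_mul]
      simp only [e, n', Option.elim_none, Option.elim_some, smul_one, smul_zero, map_one, map_zero,
        one_mul, zero_mul, Finset.sum_const_zero, add_zero]
    simp only [Polynomial.map_sub, Polynomial.map_X, Polynomial.map_C, hl, Finset.prod_const,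
      Finset.card_univ, Polynomial.map_pow, MvPolynomial.map_X]
  -- evaluate at Z_i ↦ m_i
  let evZ : MvPolynomial (Option (Fin n)) (FixedPoints.subring R G) →+* A :=
    (MvPolynomial.aeval (fun i => ((m i : P') : A)) :
      MvPolynomial (Option (Fin n)) (FixedPoints.subring R G) →ₐ[FixedPoints.subring R G] A).toRingHom
  have h3 : evZ.comp (subS R G c) =
      (algebraMap (FixedPoints.subring R G) A).comp MvPolynomial.constantCoeff := by
    apply MvPolynomial.ringHom_ext
    · intro s; simp [evZ, subS]
    · intro j
      have : ∑ i, c i j • ((m i : P') : A) = 0 := by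
        have := congrArg (fun z : P' => (z : A)) (h₂ j)
        simpa using this
      simp only [evZ, subS, RingHom.coe_comp, Function.comp_apply, AlgHom.toRingHom_eq_coe,
        RingHom.coe_coe, MvPolynomial.aeval_X, map_sum, map_mul, MvPolynomial.aeval_C,
        MvPolynomial.constantCoeff_X, map_zero]
      rw [← this]
      exact Finset.sum_congr rfl fun i _ => (Algebra.smul_def _ _).symm
  have h4 := congrArg (Polynomial.map evZ) hQ₁
  rw [Polynomial.map_map, h3, ← Polynomial.map_map, map_constantCoeff R G y Q₀ hQ] at h4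
  simp only [Polynomial.map_pow, Polynomial.map_X, Polynomial.map_sub, Polynomial.map_C] at h4
  rw [h4]
  congr 3
  simp [evZ, m]

end P2

end Groth.Agent.S9312.Aux

namespace Groth.Agent.S9312

/-- Let a finite group G with n elements act on a ring R by ring automorphisms, with invariant ring R^G,
and let A be an algebra over R^G; G acts on A ⊗ R through the factor R. (1) For every G-invariant b
∈ A ⊗ R there is a monic polynomial over A whose image in (A ⊗ R)[T] is (T - b)^n. (2) For every a
in the kernel of A → A ⊗ R, all coefficients of (T - a)^n below degree n vanish, that is (T - a)^n =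
T^n in A[T]. -/
theorem result (R G A : Type u) [CommRing R] [Group G] [Fintype G]
    [MulSemiringAction G R] [CommRing A] [Algebra (FixedPoints.subring R G) A] :
    (∀ b : TensorProduct (FixedPoints.subring R G) A R,
      (∀ σ : G, Algebra.TensorProduct.map (AlgHom.id (FixedPoints.subring R G) A)
        (MulSemiringAction.toAlgHom (FixedPoints.subring R G) R σ) b = b) →
      ∃ P : Polynomial A, P.Monic ∧
        Polynomial.map (algebraMap A (TensorProduct (FixedPoints.subring R G) A R)) P =
          (Polynomial.X - Polynomial.C b) ^ Fintype.card G) ∧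
    (∀ a : A, algebraMap A (TensorProduct (FixedPoints.subring R G) A R) a = 0 →
      ∀ i : ℕ, i < Fintype.card G → ((Polynomial.X - Polynomial.C a) ^ Fintype.card G).coeff i = 0) := by
  refine ⟨fun b hb => Aux.part1 R G A b hb, fun a ha i hi => ?_⟩
  rw [Aux.part2 R G A a ha, Polynomial.coeff_X_pow, if_neg (ne_of_lt hi)]

end Groth.Agent.S9312
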