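import Groth.Statements.S9315
import Mathlib

set_option autoImplicit false
universe u
open CAlg

namespace Groth.Agent.S9315

open IsLocalRing in
/-- Let `R → S` be a local homomorphism of local rings (no Noetherian hypothesis). Then `R → S` is
formally smooth for the adic topology of the maximal ideal of `S` if and only if the following
lifting property holds: for every local ring `A` with a local structure map `R → A`, every ideal `J`
of `A` of square zero such that some power of the maximal ideal of `A` is zero, and every local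
`R`-algebra homomorphism `ψ : S → A/J` inducing a bijection on residue fields, there is an
`R`-algebra homomorphism `S → A` lifting `ψ`. -/
theorem result {R S : Type u} [CommRing R] [CommRing S]
    [IsLocalRing R] [IsLocalRing S] [Algebra R S] [IsLocalHom (algebraMap R S)] :
    CAlgX.IsAdicFormallySmooth R S (maximalIdeal S) ↔
      ∀ (A : Type u) [CommRing A] [IsLocalRing A] [Algebra R A] [IsLocalHom (algebraMap R A)]
        (J : Ideal A), J ^ 2 = ⊥ → (∃ n : ℕ, maximalIdeal A ^ n = ⊥) →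
        ∀ [IsLocalRing (A ⧸ J)] (ψ : S →ₐ[R] A ⧸ J) [IsLocalHom ψ.toRingHom],
          Function.Bijective (ResidueField.map ψ.toRingHom) →
          ∃ χ : S →ₐ[R] A, (Ideal.Quotient.mkₐ R J).comp χ = ψ := by
  constructor
  · intro h A _ _ _ _ J hJ hn _ ψ _ _
    obtain ⟨n, hn⟩ := hn
    apply h A J hJ ψ
    refine ⟨n, fun x hx => ?_⟩
    have h1 : ψ.toRingHom x ∈ ((maximalIdeal S) ^ n).map ψ.toRingHom := Ideal.mem_map_of_mem _ hx
    rw [Ideal.map_pow] at h1
    have h2 := Ideal.pow_right_mono (IsLocalRing.map_maximalIdeal_le ψ.toRingHom) n h1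
    rw [← IsLocalRing.map_maximalIdeal_of_surjective (Ideal.Quotient.mk J)
      Ideal.Quotient.mk_surjective, ← Ideal.map_pow, hn, Ideal.map_bot] at h2
    exact h2
  · intro H A _ _ J hJ ψ hk
    obtain ⟨k, hk⟩ := hk
    set I : Ideal S := (maximalIdeal S) ^ (k + 1) with hI
    have hk' : ∀ x ∈ I, ψ x = 0 := fun x hx => hk x (Ideal.pow_le_pow_right k.le_succ hx)
    have hI𝔪 : I ≤ maximalIdeal S := Ideal.pow_le_self (Nat.succ_ne_zero k)
    have hItop : I ≠ ⊤ := fun h => Ideal.IsPrime.ne_top' (top_le_iff.mp (h ▸ hI𝔪))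
    have : Nontrivial (S ⧸ I) := Ideal.Quotient.nontrivial_iff.mpr hItop
    have : IsLocalRing (S ⧸ I) :=
      IsLocalRing.of_surjective' (Ideal.Quotient.mk I) Ideal.Quotient.mk_surjective
    let ψ' : S ⧸ I →ₐ[R] A ⧸ J := Ideal.Quotient.liftₐ I ψ hk'
    let g : A →ₐ[R] A ⧸ J := Ideal.Quotient.mkₐ R J
    have hglocal : IsLocalHom g := ⟨fun a ha =>
      (IsNilpotent.isUnit_quotient_mk_iff (I := J) ⟨2, hJ⟩).mp ha⟩
    have : IsLocalRing (AlgHom.pullback ψ' g) := AlgHom.isLocalRing_pullback ψ' g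
    let p₁ : AlgHom.pullback ψ' g →ₐ[R] S ⧸ I := AlgHom.pullbackFst ψ' g
    let p₂ : AlgHom.pullback ψ' g →ₐ[R] A := AlgHom.pullbackSnd ψ' g
    have hp₁ : Function.Surjective p₁ :=
      AlgHom.surjective_pullbackFst_of_surjective ψ' g Ideal.Quotient.mk_surjective
    have hmemJ : ∀ x : AlgHom.pullback ψ' g, p₁ x = 0 → p₂ x ∈ J := by
      intro x hx
      have h1 : ψ' (p₁ x) = g (p₂ x) := x.2
      rw [hx, map_zero] at h1
      exact Ideal.Quotient.eq_zero_iff_mem.mp h1.symm
    have hJ' : (RingHom.ker p₁) ^ 2 = ⊥ := by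
      rw [eq_bot_iff, sq, Ideal.mul_le]
      intro x hx y hy
      rw [RingHom.mem_ker] at hx hy
      rw [Ideal.mem_bot]
      apply Subtype.ext
      apply Prod.ext
      · change p₁ (x * y) = 0
        rw [map_mul, hx, zero_mul]
      · change p₂ (x * y) = 0
        rw [map_mul]
        have : p₂ x * p₂ y ∈ J ^ 2 := by
          rw [sq]
          exact Ideal.mul_mem_mul (hmemJ x hx) (hmemJ y hy)
        rw [hJ] at this
        exact this
    have hmaxT : (maximalIdeal (S ⧸ I)) ^ (k + 1) = ⊥ := by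
      rw [← IsLocalRing.map_maximalIdeal_of_surjective (Ideal.Quotient.mk I)
        Ideal.Quotient.mk_surjective, ← Ideal.map_pow, Ideal.map_quotient_self]
    have hmaxle : (maximalIdeal (AlgHom.pullback ψ' g)) ^ (k + 1) ≤ RingHom.ker p₁ := by
      intro x hx
      rw [RingHom.mem_ker]
      have h1 : p₁.toRingHom x ∈ ((maximalIdeal (AlgHom.pullback ψ' g)) ^ (k + 1)).map
          p₁.toRingHom := Ideal.mem_map_of_mem _ hx
      rw [Ideal.map_pow, IsLocalRing.map_maximalIdeal_of_surjective p₁.toRingHom hp₁, hmaxT] at h1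
      exact h1
    have hmax : ∃ n : ℕ, (maximalIdeal (AlgHom.pullback ψ' g)) ^ n = ⊥ := by
      refine ⟨(k + 1) * 2, ?_⟩
      rw [eq_bot_iff, pow_mul, ← hJ']
      exact Ideal.pow_right_mono hmaxle 2
    have hmkI : IsLocalHom (Ideal.Quotient.mk I) :=
      IsLocalHom.of_surjective _ Ideal.Quotient.mk_surjective
    have hRT : IsLocalHom (algebraMap R (S ⧸ I)) := by
      have : algebraMap R (S ⧸ I) = (Ideal.Quotient.mk I).comp (algebraMap R S) := rfl
      rw [this]
      exact RingHom.isLocalHom_comp _ _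
    have hRA' : IsLocalHom (algebraMap R (AlgHom.pullback ψ' g)) := by
      have h1 : p₁.toRingHom.comp (algebraMap R (AlgHom.pullback ψ' g)) =
          algebraMap R (S ⧸ I) := p₁.comp_algebraMap
      have : IsLocalHom (p₁.toRingHom.comp (algebraMap R (AlgHom.pullback ψ' g))) := by
        rw [h1]; exact hRT
      exact isLocalHom_of_comp _ p₁.toRingHom
    let e : (AlgHom.pullback ψ' g ⧸ RingHom.ker p₁) ≃ₐ[R] S ⧸ I :=
      Ideal.quotientKerAlgEquivOfSurjective hp₁
    have : Nontrivial (AlgHom.pullback ψ' g ⧸ RingHom.ker p₁) := e.toEquiv.nontrivial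
    have : IsLocalRing (AlgHom.pullback ψ' g ⧸ RingHom.ker p₁) :=
      IsLocalRing.of_surjective' (Ideal.Quotient.mk _) Ideal.Quotient.mk_surjective
    let φ : S →ₐ[R] AlgHom.pullback ψ' g ⧸ RingHom.ker p₁ :=
      (e.symm : S ⧸ I →ₐ[R] _).comp (Ideal.Quotient.mkₐ R I)
    have hφsurj : Function.Surjective φ := e.symm.surjective.comp Ideal.Quotient.mk_surjective
    have hφlocal : IsLocalHom φ.toRingHom :=
      IsLocalHom.of_surjective (R := S) (S := AlgHom.pullback ψ' g ⧸ RingHom.ker p₁) φ.toRingHom hφsurj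
    have hbij : Function.Bijective (ResidueField.map (R := S)
        (S := AlgHom.pullback ψ' g ⧸ RingHom.ker p₁) φ.toRingHom) := by
      refine ⟨RingHom.injective _, fun y => ?_⟩
      obtain ⟨a, rfl⟩ := IsLocalRing.residue_surjective y
      obtain ⟨s, rfl⟩ := hφsurj a
      exact ⟨IsLocalRing.residue S s, rfl⟩
    obtain ⟨χ', hχ'⟩ := H (AlgHom.pullback ψ' g) (RingHom.ker p₁) hJ' hmax φ hbij
    refine ⟨p₂.comp χ', ?_⟩
    ext s
    have h1 : ψ' (p₁ (χ' s)) = g (p₂ (χ' s)) := (χ' s).2
    have h2 : e (Ideal.Quotient.mk _ (χ' s)) = e (φ s) := by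
      rw [← hχ']; rfl
    have h3 : e (φ s) = Ideal.Quotient.mk I s := e.apply_symm_apply _
    have h4 : p₁ (χ' s) = Ideal.Quotient.mk I s := by
      rw [← h3, ← h2]; rfl
    rw [h4] at h1
    exact h1.symm

end Groth.Agent.S9315
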