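import Groth.Statements.S9323
import Groth.Agent.Lib.Helper47.FlatFibreSmooth
import Groth.Agent.Lib.Helper47.SeparableSmooth
import Groth.Agent.S4533
import Groth.Agent.S4534

set_option autoImplicit false
open CAlg

namespace Groth.Agent.S9323

/-- Let `Λ` be a Cohen ring (a complete discrete valuation ring whose maximal ideal is generated by a
prime number) and `n ≥ 0`. Then `ℤ → Λ[[x_1, …, x_n]]` is formally smooth for the adic topology of
the maximal ideal of the power series ring. (`Λ` is taken in the lowest universe, where `ℤ` lives.) -/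
theorem result (Λ : Type) [CommRing Λ] [IsLocalRing Λ]
    (hΛ : CAlg.IsCohenRing Λ) (n : ℕ) :
    CAlgX.IsAdicFormallySmooth ℤ (MvPowerSeries (Fin n) Λ)
      (IsLocalRing.maximalIdeal (MvPowerSeries (Fin n) Λ)) := by
  classical
  obtain ⟨hdom, hdvr, hcomp, p, hp, hmax⟩ := hΛ
  haveI : Fact p.Prime := ⟨hp⟩
  have hp0 : (p : Λ) ≠ 0 := by
    intro h0
    rw [h0, Ideal.span_singleton_eq_bot.mpr rfl] at hmax
    exact IsDiscreteValuationRing.not_a_field Λ hmax
  have hpm : (p : Λ) ∈ IsLocalRing.maximalIdeal Λ := by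
    rw [hmax]
    exact Ideal.mem_span_singleton_self _
  haveI : CharZero Λ := by
    obtain ⟨q, hq⟩ := CharP.exists Λ
    rcases CharP.char_is_prime_or_zero Λ q with hq' | hq'
    · exfalso
      have hq0 : (q : Λ) = 0 := CharP.cast_eq_zero Λ q
      by_cases hqp : q = p
      · exact hp0 (hqp ▸ hq0)
      · have hcop : Nat.Coprime q p := (Nat.coprime_primes hq' hp).mpr hqp
        obtain ⟨a, b, hab⟩ := Nat.Coprime.isCoprime hcop
        have h1 : ((a * q + b * p : ℤ) : Λ) = 1 := by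
          rw [hab]
          exact Int.cast_one
        push_cast at h1
        rw [hq0, mul_zero, zero_add] at h1
        have : (1 : Λ) ∈ IsLocalRing.maximalIdeal Λ := by
          rw [← h1]
          exact Ideal.mul_mem_left _ _ hpm
        exact (Ideal.ne_top_iff_one _).mp (IsLocalRing.maximalIdeal.isMaximal Λ).ne_top this
    · subst hq'
      exact CharP.charP_to_charZero Λ
  let 𝔞 : Ideal ℤ := Ideal.span {(p : ℤ)}
  have h𝔞Λ : 𝔞.map (algebraMap ℤ Λ) = IsLocalRing.maximalIdeal Λ := by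
    rw [hmax, Ideal.map_span, Set.image_singleton]
    congr 2
    rw [eq_intCast, Int.cast_natCast]
  -- step (a): `ℤ → Λ` is formally smooth
  have h1 : EGA41.IsFormallySmoothAdic ℤ 𝔞 Λ (IsLocalRing.maximalIdeal Λ) := by
    apply Groth.Agent.Lib.Helper47.isFormallySmoothAdic_of_flat_of_fibre_maximal 𝔞 _ h𝔞Λ.le
    haveI : (𝔞.map (algebraMap ℤ Λ)).IsMaximal := h𝔞Λ ▸ IsLocalRing.maximalIdeal.isMaximal Λ
    let _ : Field (ℤ ⧸ 𝔞) := Ideal.Quotient.field 𝔞
    let _ : Field (Λ ⧸ 𝔞.map (algebraMap ℤ Λ)) := Ideal.Quotient.field _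
    haveI : PerfectField (ℤ ⧸ 𝔞) := PerfectField.ofFinite
    haveI : Algebra.FormallySmooth (ℤ ⧸ 𝔞) (Λ ⧸ 𝔞.map (algebraMap ℤ Λ)) :=
      Groth.Agent.Lib.Helper47.formallySmooth_of_perfectField _ _
    exact Groth.Agent.Lib.Helper47.isFormallySmoothAdic_bot_of_formallySmooth _
  -- step (b): `Λ → Λ[[x]]` is formally smooth
  have h2 := Groth.Agent.S4533.result Λ (IsLocalRing.maximalIdeal Λ) n
  -- step (c): transitivity
  have hAB : ∃ k : ℕ, (𝔞 ^ k).map (algebraMap ℤ Λ) ≤ IsLocalRing.maximalIdeal Λ :=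
    ⟨1, by rw [pow_one]; exact h𝔞Λ.le⟩
  have hBC : ∃ k : ℕ, ((IsLocalRing.maximalIdeal Λ) ^ k).map
      (algebraMap Λ (MvPowerSeries (Fin n) Λ)) ≤
      (IsLocalRing.maximalIdeal Λ).map (MvPowerSeries.C : Λ →+* MvPowerSeries (Fin n) Λ) ⊔
        RingHom.ker (MvPowerSeries.constantCoeff : MvPowerSeries (Fin n) Λ →+* Λ) := by
    refine ⟨1, ?_⟩
    rw [pow_one]
    exact le_sup_left
  have h3 := Groth.Agent.S4534.result 𝔞 (IsLocalRing.maximalIdeal Λ) _ hAB hBC h1 h2
  -- step (d): back to the discrete base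
  have hle : (IsLocalRing.maximalIdeal Λ).map (MvPowerSeries.C : Λ →+* MvPowerSeries (Fin n) Λ) ⊔
      RingHom.ker (MvPowerSeries.constantCoeff : MvPowerSeries (Fin n) Λ →+* Λ) ≤
      IsLocalRing.maximalIdeal (MvPowerSeries (Fin n) Λ) := by
    have hcomap : ∀ x : MvPowerSeries (Fin n) Λ,
        MvPowerSeries.constantCoeff x ∈ IsLocalRing.maximalIdeal Λ →
        x ∈ IsLocalRing.maximalIdeal (MvPowerSeries (Fin n) Λ) := by
      intro x hx
      rw [IsLocalRing.mem_maximalIdeal, mem_nonunits_iff] at hx ⊢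
      intro hu
      exact hx (MvPowerSeries.isUnit_iff_constantCoeff.mp hu)
    apply sup_le
    · rw [Ideal.map_le_iff_le_comap]
      intro a ha
      rw [Ideal.mem_comap]
      apply hcomap
      rw [MvPowerSeries.constantCoeff_C]
      exact ha
    · intro x hx
      apply hcomap
      rw [RingHom.mem_ker.mp hx]
      exact Ideal.zero_mem _
  have h𝔞B : 𝔞.map (algebraMap ℤ (MvPowerSeries (Fin n) Λ)) ≤
      (IsLocalRing.maximalIdeal Λ).map (MvPowerSeries.C : Λ →+* MvPowerSeries (Fin n) Λ) ⊔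
        RingHom.ker (MvPowerSeries.constantCoeff : MvPowerSeries (Fin n) Λ →+* Λ) := by
    refine le_trans ?_ le_sup_left
    rw [IsScalarTower.algebraMap_eq ℤ Λ (MvPowerSeries (Fin n) Λ), ← Ideal.map_map, h𝔞Λ]
    exact le_rfl
  exact Groth.Agent.Lib.Helper47.isAdicFormallySmooth_mono hle
    (Groth.Agent.Lib.Helper47.isAdicFormallySmooth_of_isFormallySmoothAdic 𝔞 _ h𝔞B h3)

end Groth.Agent.S9323
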