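import Groth.Statements.S9324
import Groth.Agent.Lib.Helper9.Hens.PairIntegral

set_option autoImplicit false
universe u
open Hensel

namespace Groth.Agent.S9324

open TensorProduct in
/-- Let `(A, I) → (B, J)` be a map of pairs, i.e. `I B ⊆ J`, such that `J` and `I B` have the same
radical, and suppose `A → B` is integral. Let `A^h` be a henselization of the pair `(A, I)`, `B^h` a
henselization of the pair `(B, J)`, and `φ : A^h → B^h` an `A`-algebra homomorphism (there is
exactly one, by the universal property of `A^h`). Then the induced map `A^h ⊗_A B → B^h` is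
bijective: henselization commutes with integral base change. -/
theorem result {A B Ah Bh : Type u} [CommRing A]
    [CommRing B] [CommRing Ah] [CommRing Bh] [Algebra A B] (I : Ideal A) (J : Ideal B)
    (hIJ : I.map (algebraMap A B) ≤ J) (hrad : J.radical = (I.map (algebraMap A B)).radical)
    [Algebra.IsIntegral A B] [Algebra A Ah] (hA : Hens2.IsPairHenselization A I Ah)
    [Algebra B Bh] [Algebra A Bh] [IsScalarTower A B Bh] (hB : Hens2.IsPairHenselization B J Bh)
    (φ : Ah →ₐ[A] Bh) :
    Function.Bijective (Algebra.TensorProduct.productMap φ (IsScalarTower.toAlgHom A B Bh)) := by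
  letI : Algebra B (Ah ⊗[A] B) := Algebra.TensorProduct.rightAlgebra
  have h1 : Hens2.IsPairHenselization B (I.map (algebraMap A B)) (Ah ⊗[A] B) :=
    Groth.Agent.Lib.Helper9.Hens.isPairHenselization_tensor_of_isIntegral hA
  have h2 : Hens2.IsPairHenselization B J (Ah ⊗[A] B) :=
    Groth.Agent.Lib.Helper9.Hens.isPairHenselization_of_radical_eq hrad.symm h1
  have h3 := Groth.Agent.Lib.Helper9.Hens.bijective_of_isPairHenselization h2 hB
    ((Algebra.TensorProduct.productMap φ (IsScalarTower.toAlgHom A B Bh) : Ah ⊗[A] B →ₐ[A] Bh) :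
      Ah ⊗[A] B →+* Bh) (by
      ext b
      show Algebra.TensorProduct.productMap φ (IsScalarTower.toAlgHom A B Bh) ((1 : Ah) ⊗ₜ[A] b) =
        algebraMap B Bh b
      rw [Algebra.TensorProduct.productMap_apply_tmul, map_one, one_mul]
      rfl)
  exact h3

end Groth.Agent.S9324
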