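import Groth.Statements.S9326
import Mathlib.Topology.Algebra.InfiniteSum.Nonarchimedean

set_option autoImplicit false
universe u
open CAlg

namespace Groth.Agent.S9326

open Filter Topology

section Helpers

variable {N M : Type u} [AddCommGroup N] [AddCommGroup M]

/-- The closure of the image of a subgroup, when not nowhere dense, is a neighbourhood of zero. -/
theorem closure_image_mem_nhds_zero [TopologicalSpace M] [IsTopologicalAddGroup M]
    (u : N →+ M) (V : AddSubgroup N)
    (h : ¬ IsNowhereDense (u '' (V : Set N))) : closure (u '' (V : Set N)) ∈ 𝓝 (0 : M) := by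
  have h1 : (interior (closure (u '' (V : Set N)))).Nonempty := by
    rw [Set.nonempty_iff_ne_empty]
    exact h
  obtain ⟨y, hy⟩ := h1
  have h2 : ((V.map u).topologicalClosure : Set M) = closure (u '' (V : Set N)) := by
    rw [AddSubgroup.topologicalClosure_coe]
    rfl
  have h3 : ((V.map u).topologicalClosure : Set M) ∈ 𝓝 y := by
    rw [h2]
    exact mem_interior_iff_mem_nhds.mp hy
  have h4 := AddSubgroup.isOpen_of_mem_nhds _ h3
  rw [← h2]
  exact h4.mem_nhds (zero_mem _)

/-- A decreasing sequence of open subgroups forming a basis of neighbourhoods of zero. -/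
theorem exists_antitone_openAddSubgroup_basis [TopologicalSpace N] [NonarchimedeanAddGroup N]
    [FirstCountableTopology N] :
    ∃ W : ℕ → OpenAddSubgroup N, Antitone W ∧ ∀ U ∈ 𝓝 (0 : N), ∃ n, (W n : Set N) ⊆ U := by
  obtain ⟨B, hB⟩ := (𝓝 (0 : N)).exists_antitone_basis
  have h1 : ∀ n, ∃ V : OpenAddSubgroup N, (V : Set N) ⊆ B n := fun n =>
    NonarchimedeanAddGroup.is_nonarchimedean (B n) (hB.mem n)
  choose W' hW' using h1
  let W : ℕ → OpenAddSubgroup N := fun n => Nat.rec (W' 0) (fun k w => w ⊓ W' (k + 1)) n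
  have hWs : ∀ n, W (n + 1) = W n ⊓ W' (n + 1) := fun n => rfl
  have hW0 : W 0 = W' 0 := rfl
  have hanti : Antitone W := antitone_nat_of_succ_le fun n => by
    rw [hWs]; exact inf_le_left
  have hle : ∀ n, W n ≤ W' n := by
    intro n
    cases n with
    | zero => exact le_of_eq hW0
    | succ k => rw [hWs]; exact inf_le_right
  refine ⟨W, hanti, fun U hU => ?_⟩
  obtain ⟨n, hn⟩ := hB.mem_iff.mp hU
  exact ⟨n, fun x hx => hn (hW' n (hle n hx))⟩

theorem image_mem_nhds_zero [UniformSpace N] [IsUniformAddGroup N] [TopologicalSpace M]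
    [IsTopologicalAddGroup M] [T2Space M] [CompleteSpace N] [NonarchimedeanAddGroup N]
    [FirstCountableTopology N] (u : N →+ M) (hu : Continuous u)
    (h : ∀ V : OpenAddSubgroup N, closure (u '' (V : Set N)) ∈ 𝓝 (0 : M))
    (V : OpenAddSubgroup N) : u '' (V : Set N) ∈ 𝓝 (0 : M) := by
  obtain ⟨W, hanti, hbasis⟩ := exists_antitone_openAddSubgroup_basis (N := N)
  let Vn : ℕ → OpenAddSubgroup N := fun n => V ⊓ W n
  have hVnV : ∀ n, ∀ x ∈ Vn n, x ∈ V := fun n x hx => hx.1
  have hVnW : ∀ n, ∀ x ∈ Vn n, x ∈ W n := fun n x hx => hx.2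
  refine Filter.mem_of_superset (h (Vn 0)) ?_
  intro y hy
  -- the inductive construction
  have step : ∀ (n : ℕ) (s : {s : N // s ∈ V ∧ y - u s ∈ closure (u '' (Vn n : Set N))}),
      ∃ s' : {s : N // s ∈ V ∧ y - u s ∈ closure (u '' (Vn (n + 1) : Set N))},
        s'.1 - s.1 ∈ Vn n := by
    rintro n ⟨s, hsV, hs⟩
    have hA : {z : M | (y - u s) - z ∈ closure (u '' (Vn (n + 1) : Set N))} ∈ 𝓝 (y - u s) := by
      have hc : Continuous fun z : M => (y - u s) - z := continuous_const.sub continuous_id
      have := hc.continuousAt (x := y - u s)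
      rw [ContinuousAt, sub_self] at this
      exact this (h (Vn (n + 1)))
    obtain ⟨z, hz1, ⟨x, hx, rfl⟩⟩ := mem_closure_iff_nhds.mp hs _ hA
    refine ⟨⟨s + x, V.add_mem hsV (hVnV n x hx), ?_⟩, ?_⟩
    · rw [map_add, ← sub_sub]
      exact hz1
    · simpa using hx
  choose F hF using step
  let σ : (n : ℕ) → {s : N // s ∈ V ∧ y - u s ∈ closure (u '' (Vn n : Set N))} :=
    fun n => Nat.rec ⟨0, V.zero_mem, by simpa using hy⟩ (fun k s => F k s) n
  have hσ : ∀ n, (σ (n + 1)).1 - (σ n).1 ∈ Vn n := fun n => hF n (σ n)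
  -- Cauchy
  have htend : Tendsto (fun n => (σ (n + 1)).1 - (σ n).1) atTop (𝓝 (0 : N)) := by
    rw [tendsto_def]
    intro U hU
    obtain ⟨k, hk⟩ := hbasis U hU
    rw [mem_atTop_sets]
    exact ⟨k, fun n hn => hk (hanti hn (hVnW n _ (hσ n)))⟩
  have hcauchy : CauchySeq (fun n => (σ n).1) :=
    NonarchimedeanAddGroup.cauchySeq_of_tendsto_sub_nhds_zero htend
  obtain ⟨x, hx⟩ := cauchySeq_tendsto_of_complete hcauchy
  have hxV : x ∈ (V : Set N) :=
    V.isClosed.mem_of_tendsto hx (Eventually.of_forall fun n => (σ n).2.1)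
  refine ⟨x, hxV, ?_⟩
  have h1 : Tendsto (fun n => u (σ n).1) atTop (𝓝 (u x)) := (hu.tendsto x).comp hx
  have h2 : Tendsto (fun n => y - u (σ n).1) atTop (𝓝 (0 : M)) := by
    rw [tendsto_def]
    intro O hO
    obtain ⟨O', hO'mem, hO'cl, hO'sub⟩ := exists_mem_nhds_isClosed_subset hO
    have hpre : u ⁻¹' O' ∈ 𝓝 (0 : N) := by
      have := hu.continuousAt (x := (0 : N))
      rw [ContinuousAt, map_zero] at this
      exact this hO'mem
    obtain ⟨k, hk⟩ := hbasis _ hpre
    rw [mem_atTop_sets]
    refine ⟨k, fun n hn => hO'sub ?_⟩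
    have hsub : closure (u '' (Vn n : Set N)) ⊆ O' := by
      apply hO'cl.closure_subset_iff.mpr
      rintro _ ⟨w, hw, rfl⟩
      exact hk (hanti hn (hVnW n w hw))
    exact hsub (σ n).2.2
  have h3 : Tendsto (fun n => u (σ n).1) atTop (𝓝 y) := by
    have := (tendsto_const_nhds (x := y)).sub h2
    simpa using this
  exact tendsto_nhds_unique h1 h3


end Helpers

/-- Let `u : N → M` be a continuous homomorphism of topological abelian groups. Assume `M` is Hausdorff
and `N` is Hausdorff and complete, linearly topologized (every neighbourhood of zero contains an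
open subgroup) and first countable (zero has a countable basis of neighbourhoods). Then exactly one
of two things holds: `u` is an open map; or there is an open subgroup of `N` whose image is nowhere
dense in `M`. -/
theorem result {N M : Type u} [AddCommGroup N]
    [AddCommGroup M] [UniformSpace N] [IsUniformAddGroup N] [TopologicalSpace M]
    [IsTopologicalAddGroup M] [T2Space M] [T2Space N] [CompleteSpace N] [NonarchimedeanAddGroup N]
    [FirstCountableTopology N] (u : N →+ M) (hu : Continuous u) :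
    Xor (IsOpenMap u) (∃ V : OpenAddSubgroup N, IsNowhereDense (u '' (V : Set N))) := by
  by_cases h : ∃ V : OpenAddSubgroup N, IsNowhereDense (u '' (V : Set N))
  · refine Or.inr ⟨h, fun hopen => ?_⟩
    obtain ⟨V, hV⟩ := h
    have h1 : u '' (V : Set N) ⊆ interior (closure (u '' (V : Set N))) :=
      interior_maximal subset_closure (hopen _ V.isOpen)
    have h2 : (0 : M) ∈ interior (closure (u '' (V : Set N))) :=
      h1 ⟨0, V.zero_mem, map_zero u⟩
    rw [IsNowhereDense] at hV
    rw [hV] at h2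
    exact h2
  · refine Or.inl ⟨?_, h⟩
    have hcl : ∀ V : OpenAddSubgroup N, closure (u '' (V : Set N)) ∈ 𝓝 (0 : M) := fun V =>
      closure_image_mem_nhds_zero u (V : AddSubgroup N) (fun hV => h ⟨V, hV⟩)
    rw [IsTopologicalAddGroup.isOpenMap_iff_nhds_zero]
    intro S hS
    rw [Filter.mem_map] at hS
    obtain ⟨V, hV⟩ := NonarchimedeanAddGroup.is_nonarchimedean _ hS
    refine Filter.mem_of_superset (image_mem_nhds_zero u hu hcl V) ?_
    rintro _ ⟨x, hx, rfl⟩
    exact hV hx

end Groth.Agent.S9326
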