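import Groth.Statements.S9327
import Groth.Agent.Lib.Helper10.TensorBranchD

set_option autoImplicit false
universe u
open Hensel

namespace Groth.Agent.S9327

/-- Contraction along a flat ring map sends minimal primes to minimal primes. -/
theorem mapsTo_minimalPrimes_of_flat {S C : Type*} [CommRing S] [CommRing C] (f : S →+* C)
    (hf : f.Flat) : Set.MapsTo (Ideal.comap f) (minimalPrimes C) (minimalPrimes S) := by
  algebraize [f]
  intro q hq
  have hqp : q.IsPrime := hq.1.1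
  refine ⟨⟨Ideal.comap_isPrime (algebraMap S C) q, bot_le⟩, fun p' hp' hle => ?_⟩
  have hp'p : p'.IsPrime := hp'.1
  have hlo : q.LiesOver (Ideal.comap (algebraMap S C) q) := ⟨rfl⟩
  obtain ⟨P, hPq, hPp, hPlo⟩ :=
    Ideal.exists_ideal_le_liesOver_of_le (p := p') (q := Ideal.comap (algebraMap S C) q) q hle
  have hPq' : q ≤ P := hq.2 ⟨hPp, bot_le⟩ hPq
  have : P = q := le_antisymm hPq hPq'
  rw [hPlo.over, this]
  rfl

open TensorProduct in
theorem flat_includeRight (k A B : Type*) [Field k] [CommRing A] [CommRing B] [Algebra k A]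
    [Algebra k B] : (Algebra.TensorProduct.includeRight : B →ₐ[k] A ⊗[k] B).toRingHom.Flat := by
  have h : (Algebra.TensorProduct.includeRight : B →ₐ[k] A ⊗[k] B).toRingHom =
      ((Algebra.TensorProduct.comm k B A : B ⊗[k] A ≃ₐ[k] A ⊗[k] B) : B ⊗[k] A →+* A ⊗[k] B).comp
        (algebraMap B (B ⊗[k] A)) := by
    ext b
    simp [Algebra.TensorProduct.algebraMap_apply]
  rw [h]
  exact RingHom.Flat.comp (RingHom.flat_algebraMap_iff.mpr inferInstance)
    (.of_bijective (AlgEquiv.bijective _))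

open TensorProduct IsLocalRing in
/-- Let `k` be an algebraically closed field and `A`, `B` henselian local `k`-algebras with residue
field `k` (the composites `k → A → A/m_A` and `k → B → B/m_B` are bijective; as `k` is algebraically
closed, `A` and `B` are strictly henselian). Let `𝔪 = m_A ⊗ B + A ⊗ m_B`, a maximal ideal of `A ⊗_k
B`, and let `C` be a strict henselization of the local ring `(A ⊗_k B)_𝔪`. Then sending a prime of
`C` to the pair of its preimages in `A` and in `B` is a bijection from the set of minimal primes of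
`C` onto the set of pairs (minimal prime of `A`, minimal prime of `B`). -/
theorem result {k A B C : Type u} [Field k]
    [IsAlgClosed k] [CommRing A] [CommRing B] [HenselianLocalRing A] [HenselianLocalRing B]
    [Algebra k A] [Algebra k B]
    (hA : Function.Bijective ((residue A).comp (algebraMap k A)))
    (hB : Function.Bijective ((residue B).comp (algebraMap k B)))
    (𝔪 : Ideal (A ⊗[k] B)) [𝔪.IsPrime]
    (h𝔪 : 𝔪 = (maximalIdeal A).map (Algebra.TensorProduct.includeLeft : A →ₐ[k] A ⊗[k] B) ⊔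
      (maximalIdeal B).map (Algebra.TensorProduct.includeRight : B →ₐ[k] A ⊗[k] B))
    [CommRing C] [IsLocalRing C] [Algebra (Localization.AtPrime 𝔪) C]
    [IsLocalHom (algebraMap (Localization.AtPrime 𝔪) C)]
    [Hensel.IsStrictHenselization (Localization.AtPrime 𝔪) C] :
    Set.BijOn
      (fun 𝔯 : Ideal C =>
        (𝔯.comap ((algebraMap (Localization.AtPrime 𝔪) C).comp
            ((algebraMap (A ⊗[k] B) (Localization.AtPrime 𝔪)).comp
              (Algebra.TensorProduct.includeLeft : A →ₐ[k] A ⊗[k] B).toRingHom)),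
          𝔯.comap ((algebraMap (Localization.AtPrime 𝔪) C).comp
            ((algebraMap (A ⊗[k] B) (Localization.AtPrime 𝔪)).comp
              (Algebra.TensorProduct.includeRight : B →ₐ[k] A ⊗[k] B).toRingHom))))
      (minimalPrimes C) (minimalPrimes A ×ˢ minimalPrimes B) := by
  classical
  haveI : Module.FaithfullyFlat (Localization.AtPrime 𝔪) C :=
    Groth.Agent.S0539.result (Localization.AtPrime 𝔪) C
  have hDC : (algebraMap (Localization.AtPrime 𝔪) C).Flat :=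
    RingHom.flat_algebraMap_iff.mpr inferInstance
  have hPD : (algebraMap (A ⊗[k] B) (Localization.AtPrime 𝔪)).Flat :=
    RingHom.flat_algebraMap_iff.mpr (IsLocalization.flat _ 𝔪.primeCompl)
  have hAP : (Algebra.TensorProduct.includeLeft : A →ₐ[k] A ⊗[k] B).toRingHom.Flat := by
    have : (Algebra.TensorProduct.includeLeft : A →ₐ[k] A ⊗[k] B).toRingHom =
        algebraMap A (A ⊗[k] B) := by
      ext a
      simp [Algebra.TensorProduct.algebraMap_apply]
    rw [this]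
    exact RingHom.flat_algebraMap_iff.mpr inferInstance
  have hBP := flat_includeRight k A B
  have hιA := RingHom.Flat.comp (RingHom.Flat.comp hAP hPD) hDC
  have hιB := RingHom.Flat.comp (RingHom.Flat.comp hBP hPD) hDC
  open Groth.Agent.Lib.Helper10.TensorBranch in
  refine ⟨?_, ?_, ?_⟩
  · intro 𝔯 h𝔯
    exact ⟨mapsTo_minimalPrimes_of_flat _ hιA h𝔯, mapsTo_minimalPrimes_of_flat _ hιB h𝔯⟩
  · intro 𝔯₁ h₁ 𝔯₂ h₂ h12
    have key : ∀ 𝔯 ∈ minimalPrimes C, ∀ (𝔭 : Ideal A) (𝔮 : Ideal B),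
        𝔯.comap ((algebraMap (Localization.AtPrime 𝔪) C).comp
          ((algebraMap (A ⊗[k] B) (Localization.AtPrime 𝔪)).comp
            (Algebra.TensorProduct.includeLeft : A →ₐ[k] A ⊗[k] B).toRingHom)) = 𝔭 →
        𝔯.comap ((algebraMap (Localization.AtPrime 𝔪) C).comp
          ((algebraMap (A ⊗[k] B) (Localization.AtPrime 𝔪)).comp
            (Algebra.TensorProduct.includeRight : B →ₐ[k] A ⊗[k] B).toRingHom)) = 𝔮 →
        𝔯 = pairIdeal C 𝔪 𝔭 𝔮 := by
      intro 𝔯 h𝔯 𝔭 𝔮 hp hq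
      haveI : 𝔯.IsPrime := h𝔯.1.1
      haveI : 𝔭.IsPrime := hp ▸ Ideal.IsPrime.comap _
      haveI : 𝔮.IsPrime := hq ▸ Ideal.IsPrime.comap _
      obtain ⟨hJ, -, -⟩ := pairIdeal_spec (C := C) hA hB 𝔪 h𝔪 𝔭 𝔮
      have hle : pairIdeal C 𝔪 𝔭 𝔮 ≤ 𝔯 := (pairIdeal_le_iff 𝔪 𝔭 𝔮 𝔯).mpr ⟨hp.ge, hq.ge⟩
      exact le_antisymm (h𝔯.2 ⟨hJ, bot_le⟩ hle) hle
    have e1 := key 𝔯₁ h₁ _ _ rfl rfl
    have e2 := key 𝔯₂ h₂ _ _ (congrArg Prod.fst h12).symm (congrArg Prod.snd h12).symm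
    exact e1.trans e2.symm
  · rintro ⟨𝔭, 𝔮⟩ ⟨hp, hq⟩
    haveI : 𝔭.IsPrime := hp.1.1
    haveI : 𝔮.IsPrime := hq.1.1
    obtain ⟨hJ, hJA, hJB⟩ := pairIdeal_spec (C := C) hA hB 𝔪 h𝔪 𝔭 𝔮
    obtain ⟨𝔯, h𝔯, h𝔯J⟩ := Ideal.exists_minimalPrimes_le (bot_le : (⊥ : Ideal C) ≤ pairIdeal C 𝔪 𝔭 𝔮)
    haveI : 𝔯.IsPrime := h𝔯.1.1
    have h1 : 𝔭 ≤ 𝔯.comap ((algebraMap (Localization.AtPrime 𝔪) C).comp
          ((algebraMap (A ⊗[k] B) (Localization.AtPrime 𝔪)).comp
            (Algebra.TensorProduct.includeLeft : A →ₐ[k] A ⊗[k] B).toRingHom)) :=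
      hp.2 ⟨Ideal.IsPrime.comap _, bot_le⟩ (hJA ▸ Ideal.comap_mono h𝔯J)
    have h2 : 𝔮 ≤ 𝔯.comap ((algebraMap (Localization.AtPrime 𝔪) C).comp
          ((algebraMap (A ⊗[k] B) (Localization.AtPrime 𝔪)).comp
            (Algebra.TensorProduct.includeRight : B →ₐ[k] A ⊗[k] B).toRingHom)) :=
      hq.2 ⟨Ideal.IsPrime.comap _, bot_le⟩ (hJB ▸ Ideal.comap_mono h𝔯J)
    have hle : pairIdeal C 𝔪 𝔭 𝔮 ≤ 𝔯 := (pairIdeal_le_iff 𝔪 𝔭 𝔮 𝔯).mpr ⟨h1, h2⟩
    have heq : 𝔯 = pairIdeal C 𝔪 𝔭 𝔮 := le_antisymm h𝔯J hle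
    refine ⟨pairIdeal C 𝔪 𝔭 𝔮, heq ▸ h𝔯, ?_⟩
    exact Prod.ext hJA hJB

end Groth.Agent.S9327
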