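import Groth.Statements.S9335
import Groth.Agent.Lib.Helper47.FibrePoints

set_option autoImplicit false
universe u
open QFin

namespace Groth.Agent.S9335

open AlgebraicGeometry CategoryTheory in
/-- If f : X → S is of finite type and s ∈ S, then f is quasi-finite at only finitely many points of the
fibre over s. -/
theorem result {X S : Scheme.{u}} (f : X ⟶ S) [LocallyOfFiniteType f] [QuasiCompact f] (s : S) :
    {x : ↑X | f.base x = s ∧ f.QuasiFiniteAt x}.Finite :=
  Groth.Agent.Lib.Helper47.finite_setOf_quasiFiniteAt f s

end Groth.Agent.S9335
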