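import Groth.Statements.S9338
import Groth.Agent.Lib.Helper47.NilpotentFiniteType
import Mathlib.AlgebraicGeometry.Morphisms.FiniteType
import Mathlib.AlgebraicGeometry.Morphisms.ClosedImmersion

set_option autoImplicit false
universe u
open FtPts

namespace Groth.Agent.S9338

open AlgebraicGeometry CategoryTheory in
/-- For an Artinian local ring A with residue field κ, a morphism f : Spec A → S is (locally) of finite
type exactly when the composite Spec κ → Spec A → S is. -/
theorem result (S : Scheme.{u}) (A : Type u) [CommRing A] [IsArtinianRing A] [IsLocalRing A]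
    (f : Spec (CommRingCat.of A) ⟶ S) :
    LocallyOfFiniteType f ↔
      LocallyOfFiniteType (Spec.map (CommRingCat.ofHom (IsLocalRing.residue A)) ≫ f) := by
  have hres : IsClosedImmersion (Spec.map (CommRingCat.ofHom (IsLocalRing.residue A))) :=
    IsClosedImmersion.spec_of_surjective _ IsLocalRing.residue_surjective
  constructor
  · intro h
    infer_instance
  · intro h
    set pt : Spec (CommRingCat.of A) := IsLocalRing.closedPoint A with hpt
    obtain ⟨_, ⟨U₀, hU₀, rfl⟩, huU₀, -⟩ :=
      S.isBasis_affineOpens.exists_subset_of_mem_open (Set.mem_univ (f pt)) isOpen_univ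
    obtain ⟨U, hU, huU⟩ : ∃ U : S.Opens, IsAffineOpen U ∧ f pt ∈ U := ⟨U₀, hU₀, huU₀⟩
    clear huU₀ hU₀ U₀
    have hrange : Set.range f ⊆ Set.range hU.fromSpec := by
      rw [hU.range_fromSpec]
      rintro _ ⟨a, rfl⟩
      have hspec : a ⤳ pt := IsLocalRing.specializes_closedPoint (R := A) a
      exact (hspec.map f.continuous).mem_open U.isOpen huU
    let f' : Spec (CommRingCat.of A) ⟶ Spec Γ(S, U) := IsOpenImmersion.lift hU.fromSpec f hrange
    have hfac : f' ≫ hU.fromSpec = f := IsOpenImmersion.lift_fac _ _ _
    obtain ⟨φ, hφ⟩ := Spec.map_surjective f'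
    rw [← hfac, ← Category.assoc] at h
    have h1 : LocallyOfFiniteType (Spec.map (CommRingCat.ofHom (IsLocalRing.residue A)) ≫ f') :=
      locallyOfFiniteType_of_comp _ hU.fromSpec
    rw [← hφ, ← Spec.map_comp, HasRingHomProperty.Spec_iff (P := @LocallyOfFiniteType)] at h1
    have h2 : φ.hom.FiniteType := RingHom.FiniteType.of_comp_residue φ.hom h1
    have h3 : LocallyOfFiniteType f' := by
      rw [← hφ, HasRingHomProperty.Spec_iff (P := @LocallyOfFiniteType)]
      exact h2
    rw [← hfac]
    infer_instance

end Groth.Agent.S9338
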