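import Groth.Statements.S9344
import Mathlib.AlgebraicGeometry.PullbackCarrier
-- import your own Groth.Agent.* helpers here

set_option autoImplicit false
universe u
open Dom

namespace Groth.Agent.S9344

open AlgebraicGeometry CategoryTheory in
/-- The base change of a dominant morphism f : X → S along an open morphism g : S' → S is dominant. -/
theorem result {X S X' S' : Scheme.{u}} (f : X ⟶ S) [IsDominant f]
    (g : S' ⟶ S) (g' : X' ⟶ X) (f' : X' ⟶ S') (hsq : IsPullback g' f' f g) (hg : IsOpenMap g.base) :
    IsDominant f' := by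
  refine ⟨dense_iff_inter_open.mpr fun V hV hVne => ?_⟩
  have hgV : IsOpen (g.base '' V) := hg V hV
  have hne : (g.base '' V).Nonempty := hVne.image _
  obtain ⟨_, ⟨s', hs'V, rfl⟩, ⟨x, hx⟩⟩ := f.denseRange.inter_open_nonempty _ hgV hne
  obtain ⟨p, -, hp⟩ := Scheme.exists_preimage_of_isPullback hsq x s' hx
  exact ⟨s', hs'V, p, hp⟩

end Groth.Agent.S9344
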