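import Groth.Statements.S9345
import Mathlib

set_option autoImplicit false
universe u
open Dom

namespace Groth.Agent.S9345

open AlgebraicGeometry CategoryTheory in
/-- For a morphism f : X → S whose source has only finitely many irreducible components, the image of f
is dense exactly when it contains the generic point of each irreducible component of S, and then S
too has finitely many. -/
theorem result {X S : Scheme.{u}} (f : X ⟶ S)
    (hX : (irreducibleComponents (↑X : Type u)).Finite) :
    (IsDominant f ↔ ∀ s : ↑S, closure {s} ∈ irreducibleComponents (↑S : Type u) → s ∈ Set.range f.base) ∧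
      (IsDominant f → (irreducibleComponents (↑S : Type u)).Finite) := by
  classical
  -- generic points of irreducible components of X
  have hgen : ∀ Z : Set X, Z ∈ irreducibleComponents X → ∃ ξ : X, closure {ξ} = Z := by
    intro Z hZ
    obtain ⟨ξ, hξ⟩ := QuasiSober.sober hZ.1 (isClosed_of_mem_irreducibleComponents Z hZ)
    exact ⟨ξ, hξ⟩
  choose gp hgp using hgen
  -- the finite family T
  let T : Finset (Set S) := hX.toFinset.attach.image
    (fun Z => closure {f (gp Z.1 (hX.mem_toFinset.mp Z.2))})
  have hTcl : ∀ t ∈ T, IsClosed t := by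
    intro t ht
    simp only [T, Finset.mem_image] at ht
    obtain ⟨Z, -, rfl⟩ := ht
    exact isClosed_closure
  have hTirr : ∀ t ∈ T, ∃ x : X, t = closure {f x} := by
    intro t ht
    simp only [T, Finset.mem_image] at ht
    obtain ⟨Z, -, rfl⟩ := ht
    exact ⟨_, rfl⟩
  have hrange : Set.range f ⊆ ⋃₀ (T : Set (Set S)) := by
    rintro _ ⟨x, rfl⟩
    have hZ := irreducibleComponent_mem_irreducibleComponents x
    refine ⟨closure {f (gp (irreducibleComponent x) hZ)}, ?_, ?_⟩
    · simp only [T, Finset.coe_image, Set.mem_image]
      exact ⟨⟨_, hX.mem_toFinset.mpr hZ⟩, by simp, rfl⟩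
    · have hx : x ∈ closure {gp (irreducibleComponent x) hZ} := by
        rw [hgp _ hZ]; exact mem_irreducibleComponent
      have : gp (irreducibleComponent x) hZ ⤳ x := specializes_iff_mem_closure.mpr hx
      exact specializes_iff_mem_closure.mp (this.map f.continuous)
  have hUcl : IsClosed (⋃₀ (T : Set (Set S))) := by
    rw [Set.sUnion_eq_biUnion]
    exact T.finite_toSet.isClosed_biUnion (fun t ht => hTcl t ht)
  -- consequence of dominance
  have hdom : IsDominant f → ⋃₀ (T : Set (Set S)) = Set.univ := by
    intro hf
    have := hf.denseRange.closure_range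
    rw [← Set.univ_subset_iff, ← this]
    exact hUcl.closure_subset_iff.mpr hrange
  refine ⟨⟨fun hf s hs => ?_, fun h => ?_⟩, fun hf => ?_⟩
  · obtain ⟨t, ht, hst⟩ := (isIrreducible_iff_sUnion_isClosed.mp hs.1) T hTcl
      (by rw [hdom hf]; exact Set.subset_univ _)
    obtain ⟨x, rfl⟩ := hTirr t ht
    have h2 : closure {f x} ⊆ closure {s} := hs.2 isIrreducible_singleton.closure hst
    have : Inseparable (f x) s := by
      rw [inseparable_iff_closure_eq]
      exact le_antisymm h2 hst
    exact ⟨x, this.eq⟩
  · constructor
    rw [DenseRange, dense_iff_closure_eq, Set.eq_univ_iff_forall]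
    intro y
    have hZ := irreducibleComponent_mem_irreducibleComponents y
    obtain ⟨s, hs⟩ := QuasiSober.sober hZ.1 (isClosed_of_mem_irreducibleComponents _ hZ)
    have hs' : closure {s} = irreducibleComponent y := hs
    have hsr : s ∈ Set.range f := h s (by rw [hs']; exact hZ)
    have : closure {s} ⊆ closure (Set.range f) := closure_mono (Set.singleton_subset_iff.mpr hsr)
    apply this
    rw [hs']; exact mem_irreducibleComponent
  · apply T.finite_toSet.subset
    intro Z hZ
    obtain ⟨t, ht, hst⟩ := (isIrreducible_iff_sUnion_isClosed.mp hZ.1) T hTcl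
      (by rw [hdom hf]; exact Set.subset_univ _)
    obtain ⟨x, rfl⟩ := hTirr t ht
    have h2 : closure {f x} ⊆ Z := hZ.2 isIrreducible_singleton.closure hst
    have : Z = closure {f x} := le_antisymm hst h2
    rw [this]; exact ht

end Groth.Agent.S9345
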