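import Groth.Statements.S9346
import Mathlib

set_option autoImplicit false
universe u
open Dom

namespace Groth.Agent.S9346

open AlgebraicGeometry CategoryTheory in
/-- For a morphism f : X → Y between integral schemes, these six conditions coincide: (1) f is dominant;
(2) f sends the generic point of X to that of Y; (3) there exist affine opens U ⊆ X, V ⊆ Y with U
nonempty and U ⊆ f⁻¹V such that the induced ring map on sections is injective; (4) the same for all
such pairs; (5) for some x ∈ X the map of local rings O_{Y,f x} → O_{X,x} is injective; (6) the same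
for all x. -/
theorem result {X Y : Scheme.{u}} [AlgebraicGeometry.IsIntegral X] [AlgebraicGeometry.IsIntegral Y] (f : X ⟶ Y) :
    [IsDominant f,
      f.base (genericPoint ↑X) = genericPoint ↑Y,
      ∃ (U : X.Opens) (V : Y.Opens) (hUV : U ≤ f ⁻¹ᵁ V), IsAffineOpen U ∧ IsAffineOpen V ∧ (U : Set ↑X).Nonempty ∧
        Function.Injective (f.appLE V U hUV),
      ∀ (U : X.Opens) (V : Y.Opens) (hUV : U ≤ f ⁻¹ᵁ V), IsAffineOpen U → IsAffineOpen V → (U : Set ↑X).Nonempty →
        Function.Injective (f.appLE V U hUV),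
      ∃ x : ↑X, Function.Injective (f.stalkMap x),
      ∀ x : ↑X, Function.Injective (f.stalkMap x)].TFAE := by
  classical
  have hcoe : ∀ {A B C : CommRingCat.{u}} (p : A ⟶ B) (q : B ⟶ C),
      (⇑(ConcreteCategory.hom (p ≫ q)) : A → C) =
        ⇑(ConcreteCategory.hom q) ∘ ⇑(ConcreteCategory.hom p) := by
    intro A B C p q
    ext a
    simp
  -- stalk specialization maps are injective on an integral scheme
  have hspec_inj : ∀ (y y' : Y) (h : y' ⤳ y),
      Function.Injective (Y.presheaf.stalkSpecializes h) := by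
    intro y y' h
    have h' : genericPoint Y ⤳ y' := (genericPoint_spec Y).specializes trivial
    have hcomp := Y.presheaf.stalkSpecializes_comp h' h
    have hinj : Function.Injective (Y.presheaf.stalkSpecializes (h'.trans h)) :=
      IsFractionRing.injective (Y.presheaf.stalk y) Y.functionField
    rw [← hcomp] at hinj
    exact Function.Injective.of_comp hinj
  -- key lemma: injectivity of a stalk map gives injectivity on sections
  have L : ∀ (x : X), Function.Injective (f.stalkMap x) → ∀ (U : X.Opens) (V : Y.Opens)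
      (hUV : U ≤ f ⁻¹ᵁ V), x ∈ U → Function.Injective (f.appLE V U hUV) := by
    intro x hx U V hUV hxU
    have hfxV : f x ∈ V := hUV hxU
    have key : f.appLE V U hUV ≫ X.presheaf.germ U x hxU =
        Y.presheaf.germ V (f x) hfxV ≫ f.stalkMap x := by
      rw [Scheme.Hom.germ_stalkMap, Scheme.Hom.appLE, Category.assoc, X.presheaf.germ_res']
    have hinj : Function.Injective (Y.presheaf.germ V (f x) hfxV ≫ f.stalkMap x) := by
      rw [hcoe]
      exact hx.comp (germ_injective_of_isIntegral Y (f x) hfxV)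
    rw [← key, hcoe] at hinj
    exact Function.Injective.of_comp hinj
  -- existence of affine neighbourhoods
  have hAff : ∀ x : X, ∃ (U : X.Opens) (V : Y.Opens) (hUV : U ≤ f ⁻¹ᵁ V),
      IsAffineOpen U ∧ IsAffineOpen V ∧ x ∈ U := by
    intro x
    obtain ⟨_, ⟨V, hV, rfl⟩, hxV, -⟩ :=
      Y.isBasis_affineOpens.exists_subset_of_mem_open (Set.mem_univ (f x)) isOpen_univ
    obtain ⟨_, ⟨U, hU, rfl⟩, hxU, hUV⟩ :=
      X.isBasis_affineOpens.exists_subset_of_mem_open (show x ∈ (f ⁻¹ᵁ V : X.Opens) from hxV)
        (f ⁻¹ᵁ V).2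
    exact ⟨U, V, hUV, hU, hV, hxU⟩
  tfae_have 1 → 2 := by
    intro hf
    have hcl : closure {f (genericPoint X)} = Set.univ := by
      rw [← Set.univ_subset_iff, ← hf.denseRange.closure_range]
      apply closure_minimal _ isClosed_closure
      rintro _ ⟨x, rfl⟩
      have : genericPoint X ⤳ x := (genericPoint_spec X).specializes trivial
      exact specializes_iff_mem_closure.mp (this.map f.continuous)
    exact IsGenericPoint.eq hcl (genericPoint_spec Y)
  tfae_have 2 → 6 := by
    intro h2 x
    have hsp : genericPoint X ⤳ x := (genericPoint_spec X).specializes trivial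
    have hsq := f.stalkSpecializes_stalkMap _ _ hsp
    have hfield : IsField (Y.presheaf.stalk (f (genericPoint X))) := by
      have : f (genericPoint X) = genericPoint Y := h2
      rw [this]
      exact Field.toIsField Y.functionField
    letI := hfield.toField
    have h1 : Function.Injective (f.stalkMap (genericPoint X)) :=
      (f.stalkMap (genericPoint X)).hom.injective
    have h3 : Function.Injective
        (Y.presheaf.stalkSpecializes (hsp.map f.continuous) ≫ f.stalkMap (genericPoint X)) := by
      rw [hcoe]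
      exact h1.comp (hspec_inj _ _ _)
    rw [hsq, hcoe] at h3
    exact Function.Injective.of_comp h3
  tfae_have 6 → 5 := fun h => ⟨genericPoint X, h _⟩
  tfae_have 5 → 3 := by
    rintro ⟨x, hx⟩
    obtain ⟨U, V, hUV, hU, hV, hxU⟩ := hAff x
    exact ⟨U, V, hUV, hU, hV, ⟨x, hxU⟩, L x hx U V hUV hxU⟩
  tfae_have 6 → 4 := by
    intro h U V hUV _ _ hne
    obtain ⟨x, hxU⟩ := hne
    exact L x (h x) U V hUV hxU
  tfae_have 4 → 3 := by
    intro h
    obtain ⟨U, V, hUV, hU, hV, hxU⟩ := hAff (genericPoint X)
    exact ⟨U, V, hUV, hU, hV, ⟨_, hxU⟩, h U V hUV hU hV ⟨_, hxU⟩⟩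
  tfae_have 3 → 1 := by
    rintro ⟨U, V, hUV, hU, hV, ⟨x₀, hx₀⟩, hinj⟩
    constructor
    rw [DenseRange, dense_iff_inter_open]
    intro W hW hWne
    have hVne : (V : Set Y).Nonempty := ⟨f x₀, hUV hx₀⟩
    obtain ⟨y, hyW, hyV⟩ := nonempty_preirreducible_inter hW V.2 hWne hVne
    obtain ⟨s, hsW, hys⟩ := hV.exists_basicOpen_le (V := ⟨W, hW⟩) ⟨y, hyW⟩ hyV
    have hs0 : s ≠ 0 := by
      rintro rfl
      rw [Scheme.basicOpen_zero] at hys
      exact hys
    have hφs : f.appLE V U hUV s ≠ 0 := by
      intro h0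
      exact hs0 (hinj (h0.trans (map_zero _).symm))
    have hne : X.basicOpen (f.appLE V U hUV s) ≠ ⊥ := by
      rw [Ne, AlgebraicGeometry.basicOpen_eq_bot_iff]
      exact hφs
    obtain ⟨x, hx⟩ : ∃ x, x ∈ X.basicOpen (f.appLE V U hUV s) := by
      by_contra hcon
      exact hne (eq_bot_iff.mpr fun x hx => (hcon ⟨x, hx⟩).elim)
    rw [Scheme.basicOpen_appLE] at hx
    exact ⟨f x, hsW hx.2, x, rfl⟩
  tfae_finish

end Groth.Agent.S9346
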