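import Groth.Statements.S9348
import Mathlib
import Groth.Agent.Lib.Helper48.Pullback

set_option autoImplicit false
universe u
open Dom

namespace Groth.Agent.S9348

open AlgebraicGeometry CategoryTheory in
/-- Let f : X → Y be a morphism and g : Y' → Y open and surjective. If the base change f' : X ×_Y Y' →
Y' of f is quasi-compact, then so is f. -/
theorem result {X Y X' Y' : Scheme.{u}} (f : X ⟶ Y) (g : Y' ⟶ Y) [Surjective g]
    (hg : IsOpenMap g.base) (g' : X' ⟶ X) (f' : X' ⟶ Y') (hsq : IsPullback g' f' f g) [QuasiCompact f'] :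
    QuasiCompact f := by
  constructor
  intro U hU hUc
  -- cover g⁻¹(U) by compact opens
  have hbasis := Y'.isBasis_affineOpens
  -- for each y ∈ U choose an affine open W_y ∋ some preimage, contained in g⁻¹ U
  have hcov : ∀ y ∈ U, ∃ W : Y'.Opens, IsCompact (W : Set Y') ∧ (W : Set Y') ⊆ g ⁻¹' U ∧
      y ∈ g '' (W : Set Y') := by
    intro y hy
    obtain ⟨y', rfl⟩ := g.surjective y
    obtain ⟨_, ⟨W, hW, rfl⟩, hyW, hWU⟩ :=
      hbasis.exists_subset_of_mem_open (show y' ∈ g ⁻¹' U from hy) (hU.preimage g.continuous)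
    exact ⟨W, hW.isCompact, hWU, ⟨y', hyW, rfl⟩⟩
  choose W hWc hWU hyW using hcov
  obtain ⟨t, ht⟩ := hUc.elim_finite_subcover (fun y : U => g '' (W y.1 y.2 : Set Y'))
    (fun y => hg _ (W y.1 y.2).2) (fun y hy => Set.mem_iUnion.mpr ⟨⟨y, hy⟩, hyW y hy⟩)
  let V : Set Y' := ⋃ y ∈ t, (W y.1 y.2 : Set Y')
  have hVc : IsCompact V := t.finite_toSet.isCompact_biUnion (fun y _ => hWc y.1 y.2)
  have hVo : IsOpen V := isOpen_biUnion (fun y _ => (W y.1 y.2).2)
  have hVU : V ⊆ g ⁻¹' U := Set.iUnion₂_subset (fun y _ => hWU y.1 y.2)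
  have hgV : U ⊆ g '' V := by
    intro y hy
    obtain ⟨i, hi, hyi⟩ := Set.mem_iUnion₂.mp (ht hy)
    obtain ⟨w, hw, rfl⟩ := hyi
    exact ⟨w, Set.mem_iUnion₂.mpr ⟨i, hi, hw⟩, rfl⟩
  have hcomp : IsCompact (f' ⁻¹' V) := QuasiCompact.isCompact_preimage (f := f') V hVo hVc
  have himg : g' '' (f' ⁻¹' V) = f ⁻¹' U := by
    ext x
    constructor
    · rintro ⟨z, hz, rfl⟩
      show f (g' z) ∈ U
      have : f (g' z) = g (f' z) := by
        rw [← Scheme.Hom.comp_apply, ← Scheme.Hom.comp_apply, hsq.w]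
      rw [this]
      exact hVU hz
    · intro hx
      obtain ⟨w, hw, hwx⟩ := hgV hx
      obtain ⟨z, hz1, hz2⟩ := Groth.Agent.Lib.Helper48.isPullback_exists_preimage hsq x w hwx.symm
      exact ⟨z, by show f' z ∈ V; rw [hz2]; exact hw, hz1⟩
  rw [← himg]
  exact hcomp.image g'.continuous

end Groth.Agent.S9348
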