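import Groth.Statements.S9351
import Mathlib
import Groth.Agent.Lib.Helper61.FlatClosed

set_option autoImplicit false
universe u
open FlatMod

namespace Groth.Agent.S9351

open AlgebraicGeometry CategoryTheory in
/-- On a scheme X, taking supports is a bijection from the closed subschemes Z ⊆ X with Z → X flat
(indexed by their quasi-coherent ideal sheaves) onto the closed subsets of X stable under
generalization; and any morphism g : Y → X with image inside such a Z factors through Z. -/
theorem result (X : Scheme.{u}) :
    Set.BijOn (fun I : X.IdealSheafData => I.support) {I : X.IdealSheafData | Flat I.subschemeι}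
        {Z : TopologicalSpace.Closeds ↑X | StableUnderGeneralization (Z : Set ↑X)} ∧
      ∀ I : X.IdealSheafData, Flat I.subschemeι → ∀ (Y : Scheme.{u}) (g : Y ⟶ X),
        Set.range g.base ⊆ (I.support : Set ↑X) → ∃ g' : Y ⟶ I.subscheme, g' ≫ I.subschemeι = g := by
  refine ⟨⟨?_, ?_, ?_⟩, ?_⟩
  · intro I hI
    have : Flat I.subschemeι := hI
    change StableUnderGeneralization (I.support : Set ↑X)
    rw [← I.range_subschemeι]
    exact (Flat.generalizingMap I.subschemeι).stableUnderGeneralization_range
  · intro I hI J hJ h
    have : Flat I.subschemeι := hI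
    have : Flat J.subschemeι := hJ
    exact Groth.Agent.Lib.Helper61.FlatClosed.eq_of_flat_of_support_eq I J h
  · intro Z hZ
    refine ⟨Groth.Agent.Lib.Helper61.FlatClosed.idealSheaf (Z : Set ↑X) Z.isClosed hZ,
      Groth.Agent.Lib.Helper61.FlatClosed.flat_idealSheaf _ _ _, ?_⟩
    exact TopologicalSpace.Closeds.ext
      (Groth.Agent.Lib.Helper61.FlatClosed.coe_support_idealSheaf _ _ _)
  · intro I hI Y g hg
    have : Flat I.subschemeι := hI
    exact Groth.Agent.Lib.Helper61.FlatClosed.exists_lift_of_flat I g hg

end Groth.Agent.S9351
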