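import Groth.Statements.S9352
import Groth.Agent.Lib.Helper73.FinFlatLocFree

set_option autoImplicit false
universe u
open FlatMod

namespace Groth.Agent.S9352

open AlgebraicGeometry CategoryTheory in
/-- For a scheme X, every finite type flat quasi-coherent O_X-module is finite locally free if and only
if every closed subset of X that is stable under generalization is open. -/
theorem result (X : Scheme.{u}) :
    (∀ F : X.Modules, Coh.IsQCoh F → CohB1.IsFT F → FlatMod.IsFlat F → FlatMod.IsFinLocFree F) ↔
      ∀ Z : Set ↑X, IsClosed Z → StableUnderGeneralization Z → IsOpen Z := by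
  constructor
  · intro H Z hZ hgen
    exact Groth.Agent.Lib.Helper73.FinFlatLocFree.isOpen_of_forall_isFinLocFree H Z hZ hgen
  · intro H F hq hft hfl
    exact Groth.Agent.Lib.Helper73.FinFlatLocFree.isFinLocFree_of_forall_isOpen H F ⟨hq, hft⟩ hfl

end Groth.Agent.S9352
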