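import Groth.Statements.S9356
-- import your own Groth.Agent.* helpers here
import Groth.Agent.S4442

set_option autoImplicit false
universe u
open FibDim

namespace Groth.Agent.S9356

/-- Local dimension is monotone along specializations. -/
theorem localDim_le_of_specializes {X : Type*} [TopologicalSpace X] {x x' : X} (h : x ⤳ x') :
    FlatMor.localDim X x ≤ FlatMor.localDim X x' := by
  refine le_iInf fun U => ?_
  exact iInf_le (fun U : {U : TopologicalSpace.Opens X // x ∈ U} =>
    topologicalKrullDim (U.1 : Set X)) ⟨U.1, h.mem_open U.1.2 U.2⟩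

open AlgebraicGeometry in
/-- In a locally Noetherian scheme, a nontrivial specialization strictly increases the dimension of
the local ring. -/
theorem ringKrullDim_stalk_lt_of_specializes {X : Scheme.{u}} [IsLocallyNoetherian X] {x x' : X}
    (h : x ⤳ x') (hne : x ≠ x') :
    ringKrullDim (X.presheaf.stalk x) < ringKrullDim (X.presheaf.stalk x') := by
  obtain ⟨U, hU, hx'U, -⟩ := exists_isAffineOpen_mem_and_subset (x := x') (U := ⊤) trivial
  have hxU : x ∈ U := h.mem_open U.2 hx'U
  rw [Groth.Agent.S4442.ringKrullDim_stalk_eq_height X hU x hxU,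
    Groth.Agent.S4442.ringKrullDim_stalk_eq_height X hU x' hx'U]
  have hn : IsNoetherianRing Γ(X, U) := IsLocallyNoetherian.component_noetherian ⟨U, hU⟩
  have hle : hU.primeIdealOf ⟨x, hxU⟩ ≤ hU.primeIdealOf ⟨x', hx'U⟩ :=
    (Groth.Agent.S4442.primeIdealOf_le_iff X hU x x' hxU hx'U).mpr h
  have hne' : hU.primeIdealOf ⟨x, hxU⟩ ≠ hU.primeIdealOf ⟨x', hx'U⟩ := fun he =>
    hne (Groth.Agent.S4442.primeIdealOf_injective X hU x x' hxU hx'U he)
  have hlt : (hU.primeIdealOf ⟨x, hxU⟩).asIdeal < (hU.primeIdealOf ⟨x', hx'U⟩).asIdeal :=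
    lt_of_le_of_ne hle (fun he => hne' (PrimeSpectrum.ext he))
  have hp : (hU.primeIdealOf ⟨x, hxU⟩).asIdeal.IsPrime := (hU.primeIdealOf ⟨x, hxU⟩).2
  have := Ideal.height_strict_mono_of_isPrime hlt
  exact_mod_cast this

open AlgebraicGeometry CategoryTheory in
/-- Let f : X → S be locally of finite type and x ⤳ x' a nontrivial specialization of points of the
fibre X_s. Then dim_x(X_s) ≤ dim_{x'}(X_s) and dim O_{X_s,x} < dim O_{X_s,x'}. (The assertion on
transcendence degrees of residue fields is a separate statement.) -/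
theorem result {X S : Scheme.{u}} (f : X ⟶ S) [LocallyOfFiniteType f] (s : S)
    (x x' : ↑(f.fiber s)) (hsp : x ⤳ x') (hne : x ≠ x') :
    FlatMor.localDim ↑(f.fiber s) x ≤ FlatMor.localDim ↑(f.fiber s) x' ∧
      ringKrullDim ((f.fiber s).presheaf.stalk x) < ringKrullDim ((f.fiber s).presheaf.stalk x') := by
  have hlft : LocallyOfFiniteType (f.fiberToSpecResidueField s) :=
    MorphismProperty.pullback_snd (P := @LocallyOfFiniteType) _ _ ‹_›
  have hn : IsLocallyNoetherian (f.fiber s) :=
    LocallyOfFiniteType.isLocallyNoetherian (f.fiberToSpecResidueField s)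
  exact ⟨localDim_le_of_specializes hsp, ringKrullDim_stalk_lt_of_specializes hsp hne⟩

end Groth.Agent.S9356
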