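import Groth.Statements.S9360
import Mathlib

set_option autoImplicit false
universe u
open SchDense

namespace Groth.Agent.S9360

open AlgebraicGeometry CategoryTheory in
/-- Let U ⊆ X be a reduced open subscheme. Then the scheme-theoretic closure of U in X is X if and only
if U is scheme-theoretically dense in X (for every open W the scheme-theoretic closure of U ∩ W in W
is W); and in that case X is reduced. -/
theorem result (X : Scheme.{u}) (U : X.Opens) [IsReduced (↑U : Scheme.{u})] :
    (IsSchemeTheoreticallyDominant U.ι ↔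
        ∀ W : X.Opens, IsSchemeTheoreticallyDominant (X.homOfLE (inf_le_right : U ⊓ W ≤ W))) ∧
      (IsSchemeTheoreticallyDominant U.ι → IsReduced X) := by
  classical
  -- the closure of `U`
  let Z : TopologicalSpace.Closeds X := ⟨closure (U : Set X), isClosed_closure⟩
  -- Key: the vanishing ideal of the closure of `U` is contained in the kernel of `U.ι`
  have hK : Scheme.IdealSheafData.vanishingIdeal Z ≤ U.ι.ker := by
    refine Scheme.IdealSheafData.le_ofIdeals_iff.mpr fun V s hs => ?_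
    rw [RingHom.mem_ker]
    rw [Scheme.IdealSheafData.vanishingIdeal_ideal, PrimeSpectrum.mem_vanishingIdeal] at hs
    apply (basicOpen_eq_bot_iff (X := (↑U : Scheme.{u})) _).mp
    rw [eq_bot_iff]
    intro u hu
    rw [← Scheme.Hom.preimage_basicOpen] at hu
    have hxs : U.ι u ∈ X.basicOpen s := hu
    have hxV : U.ι u ∈ V.1 := X.basicOpen_le s hxs
    have hxZ : U.ι u ∈ (Z : Set X) := subset_closure (show (U.ι u) ∈ (U : Set X) from u.2)
    have hmem := hs (V.2.primeIdealOf ⟨U.ι u, hxV⟩) (by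
      show V.2.fromSpec _ ∈ (Z : Set X)
      rw [V.2.fromSpec_primeIdealOf]; exact hxZ)
    have hnot : V.2.primeIdealOf ⟨U.ι u, hxV⟩ ∈ PrimeSpectrum.basicOpen s := by
      rw [← V.2.fromSpec_preimage_basicOpen]
      show V.2.fromSpec _ ∈ X.basicOpen s
      rw [V.2.fromSpec_primeIdealOf]; exact hxs
    exact (hnot hmem).elim
  -- consequences of `ker U.ι = ⊥`
  have hcons : IsSchemeTheoreticallyDominant U.ι → IsReduced X ∧ Dense (U : Set X) := by
    intro hU
    have hbot : Scheme.IdealSheafData.vanishingIdeal Z = ⊥ := by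
      rw [eq_bot_iff, ← hU.ker_eq_bot]; exact hK
    constructor
    · have hnil : X.nilradical = ⊥ := by
        rw [eq_bot_iff, ← hbot, ← Scheme.IdealSheafData.vanishingIdeal_top]
        exact Scheme.IdealSheafData.vanishingIdeal_antimono le_top
      have haff : ∀ V : X.affineOpens, _root_.IsReduced Γ(X, V.1) := by
        intro V
        have h1 : (X.nilradical).ideal V = ⊥ := by rw [hnil]; rfl
        have h2 : nilradical Γ(X, V.1) = ⊥ := h1
        exact nilradical_eq_bot_iff.mp h2
      refine ⟨fun O => ⟨fun s hs => ?_⟩⟩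
      refine X.IsSheaf.section_ext fun x hx ↦ ?_
      obtain ⟨_, ⟨V, hV, rfl⟩, hxV, hVO : V ≤ O⟩ :=
        X.isBasis_affineOpens.exists_subset_of_mem_open hx O.isOpen
      refine ⟨V, hVO, hxV, ?_⟩
      have := haff ⟨V, hV⟩
      rw [map_zero]
      exact (hs.map _).eq_zero
    · rw [dense_iff_closure_eq]
      have h1 : (Scheme.IdealSheafData.vanishingIdeal Z).support = Z := by
        ext1; exact Scheme.IdealSheafData.coe_support_vanishingIdeal Z
      rw [hbot, Scheme.IdealSheafData.support_bot] at h1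
      exact (congrArg (fun C : TopologicalSpace.Closeds X => (C : Set X)) h1).symm
  refine ⟨⟨fun hU W => ?_, fun h => ?_⟩, fun hU => (hcons hU).1⟩
  · obtain ⟨hred, hdense⟩ := hcons hU
    have : IsDominant (X.homOfLE (inf_le_right : U ⊓ W ≤ W)) := by
      constructor
      rw [DenseRange, dense_iff_inter_open]
      intro O hO hOne
      obtain ⟨w, hw⟩ := hOne
      -- the image of `O` in `X` is open and meets `U`
      have hO' : IsOpen (W.ι '' O) := W.ι.isOpenEmbedding.isOpenMap O hO
      obtain ⟨x, ⟨w', hw', rfl⟩, hxU⟩ := hdense.inter_open_nonempty _ hO' ⟨_, w, hw, rfl⟩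
      refine ⟨w', hw', ⟨⟨W.ι w', ⟨hxU, w'.2⟩⟩, ?_⟩⟩
      apply Subtype.ext
      rw [Scheme.homOfLE_apply]
      rfl
    exact IsSchemeTheoreticallyDominant.of_isDominant _
  · have hW := h ⊤
    have e : U.ι = X.homOfLE (le_inf le_rfl le_top : U ≤ U ⊓ ⊤) ≫
        X.homOfLE (inf_le_right : U ⊓ ⊤ ≤ ⊤) ≫ (⊤ : X.Opens).ι := by
      rw [Scheme.homOfLE_ι, Scheme.homOfLE_ι]
    have : IsIso (X.homOfLE (le_inf le_rfl le_top : U ≤ U ⊓ ⊤)) := by
      have h1 : X.homOfLE (le_inf le_rfl le_top : U ≤ U ⊓ ⊤) ≫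
          X.homOfLE (inf_le_left : U ⊓ ⊤ ≤ U) = 𝟙 _ := by
        rw [Scheme.homOfLE_homOfLE, Scheme.homOfLE_rfl]
      have h2 : X.homOfLE (inf_le_left : U ⊓ ⊤ ≤ U) ≫
          X.homOfLE (le_inf le_rfl le_top : U ≤ U ⊓ ⊤) = 𝟙 _ := by
        rw [Scheme.homOfLE_homOfLE, Scheme.homOfLE_rfl]
      exact ⟨_, h1, h2⟩
    rw [e]
    have h4 : IsIso (⊤ : X.Opens).ι := X.topIso.isIso_hom
    have h3 : IsSchemeTheoreticallyDominant
        (X.homOfLE (inf_le_right : U ⊓ ⊤ ≤ ⊤) ≫ (⊤ : X.Opens).ι) := inferInstance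
    infer_instance

end Groth.Agent.S9360
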