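import Groth.Statements.S9362
import Groth.Agent.Lib.Helper18.LSubImage

set_option autoImplicit false
universe u
open QCohSub

namespace Groth.Agent.S9362

open Groth.Agent.Lib.Helper18.LSubM Groth.Agent.Lib.Helper49

open AlgebraicGeometry CategoryTheory in
/-- Let F be a quasi-coherent O_X-module and G ⊆ F an O_X-submodule. There is a quasi-coherent submodule
G' ⊆ G such that Hom(H, G') → Hom(H, G) is bijective for every quasi-coherent O_X-module H; in
particular G' is the largest quasi-coherent submodule of F contained in G (it is unique up to unique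
isomorphism over G). -/
theorem result (X : Scheme.{u}) (F G : X.Modules) (hF : Coh.IsQCoh F) (j : G ⟶ F) [Mono j] :
    ∃ (G' : X.Modules) (k : G' ⟶ G), Coh.IsQCoh G' ∧ Mono k ∧
      ∀ H : X.Modules, Coh.IsQCoh H → Function.Bijective (fun φ : H ⟶ G' => φ ≫ k) := by
  classical
  have hFq : F.IsQuasicoherent := hF
  let LG : LSub F := LSub.ofImage j
  let I := {E : LSub F // E.toModules.IsQuasicoherent ∧ E ≤ LG}
  let f : I → X.Modules := fun E => E.1.toModules
  let g : (∐ f) ⟶ F := Limits.Sigma.desc (fun E : I => E.1.ι)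
  have hg : ∀ E : I, Limits.Sigma.ι f E ≫ g = E.1.ι := fun E => Limits.Sigma.ι_desc _ _
  have hq : (∐ f).IsQuasicoherent :=
    Groth.Agent.Lib.Helper49.isQuasicoherent_colimit (Discrete.functor f) (fun ⟨E⟩ => E.2.1)
  let G' : LSub F := LSub.ofImage g
  have hG'q : G'.toModules.IsQuasicoherent := LSub.ofImage_isQuasicoherent g
  -- `g` factors through `LG`
  have hfacE : ∀ E : I, ∃ φ : E.1.toModules ⟶ LG.toModules, φ ≫ LG.ι = E.1.ι := by
    intro E
    refine exists_factor E.1.ι LG.ι (fun W a y hy => ⟨W, le_rfl, hy,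
      LG.sec W _ (E.2.2 W (E.1.ι_app_mem W a)), ?_⟩)
    rw [LSub.ι_app_sec, mres_self]
  choose φE hφE using hfacE
  have hgfac : Limits.Sigma.desc φE ≫ LG.ι = g := by
    apply Limits.Sigma.hom_ext
    intro E
    rw [Limits.Sigma.ι_desc_assoc, hφE, hg]
  have hle : G' ≤ LG := by
    intro U t ht
    apply LG.isLocal
    intro x hx
    obtain ⟨D, hD, hxD, a, e⟩ := ht x hx
    refine ⟨D, hD, hxD, ?_⟩
    rw [← e, ← hgfac]
    exact LG.ι_app_mem D ((Limits.Sigma.desc φE).app D a)
  obtain ⟨k, hk⟩ := exists_factor G'.ι j (fun W a' y hy =>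
    hle W (G'.ι_app_mem W a') y hy)
  have hkmono : Mono k := by
    have : Mono (k ≫ j) := by rw [hk]; infer_instance
    exact mono_of_mono k j
  refine ⟨G'.toModules, k, hG'q, hkmono, fun H hH => ⟨fun φ φ' h => ?_, fun ψ => ?_⟩⟩
  · exact (cancel_mono k).mp h
  · have hHq : H.IsQuasicoherent := hH
    let Eψ : LSub F := LSub.ofImage (ψ ≫ j)
    have hEq : Eψ.toModules.IsQuasicoherent := LSub.ofImage_isQuasicoherent (ψ ≫ j)
    have hEle : Eψ ≤ LG := by
      intro U t ht x hx
      obtain ⟨D, hD, hxD, a, e⟩ := ht x hx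
      exact ⟨D, hD, hxD, ψ.app D a, e⟩
    let Ei : I := ⟨Eψ, hEq, hEle⟩
    have hEG' : Eψ ≤ G' := by
      intro U t ht
      have h1 : t = g.app U ((Limits.Sigma.ι f Ei).app U (Eψ.sec U t ht)) := by
        change t = (Limits.Sigma.ι f Ei ≫ g).app U (Eψ.sec U t ht)
        rw [hg Ei]
        rfl
      rw [h1]
      exact LSub.app_mem_ofImage g U _
    obtain ⟨φ, hφ⟩ := exists_factor (ψ ≫ j) G'.ι (fun W a y hy => ⟨W, le_rfl, hy,
      G'.sec W _ (hEG' W (LSub.app_mem_ofImage (ψ ≫ j) W a)), by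
        rw [LSub.ι_app_sec, mres_self]⟩)
    refine ⟨φ, ?_⟩
    change φ ≫ k = ψ
    rw [← cancel_mono j, Category.assoc, hk, hφ]

end Groth.Agent.S9362
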