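import Groth.Statements.S9366
import Groth.Agent.H46.GCIEquidim
import Groth.Agent.Lib.Helper55.LocalDimTop

set_option autoImplicit false
universe u
open Synt

namespace Groth.Agent.S9366

open AlgebraicGeometry CategoryTheory in
/-- For a relative global complete intersection R → A = R[x_1, …, x_n]/(F_1, …, F_c) and f : Spec A →
Spec R, the function x ↦ dim_x(X_{f x}) is constant with value n − c. -/
theorem result (R : Type u) [CommRing R] (n c : ℕ) (F : Fin c → MvPolynomial (Fin n) R)
    (hF : Synt.IsRelGCI R n c F) (x : ↑(Spec (CommRingCat.of (Synt.RelGCIRing R n c F)))) :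
    FlatMor.fibreDimAt (Spec.map (CommRingCat.ofHom (algebraMap R (Synt.RelGCIRing R n c F)))) x =
      ((n - c : ℕ) : WithBot ℕ∞) := by
  classical
  set A := Synt.RelGCIRing R n c F with hA
  set f := Spec.map (CommRingCat.ofHom (algebraMap R A)) with hf
  let p : PrimeSpectrum R := f.base x
  let iso := Spec.fiberToSpecResidueFieldIso R A p
  let e : f.fiber p ≅ Spec (CommRingCat.of (p.asIdeal.Fiber A)) := Arrow.leftFunc.mapIso iso
  have hemb : Topology.IsOpenEmbedding e.hom := e.hom.isOpenEmbedding
  have h1 := Groth.Agent.Lib.Helper55.localDim_eq_of_isOpenEmbedding _ hemb (f.asFiber x)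
  show FlatMor.localDim (f.fiber p) (f.asFiber x) = _
  rw [h1]
  have hnt : Nontrivial (p.asIdeal.Fiber A) :=
    PrimeSpectrum.nontrivial (show PrimeSpectrum (p.asIdeal.Fiber A) from e.hom (f.asFiber x))
  obtain ⟨hc, hdim⟩ := hF p hnt
  let Q : Algebra.Presentation p.asIdeal.ResidueField (p.asIdeal.Fiber A) (Fin n) (Fin c) :=
    (Algebra.Presentation.naive (v := F)).baseChange p.asIdeal.ResidueField
  exact Groth.Agent.H46.GCIEquidim.localDim_eq_of_presentation Q hc hdim _

end Groth.Agent.S9366
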