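import Groth.Statements.S9367
import Groth.Agent.S9364
import Groth.Agent.S9366
import Groth.Agent.H52.FibreDimChart
import Groth.Agent.H46.SyntLocalCM

set_option autoImplicit false
universe u
open Synt

namespace Groth.Agent.S9367

open AlgebraicGeometry CategoryTheory in
/-- If f : X → S is syntomic, then x ↦ dim_x(X_{f x}) is locally constant on X. -/
theorem result {X S : Scheme.{u}} (f : X ⟶ S) (hf : Synt.IsSyntomicMor f) :
    IsLocallyConstant (fun x : ↑X => FlatMor.fibreDimAt f x) := by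
  classical
  have hlfp : LocallyOfFinitePresentation f :=
    Groth.Agent.H46.SyntLocalCM.lfp_of_isSyntomicMor f hf
  have hlft : LocallyOfFiniteType f := inferInstance
  rw [IsLocallyConstant.iff_exists_open]
  intro x
  obtain ⟨V, hV, hxV, -⟩ := exists_isAffineOpen_mem_and_subset (x := f.base x) (U := ⊤) trivial
  obtain ⟨U, e, hxU, R, _, n, c, F, hF, e₁, e₂, hcomm⟩ :=
    (Groth.Agent.S9364.result f x ⟨V, hV⟩ hxV).mp (hf x)
  have hφ : LocallyOfFiniteType
      (Spec.map (CommRingCat.ofHom (algebraMap R (RelGCIRing R n c F)))) := by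
    rw [HasRingHomProperty.Spec_iff (P := @LocallyOfFiniteType)]
    exact RingHom.finiteType_algebraMap.mpr inferInstance
  have key : ∀ y (hy : y ∈ U.1), FlatMor.fibreDimAt f y = ((n - c : ℕ) : WithBot ℕ∞) := by
    intro y hy
    have h1 := Groth.Agent.H52.fibreDimAt_eq_of_etale_square U.1.ι (Scheme.Opens.ι V)
      (f.resLE V U.1 e) f (Scheme.Hom.resLE_comp_ι f e).symm ⟨y, hy⟩
    have h2 := Groth.Agent.H52.fibreDimAt_eq_of_etale_square e₁.hom e₂.hom
      (f.resLE V U.1 e) (Spec.map (CommRingCat.ofHom (algebraMap R (RelGCIRing R n c F))))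
      hcomm ⟨y, hy⟩
    have h3 := Groth.Agent.S9366.result R n c F hF (e₁.hom ⟨y, hy⟩)
    have h4 : U.1.ι ⟨y, hy⟩ = y := rfl
    rw [h4] at h1
    rw [← h1, h2, h3]
  exact ⟨U.1, U.1.isOpen, hxU, fun y hy => (key y hy).trans (key x hxU).symm⟩

end Groth.Agent.S9367
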