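import Groth.Statements.S9369
import Groth.Agent.Lib.Helper18.AffineDer

set_option autoImplicit false
universe u
open OmegaSh

namespace Groth.Agent.S9369

open AlgebraicGeometry CategoryTheory in
/-- For a morphism of affine schemes f : X → S and an O_X-module F, restricting an S-derivation O_X → F
to global sections is a bijection onto the derivations of Γ(X, O_X) into Γ(X, F) over Γ(S, O_S)
(additive, Leibniz, killing the image of Γ(S, O_S)). -/
theorem result {X S : Scheme.{u}} [IsAffine X] [IsAffine S] (f : X ⟶ S) (F : X.Modules) :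
    Function.Injective (fun D : OmegaSh.Der f F => D.app ⊤) ∧
      ∀ δ : Γ(X, ⊤) →+ Γ(F, ⊤),
        ((∀ a b : Γ(X, ⊤), δ (a * b) = a • δ b + b • δ a) ∧ ∀ c : Γ(S, ⊤), δ (f.appTop c) = 0) ↔
          ∃ D : OmegaSh.Der f F, D.app ⊤ = δ := by
  constructor
  · intro D D' h
    apply Groth.Agent.Lib.Helper18.AffineDer.der_ext_of_top
    intro x
    exact DFunLike.congr_fun h x
  · intro δ
    constructor
    · rintro ⟨h1, h2⟩
      let G : Groth.Agent.Lib.Helper18.AffineDer.GDer f F := ⟨δ, h1, h2⟩
      refine ⟨G.toDer, ?_⟩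
      ext x
      exact G.toDer_app_top x
    · rintro ⟨D, rfl⟩
      refine ⟨fun a b => Groth.Agent.Lib.Helper51.OmegaUniv.der_app_mul D a b, fun c => ?_⟩
      exact Groth.Agent.Lib.Helper51.OmegaUniv.der_app_app D ⊤ c

end Groth.Agent.S9369
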