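import Mathlib
import Groth.Statements.S9373
import Groth.Agent.S9390

set_option autoImplicit false
universe u
open QCohSub

namespace Groth.Agent.S9373

open AlgebraicGeometry CategoryTheory in
/-- The support of a quasi-coherent O_X-module is closed under specialization. -/
theorem result (X : Scheme.{u}) (F : X.Modules) (hF : Coh.IsQCoh F) :
    StableUnderSpecialization (CohB1.support F) := by
  intro x y hxy hx
  have hy' : y ∈ (⨆ i : X.affineOpens, (i : X.Opens)) := by
    rw [iSup_affineOpens_eq_top]; trivial
  obtain ⟨U, hyU⟩ := TopologicalSpace.Opens.mem_iSup.mp hy'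
  have hxU : x ∈ U.1 := hxy.mem_open U.1.2 hyU
  rw [← Groth.Agent.S9390.result X F hF U x hxU] at hx
  rw [← Groth.Agent.S9390.result X F hF U y hyU]
  refine Module.stableUnderSpecialization_support ?_ hx
  have h1 : (⟨x, hxU⟩ : U.1) ⤳ ⟨y, hyU⟩ := (Topology.IsInducing.subtypeVal.specializes_iff).mp hxy
  exact h1.map U.2.isoSpec.hom.continuous

end Groth.Agent.S9373
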