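import Groth.Statements.S9375
-- import your own Groth.Agent.* helpers here
import Groth.Agent.Lib.Helper51.OmegaUniv.ConormalComp

set_option autoImplicit false
universe u
open OmegaSh

namespace Groth.Agent.S9375

open AlgebraicGeometry CategoryTheory Limits in
/-- For quasi-compact immersions i : Z → X and j : Z → Y with j = i ≫ p for p : X → Y, there is an exact
sequence C_{Z/Y} → C_{Z/X} → i^*Ω_{X/Y} → 0 with the canonical maps; Ω_{X/Y} is any receptacle of a
universal derivation. (The published statement allows arbitrary immersions; this row assumes i and j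
quasi-compact.) -/
theorem result {Z X Y : Scheme.{u}} (p : X ⟶ Y) (i : Z ⟶ X) (j : Z ⟶ Y) [IsImmersion i] [IsImmersion j]
    [QuasiCompact i] [QuasiCompact j] (hij : i ≫ p = j)
    (Ω : X.Modules) (d : OmegaSh.Der p Ω) (hd : OmegaSh.IsUniversal d)
    (ψ : (Scheme.Modules.pullback (𝟙 Z)).obj (Omega.conormal j) ⟶ Omega.conormal i) (hψ : OmegaSh.IsConormalMap i j p (𝟙 Z) ψ)
    (φ : Omega.conormal i ⟶ (Scheme.Modules.pullback i).obj Ω) (hφ : OmegaSh.IsConormalDiff i d φ) :
    ∃ w : ψ ≫ φ = 0, (ShortComplex.mk ψ φ w).Exact ∧ Epi φ := by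
  have hqΩ : Ω.IsQuasicoherent :=
    Groth.Agent.Lib.Helper51.OmegaUniv.isQuasicoherent_of_isUniversal p hd
  have hq₃ : ((Scheme.Modules.pullback i).obj Ω).IsQuasicoherent :=
    Groth.Agent.Lib.Helper16.FlatPull.isQuasicoherent_pullback i Ω
  have hqNi : (Omega.conormal i).IsQuasicoherent :=
    Groth.Agent.Lib.Helper16.FlatPull.isQuasicoherent_pullback i (ClSub.idealMod i.ker)
  have hqNj : (Omega.conormal j).IsQuasicoherent :=
    Groth.Agent.Lib.Helper16.FlatPull.isQuasicoherent_pullback j (ClSub.idealMod j.ker)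
  have hqNj' : ((Scheme.Modules.pullback (𝟙 Z)).obj (Omega.conormal j)).IsQuasicoherent :=
    Groth.Agent.Lib.Helper16.FlatPull.isQuasicoherent_pullback (𝟙 Z) (Omega.conormal j)
  have w : ψ ≫ φ = 0 :=
    Groth.Agent.Lib.Helper51.OmegaUniv.conormalMap_comp_zero p i j hij hψ hφ
  have chart : ∀ z : Z, ∃ W : Z.Opens, IsAffineOpen W ∧ z ∈ W ∧
      Function.Surjective (φ.app W) ∧
      ∀ n : Γ(Omega.conormal i, W), φ.app W n = 0 → ∃ m, ψ.app W m = n := by
    intro z
    obtain ⟨V, U, hV, hU, h₁, hzU, hW, hsurjB, hWW, -, hsurjA⟩ :=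
      Groth.Agent.Lib.Helper51.OmegaUniv.exists_comp_immersion_chart p i j hij z
    obtain ⟨hs, he⟩ := Groth.Agent.Lib.Helper51.OmegaUniv.conormal_comp_chart p i j hij hd hψ hφ
      hV hU h₁ hW hsurjB hWW hsurjA
    exact ⟨i ⁻¹ᵁ U, hW, hzU, hs, he⟩
  refine ⟨w, ?_, ?_⟩
  · apply Groth.Agent.Lib.Helper51.OmegaUniv.exact_of_app_exact_of_cover
    intro z
    obtain ⟨W, hW, hzW, -, he⟩ := chart z
    exact ⟨W, hW, hzW, he⟩
  · apply Groth.Agent.Lib.Helper51.OmegaUniv.epi_of_app_surjective_of_cover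
    intro z
    obtain ⟨W, hW, hzW, hs, -⟩ := chart z
    exact ⟨W, hW, hzW, hs⟩

end Groth.Agent.S9375
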