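import Mathlib
import Groth.Statements.S9376
import Groth.Agent.Lib.Helper49.UnitChart
import Groth.Agent.Lib.Helper49.ClosedImmUnit
import Groth.Agent.Lib.Helper49.QcqsModules
import Groth.Agent.Lib.Helper42.QCohAffineSections

set_option linter.style.haveILetI false

set_option autoImplicit false
universe u
open QCohSub

namespace Groth.Agent.S9376

open AlgebraicGeometry CategoryTheory Opposite in
/-- For a closed immersion i : Z → X with ideal sheaf 𝓘 and a quasi-coherent O_X-module G, the unit G →
i_* i^* G is an isomorphism if and only if 𝓘 G = 0 (sections of 𝓘 over affine opens annihilate the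
sections of G). Full faithfulness and exactness of i_* are not restated. -/
theorem result {Z X : Scheme.{u}} (i : Z ⟶ X) [IsClosedImmersion i]
    (G : X.Modules) (hG : Coh.IsQCoh G) :
    IsIso ((Scheme.Modules.pullbackPushforwardAdjunction i).unit.app G) ↔
      ∀ (U : X.affineOpens) (a : Γ(X, U.1)), a ∈ i.ker.ideal U → ∀ s : Γ(G, U.1), a • s = 0 := by
  haveI : G.IsQuasicoherent := hG
  constructor
  · intro hiso U a ha s
    have hiso' : IsIso (((Scheme.Modules.pullbackPushforwardAdjunction i).unit.app G).app U.1) :=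
      inferInstance
    have hinj : Function.Injective
        (((Scheme.Modules.pullbackPushforwardAdjunction i).unit.app G).app U.1).hom :=
      ((ConcreteCategory.isIso_iff_bijective _).mp hiso').1
    apply hinj
    rw [map_zero]
    have h1 := Groth.Agent.Lib.Helper11.PullbackBasis.pullS_smul (f := i) G U.1 a s
    have h2 : (i.app U.1).hom a = 0 := by
      rw [Scheme.Hom.ker_apply, RingHom.mem_ker] at ha
      exact ha
    rw [h2, zero_smul] at h1
    exact h1
  · intro hk
    haveI : ((Scheme.Modules.pullback i).obj G).IsQuasicoherent :=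
      Groth.Agent.Lib.Helper16.FlatPull.isQuasicoherent_pullback i G
    haveI : ((Scheme.Modules.pushforward i).obj
        ((Scheme.Modules.pullback i).obj G)).IsQuasicoherent :=
      Groth.Agent.Lib.Helper49.isQuasicoherent_pushforward _ i
    haveI : ((Scheme.Modules.pullback i ⋙ Scheme.Modules.pushforward i).obj G).IsQuasicoherent :=
      Groth.Agent.Lib.Helper49.isQuasicoherent_pushforward _ i
    haveI : ((𝟭 X.Modules).obj G).IsQuasicoherent := hG
    apply Groth.Agent.Lib.Helper42.isIso_of_app_bijective_of_cover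
    intro x
    obtain ⟨_, ⟨U, hU, rfl⟩, hxU, -⟩ := X.isBasis_affineOpens.exists_subset_of_mem_open
      (Set.mem_univ x) isOpen_univ
    have hU : IsAffineOpen U := hU
    refine ⟨U, hU, hxU, ?_⟩
    have hW : IsAffineOpen (i ⁻¹ᵁ U) := hU.preimage i
    letI := (i.appLE U (i ⁻¹ᵁ U) le_rfl).hom.toAlgebra
    letI : Module Γ(X, U) Γ((Scheme.Modules.pullback i).obj G, i ⁻¹ᵁ U) :=
      Module.compHom _ (i.appLE U (i ⁻¹ᵁ U) le_rfl).hom
    haveI : IsScalarTower Γ(X, U) Γ(Z, i ⁻¹ᵁ U) Γ((Scheme.Modules.pullback i).obj G, i ⁻¹ᵁ U) :=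
      IsScalarTower.of_compHom _ _ _
    obtain ⟨c, hc, hb⟩ :=
      Groth.Agent.Lib.Helper49.UnitChart.exists_isBaseChange_pullSLE i hU hW le_rfl G
    have happ : i.appLE U (i ⁻¹ᵁ U) le_rfl = i.app U := i.appLE_eq_app
    have hs : Function.Surjective (algebraMap Γ(X, U) Γ(Z, i ⁻¹ᵁ U)) := by
      show Function.Surjective (i.appLE U (i ⁻¹ᵁ U) le_rfl).hom
      rw [happ]
      exact i.app_surjective U hU
    have hM : ∀ a ∈ RingHom.ker (algebraMap Γ(X, U) Γ(Z, i ⁻¹ᵁ U)), ∀ m : Γ(G, U), a • m = 0 := by
      intro a ha m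
      refine hk ⟨U, hU⟩ a ?_ m
      rw [Scheme.Hom.ker_apply, RingHom.mem_ker]
      have ha' : (i.appLE U (i ⁻¹ᵁ U) le_rfl).hom a = 0 := ha
      rw [happ] at ha'
      exact ha'
    have hbij := Groth.Agent.Lib.Helper49.ClosedImmUnit.bijective_of_isBaseChange_of_killed
      hs hM c hb
    have heq : ∀ m, (((Scheme.Modules.pullbackPushforwardAdjunction i).unit.app G).app U).hom m
        = c m := by
      intro m
      rw [hc]
      exact (Groth.Agent.Lib.Helper49.mres_self _ _).symm
    have : ⇑(((Scheme.Modules.pullbackPushforwardAdjunction i).unit.app G).app U).hom = ⇑c :=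
      funext heq
    show Function.Bijective ⇑(((Scheme.Modules.pullbackPushforwardAdjunction i).unit.app G).app U)
    exact this ▸ hbij

end Groth.Agent.S9376
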