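import Mathlib
import Groth.Statements.S9377
import Groth.Agent.Lib.Helper49.ClosedImmUnit
import Groth.Agent.Lib.Helper49.AnnIdealSheaf

set_option autoImplicit false
universe u
open QCohSub

namespace Groth.Agent.S9377

open AlgebraicGeometry CategoryTheory Opposite in
/-- A finite type quasi-coherent O_X-module F has a scheme-theoretic support: a closed subscheme Z
(ideal sheaf J), cut out on each affine open U by the annihilator of F(U), such that F ≅ i_* i^* F
via the unit, any other closed subscheme for which this unit is an isomorphism contains Z (i.e. its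
ideal sheaf lies below J), and Z has the same underlying set as Supp(F). (The published statement
also says that the O_Z-module G with i_*G ≅ F is unique up to unique isomorphism and of finite type;
those clauses are not stated here.) -/
theorem result (X : Scheme.{u}) (F : X.Modules) (hq : Coh.IsQCoh F) (hft : CohB1.IsFT F) :
    ∃ J : X.IdealSheafData,
      (∀ U : X.affineOpens, J.ideal U = Module.annihilator Γ(X, U.1) Γ(F, U.1)) ∧
        IsIso ((Scheme.Modules.pullbackPushforwardAdjunction J.subschemeι).unit.app F) ∧
          (∀ J' : X.IdealSheafData, IsIso ((Scheme.Modules.pullbackPushforwardAdjunction J'.subschemeι).unit.app F) → J' ≤ J) ∧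
            (J.support : Set ↑X) = CohB1.support F := by
  have hq' : F.IsQuasicoherent := hq
  refine ⟨Groth.Agent.Lib.Helper49.AnnIdealSheaf.annIdealSheaf F hft, fun U => rfl, ?_, ?_,
    Groth.Agent.Lib.Helper49.AnnIdealSheaf.coe_support_annIdealSheaf F hft⟩
  · refine Groth.Agent.Lib.Helper49.ClosedImmUnit.isIso_unit_of_killed _ F hft
      (fun U hU a ha m => ?_)
    have h1 : a ∈ (Groth.Agent.Lib.Helper49.AnnIdealSheaf.annIdealSheaf F hft).subschemeι.ker.ideal
        ⟨U, hU⟩ := by
      rw [Scheme.Hom.ker_apply]
      exact RingHom.mem_ker.mpr ha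
    rw [Scheme.IdealSheafData.ker_subschemeι] at h1
    exact Module.mem_annihilator.mp h1 m
  · intro J' hJ' U a ha
    change a ∈ Module.annihilator Γ(X, U.1) Γ(F, U.1)
    rw [Module.mem_annihilator]
    intro m
    let η := (Scheme.Modules.pullbackPushforwardAdjunction J'.subschemeι).unit.app F
    have hinj : Function.Injective (η.app U.1).hom := by
      intro x y hxy
      have h := fun z => congrArg (fun φ : F ⟶ F => (φ.app U.1).hom z) (IsIso.hom_inv_id η)
      have hx := h x
      have hy := h y
      change ((inv η).app U.1).hom ((η.app U.1).hom x) = x at hx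
      change ((inv η).app U.1).hom ((η.app U.1).hom y) = y at hy
      rw [← hx, ← hy, hxy]
    apply hinj
    rw [map_zero]
    have h1 : (η.app U.1).hom (a • m) = a • (η.app U.1).hom m :=
      Scheme.Modules.Hom.app_smul η a m
    rw [h1]
    have ha' : (J'.subschemeι.app U.1).hom a = 0 := by
      have h2 : a ∈ J'.subschemeι.ker.ideal U := by
        rw [Scheme.IdealSheafData.ker_subschemeι]; exact ha
      rw [Scheme.Hom.ker_apply] at h2
      exact RingHom.mem_ker.mp h2
    obtain ⟨t, ht⟩ := (Groth.Agent.Lib.Helper49.ClosedImmUnit.pushEquiv J'.subschemeι _ U.1).surjective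
      ((η.app U.1).hom m)
    rw [← ht, ← Groth.Agent.Lib.Helper49.ClosedImmUnit.pushEquiv_smul, ha', zero_smul, map_zero]

end Groth.Agent.S9377
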