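import Mathlib
import Groth.Statements.S9378
import Groth.Agent.Lib.Helper49.AnnIdealSheaf
import Groth.Agent.Lib.Helper49.UnitChart
import Groth.Agent.Lib.Helper18.IdealComap
import Groth.Agent.Lib.Helper11.SupportTensor
import Groth.Agent.S4674

set_option autoImplicit false
universe u
open QCohSub

namespace Groth.Agent.S9378

open AlgebraicGeometry CategoryTheory Opposite in
/-- Let f : Y → X be flat and F a quasi-coherent O_X-module of finite type, where the ideal sheaf J
(given by annihilators on affine opens) defines the scheme-theoretic support of F. Then the inverse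
image ideal sheaf of J along f cuts out the scheme-theoretic support of f^*F. -/
theorem result {Y X : Scheme.{u}} (f : Y ⟶ X) [Flat f] (F : X.Modules)
    (hq : Coh.IsQCoh F) (hft : CohB1.IsFT F) (J : X.IdealSheafData)
    (hJ : ∀ U : X.affineOpens, J.ideal U = Module.annihilator Γ(X, U.1) Γ(F, U.1)) :
    ∀ V : Y.affineOpens, (J.comap f).ideal V =
      Module.annihilator Γ(Y, V.1) Γ((Scheme.Modules.pullback f).obj F, V.1) := by
  have : F.IsQuasicoherent := hq
  have hft' : SheafOfModules.IsFiniteType (R := X.ringCatSheaf) F := hft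
  have hGq : ((Scheme.Modules.pullback f).obj F).IsQuasicoherent :=
    Groth.Agent.Lib.Helper16.FlatPull.isQuasicoherent_pullback f F
  have hGft : SheafOfModules.IsFiniteType (R := Y.ringCatSheaf)
      ((Scheme.Modules.pullback f).obj F) :=
    Groth.Agent.Lib.Helper11.SupportTensor.isFiniteType_pullback_of_isFiniteType f F hft'
  have key : J.comap f = Groth.Agent.Lib.Helper49.AnnIdealSheaf.annIdealSheaf
      ((Scheme.Modules.pullback f).obj F) hGft := by
    refine Scheme.IdealSheafData.ext_of_iSup_eq_top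
      (ι := {V : Y.affineOpens // ∃ U : X.affineOpens, V.1 ≤ f ⁻¹ᵁ U.1}) (fun V => V.1) ?_ ?_
    · rw [eq_top_iff]
      intro y _
      obtain ⟨U, W, hU, hW, hWU, hyW⟩ := Groth.Agent.Lib.Helper16.FlatPull.exists_charts f y
      exact TopologicalSpace.Opens.mem_iSup.mpr ⟨⟨⟨W, hW⟩, ⟨U, hU⟩, hWU⟩, hyW⟩
    · rintro ⟨V, U, e⟩
      rw [Groth.Agent.Lib.Helper18.ideal_comap_of_le f J V U e,
        Groth.Agent.Lib.Helper49.AnnIdealSheaf.annIdealSheaf_ideal, hJ U]
      let := (f.appLE U.1 V.1 e).hom.toAlgebra
      let : Module Γ(X, U.1) Γ((Scheme.Modules.pullback f).obj F, V.1) :=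
        Module.compHom _ (f.appLE U.1 V.1 e).hom
      have : IsScalarTower Γ(X, U.1) Γ(Y, V.1) Γ((Scheme.Modules.pullback f).obj F, V.1) :=
        IsScalarTower.of_compHom _ _ _
      obtain ⟨g, -, hg⟩ := Groth.Agent.Lib.Helper49.UnitChart.exists_isBaseChange_pullSLE
        f U.2 V.2 e F
      have hflat : Module.Flat Γ(X, U.1) Γ(Y, V.1) := Scheme.Hom.flat_appLE f U.2 V.2 e
      have hfin : Module.Finite Γ(X, U.1) Γ(F, U.1) :=
        Groth.Agent.Lib.Helper49.finite_sections_of_isFiniteType F hft' U.2
      rw [← hg.equiv.annihilator_eq, Groth.Agent.S4674.annihilator_baseChange_of_finite]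
      rfl
  intro V
  rw [key]
  rfl

end Groth.Agent.S9378
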