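import Groth.Statements.S9379
import Groth.Agent.Lib.Helper10.CIFieldExtSch
import Groth.Agent.S8660

set_option autoImplicit false
universe u
open Synt

namespace Groth.Agent.S9379

section Helpers

open AlgebraicGeometry CategoryTheory CategoryTheory.Limits

theorem fiber_congr {X Y : Scheme.{u}} (f : X ⟶ Y) (C : ∀ s : Y, f.fiber s → Prop) (s₁ s₂ : Y)
    (hs : s₁ = s₂) (z₁ : f.fiber s₁) (z₂ : f.fiber s₂)
    (hz : f.fiberι s₁ z₁ = f.fiberι s₂ z₂) : C s₁ z₁ ↔ C s₂ z₂ := by
  subst hs
  have : z₁ = z₂ := (f.fiberι s₁).isEmbedding.injective hz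
  subst this
  rfl

end Helpers

open AlgebraicGeometry CategoryTheory in
/-- For f : X → S locally of finite type, the set of points x at which the local ring of the fibre X_{f
x} is a complete intersection over κ(f x) is compatible with arbitrary base change: in a cartesian
square with base change f' : X' → S', g' : X' → X, the corresponding set for f' is the inverse image
of the one for f. (The published statement adds that, for f flat and locally of finite presentation,
the set of points at which f is syntomic is compatible with base change in the same way; this row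
states only the first assertion.) -/
theorem result {X S X' S' : Scheme.{u}} (f : X ⟶ S) [LocallyOfFiniteType f] (g : S' ⟶ S)
    (g' : X' ⟶ X) (f' : X' ⟶ S') (hsq : IsPullback g' f' f g) :
    {x' : ↑X' |
        letI := ((Scheme.ΓSpecIso (S'.residueField (f'.base x'))).inv ≫
            (f'.fiberToSpecResidueField (f'.base x')).appLE ⊤ ⊤ le_top ≫
              (f'.fiber (f'.base x')).presheaf.germ ⊤ (f'.asFiber x') trivial).hom.toAlgebra
        Synt.IsCIOver (S'.residueField (f'.base x')) ((f'.fiber (f'.base x')).presheaf.stalk (f'.asFiber x'))} =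
      g'.base ⁻¹' {x : ↑X |
        letI := ((Scheme.ΓSpecIso (S.residueField (f.base x))).inv ≫
            (f.fiberToSpecResidueField (f.base x)).appLE ⊤ ⊤ le_top ≫
              (f.fiber (f.base x)).presheaf.germ ⊤ (f.asFiber x) trivial).hom.toAlgebra
        Synt.IsCIOver (S.residueField (f.base x)) ((f.fiber (f.base x)).presheaf.stalk (f.asFiber x))} := by
  haveI hlft' : LocallyOfFiniteType f' := MorphismProperty.of_isPullback hsq inferInstance
  have hlftfib : ∀ s : S, LocallyOfFiniteType (f.fiberToSpecResidueField s) := fun s =>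
    MorphismProperty.pullback_snd (P := @LocallyOfFiniteType) _ _ inferInstance
  have hlftfib' : ∀ s : S', LocallyOfFiniteType (f'.fiberToSpecResidueField s) := fun s =>
    MorphismProperty.pullback_snd (P := @LocallyOfFiniteType) _ _ inferInstance
  ext x'
  simp only [Set.mem_setOf_eq, Set.mem_preimage]
  haveI := hlftfib (f (g' x'))
  haveI := hlftfib' (f' x')
  haveI := hlftfib (g (f' x'))
  refine (Groth.Agent.S8660.stalk_bridge (S'.residueField (f' x')) (f'.fiber (f' x'))
    (f'.fiberToSpecResidueField (f' x')) (f'.asFiber x')).trans (Iff.trans ?_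
    (Groth.Agent.S8660.stalk_bridge (S.residueField (f (g' x'))) (f.fiber (f (g' x')))
    (f.fiberToSpecResidueField (f (g' x'))) (f.asFiber (g' x'))).symm)
  have hG := Groth.Agent.Lib.Helper10.CIFieldExtSch.isCI_stalk_iff_of_isPullback
    (g.residueFieldMap (f' x')).hom (f.fiberToSpecResidueField (g (f' x')))
    (f'.fiberToSpecResidueField (f' x')) _
    (isPullback_fiberToSpecResidueField_of_isPullback hsq (f' x')) (f'.asFiber x')
  rw [← hG]
  have hs : g (f' x') = f (g' x') := by
    rw [← Scheme.Hom.comp_apply, ← Scheme.Hom.comp_apply, hsq.w]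
  refine fiber_congr f (fun s z => Pi1.IsCompleteIntersection ((f.fiber s).presheaf.stalk z))
    _ _ hs _ _ ?_
  rw [Scheme.Hom.fiberι_asFiber]
  have hcomp : (CategoryTheory.Limits.pullback.map _ _ _ _ g' (Spec.map (g.residueFieldMap (f' x')))
      g hsq.w.symm (by simp) : f'.fiber (f' x') ⟶ f.fiber (g (f' x'))) ≫ f.fiberι (g (f' x')) =
      f'.fiberι (f' x') ≫ g' := CategoryTheory.Limits.pullback.lift_fst _ _ _
  have h1 := congrArg (fun φ : f'.fiber (f' x') ⟶ X => φ (f'.asFiber x')) hcomp
  refine Eq.trans ?_ (h1.trans ?_)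
  · rfl
  · change (f'.fiberι (f' x') ≫ g') (f'.asFiber x') = _
    rw [Scheme.Hom.comp_apply, Scheme.Hom.fiberι_asFiber]

end Groth.Agent.S9379
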