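import Groth.Statements.S9381
-- import your own Groth.Agent.* helpers here
import Groth.Agent.Lib.Helper55.FiberTrdeg
import Groth.Agent.S4644

set_option autoImplicit false
universe u
open FibDim

namespace Groth.Agent.S9381

open AlgebraicGeometry CategoryTheory in
/-- Let f : X → S be locally of finite type and x ⤳ x' a nontrivial specialization of points of X in the
same fibre (f x = f x'). Then trdeg_{κ(f x)} κ(x) > trdeg_{κ(f x')} κ(x'). -/
theorem result {X S : Scheme.{u}} (f : X ⟶ S) [LocallyOfFiniteType f] (x x' : X)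
    (hsp : x ⤳ x') (hne : x ≠ x') (hfx : f.base x = f.base x') :
    @Algebra.trdeg (S.residueField (f.base x')) (X.residueField x') _ _ (f.residueFieldMap x').hom.toAlgebra <
      @Algebra.trdeg (S.residueField (f.base x)) (X.residueField x) _ _ (f.residueFieldMap x).hom.toAlgebra := by
  set z' : ↥(f.fiber (f x')) := f.asFiber x' with hz'
  set z : ↥(f.fiber (f x')) := (f.fiberHomeo (f x')).symm ⟨x, hfx⟩ with hz
  have hιz : f.fiberι (f x') z = x := f.fiberι_fiberHomeo_symm (f x') ⟨x, hfx⟩
  have hιz' : f.fiberι (f x') z' = x' := f.fiberι_asFiber x'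
  have hspz : z ⤳ z' := by
    rw [← (f.fiberι (f x')).isEmbedding.isInducing.specializes_iff, hιz, hιz']
    exact hsp
  have hnez : z ≠ z' := by
    intro h
    apply hne
    exact hιz.symm.trans ((congrArg (f.fiberι (f x')) h).trans hιz')
  obtain ⟨n, hn1, hn2⟩ :=
    Groth.Agent.Lib.Helper55.exists_dim_closure_fiber_eq_trdeg f (f x') z x hιz
  obtain ⟨n', hn'1, hn'2⟩ :=
    Groth.Agent.Lib.Helper55.exists_dim_closure_fiber_eq_trdeg f (f x') z' x' hιz'
  have hsub : closure ({z'} : Set ↥(f.fiber (f x'))) ⊆ closure {z} :=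
    specializes_iff_closure_subset.mp hspz
  have hneq : closure ({z'} : Set ↥(f.fiber (f x'))) ≠ closure {z} := by
    intro h
    apply hnez
    have h2 : z' ⤳ z := by
      rw [specializes_iff_closure_subset, h]
    exact (hspz.antisymm h2).eq
  have hlt := Groth.Agent.S4644.topologicalKrullDim_lt_of_ssubset
    (closure ({z'} : Set ↥(f.fiber (f x')))) (closure {z}) isClosed_closure
    isIrreducible_singleton.closure hsub hneq (by
      rw [hn1]
      exact fun h => ENat.natCast_ne_top n (WithBot.coe_injective h))
  rw [hn1, hn'1] at hlt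
  have hnn : n' < n := by exact_mod_cast hlt
  change @Algebra.trdeg (S.residueField (f x')) (X.residueField x') _ _
      (f.residueFieldMap x').hom.toAlgebra <
    @Algebra.trdeg (S.residueField (f x)) (X.residueField x) _ _
      (f.residueFieldMap x).hom.toAlgebra
  rw [hn2, hn'2]
  exact_mod_cast hnn

end Groth.Agent.S9381
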