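import Groth.Statements.S9382
import Mathlib

set_option autoImplicit false
universe u
open QCohSub

namespace Groth.Agent.S9382

open AlgebraicGeometry CategoryTheory in
/-- For closed subschemes Z, Y ⊆ X with ideal sheaves I, J, the scheme-theoretic intersection (ideal
sheaf I ⊔ J) together with its inclusions into Z and Y forms a cartesian square over X. -/
theorem result (X : Scheme.{u}) (I J : X.IdealSheafData) :
    IsPullback (Scheme.IdealSheafData.inclusion (le_sup_left : I ≤ I ⊔ J))
      (Scheme.IdealSheafData.inclusion (le_sup_right : J ≤ I ⊔ J)) I.subschemeι J.subschemeι := by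
  have hw : Scheme.IdealSheafData.inclusion (le_sup_left : I ≤ I ⊔ J) ≫ I.subschemeι =
      Scheme.IdealSheafData.inclusion (le_sup_right : J ≤ I ⊔ J) ≫ J.subschemeι := by
    rw [Scheme.IdealSheafData.inclusion_subschemeι, Scheme.IdealSheafData.inclusion_subschemeι]
  refine ⟨⟨hw⟩, ⟨Limits.PullbackCone.IsLimit.mk _ (fun s => ?_) (fun s => ?_) (fun s => ?_)
    (fun s m h₁ h₂ => ?_)⟩⟩
  · -- the lift
    have hI : I ≤ (s.fst ≫ I.subschemeι).ker := by
      have := Scheme.Hom.le_ker_comp s.fst I.subschemeι
      rwa [Scheme.IdealSheafData.ker_subschemeι] at this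
    have hJ : J ≤ (s.fst ≫ I.subschemeι).ker := by
      rw [s.condition]
      have := Scheme.Hom.le_ker_comp s.snd J.subschemeι
      rwa [Scheme.IdealSheafData.ker_subschemeι] at this
    exact (s.fst ≫ I.subschemeι).toImage ≫ Scheme.IdealSheafData.inclusion (sup_le hI hJ)
  · rw [← cancel_mono I.subschemeι]
    simp only [Category.assoc, Scheme.IdealSheafData.inclusion_subschemeι,
      Scheme.Hom.toImage_imageι]
  · rw [← cancel_mono J.subschemeι]
    simp only [Category.assoc, Scheme.IdealSheafData.inclusion_subschemeι,
      Scheme.Hom.toImage_imageι]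
    exact s.condition
  · rw [← cancel_mono (I ⊔ J).subschemeι]
    simp only [Category.assoc, Scheme.IdealSheafData.inclusion_subschemeι,
      Scheme.Hom.toImage_imageι]
    rw [← h₁, Category.assoc, Scheme.IdealSheafData.inclusion_subschemeι]

end Groth.Agent.S9382
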