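import Groth.Statements.S9383
import Groth.Agent.Lib.Helper58.UnionPushout

set_option autoImplicit false
universe u
open QCohSub

namespace Groth.Agent.S9383

open AlgebraicGeometry CategoryTheory in
/-- For closed subschemes X, Y ⊆ S with ideal sheaves I, J, the scheme-theoretic union (ideal sheaf I ⊓
J) is the pushout, in the category of schemes, of X and Y along the scheme-theoretic intersection
(ideal sheaf I ⊔ J). The exact sequence 0 → O_{X∪Y} → O_X × O_Y → O_{X∩Y} → 0 is not stated. -/
theorem result (S : Scheme.{u}) (I J : S.IdealSheafData) :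
    IsPushout (Scheme.IdealSheafData.inclusion (le_sup_left : I ≤ I ⊔ J))
      (Scheme.IdealSheafData.inclusion (le_sup_right : J ≤ I ⊔ J))
      (Scheme.IdealSheafData.inclusion (inf_le_left : I ⊓ J ≤ I))
      (Scheme.IdealSheafData.inclusion (inf_le_right : I ⊓ J ≤ J)) := by
  refine IsPushout.of_isColimit' ⟨by
    rw [Scheme.IdealSheafData.inclusion_comp, Scheme.IdealSheafData.inclusion_comp]⟩ ?_
  refine Limits.PushoutCocone.IsColimit.mk _
    (fun t => (Groth.Agent.Lib.Helper58.UnionPushout.exists_desc I J t.inl t.inr t.condition).choose)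
    (fun t => (Groth.Agent.Lib.Helper58.UnionPushout.exists_desc I J t.inl t.inr
      t.condition).choose_spec.1)
    (fun t => (Groth.Agent.Lib.Helper58.UnionPushout.exists_desc I J t.inl t.inr
      t.condition).choose_spec.2)
    (fun t m h1 h2 => ?_)
  refine Groth.Agent.Lib.Helper58.UnionPushout.hom_ext I J _ _ ?_ ?_
  · exact h1.trans (Groth.Agent.Lib.Helper58.UnionPushout.exists_desc I J t.inl t.inr
      t.condition).choose_spec.1.symm
  · exact h2.trans (Groth.Agent.Lib.Helper58.UnionPushout.exists_desc I J t.inl t.inr
      t.condition).choose_spec.2.symm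

end Groth.Agent.S9383
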