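import Groth.Statements.S9388
-- import your own Groth.Agent.* helpers here
import Groth.Agent.Lib.Helper51.OmegaUniv.Structure
import Groth.Agent.Lib.Helper13.OmegaQCoh
import Groth.Agent.Lib.Helper49.FinitePresentation2

set_option autoImplicit false
universe u
open OmegaSh

namespace Groth.Agent.S9388

open AlgebraicGeometry CategoryTheory in
/-- For f : X → S locally of finite presentation, every receptacle Ω of a universal S-derivation of O_X
is a finitely presented O_X-module. -/
theorem result {X S : Scheme.{u}} (f : X ⟶ S) [LocallyOfFinitePresentation f]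
    (Ω : X.Modules) (d : OmegaSh.Der f Ω) (hd : OmegaSh.IsUniversal d) : CohB1.IsFP Ω := by
  open Groth.Agent.Lib.Helper49 Groth.Agent.Lib.Helper13.OmegaQCoh
    Groth.Agent.Lib.Helper51.OmegaUniv in
  refine isFinitePresentation_of_forall_restrict Ω (ι := Chart f)
    (fun c => Spec Γ(X, c.U)) (fun c => c.hU.fromSpec) (exists_chart f) fun c => ?_
  obtain ⟨e, -⟩ := exists_restrict_iso_tilde f hd c.hU c.hV c.hUV
  let _ := (f.appLE c.V c.U c.hUV).hom.toAlgebra
  have hfp : Algebra.FinitePresentation Γ(S, c.V) Γ(X, c.U) :=
    LocallyOfFinitePresentation.finitePresentation_appLE f c.hV c.hU c.hUV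
  have : Module.FinitePresentation Γ(X, c.U) (kaehlerMod (f.appLE c.V c.U c.hUV)) :=
    (inferInstance : Module.FinitePresentation Γ(X, c.U) Ω[Γ(X, c.U)⁄Γ(S, c.V)])
  exact exists_presentation_of_iso e.symm (exists_finite_presentation_tilde _ _)

end Groth.Agent.S9388
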