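import Groth.Statements.S9393
import Mathlib
import Groth.Agent.Lib.Helper48.Japanese

set_option autoImplicit false
universe u
open CAlg

namespace Groth.Agent.S9393

/-- Being N-1 can be checked on a finite cover of Spec R by principal opens whose rings are N-1 domains. -/
theorem result (R : Type u) [CommRing R] [IsDomain R]
    {ι : Type u} [Finite ι] (f : ι → R) (hf : Ideal.span (Set.range f) = ⊤)
    (Rf : ι → Type u) [∀ i, CommRing (Rf i)] [∀ i, IsDomain (Rf i)] [∀ i, Algebra R (Rf i)]
    [∀ i, IsLocalization.Away (f i) (Rf i)] (h : ∀ i, CAlg.IsN1 (Rf i)) : CAlg.IsN1 R := by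
  classical
  unfold CAlg.IsN1 at h ⊢
  let K := FractionRing R
  have hM : ∀ i, Submonoid.powers (f i) ≤ nonZeroDivisors R := fun i =>
    Groth.Agent.Lib.Helper48.le_nonZeroDivisors_of_isLocalization_of_nontrivial _ (Rf i)
  have hunit : ∀ i, ∀ y : Submonoid.powers (f i), IsUnit (algebraMap R K y) := fun i y =>
    IsLocalization.map_units K (⟨y, hM i y.2⟩ : nonZeroDivisors R)
  letI algK : ∀ i, Algebra (Rf i) K := fun i =>
    (IsLocalization.lift (M := Submonoid.powers (f i)) (g := algebraMap R K) (hunit i)).toAlgebra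
  haveI tower : ∀ i, IsScalarTower R (Rf i) K := fun i =>
    IsScalarTower.of_algebraMap_eq (fun x => (IsLocalization.lift_eq (hunit i) x).symm)
  haveI : ∀ i, IsFractionRing (Rf i) K := fun i =>
    IsFractionRing.isFractionRing_of_isDomain_of_isLocalization (Submonoid.powers (f i)) (Rf i) K
  refine Groth.Agent.Lib.Helper48.finite_integralClosure_of_span_eq_top f hf Rf K (fun i => ?_)
  let e : FractionRing (Rf i) ≃ₐ[Rf i] K := FractionRing.algEquiv (Rf i) K
  exact Groth.Agent.Lib.Helper48.finite_integralClosure_of_algEquiv e (h i)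

end Groth.Agent.S9393
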