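import Groth.Statements.S9395
import Mathlib

set_option autoImplicit false
universe u
open CAlg

namespace Groth.Agent.S9395

/-- For a Noetherian domain R, if the Laurent polynomial ring R[X, 1/X] (the localization of R[X] away
from X) is N-1, then R is N-1. -/
theorem result (R : Type u) [CommRing R] [IsDomain R] [IsNoetherianRing R]
    (S : Type u) [CommRing S] [IsDomain S] [Algebra (Polynomial R) S]
    [IsLocalization.Away (Polynomial.X : Polynomial R) S] (h : CAlg.IsN1 S) : CAlg.IsN1 R := by
  classical
  unfold CAlg.IsN1 at h ⊢
  -- `S` as an `R`-algebra
  letI algRS : Algebra R S := ((algebraMap (Polynomial R) S).comp (algebraMap R (Polynomial R))).toAlgebra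
  haveI : IsScalarTower R (Polynomial R) S := IsScalarTower.of_algebraMap_eq' rfl
  -- smoothness
  haveI : Algebra.Smooth R (Polynomial R) := ⟨inferInstance, inferInstance⟩
  haveI : Algebra.Smooth (Polynomial R) S :=
    Algebra.Smooth.of_isLocalization_Away (Polynomial.X : Polynomial R)
  haveI hsm : Algebra.Smooth R S := Algebra.Smooth.comp R (Polynomial R) S
  -- freeness, hence faithful flatness
  let e : S ≃ₐ[Polynomial R] LaurentPolynomial R :=
    IsLocalization.algEquiv (Submonoid.powers (Polynomial.X : Polynomial R)) S (LaurentPolynomial R)
  haveI : IsScalarTower R (Polynomial R) (LaurentPolynomial R) :=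
    IsScalarTower.of_algebraMap_eq (fun r => by
      rw [LaurentPolynomial.algebraMap_eq_toLaurent, Polynomial.algebraMap_apply,
        Algebra.algebraMap_self_apply, Polynomial.toLaurent_C]
      rfl)
  haveI : Module.Free R S := Module.Free.of_equiv (e.toLinearEquiv.restrictScalars R).symm
  haveI : Module.FaithfullyFlat R S := inferInstance
  -- Noetherian
  haveI : IsNoetherianRing S :=
    IsLocalization.isNoetherianRing (Submonoid.powers (Polynomial.X : Polynomial R)) S inferInstance
  let K := FractionRing R
  let L := FractionRing S
  let T := TensorProduct R S K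
  -- injectivity of `R → S`
  have hinjRS : Function.Injective (algebraMap R S) := by
    have h1 : Function.Injective (algebraMap (Polynomial R) S) :=
      IsLocalization.injective S (M := Submonoid.powers (Polynomial.X : Polynomial R))
        (powers_le_nonZeroDivisors_of_noZeroDivisors Polynomial.X_ne_zero)
    exact h1.comp Polynomial.C_injective
  -- `T` is a localization of `S`, so it embeds into `L`
  have hunit : ∀ y : Algebra.algebraMapSubmonoid S (nonZeroDivisors R),
      IsUnit ((Algebra.ofId S L) y) := by
    rintro ⟨_, r, hr, rfl⟩
    have hr0 : algebraMap R S r ≠ 0 := fun h0 =>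
      (nonZeroDivisors.ne_zero hr) (hinjRS (h0.trans (map_zero _).symm))
    exact IsUnit.mk0 _ (fun h0 => hr0 (IsFractionRing.injective S L (h0.trans (map_zero _).symm)))
  let ι : T →ₐ[S] L := IsLocalization.liftAlgHom
    (M := Algebra.algebraMapSubmonoid S (nonZeroDivisors R)) (f := Algebra.ofId S L) hunit
  have hι : Function.Injective ι := by
    rw [IsLocalization.coe_liftAlgHom, IsLocalization.lift_injective_iff]
    intro x y
    constructor
    · intro hxy
      exact congrArg (algebraMap S L) (IsLocalization.injective T
        (M := Algebra.algebraMapSubmonoid S (nonZeroDivisors R)) (by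
          rintro _ ⟨r, hr, rfl⟩
          rw [mem_nonZeroDivisors_iff_ne_zero]
          exact fun h0 => (nonZeroDivisors.ne_zero hr) (hinjRS (h0.trans (map_zero _).symm))) hxy)
    · intro hxy
      exact congrArg (algebraMap S T) (IsFractionRing.injective S L hxy)
  -- finiteness of the integral closure of `S` in `T`
  haveI : IsNoetherian S (integralClosure S L) := isNoetherian_of_isNoetherianRing_of_finite S _
  let ψ : integralClosure S T →ₗ[S] integralClosure S L :=
    { toFun := fun x => ⟨ι x.1, x.2.map ι⟩
      map_add' := fun x y => Subtype.ext (map_add ι x.1 y.1)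
      map_smul' := fun s x => Subtype.ext (map_smul ι s x.1) }
  have hψ : Function.Injective ψ := by
    intro x y hxy
    exact Subtype.ext (hι (congrArg Subtype.val hxy))
  haveI : Module.Finite S (integralClosure S T) := Module.Finite.of_injective ψ hψ
  -- smooth base change of the integral closure
  have hbij := TensorProduct.toIntegralClosure_bijective_of_smooth (R := R) (S := S) (B := K)
  haveI : Module.Finite S (TensorProduct R S (integralClosure R K)) :=
    Module.Finite.equiv (LinearEquiv.ofBijective (TensorProduct.toIntegralClosure R S K).toLinearMap hbij).symm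
  exact Module.Finite.of_finite_tensorProduct_of_faithfullyFlat S

end Groth.Agent.S9395
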