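import Groth.Statements.S9396
import Mathlib
import Groth.Agent.Lib.Helper48.PowerSeriesN2

set_option autoImplicit false
universe u
open CAlg

namespace Groth.Agent.S9396

/-- If R is a Noetherian N-2 (Japanese) domain, then the power series ring R[[X]] is an N-2 domain. (R
is not assumed integrally closed.) -/
theorem result (R : Type u) [CommRing R] [IsDomain R] [IsNoetherianRing R]
    (h : CAlg.IsN2 R) : CAlg.IsN2 (PowerSeries R) := by
  exact Groth.Agent.Lib.Helper48.isN2_powerSeries h

end Groth.Agent.S9396
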