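import Groth.Statements.S9397
import Mathlib
import Groth.Agent.Lib.Helper48.Japanese

set_option autoImplicit false
universe u
open CAlg

namespace Groth.Agent.S9397

/-- A ring R is universally Japanese provided that each R-algebra of finite type which is a domain is
N-1. -/
theorem result (R : Type u) [CommRing R]
    (h : ∀ (S : Type u) [CommRing S] [IsDomain S] [Algebra R S], Algebra.FiniteType R S → CAlg.IsN1 S) :
    CAlg.IsUniversallyJapanese R := by
  classical
  intro S _ _ _ hft L _ _ _ _ hfin
  let K := FractionRing S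
  haveI : Algebra.IsAlgebraic K L := Algebra.IsAlgebraic.of_finite K L
  haveI : Algebra.IsAlgebraic S L :=
    (IsFractionRing.comap_isAlgebraic_iff (A := S) (K := K) (C := L)).mpr inferInstance
  have hinjSL : Function.Injective (algebraMap S L) := by
    rw [IsScalarTower.algebraMap_eq S K L]
    exact (algebraMap K L).injective.comp (IsFractionRing.injective S K)
  -- a finite spanning set
  obtain ⟨t, ht⟩ := (Module.finite_def.mp hfin : (⊤ : Submodule K L).FG)
  obtain ⟨y, hy0, hy⟩ := Algebra.IsAlgebraic.exists_integral_multiples S t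
  let t' : Finset L := t.image (fun c => y • c)
  have ht'int : ∀ c ∈ (t' : Set L), IsIntegral S c := by
    intro c hc
    obtain ⟨d, hd, rfl⟩ := Finset.mem_image.mp (Finset.mem_coe.mp hc)
    exact hy d hd
  let S' : Subalgebra S L := Algebra.adjoin S (t' : Set L)
  have hS'fin : Module.Finite S S' :=
    Module.Finite.iff_fg.mpr (fg_adjoin_of_finite t'.finite_toSet ht'int)
  -- `S'` is a domain of finite type over `R`
  letI algRS' : Algebra R S' := ((algebraMap S S').comp (algebraMap R S)).toAlgebra
  haveI : IsScalarTower R S S' := IsScalarTower.of_algebraMap_eq' rfl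
  have hftS' : Algebra.FiniteType S S' := inferInstance
  have hftR : Algebra.FiniteType R S' := Algebra.FiniteType.trans hft hftS'
  have hN1 : CAlg.IsN1 S' := h S' hftR
  -- `L` is the fraction field of `S'`
  have hspan : Submodule.span K ((S' : Set L)) = ⊤ := by
    rw [eq_top_iff, ← ht, Submodule.span_le]
    intro c hc
    have hyc : y • c ∈ S' := Algebra.subset_adjoin (Finset.mem_coe.mpr (Finset.mem_image_of_mem _ hc))
    have hyK : algebraMap S K y ≠ 0 := fun h0 =>
      hy0 (IsFractionRing.injective S K (h0.trans (map_zero _).symm))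
    have : c = (algebraMap S K y)⁻¹ • (y • c) := by
      rw [← algebraMap_smul K y c, smul_smul, inv_mul_cancel₀ hyK, one_smul]
    rw [this]
    exact Submodule.smul_mem _ _ (Submodule.subset_span hyc)
  have hclaim : ∀ z : L, ∃ c : S, c ≠ 0 ∧ c • z ∈ S' := by
    intro z
    have hz : z ∈ Submodule.span K ((S' : Set L)) := by rw [hspan]; trivial
    induction hz using Submodule.span_induction with
    | mem z hz => exact ⟨1, one_ne_zero, by rwa [one_smul]⟩
    | zero => exact ⟨1, one_ne_zero, by rw [smul_zero]; exact S'.zero_mem⟩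
    | add z w _ _ hz hw =>
      obtain ⟨c₁, hc₁, h₁⟩ := hz
      obtain ⟨c₂, hc₂, h₂⟩ := hw
      refine ⟨c₁ * c₂, mul_ne_zero hc₁ hc₂, ?_⟩
      rw [smul_add]
      refine S'.add_mem ?_ ?_
      · rw [mul_comm, mul_smul]; exact S'.smul_mem h₁ _
      · rw [mul_smul]; exact S'.smul_mem h₂ _
    | smul k z _ hz =>
      obtain ⟨c, hc, h₁⟩ := hz
      obtain ⟨a, d, hd, rfl⟩ := IsFractionRing.div_surjective (A := S) k
      have hd0 : d ≠ 0 := nonZeroDivisors.ne_zero hd
      have hdK : algebraMap S K d ≠ 0 := fun h0 =>
        hd0 (IsFractionRing.injective S K (h0.trans (map_zero _).symm))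
      refine ⟨d * c, mul_ne_zero hd0 hc, ?_⟩
      have : (d * c) • ((algebraMap S K a / algebraMap S K d) • z) = a • (c • z) := by
        have hSK : ∀ (s : S) (w : L), s • w = algebraMap S K s • w :=
          fun s w => (algebraMap_smul K s w).symm
        rw [hSK (d * c), hSK a, hSK c, smul_smul, smul_smul, map_mul]
        congr 1
        rw [mul_div_assoc', div_eq_iff hdK]
        ring
      rw [this]
      exact S'.smul_mem h₁ _
  haveI : IsFractionRing S' L := by
    refine IsFractionRing.of_field S' L (fun z => ?_)
    obtain ⟨c, hc, hcz⟩ := hclaim z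
    refine ⟨⟨c • z, hcz⟩, algebraMap S S' c, ?_⟩
    have hcL : algebraMap S L c ≠ 0 := fun h0 => hc (hinjSL (h0.trans (map_zero _).symm))
    show z = (c • z) / algebraMap S L c
    rw [eq_div_iff hcL, Algebra.smul_def, mul_comm]
  let e : FractionRing S' ≃ₐ[S'] L := FractionRing.algEquiv S' L
  have hfinS' : Module.Finite S' (integralClosure S' L) :=
    Groth.Agent.Lib.Helper48.finite_integralClosure_of_algEquiv e hN1
  -- back to `S`
  haveI : Algebra.IsIntegral S S' := Algebra.IsIntegral.of_finite S S'
  have hfinS : Module.Finite S (integralClosure S' L) := Module.Finite.trans S' _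
  let φ : integralClosure S' L →ₗ[S] integralClosure S L :=
    { toFun := fun x => ⟨x.1, isIntegral_trans (R := S) (A := S') x.1 x.2⟩
      map_add' := fun x y => rfl
      map_smul' := fun s x => rfl }
  have hφ : Function.Surjective φ := by
    rintro ⟨x, hx⟩
    exact ⟨⟨x, (hx : IsIntegral S x).tower_top⟩, rfl⟩
  exact Module.Finite.of_surjective φ hφ

end Groth.Agent.S9397
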