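import Groth.Statements.S9402
import Mathlib

set_option autoImplicit false
universe u
open CAlg

namespace Groth.Agent.S9402

/-- Let R → S be a ring map with S a nonzero algebra over the rationals and f ∈ S such that some
S-linear form on the module of differentials of S over R sends df to 1 (that is, df spans a free
direct summand of rank one). Then f is not nilpotent. (The published statement asks only that S·df
be a direct summand of the module of differentials, which also holds for the rationals with a
square-zero element adjoined and for the zero ring, where f is nilpotent; this row asks for an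
S-linear form on the differentials sending df to 1, as the published proof uses, and S nonzero.) -/
theorem result (R : Type u) [CommRing R] (S : Type u)
    [CommRing S] [Nontrivial S] [Algebra R S] [Algebra ℚ S] (f : S)
    (θ : Ω[S⁄R] →ₗ[S] S) (hθ : θ (KaehlerDifferential.D R S f) = 1) : ¬ IsNilpotent f := by
  intro hnil
  -- minimal n with f^n = 0
  classical
  let n := Nat.find hnil
  have hn : f ^ n = 0 := Nat.find_spec hnil
  have hn0 : n ≠ 0 := by
    intro h0
    rw [h0, pow_zero] at hn
    exact one_ne_zero hn
  obtain ⟨m, hm⟩ := Nat.exists_eq_succ_of_ne_zero hn0
  have hmin : f ^ m ≠ 0 := by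
    intro h
    have := Nat.find_min' hnil h
    omega
  apply hmin
  have h1 : KaehlerDifferential.D R S (f ^ n) = 0 := by rw [hn, map_zero]
  rw [Derivation.leibniz_pow, hm] at h1
  have h2 := congrArg θ h1
  simp only [map_nsmul, map_smul, map_zero, hθ, Nat.succ_sub_one, smul_eq_mul, mul_one] at h2
  have h3 : ((m + 1 : ℕ) : S) * f ^ m = 0 := by
    simpa [nsmul_eq_mul] using h2
  have hunit : IsUnit ((m + 1 : ℕ) : S) := by
    have : ((m + 1 : ℕ) : S) = algebraMap ℚ S ((m + 1 : ℕ) : ℚ) := by simp
    rw [this]
    exact (IsUnit.mk0 _ (by positivity)).map _
  exact hunit.mul_right_eq_zero.mp h3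

end Groth.Agent.S9402
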