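import Groth.Statements.S9403
import Mathlib

set_option autoImplicit false
universe u
open CAlg

namespace Groth.Agent.S9403

/-- Let R → S be a ring map with S a Noetherian local ring which is an algebra over the rationals, and f
∈ S such that some S-linear form on the module of differentials of S over R sends df to 1 (df spans
a free direct summand of rank one). Then f is a nonzerodivisor of S. (The published statement asks
only that S·df be a direct summand of the module of differentials, which also holds for the
rationals with a square-zero element adjoined, where f is a zero divisor; this row asks for an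
S-linear form on the differentials sending df to 1, as the published proof uses.) -/
theorem result (R : Type u) [CommRing R]
    (S : Type u) [CommRing S] [IsLocalRing S] [IsNoetherianRing S] [Algebra R S] [Algebra ℚ S]
    (f : S) (θ : Ω[S⁄R] →ₗ[S] S) (hθ : θ (KaehlerDifferential.D R S f) = 1) : f ∈ nonZeroDivisors S := by
  by_cases hfu : IsUnit f
  · exact hfu.mem_nonZeroDivisors
  have hfm : f ∈ IsLocalRing.maximalIdeal S := (IsLocalRing.mem_maximalIdeal f).mpr hfu
  -- the derivation
  set Dv : S → S := fun s => θ (KaehlerDifferential.D R S s) with hDv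
  have hD_zero : Dv 0 = 0 := by simp [hDv]
  have hD_mul : ∀ a b, Dv (a * b) = a * Dv b + b * Dv a := by
    intro a b; simp [hDv, Derivation.leibniz]
  have hD_pow : ∀ n : ℕ, Dv (f ^ (n + 1)) = (n + 1 : ℕ) * f ^ n := by
    intro n
    simp only [hDv, Derivation.leibniz_pow, map_nsmul, map_smul, hθ]
    simp [nsmul_eq_mul]
  have hunit : ∀ n : ℕ, IsUnit ((n + 1 : ℕ) : S) := by
    intro n
    have : ((n + 1 : ℕ) : S) = algebraMap ℚ S ((n + 1 : ℕ) : ℚ) := by simp
    rw [this]
    exact (IsUnit.mk0 _ (by positivity)).map _
  -- K n = annihilator of f^n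
  let K : ℕ →o Ideal S :=
    ⟨fun n => LinearMap.ker (LinearMap.mulLeft S (f ^ n)), by
      intro a b hab y hy
      simp only [LinearMap.mem_ker, LinearMap.mulLeft_apply] at hy ⊢
      obtain ⟨c, rfl⟩ := Nat.exists_eq_add_of_le hab
      rw [pow_add, mul_comm (f ^ a), mul_assoc, hy, mul_zero]⟩
  have hK : ∀ n y, y ∈ K n ↔ f ^ n * y = 0 := by
    intro n y
    show y ∈ LinearMap.ker (LinearMap.mulLeft S (f ^ n)) ↔ _
    simp only [LinearMap.mem_ker, LinearMap.mulLeft_apply]
  obtain ⟨N, hN⟩ := monotone_stabilizes_iff_noetherian.mpr (inferInstance : IsNoetherian S S) K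
  have hKle : ∀ m, K m ≤ K N := by
    intro m
    rcases le_total m N with h | h
    · exact K.monotone h
    · exact (hN m h).ge
  have key : ∀ n, K n ≤ Ideal.span {f} • K N := by
    intro n
    induction n with
    | zero =>
      intro y hy
      rw [hK] at hy
      simp only [pow_zero, one_mul] at hy
      rw [hy]; exact zero_mem _
    | succ n ih =>
      intro y hy
      rw [hK] at hy
      have h1 : Dv (f ^ (n + 1) * y) = 0 := by rw [hy, hD_zero]
      rw [hD_mul, hD_pow] at h1
      have hDy : Dv y ∈ K N := by
        apply hKle (n + 2)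
        rw [hK]
        have : f ^ (n + 2) * Dv y = f * (f ^ (n + 1) * Dv y) := by ring
        rw [this, eq_neg_of_add_eq_zero_left h1]
        have : f * -(y * (((n + 1 : ℕ) : S) * f ^ n)) = -(((n + 1 : ℕ) : S) * (f ^ (n + 1) * y)) := by
          ring
        rw [this, hy]; simp
      have hz : ((n + 1 : ℕ) : S) * y + f * Dv y ∈ K n := by
        rw [hK]
        have : f ^ n * (((n + 1 : ℕ) : S) * y + f * Dv y) =
            f ^ (n + 1) * Dv y + y * (((n + 1 : ℕ) : S) * f ^ n) := by ring
        rw [this, h1]
      have hz' := ih hz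
      have hfD : f * Dv y ∈ Ideal.span {f} • K N :=
        Submodule.smul_mem_smul (Ideal.mem_span_singleton_self f) hDy
      have h2 : ((n + 1 : ℕ) : S) * y ∈ Ideal.span {f} • K N := by
        have := Submodule.sub_mem _ hz' hfD
        simpa using this
      obtain ⟨u, hu⟩ := hunit n
      have h3 : y = (↑u⁻¹ : S) * (((n + 1 : ℕ) : S) * y) := by
        rw [← mul_assoc, ← hu, Units.inv_mul, one_mul]
      rw [h3]
      exact Ideal.mul_mem_left _ _ h2
  have hbot : K N = ⊥ := by
    apply Submodule.eq_bot_of_le_smul_of_le_jacobson_bot (Ideal.span {f}) (K N)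
      (IsNoetherian.noetherian _) (key N)
    rw [IsLocalRing.jacobson_eq_maximalIdeal ⊥ bot_ne_top]
    rwa [Ideal.span_singleton_le_iff_mem]
  rw [mem_nonZeroDivisors_iff_right]
  intro x hx
  have : x ∈ K 1 := by rw [hK]; simpa [mul_comm] using hx
  have := hKle 1 this
  rw [hbot] at this
  exact this

end Groth.Agent.S9403
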