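import Groth.Statements.S9406
import Groth.Agent.S0565

set_option autoImplicit false
universe u
open CAlg

namespace Groth.Agent.S9406

/-- Regularity descends along faithfully flat ring maps: whenever S is a faithfully flat R-algebra whose
underlying ring is regular, the base ring R is regular as well. -/
theorem result (R : Type u) [CommRing R] (S : Type u) [CommRing S]
    [Algebra R S] [Module.FaithfullyFlat R S] [IsRegularRing S] : IsRegularRing R := by
  have hN : IsNoetherianRing R := by
    rw [isNoetherianRing_iff, isNoetherian_iff']
    have hinj := Ideal.map_injective_of_faithfullyFlat (A := R) (B := S)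
    have hm : Monotone (Ideal.map (algebraMap R S)) := fun _ _ h => Ideal.map_mono h
    have hmono : StrictMono (Ideal.map (algebraMap R S)) := hm.strictMono_of_injective hinj
    exact hmono.wellFoundedGT
  rw [isRegularRing_iff]
  intro p hp
  obtain ⟨P, hP, hPp⟩ := Ideal.exists_isPrime_liesOver_of_faithfullyFlat (B := S) p
  let := Localization.AtPrime.algebraOfLiesOver p P
  have : IsLocalHom (algebraMap (Localization.AtPrime p) (Localization.AtPrime P)) := by
    rw [RingHom.algebraMap_toAlgebra]
    exact Localization.isLocalHom_localRingHom p P (algebraMap R S) Ideal.LiesOver.over
  exact Groth.Agent.S0565.result (Localization.AtPrime p) (Localization.AtPrime P)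

end Groth.Agent.S9406
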