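import Groth.Statements.S9409
import Mathlib
import Groth.Agent.Lib.Helper90.GeomRegBridge
import Groth.Agent.Lib.Helper90.SmoothOmega

set_option autoImplicit false
universe u
open CAlg

namespace Groth.Agent.S9409.Aux

open TensorProduct IsLocalRing KaehlerDifferential
open Groth.Agent.Lib.Helper90 Groth.Agent.Lib.Helper90.GeomRegBridge

section
variable {k B F : Type u} [Field k] [CommRing B] [Algebra k B] [Field F] [Algebra F k] [Algebra F B]
  [IsScalarTower F k B]

/-- the comparison map `B ⊗[F] Ω[F⁄ℤ] → B ⊗[k] Ω[k⁄ℤ]` for a subfield `F` of `k` -/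
noncomputable def psi : B ⊗[F] Ω[F⁄ℤ] →ₗ[B] B ⊗[k] Ω[k⁄ℤ] :=
  LinearMap.liftBaseChange B
    { toFun := fun x => (1 : B) ⊗ₜ[k] (KaehlerDifferential.map ℤ ℤ F k x)
      map_add' := by intros; simp [TensorProduct.tmul_add]
      map_smul' := by
        intro c x
        simp only [map_smul, RingHom.id_apply]
        rw [← algebraMap_smul k c (KaehlerDifferential.map ℤ ℤ F k x), TensorProduct.tmul_smul,
          ← algebraMap_smul k c ((1 : B) ⊗ₜ[k] (KaehlerDifferential.map ℤ ℤ F k x))] }

theorem psi_tmul (b : B) (x : Ω[F⁄ℤ]) :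
    psi (k := k) (b ⊗ₜ[F] x) = b ⊗ₜ[k] (KaehlerDifferential.map ℤ ℤ F k x) := by
  simp [psi, LinearMap.liftBaseChange_tmul, TensorProduct.smul_tmul']

theorem kmap_kmap (x : Ω[F⁄ℤ]) :
    KaehlerDifferential.map ℤ ℤ k B (KaehlerDifferential.map ℤ ℤ F k x) =
      KaehlerDifferential.map ℤ ℤ F B x := by
  have h : ((KaehlerDifferential.map ℤ ℤ k B).restrictScalars F).comp
      (KaehlerDifferential.map ℤ ℤ F k) = KaehlerDifferential.map ℤ ℤ F B := by
    apply Derivation.liftKaehlerDifferential_unique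
    ext y
    simp [IsScalarTower.algebraMap_apply F k B]
  exact DFunLike.congr_fun h x

theorem mapBaseChange_psi (m : B ⊗[F] Ω[F⁄ℤ]) :
    mapBaseChange ℤ k B (psi (k := k) m) = mapBaseChange ℤ F B m := by
  induction m using TensorProduct.induction_on with
  | zero => simp
  | tmul b x => rw [psi_tmul, mapBaseChange_tmul, mapBaseChange_tmul, kmap_kmap]
  | add a b ha hb => simp [ha, hb]

end

section
variable {k B : Type u} [Field k] [CommRing B] [IsLocalRing B] [Algebra k B]

/-- generators of `κ ⊗ (B ⊗ Ω[k⁄ℤ])` -/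
def gens (X : Set k) : Set (ResidueField B ⊗[B] (B ⊗[k] Ω[k⁄ℤ])) :=
  {m | ∃ (c : ResidueField B) (x : k), x ∈ X ∧ m = c ⊗ₜ[B] ((1 : B) ⊗ₜ[k] D ℤ k x)}

theorem span_gens_univ : Submodule.span B (gens (B := B) (Set.univ : Set k)) = ⊤ := by
  rw [eq_top_iff]
  rintro m -
  induction m using TensorProduct.induction_on with
  | zero => exact Submodule.zero_mem _
  | add a b ha hb => exact Submodule.add_mem _ ha hb
  | tmul c n =>
    induction n using TensorProduct.induction_on with
    | zero => simp
    | add a b ha hb => rw [TensorProduct.tmul_add]; exact Submodule.add_mem _ ha hb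
    | tmul b w =>
      have hw : w ∈ Submodule.span k (Set.range (D ℤ k)) := by
        rw [span_range_derivation]; trivial
      induction hw using Submodule.span_induction with
      | mem w hw =>
        obtain ⟨x, rfl⟩ := hw
        have : c ⊗ₜ[B] (b ⊗ₜ[k] D ℤ k x) = b • (c ⊗ₜ[B] ((1 : B) ⊗ₜ[k] D ℤ k x)) := by
          rw [TensorProduct.smul_tmul', TensorProduct.smul_tmul, TensorProduct.smul_tmul',
            smul_eq_mul, mul_one]
        rw [this]
        exact Submodule.smul_mem _ _ (Submodule.subset_span ⟨c, x, trivial, rfl⟩)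
      | zero => simp
      | add a b _ _ ha hb =>
        rw [TensorProduct.tmul_add, TensorProduct.tmul_add]; exact Submodule.add_mem _ ha hb
      | smul a w _ hw =>
        have : c ⊗ₜ[B] (b ⊗ₜ[k] (a • w)) = (algebraMap k B a) • (c ⊗ₜ[B] (b ⊗ₜ[k] w)) := by
          rw [TensorProduct.tmul_smul, ← algebraMap_smul B a (b ⊗ₜ[k] w), TensorProduct.tmul_smul]
        rw [this]
        exact Submodule.smul_mem _ _ hw

end

section
variable {k B : Type u} [Field k] [CommRing B] [IsLocalRing B] [IsNoetherianRing B] [Algebra k B]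
  {ι : Type u} (K : ι → Type u) [∀ i, Field (K i)] [∀ i, Algebra (K i) k] [∀ i, Algebra (K i) B]
  [∀ i, IsScalarTower (K i) k B]

omit [IsNoetherianRing B] in
theorem gens_le_range (i : ι) :
    Submodule.span B (gens (B := B) (Set.range (algebraMap (K i) k))) ≤
      LinearMap.range ((psi (k := k) (B := B) (F := K i)).lTensor (ResidueField B)) := by
  rw [Submodule.span_le]
  rintro _ ⟨c, _, ⟨y, rfl⟩, rfl⟩
  refine ⟨c ⊗ₜ[B] ((1 : B) ⊗ₜ[K i] D ℤ (K i) y), ?_⟩
  rw [LinearMap.lTensor_tmul, psi_tmul, KaehlerDifferential.map_D]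

theorem smooth_of_directed
    (hdir : ∀ i j, ∃ l, Set.range (algebraMap (K i) k) ⊆ Set.range (algebraMap (K l) k) ∧
      Set.range (algebraMap (K j) k) ⊆ Set.range (algebraMap (K l) k))
    (hcov : ∀ x : k, ∃ i, x ∈ Set.range (algebraMap (K i) k))
    (h : ∀ i, CAlgX.IsAdicFormallySmooth (K i) B (maximalIdeal B)) :
    CAlgX.IsAdicFormallySmooth k B (maximalIdeal B) := by
  obtain ⟨i₀, -⟩ := hcov 0
  haveI : Nonempty ι := ⟨i₀⟩
  rw [SmoothOmega.smooth_iff]
  refine ⟨(SmoothOmega.smooth_iff.mp (h i₀)).1, ?_⟩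
  rw [injective_iff_map_eq_zero]
  intro ω hω
  have hmem : ω ∈ Submodule.span B (gens (B := B) (Set.univ : Set k)) := by
    rw [span_gens_univ]; trivial
  have hU : gens (B := B) (Set.univ : Set k) =
      ⋃ i, gens (B := B) (Set.range (algebraMap (K i) k)) := by
    ext m
    simp only [gens, Set.mem_univ, true_and, Set.mem_ofPred_eq, Set.mem_iUnion]
    constructor
    · rintro ⟨c, x, rfl⟩
      obtain ⟨i, hi⟩ := hcov x
      exact ⟨i, c, x, hi, rfl⟩
    · rintro ⟨i, c, x, -, rfl⟩
      exact ⟨c, x, rfl⟩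
  rw [hU, Submodule.span_iUnion] at hmem
  have hdirected : Directed (· ≤ ·) (fun i =>
      Submodule.span B (gens (B := B) (Set.range (algebraMap (K i) k)))) := by
    intro i j
    obtain ⟨l, hl1, hl2⟩ := hdir i j
    refine ⟨l, Submodule.span_mono ?_, Submodule.span_mono ?_⟩
    · rintro _ ⟨c, x, hx, rfl⟩
      exact ⟨c, x, hl1 hx, rfl⟩
    · rintro _ ⟨c, x, hx, rfl⟩
      exact ⟨c, x, hl2 hx, rfl⟩
  obtain ⟨i, hi⟩ := (Submodule.mem_iSup_of_directed _ hdirected).mp hmem
  obtain ⟨ωi, rfl⟩ := gens_le_range K i hi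
  have hinj := (SmoothOmega.smooth_iff.mp (h i)).2
  have h1 : ∀ m : ResidueField B ⊗[B] (B ⊗[K i] Ω[K i⁄ℤ]),
      ((KaehlerDifferential.mapBaseChange ℤ (K i) B).lTensor (ResidueField B)) m =
        ((KaehlerDifferential.mapBaseChange ℤ k B).lTensor (ResidueField B))
          (((psi (k := k) (B := B) (F := K i)).lTensor (ResidueField B)) m) := by
    intro m
    induction m using TensorProduct.induction_on with
    | zero => simp only [map_zero]
    | tmul c n => rw [LinearMap.lTensor_tmul, LinearMap.lTensor_tmul, LinearMap.lTensor_tmul,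
        mapBaseChange_psi]
    | add a b ha hb => rw [map_add, map_add, map_add, ha, hb]
  have h0 : ((KaehlerDifferential.mapBaseChange ℤ (K i) B).lTensor (ResidueField B)) ωi = 0 := by
    rw [h1, hω]
  rw [hinj (h0.trans (map_zero _).symm), map_zero]

end

theorem main (k : Type u) [Field k] {ι : Type u}
    (K : ι → Type u) [∀ i, Field (K i)] [∀ i, Algebra (K i) k]
    (hdir : ∀ i j, ∃ l, Set.range (algebraMap (K i) k) ⊆ Set.range (algebraMap (K l) k) ∧
      Set.range (algebraMap (K j) k) ⊆ Set.range (algebraMap (K l) k))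
    (hcov : ∀ x : k, ∃ i, x ∈ Set.range (algebraMap (K i) k))
    (A : Type u) [CommRing A] [Algebra k A] [IsNoetherianRing A] [∀ i, Algebra (K i) A]
    [∀ i, IsScalarTower (K i) k A] (h : ∀ i, CAlg.IsGeometricallyRegular (K i) A) :
    CAlg.IsGeometricallyRegular k A := by
  rw [isGeometricallyRegular_iff]
  intro q _
  apply smooth_of_directed K hdir hcov
  intro i
  exact isAdicFormallySmooth_atPrime_of_isGeometricallyRegular (h i) q

end Groth.Agent.S9409.Aux

namespace Groth.Agent.S9409

/-- Let k be a field written as a directed union of subfields k_i (given as fields mapping to k whose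
images form a directed family covering k) and A a Noetherian k-algebra. Geometric regularity of A
over every one of the k_i implies that A is also geometrically regular as a k-algebra. -/
theorem result (k : Type u) [Field k] {ι : Type u}
    (K : ι → Type u) [∀ i, Field (K i)] [∀ i, Algebra (K i) k]
    (hdir : ∀ i j, ∃ l, Set.range (algebraMap (K i) k) ⊆ Set.range (algebraMap (K l) k) ∧
      Set.range (algebraMap (K j) k) ⊆ Set.range (algebraMap (K l) k))
    (hcov : ∀ x : k, ∃ i, x ∈ Set.range (algebraMap (K i) k))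
    (A : Type u) [CommRing A] [Algebra k A] [IsNoetherianRing A] [∀ i, Algebra (K i) A]
    [∀ i, IsScalarTower (K i) k A] (h : ∀ i, CAlg.IsGeometricallyRegular (K i) A) :
    CAlg.IsGeometricallyRegular k A := by
  exact Aux.main k K hdir hcov A h

end Groth.Agent.S9409
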