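import Groth.Statements.S9410
import Mathlib
import Groth.Agent.Lib.Helper90.GeomRegBridge

set_option autoImplicit false
universe u
open CAlg

namespace Groth.Agent.S9410.Aux

open TensorProduct IsLocalRing Groth.Agent.Lib.Helper90 Groth.Agent.Lib.Helper90.GeomRegBridge

/-- descending formal smoothness along a formally unramified base extension -/
theorem smooth_of_unramified {k k' B : Type u} [CommRing k] [CommRing k'] [CommRing B]
    [Algebra k k'] [Algebra k' B] [Algebra k B] [IsScalarTower k k' B]
    [Algebra.FormallyUnramified k k'] (I : Ideal B)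
    (h : CAlgX.IsAdicFormallySmooth k B I) : CAlgX.IsAdicFormallySmooth k' B I := by
  intro C _ _ J hJ ψ hψ
  letI : Algebra k C := Algebra.compHom C (algebraMap k k')
  haveI : IsScalarTower k k' C := IsScalarTower.of_algebraMap_eq (fun x => rfl)
  obtain ⟨χ, hχ⟩ := h C J hJ (ψ.restrictScalars k) hψ
  have hχ' : ∀ x, Ideal.Quotient.mk J (χ x) = ψ x := fun x => DFunLike.congr_fun hχ x
  have heq : χ.comp (IsScalarTower.toAlgHom k k' B) = IsScalarTower.toAlgHom k k' C := by
    apply Algebra.FormallyUnramified.ext J ⟨2, hJ⟩
    intro x
    simp only [AlgHom.coe_comp, Function.comp_apply, IsScalarTower.coe_toAlgHom']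
    rw [hχ']
    simp
  refine ⟨{ χ.toRingHom with commutes' := fun x => DFunLike.congr_fun heq x }, ?_⟩
  refine AlgHom.ext fun x => ?_
  exact hχ' x

/-- ascending formal smoothness along a formally smooth field extension -/
theorem smooth_of_smooth_base {k k' B : Type u} [Field k] [Field k'] [CommRing B]
    [Algebra k k'] [Algebra k' B] [Algebra k B] [IsScalarTower k k' B]
    [Algebra.FormallySmooth k k'] (I : Ideal B)
    (h : CAlgX.IsAdicFormallySmooth k' B I) : CAlgX.IsAdicFormallySmooth k B I := by
  rw [Groth.Agent.S4537.result] at h ⊢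
  have h1 := SmoothRegular.isFormallySmoothAdic_of_formallySmooth (k := k) (K := k')
  exact Groth.Agent.S4534.result (⊥ : Ideal k) (⊥ : Ideal k') _ ⟨1, by simp⟩ ⟨1, by simp⟩ h1 h

theorem main (k : Type u) [Field k] (k' : Type u)
    [Field k'] [Algebra k k'] [Algebra.IsSeparable k k'] (A : Type u) [CommRing A] [Algebra k' A]
    [Algebra k A] [IsScalarTower k k' A] [IsNoetherianRing A] :
    CAlg.IsGeometricallyRegular k A ↔ CAlg.IsGeometricallyRegular k' A := by
  rw [isGeometricallyRegular_iff, isGeometricallyRegular_iff]
  have he : Algebra.FormallyEtale k k' := Algebra.FormallyEtale.of_isSeparable k k'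
  constructor
  · intro H q _
    exact smooth_of_unramified _ (H q)
  · intro H q _
    exact smooth_of_smooth_base _ (H q)

end Groth.Agent.S9410.Aux

namespace Groth.Agent.S9410

/-- Given a separable algebraic field extension k'/k and a Noetherian k'-algebra A, geometric regularity
of A over k' is equivalent to geometric regularity of A over k. -/
theorem result (k : Type u) [Field k] (k' : Type u)
    [Field k'] [Algebra k k'] [Algebra.IsSeparable k k'] (A : Type u) [CommRing A] [Algebra k' A]
    [Algebra k A] [IsScalarTower k k' A] [IsNoetherianRing A] :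
    CAlg.IsGeometricallyRegular k A ↔ CAlg.IsGeometricallyRegular k' A := by
  exact Aux.main k k' A

end Groth.Agent.S9410
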