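import Groth.Statements.S9414
import Mathlib

set_option autoImplicit false
universe u
open CAlg

namespace Groth.Agent.S9414

open TensorProduct in
/-- For an algebraically closed field k, a finite type k-algebra S and a maximal ideal m of S with
residue field κ = S/m, the κ-vector spaces κ ⊗_S Ω_{S/k} and m/m² have the same dimension. -/
theorem result (k : Type u) [Field k]
    [IsAlgClosed k] (S : Type u) [CommRing S] [Algebra k S] [Algebra.FiniteType k S]
    (m : Ideal S) [m.IsMaximal] :
    Module.finrank (S ⧸ m) ((S ⧸ m) ⊗[S] Ω[S⁄k]) = Module.finrank (S ⧸ m) m.Cotangent := by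
  classical
  letI : Field (S ⧸ m) := Ideal.Quotient.field m
  haveI : Algebra.FiniteType k (S ⧸ m) :=
    Algebra.FiniteType.of_surjective (Ideal.Quotient.mkₐ k m) (Ideal.Quotient.mkₐ_surjective k m)
  have hfin : Module.Finite k (S ⧸ m) := finite_of_finite_type_of_isJacobsonRing k (S ⧸ m)
  have hbij : Function.Bijective (algebraMap k (S ⧸ m)) :=
    IsAlgClosed.algebraMap_bijective_of_isIntegral
  have hsurjS : Function.Surjective (algebraMap S (S ⧸ m)) := Ideal.Quotient.mk_surjective
  -- section of `S / I² → S / m`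
  let e : k ≃ₐ[k] (S ⧸ m) := AlgEquiv.ofBijective (Algebra.ofId k (S ⧸ m)) hbij
  let g : (S ⧸ m) →ₐ[k] S ⧸ (RingHom.ker (algebraMap S (S ⧸ m))) ^ 2 :=
    (Algebra.ofId k _).comp e.symm.toAlgHom
  have hg : (IsScalarTower.toAlgHom k S (S ⧸ m)).kerSquareLift.comp g = AlgHom.id k (S ⧸ m) := by
    ext x
    obtain ⟨c, rfl⟩ := hbij.2 x
    simp only [AlgHom.commutes]
  obtain ⟨l, hl⟩ := (retractionKerCotangentToTensorEquivSection (R := k) hsurjS).symm ⟨g, hg⟩
  have hinj : Function.Injective (KaehlerDifferential.kerCotangentToTensor k S (S ⧸ m)) := by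
    intro x y hxy
    have := congrArg l hxy
    rwa [← LinearMap.comp_apply, ← LinearMap.comp_apply, hl] at this
  have hsurj : Function.Surjective (KaehlerDifferential.kerCotangentToTensor k S (S ⧸ m)) := by
    have hex := KaehlerDifferential.exact_kerCotangentToTensor_mapBaseChange k S (S ⧸ m) hsurjS
    have : Subsingleton (KaehlerDifferential k (S ⧸ m)) :=
      KaehlerDifferential.subsingleton_of_surjective k (S ⧸ m) hbij.2
    intro t
    exact (hex t).mp (Subsingleton.elim _ _)
  -- identify the two cotangent spaces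
  have hker : RingHom.ker (algebraMap S (S ⧸ m)) = m := Ideal.mk_ker
  let c₁ : m.Cotangent →ₗ[S] (RingHom.ker (algebraMap S (S ⧸ m))).Cotangent :=
    Ideal.mapCotangent m _ (AlgHom.id S S) (by rw [hker]; exact fun x hx => hx)
  let c₂ : (RingHom.ker (algebraMap S (S ⧸ m))).Cotangent →ₗ[S] m.Cotangent :=
    Ideal.mapCotangent _ m (AlgHom.id S S) (by rw [hker]; exact fun x hx => hx)
  have hc₁₂ : ∀ x, c₁ (c₂ x) = x := by
    intro x
    obtain ⟨x, rfl⟩ := Ideal.toCotangent_surjective _ x
    rfl
  have hc₂₁ : ∀ x, c₂ (c₁ x) = x := by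
    intro x
    obtain ⟨x, rfl⟩ := Ideal.toCotangent_surjective _ x
    rfl
  let E : m.Cotangent ≃ₗ[S] TensorProduct S (S ⧸ m) (KaehlerDifferential k S) :=
    LinearEquiv.ofBijective
      ((KaehlerDifferential.kerCotangentToTensor k S (S ⧸ m)).comp c₁)
      ⟨hinj.comp (Function.LeftInverse.injective hc₂₁),
        hsurj.comp (Function.RightInverse.surjective hc₁₂)⟩
  exact (LinearEquiv.extendScalarsOfSurjective hsurjS E).finrank_eq.symm

end Groth.Agent.S9414
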