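import Groth.Statements.S9415
import Mathlib
import Groth.Agent.S2451

set_option autoImplicit false
universe u
open CAlg

namespace Groth.Agent.S9415

/-- Let R be a Noetherian local algebra over a field k whose residue field κ is a finitely generated,
separable (that is, geometrically reduced) field extension of k. Then the map from m/m² (m the
maximal ideal, realised as the kernel of R → κ) to κ ⊗_R Ω_{R/k} sending the class of x to 1 ⊗ dx is
injective. -/
theorem result (k : Type u) [Field k] (R : Type u)
    [CommRing R] [IsLocalRing R] [IsNoetherianRing R] [Algebra k R]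
    [Algebra.EssFiniteType k (IsLocalRing.ResidueField R)]
    [Algebra.IsGeometricallyReduced k (IsLocalRing.ResidueField R)] :
    Function.Injective
      (KaehlerDifferential.kerCotangentToTensor k R (IsLocalRing.ResidueField R)) := by
  have hfs : Algebra.FormallySmooth k (IsLocalRing.ResidueField R) :=
    (Groth.Agent.S2451.result).mpr inferInstance
  have hsurj : Function.Surjective (algebraMap R (IsLocalRing.ResidueField R)) :=
    IsLocalRing.residue_surjective
  let f : R →ₐ[k] IsLocalRing.ResidueField R := IsScalarTower.toAlgHom k R (IsLocalRing.ResidueField R)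
  have hfsurj : Function.Surjective f.kerSquareLift := by
    intro x
    obtain ⟨r, rfl⟩ := hsurj x
    exact ⟨Ideal.Quotient.mk _ r, rfl⟩
  have hnil : IsNilpotent (RingHom.ker f.kerSquareLift) := by
    refine ⟨2, ?_⟩
    change RingHom.ker f.kerSquareLift.toRingHom ^ 2 = 0
    rw [AlgHom.ker_kerSquareLift, Ideal.cotangentIdeal_square]
    rfl
  let g := Algebra.FormallySmooth.liftOfSurjective (AlgHom.id k (IsLocalRing.ResidueField R))
    f.kerSquareLift hfsurj hnil
  have hg : f.kerSquareLift.comp g = AlgHom.id k _ :=
    Algebra.FormallySmooth.comp_liftOfSurjective _ _ hfsurj hnil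
  obtain ⟨l, hl⟩ := (retractionKerCotangentToTensorEquivSection
    (R := k) (P := R) (S := IsLocalRing.ResidueField R) hsurj).symm ⟨g, hg⟩
  intro x y hxy
  have := congrArg l hxy
  rwa [← LinearMap.comp_apply, ← LinearMap.comp_apply, hl] at this

end Groth.Agent.S9415
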