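import Groth.Statements.S9424
import Mathlib

set_option autoImplicit false
universe u
open CAlg

namespace Groth.Agent.S9424

/-- A directed colimit of formally unramified R-algebras is formally unramified over R. The colimit is
encoded by compatible R-algebra maps S_i → S which are jointly surjective and whose kernels die
further along the system. -/
theorem result {ι : Type u} [Preorder ι] [IsDirected ι (· ≤ ·)] [Nonempty ι]
    (R : Type u) [CommRing R] (G : ι → Type u) [∀ i, CommRing (G i)] [∀ i, Algebra R (G i)]
    (f : ∀ i j, i ≤ j → (G i →ₐ[R] G j)) (S : Type u) [CommRing S] [Algebra R S]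
    (g : ∀ i, G i →ₐ[R] S) (hg : ∀ i j (h : i ≤ j), (g j).comp (f i j h) = g i)
    (hsurj : ∀ s : S, ∃ i, ∃ x : G i, g i x = s)
    (hker : ∀ i (x : G i), g i x = 0 → ∃ j, ∃ h : i ≤ j, f i j h x = 0)
    (h : ∀ i, Algebra.FormallyUnramified R (G i)) : Algebra.FormallyUnramified R S := by
  have hD : ∀ s : S, KaehlerDifferential.D R S s = 0 := by
    intro s
    obtain ⟨i, x, rfl⟩ := hsurj s
    have hi := h i
    have hx : KaehlerDifferential.D R (G i) x = 0 := Subsingleton.elim _ _
    letI : Algebra (G i) S := (g i).toRingHom.toAlgebra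
    haveI : IsScalarTower R (G i) S :=
      IsScalarTower.of_algebraMap_eq (fun r => ((g i).commutes r).symm)
    have h2 := KaehlerDifferential.map_D R R (G i) S x
    rw [hx, map_zero] at h2
    exact h2.symm
  constructor
  have htop : (⊤ : Submodule S Ω[S⁄R]) = ⊥ := by
    rw [← KaehlerDifferential.span_range_derivation R S, Submodule.span_eq_bot]
    rintro _ ⟨s, rfl⟩
    exact hD s
  exact (Submodule.subsingleton_iff S).mp (subsingleton_of_bot_eq_top htop.symm)

end Groth.Agent.S9424
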