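import Groth.Statements.S9425
import Mathlib
import Groth.Agent.Lib.Helper48.DirLim

set_option autoImplicit false
universe u
open CAlg

namespace Groth.Agent.S9425

/-- A directed colimit of formally étale R-algebras is formally étale over R. The colimit is encoded by
compatible R-algebra maps S_i → S which are jointly surjective and whose kernels die further along
the system. -/
theorem result {ι : Type u} [Preorder ι] [IsDirected ι (· ≤ ·)] [Nonempty ι]
    (R : Type u) [CommRing R] (G : ι → Type u) [∀ i, CommRing (G i)] [∀ i, Algebra R (G i)]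
    (f : ∀ i j, i ≤ j → (G i →ₐ[R] G j)) (S : Type u) [CommRing S] [Algebra R S]
    (g : ∀ i, G i →ₐ[R] S) (hg : ∀ i j (h : i ≤ j), (g j).comp (f i j h) = g i)
    (hsurj : ∀ s : S, ∃ i, ∃ x : G i, g i x = s)
    (hker : ∀ i (x : G i), g i x = 0 → ∃ j, ∃ h : i ≤ j, f i j h x = 0)
    (h : ∀ i, Algebra.FormallyEtale R (G i)) : Algebra.FormallyEtale R S := by
  rw [Algebra.FormallyEtale.iff_comp_bijective]
  intro B _ _ I hI
  constructor
  · -- injectivity
    intro ψ₁ ψ₂ h12
    apply Groth.Agent.Lib.Helper48.algHom_ext_of_directed_colimit R G S g hsurj B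
    intro i
    apply (Algebra.FormallyEtale.comp_bijective R (G i) I hI).injective
    show (Ideal.Quotient.mkₐ R I).comp (ψ₁.comp (g i)) = (Ideal.Quotient.mkₐ R I).comp (ψ₂.comp (g i))
    rw [← AlgHom.comp_assoc, ← AlgHom.comp_assoc]
    exact congrArg (fun ψ => AlgHom.comp ψ (g i)) h12
  · intro φ
    have hex : ∀ i, ∃ ℓ : G i →ₐ[R] B, (Ideal.Quotient.mkₐ R I).comp ℓ = φ.comp (g i) := fun i =>
      (Algebra.FormallyEtale.comp_bijective R (G i) I hI).surjective (φ.comp (g i))
    choose ℓ hℓ using hex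
    have hcompat : ∀ i j (h : i ≤ j), (ℓ j).comp (f i j h) = ℓ i := by
      intro i j hij
      apply (Algebra.FormallyEtale.comp_bijective R (G i) I hI).injective
      show (Ideal.Quotient.mkₐ R I).comp ((ℓ j).comp (f i j hij)) = (Ideal.Quotient.mkₐ R I).comp (ℓ i)
      rw [← AlgHom.comp_assoc, hℓ, hℓ, AlgHom.comp_assoc, hg]
    obtain ⟨ψ, hψ⟩ := Groth.Agent.Lib.Helper48.exists_algHom_of_directed_colimit R G f S g hg hsurj hker
      B ℓ hcompat
    refine ⟨ψ, ?_⟩
    apply Groth.Agent.Lib.Helper48.algHom_ext_of_directed_colimit R G S g hsurj (B ⧸ I)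
    intro i
    rw [AlgHom.comp_assoc, hψ, hℓ]

end Groth.Agent.S9425
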