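import Groth.Statements.S9428
import Mathlib

set_option autoImplicit false
universe u
open CAlg

namespace Groth.Agent.S9428

/-- If R → S is formally étale and J ⊆ S is an ideal with R → S/J surjective, I ⊆ R its kernel (the
preimage of J), then R/I^n → S/J^n is bijective for all n. (The published statement adds that the
associated graded rings are then isomorphic, which follows from these bijections.) -/
theorem result (R : Type u) [CommRing R] (S : Type u)
    [CommRing S] [Algebra R S] [Algebra.FormallyEtale R S] (J : Ideal S)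
    (hJ : Function.Surjective (algebraMap R (S ⧸ J))) (n : ℕ) :
    Function.Bijective (Ideal.quotientMap (J ^ n) (algebraMap R S)
      (le_of_le_of_eq (Ideal.le_comap_pow (algebraMap R S) n) rfl :
        (J.comap (algebraMap R S)) ^ n ≤ (J ^ n).comap (algebraMap R S))) := by
  set I : Ideal R := J.comap (algebraMap R S) with hI
  have hle : I ^ n ≤ (J ^ n).comap (algebraMap R S) := Ideal.le_comap_pow (algebraMap R S) n
  set q := Ideal.quotientMap (J ^ n) (algebraMap R S) hle with hq
  have hq_mk : ∀ r : R, q (Ideal.Quotient.mk _ r) = Ideal.Quotient.mk _ (algebraMap R S r) :=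
    fun r => Ideal.quotientMap_mk
  -- the natural map g : R / I^n → S / J
  have hIJ : ∀ a ∈ I ^ n, algebraMap R (S ⧸ J) a = 0 ∨ n = 0 := by
    intro a ha
    by_cases hn : n = 0
    · exact Or.inr hn
    left
    have : a ∈ I := Ideal.pow_le_self hn ha
    rw [IsScalarTower.algebraMap_apply R S (S ⧸ J), Ideal.Quotient.algebraMap_eq,
      Ideal.Quotient.eq_zero_iff_mem]
    exact this
  rcases Nat.eq_zero_or_pos n with hn | hn
  · subst hn
    have h1 : Subsingleton (R ⧸ I ^ 0) := by
      rw [pow_zero, Ideal.one_eq_top]; infer_instance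
    have h2 : Subsingleton (S ⧸ J ^ 0) := by
      rw [pow_zero, Ideal.one_eq_top]; infer_instance
    exact ⟨fun a b _ => Subsingleton.elim a b, fun b => ⟨0, Subsingleton.elim _ _⟩⟩
  have hn0 : n ≠ 0 := hn.ne'
  let g : (R ⧸ I ^ n) →ₐ[R] (S ⧸ J) :=
    Ideal.Quotient.liftₐ (I ^ n) (Algebra.ofId R (S ⧸ J)) (by
      intro a ha
      rcases hIJ a ha with h | h
      · exact h
      · exact absurd h hn0)
  have hg_mk : ∀ r : R, g (Ideal.Quotient.mk _ r) = algebraMap R (S ⧸ J) r := fun r => rfl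
  have hg_surj : Function.Surjective g := by
    intro y
    obtain ⟨r, rfl⟩ := hJ y
    exact ⟨Ideal.Quotient.mk _ r, rfl⟩
  have hker_g : RingHom.ker (g : (R ⧸ I ^ n) →+* (S ⧸ J)) = I.map (Ideal.Quotient.mk (I ^ n)) := by
    ext x
    obtain ⟨r, rfl⟩ := Ideal.Quotient.mk_surjective x
    rw [RingHom.mem_ker]
    show g (Ideal.Quotient.mk _ r) = 0 ↔ _
    rw [hg_mk, IsScalarTower.algebraMap_apply R S (S ⧸ J), Ideal.Quotient.algebraMap_eq,
      Ideal.Quotient.eq_zero_iff_mem]
    constructor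
    · intro h
      exact Ideal.mem_map_of_mem _ h
    · intro h
      rw [Ideal.mem_map_iff_of_surjective _ Ideal.Quotient.mk_surjective] at h
      obtain ⟨r', hr', hrr'⟩ := h
      rw [Ideal.Quotient.eq] at hrr'
      have : r' - r ∈ I := Ideal.pow_le_self hn0 hrr'
      have : r ∈ I := by
        have := I.sub_mem hr' this
        simpa using this
      exact this
  have hker_pow : (RingHom.ker (g : (R ⧸ I ^ n) →+* (S ⧸ J))) ^ n = ⊥ := by
    rw [hker_g, ← Ideal.map_pow, Ideal.map_quotient_self]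
  have hnil : IsNilpotent (RingHom.ker (g : (R ⧸ I ^ n) →+* (S ⧸ J))) := ⟨n, hker_pow⟩
  let ℓ : S →ₐ[R] (R ⧸ I ^ n) :=
    Algebra.FormallySmooth.liftOfSurjective (Ideal.Quotient.mkₐ R J) g hg_surj hnil
  have hℓ : ∀ s, g (ℓ s) = Ideal.Quotient.mk J s :=
    Algebra.FormallySmooth.liftOfSurjective_apply (Ideal.Quotient.mkₐ R J) g hg_surj hnil
  have hℓJ : ∀ s ∈ J ^ n, ℓ s = 0 := by
    intro s hs
    have h1 : J ≤ (RingHom.ker (g : (R ⧸ I ^ n) →+* (S ⧸ J))).comap (ℓ : S →+* (R ⧸ I ^ n)) := by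
      intro s hs
      rw [Ideal.mem_comap, RingHom.mem_ker]
      show g (ℓ s) = 0
      rw [hℓ, Ideal.Quotient.eq_zero_iff_mem]; exact hs
    have h2 := (Ideal.pow_right_mono h1 n).trans (Ideal.le_comap_pow _ n)
    have h3 := h2 hs
    rw [hker_pow, Ideal.mem_comap, Ideal.mem_bot] at h3
    exact h3
  constructor
  · rw [injective_iff_map_eq_zero]
    intro x hx
    obtain ⟨r, rfl⟩ := Ideal.Quotient.mk_surjective x
    rw [hq_mk, Ideal.Quotient.eq_zero_iff_mem] at hx
    have := hℓJ _ hx
    rw [AlgHom.commutes] at this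
    exact this
  · -- the two lifts σ₁ = q ∘ ℓ and σ₂ = mk
    let π : (S ⧸ J ^ n) →ₐ[R] (S ⧸ J) :=
      Ideal.Quotient.factorₐ R (Ideal.pow_le_self hn0)
    have hπ_mk : ∀ s : S, π (Ideal.Quotient.mk _ s) = Ideal.Quotient.mk _ s := fun s => rfl
    have hπker : RingHom.ker (π : (S ⧸ J ^ n) →+* (S ⧸ J)) = J.map (Ideal.Quotient.mk (J ^ n)) := by
      ext x
      obtain ⟨s, rfl⟩ := Ideal.Quotient.mk_surjective x
      rw [RingHom.mem_ker]
      show π (Ideal.Quotient.mk _ s) = 0 ↔ _
      rw [hπ_mk, Ideal.Quotient.eq_zero_iff_mem]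
      constructor
      · intro h
        exact Ideal.mem_map_of_mem _ h
      · intro h
        rw [Ideal.mem_map_iff_of_surjective _ Ideal.Quotient.mk_surjective] at h
        obtain ⟨r', hr', hrr'⟩ := h
        rw [Ideal.Quotient.eq] at hrr'
        have : r' - s ∈ J := Ideal.pow_le_self hn0 hrr'
        have := J.sub_mem hr' this
        simpa using this
    have hπnil : IsNilpotent (RingHom.ker (π : (S ⧸ J ^ n) →+* (S ⧸ J))) :=
      ⟨n, by rw [hπker, ← Ideal.map_pow, Ideal.map_quotient_self]; rfl⟩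
    let qa : (R ⧸ I ^ n) →ₐ[R] (S ⧸ J ^ n) :=
      { q with
        commutes' := fun r => by
          show q (Ideal.Quotient.mk _ r) = _
          rw [hq_mk]; rfl }
    have hqa : ∀ x, qa x = q x := fun x => rfl
    have hπq : ∀ x, π (qa x) = g x := by
      intro x
      obtain ⟨r, rfl⟩ := Ideal.Quotient.mk_surjective x
      rw [hqa, hq_mk, hπ_mk, hg_mk]
      rfl
    have key : qa.comp ℓ = Ideal.Quotient.mkₐ R (J ^ n) := by
      apply Algebra.FormallyUnramified.lift_unique' π hπnil
      ext s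
      show π (qa (ℓ s)) = π (Ideal.Quotient.mk _ s)
      rw [hπq, hℓ, hπ_mk]
    intro y
    obtain ⟨s, rfl⟩ := Ideal.Quotient.mk_surjective y
    exact ⟨ℓ s, AlgHom.congr_fun key s⟩

end Groth.Agent.S9428
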