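import Groth.Statements.S9431
import Mathlib
import Groth.Agent.S2451

set_option autoImplicit false
universe u
open CAlg

namespace Groth.Agent.S9431

open scoped IntermediateField.algebraAdjoinAdjoin

/-- For a separable (geometrically reduced) field extension K/k, every finite subset of K lies in a
k-subalgebra of K which is smooth over k; in particular K is a filtered colimit of smooth
k-algebras. -/
theorem result (k : Type u) [Field k]
    (K : Type u) [Field K] [Algebra k K] [Algebra.IsGeometricallyReduced k K] (E : Finset K) :
    ∃ A : Subalgebra k K, (↑E : Set K) ⊆ (A : Set K) ∧ Algebra.Smooth k A := by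
  classical
  let B₀ : Subalgebra k K := Algebra.adjoin k (E : Set K)
  let K' : IntermediateField k K := IntermediateField.adjoin k (E : Set K)
  have : Algebra.IsGeometricallyReduced k K' :=
    Algebra.IsGeometricallyReduced.of_injective K'.val Subtype.val_injective
  have : Algebra.FormallySmooth k K' := (Groth.Agent.S2451.result).mpr inferInstance
  have : Algebra.FiniteType k B₀ :=
    (Subalgebra.fg_iff_finiteType _).mp (Subalgebra.fg_adjoin_finset E)
  have : Algebra.FinitePresentation k B₀ := Algebra.FinitePresentation.of_finiteType.mp inferInstance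
  have hloc : IsLocalization (⊥ : Ideal B₀).primeCompl K' := by
    rw [Ideal.primeCompl_bot]
    exact (inferInstance : IsFractionRing (Algebra.adjoin k (E : Set K)) (IntermediateField.adjoin k (E : Set K)))
  let e : K' ≃ₐ[k] Localization.AtPrime (⊥ : Ideal B₀) :=
    (IsLocalization.algEquiv (⊥ : Ideal B₀).primeCompl K'
      (Localization.AtPrime (⊥ : Ideal B₀))).restrictScalars k
  have hsmAt : Algebra.IsSmoothAt k (⊥ : Ideal B₀) := Algebra.FormallySmooth.of_equiv e
  obtain ⟨f, hf, hsm⟩ := Algebra.IsSmoothAt.exists_notMem_smooth k (⊥ : Ideal B₀)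
  have hf0 : f ≠ 0 := fun h => hf (by rw [h]; exact Ideal.zero_mem _)
  have hunit : ∀ y : Submonoid.powers f, IsUnit (B₀.val (y : B₀)) := by
    rintro ⟨_, n, rfl⟩
    rw [map_pow]
    refine IsUnit.pow n (IsUnit.mk0 _ ?_)
    intro h0
    exact hf0 (Subtype.ext h0)
  let φ : Localization.Away f →ₐ[k] K := IsLocalization.liftAlgHom (M := Submonoid.powers f) hunit
  have hφ : ∀ b : B₀, φ (algebraMap B₀ (Localization.Away f) b) = (b : K) := by
    intro b
    exact IsLocalization.lift_eq hunit b
  have hinj : Function.Injective φ := by
    change Function.Injective (IsLocalization.lift hunit)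
    rw [IsLocalization.lift_injective_iff]
    intro x y
    have h1 : Function.Injective (algebraMap B₀ (Localization.Away f)) :=
      IsLocalization.injective _ (powers_le_nonZeroDivisors_of_noZeroDivisors hf0)
    constructor
    · intro h
      rw [h1 h]
    · intro h
      have : x = y := Subtype.ext h
      rw [this]
  refine ⟨φ.range, ?_, ?_⟩
  · intro x hx
    refine ⟨algebraMap B₀ (Localization.Away f) ⟨x, Algebra.subset_adjoin hx⟩, ?_⟩
    exact hφ _
  · exact Algebra.Smooth.of_equiv (AlgEquiv.ofInjective φ hinj)

end Groth.Agent.S9431
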