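import Groth.Statements.S9434
import Groth.Agent.Lib.Helper3.SplitAlg2

set_option autoImplicit false
universe u
open CAlg

namespace Groth.Agent.S9434

/-- Let R → S be a local homomorphism of local rings with S the localization of an étale R-algebra at a
prime. Then there is a finite, finitely presented, faithfully flat R-algebra S' such that for every
maximal ideal m' of S' the structure map R → S'_{m'} factors through some R-algebra map S → S'_{m'}. -/
theorem result (R : Type u) [CommRing R] [IsLocalRing R] (T : Type u) [CommRing T] [Algebra R T]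
    [Algebra.Etale R T] (q : Ideal T) [q.IsPrime] (S : Type u) [CommRing S] [IsLocalRing S]
    [Algebra T S] [IsLocalization.AtPrime S q] [Algebra R S] [IsScalarTower R T S]
    [IsLocalHom (algebraMap R S)] :
    ∃ (S' : Type u) (_ : CommRing S') (_ : Algebra R S'),
      Module.Finite R S' ∧ Algebra.FinitePresentation R S' ∧ Module.FaithfullyFlat R S' ∧
        ∀ (m' : Ideal S') [m'.IsMaximal], Nonempty (S →ₐ[R] Localization.AtPrime m') := by
  obtain ⟨S', _, _, hfin, hfp, hff, H⟩ :=
    Groth.Agent.Lib.Helper3.exists_finite_flat_cover_dominating_of_etale R T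
  refine ⟨S', inferInstance, inferInstance, hfin, hfp, hff, ?_⟩
  intro m' _
  -- both primes lie over the maximal ideal of R
  have h1 : m'.under R = IsLocalRing.maximalIdeal R := by
    have : (m'.under R).IsMaximal :=
      Ideal.isMaximal_comap_of_isIntegral_of_isMaximal (R := R) m'
    exact IsLocalRing.eq_maximalIdeal ‹_›
  have h2 : q.under R = IsLocalRing.maximalIdeal R := by
    have hq : q = (IsLocalRing.maximalIdeal S).comap (algebraMap T S) :=
      (IsLocalization.AtPrime.under_maximalIdeal S q).symm
    rw [hq, Ideal.under, Ideal.comap_comap, ← IsScalarTower.algebraMap_eq]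
    exact ((IsLocalRing.local_hom_TFAE (algebraMap R S)).out 0 4 rfl rfl).mp inferInstance
  obtain ⟨g', hg', φ, hφ⟩ := H q m' (h1.trans h2.symm)
  have hgu : IsUnit (algebraMap S' (Localization.AtPrime m') g') :=
    (IsLocalization.AtPrime.isUnit_to_map_iff _ m' g').mpr hg'
  let ρ : Localization.Away g' →ₐ[R] Localization.AtPrime m' :=
    IsLocalization.liftAlgHom (M := Submonoid.powers g')
      (f := IsScalarTower.toAlgHom R S' (Localization.AtPrime m')) (by
        rintro ⟨_, k, rfl⟩
        simpa using hgu.pow k)
  have hρ : ∀ x : Localization.Away g', x ∉ m'.map (algebraMap S' (Localization.Away g')) →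
      IsUnit (ρ x) := by
    intro x hx
    obtain ⟨a, s, rfl⟩ := IsLocalization.exists_mk'_eq (Submonoid.powers g') x
    have ha : a ∉ m' := by
      intro ha
      apply hx
      rw [IsLocalization.mk'_mem_map_algebraMap_iff]
      exact ⟨1, one_mem _, by simpa using ha⟩
    have hmul : ρ (IsLocalization.mk' (Localization.Away g') a s) *
        ρ (algebraMap S' _ (s : S')) = algebraMap S' (Localization.AtPrime m') a := by
      rw [← map_mul, IsLocalization.mk'_spec]
      simp [ρ, IsLocalization.liftAlgHom]
    have hau : IsUnit (algebraMap S' (Localization.AtPrime m') a) :=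
      (IsLocalization.AtPrime.isUnit_to_map_iff _ m' a).mpr ha
    rw [← hmul] at hau
    exact isUnit_of_mul_isUnit_left hau
  refine ⟨IsLocalization.liftAlgHom (M := q.primeCompl) (f := ρ.comp φ) ?_⟩
  rintro ⟨t, ht⟩
  apply hρ
  intro hmem
  apply ht
  rw [← hφ]
  exact hmem

end Groth.Agent.S9434
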