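import Groth.Statements.S9435
import Mathlib

set_option autoImplicit false
universe u
open CAlg

namespace Groth.Agent.S9435

/-- Given a prime p of a ring R and a finite separable extension L of κ(p), there is an étale R-algebra
R' with a prime p' over p whose residue field is κ(p)-isomorphic to L. Stated through an R-algebra
map ψ : R' → L whose image generates the field L: its kernel is such a prime p' and the induced
κ(p') → L is then an isomorphism over κ(p). -/
theorem result (R : Type u) [CommRing R]
    (p : Ideal R) [p.IsPrime] (L : Type u) [Field L] [Algebra p.ResidueField L] [Algebra R L]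
    [IsScalarTower R p.ResidueField L] [Module.Finite p.ResidueField L]
    [Algebra.IsSeparable p.ResidueField L] :
    ∃ (R' : Type u) (_ : CommRing R') (_ : Algebra R R') (_ : Algebra.Etale R R') (ψ : R' →ₐ[R] L),
      Subfield.closure (Set.range ψ) = ⊤ := by
  classical
  -- notation
  let κ := p.ResidueField
  let A := R ⧸ p
  obtain ⟨α, hα⟩ := Field.exists_primitive_element κ L
  have hαint : IsIntegral κ α := Algebra.IsIntegral.isIntegral α
  let m := minpoly κ α
  have hm : m.Monic := minpoly.monic hαint
  -- common denominator
  let c₀ : nonZeroDivisors A := IsLocalization.commonDenom (nonZeroDivisors A) m.support m.coeff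
  let c : κ := algebraMap A κ c₀
  have hc : c ≠ 0 := by
    have := IsFractionRing.injective A κ
    intro h
    have h0 : (c₀ : A) = 0 := this (by simp only [c] at h; simpa using h)
    exact nonZeroDivisors.coe_ne_zero c₀ h0
  have hlift : m.scaleRoots c ∈ Polynomial.lifts (algebraMap A κ) :=
    IsLocalization.scaleRoots_commonDenom_mem_lifts (nonZeroDivisors A) m
      (by rw [hm.leadingCoeff]; exact one_mem _)
  have hmonic : (m.scaleRoots c).Monic := (Polynomial.monic_scaleRoots_iff c).mpr hm
  obtain ⟨g, hg, -, hgm⟩ := Polynomial.lifts_and_degree_eq_and_monic hlift hmonic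
  obtain ⟨f₀, hf₀⟩ := Polynomial.map_surjective (Ideal.Quotient.mk p) Ideal.Quotient.mk_surjective g
  obtain ⟨f, hf, -, hfm⟩ := Polynomial.lifts_and_degree_eq_and_monic
    ((Polynomial.mem_lifts g).mpr ⟨f₀, hf₀⟩) hgm
  -- the image of f in κ[X]
  have hfκ : f.map (algebraMap R κ) = m.scaleRoots c := by
    rw [IsScalarTower.algebraMap_eq R A κ, ← Polynomial.map_map]
    rw [show f.map (algebraMap R A) = g from hf, hg]
  -- the scaled element
  let α' : L := c • α
  have hmin : minpoly κ α' = m.scaleRoots c := IsIntegrallyClosed.minpoly_smul hc hαint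
  have hsep : (minpoly κ α').Separable := Algebra.IsSeparable.isSeparable κ α'
  have haeval (q : Polynomial R) : Polynomial.aeval α' q =
      Polynomial.aeval α' (q.map (algebraMap R κ)) := by
    rw [Polynomial.aeval_map_algebraMap]
  have hroot : Polynomial.aeval α' f = 0 := by
    rw [haeval, hfκ, ← hmin]; exact minpoly.aeval κ α'
  have hder : Polynomial.aeval α' (Polynomial.derivative f) ≠ 0 := by
    rw [haeval, ← Polynomial.derivative_map, hfκ, ← hmin]
    exact hsep.aeval_derivative_ne_zero (minpoly.aeval κ α')
  -- the standard etale algebra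
  let P : StandardEtalePair R :=
    { f := f, monic_f := hfm, g := Polynomial.derivative f,
      cond := ⟨1, 0, 1, by simp⟩ }
  have hP : P.HasMap α' := ⟨hroot, IsUnit.mk0 _ hder⟩
  let ψ : P.Ring →ₐ[R] L := P.lift α' hP
  refine ⟨P.Ring, inferInstance, inferInstance, inferInstance, ψ, ?_⟩
  -- generation
  set K := Subfield.closure (Set.range ψ) with hK
  have hR (r : R) : algebraMap R L r ∈ K :=
    Subfield.subset_closure ⟨algebraMap R P.Ring r, by simp⟩
  have hκ (x : κ) : algebraMap κ L x ∈ K := by
    obtain ⟨a, b, hb, rfl⟩ := IsFractionRing.div_surjective (A := A) x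
    obtain ⟨a, rfl⟩ := Ideal.Quotient.mk_surjective a
    obtain ⟨b, rfl⟩ := Ideal.Quotient.mk_surjective b
    rw [map_div₀]
    refine K.div_mem ?_ ?_
    · have := hR a
      rwa [IsScalarTower.algebraMap_apply R κ L, IsScalarTower.algebraMap_apply R A κ] at this
    · have := hR b
      rwa [IsScalarTower.algebraMap_apply R κ L, IsScalarTower.algebraMap_apply R A κ] at this
  have hα' : α' ∈ K := Subfield.subset_closure ⟨P.X, by simp [ψ]⟩
  have hαK : α ∈ K := by
    have h1 : α = (algebraMap κ L c)⁻¹ * α' := by
      simp only [α', Algebra.smul_def]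
      rw [inv_mul_cancel_left₀]
      simpa using hc
    rw [h1]
    exact K.mul_mem (K.inv_mem (hκ c)) hα'
  let K' : IntermediateField κ L := Subfield.toIntermediateField K hκ
  have hle : IntermediateField.adjoin κ {α} ≤ K' := by
    rw [IntermediateField.adjoin_le_iff]
    rintro _ rfl
    exact hαK
  rw [hα] at hle
  rw [eq_top_iff]
  intro x _
  exact hle (IntermediateField.mem_top : x ∈ (⊤ : IntermediateField κ L))

end Groth.Agent.S9435
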