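import Groth.Statements.S9441
import Groth.Agent.H46.JacobianCrit2
import Groth.Agent.Lib.Helper9.StandardSmoothQuot

set_option autoImplicit false
universe u
open Synt

namespace Groth.Agent.S9441

/-- For a relative global complete intersection S = R[x_1, …, x_n]/(f_1, …, f_c) and a prime q of S, the
map R → S is smooth at q if and only if some c × c minor of the Jacobian matrix (∂f_j/∂x_i), taken
on c distinct variables, has image outside q. -/
theorem result (R : Type u) [CommRing R] (n c : ℕ)
    (F : Fin c → MvPolynomial (Fin n) R) (hF : Synt.IsRelGCI R n c F)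
    (q : Ideal (Synt.RelGCIRing R n c F)) [q.IsPrime] :
    Algebra.IsSmoothAt R q ↔ ∃ I : Fin c ↪ Fin n,
      Ideal.Quotient.mk (Ideal.span (Set.range F))
        (Matrix.det (Matrix.of fun j i => MvPolynomial.pderiv (I i) (F j))) ∉ q := by
  classical
  have hfp : Algebra.FinitePresentation R (Synt.RelGCIRing R n c F) :=
    (Algebra.Presentation.naive (v := F)).finitePresentation_of_isFinite
  constructor
  · intro hsm
    obtain ⟨g, hg, hss⟩ := Algebra.IsSmoothAt.exists_notMem_isStandardSmooth R q
    obtain ⟨d', hd'⟩ : ∃ d', Algebra.IsStandardSmoothOfRelativeDimension d' R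
        (Localization.Away g) := by
      obtain ⟨ι, σ, _, _, ⟨P⟩⟩ := hss
      exact ⟨P.dimension, ⟨ι, σ, _, inferInstance, P, rfl⟩⟩
    obtain ⟨hc, hd⟩ := Groth.Agent.H46.JacobianCrit.relDim_eq R n c F hF g d' q hg
    obtain ⟨K, _, _, hq0, hC⟩ := Groth.Agent.H46.JacobianCrit.exists_field_finrank_tensor_kaehler
      R (Synt.RelGCIRing R n c F) g d' q hg
    have hG := Groth.Agent.H46.JacobianCrit.finrank_tensor_kaehler_add R n c F K
    rw [hC] at hG
    have hli := (linearIndependent_iff_card_eq_finrank_span (R := K)
      (b := (Matrix.of fun (j : Fin c) (i : Fin n) =>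
        algebraMap (Synt.RelGCIRing R n c F) K
          (Ideal.Quotient.mk (Ideal.span (Set.range F)) (MvPolynomial.pderiv i (F j)))).row)).mpr (by
      rw [Fintype.card_fin]
      unfold Set.finrank
      omega)
    obtain ⟨I, hI⟩ := Groth.Agent.H46.JacobianCrit.exists_det_submatrix_ne_zero _ hli
    refine ⟨I, fun hmem => hI ?_⟩
    have hmap : (Matrix.of fun (j : Fin c) (i : Fin n) =>
        algebraMap (Synt.RelGCIRing R n c F) K
          (Ideal.Quotient.mk (Ideal.span (Set.range F)) (MvPolynomial.pderiv i (F j)))).submatrix id I =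
        ((algebraMap (Synt.RelGCIRing R n c F) K).comp
          (Ideal.Quotient.mk (Ideal.span (Set.range F)))).mapMatrix
          (Matrix.of fun j i => MvPolynomial.pderiv (I i) (F j)) := by
      ext j i
      rfl
    rw [hmap, ← RingHom.map_det, RingHom.comp_apply]
    exact hq0 _ hmem
  · rintro ⟨I, hI⟩
    set b := Ideal.Quotient.mk (Ideal.span (Set.range F))
        (Matrix.det (Matrix.of fun j i => MvPolynomial.pderiv (I i) (F j))) with hb
    have hss : Algebra.IsStandardSmooth R (Localization.Away b) :=
      Groth.Agent.Lib.Helper9.isStandardSmooth_away_of_dvd F I I.injective b (dvd_refl b)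
    have hsub := (Algebra.basicOpen_subset_smoothLocus_iff (R := R)
      (A := Synt.RelGCIRing R n c F) (f := b)).mpr inferInstance
    exact hsub (show (⟨q, inferInstance⟩ : PrimeSpectrum _) ∈ PrimeSpectrum.basicOpen b from hI)

end Groth.Agent.S9441
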