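import Groth.Statements.S9445
import Mathlib

set_option autoImplicit false
universe u
open CAlg

namespace Groth.Agent.S9445

theorem exists_lift_aux (S S' : Type u) [CommRing S] [CommRing S'] [Algebra S S']
    [Algebra.FormallyEtale S S']
    (A B : Type u) [CommRing A] [CommRing B] (ιA : S →+* A) (Q : A →+* B)
    (μA : A →+* S') (μB : B →+* S') (hμ : ∀ a, μB (Q a) = μA a)
    (hsurj : Function.Surjective μA) (hnilA : IsNilpotent (RingHom.ker μA))
    (hnilB : IsNilpotent (RingHom.ker μB))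
    (hιA : ∀ s, μA (ιA s) = algebraMap S S' s)
    (rB : S' →+* B) (hrB : ∀ y, μB (rB y) = y)
    (hrB' : ∀ s, rB (algebraMap S S' s) = Q (ιA s)) :
    ∃ l : S' →+* A, (∀ s, l (algebraMap S S' s) = ιA s) ∧ (∀ y, μA (l y) = y) ∧
      ∀ y, Q (l y) = rB y := by
  letI : Algebra S A := ιA.toAlgebra
  letI : Algebra S B := (Q.comp ιA).toAlgebra
  let μAₐ : A →ₐ[S] S' := { μA with commutes' := fun s => hιA s }
  have hsurj' : Function.Surjective μAₐ := hsurj
  have hnil' : IsNilpotent (RingHom.ker (μAₐ : A →+* S')) := hnilA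
  let l : S' →ₐ[S] A :=
    Algebra.FormallySmooth.liftOfSurjective (AlgHom.id S S') μAₐ hsurj' hnil'
  have hl : ∀ y, μA (l y) = y := fun y =>
    Algebra.FormallySmooth.liftOfSurjective_apply (AlgHom.id S S') μAₐ hsurj' hnil' y
  let g₁ : S' →ₐ[S] B :=
    { Q.comp l.toRingHom with
      commutes' := fun s => by
        show Q (l (algebraMap S S' s)) = Q (ιA s)
        rw [l.commutes]; rfl }
  let g₂ : S' →ₐ[S] B :=
    { rB with commutes' := fun s => hrB' s }
  have hg : g₁ = g₂ := by
    apply Algebra.FormallyUnramified.ext' μB hnilB g₁ g₂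
    intro y
    show μB (Q (l y)) = μB (rB y)
    rw [hμ, hl, hrB]
  refine ⟨l.toRingHom, fun s => l.commutes s, hl, fun y => ?_⟩
  exact AlgHom.congr_fun hg y

open TensorProduct in
/-- For ring maps R → S → S' with S → S' formally étale and k ≥ 0, let J' ⊆ S' ⊗_R S' be the kernel of
multiplication and I ⊆ S' ⊗_R S its preimage under the map induced by S → S' (I is the kernel of S'
⊗_R S → S', and (S' ⊗_R S)/I^{k+1} is S' ⊗_S P^k_{S/R}); then (S' ⊗_R S)/I^{k+1} → (S' ⊗_R
S')/J'^{k+1} is bijective. (The consequence S' ⊗_S Ω_{S/R} ≅ Ω_{S'/R} is Mathlib's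
KaehlerDifferential.isBaseChange_of_formallyEtale.) -/
theorem result (R : Type u) [CommRing R]
    (S : Type u) [CommRing S] [Algebra R S] (S' : Type u) [CommRing S'] [Algebra R S']
    [Algebra S S'] [IsScalarTower R S S'] [Algebra.FormallyEtale S S'] (k : ℕ) :
    Function.Bijective (Ideal.quotientMap (KaehlerDifferential.ideal R S' ^ (k + 1))
      (Algebra.TensorProduct.map (AlgHom.id S' S') (IsScalarTower.toAlgHom R S S')).toRingHom
      (Ideal.le_comap_pow
        (Algebra.TensorProduct.map (AlgHom.id S' S') (IsScalarTower.toAlgHom R S S')).toRingHom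
        (K := KaehlerDifferential.ideal R S') (k + 1))) := by
  classical
  -- abbreviations
  let φ : TensorProduct R S' S →+* TensorProduct R S' S' :=
    (Algebra.TensorProduct.map (AlgHom.id S' S') (IsScalarTower.toAlgHom R S S')).toRingHom
  have hφ : ∀ (x : S') (s : S), φ (x ⊗ₜ[R] s) = x ⊗ₜ[R] algebraMap S S' s := fun x s => by
    simp [φ]
  let m' : TensorProduct R S' S' →+* S' := (Algebra.TensorProduct.lmul' R : _ →ₐ[R] S').toRingHom
  have hm' : ∀ x y : S', m' (x ⊗ₜ[R] y) = x * y := fun x y => by simp [m']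
  obtain ⟨J', hJ'⟩ : ∃ J : Ideal (TensorProduct R S' S'), J = KaehlerDifferential.ideal R S' := ⟨_, rfl⟩
  have hJ'mem : ∀ t, t ∈ J' ↔ m' t = 0 := fun t => by rw [hJ']; exact RingHom.mem_ker
  let μ : TensorProduct R S' S →+* S' := m'.comp φ
  have hμ : ∀ (x : S') (s : S), μ (x ⊗ₜ[R] s) = x * algebraMap S S' s := fun x s => by
    simp only [μ, RingHom.comp_apply, hφ, hm']
  obtain ⟨I₀, hI₀⟩ : ∃ I : Ideal (TensorProduct R S' S), I = J'.comap φ := ⟨_, rfl⟩
  have hI₀mem : ∀ t, t ∈ I₀ ↔ μ t = 0 := fun t => by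
    rw [hI₀, Ideal.mem_comap, hJ'mem]; rfl
  -- the quotient rings
  let A := TensorProduct R S' S ⧸ I₀ ^ (k + 1)
  let B := TensorProduct R S' S' ⧸ J' ^ (k + 1)
  let mkA : TensorProduct R S' S →+* A := Ideal.Quotient.mk _
  let mkB : TensorProduct R S' S' →+* B := Ideal.Quotient.mk _
  have hle : I₀ ^ (k + 1) ≤ (J' ^ (k + 1)).comap φ := by
    rw [hI₀]; exact Ideal.le_comap_pow φ (k + 1)
  let Q : A →+* B := Ideal.quotientMap (J' ^ (k + 1)) φ hle
  have hQ : ∀ t, Q (mkA t) = mkB (φ t) := fun t => Ideal.quotientMap_mk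
  suffices hbij : Function.Bijective Q by
    subst hJ' hI₀
    exact hbij
  -- the augmentations
  let μA : A →+* S' := Ideal.Quotient.lift (I₀ ^ (k + 1)) μ (fun a ha =>
    (hI₀mem a).mp (Ideal.pow_le_self (Nat.succ_ne_zero k) ha))
  have hμA : ∀ t, μA (mkA t) = μ t := fun t => Ideal.Quotient.lift_mk _ _ _
  let μB : B →+* S' := Ideal.Quotient.lift (J' ^ (k + 1)) m' (fun a ha =>
    (hJ'mem a).mp (Ideal.pow_le_self (Nat.succ_ne_zero k) ha))
  have hμB : ∀ t, μB (mkB t) = m' t := fun t => Ideal.Quotient.lift_mk _ _ _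
  have hμBQ : ∀ a, μB (Q a) = μA a := by
    intro a
    obtain ⟨t, rfl⟩ := Ideal.Quotient.mk_surjective a
    rw [show Q (Ideal.Quotient.mk _ t) = mkB (φ t) from hQ t, hμB]
    exact (hμA t).symm
  have hsurj : Function.Surjective μA := by
    intro y
    refine ⟨mkA (y ⊗ₜ[R] 1), ?_⟩
    rw [hμA, hμ, map_one, mul_one]
  have hkerA : RingHom.ker μA ≤ I₀.map mkA := by
    intro a ha
    obtain ⟨t, rfl⟩ := Ideal.Quotient.mk_surjective a
    have : μ t = 0 := by rw [← hμA]; exact ha
    exact Ideal.mem_map_of_mem _ ((hI₀mem t).mpr this)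
  have hnilA : IsNilpotent (RingHom.ker μA) := by
    refine ⟨k + 1, ?_⟩
    rw [Ideal.zero_eq_bot, eq_bot_iff]
    refine (Ideal.pow_right_mono hkerA (k + 1)).trans ?_
    rw [← Ideal.map_pow, Ideal.map_quotient_self]
  have hkerB : RingHom.ker μB ≤ J'.map mkB := by
    intro a ha
    obtain ⟨t, rfl⟩ := Ideal.Quotient.mk_surjective a
    have : m' t = 0 := by rw [← hμB]; exact ha
    exact Ideal.mem_map_of_mem _ ((hJ'mem t).mpr this)
  have hnilB : IsNilpotent (RingHom.ker μB) := by
    refine ⟨k + 1, ?_⟩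
    rw [Ideal.zero_eq_bot, eq_bot_iff]
    refine (Ideal.pow_right_mono hkerB (k + 1)).trans ?_
    rw [← Ideal.map_pow, Ideal.map_quotient_self]
  -- structure maps
  let ιA : S →+* A := mkA.comp (Algebra.TensorProduct.includeRight : S →ₐ[R] TensorProduct R S' S).toRingHom
  have hιA : ∀ s, ιA s = mkA (1 ⊗ₜ[R] s) := fun s => rfl
  let rB : S' →+* B := mkB.comp (Algebra.TensorProduct.includeRight : S' →ₐ[R] TensorProduct R S' S').toRingHom
  have hrB : ∀ y, rB y = mkB (1 ⊗ₜ[R] y) := fun y => rfl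
  obtain ⟨l, hl1, hl2, hl3⟩ := exists_lift_aux S S' A B ιA Q μA μB hμBQ hsurj hnilA hnilB
    (fun s => by rw [hιA, hμA, hμ, one_mul]) rB
    (fun y => by rw [hrB, hμB, hm', one_mul])
    (fun s => by rw [hrB, hιA, hQ, hφ])
  -- the inverse map
  let leftA : S' →ₐ[R] A := (Ideal.Quotient.mkₐ R _).comp
    (Algebra.TensorProduct.includeLeft : S' →ₐ[R] TensorProduct R S' S)
  have hleftA : ∀ x, leftA x = mkA (x ⊗ₜ[R] 1) := fun x => rfl
  let rightA : S' →ₐ[R] A :=
    { l with
      commutes' := fun r => by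
        show l (algebraMap R S' r) = algebraMap R A r
        rw [IsScalarTower.algebraMap_apply R S S', hl1, hιA]
        show mkA (1 ⊗ₜ[R] (algebraMap R S r)) = mkA (algebraMap R (TensorProduct R S' S) r)
        congr 1
        rw [Algebra.TensorProduct.algebraMap_apply, ← Algebra.TensorProduct.tmul_one_eq_one_tmul] }
  have hrightA : ∀ y, rightA y = l y := fun y => rfl
  let ν : TensorProduct R S' S' →ₐ[R] A :=
    Algebra.TensorProduct.lift leftA rightA (fun _ _ => Commute.all _ _)
  have hν : ∀ x y, ν (x ⊗ₜ[R] y) = mkA (x ⊗ₜ[R] 1) * l y := fun x y => by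
    simp only [ν, Algebra.TensorProduct.lift_tmul, hleftA, hrightA]
  have hμAν : ∀ t, μA (ν t) = m' t := by
    intro t
    induction t using TensorProduct.induction_on with
    | zero => simp
    | tmul x y => rw [hν, map_mul, hμA, hμ, hl2, hm', map_one, mul_one]
    | add x y hx hy => simp only [map_add, hx, hy]
  have hνker : J' ^ (k + 1) ≤ RingHom.ker ν.toRingHom := by
    have h1 : J' ≤ (RingHom.ker μA).comap ν.toRingHom := by
      intro t ht
      rw [Ideal.mem_comap, RingHom.mem_ker]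
      exact (hμAν t).trans ((hJ'mem t).mp ht)
    refine (Ideal.pow_right_mono h1 (k + 1)).trans ?_
    refine (Ideal.le_comap_pow _ _).trans ?_
    obtain ⟨n, hn⟩ := hnilA
    intro t ht
    rw [Ideal.mem_comap] at ht
    have hkk : RingHom.ker μA ^ (k + 1) = ⊥ := by
      rw [eq_bot_iff]
      refine (Ideal.pow_right_mono hkerA (k + 1)).trans ?_
      rw [← Ideal.map_pow, Ideal.map_quotient_self]
    rw [hkk, Ideal.mem_bot] at ht
    exact ht
  let νB : B →+* A := Ideal.Quotient.lift (J' ^ (k + 1)) ν.toRingHom (fun a ha => hνker ha)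
  have hνB : ∀ t, νB (mkB t) = ν t := fun t => Ideal.Quotient.lift_mk _ _ _
  have hleft : ∀ a, νB (Q a) = a := by
    intro a
    obtain ⟨t, rfl⟩ := Ideal.Quotient.mk_surjective a
    show νB (Q (mkA t)) = mkA t
    induction t using TensorProduct.induction_on with
    | zero => simp
    | tmul x s =>
      rw [hQ, hφ, hνB, hν, hl1, hιA, ← map_mul, Algebra.TensorProduct.tmul_mul_tmul, mul_one, one_mul]
    | add x y hx hy => simp only [map_add, hx, hy]
  have hright : ∀ b, Q (νB b) = b := by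
    intro b
    obtain ⟨t, rfl⟩ := Ideal.Quotient.mk_surjective b
    show Q (νB (mkB t)) = mkB t
    induction t using TensorProduct.induction_on with
    | zero => simp
    | tmul x y =>
      rw [hνB, hν, map_mul, hQ, hφ, map_one, hl3, hrB, ← map_mul,
        Algebra.TensorProduct.tmul_mul_tmul, mul_one, one_mul]
    | add x y hx hy => simp only [map_add, hx, hy]
  exact ⟨Function.LeftInverse.injective hleft, Function.RightInverse.surjective hright⟩

end Groth.Agent.S9445
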