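import Groth.Statements.S9448
import Groth.Agent.H46.EtaleCrit

set_option autoImplicit false
universe u
open Unram

namespace Groth.Agent.S9448

/-- For a field k and a finite type algebra A over the polynomial ring k[x_1, …, x_n] (the variables
mapping to a_1, …, a_n), the structure map is étale if and only if (a) the local rings of A at all
maximal ideals have dimension n and (b) da_1, …, da_n generate the module of differentials of A over
k. -/
theorem result (k : Type u) [Field k] (n : ℕ)
    (A : Type u) [CommRing A] [Algebra k A] [Algebra (MvPolynomial (Fin n) k) A]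
    [IsScalarTower k (MvPolynomial (Fin n) k) A] [Algebra.FiniteType (MvPolynomial (Fin n) k) A] :
    Algebra.Etale (MvPolynomial (Fin n) k) A ↔
      (∀ (m : Ideal A) [m.IsMaximal], ringKrullDim (Localization.AtPrime m) = n) ∧
        Submodule.span A (Set.range fun i : Fin n =>
          KaehlerDifferential.D k A (algebraMap (MvPolynomial (Fin n) k) A (MvPolynomial.X i))) = ⊤ := by
  classical
  constructor
  · intro het
    refine ⟨fun m _ => ?_, ?_⟩
    · rw [IsLocalization.AtPrime.ringKrullDim_eq_height m (Localization.AtPrime m),
        Groth.Agent.H46.SmoothDim.height_eq k n A m]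
      rfl
    · have hfe : Algebra.FormallyEtale (MvPolynomial (Fin n) k) A := inferInstance
      let e := KaehlerDifferential.tensorKaehlerEquivOfFormallyEtale k (MvPolynomial (Fin n) k) A
      let b : Module.Basis (Fin n) A (Ω[A⁄k]) :=
        ((KaehlerDifferential.mvPolynomialBasis k (Fin n)).baseChange A).map e
      have hb : ∀ i, b i = KaehlerDifferential.D k A
          (algebraMap (MvPolynomial (Fin n) k) A (MvPolynomial.X i)) := by
        intro i
        simp [b, e, KaehlerDifferential.tensorKaehlerEquivOfFormallyEtale_apply]
      have := b.span_eq
      rw [← this]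
      congr 1
      ext x
      simp [hb]
  · rintro ⟨ha, hb⟩
    have hunr : Algebra.FormallyUnramified (MvPolynomial (Fin n) k) A := by
      constructor
      refine ⟨fun x y => ?_⟩
      suffices h : ∀ z : Ω[A⁄MvPolynomial (Fin n) k], z = 0 by rw [h x, h y]
      intro z
      obtain ⟨w, rfl⟩ := KaehlerDifferential.map_surjective k (MvPolynomial (Fin n) k) A z
      have hw : w ∈ Submodule.span A (Set.range fun i : Fin n =>
          KaehlerDifferential.D k A (algebraMap (MvPolynomial (Fin n) k) A (MvPolynomial.X i))) := by
        rw [hb]; trivial
      refine Submodule.span_induction ?_ ?_ ?_ ?_ hw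
      · rintro _ ⟨i, rfl⟩
        rw [KaehlerDifferential.map_D]
        exact (KaehlerDifferential.D (MvPolynomial (Fin n) k) A).map_algebraMap _
      · exact map_zero _
      · intro x y _ _ hx hy
        rw [map_add, hx, hy, add_zero]
      · intro a x _ hx
        rw [map_smul, hx, smul_zero]
    have hflat : Module.Flat (MvPolynomial (Fin n) k) A :=
      Module.flat_of_isLocalized_maximal A A (fun m => Localization.AtPrime m)
        (fun m => Algebra.linearMap A _)
        (fun m _ => Groth.Agent.H46.EtaleCrit.flat_atPrime k n A m (ha m))
    have hfp : Algebra.FinitePresentation (MvPolynomial (Fin n) k) A :=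
      Algebra.FinitePresentation.of_finiteType.mp inferInstance
    exact Algebra.Etale.of_formallyUnramified_of_flat

end Groth.Agent.S9448
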