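import Groth.Statements.S9450
import Mathlib

set_option autoImplicit false
universe u
open CAlg

namespace Groth.Agent.S9450

/-- For ring maps A → B → C with A → C surjective and A → B formally smooth, writing I = ker(A → C) and
J = ker(B → C), the sequence 0 → I/I² → J/J² → C ⊗_B Ω_{B/A} → 0 is split exact: the first map is
injective and admits an A-linear retraction, its range is the kernel of the second map (class of x ↦
1 ⊗ dx), and the second map is surjective. -/
theorem result (A : Type u) [CommRing A]
    (B : Type u) [CommRing B] [Algebra A B] [Algebra.FormallySmooth A B] (C : Type u) [CommRing C]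
    [Algebra B C] [Algebra A C] [IsScalarTower A B C] (hC : Function.Surjective (algebraMap A C)) :
    Function.Injective (Ideal.mapCotangent (RingHom.ker (algebraMap A C))
        (RingHom.ker (algebraMap B C)) (Algebra.ofId A B)
        (le_of_eq (congrArg RingHom.ker (IsScalarTower.algebraMap_eq A B C)))) ∧
      (∃ r : (RingHom.ker (algebraMap B C)).Cotangent →ₗ[A] (RingHom.ker (algebraMap A C)).Cotangent,
        r ∘ₗ (Ideal.mapCotangent (RingHom.ker (algebraMap A C)) (RingHom.ker (algebraMap B C))
          (Algebra.ofId A B)
          (le_of_eq (congrArg RingHom.ker (IsScalarTower.algebraMap_eq A B C)))) = LinearMap.id) ∧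
      LinearMap.range (Ideal.mapCotangent (RingHom.ker (algebraMap A C))
          (RingHom.ker (algebraMap B C)) (Algebra.ofId A B)
          (le_of_eq (congrArg RingHom.ker (IsScalarTower.algebraMap_eq A B C)))) =
        LinearMap.ker ((KaehlerDifferential.kerCotangentToTensor A B C).restrictScalars A) ∧
      Function.Surjective (KaehlerDifferential.kerCotangentToTensor A B C) := by
  set ι := Ideal.mapCotangent (RingHom.ker (algebraMap A C))
        (RingHom.ker (algebraMap B C)) (Algebra.ofId A B)
        (le_of_eq (congrArg RingHom.ker (IsScalarTower.algebraMap_eq A B C))) with hι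
  have hBC : Function.Surjective (algebraMap B C) := by
    intro c
    obtain ⟨a, rfl⟩ := hC c
    exact ⟨algebraMap A B a, (IsScalarTower.algebraMap_apply A B C a).symm⟩
  let P₁ : Algebra.Extension A C := ⟨A, Function.surjInv hC, Function.surjInv_eq hC⟩
  let P₂ : Algebra.Extension A C := ⟨B, Function.surjInv hBC, Function.surjInv_eq hBC⟩
  let φ : P₁.Hom P₂ :=
    { toRingHom := algebraMap A B
      toRingHom_algebraMap := fun x => rfl
      algebraMap_toRingHom := fun x => (IsScalarTower.algebraMap_apply A B C x).symm }
  haveI : Algebra.FormallySmooth A P₁.Ring := (inferInstance : Algebra.FormallySmooth A A)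
  haveI : Algebra.FormallySmooth A P₂.Ring := (inferInstance : Algebra.FormallySmooth A B)
  have hbij : Function.Bijective (Algebra.Extension.H1Cotangent.map φ) := by
    have := (Algebra.Extension.H1Cotangent.equivOfFormallySmooth P₁ P₂).bijective
    convert this using 1
    ext x
    exact congrArg Subtype.val (Algebra.Extension.H1Cotangent.equivOfFormallySmooth_apply φ x).symm
  have hsub : Subsingleton P₁.CotangentSpace := by
    have : Subsingleton (KaehlerDifferential A A) := inferInstance
    show Subsingleton (TensorProduct A C (KaehlerDifferential A A))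
    infer_instance
  have hmem : ∀ x : P₁.Cotangent, x ∈ LinearMap.ker P₁.cotangentComplex :=
    fun x => Subsingleton.elim _ _
  have hιmap : ∀ x : (RingHom.ker (algebraMap A C)).Cotangent,
      (Algebra.Extension.Cotangent.map φ (.of x)).val = ι x := by
    intro x
    obtain ⟨x, rfl⟩ := Ideal.toCotangent_surjective _ x
    rfl
  have hcc : ∀ y : P₂.Cotangent,
      P₂.cotangentComplex y = KaehlerDifferential.kerCotangentToTensor A B C y.val := fun y => rfl
  have hH1val : ∀ x : P₁.H1Cotangent,
      (Algebra.Extension.H1Cotangent.map φ x).1 = Algebra.Extension.Cotangent.map φ x.1 :=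
    fun x => rfl
  let mk1 : P₁.Cotangent → P₁.H1Cotangent := fun x => ⟨x, hmem x⟩
  have hmk1 : ∀ x, (mk1 x).1 = x := fun x => rfl
  let mk2 : ∀ y : P₂.Cotangent, y ∈ LinearMap.ker P₂.cotangentComplex → P₂.H1Cotangent :=
    fun y hy => ⟨y, hy⟩
  have hmk2 : ∀ y hy, (mk2 y hy).1 = y := fun y hy => rfl
  -- injectivity
  have hinj : Function.Injective ι := by
    intro x y hxy
    have h1 : mk1 (.of x) = mk1 (.of y) := by
      apply hbij.injective
      apply Algebra.Extension.h1Cotangentι_ext
      rw [hH1val, hH1val, hmk1, hmk1]
      apply Algebra.Extension.Cotangent.ext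
      rw [hιmap, hιmap, hxy]
    exact congrArg (fun z : P₁.H1Cotangent => z.1.val) h1
  -- exactness
  have hexact : LinearMap.range ι =
      LinearMap.ker ((KaehlerDifferential.kerCotangentToTensor A B C).restrictScalars A) := by
    ext y
    simp only [LinearMap.mem_range, LinearMap.mem_ker, LinearMap.coe_restrictScalars]
    constructor
    · rintro ⟨x, rfl⟩
      have := (Algebra.Extension.H1Cotangent.map φ (mk1 (.of x))).2
      rw [LinearMap.mem_ker, hcc, hH1val, hmk1, hιmap] at this
      exact this
    · intro hy
      have hy' : (Algebra.Extension.Cotangent.of y : P₂.Cotangent) ∈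
          LinearMap.ker P₂.cotangentComplex := by
        rw [LinearMap.mem_ker, hcc]; exact hy
      obtain ⟨x, hx⟩ := hbij.surjective (mk2 (.of y) hy')
      refine ⟨x.1.val, ?_⟩
      have := congrArg (fun z : P₂.H1Cotangent => z.1.val) hx
      simp only [hH1val, hmk2] at this
      rw [← hιmap]
      exact this
  -- surjectivity
  have hsurj : Function.Surjective (KaehlerDifferential.kerCotangentToTensor A B C) := by
    have hex := KaehlerDifferential.exact_kerCotangentToTensor_mapBaseChange A B C hBC
    have : Subsingleton (KaehlerDifferential A C) := KaehlerDifferential.subsingleton_of_surjective A C hC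
    intro t
    exact (hex t).mp (Subsingleton.elim _ _)
  refine ⟨hinj, ?_, hexact, hsurj⟩
  have hproj : Module.Projective C P₂.CotangentSpace := by
    show Module.Projective C (TensorProduct B C (KaehlerDifferential A B))
    infer_instance
  have hccsurj : Function.Surjective P₂.cotangentComplex := by
    intro t
    obtain ⟨y, hy⟩ := hsurj t
    exact ⟨.of y, hy⟩
  obtain ⟨s, hs⟩ := Module.projective_lifting_property P₂.cotangentComplex LinearMap.id hccsurj
  have hs' : ∀ t, KaehlerDifferential.kerCotangentToTensor A B C (s t).val = t := fun t => LinearMap.congr_fun hs t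
  let l : (TensorProduct B C (KaehlerDifferential A B)) →ₗ[A] (RingHom.ker (algebraMap B C)).Cotangent :=
    { toFun := fun t => (s t).val
      map_add' := fun t t' => by rw [map_add]; rfl
      map_smul' := fun a t => by
        simp only [RingHom.id_apply]
        rw [← algebraMap_smul C a t, map_smul, algebraMap_smul,
          Algebra.Extension.Cotangent.val_smul''] }
  have hl : ((KaehlerDifferential.kerCotangentToTensor A B C).restrictScalars A) ∘ₗ l =
      LinearMap.id := LinearMap.ext hs'
  have hex : Function.Exact ι ((KaehlerDifferential.kerCotangentToTensor A B C).restrictScalars A) := by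
    rw [LinearMap.exact_iff]; exact hexact.symm
  have htfae := (hex.split_tfae hinj hsurj).out 0 1
  exact htfae.mp ⟨l, hl⟩

end Groth.Agent.S9450
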