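import Groth.Statements.S9454
import Groth.Agent.Lib.Helper3.SplitAlg2

set_option autoImplicit false
universe u
open CAlg

namespace Groth.Agent.S9454

/-- For an étale ring map R → S which is surjective on spectra there is a finite, finitely presented,
flat R-algebra S' with Spec S' → Spec R surjective such that, Zariski locally on S', the structure
map factors through S: every prime q' of S' has some g' ∉ q' and an R-algebra map S → S'_{g'}. -/
theorem result (R : Type u) [CommRing R]
    (S : Type u) [CommRing S] [Algebra R S] [Algebra.Etale R S]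
    (hs : Function.Surjective (PrimeSpectrum.comap (algebraMap R S))) :
    ∃ (S' : Type u) (_ : CommRing S') (_ : Algebra R S'),
      Module.Finite R S' ∧ Algebra.FinitePresentation R S' ∧ Module.Flat R S' ∧
        Function.Surjective (PrimeSpectrum.comap (algebraMap R S')) ∧
        ∀ (q' : Ideal S') [q'.IsPrime], ∃ (g' : S') (_ : g' ∉ q'),
          Nonempty (S →ₐ[R] Localization.Away g') := by
  obtain ⟨S', _, _, hfin, hfp, hff, H⟩ :=
    Groth.Agent.Lib.Helper3.exists_finite_flat_cover_dominating_of_etale R S
  refine ⟨S', inferInstance, inferInstance, hfin, hfp, inferInstance,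
    PrimeSpectrum.comap_surjective_of_faithfullyFlat, ?_⟩
  intro q' _
  obtain ⟨⟨q, hq⟩, hqp⟩ := hs ⟨q'.under R, inferInstance⟩
  have h : q'.under R = q.under R := by
    have := congrArg PrimeSpectrum.asIdeal hqp
    exact this.symm
  obtain ⟨g', hg', φ, -⟩ := H q q' h
  exact ⟨g', hg', ⟨φ⟩⟩

end Groth.Agent.S9454
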