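import Groth.Statements.S9458
import Groth.Agent.Lib.Helper3.HensQF

set_option autoImplicit false
universe u
open Hensel

namespace Groth.Agent.S9458

/-- Let R → S be of finite type and quasi-finite at a prime q lying over p, and let R_p^h, S_q^h be
henselizations of the local rings, S_q^h carrying the compatible R_p^h-algebra structure (the
canonical local map R_p^h → S_q^h). Then S_q^h is finite over R_p^h. (The published statement also
identifies S_q^h with a localization of R_p^h ⊗_{R_p} S_q; this row states only that S_q^h is finite
over R_p^h.) -/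
theorem result (R : Type u) [CommRing R] (S : Type u)
    [CommRing S] [Algebra R S] [Algebra.FiniteType R S] (p : Ideal R) [p.IsPrime] (q : Ideal S)
    [q.IsPrime] [q.LiesOver p] [Algebra.QuasiFiniteAt R q]
    (Rh : Type u) [CommRing Rh] [IsLocalRing Rh] [Algebra (Localization.AtPrime p) Rh]
    [IsLocalHom (algebraMap (Localization.AtPrime p) Rh)]
    [Hensel.IsHenselization (Localization.AtPrime p) Rh]
    (Sh : Type u) [CommRing Sh] [IsLocalRing Sh] [Algebra (Localization.AtPrime q) Sh]
    [IsLocalHom (algebraMap (Localization.AtPrime q) Sh)]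
    [Hensel.IsHenselization (Localization.AtPrime q) Sh]
    [Algebra (Localization.AtPrime p) (Localization.AtPrime q)]
    [IsScalarTower R (Localization.AtPrime p) (Localization.AtPrime q)]
    [Algebra Rh Sh] [Algebra (Localization.AtPrime p) Sh]
    [IsScalarTower (Localization.AtPrime p) Rh Sh]
    [IsScalarTower (Localization.AtPrime p) (Localization.AtPrime q) Sh] :
    Module.Finite Rh Sh := by
  let _ : Algebra R Rh :=
    ((algebraMap (Localization.AtPrime p) Rh).comp (algebraMap R (Localization.AtPrime p))).toAlgebra
  have hR : Groth.Agent.Lib.Helper3.HensAt R p Rh (algebraMap R Rh) :=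
    Groth.Agent.Lib.Helper3.HensAt.of_isHenselization R p Rh
  let ιS : S →+* Sh :=
    (algebraMap (Localization.AtPrime q) Sh).comp (algebraMap S (Localization.AtPrime q))
  have hS : Groth.Agent.Lib.Helper3.HensAt S q Sh ιS :=
    Groth.Agent.Lib.Helper3.HensAt.of_isHenselization S q Sh
  have hqp : q.comap (algebraMap R S) = p := (Ideal.LiesOver.over (p := p) (P := q)).symm
  have hcompat : ∀ r : R, algebraMap Rh Sh (algebraMap R Rh r) = ιS (algebraMap R S r) := by
    intro r
    change algebraMap Rh Sh (algebraMap (Localization.AtPrime p) Rh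
      (algebraMap R (Localization.AtPrime p) r)) =
      algebraMap (Localization.AtPrime q) Sh (algebraMap S (Localization.AtPrime q)
        (algebraMap R S r))
    rw [← IsScalarTower.algebraMap_apply (Localization.AtPrime p) Rh Sh,
      ← IsScalarTower.algebraMap_apply R S (Localization.AtPrime q),
      IsScalarTower.algebraMap_apply R (Localization.AtPrime p) (Localization.AtPrime q),
      ← IsScalarTower.algebraMap_apply (Localization.AtPrime p) (Localization.AtPrime q) Sh]
  --  is local
  have hloc0 : IsLocalHom (algebraMap (Localization.AtPrime p) (Localization.AtPrime q)) := by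
    apply Groth.Agent.Lib.Helper3.isLocalHom_of_comap_maximalIdeal_eq p
    rw [← IsScalarTower.algebraMap_eq R (Localization.AtPrime p) (Localization.AtPrime q),
      IsScalarTower.algebraMap_eq R S (Localization.AtPrime q), ← Ideal.comap_comap]
    have : (IsLocalRing.maximalIdeal (Localization.AtPrime q)).comap
        (algebraMap S (Localization.AtPrime q)) = q :=
      IsLocalization.AtPrime.under_maximalIdeal (Localization.AtPrime q) q
    rw [this]
    exact hqp
  have hloc : IsLocalHom (algebraMap Rh Sh) := by
    have hle : IsLocalRing.maximalIdeal Rh ≤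
        (IsLocalRing.maximalIdeal Sh).comap (algebraMap Rh Sh) := by
      rw [← Groth.Agent.Lib.Helper9.Hens.map_maximalIdeal_of_isHenselization
        (Localization.AtPrime p) Rh, Ideal.map_le_iff_le_comap]
      intro x hx
      rw [Ideal.mem_comap, Ideal.mem_comap,
        ← IsScalarTower.algebraMap_apply (Localization.AtPrime p) Rh Sh,
        IsScalarTower.algebraMap_apply (Localization.AtPrime p) (Localization.AtPrime q) Sh]
      have h1 : algebraMap (Localization.AtPrime p) (Localization.AtPrime q) x ∈
          IsLocalRing.maximalIdeal (Localization.AtPrime q) := by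
        rw [IsLocalRing.mem_maximalIdeal] at hx ⊢
        exact map_mem_nonunits_iff _ _ |>.mpr hx
      rw [IsLocalRing.mem_maximalIdeal] at h1 ⊢
      exact map_mem_nonunits_iff _ _ |>.mpr h1
    have hne : (IsLocalRing.maximalIdeal Sh).comap (algebraMap Rh Sh) ≠ ⊤ :=
      (Ideal.comap_isPrime _ _).ne_top
    have heq : (IsLocalRing.maximalIdeal Sh).comap (algebraMap Rh Sh) =
        IsLocalRing.maximalIdeal Rh :=
      le_antisymm (IsLocalRing.le_maximalIdeal hne) hle
    exact ((IsLocalRing.local_hom_TFAE (algebraMap Rh Sh)).out 0 4 rfl rfl).mpr heq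
  exact Groth.Agent.Lib.Helper3.finite_of_hensAt_of_quasiFiniteAt R S p q hqp Rh hR Sh ιS hS
    hcompat hloc

end Groth.Agent.S9458
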