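import Groth.Statements.S9459
import Groth.Agent.Lib.Helper3.HensTensorAt

set_option autoImplicit false
universe u
open Hensel

namespace Groth.Agent.S9459

open TensorProduct in
/-- Let R → S be a ring map, q a prime of S over p, and R^h, S^h henselizations of R_p and S_q, S^h
carrying the compatible R^h-algebra structure (the canonical map R^h → S^h). Let φ : R^h ⊗_R S → S^h
be the induced map and Q the preimage under φ of the maximal ideal (a prime lying over the maximal
ideal of R^h and over q). Then S^h is a henselization of the local ring (R^h ⊗_R S)_Q: for every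
henselization E of (R^h ⊗_R S)_Q there is a ring isomorphism E ≅ S^h compatible with the two maps
from R^h ⊗_R S. -/
theorem result (R : Type u) [CommRing R] (S : Type u)
    [CommRing S] [Algebra R S] (p : Ideal R) [p.IsPrime] (q : Ideal S) [q.IsPrime] [q.LiesOver p]
    (Rh : Type u) [CommRing Rh] [IsLocalRing Rh] [Algebra (Localization.AtPrime p) Rh]
    [IsLocalHom (algebraMap (Localization.AtPrime p) Rh)]
    [Hensel.IsHenselization (Localization.AtPrime p) Rh] [Algebra R Rh]
    [IsScalarTower R (Localization.AtPrime p) Rh]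
    (Sh : Type u) [CommRing Sh] [IsLocalRing Sh] [Algebra (Localization.AtPrime q) Sh]
    [IsLocalHom (algebraMap (Localization.AtPrime q) Sh)]
    [Hensel.IsHenselization (Localization.AtPrime q) Sh] [Algebra S Sh]
    [IsScalarTower S (Localization.AtPrime q) Sh] [Algebra R Sh] [IsScalarTower R S Sh]
    [Algebra Rh Sh] [IsScalarTower R Rh Sh]
    (E : Type u) [CommRing E] [IsLocalRing E]
    [Algebra (Localization.AtPrime (Ideal.comap (Algebra.TensorProduct.lift (IsScalarTower.toAlgHom R Rh Sh) (IsScalarTower.toAlgHom R S Sh)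
          (fun _ _ => Commute.all _ _)) (IsLocalRing.maximalIdeal Sh))) E]
    [IsLocalHom (algebraMap (Localization.AtPrime
      (Ideal.comap (Algebra.TensorProduct.lift (IsScalarTower.toAlgHom R Rh Sh) (IsScalarTower.toAlgHom R S Sh)
          (fun _ _ => Commute.all _ _)) (IsLocalRing.maximalIdeal Sh))) E)]
    [Hensel.IsHenselization (Localization.AtPrime
      (Ideal.comap (Algebra.TensorProduct.lift (IsScalarTower.toAlgHom R Rh Sh) (IsScalarTower.toAlgHom R S Sh)
          (fun _ _ => Commute.all _ _)) (IsLocalRing.maximalIdeal Sh))) E] :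
    ∃ e : E ≃+* Sh, ∀ d : Rh ⊗[R] S,
      e (algebraMap (Localization.AtPrime
        (Ideal.comap (Algebra.TensorProduct.lift (IsScalarTower.toAlgHom R Rh Sh) (IsScalarTower.toAlgHom R S Sh)
          (fun _ _ => Commute.all _ _)) (IsLocalRing.maximalIdeal Sh))) E
        (algebraMap (Rh ⊗[R] S) _ d)) = (Algebra.TensorProduct.lift (IsScalarTower.toAlgHom R Rh Sh) (IsScalarTower.toAlgHom R S Sh)
          (fun _ _ => Commute.all _ _)) d := by
  have hR : Groth.Agent.Lib.Helper3.HensAt R p Rh (algebraMap R Rh) := by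
    have := Groth.Agent.Lib.Helper3.HensAt.of_isHenselization R p Rh
    rwa [← IsScalarTower.algebraMap_eq R (Localization.AtPrime p) Rh] at this
  have hS : Groth.Agent.Lib.Helper3.HensAt S q Sh (algebraMap S Sh) := by
    have := Groth.Agent.Lib.Helper3.HensAt.of_isHenselization S q Sh
    rwa [← IsScalarTower.algebraMap_eq S (Localization.AtPrime q) Sh] at this
  have hqp : q.comap (algebraMap R S) = p := (Ideal.LiesOver.over (p := p) (P := q)).symm
  have h : Groth.Agent.Lib.Helper3.HensAt (Rh ⊗[R] S) (Ideal.comap (Algebra.TensorProduct.lift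
      (IsScalarTower.toAlgHom R Rh Sh) (IsScalarTower.toAlgHom R S Sh)
      (fun _ _ => Commute.all _ _)) (IsLocalRing.maximalIdeal Sh)) Sh
      ((Algebra.TensorProduct.lift (IsScalarTower.toAlgHom R Rh Sh) (IsScalarTower.toAlgHom R S Sh)
      (fun _ _ => Commute.all _ _)) : Rh ⊗[R] S →+* Sh) :=
    Groth.Agent.Lib.Helper3.HensAt.tensor R S p q hqp Rh hR Sh (algebraMap S Sh) hS
    ((Algebra.TensorProduct.lift (IsScalarTower.toAlgHom R Rh Sh) (IsScalarTower.toAlgHom R S Sh)
      (fun _ _ => Commute.all _ _)) : Rh ⊗[R] S →+* Sh) (fun s => by simp)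
  obtain ⟨ψ, hψ, hloc⟩ := h.exists_lift
  let _ : Algebra (Localization.AtPrime (Ideal.comap (Algebra.TensorProduct.lift
    (IsScalarTower.toAlgHom R Rh Sh) (IsScalarTower.toAlgHom R S Sh)
      (fun _ _ => Commute.all _ _)) (IsLocalRing.maximalIdeal Sh))) Sh := ψ.toAlgebra
  have : IsLocalHom (algebraMap (Localization.AtPrime (Ideal.comap (Algebra.TensorProduct.lift
    (IsScalarTower.toAlgHom R Rh Sh) (IsScalarTower.toAlgHom R S Sh)
      (fun _ _ => Commute.all _ _)) (IsLocalRing.maximalIdeal Sh))) Sh) := hloc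
  have := h.isHenselization hψ
  obtain ⟨e⟩ := Groth.Agent.Lib.Helper9.Hens.nonempty_algEquiv_of_isHenselization
    (Localization.AtPrime (Ideal.comap (Algebra.TensorProduct.lift
    (IsScalarTower.toAlgHom R Rh Sh) (IsScalarTower.toAlgHom R S Sh)
      (fun _ _ => Commute.all _ _)) (IsLocalRing.maximalIdeal Sh))) E Sh
  refine ⟨e.toRingEquiv, fun d => ?_⟩
  have h1 := e.commutes (algebraMap (Rh ⊗[R] S) _ d)
  have h2 : ψ (algebraMap (Rh ⊗[R] S) _ d) = _ := DFunLike.congr_fun hψ d
  exact h1.trans h2

end Groth.Agent.S9459
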