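import Groth.Statements.S9465
import Groth.Agent.Lib.Helper14.DiffOpEtaleExt

set_option autoImplicit false
universe u
open Diff16

namespace Groth.Agent.S9465

open TensorProduct in
/-- Let R → S → S' be ring maps with S → S' formally étale, M, N modules over S and D : M → N a
differential operator of order at most k relative to R → S. Then D has exactly one extension to a
differential operator D' : S' ⊗_S M → S' ⊗_S N of order at most k relative to R → S', i.e. with D'(1
⊗ m) = 1 ⊗ D(m). (The published statement forms the base change of M over R rather than over S; with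
that reading uniqueness already fails for R the rationals, S = S' a polynomial ring in one variable,
M = N = S, D the identity and k = 1, and the published proof computes with the base change over S,
which is what this row uses. The published statement first identifies the base change to S' of the
module of principal parts of order k of M with that of S' ⊗_S M over R; this row states the
consequence for differential operators.) -/
theorem result (R S S' : Type u) [CommRing R]
    [CommRing S] [CommRing S'] [Algebra R S] [Algebra R S'] [Algebra S S'] [IsScalarTower R S S']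
    [Algebra.FormallyEtale S S'] (M N : Type u) [AddCommGroup M] [Module S M] [Module R M]
    [IsScalarTower R S M] [AddCommGroup N] [Module S N] [Module R N] [IsScalarTower R S N]
    (k : ℕ) (D : M →ₗ[R] N) (hD : Diff16.IsDiffOpLE R S M N k D) :
    ∃! D' : S' ⊗[S] M →ₗ[R] S' ⊗[S] N,
      Diff16.IsDiffOpLE R S' (S' ⊗[S] M) (S' ⊗[S] N) k D' ∧
        D' ∘ₗ (TensorProduct.mk S S' M 1).restrictScalars R =
          (TensorProduct.mk S S' N 1).restrictScalars R ∘ₗ D := by
  let j : M →ₗ[R] S' ⊗[S] M := (TensorProduct.mk S S' M 1).restrictScalars R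
  have hj : ∀ (s : S) (m : M), j (s • m) = algebraMap S S' s • j m := by
    intro s m
    change (1 : S') ⊗ₜ[S] (s • m) = algebraMap S S' s • ((1 : S') ⊗ₜ[S] m)
    rw [TensorProduct.smul_tmul', smul_eq_mul, mul_one, Algebra.algebraMap_eq_smul_one,
      TensorProduct.smul_tmul]
  let G : Set (S' ⊗[S] M) := Set.range j
  have hGS : ∀ (s : S) (x : S' ⊗[S] M), x ∈ G → algebraMap S S' s • x ∈ G := by
    rintro s _ ⟨m, rfl⟩
    exact ⟨s • m, hj s m⟩
  have hgen : Submodule.span S' G = ⊤ := by
    rw [eq_top_iff]
    rintro x -
    induction x using TensorProduct.induction_on with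
    | zero => exact zero_mem _
    | tmul s' m =>
      have : s' ⊗ₜ[S] m = s' • j m := by
        change _ = s' • ((1 : S') ⊗ₜ[S] m)
        rw [TensorProduct.smul_tmul', smul_eq_mul, mul_one]
      rw [this]
      exact Submodule.smul_mem _ _ (Submodule.subset_span ⟨m, rfl⟩)
    | add x y hx hy => exact add_mem hx hy
  obtain ⟨D', hD'1, hD'2⟩ :=
    Groth.Agent.Lib.Helper14.exists_extension_of_formallyEtale (S' := S') k D hD
  refine ⟨D', ⟨hD'1, ?_⟩, ?_⟩
  · ext m
    exact hD'2 m
  · rintro D'' ⟨h1, h2⟩
    rw [← sub_eq_zero]
    refine Groth.Agent.Lib.Helper14.eq_zero_of_isDiffOpLE_of_vanish (S := S) G hGS hgen k _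
      (Groth.Agent.Lib.Helper14.isDiffOpLE_sub h1 hD'1) ?_
    rintro _ ⟨m, rfl⟩
    have h3 := congrArg (fun f : M →ₗ[R] S' ⊗[S] N => f m) h2
    simp only [LinearMap.comp_apply] at h3
    rw [LinearMap.sub_apply, sub_eq_zero]
    change D'' (j m) = D' (j m)
    rw [h3]
    exact (hD'2 m).symm

end Groth.Agent.S9465
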