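import Groth.Statements.S9468
import Mathlib

set_option autoImplicit false
universe u
open Hensel

namespace Groth.Agent.S9468

/-- Let R be a ring and p a prime of R. Consider pairs (S, q) with S an étale R-algebra and q a prime of
S lying over p such that κ(p) → κ(q) is bijective; a morphism of pairs is an R-algebra map pulling
the second prime back to the first. Then any two pairs admit morphisms of pairs to a common third
pair. -/
theorem result (R : Type u) [CommRing R]
    (p : Ideal R) [p.IsPrime] (S₁ : Type u) [CommRing S₁] [Algebra R S₁] [Algebra.Etale R S₁] (q₁ : Ideal S₁) [q₁.IsPrime] (hq₁ : p = q₁.comap (algebraMap R S₁))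
    (hq₁κ : Function.Bijective (Ideal.ResidueField.map p q₁ (algebraMap R S₁) hq₁))
    (S₂ : Type u) [CommRing S₂] [Algebra R S₂] [Algebra.Etale R S₂] (q₂ : Ideal S₂) [q₂.IsPrime] (hq₂ : p = q₂.comap (algebraMap R S₂))
    (hq₂κ : Function.Bijective (Ideal.ResidueField.map p q₂ (algebraMap R S₂) hq₂)) :
    ∃ (S₃ : Type u) (_ : CommRing S₃) (_ : Algebra R S₃) (_ : Algebra.Etale R S₃) (q₃ : Ideal S₃)
      (_ : q₃.IsPrime) (hq₃ : p = q₃.comap (algebraMap R S₃)),
      Function.Bijective (Ideal.ResidueField.map p q₃ (algebraMap R S₃) hq₃) ∧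
        ∃ (φ₁ : S₁ →ₐ[R] S₃) (φ₂ : S₂ →ₐ[R] S₃),
          q₃.comap φ₁.toRingHom = q₁ ∧ q₃.comap φ₂.toRingHom = q₂ := by
  classical
  let κ := p.ResidueField
  let e₁ : κ ≃+* q₁.ResidueField := RingEquiv.ofBijective _ hq₁κ
  let e₂ : κ ≃+* q₂.ResidueField := RingEquiv.ofBijective _ hq₂κ
  let g₁ : S₁ →+* κ := e₁.symm.toRingHom.comp (algebraMap S₁ q₁.ResidueField)
  let g₂ : S₂ →+* κ := e₂.symm.toRingHom.comp (algebraMap S₂ q₂.ResidueField)
  have hg₁ : ∀ r, g₁ (algebraMap R S₁ r) = algebraMap R κ r := by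
    intro r
    simp only [g₁, RingHom.comp_apply, RingEquiv.toRingHom_eq_coe, RingEquiv.coe_toRingHom]
    rw [RingEquiv.symm_apply_eq]
    exact (Ideal.ResidueField.map_algebraMap p q₁ _ hq₁ r).symm
  have hg₂ : ∀ r, g₂ (algebraMap R S₂ r) = algebraMap R κ r := by
    intro r
    simp only [g₂, RingHom.comp_apply, RingEquiv.toRingHom_eq_coe, RingEquiv.coe_toRingHom]
    rw [RingEquiv.symm_apply_eq]
    exact (Ideal.ResidueField.map_algebraMap p q₂ _ hq₂ r).symm
  let G₁ : S₁ →ₐ[R] κ := { g₁ with commutes' := hg₁ }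
  let G₂ : S₂ →ₐ[R] κ := { g₂ with commutes' := hg₂ }
  have hG₁ : ∀ x, G₁ x = 0 ↔ x ∈ q₁ := by
    intro x
    show e₁.symm (algebraMap S₁ q₁.ResidueField x) = 0 ↔ _
    rw [map_eq_zero_iff _ e₁.symm.injective, Ideal.algebraMap_residueField_eq_zero]
  have hG₂ : ∀ x, G₂ x = 0 ↔ x ∈ q₂ := by
    intro x
    show e₂.symm (algebraMap S₂ q₂.ResidueField x) = 0 ↔ _
    rw [map_eq_zero_iff _ e₂.symm.injective, Ideal.algebraMap_residueField_eq_zero]
  let χ : TensorProduct R S₁ S₂ →ₐ[R] κ :=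
    Algebra.TensorProduct.lift G₁ G₂ (fun _ _ => Commute.all _ _)
  obtain ⟨q₃, hq₃def⟩ : ∃ q : Ideal (TensorProduct R S₁ S₂), q = RingHom.ker χ.toRingHom := ⟨_, rfl⟩
  have hmem : ∀ x, x ∈ q₃ ↔ χ x = 0 := by
    intro x; rw [hq₃def]; exact RingHom.mem_ker
  have hq₃prime : q₃.IsPrime := by rw [hq₃def]; exact RingHom.ker_isPrime _
  have h1 : q₃.comap (Algebra.TensorProduct.includeLeft : S₁ →ₐ[R] TensorProduct R S₁ S₂).toRingHom = q₁ := by
    ext x
    simp only [Ideal.mem_comap, hmem]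
    rw [← hG₁]
    simp [χ]
  have h2 : q₃.comap (Algebra.TensorProduct.includeRight : S₂ →ₐ[R] TensorProduct R S₁ S₂).toRingHom = q₂ := by
    ext x
    simp only [Ideal.mem_comap, hmem]
    rw [← hG₂]
    simp [χ]
  have hq₃ : p = q₃.comap (algebraMap R (TensorProduct R S₁ S₂)) := by
    ext r
    simp only [Ideal.mem_comap, hmem]
    rw [AlgHom.commutes, Ideal.algebraMap_residueField_eq_zero]
  have hetale : Algebra.Etale R (TensorProduct R S₁ S₂) :=
    Algebra.Etale.comp R S₁ (TensorProduct R S₁ S₂)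
  refine ⟨TensorProduct R S₁ S₂, inferInstance, inferInstance, hetale, q₃, hq₃prime, hq₃,
    ?_, Algebra.TensorProduct.includeLeft, Algebra.TensorProduct.includeRight, h1, h2⟩
  refine ⟨RingHom.injective _, ?_⟩
  let χ' : q₃.ResidueField →+* κ := Ideal.ResidueField.lift q₃ χ.toRingHom hq₃def.le (by
    intro x hx
    simp only [Submonoid.mem_comap, IsUnit.mem_submonoid_iff]
    exact IsUnit.mk0 _ (fun h => hx ((hmem x).mpr h)))
  have hcomp : χ'.comp (Ideal.ResidueField.map p q₃ (algebraMap R _) hq₃) = RingHom.id κ := by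
    apply Ideal.ResidueField.ringHom_ext
    ext r
    simp only [RingHom.comp_apply, Ideal.ResidueField.map_algebraMap, χ']
    rw [Ideal.ResidueField.lift_algebraMap]
    exact χ.commutes r
  intro y
  refine ⟨χ' y, ?_⟩
  apply χ'.injective
  have := congrArg (fun f => f (χ' y)) hcomp
  simpa using this

end Groth.Agent.S9468
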