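import Groth.Statements.S9469
import Mathlib

set_option autoImplicit false
universe u
open Hensel

namespace Groth.Agent.S9469

/-- Let R be a ring and p a prime of R. Consider pairs (S, q) with S an étale R-algebra and q a prime of
S lying over p such that κ(p) → κ(q) is bijective; a morphism of pairs is an R-algebra map pulling
the second prime back to the first. Then any two parallel morphisms of pairs φ, ψ : (S₁, q₁) → (S₂,
q₂) are coequalized by a morphism of pairs (S₂, q₂) → (S₃, q₃). -/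
theorem result (R : Type u) [CommRing R]
    (p : Ideal R) [p.IsPrime] (S₁ : Type u) [CommRing S₁] [Algebra R S₁] [Algebra.Etale R S₁] (q₁ : Ideal S₁) [q₁.IsPrime] (hq₁ : p = q₁.comap (algebraMap R S₁))
    (hq₁κ : Function.Bijective (Ideal.ResidueField.map p q₁ (algebraMap R S₁) hq₁))
    (S₂ : Type u) [CommRing S₂] [Algebra R S₂] [Algebra.Etale R S₂] (q₂ : Ideal S₂) [q₂.IsPrime] (hq₂ : p = q₂.comap (algebraMap R S₂))
    (hq₂κ : Function.Bijective (Ideal.ResidueField.map p q₂ (algebraMap R S₂) hq₂))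
    (φ ψ : S₁ →ₐ[R] S₂) (hφ : q₂.comap φ.toRingHom = q₁) (hψ : q₂.comap ψ.toRingHom = q₁) :
    ∃ (S₃ : Type u) (_ : CommRing S₃) (_ : Algebra R S₃) (_ : Algebra.Etale R S₃) (q₃ : Ideal S₃)
      (_ : q₃.IsPrime) (hq₃ : p = q₃.comap (algebraMap R S₃)),
      Function.Bijective (Ideal.ResidueField.map p q₃ (algebraMap R S₃) hq₃) ∧
        ∃ χ : S₂ →ₐ[R] S₃, q₃.comap χ.toRingHom = q₂ ∧ χ.comp φ = χ.comp ψ := by
  classical
  let ρ : S₂ →+* q₂.ResidueField := algebraMap S₂ q₂.ResidueField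
  let a₁ : q₁.ResidueField →+* q₂.ResidueField :=
    Ideal.ResidueField.map q₁ q₂ φ.toRingHom hφ.symm
  let a₂ : q₁.ResidueField →+* q₂.ResidueField :=
    Ideal.ResidueField.map q₁ q₂ ψ.toRingHom hψ.symm
  have ha : a₁ = a₂ := by
    have h : a₁.comp (Ideal.ResidueField.map p q₁ (algebraMap R S₁) hq₁) =
        a₂.comp (Ideal.ResidueField.map p q₁ (algebraMap R S₁) hq₁) := by
      apply Ideal.ResidueField.ringHom_ext
      ext r
      simp [a₁, a₂]
    refine RingHom.ext fun x => ?_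
    obtain ⟨y, rfl⟩ := hq₁κ.2 x
    exact RingHom.congr_fun h y
  have hρ : ∀ x : S₁, ρ (φ x) = ρ (ψ x) := by
    intro x
    have h1 : a₁ (algebraMap S₁ _ x) = ρ (φ x) :=
      Ideal.ResidueField.map_algebraMap q₁ q₂ φ.toRingHom hφ.symm x
    have h2 : a₂ (algebraMap S₁ _ x) = ρ (ψ x) :=
      Ideal.ResidueField.map_algebraMap q₁ q₂ ψ.toRingHom hψ.symm x
    rw [← h1, ← h2, ha]
  let Φ : TensorProduct R S₁ S₁ →ₐ[R] S₂ :=
    Algebra.TensorProduct.lift φ ψ (fun _ _ => Commute.all _ _)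
  let e : TensorProduct R S₁ S₁ := Algebra.FormallyUnramified.elem R S₁
  obtain ⟨e', he'def⟩ : ∃ e' : S₂, e' = Φ e := ⟨_, rfl⟩
  have hρΦ : ∀ t : TensorProduct R S₁ S₁, ρ (Φ t) = ρ (φ (Algebra.TensorProduct.lmul' R t)) := by
    intro t
    induction t using TensorProduct.induction_on with
    | zero => simp
    | tmul x y => simp [Φ, hρ]
    | add x y hx hy => simp only [map_add, hx, hy]
  have he' : e' ∉ q₂ := by
    intro h
    have h0 : ρ e' = 0 := (Ideal.algebraMap_residueField_eq_zero).mpr h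
    rw [he'def, hρΦ, Algebra.FormallyUnramified.lmul_elem] at h0
    simp at h0
  have hcoeq : ∀ x : S₁, (ψ x - φ x) * e' = 0 := by
    intro x
    have := congrArg Φ (Algebra.FormallyUnramified.one_tmul_sub_tmul_one_mul_elem (R := R) x)
    rw [map_mul, map_zero, map_sub] at this
    rw [he'def]
    simpa [Φ] using this
  let S₃ := Localization.Away e'
  let χ : S₂ →ₐ[R] S₃ := IsScalarTower.toAlgHom R S₂ S₃
  let q₃ : Ideal S₃ := q₂.map (algebraMap S₂ S₃)
  have hdisj : Disjoint (Submonoid.powers e' : Set S₂) (q₂ : Set S₂) := by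
    rw [Set.disjoint_left]
    rintro _ ⟨n, rfl⟩ hn
    exact he' (Ideal.IsPrime.mem_of_pow_mem inferInstance n hn)
  have hq₃prime : q₃.IsPrime :=
    IsLocalization.isPrime_of_isPrime_disjoint (Submonoid.powers e') S₃ q₂ inferInstance hdisj
  have hq₃comap : q₃.comap (algebraMap S₂ S₃) = q₂ :=
    IsLocalization.under_map_of_isPrime_disjoint (Submonoid.powers e') S₃ inferInstance hdisj
  have hq₃ : p = q₃.comap (algebraMap R S₃) := by
    rw [IsScalarTower.algebraMap_eq R S₂ S₃, ← Ideal.comap_comap, hq₃comap, hq₂]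
  refine ⟨S₃, inferInstance, inferInstance, inferInstance, q₃, hq₃prime, hq₃, ?_, χ, hq₃comap, ?_⟩
  · have h2 : Function.Bijective (Ideal.ResidueField.map q₂ q₃ (algebraMap S₂ S₃) hq₃comap.symm) :=
      RingHom.SurjectiveOnStalks.residueFieldMap_bijective
        (RingHom.surjectiveOnStalks_of_isLocalization (Submonoid.powers e') S₃) _ _ _
    have hcomp : Ideal.ResidueField.map p q₃ (algebraMap R S₃) hq₃ =
        (Ideal.ResidueField.map q₂ q₃ (algebraMap S₂ S₃) hq₃comap.symm).comp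
          (Ideal.ResidueField.map p q₂ (algebraMap R S₂) hq₂) := by
      apply Ideal.ResidueField.ringHom_ext
      ext r
      simp [IsScalarTower.algebraMap_apply R S₂ S₃]
    rw [hcomp]
    exact h2.comp hq₂κ
  · ext x
    simp only [AlgHom.comp_apply, χ, IsScalarTower.coe_toAlgHom']
    have h := hcoeq x
    have hu : IsUnit (algebraMap S₂ S₃ e') := IsLocalization.Away.algebraMap_isUnit e'
    have h3 : (algebraMap S₂ S₃ (ψ x) - algebraMap S₂ S₃ (φ x)) * algebraMap S₂ S₃ e' = 0 := by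
      rw [← map_sub, ← map_mul, h, map_zero]
    have h4 := (hu.mul_left_eq_zero).mp h3
    exact (sub_eq_zero.mp h4).symm

end Groth.Agent.S9469
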