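import Groth.Statements.S9472
import Groth.Agent.Lib.Helper14.DiffOpEtale

set_option autoImplicit false
universe u
open Diff16

namespace Groth.Agent.S9472

open TensorProduct in
/-- Let R → S → S' be ring maps with S → S' formally étale, M an S-module and (P, D_u) a module of
principal parts of order k of M relative to R → S, i.e. D_u : M → P is a differential operator of
order at most k through which every differential operator of order at most k from M to an S-module
factors by a unique S-linear map. If D_u' : S' ⊗_S M → S' ⊗_S P is a differential operator of order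
at most k relative to R → S' with D_u'(1 ⊗ m) = 1 ⊗ D_u(m), then (S' ⊗_S P, D_u') is a module of
principal parts of order k of S' ⊗_S M relative to R → S'. (The published statement writes this as
an identification of S' ⊗_S P^k_{S/R}(M) with P^k_{S'/R}(M') and forms M' by base change over R
rather than over S; with base change over R the identification fails already for k = 0, R the
rationals, S = S' a polynomial ring in one variable and M = S, and the published proof computes with
the base change over S, used here. Target modules are taken in one universe.) -/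
theorem result (R S S' : Type u) [CommRing R]
    [CommRing S] [CommRing S'] [Algebra R S] [Algebra R S'] [Algebra S S'] [IsScalarTower R S S']
    [Algebra.FormallyEtale S S'] (M : Type u) [AddCommGroup M] [Module S M] [Module R M]
    [IsScalarTower R S M] (k : ℕ) (P : Type u) [AddCommGroup P] [Module S P] [Module R P]
    [IsScalarTower R S P] (Du : M →ₗ[R] P) (hDu : Diff16.IsDiffOpLE R S M P k Du)
    (huniv : ∀ (N : Type u) [AddCommGroup N] [Module S N] [Module R N] [IsScalarTower R S N]
      (D : M →ₗ[R] N), Diff16.IsDiffOpLE R S M N k D → ∃! α : P →ₗ[S] N, α.restrictScalars R ∘ₗ Du = D)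
    (Du' : S' ⊗[S] M →ₗ[R] S' ⊗[S] P) (hDu' : Diff16.IsDiffOpLE R S' (S' ⊗[S] M) (S' ⊗[S] P) k Du')
    (hext : Du' ∘ₗ (TensorProduct.mk S S' M 1).restrictScalars R =
      (TensorProduct.mk S S' P 1).restrictScalars R ∘ₗ Du) :
    ∀ (N' : Type u) [AddCommGroup N'] [Module S' N'] [Module R N'] [IsScalarTower R S' N']
      (D' : S' ⊗[S] M →ₗ[R] N'), Diff16.IsDiffOpLE R S' (S' ⊗[S] M) N' k D' →
        ∃! α : S' ⊗[S] P →ₗ[S'] N', α.restrictScalars R ∘ₗ Du' = D' := by
  intro N' _ _ _ _ D' hD'
  letI instSN : Module S N' := Module.compHom N' (algebraMap S S')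
  have hsmul : ∀ (s : S) (x : N'), s • x = algebraMap S S' s • x := fun _ _ => rfl
  haveI : IsScalarTower S S' N' := ⟨fun s b x => by
    rw [hsmul, Algebra.smul_def, mul_smul]⟩
  haveI : IsScalarTower R S N' := ⟨fun r s x => by
    have e : algebraMap S S' (r • s) = r • algebraMap S S' s := by
      rw [Algebra.smul_def, map_mul, ← IsScalarTower.algebraMap_apply, Algebra.smul_def]
    rw [hsmul, hsmul, e, smul_assoc]⟩
  -- the restriction of `D'` to `M`
  let j : M →ₗ[R] S' ⊗[S] M := (TensorProduct.mk S S' M 1).restrictScalars R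
  have hj : ∀ (s : S) (m : M), j (s • m) = algebraMap S S' s • j m := by
    intro s m
    change (1 : S') ⊗ₜ[S] (s • m) = algebraMap S S' s • ((1 : S') ⊗ₜ[S] m)
    rw [TensorProduct.smul_tmul', smul_eq_mul, mul_one, Algebra.algebraMap_eq_smul_one,
      TensorProduct.smul_tmul]
  have hD : Diff16.IsDiffOpLE R S M N' k (D' ∘ₗ j) :=
    Groth.Agent.Lib.Helper14.isDiffOpLE_comp_semilinear j hj k D' hD'
  obtain ⟨α, hα, hαuniq⟩ := huniv N' (D' ∘ₗ j) hD
  -- generators
  let G : Set (S' ⊗[S] M) := Set.range j
  have hGS : ∀ (s : S) (x : S' ⊗[S] M), x ∈ G → algebraMap S S' s • x ∈ G := by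
    rintro s _ ⟨m, rfl⟩
    exact ⟨s • m, hj s m⟩
  have hgen : Submodule.span S' G = ⊤ := by
    rw [eq_top_iff]
    rintro x -
    induction x using TensorProduct.induction_on with
    | zero => exact zero_mem _
    | tmul s' m =>
      have : s' ⊗ₜ[S] m = s' • j m := by
        change _ = s' • ((1 : S') ⊗ₜ[S] m)
        rw [TensorProduct.smul_tmul', smul_eq_mul, mul_one]
      rw [this]
      exact Submodule.smul_mem _ _ (Submodule.subset_span ⟨m, rfl⟩)
    | add x y hx hy => exact add_mem hx hy
  have hα' : ∀ m, α (Du m) = D' (j m) := fun m => congrArg (fun f : M →ₗ[R] N' => f m) hα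
  have hext' : ∀ m, Du' (j m) = (1 : S') ⊗ₜ[S] Du m :=
    fun m => congrArg (fun f : M →ₗ[R] S' ⊗[S] P => f m) hext
  refine ⟨α.liftBaseChange S', ?_, ?_⟩
  · change (α.liftBaseChange S').restrictScalars R ∘ₗ Du' = D'
    rw [← sub_eq_zero]
    refine Groth.Agent.Lib.Helper14.eq_zero_of_isDiffOpLE_of_vanish (S := S) G hGS hgen k _ ?_ ?_
    · refine Groth.Agent.Lib.Helper14.isDiffOpLE_sub ?_ hD'
      have h0 : Diff16.IsDiffOpLE R S' (S' ⊗[S] P) N' 0
          ((α.liftBaseChange S').restrictScalars R) := by
        rw [Groth.Agent.Lib.Helper14.isDiffOpLE_zero_iff]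
        intro b m
        exact map_smul (α.liftBaseChange S') b m
      have := Groth.Agent.Lib.Helper14.isDiffOpLE_comp hDu' h0
      rwa [add_zero] at this
    · rintro _ ⟨m, rfl⟩
      rw [LinearMap.sub_apply, LinearMap.comp_apply, hext', LinearMap.restrictScalars_apply,
        LinearMap.liftBaseChange_tmul, one_smul, hα', sub_self]
  · intro α'' hα''
    change α''.restrictScalars R ∘ₗ Du' = D' at hα''
    have hα''' : ∀ m, α'' (Du' (j m)) = D' (j m) :=
      fun m => congrArg (fun f : S' ⊗[S] M →ₗ[R] N' => f (j m)) hα''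
    have hβ : (LinearMap.liftBaseChangeEquiv S').symm α'' = α := by
      apply hαuniq
      ext m
      rw [LinearMap.comp_apply, LinearMap.restrictScalars_apply,
        LinearMap.liftBaseChangeEquiv_symm_apply, ← hext', hα''']
      rfl
    rw [← hβ]
    exact ((LinearMap.liftBaseChangeEquiv S').apply_symm_apply α'').symm

end Groth.Agent.S9472
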