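import Mathlib
import Groth.Statements.S9499
import Groth.Agent.Lib.Helper49.MonoFields

set_option autoImplicit false
universe u
open SchMor

namespace Groth.Agent.S9499

open AlgebraicGeometry in
open CategoryTheory in
/-- Let (k_i) be a finite family of fields and f : X → Spec(∏_i k_i) a monomorphism of schemes. Then
there are a subset I of the index set and an isomorphism X ≅ Spec(∏_{i∈I} k_i) over Spec(∏_i k_i),
where Spec(∏_{i∈I} k_i) maps to Spec(∏_i k_i) through the projection ring homomorphism ∏_i k_i →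
∏_{i∈I} k_i. -/
theorem result
    {ι : Type u} [Finite ι] (k : ι → Type u) [∀ i, Field (k i)]
    {X : Scheme.{u}} (f : X ⟶ Spec (CommRingCat.of (Π i, k i))) [Mono f] :
    ∃ (I : Set ι) (e : X ≅ Spec (CommRingCat.of (Π i : I, k i))),
      e.hom ≫ Spec.map (CommRingCat.ofHom (Pi.ringHom fun i : I => Pi.evalRingHom k i.1)) = f := by
  let σ := sigmaSpec (fun i => CommRingCat.of (k i))
  have hσ : IsIso σ := inferInstance
  let f' : X ⟶ ∐ fun i => Spec (CommRingCat.of (k i)) := f ≫ inv σ
  have : Mono f' := mono_comp _ _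
  obtain ⟨J, e, he⟩ := Groth.Agent.Lib.Helper49.mono_sigma_spec_fields k f'
  let σJ := sigmaSpec (fun j : J => CommRingCat.of (k j.1))
  have hσJ : IsIso σJ := inferInstance
  refine ⟨J, e ≪≫ asIso σJ, ?_⟩
  have key : σJ ≫ Spec.map (CommRingCat.ofHom (Pi.ringHom fun i : J => Pi.evalRingHom k i.1)) =
      Limits.Sigma.desc (fun j : J => Limits.Sigma.ι (fun i => Spec (CommRingCat.of (k i))) j.1) ≫ σ := by
    refine Limits.Sigma.hom_ext _ _ fun j => ?_
    rw [ι_sigmaSpec_assoc, Limits.Sigma.ι_desc_assoc, ι_sigmaSpec, ← Spec.map_comp]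
    rfl
  rw [Iso.trans_hom, asIso_hom, Category.assoc, key, ← Category.assoc, he]
  simp [f']

end Groth.Agent.S9499
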