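import Groth.Statements.S9502
import Mathlib.AlgebraicGeometry.IdealSheaf.Basic

set_option autoImplicit false
universe u
open SchMor

namespace Groth.Agent.S9502

open AlgebraicGeometry in
open CategoryTheory in
/-- Let f : X → Y be a morphism of schemes such that (1) the underlying continuous map of f is a
homeomorphism onto a closed subset of Y and (2) the map of sheaves of rings O_Y → f_*O_X is
surjective (locally surjective on sections). Then f is a closed immersion in the sense of locally
ringed spaces: (1) and (2) hold and (3) the kernel of O_Y → f_*O_X is locally generated by sections,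
i.e. around every point of Y there are sections of O_Y killed in f_*O_X whose germs generate the
kernel of the stalk map O_{Y,y} → (f_*O_X)_y at every nearby point y. (For a morphism of schemes (1)
and (2) alone already give surjective stalk maps; the content of this row is condition (3).) -/
theorem result
    {X Y : Scheme.{u}} (f : X ⟶ Y) (h1 : Topology.IsClosedEmbedding f)
    (h2 : TopCat.Presheaf.IsLocallySurjective f.c) :
    LRSImm.IsClosedImmersion f.toLRSHom := by
  refine ⟨h1, h2, ?_⟩
  have : QuasiCompact f := ⟨fun K _ hK => h1.isCompact_preimage hK⟩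
  intro y
  obtain ⟨_, ⟨U, hU, rfl⟩, hyU, -⟩ :=
    Y.isBasis_affineOpens.exists_subset_of_mem_open (Set.mem_univ y) isOpen_univ
  refine ⟨U, hyU, ↥(RingHom.ker (f.app U).hom), fun j => j.1, fun j => j.2, ?_⟩
  intro y' hy'
  refine le_antisymm (Ideal.span_le.mpr ?_) ?_
  · rintro _ ⟨j, rfl⟩
    show ((TopCat.Presheaf.stalkFunctor CommRingCat y').map f.c).hom
      (Y.presheaf.germ U y' hy' j.1) = 0
    have h := TopCat.Presheaf.stalkFunctor_map_germ_apply U y' hy' f.c j.1
    refine h.trans ?_
    have hj : (f.c.app (Opposite.op U)).hom j.1 = 0 := j.2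
    erw [hj]
    exact map_zero _
  · intro t ht
    obtain ⟨V, hyV, t0, rfl⟩ := Y.presheaf.exists_germ_eq t
    -- the image in the stalk of f_* O_X is zero
    have h0 : (f.base _* X.presheaf).germ V y' hyV ((f.c.app (Opposite.op V)).hom t0) =
        (f.base _* X.presheaf).germ V y' hyV 0 := by
      have h := TopCat.Presheaf.stalkFunctor_map_germ_apply V y' hyV f.c t0
      rw [map_zero]
      exact h.symm.trans ht
    obtain ⟨W, hyW, iV, _, hW⟩ := (f.base _* X.presheaf).germ_eq y' hyV hyV _ _ h0
    obtain ⟨b, hbW, hyb⟩ := IsAffineOpen.exists_basicOpen_le hU (V := W ⊓ U) ⟨y', ⟨hyW, hy'⟩⟩ hy'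
    let iWb : Y.basicOpen b ⟶ W := homOfLE (hbW.trans inf_le_left)
    let iVb : Y.basicOpen b ⟶ V := iWb ≫ iV
    let iUb : Y.basicOpen b ⟶ U := homOfLE (Y.basicOpen_le b)
    -- the restriction of t0 to D(b) lies in the kernel
    have hker : (Y.presheaf.map iVb.op).hom t0 ∈ RingHom.ker (f.app (Y.basicOpen b)).hom := by
      rw [RingHom.mem_ker]
      have hn := congrArg (fun φ => φ.hom t0) (f.c.naturality iVb.op)
      refine hn.trans ?_
      show ((f.base _* X.presheaf).map iVb.op).hom ((f.c.app (Opposite.op V)).hom t0) = 0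
      have : iVb.op = iV.op ≫ iWb.op := rfl
      rw [this, Functor.map_comp]
      show ((f.base _* X.presheaf).map iWb.op).hom
        (((f.base _* X.presheaf).map iV.op).hom ((f.c.app (Opposite.op V)).hom t0)) = 0
      erw [hW]
      simp
    have hmap : (RingHom.ker (f.app U).hom).map (Y.presheaf.map iUb.op).hom =
        RingHom.ker (f.app (Y.basicOpen b)).hom := by
      have h1 := f.ker.map_ideal_basicOpen ⟨U, hU⟩ b
      rw [Scheme.Hom.ker_apply, Scheme.Hom.ker_apply] at h1
      exact h1
    rw [← hmap] at hker
    have hle : (RingHom.ker (f.app U).hom).map (Y.presheaf.map iUb.op).hom ≤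
        Ideal.comap (Y.presheaf.germ (Y.basicOpen b) y' hyb).hom
          (Ideal.span (Set.range fun j : ↥(RingHom.ker (f.app U).hom) =>
            Y.presheaf.germ U y' hy' j.1)) := by
      rw [Ideal.map_le_iff_le_comap]
      intro s hs
      rw [Ideal.mem_comap, Ideal.mem_comap]
      have : (Y.presheaf.germ (Y.basicOpen b) y' hyb).hom ((Y.presheaf.map iUb.op).hom s) =
          Y.presheaf.germ U y' hy' s := Y.presheaf.germ_res_apply iUb y' hyb s
      rw [this]
      exact Ideal.subset_span ⟨⟨s, hs⟩, rfl⟩
    have := hle hker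
    rw [Ideal.mem_comap] at this
    have h2 : (Y.presheaf.germ (Y.basicOpen b) y' hyb).hom ((Y.presheaf.map iVb.op).hom t0) =
          Y.presheaf.germ V y' hyV t0 := Y.presheaf.germ_res_apply iVb y' hyb t0
    rw [h2] at this
    exact this

end Groth.Agent.S9502
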