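import Mathlib
import Groth.Statements.S9508
-- import your own Groth.Agent.* helpers here

set_option autoImplicit false
universe u
open SchMor

namespace Groth.Agent.S9508

open AlgebraicGeometry in
open CategoryTheory in
/-- (1) ⇔ (2): A morphism of schemes f : X → S is quasi-separated if and only if, whenever two affine
opens U and V of X both lie in the preimage f⁻¹(W) of one affine open W of S, their intersection U ∩
V is quasi-compact (equivalently, is covered by finitely many affine opens). -/
theorem result
    {X S : Scheme.{u}} (f : X ⟶ S) :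
    QuasiSeparated f ↔
      ∀ (U V : X.affineOpens) (W : S.affineOpens),
        (U : X.Opens) ≤ f ⁻¹ᵁ (W : S.Opens) → (V : X.Opens) ≤ f ⁻¹ᵁ (W : S.Opens) →
          IsCompact ((U : Set X) ∩ (V : Set X)) := by
  constructor
  · intro hf U V W hU hV
    have := f.isQuasiSeparated_preimage W.2.isQuasiSeparated
    exact this U V hU U.1.2 U.2.isCompact hV V.1.2 V.2.isCompact
  · intro H
    rw [HasAffineProperty.iff_of_iSup_eq_top (P := @QuasiSeparated)
      (fun W : S.affineOpens => W) (iSup_affineOpens_eq_top S)]
    intro W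
    rw [quasiSeparatedSpace_iff_forall_affineOpens]
    intro U' V'
    have hU := U'.2.image_of_isOpenImmersion (f ⁻¹ᵁ W.1).ι
    have hV := V'.2.image_of_isOpenImmersion (f ⁻¹ᵁ W.1).ι
    have h := H ⟨_, hU⟩ ⟨_, hV⟩ W (Scheme.Opens.ι_image_le _ _) (Scheme.Opens.ι_image_le _ _)
    rw [(f ⁻¹ᵁ W.1).ι.isOpenEmbedding.isInducing.isCompact_iff,
      Set.image_inter (f ⁻¹ᵁ W.1).ι.isOpenEmbedding.injective]
    exact h

end Groth.Agent.S9508
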