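import Mathlib
import Groth.Statements.S9509
-- import your own Groth.Agent.* helpers here

set_option autoImplicit false
universe u
open SchMor

namespace Groth.Agent.S9509

open AlgebraicGeometry in
open CategoryTheory in
/-- (3) ⇒ (1): Let f : X → S be a morphism of schemes. Suppose S is covered by affine opens W_i, each
preimage f⁻¹(W_i) is covered by affine opens V_{i,j}, and any two V_{i,j}, V_{i,j'} with the same
index i meet in a quasi-compact open (one covered by finitely many affine opens). Then f is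
quasi-separated. -/
theorem result
    {X S : Scheme.{u}} (f : X ⟶ S) {ι : Type u} (W : ι → S.affineOpens)
    (hW : ⨆ i, (W i : S.Opens) = ⊤) {κ : ι → Type u} (V : ∀ i, κ i → X.affineOpens)
    (hV : ∀ i, ⨆ j, (V i j : X.Opens) = f ⁻¹ᵁ (W i : S.Opens))
    (hVV : ∀ i (j j' : κ i), IsCompact ((V i j : Set X) ∩ (V i j' : Set X))) :
    QuasiSeparated f := by
  rw [HasAffineProperty.iff_of_iSup_eq_top (P := @QuasiSeparated) W hW]
  intro i
  have hle : ∀ j, (V i j : X.Opens) ≤ f ⁻¹ᵁ (W i : S.Opens) := fun j => by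
    rw [← hV i]; exact le_iSup (fun j => (V i j : X.Opens)) j
  have hsub : ∀ j, ((V i j : X.Opens) : Set X) ⊆ Set.range (f ⁻¹ᵁ (W i : S.Opens)).ι := fun j => by
    rw [Scheme.Opens.range_ι]; exact hle j
  refine Scheme.quasiSeparatedSpace_of_isOpenCover (X := (f ⁻¹ᵁ (W i : S.Opens)).toScheme)
    (fun j => (f ⁻¹ᵁ (W i : S.Opens)).ι ⁻¹ᵁ (V i j : X.Opens)) ?_ ?_ ?_
  · change ⨆ j, (f ⁻¹ᵁ (W i : S.Opens)).ι ⁻¹ᵁ (V i j : X.Opens) = ⊤
    rw [← Scheme.Hom.preimage_iSup, hV i]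
    simp
  · intro j
    refine (V i j).2.preimage_of_isOpenImmersion _ ?_
    rw [Scheme.Opens.opensRange_ι]
    exact hle j
  · intro j j'
    rw [(f ⁻¹ᵁ (W i : S.Opens)).ι.isOpenEmbedding.isInducing.isCompact_iff,
      Set.image_inter (f ⁻¹ᵁ (W i : S.Opens)).ι.isOpenEmbedding.injective]
    change IsCompact ((f ⁻¹ᵁ (W i : S.Opens)).ι '' ((f ⁻¹ᵁ (W i : S.Opens)).ι ⁻¹' (V i j : Set X)) ∩
      (f ⁻¹ᵁ (W i : S.Opens)).ι '' ((f ⁻¹ᵁ (W i : S.Opens)).ι ⁻¹' (V i j' : Set X)))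
    rw [Set.image_preimage_eq_of_subset (hsub j), Set.image_preimage_eq_of_subset (hsub j')]
    exact hVV i j j'

end Groth.Agent.S9509
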