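import Mathlib
import Groth.Statements.S9510
-- import your own Groth.Agent.* helpers here

set_option autoImplicit false
universe u
open SchMor

namespace Groth.Agent.S9510

open AlgebraicGeometry in
open CategoryTheory in
/-- Let X be a scheme, X = ⋃ U_i an affine open covering and V ⊆ X an affine open. Then there is a
standard open covering V = D(f_1) ∪ … ∪ D(f_m), with f_1, …, f_m sections of O_X over V, such that
each D(f_j) is also a standard open D(g) of one of the U_i (g a section over that U_i). -/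
theorem result
    (X : Scheme.{u}) {ι : Type u} (U : ι → X.affineOpens) (hU : ⨆ i, (U i : X.Opens) = ⊤)
    (V : X.affineOpens) :
    ∃ s : Finset Γ(X, (V : X.Opens)),
      (⨆ f ∈ s, X.basicOpen f) = (V : X.Opens) ∧
        ∀ f ∈ s, ∃ (i : ι) (g : Γ(X, (U i : X.Opens))), X.basicOpen f = X.basicOpen g := by
  classical
  let T : Set Γ(X, (V : X.Opens)) :=
    {f | ∃ (i : ι) (g : Γ(X, (U i : X.Opens))), X.basicOpen f = X.basicOpen g}
  have hcov : ((V : X.Opens) : Set X) ⊆ ⋃ f ∈ T, (X.basicOpen f : Set X) := by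
    intro x hx
    obtain ⟨i, hi⟩ := TopologicalSpace.Opens.mem_iSup.mp (hU.ge (Set.mem_univ x))
    obtain ⟨f, g, e, hf⟩ := exists_basicOpen_le_affine_inter V.2 (U i).2 x ⟨hx, hi⟩
    exact Set.mem_biUnion (x := f) ⟨i, g, e⟩ hf
  obtain ⟨b', hb'T, hfin, hb'⟩ := V.2.isCompact.elim_finite_subcover_image
    (fun f _ => (X.basicOpen f).2) hcov
  refine ⟨hfin.toFinset, ?_, ?_⟩
  · apply le_antisymm
    · exact iSup₂_le fun f _ => X.basicOpen_le f
    · intro x hx
      obtain ⟨f, hf, hxf⟩ := Set.mem_iUnion₂.mp (hb' hx)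
      exact TopologicalSpace.Opens.mem_iSup.mpr ⟨f, TopologicalSpace.Opens.mem_iSup.mpr
        ⟨hfin.mem_toFinset.mpr hf, hxf⟩⟩
  · intro f hf
    exact hb'T (hfin.mem_toFinset.mp hf)

end Groth.Agent.S9510
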