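import Mathlib
import Groth.Statements.S9511
-- import your own Groth.Agent.* helpers here

set_option autoImplicit false
universe u
open LRSImm

namespace Groth.Agent.S9511

open AlgebraicGeometry in
open CategoryTheory TopologicalSpace in
/-- Let X be a locally ringed space and U, V ⊆ X open with X = U ⊔ V (they cover X and are disjoint),
such that the open subspaces X|_U and X|_V are affine schemes. Then X is an affine scheme: the
canonical morphism X → Spec Γ(X, O_X) is an isomorphism of locally ringed spaces. -/
theorem result
    (X : LocallyRingedSpace.{u}) (U V : Opens X.toTopCat) (hUV : IsCompl U V)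
    (A B : CommRingCat.{u})
    (eU : X.restrict U.isOpenEmbedding ≅ (Spec A).toLocallyRingedSpace)
    (eV : X.restrict V.isOpenEmbedding ≅ (Spec B).toLocallyRingedSpace) :
    IsIso X.toΓSpec := by
  let X' : Scheme.{u} :=
    { toLocallyRingedSpace := X
      local_affine := fun x => by
        have hx : x ∈ U ⊔ V := by rw [hUV.sup_eq_top]; trivial
        rcases hx with hx | hx
        · exact ⟨⟨U, hx⟩, A, ⟨eU⟩⟩
        · exact ⟨⟨V, hx⟩, B, ⟨eV⟩⟩ }
  let U' : X'.Opens := U
  let V' : X'.Opens := V
  have hU : IsAffineOpen U' := by
    let e : U'.toScheme ≅ Spec A :=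
      Scheme.fullyFaithfulForgetToLocallyRingedSpace.preimageIso eU
    exact IsAffine.of_isIso e.hom
  have hV : IsAffineOpen V' := by
    let e : V'.toScheme ≅ Spec B :=
      Scheme.fullyFaithfulForgetToLocallyRingedSpace.preimageIso eV
    exact IsAffine.of_isIso e.hom
  have htop : IsAffineOpen (⊤ : X'.Opens) := by
    have := hU.sup_of_disjoint hV hUV.disjoint
    rwa [show U' ⊔ V' = ⊤ from hUV.sup_eq_top] at this
  have haff' : IsAffine (⊤ : X'.Opens).toScheme := htop
  have haff : IsAffine X' := IsAffine.of_isIso (Scheme.topIso X').inv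
  have hiso : IsIso X'.toSpecΓ := inferInstance
  exact Scheme.forgetToLocallyRingedSpace.map_isIso X'.toSpecΓ

end Groth.Agent.S9511
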