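import Mathlib
import Groth.Statements.S9512
-- import your own Groth.Agent.* helpers here

set_option autoImplicit false
universe u
open LRSImm

namespace Groth.Agent.S9512

lemma mem_maximalIdeal_iff_map {A B : Type*} [CommRing A] [CommRing B] [IsLocalRing A]
    [IsLocalRing B] (g : A →+* B) [IsLocalHom g] (t : A) :
    t ∈ IsLocalRing.maximalIdeal A ↔ g t ∈ IsLocalRing.maximalIdeal B := by
  rw [IsLocalRing.mem_maximalIdeal, IsLocalRing.mem_maximalIdeal, mem_nonunits_iff,
    mem_nonunits_iff, isUnit_map_iff]

open AlgebraicGeometry in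
open CategoryTheory Opposite in
/-- Let X be a locally ringed space, Y = Spec R an affine scheme and f : X → Y a morphism of locally
ringed spaces. Given a point x of X, the image f(x) is the prime of R obtained as the inverse image
of the maximal ideal of O_{X,x} under the composite R = Γ(Y, O_Y) → Γ(X, O_X) → O_{X,x}. -/
theorem result
    (X : LocallyRingedSpace.{u}) (R : CommRingCat.{u})
    (f : X ⟶ (Spec R).toLocallyRingedSpace) (x : X.toTopCat) :
    f.base x = PrimeSpectrum.comap
      ((Scheme.ΓSpecIso R).inv ≫ f.c.app (op ⊤) ≫ X.presheaf.germ ⊤ x trivial).hom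
      (IsLocalRing.closedPoint (X.presheaf.stalk x)) := by
  have h1 := PresheafedSpace.stalkMap_germ f.1 ⊤ x trivial
  have key : ((Scheme.ΓSpecIso R).inv ≫ f.c.app (op ⊤) ≫ X.presheaf.germ ⊤ x trivial) =
      StructureSheaf.toStalk R (f.base x) ≫ f.stalkMap x := by
    rw [← StructureSheaf.algebraMap_germ ⊤ (f.base x) trivial, Category.assoc]
    congr 1
    exact h1.symm
  rw [key]
  refine PrimeSpectrum.ext (Ideal.ext fun r => ?_)
  let p : PrimeSpectrum.Top R := f.base x
  have hlr : IsLocalRing ((Spec.structureSheaf R).presheaf.stalk p) :=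
    (Spec.locallyRingedSpaceObj R).isLocalRing p
  have h2 : r ∈ p.asIdeal ↔ (StructureSheaf.toStalk R p).hom r ∈
      IsLocalRing.maximalIdeal ((Spec.structureSheaf R).presheaf.stalk p) :=
    (IsLocalization.AtPrime.to_map_mem_maximal_iff
      ((Spec.structureSheaf R).presheaf.stalk p) p.asIdeal r).symm
  have hloc : IsLocalHom (f.stalkMap x).hom := inferInstance
  have h3 : r ∈ (PrimeSpectrum.comap (StructureSheaf.toStalk R p ≫ f.stalkMap x).hom
      (IsLocalRing.closedPoint (X.presheaf.stalk x))).asIdeal ↔
      (f.stalkMap x).hom ((StructureSheaf.toStalk R p).hom r) ∈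
        IsLocalRing.maximalIdeal (X.presheaf.stalk x) := Iff.rfl
  change r ∈ p.asIdeal ↔ _
  rw [h2]
  refine Iff.trans ?_ h3.symm
  exact @mem_maximalIdeal_iff_map _ _ _ _ hlr _ (f.stalkMap x).hom hloc _

end Groth.Agent.S9512
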