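import Groth.Statements.S9516
import Groth.Agent.Lib.Helper45.Dev.IdealMulPow

set_option linter.style.haveILetI false

set_option autoImplicit false
universe u
open CategoryTheory CategoryTheory.Limits AlgebraicGeometry
attribute [local instance] HasDerivedCategory.standard
open Coherent

namespace Groth.Agent.S9516

/-- Let X be a Noetherian scheme, F a quasi-coherent O_X-module, G a coherent O_X-module and I a
quasi-coherent sheaf of ideals, with U the open complement of the closed subset cut out by I. If a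
morphism ψ : I^n G → F restricts to zero on U, then ψ vanishes on I^N G for some N: there is a
morphism ι : I^N G → I^n G commuting with the inclusions into G and with ι ≫ ψ = 0. (Together with
the surjectivity statement this says that colim_n Hom(I^n G, F) → Hom(G|_U, F|_U) is bijective.) -/
theorem result (X : Scheme.{u}) [IsNoetherian X] (F G : X.Modules)
    (hF : Coh.IsQCoh F) (hG : Coh.IsCoh G) (I : X.IdealSheafData)
    (U : X.Opens) (hU : (U : Set X) = (I.support : Set X)ᶜ) (n : ℕ)
    (ψ : (Dual3.idealMul (I ^ n)).obj G ⟶ F)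
    (hψ : (Scheme.Modules.restrictFunctor U.ι).map ψ = 0) :
    ∃ (N : ℕ) (ι : (Dual3.idealMul (I ^ N)).obj G ⟶ (Dual3.idealMul (I ^ n)).obj G),
      ι ≫ Dual3.idealMulι (I ^ n) G = Dual3.idealMulι (I ^ N) G ∧ ι ≫ ψ = 0 := by
  classical
  open Groth.Agent.Lib.Helper45.GraphTrick Groth.Agent.Lib.Helper45.DevRoots
    Groth.Agent.Lib.Helper45.IdealMul Groth.Agent.Lib.Helper45.IdealMulPow
    Groth.Agent.Lib.Helper49 in
  haveI : F.IsQuasicoherent := hF
  haveI := hG.1
  have hIG : Coh.IsCoh ((Dual3.idealMul (I ^ n)).obj G) := isCoh_idealMul (I ^ n) G hG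
  haveI := hIG.1
  have hK : Coh.IsCoh (kernel ψ) := isCoh_kernel ψ hIG hF
  haveI := hK.1
  haveI : Mono (kernel.ι ψ ≫ Dual3.idealMulι (I ^ n) G) := mono_comp _ _
  have hC : Coh.IsCoh (cokernel (kernel.ι ψ ≫ Dual3.idealMulι (I ^ n) G)) :=
    isCoh_cokernel _ hK.1 hG
  haveI := hC.1
  have hsupp : CohB1.support (cokernel (kernel.ι ψ ≫ Dual3.idealMulι (I ^ n) G)) ⊆
      (I.support : Set X) := by
    intro x hx
    by_contra hxI
    apply hx
    rw [subsingleton_stalk_cokernel_iff]
    have hxU : x ∈ U := by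
      rw [← SetLike.mem_coe, hU]
      exact hxI
    obtain ⟨y, rfl⟩ : ∃ y : U, U.ι y = x := ⟨⟨x, hxU⟩, rfl⟩
    have h1 : Function.Surjective (stalkMap (Dual3.idealMulι (I ^ n) G) (U.ι y)).hom :=
      stalkMap_idealMulι_surjective _ _ _ (fun h => hxI (support_pow_le I n h))
    have h2 : Function.Surjective (stalkMap (kernel.ι ψ) (U.ι y)).hom := by
      intro g
      exact (stalkMap_eq_zero_iff_exists_kernel ψ (U.ι y) g).mp
        (stalkMap_eq_zero_of_restrict_eq_zero ψ U hψ y g)
    have : (stalkMap (kernel.ι ψ ≫ Dual3.idealMulι (I ^ n) G) (U.ι y)).hom =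
        (stalkMap (Dual3.idealMulι (I ^ n) G) (U.ι y)).hom ∘ (stalkMap (kernel.ι ψ) (U.ι y)).hom :=
      funext (stalkMap_comp_apply' _ _ _)
    rw [this]
    exact h1.comp h2
  obtain ⟨N, hN⟩ := exists_pow_killing I _ hC hsupp
  obtain ⟨t, ht⟩ := exists_factor_idealMulι (I ^ N)
    (kernel.ι ψ ≫ Dual3.idealMulι (I ^ n) G) hC.2 hN
  refine ⟨N, t ≫ kernel.ι ψ, ?_, ?_⟩
  · rw [Category.assoc]
    exact ht
  · rw [Category.assoc, kernel.condition, comp_zero]

end Groth.Agent.S9516
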