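import Groth.Statements.S9521
import Groth.Agent.Lib.Helper45.Dev.PureSub

set_option linter.style.haveILetI false

set_option autoImplicit false
universe u
open Coherent

namespace Groth.Agent.S9521

open CategoryTheory CategoryTheory.Limits AlgebraicGeometry in
/-- Let X be a Noetherian scheme, i : Z → X a closed immersion with Z an integral scheme, ξ ∈ X the
image of the generic point of Z, and F a coherent O_X-module whose stalk F_ξ is annihilated by the
maximal ideal of O_{X,ξ}. Then one can find r ≥ 0 together with a coherent ideal sheaf I ⊆ O_Z and a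
monomorphism of O_X-modules i_*(I^⊕r) → F that becomes an isomorphism when restricted to some open
neighbourhood of ξ. -/
theorem result (X Z : Scheme.{u}) [IsNoetherian X]
    (i : Z ⟶ X) [IsClosedImmersion i] [IsIntegral Z] (F : X.Modules) (hF : Coh.IsCoh F)
    (hann : ∀ a ∈ IsLocalRing.maximalIdeal (X.presheaf.stalk (i (genericPoint Z))),
      ∀ m : ↑(F.presheaf.stalk (i (genericPoint Z))), a • m = 0) :
    ∃ (r : ℕ) (I : Z.Modules) (ι : I ⟶ Coh.structureModule Z) (φ : (Coh.push i).obj (∐ fun _ : Fin r => I) ⟶ F),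
      Mono ι ∧ Coh.IsCoh I ∧ Mono φ ∧
      ∃ U : X.Opens, i (genericPoint Z) ∈ U ∧ IsIso ((Scheme.Modules.restrictFunctor U.ι).map φ) := by
  classical
  letI := @Abelian.hasFiniteBiproducts Z.Modules _ _
  obtain ⟨r, I, ι, φ, hι, hI, hφ, hbij⟩ :=
    Groth.Agent.Lib.Helper45.PureSub.exists_mono_push_ideal_power i F hF hann
  haveI := hφ
  let e : (Coh.push i).obj (∐ fun _ : Fin r => I) ≅
      (Scheme.Modules.pushforward i).obj (⨁ fun _ : Fin r => I) :=
    (Scheme.Modules.pushforward i).mapIso (biproduct.isoCoproduct (fun _ : Fin r => I)).symm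
  haveI : I.IsQuasicoherent := hI.1
  haveI : (Coh.structureModule Z).IsQuasicoherent :=
    Groth.Agent.Lib.Helper1.isQuasicoherent_structureModule Z
  have hBI : Coh.IsCoh (⨁ fun _ : Fin r => I) :=
    Groth.Agent.Lib.Helper45.DevRoots.isCoh_biproduct _ (fun _ => hI)
  haveI := hBI.1
  haveI hq1 : ((Scheme.Modules.pushforward i).obj (⨁ fun _ : Fin r => I)).IsQuasicoherent :=
    Groth.Agent.Lib.Helper49.isQuasicoherent_pushforward _ i
  have hft1 : SheafOfModules.IsFiniteType (R := X.ringCatSheaf)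
      ((Scheme.Modules.pushforward i).obj (⨁ fun _ : Fin r => I)) :=
    Groth.Agent.Lib.Helper49.isFiniteType_pushforward_of_isFinite i _ hBI.2
  haveI hq2 : ((Coh.push i).obj (∐ fun _ : Fin r => I)).IsQuasicoherent :=
    Groth.Agent.Lib.Helper49.isQuasicoherent_of_iso e.symm hq1
  have hft2 : SheafOfModules.IsFiniteType (R := X.ringCatSheaf)
      ((Coh.push i).obj (∐ fun _ : Fin r => I)) :=
    Groth.Agent.Lib.Helper49.isFiniteType_of_iso e.symm hft1
  haveI := hF.1
  have hbij' : Function.Bijective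
      (Groth.Agent.Lib.Helper49.stalkMap (e.hom ≫ φ) (i (genericPoint Z))).hom := by
    have : (Groth.Agent.Lib.Helper49.stalkMap (e.hom ≫ φ) (i (genericPoint Z))).hom =
        (Groth.Agent.Lib.Helper49.stalkMap φ (i (genericPoint Z))).hom ∘
          (Groth.Agent.Lib.Helper49.stalkMap e.hom (i (genericPoint Z))).hom :=
      funext (Groth.Agent.Lib.Helper49.stalkMap_comp_apply' _ _ _)
    rw [this]
    exact hbij.comp ⟨Groth.Agent.Lib.Helper49.stalkMap_injective_of_mono _ _,
      Groth.Agent.Lib.Helper45.stalkMap_surjective_of_epi _ _⟩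
  obtain ⟨U, hxU, hiso⟩ := Groth.Agent.Lib.Helper49.exists_isIso_restrict_of_stalkMap_bijective
    hft2 hF.2 (e.hom ≫ φ) (i (genericPoint Z)) hbij'
  exact ⟨r, I, ι, e.hom ≫ φ, hι, hI, mono_comp _ _, U, hxU, hiso⟩

end Groth.Agent.S9521
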