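import Groth.Statements.S9522
import Groth.Agent.Lib.Helper45.Dev.IdealMul

set_option linter.style.haveILetI false

set_option autoImplicit false
universe u
open CategoryTheory CategoryTheory.Limits AlgebraicGeometry
attribute [local instance] HasDerivedCategory.standard
open Coherent

namespace Groth.Agent.S9522

/-- Let X be a Noetherian scheme, Z₀ ⊆ X an irreducible closed subset with generic point ξ, and P an
isomorphism-invariant property of O_X-modules that holds for every zero module and such that (1) for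
every short exact sequence 0 → F₁ → F → F₂ → 0 of coherent modules, P(F₁) and P(F₂) imply P(F); (2)
for coherent F, P(F^⊕r) for some r ≥ 1 implies P(F); (3) P holds for i_*I for every closed immersion
i : Z → X with Z integral, i(Z) a proper subset of Z₀, and every quasi-coherent ideal sheaf I ⊆ O_Z;
(4) there is a coherent module G with support equal to Z₀, whose stalk at ξ is annihilated by the
maximal ideal of O_{X,ξ}, and such that for every quasi-coherent sheaf of ideals J on X with ξ ∉
V(J) there is a quasi-coherent submodule G' ⊆ J·G whose inclusion into G induces an isomorphism on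
stalks at ξ and for which P holds. Then P holds for every coherent O_X-module whose support is
contained in Z₀. (The published statement does not ask that P hold for the zero module, although its
proof uses this for a filtration with no steps; without it the conclusion fails for the zero module
when Z₀ is a closed point: on the spectrum of a field, with P(F) meaning that F is nonzero, every
other hypothesis holds. This row assumes that P holds for every zero module.) -/
theorem result (X : Scheme.{u}) [IsNoetherian X]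
    (Z₀ : Set X) (hZ₀ : IsClosed Z₀) (hirr : IsIrreducible Z₀) (ξ : X) (hξ : ξ ∈ Z₀ ∧ closure {ξ} = Z₀)
    (P : X.Modules → Prop) (hP : ∀ M N : X.Modules, Nonempty (M ≅ N) → P M → P N)
    (h₀ : ∀ M : X.Modules, IsZero M → P M)
    (h₁ : ∀ S : ShortComplex X.Modules, S.ShortExact → Coh.IsCoh S.X₁ → Coh.IsCoh S.X₂ → Coh.IsCoh S.X₃ →
      P S.X₁ → P S.X₃ → P S.X₂)
    (h₂ : ∀ (F : X.Modules) (r : ℕ), Coh.IsCoh F → 1 ≤ r → P (∐ fun _ : Fin r => F) → P F)
    (h₃ : ∀ (Z : Scheme.{u}) (i : Z ⟶ X), IsClosedImmersion i → IsIntegral Z →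
      Set.range ⇑i ⊆ Z₀ → Set.range ⇑i ≠ Z₀ →
      ∀ (I : Z.Modules) (ι : I ⟶ Coh.structureModule Z), Mono ι → Coh.IsQCoh I → P ((Coh.push i).obj I))
    (h₄ : ∃ G : X.Modules, Coh.IsCoh G ∧ CohB1.support G = Z₀ ∧
      (∀ a ∈ IsLocalRing.maximalIdeal (X.presheaf.stalk ξ), ∀ m : ↑(G.presheaf.stalk ξ), a • m = 0) ∧
      ∀ J : X.IdealSheafData, ξ ∉ (J.support : Set X) →
        ∃ (G' : X.Modules) (ι' : G' ⟶ (Dual3.idealMul J).obj G), Mono ι' ∧ Coh.IsQCoh G' ∧
          IsIso ((TopCat.Presheaf.stalkFunctor _ ξ).map (ι' ≫ Dual3.idealMulι J G).mapPresheaf) ∧ P G')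
    (F : X.Modules) (hF : Coh.IsCoh F) (hsupp : CohB1.support F ⊆ Z₀) : P F := by
  classical
  open Groth.Agent.Lib.Helper45.DevCore Groth.Agent.Lib.Helper45.NowhereDense
    Groth.Agent.Lib.Helper45.CoprimarySheaf Groth.Agent.Lib.Helper45.GraphTrick
    Groth.Agent.Lib.Helper45.DevRoots Groth.Agent.Lib.Helper45.IdealMul
    Groth.Agent.Lib.Helper49 in
  obtain ⟨hξZ, hcl⟩ := hξ
  subst hcl
  obtain ⟨G, hG, hGsupp, hkill, hG4⟩ := h₄
  -- modules with zero stalk at `ξ`
  have hsmall : ∀ M' : X.Modules, Coh.IsCoh M' → CohB1.support M' ⊆ closure {ξ} →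
      Subsingleton ↑(M'.presheaf.stalk ξ) → P M' := by
    intro M' hM' hM'supp hsub
    obtain ⟨m, F', φ, h0, ⟨ε⟩, hcoh, hstep⟩ := Groth.Agent.Lib.Helper67.Devissage.hasFilt M' hM'
    have hsuppF : ∀ k j : ℕ, j + k = m → CohB1.support (F' j) ⊆ CohB1.support M' := by
      intro k
      induction k with
      | zero =>
        intro j hj
        rw [Nat.add_zero] at hj
        subst hj
        exact support_subset_of_mono ε.hom
      | succ k ih =>
        intro j hj
        have hjm : j < m := by omega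
        haveI := (hstep j hjm).1
        exact (support_subset_of_mono (φ j)).trans (ih (j + 1) (by omega))
    have hξM' : ξ ∉ CohB1.support M' := fun h => h hsub
    have key : ∀ j, j ≤ m → P (F' j) := by
      intro j
      induction j with
      | zero => exact fun _ => h₀ _ h0
      | succ j ih =>
        intro hj
        have hjm : j < m := hj
        obtain ⟨hmono, Z, i, hi, hZ, I, ι, hι, hqI, hI, ⟨κ⟩⟩ := hstep j hjm
        haveI := hmono
        have hc1 := hcoh j hjm.le
        have hc2 := hcoh (j + 1) hj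
        have hc3 : Coh.IsCoh (cokernel (φ j)) := isCoh_cokernel _ hc1.1 hc2
        have hs2 : CohB1.support (F' (j + 1)) ⊆ CohB1.support M' :=
          hsuppF (m - (j + 1)) (j + 1) (by omega)
        haveI : I.IsQuasicoherent := hqI
        have hrange : Set.range ⇑i ⊆ CohB1.support M' := by
          refine (Groth.Agent.Lib.Helper45.IdealSupport.range_subset_support_push i I ι hI).trans ?_
          refine (support_subset_of_mono κ.inv).trans ?_
          exact (support_subset_of_epi (cokernel.π (φ j))).trans hs2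
        have hPpush : P ((Coh.push i).obj I) := by
          refine h₃ Z i hi hZ (hrange.trans hM'supp) ?_ I ι hι hqI
          intro heq
          exact hξM' (hrange (heq ▸ hξZ))
        exact h₁ _ (shortExact_cokernel (φ j)) hc1 hc2 hc3 (ih hjm.le)
          (hP _ _ ⟨κ.symm⟩ hPpush)
    exact hP _ _ ⟨ε⟩ (key m le_rfl)
  have hext : ∀ S : ShortComplex X.Modules, S.ShortExact → Coh.IsCoh S.X₁ → Coh.IsCoh S.X₂ →
      Coh.IsCoh S.X₃ → CohB1.support S.X₂ ⊆ closure {ξ} → P S.X₁ → P S.X₃ → P S.X₂ :=
    fun S hS h1 h2 h3 _ => h₁ S hS h1 h2 h3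
  have hroot : ∀ (F' : X.Modules) (n : ℕ), 1 ≤ n → Coh.IsCoh F' →
      CohB1.support F' ⊆ closure {ξ} →
      P (@biproduct _ _ _ _ (fun _ : Fin n => F')
        (@HasBiproductsOfShape.has_biproduct _ _ _ _
          (@HasFiniteBiproducts.out _ _ _ Abelian.hasFiniteBiproducts n) _)) → P F' := by
    intro F' n hn hF' _ hPB
    letI := @Abelian.hasFiniteBiproducts X.Modules _ _
    exact h₂ F' n hF' hn (hP _ _ ⟨biproduct.isoCoproduct (fun _ : Fin n => F')⟩ hPB)
  have hnt : Nontrivial ↑(G.presheaf.stalk ξ) := by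
    have h1 : ξ ∈ CohB1.support G := hGsupp ▸ hξZ
    exact not_subsingleton_iff_nontrivial.mp h1
  have hG4' : ∀ J : X.IdealSheafData, ξ ∉ (J.support : Set X) →
      ∃ (G' : X.Modules) (ι' : G' ⟶ (Dual3.idealMul J).obj G), Mono ι' ∧ G'.IsQuasicoherent ∧
        Function.Bijective (stalkMap (ι' ≫ Dual3.idealMulι J G) ξ).hom ∧ P G' := by
    intro J hJ
    obtain ⟨G', ι', h1, h2, h3, h4⟩ := hG4 J hJ
    haveI : IsIso (stalkMap (ι' ≫ Dual3.idealMulι J G) ξ) := h3
    exact ⟨G', ι', h1, h2, ConcreteCategory.bijective_of_isIso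
      (stalkMap (ι' ≫ Dual3.idealMulι J G) ξ), h4⟩
  have hsimple := of_simple_stalk P ξ hext hsmall hroot G hG hGsupp.le hnt hkill hG4'
  haveI := hG.1
  haveI : Module.Finite (X.presheaf.stalk ξ) ↑(G.presheaf.stalk ξ) :=
    Groth.Agent.Lib.Helper12.QuasiFlat.finite_stalk_of_isCoh G hG ξ
  haveI hss : IsSemisimpleModule (X.presheaf.stalk ξ) ↑(G.presheaf.stalk ξ) :=
    isSemisimpleModule_of_killed _ _ hkill
  obtain ⟨Q₀, p, hp, hQ₀, hQ₀simple⟩ := exists_simple_quotient G hG ξ hss hnt
  have hQ₀supp : CohB1.support Q₀ ⊆ closure {ξ} := (support_subset_of_epi p).trans hGsupp.le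
  obtain ⟨Q₁, j', hj'mono, hQ₁, hj'bij, hpure'⟩ := exists_pure_sub Q₀ hQ₀ ξ hQ₀supp
  have hQ₁supp : CohB1.support Q₁ ⊆ closure {ξ} := (support_subset_of_mono j').trans hQ₀supp
  have hQ₁simple : IsSimpleModule (X.presheaf.stalk ξ) ↑(Q₁.presheaf.stalk ξ) :=
    IsSimpleModule.congr (LinearEquiv.ofBijective (stalkMapLinear j' ξ) hj'bij)
  exact devissage_core_ext P hP ξ hext hsmall hsimple Q₁ hQ₁ hQ₁supp hQ₁simple hpure' F hF hsupp

end Groth.Agent.S9522
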