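import Mathlib
import Groth.Statements.S9528
import Groth.Agent.Lib.Helper49.FormalReindex
import Groth.Agent.Lib.Helper49.Domination

set_option autoImplicit false
universe u
open Formal2

namespace Groth.Agent.S9528

open CategoryTheory AlgebraicGeometry in
/-- For the ideal sheaves generated by ideals of a base ring: let X be a Noetherian scheme over Spec A
and I, J ideals of A such that the closed subsets of X lying over V(I) and over V(J) coincide (that
is, V(I·O_X) = V(J·O_X)). Then the category of coherent formal modules for I on X is equivalent to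
the one for J. (The published statement treats arbitrary quasi-coherent ideal sheaves of X with the
same vanishing locus; this row covers ideal sheaves generated by ideals of a base ring.) -/
theorem result (A : Type u) [CommRing A] (I J : Ideal A)
    (X : Scheme.{u}) [X.Over (Spec (CommRingCat.of A))] [IsNoetherian X]
    (hV : (fun x : X => (X ↘ Spec (CommRingCat.of A)) x) ⁻¹' PrimeSpectrum.zeroLocus (I : Set A) =
      (fun x : X => (X ↘ Spec (CommRingCat.of A)) x) ⁻¹' PrimeSpectrum.zeroLocus (J : Set A)) :
    Nonempty (Formal2.CohFormalCat I X ≌ Formal2.CohFormalCat J X) := by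
  obtain ⟨c, hc⟩ := Groth.Agent.Lib.Helper49.Domination.exists_killedBy (A := A) (X := X)
    (I := J) (J := I) hV.ge
  obtain ⟨c', hc'⟩ := Groth.Agent.Lib.Helper49.Domination.exists_killedBy (A := A) (X := X)
    (I := I) (J := J) hV.le
  have hm : Monotone (fun n : ℕ => c * (n + 1) + n) := by
    intro a b hab
    exact Nat.add_le_add (Nat.mul_le_mul_left c (Nat.succ_le_succ hab)) hab
  have hm' : Monotone (fun n : ℕ => c' * (n + 1) + n) := by
    intro a b hab
    exact Nat.add_le_add (Nat.mul_le_mul_left c' (Nat.succ_le_succ hab)) hab
  refine ⟨Groth.Agent.Lib.Helper49.FormalReindex.equivalence I J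
    (fun n => c * (n + 1) + n) (fun n => c' * (n + 1) + n) hm hm' ?_ ?_ ?_ ?_⟩
  · intro T n hT
    refine Groth.Agent.Lib.Helper49.FormalConst.killedBy_mono ?_ (hc T (n + 1) hT)
    apply Ideal.pow_le_pow_right
    omega
  · intro T n hT
    refine Groth.Agent.Lib.Helper49.FormalConst.killedBy_mono ?_ (hc' T (n + 1) hT)
    apply Ideal.pow_le_pow_right
    omega
  · intro n
    change n ≤ c * ((c' * (n + 1) + n) + 1) + (c' * (n + 1) + n)
    omega
  · intro n
    change n ≤ c' * ((c * (n + 1) + n) + 1) + (c * (n + 1) + n)
    omega

end Groth.Agent.S9528
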