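import Groth.Statements.S9556
import Groth.Agent.Lib.Helper7.EtaleSplitUnram
-- import your own Groth.Agent.* helpers here

set_option autoImplicit false
universe u
open EtLocal

namespace Groth.Agent.S9556

open AlgebraicGeometry CategoryTheory Limits in
/-- Let f : X ⟶ S be a separated morphism of schemes, s a point of S and x_1, …, x_n pairwise distinct
points of X over s such that f is unramified at each x_i (some open neighbourhood of x_i is locally
of finite type and formally unramified over S). Then there are an étale morphism g : U ⟶ S, a point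
u of U over s, and a decomposition of X_U = X ×_S U into pairwise disjoint open subschemes W and
finitely many V_k which together cover X_U, such that each V_k ⟶ U is a closed immersion whose image
contains u and no point of W over u maps to any of the x_i. -/
theorem result {X S : Scheme.{u}} (f : X ⟶ S)
    [IsSeparated f] (s : S)
    {ι : Type} [Finite ι] (x : ι → ↑X) (hinj : Function.Injective x) (hs : ∀ i, f (x i) = s)
    (hx : ∀ i, ∃ W : X.Opens, x i ∈ W ∧ LocallyOfFiniteType (W.ι ≫ f) ∧ FormallyUnramified (W.ι ≫ f)) :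
    ∃ (U : Scheme.{u}) (g : U ⟶ S) (u : U), Etale g ∧ g u = s ∧
      ∃ (K : Type) (_ : Finite K) (W : (pullback f g).Opens) (V : K → (pullback f g).Opens),
        W ⊔ (⨆ k, V k) = ⊤ ∧ (∀ k, Disjoint W (V k)) ∧ (∀ k k', k ≠ k' → Disjoint (V k) (V k')) ∧
        (∀ k, IsClosedImmersion ((V k).ι ≫ pullback.snd f g) ∧
          ∃ w : ↑(pullback f g), w ∈ V k ∧ pullback.snd f g w = u) ∧
        (∀ (w : ↑(pullback f g)) (i : ι), w ∈ W → pullback.snd f g w = u → pullback.fst f g w ≠ x i) := by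
  classical
  open Groth.Agent.Lib.Helper7.EtaleSplit Groth.Agent.Lib.Helper22.Weighting in
  choose W₀ hxW hlft hunr using hx
  set O : X.Opens := ⨆ i, W₀ i with hO_def
  have hlftO : LocallyOfFiniteType (O.ι ≫ f) := of_iSup_opens @LocallyOfFiniteType f W₀ hlft
  have hunrO : FormallyUnramified (O.ι ≫ f) := of_iSup_opens @FormallyUnramified f W₀ hunr
  have hlqf : LocallyQuasiFinite (O.ι ≫ f) := locallyQuasiFinite_of_formallyUnramified _
  have hxO : ∀ i, x i ∈ O := fun i => TopologicalSpace.Opens.mem_iSup.mpr ⟨i, hxW i⟩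
  have hq : ∀ y ∈ Set.range x, f.QuasiFiniteAt y := by
    rintro _ ⟨i, rfl⟩
    exact (Scheme.Hom.quasiFiniteAt_comp_iff_of_isOpenImmersion (f := O.ι) (g := f)
      (x := ⟨x i, hxO i⟩)).mp ((O.ι ≫ f).quasiFiniteAt _)
  obtain ⟨U, g, hg, u, hu, n, p, x₀, hx₀, hdeg, huniq, hinjp, hpO, hcov, hcl, hdisj⟩ :=
    exists_etale_pieces_pts_separated f s (Set.range x) (Set.finite_range x) O
      (by rintro _ ⟨i, rfl⟩; exact hxO i) hq
  obtain ⟨U', hu', x₁, h1, h2, h3, h4, h5, h6, h7⟩ :=
    exists_shrink p x₀ hx₀ hdeg hinjp hpO hcov @IsClosedImmersion (fun k => by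
      have := (p k).formallyUnramified_π O (hpO k)
      exact exists_opens_isClosedImmersion (p k).π u (hdeg k))
  set p' := fun k => (p k).baseChange U'.ι with hp'
  have hcl' : ∀ k, IsClosed (Set.range (p' k).j) := fun k => (p' k).isClosed_range_j
  have hdisj' : ∀ k k', k ≠ k' → Disjoint (Set.range (p' k).j) (Set.range (p' k').j) :=
    fun k k' hkk' => disjoint_range_baseChange (p k) (p k') U'.ι (hdisj k k' hkk')
  let Wc : (pullback f (U'.ι ≫ g)).Opens :=
    ⟨(⋃ k, Set.range (p' k).j)ᶜ, (isClosed_iUnion_of_finite hcl').isOpen_compl⟩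
  refine ⟨U', U'.ι ≫ g, ⟨u, hu'⟩, inferInstance, hu, Fin n, inferInstance, Wc,
    fun k => (p' k).j.opensRange, ?_, ?_, ?_, ?_, ?_⟩
  · rw [eq_top_iff]
    intro w _
    by_cases hw : w ∈ ⋃ k, Set.range (p' k).j
    · obtain ⟨k, hk⟩ := Set.mem_iUnion.mp hw
      exact (le_sup_right : (⨆ k, (p' k).j.opensRange) ≤ Wc ⊔ ⨆ k, (p' k).j.opensRange)
        (TopologicalSpace.Opens.mem_iSup.mpr ⟨k, hk⟩)
    · exact (le_sup_left : Wc ≤ Wc ⊔ ⨆ k, (p' k).j.opensRange) hw
  · intro k
    rw [disjoint_iff, eq_bot_iff]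
    rintro w ⟨hw1, hw2⟩
    exact (hw1 (Set.mem_iUnion.mpr ⟨k, hw2⟩)).elim
  · intro k k' hkk'
    rw [disjoint_iff, eq_bot_iff]
    rintro w ⟨hw1, hw2⟩
    exact (Set.disjoint_left.mp (hdisj' k k' hkk') hw1 hw2).elim
  · intro k
    refine ⟨((p' k).opensRange_iff @IsClosedImmersion).mpr (h7 k),
      (p' k).j (x₁ k), ⟨x₁ k, rfl⟩, ?_⟩
    rw [BPiece.snd_j_apply]; exact h1 k
  · intro w i hwW hw hwi
    obtain ⟨k₀, rfl⟩ := h6 w hw ⟨i, hwi.symm⟩
    exact hwW (Set.mem_iUnion.mpr ⟨k₀, x₁ k₀, rfl⟩)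

end Groth.Agent.S9556
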