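import Groth.Statements.S9557
import Groth.Agent.Lib.Helper7.EtaleSplitUnram
-- import your own Groth.Agent.* helpers here

set_option autoImplicit false
universe u
open EtLocal

namespace Groth.Agent.S9557

open AlgebraicGeometry CategoryTheory Limits in
/-- Let f : X ⟶ S be any morphism of schemes, s a point of S and x_1, …, x_n pairwise distinct points of
X over s such that f is étale at each x_i (the restriction of f to some open neighbourhood of x_i is
étale). Then there are an étale morphism g : U ⟶ S, a point u of U over s and finitely many opens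
V_k of X_U = X ×_S U, each labelled by one of the x_i, such that (1) each V_k ⟶ U is an isomorphism,
(2) no point of X_U over u lies in two different V_k, and (3) every point of X_U over u mapping to
x_i lies in some V_k labelled by x_i. -/
theorem result {X S : Scheme.{u}} (f : X ⟶ S) (s : S)
    {ι : Type} [Finite ι] (x : ι → ↑X) (hinj : Function.Injective x) (hs : ∀ i, f (x i) = s)
    (hx : ∀ i, ∃ W : X.Opens, x i ∈ W ∧ Etale (W.ι ≫ f)) :
    ∃ (U : Scheme.{u}) (g : U ⟶ S) (u : U), Etale g ∧ g u = s ∧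
      ∃ (K : Type) (_ : Finite K) (lab : K → ι) (V : K → (pullback f g).Opens),
        (∀ k, IsIso ((V k).ι ≫ pullback.snd f g)) ∧
        (∀ (k k' : K) (w : ↑(pullback f g)), w ∈ V k → w ∈ V k' → pullback.snd f g w = u → k = k') ∧
        (∀ (w : ↑(pullback f g)) (i : ι), pullback.snd f g w = u → pullback.fst f g w = x i →
          ∃ k, lab k = i ∧ w ∈ V k) := by
  classical
  open Groth.Agent.Lib.Helper7.EtaleSplit Groth.Agent.Lib.Helper22.Weighting in
  choose W hxW het using hx
  set O : X.Opens := ⨆ i, W i with hO_def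
  have hetO : Etale (O.ι ≫ f) := of_iSup_opens @Etale f W het
  have hlftO : LocallyOfFiniteType (O.ι ≫ f) := inferInstance
  have hunrO : FormallyUnramified (O.ι ≫ f) := inferInstance
  have hlqf : LocallyQuasiFinite (O.ι ≫ f) := locallyQuasiFinite_of_formallyUnramified _
  have hxO : ∀ i, x i ∈ O := fun i => TopologicalSpace.Opens.mem_iSup.mpr ⟨i, hxW i⟩
  have hq : ∀ y ∈ Set.range x, f.QuasiFiniteAt y := by
    rintro _ ⟨i, rfl⟩
    exact (Scheme.Hom.quasiFiniteAt_comp_iff_of_isOpenImmersion (f := O.ι) (g := f)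
      (x := ⟨x i, hxO i⟩)).mp ((O.ι ≫ f).quasiFiniteAt _)
  obtain ⟨U, g, hg, u, hu, n, p, x₀, hx₀, hdeg, huniq, hinjp, hpO, hcov⟩ :=
    exists_etale_pieces_pts f s (Set.range x) (Set.finite_range x) O
      (by rintro _ ⟨i, rfl⟩; exact hxO i) hq
  obtain ⟨U', hu', x₁, h1, h2, h3, h4, h5, h6, h7⟩ :=
    exists_shrink p x₀ hx₀ hdeg hinjp hpO hcov (MorphismProperty.isomorphisms Scheme.{u})
      (fun k => by
        have := (p k).etale_π O (hpO k)
        exact exists_opens_isIso (p k).π u (hdeg k))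
  set p' := fun k => (p k).baseChange U'.ι with hp'
  refine ⟨U', U'.ι ≫ g, ⟨u, hu'⟩, inferInstance, hu,
    {k : Fin n // ∃ i, pullback.fst f (U'.ι ≫ g) ((p' k).j (x₁ k)) = x i}, inferInstance,
    fun k => k.2.choose, fun k => (p' k.1).j.opensRange, ?_, ?_, ?_⟩
  · intro k
    exact ((p' k.1).opensRange_iff (MorphismProperty.isomorphisms Scheme.{u})).mpr (h7 k.1)
  · rintro k k' _ ⟨y, rfl⟩ ⟨y', hy'⟩ hw
    rw [BPiece.snd_j_apply] at hw
    have e1 : y = x₁ k.1 := h3 k.1 y hw
    have hw' : (p' k'.1).π y' = ⟨u, hu'⟩ := by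
      rw [← BPiece.snd_j_apply, hy', BPiece.snd_j_apply]; exact hw
    have e2 : y' = x₁ k'.1 := h3 k'.1 y' hw'
    apply Subtype.ext
    apply h4
    rw [← e1, ← e2, hy']
  · intro w i hw hwi
    obtain ⟨k₀, rfl⟩ := h6 w hw ⟨i, hwi.symm⟩
    refine ⟨⟨k₀, i, hwi⟩, ?_, ⟨x₁ k₀, rfl⟩⟩
    have hc := (⟨k₀, i, hwi⟩ : {k : Fin n // ∃ i, pullback.fst f (U'.ι ≫ g)
      ((p' k).j (x₁ k)) = x i}).2.choose_spec
    exact hinj (hc.symm.trans hwi)

end Groth.Agent.S9557
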