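import Groth.Statements.S9560
import Mathlib.RingTheory.Smooth.Fiber
import Mathlib.RingTheory.Smooth.Flat
import Mathlib.RingTheory.RingHom.Surjective

set_option autoImplicit false
universe u
open EtLocal

namespace Groth.Agent.S9560

open TensorProduct IsLocalRing Algebra

/-- flatness of `B_q` over `A` when `B_q` is formally smooth over Noetherian `A`, `B` of finite type. -/
theorem flat_of_formallySmooth_localization (A B : Type u) [CommRing A] [CommRing B]
    [Algebra A B] [IsNoetherianRing A] [Algebra.FiniteType A B]
    (q : Ideal B) [q.IsPrime] [Algebra.FormallySmooth A (Localization.AtPrime q)] :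
    Module.Flat A (Localization.AtPrime q) := by
  obtain ⟨n, f₀, hf₀⟩ := Algebra.FiniteType.iff_quotient_mvPolynomial''.mp
    (inferInstance : Algebra.FiniteType A B)
  let Q : Ideal (MvPolynomial (Fin n) A) := q.comap f₀
  have hQ : Q.IsPrime := Ideal.comap_isPrime _ _
  let g : Localization.AtPrime Q →ₐ[A] Localization.AtPrime q :=
    Localization.localAlgHom Q q f₀ rfl
  have hg : Function.Surjective g :=
    RingHom.surjective_localRingHom_of_surjective f₀.toRingHom hf₀ q
  have : Module.Flat A (Localization.AtPrime Q) :=
    Module.Flat.trans A (MvPolynomial (Fin n) A) _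
  have : IsNoetherianRing (Localization.AtPrime Q) :=
    IsLocalization.isNoetherianRing Q.primeCompl _ inferInstance
  exact Algebra.FormallySmooth.flat_of_algHom_of_isNoetherianRing g hg

/-- local criterion: flat + unramified at `q` implies smooth at `q`. -/
theorem formallySmooth_of_flat_of_isUnramifiedAt (A B : Type u) [CommRing A] [CommRing B]
    [Algebra A B] [Algebra.FinitePresentation A B]
    (p : Ideal A) [p.IsPrime] (q : Ideal B) [q.IsPrime] [q.LiesOver p]
    [Algebra (Localization.AtPrime p) (Localization.AtPrime q)]
    [Localization.AtPrime.IsLiesOverAlgebra p q]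
    [Module.Flat (Localization.AtPrime p) (Localization.AtPrime q)]
    [Algebra.IsUnramifiedAt A q] :
    Algebra.FormallySmooth A (Localization.AtPrime q) := by
  let Rp := Localization.AtPrime p
  let Sp := Localization (algebraMapSubmonoid B p.primeCompl)
  let Sq := Localization.AtPrime q
  let f : Sp →ₐ[B] Sq := IsLocalization.liftAlgHom (M := algebraMapSubmonoid B p.primeCompl)
        (f := Algebra.ofId _ _) (by
      rintro ⟨_, x, hx, rfl⟩
      simpa using! IsLocalization.map_units (M := q.primeCompl) Sq ⟨algebraMap _ _ x,
        by simp_all [q.over_def p]⟩)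
  algebraize [f.toRingHom]
  have : IsScalarTower A Sp Sq := .to₁₃₄ _ B _ _
  have : IsScalarTower Rp Sp Sq := .of_algebraMap_eq' <| by
    apply IsLocalization.ringHom_ext p.primeCompl
    simp only [RingHom.comp_assoc, ← IsScalarTower.algebraMap_eq]
  have : IsLocalization (algebraMapSubmonoid Sp q.primeCompl) Sq :=
    .isLocalization_of_submonoid_le _ _ (algebraMapSubmonoid B p.primeCompl) _
    (by rintro _ ⟨x, hx, rfl⟩; simp_all [q.over_def p])
  have : FinitePresentation Rp Sp := by
    have : Algebra.IsPushout A Rp B Sp :=
      .symm <| Algebra.isPushout_of_isLocalization p.primeCompl _ _ _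
    exact .equiv (Algebra.IsPushout.equiv A Rp B Sp)
  have hU' : Algebra.FormallyUnramified Rp Sq := .of_restrictScalars A _ _
  have : EssFiniteType Rp Sq := .of_comp A _ _
  have : FormallySmooth (ResidueField Rp) ((ResidueField Rp) ⊗[Rp] Sq) := by
    have : FormallyEtale (ResidueField Rp) ((ResidueField Rp) ⊗[Rp] Sq) :=
      .of_formallyUnramified_of_field _ _
    infer_instance
  have := FormallySmooth.of_formallySmooth_residueField_tensor
    (R := Rp) (S := Sq) (P := Sp) (algebraMapSubmonoid _ q.primeCompl)
  exact .comp A Rp Sq

theorem result (A B : Type u) [CommRing A] [CommRing B]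
    [Algebra A B] [IsNoetherianRing A] [Algebra.FiniteType A B]
    (p : Ideal A) [p.IsPrime] (q : Ideal B) [q.IsPrime] [q.LiesOver p]
    [Algebra (Localization.AtPrime p) (Localization.AtPrime q)]
    [Localization.AtPrime.IsLiesOverAlgebra p q] :
    Algebra.IsEtaleAt A q ↔
      Module.Flat (Localization.AtPrime p) (Localization.AtPrime q) ∧
        p.map (algebraMap A (Localization.AtPrime q)) = IsLocalRing.maximalIdeal (Localization.AtPrime q) ∧
        Module.Finite p.ResidueField q.ResidueField ∧
        Algebra.IsSeparable p.ResidueField q.ResidueField := by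
  have hfp : Algebra.FinitePresentation A B :=
    Algebra.FinitePresentation.of_finiteType.mp inferInstance
  constructor
  · intro h
    have h' : Algebra.FormallyEtale A (Localization.AtPrime q) := h
    have hU : Algebra.IsUnramifiedAt A q := by
      show Algebra.FormallyUnramified A (Localization.AtPrime q)
      infer_instance
    obtain ⟨hsep, hmap⟩ := (Algebra.isUnramifiedAt_iff_map_eq A p q).mp hU
    refine ⟨?_, hmap, inferInstance, hsep⟩
    rw [Module.flat_iff_of_isLocalization (Localization.AtPrime p) p.primeCompl]
    exact flat_of_formallySmooth_localization A B q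
  · rintro ⟨hflat, hmap, hfin, hsep⟩
    have hU : Algebra.IsUnramifiedAt A q :=
      (Algebra.isUnramifiedAt_iff_map_eq A p q).mpr ⟨hsep, hmap⟩
    have hS := formallySmooth_of_flat_of_isUnramifiedAt A B p q
    exact FormallyEtale.iff_formallyUnramified_and_formallySmooth.mpr ⟨hU, hS⟩

end Groth.Agent.S9560
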