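import Groth.Statements.S9562
import Mathlib
import Groth.Agent.Lib.Helper68.ComplLocal
import Groth.Agent.S9561
import Groth.Agent.S0543
import Groth.Agent.Lib.Helper47.CompletionFlat
import Groth.Agent.Lib.Helper9.FlatDescent

set_option autoImplicit false
universe u
open EtLocal

namespace Groth.Agent.S9562

/-- Let A → B be a local homomorphism of Noetherian local rings with B essentially of finite type over
A, and let ψ be the induced map between the completions of A and B at their maximal ideals (a ring
map of the completions whose composite with A → A^ is A → B → B^; such a map is unique). Then A → B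
is an étale homomorphism of local rings, i.e. B is flat over A, m_A B = m_B and the residue field of
B is a finite separable extension of that of A, if and only if ψ is an étale ring map; moreover in
that case the completion of B is, through ψ, a free module of finite positive rank over the
completion of A. (The published statement lists a third equivalent condition, that ψ is itself an
étale homomorphism of local rings; this row keeps the two outer ones.) -/
theorem result (A B : Type u) [CommRing A] [CommRing B]
    [IsLocalRing A] [IsLocalRing B] [IsNoetherianRing A] [IsNoetherianRing B] [Algebra A B]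
    [IsLocalHom (algebraMap A B)] [Algebra.EssFiniteType A B]
    (ψ : AdicCompletion (IsLocalRing.maximalIdeal A) A →+* AdicCompletion (IsLocalRing.maximalIdeal B) B)
    (hψ : ψ.comp (algebraMap A (AdicCompletion (IsLocalRing.maximalIdeal A) A)) =
      (algebraMap B (AdicCompletion (IsLocalRing.maximalIdeal B) B)).comp (algebraMap A B)) :
    ((Module.Flat A B ∧ (IsLocalRing.maximalIdeal A).map (algebraMap A B) = IsLocalRing.maximalIdeal B ∧
        Module.Finite (IsLocalRing.ResidueField A) (IsLocalRing.ResidueField B) ∧
        Algebra.IsSeparable (IsLocalRing.ResidueField A) (IsLocalRing.ResidueField B)) ↔ ψ.Etale) ∧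
      (ψ.Etale →
        letI := ψ.toAlgebra
        ∃ n : ℕ, 0 < n ∧
          Nonempty ((Fin n → AdicCompletion (IsLocalRing.maximalIdeal A) A) ≃ₗ[AdicCompletion (IsLocalRing.maximalIdeal A) A]
            AdicCompletion (IsLocalRing.maximalIdeal B) B)) := by
  letI : Algebra (AdicCompletion (IsLocalRing.maximalIdeal A) A)
      (AdicCompletion (IsLocalRing.maximalIdeal B) B) := ψ.toAlgebra
  have hψ' : (algebraMap (AdicCompletion (IsLocalRing.maximalIdeal A) A)
      (AdicCompletion (IsLocalRing.maximalIdeal B) B)).comp
        (algebraMap A (AdicCompletion (IsLocalRing.maximalIdeal A) A)) =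
      (algebraMap B (AdicCompletion (IsLocalRing.maximalIdeal B) B)).comp (algebraMap A B) := hψ
  haveI : IsLocalHom (algebraMap (AdicCompletion (IsLocalRing.maximalIdeal A) A)
      (AdicCompletion (IsLocalRing.maximalIdeal B) B)) :=
    Groth.Agent.Lib.Helper68.ComplLocal.isLocalHom A B hψ'
  haveI : IsNoetherianRing (AdicCompletion (IsLocalRing.maximalIdeal A) A) :=
    Groth.Agent.S0543.result A _
  have hAS : algebraMap A (AdicCompletion (IsLocalRing.maximalIdeal B) B) =
      (algebraMap B (AdicCompletion (IsLocalRing.maximalIdeal B) B)).comp (algebraMap A B) := by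
    ext a
    rw [AdicCompletion.algebraMap_apply]
    rfl
  haveI : IsScalarTower A (AdicCompletion (IsLocalRing.maximalIdeal A) A)
      (AdicCompletion (IsLocalRing.maximalIdeal B) B) :=
    IsScalarTower.of_algebraMap_eq' (by rw [hAS, ← hψ]; rfl)
  haveI : IsScalarTower A B (AdicCompletion (IsLocalRing.maximalIdeal B) B) :=
    IsScalarTower.of_algebraMap_eq' hAS
  have key := Groth.Agent.S9561.result A B ψ hψ
  have hfree : ψ.Etale → Module.Finite (AdicCompletion (IsLocalRing.maximalIdeal A) A)
      (AdicCompletion (IsLocalRing.maximalIdeal B) B) ∧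
      Module.Flat (AdicCompletion (IsLocalRing.maximalIdeal A) A)
      (AdicCompletion (IsLocalRing.maximalIdeal B) B) ∧
      ((IsLocalRing.maximalIdeal A).map (algebraMap A B) = IsLocalRing.maximalIdeal B ∧
        Module.Finite (IsLocalRing.ResidueField A) (IsLocalRing.ResidueField B) ∧
        Algebra.IsSeparable (IsLocalRing.ResidueField A) (IsLocalRing.ResidueField B)) := by
    intro hE
    obtain ⟨hfl, hunr, hfp⟩ := RingHom.Etale.iff_flat_and_formallyUnramified.mp hE
    have hft : ψ.FiniteType := RingHom.FiniteType.of_finitePresentation hfp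
    obtain ⟨hm, hfin, hsep⟩ := key.mpr ⟨hft, hunr⟩
    exact ⟨Groth.Agent.Lib.Helper68.ComplLocal.finite_of A B hψ' hm, hfl, hm, hfin, hsep⟩
  refine ⟨⟨?_, ?_⟩, ?_⟩
  · rintro ⟨hflat, hm, hfin, hsep⟩
    obtain ⟨hft, hunr⟩ := key.mp ⟨hm, hfin, hsep⟩
    rw [RingHom.Etale.iff_flat_and_formallyUnramified]
    refine ⟨Groth.Agent.Lib.Helper47.flat_completion_of_flat A B ψ hψ, hunr, ?_⟩
    haveI : Algebra.FiniteType (AdicCompletion (IsLocalRing.maximalIdeal A) A)
        (AdicCompletion (IsLocalRing.maximalIdeal B) B) := hft
    show Algebra.FinitePresentation (AdicCompletion (IsLocalRing.maximalIdeal A) A)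
        (AdicCompletion (IsLocalRing.maximalIdeal B) B)
    exact Algebra.FinitePresentation.of_finiteType.mp inferInstance
  · intro hE
    obtain ⟨hfin', hfl, hm, hfin, hsep⟩ := hfree hE
    refine ⟨?_, hm, hfin, hsep⟩
    haveI : Module.Flat (AdicCompletion (IsLocalRing.maximalIdeal A) A)
      (AdicCompletion (IsLocalRing.maximalIdeal B) B) := hfl
    haveI : Module.Flat A (AdicCompletion (IsLocalRing.maximalIdeal B) B) :=
      Module.Flat.trans A (AdicCompletion (IsLocalRing.maximalIdeal A) A)
        (AdicCompletion (IsLocalRing.maximalIdeal B) B)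
    haveI : Module.FaithfullyFlat B (AdicCompletion (IsLocalRing.maximalIdeal B) B) :=
      Module.FaithfullyFlat.of_flat_of_isLocalHom
    exact Groth.Agent.Lib.Helper9.flat_of_faithfullyFlat_of_flat_comp A B
      (AdicCompletion (IsLocalRing.maximalIdeal B) B)
  · intro hE
    obtain ⟨hfin', hfl, -⟩ := hfree hE
    haveI : Module.Flat (AdicCompletion (IsLocalRing.maximalIdeal A) A)
      (AdicCompletion (IsLocalRing.maximalIdeal B) B) := hfl
    haveI : Module.Finite (AdicCompletion (IsLocalRing.maximalIdeal A) A)
      (AdicCompletion (IsLocalRing.maximalIdeal B) B) := hfin'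
    haveI : Module.Free (AdicCompletion (IsLocalRing.maximalIdeal A) A)
      (AdicCompletion (IsLocalRing.maximalIdeal B) B) := Module.free_of_flat_of_isLocalRing
    refine ⟨Module.finrank (AdicCompletion (IsLocalRing.maximalIdeal A) A)
      (AdicCompletion (IsLocalRing.maximalIdeal B) B), (Module.finrank_pos_iff_of_free _ _).mpr inferInstance,
      ⟨(Module.finBasis (AdicCompletion (IsLocalRing.maximalIdeal A) A)
      (AdicCompletion (IsLocalRing.maximalIdeal B) B)).equivFun.symm⟩⟩

end Groth.Agent.S9562
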