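import Groth.Statements.S9567
import Groth.Agent.Lib.Helper61.StdEtaleOpen

set_option autoImplicit false
universe u
open EtLocal

namespace Groth.Agent.S9567

open AlgebraicGeometry CategoryTheory in
/-- Let φ : X ⟶ Y be any morphism of schemes, x a point of X and V an affine open neighbourhood of φ(x),
with ring R = Γ(Y, V). If φ is étale on some open neighbourhood of x, then there are an affine open
neighbourhood U of x with φ(U) ⊆ V, a monic polynomial p over R and an open immersion j of U into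
Spec of (R[t]/(p))[1/p′] (the localization of R[t]/(p) away from the image of the derivative of p)
such that j followed by the projection to Spec R is the morphism U → Spec R induced by φ. -/
theorem result {X Y : Scheme.{u}} (φ : X ⟶ Y) (x : X)
    (V : Y.Opens) (hV : IsAffineOpen V) (hxV : φ.base x ∈ V)
    (hφ : ∃ W : X.Opens, x ∈ W ∧ Etale (W.ι ≫ φ)) :
    ∃ (U : X.Opens) (hU : IsAffineOpen U) (_ : x ∈ U) (e : U ≤ φ ⁻¹ᵁ V)
      (p : Polynomial Γ(Y, V)) (_ : p.Monic)
      (j : U.toScheme ⟶ Spec (CommRingCat.of (Localization.Away (AdjoinRoot.mk p (Polynomial.derivative p))))),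
      IsOpenImmersion j ∧
        j ≫ Spec.map (CommRingCat.ofHom
            (algebraMap Γ(Y, V) (Localization.Away (AdjoinRoot.mk p (Polynomial.derivative p))))) =
          hU.isoSpec.hom ≫ Spec.map (φ.appLE V U e) := by
  classical
  obtain ⟨W, hxW, hW⟩ := hφ
  suffices key : ∀ U₀ : X.Opens, IsAffineOpen U₀ → x ∈ U₀ → U₀ ≤ W → U₀ ≤ φ ⁻¹ᵁ V →
      ∃ (U : X.Opens) (hU : IsAffineOpen U) (_ : x ∈ U) (e : U ≤ φ ⁻¹ᵁ V)
      (p : Polynomial Γ(Y, V)) (_ : p.Monic)
      (j : U.toScheme ⟶ Spec (CommRingCat.of (Localization.Away (AdjoinRoot.mk p (Polynomial.derivative p))))),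
      IsOpenImmersion j ∧
        j ≫ Spec.map (CommRingCat.ofHom
            (algebraMap Γ(Y, V) (Localization.Away (AdjoinRoot.mk p (Polynomial.derivative p))))) =
          hU.isoSpec.hom ≫ Spec.map (φ.appLE V U e) by
    obtain ⟨_, ⟨U₀, hU₀, rfl⟩, hxU₀, hU₀le⟩ :=
      X.isBasis_affineOpens.exists_subset_of_mem_open
        (show x ∈ ((W ⊓ φ ⁻¹ᵁ V : X.Opens) : Set X) from ⟨hxW, hxV⟩) (W ⊓ φ ⁻¹ᵁ V).isOpen
    exact key U₀ hU₀ hxU₀ (fun z hz => (hU₀le hz).1) (fun z hz => (hU₀le hz).2)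
  intro U₀ hU₀ hxU₀ hU₀W e₀
  have hE0 : Etale (U₀.ι ≫ φ) := by
    rw [← X.homOfLE_ι hU₀W, Category.assoc]
    infer_instance
  have hE1 : Etale (φ.resLE V U₀ e₀) := by
    have : Etale (φ.resLE V U₀ e₀ ≫ V.ι) := by
      rw [Scheme.Hom.resLE_comp_ι]
      exact hE0
    exact Etale.of_comp (φ.resLE V U₀ e₀) V.ι
  have : IsAffine U₀.toScheme := hU₀
  have : IsAffine V.toScheme := hV
  have hE2 : (φ.resLE V U₀ e₀).appTop.hom.Etale :=
    HasRingHomProperty.appTop (P := @Etale) _ hE1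
  have hE3 : (φ.appLE V U₀ e₀).hom.Etale := by
    rw [Scheme.Hom.appTop, Scheme.Hom.resLE_app_top, CommRingCat.hom_comp,
      RingHom.Etale.respectsIso.cancel_left_isIso, CommRingCat.hom_comp,
      RingHom.Etale.respectsIso.cancel_right_isIso] at hE2
    exact hE2
  algebraize [(φ.appLE V U₀ e₀).hom]
  have hEt : Algebra.Etale Γ(Y, V) Γ(X, U₀) := RingHom.etale_algebraMap.mp hE3
  let q : Ideal Γ(X, U₀) :=
    (IsLocalRing.maximalIdeal (X.presheaf.stalk x)).comap (X.presheaf.germ U₀ x hxU₀).hom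
  have hq : q.IsPrime := Ideal.comap_isPrime _ _
  have hEq : Algebra.IsEtaleAt Γ(Y, V) q := inferInstance
  have hfp : Algebra.FinitePresentation Γ(Y, V) Γ(X, U₀) := hEt.finitePresentation
  obtain ⟨f, hf, hst⟩ := Algebra.IsEtaleAt.exists_isStandardEtale (R := Γ(Y, V)) q
  have hU : IsAffineOpen (X.basicOpen f) := hU₀.basicOpen f
  have hxU : x ∈ X.basicOpen f := by
    rw [Scheme.mem_basicOpen _ _ _ hxU₀]
    by_contra h
    exact hf ((IsLocalRing.mem_maximalIdeal _).mpr h)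
  have hUU₀ : X.basicOpen f ≤ U₀ := X.basicOpen_le f
  have e : X.basicOpen f ≤ φ ⁻¹ᵁ V := hUU₀.trans e₀
  let algRCU : Algebra Γ(Y, V) Γ(X, X.basicOpen f) := (φ.appLE V (X.basicOpen f) e).hom.toAlgebra
  have tower : IsScalarTower Γ(Y, V) Γ(X, U₀) Γ(X, X.basicOpen f) := by
    refine .of_algebraMap_eq' ?_
    rw [RingHom.algebraMap_toAlgebra, RingHom.algebraMap_toAlgebra, RingHom.algebraMap_toAlgebra,
      ← CommRingCat.hom_comp, Scheme.Hom.appLE_map]
  have loc : IsLocalization.Away f Γ(X, X.basicOpen f) := hU₀.isLocalization_basicOpen f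
  let eqv : Localization.Away f ≃ₐ[Γ(Y, V)] Γ(X, X.basicOpen f) :=
    (IsLocalization.algEquiv (Submonoid.powers f) (Localization.Away f)
      Γ(X, X.basicOpen f)).restrictScalars Γ(Y, V)
  have hst' : Algebra.IsStandardEtale Γ(Y, V) Γ(X, X.basicOpen f) := .of_equiv eqv
  obtain ⟨p, hp, θ, hθ⟩ :=
    Groth.Agent.Lib.Helper61.StdEtaleOpen.exists_openImmersion_of_isStandardEtale
      Γ(Y, V) Γ(X, X.basicOpen f)
  refine ⟨X.basicOpen f, hU, hxU, e, p, hp,
    hU.isoSpec.hom ≫ Spec.map (CommRingCat.ofHom θ.toRingHom), inferInstance, ?_⟩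
  rw [Category.assoc, ← Spec.map_comp]
  congr 2
  ext r
  exact θ.commutes r

end Groth.Agent.S9567
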