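import Groth.Statements.S9571
-- import your own Groth.Agent.* helpers here

set_option autoImplicit false
universe u
open CategoryTheory CategoryTheory.Limits AlgebraicGeometry TopologicalSpace Opposite
open Constr

namespace Groth.Agent.S9571

/-- Let S be a graded ring, X = Proj S and d ≥ 1; let W_d be the union of the opens D_+(ab) over pairs
of homogeneous a, b with deg a = deg b + d (the open over which the twisting sheaves O_X(nd) are
invertible with compatible multiplications). For n ≥ 1 and f homogeneous of degree nd, with s the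
section of O_X(nd) over W_d defined by f, the non-vanishing locus (W_d)_s equals D_+(f) ∩ W_d.
Pointwise: for p in some D_+(ab) as above, p ∈ D_+(f) if and only if the value f/1 of s at p
generates the module of degree-nd fractions at p (the span of the fractions c/t with t ∉ p and deg c
= deg t + nd, over the degree-zero local ring at p). -/
theorem result {R A : Type u} [CommRing R] [CommRing A] [Algebra R A] (𝒜 : ℕ → Submodule R A) [GradedAlgebra 𝒜]
    {d : ℕ} (hd : 0 < d) {i j : ℕ} {a b : A} (ha : a ∈ 𝒜 i) (hb : b ∈ 𝒜 j) (hij : i = j + d)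
    (p : ProjectiveSpectrum 𝒜) (hp : p ∈ ProjectiveSpectrum.basicOpen 𝒜 (a * b))
    {n : ℕ} (hn : 0 < n) (f : 𝒜 (n * d)) :
    p ∈ ProjectiveSpectrum.basicOpen 𝒜 (f : A) ↔
      Submodule.span (Twist.A0 𝒜 p) {(Twist.globalOf 𝒜 f).1 ⟨p, trivial⟩} = ⊤ := by
  classical
  have hone : (1 : A) ∉ p.asHomogeneousIdeal := fun h =>
    p.isPrime.ne_top ((Ideal.eq_top_iff_one _).mpr h)
  have hab : a * b ∉ p.asHomogeneousIdeal := (ProjectiveSpectrum.mem_basicOpen 𝒜 _ p).mp hp
  have hap : a ∉ p.asHomogeneousIdeal := fun h => hab (Ideal.mul_mem_right _ _ h)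
  have hbp : b ∉ p.asHomogeneousIdeal := fun h => hab (Ideal.mul_mem_left _ _ h)
  have hgval : (((Twist.globalOf 𝒜 f).1 ⟨p, trivial⟩ : Twist.twistAt 𝒜 ((n * d : ℕ) : ℤ) p) :
      Twist.Loc 𝒜 p) = Localization.mk (f : A) ⟨1, hone⟩ := rfl
  rw [ProjectiveSpectrum.mem_basicOpen]
  constructor
  · intro hf
    rw [eq_top_iff]
    rintro ⟨q, hq⟩ -
    -- every element is a multiple of `f / 1`
    have key : ∃ r : Twist.A0 𝒜 p, q = r.val * Localization.mk (f : A) ⟨1, hone⟩ := by
      induction hq using Submodule.span_induction with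
      | mem q hq =>
        obtain ⟨i', j', c, t, ht, hdeg, rfl⟩ := hq
        have hdeg' : i' = j' + n * d := by exact_mod_cast hdeg
        have htf : t.1 * (f : A) ∉ p.asHomogeneousIdeal := fun h =>
          (p.isPrime.mem_or_mem h).elim ht hf
        refine ⟨HomogeneousLocalization.mk ⟨i', c, ⟨t.1 * (f : A),
          hdeg' ▸ SetLike.mul_mem_graded t.2 f.2⟩, htf⟩, ?_⟩
        rw [HomogeneousLocalization.val_mk, Localization.mk_mul, Localization.mk_eq_mk_iff,
          Localization.r_iff_exists]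
        refine ⟨1, ?_⟩
        simp only [OneMemClass.coe_one, one_mul, Submonoid.coe_mul, mul_one]
        ring
      | zero => exact ⟨0, by rw [HomogeneousLocalization.val_zero, zero_mul]⟩
      | add x y _ _ hx hy =>
        obtain ⟨r, rfl⟩ := hx
        obtain ⟨r', rfl⟩ := hy
        exact ⟨r + r', by rw [HomogeneousLocalization.val_add, add_mul]⟩
      | smul c x _ hx =>
        obtain ⟨r, rfl⟩ := hx
        refine ⟨c * r, ?_⟩
        rw [HomogeneousLocalization.val_mul, mul_assoc]
        rfl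
    obtain ⟨r, hr⟩ := key
    rw [Submodule.mem_span_singleton]
    refine ⟨r, ?_⟩
    apply Subtype.ext
    rw [Twist.coe_smul_val, hgval]
    exact hr.symm
  · intro htop hf
    have hbn : b ^ n ∉ p.asHomogeneousIdeal := fun h => hbp (p.isPrime.mem_of_pow_mem n h)
    have hmem : (Localization.mk (a ^ n) ⟨b ^ n, hbn⟩ : Twist.Loc 𝒜 p) ∈
        Twist.twistAt 𝒜 ((n * d : ℕ) : ℤ) p := by
      refine Submodule.subset_span ⟨n * i, n * j, ⟨a ^ n, ?_⟩, ⟨b ^ n, ?_⟩, hbn, ?_, rfl⟩
      · simpa using SetLike.pow_mem_graded n ha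
      · simpa using SetLike.pow_mem_graded n hb
      · rw [hij]; push_cast; ring
    have hw : (⟨_, hmem⟩ : Twist.twistAt 𝒜 ((n * d : ℕ) : ℤ) p) ∈
        Submodule.span (Twist.A0 𝒜 p) {(Twist.globalOf 𝒜 f).1 ⟨p, trivial⟩} := by
      rw [htop]; trivial
    rw [Submodule.mem_span_singleton] at hw
    obtain ⟨r, hr⟩ := hw
    have hr' := congrArg (fun z : Twist.twistAt 𝒜 ((n * d : ℕ) : ℤ) p => (z : Twist.Loc 𝒜 p)) hr
    simp only at hr'
    rw [Twist.coe_smul_val, hgval] at hr'
    obtain ⟨⟨e, u, v, hv⟩, rfl⟩ := HomogeneousLocalization.mk_surjective r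
    rw [HomogeneousLocalization.val_mk, Localization.mk_mul, Localization.mk_eq_mk_iff,
      Localization.r_iff_exists] at hr'
    obtain ⟨c, hc⟩ := hr'
    simp only [Submonoid.coe_mul, OneMemClass.coe_one, mul_one] at hc
    have h1 : (c : A) * (b ^ n * (u.1 * (f : A))) ∈ p.asHomogeneousIdeal :=
      Ideal.mul_mem_left _ _ (Ideal.mul_mem_left _ _ (Ideal.mul_mem_left _ _ hf))
    rw [hc] at h1
    rcases p.isPrime.mem_or_mem h1 with h2 | h2
    · exact c.2 h2
    · rcases p.isPrime.mem_or_mem h2 with h3 | h3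
      · exact hv h3
      · exact hap (p.isPrime.mem_of_pow_mem n h3)

end Groth.Agent.S9571
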