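import Groth.Statements.S9572
import Groth.Agent.Lib.Helper17.PCone

set_option autoImplicit false
universe u
open CategoryTheory CategoryTheory.Limits AlgebraicGeometry TopologicalSpace Opposite
open Constr

namespace Groth.Agent.S9572
open Groth.Agent.Lib.Helper17 HomogeneousLocalization

/-- If `ψ` is bijective in all degrees `≥ d₀`, then `Away.map ψ s` is bijective for `s` homogeneous
of positive degree. -/
theorem away_map_bijective {R A : Type u} [CommRing R] [CommRing A] [Algebra R A]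
    (𝒜 : ℕ → Submodule R A) [GradedAlgebra 𝒜]
    {B : Type u} [CommRing B] [Algebra R B] (ℬ : ℕ → Submodule R B) [GradedAlgebra ℬ] (ψ : 𝒜 →+*ᵍ ℬ)
    (d₀ : ℕ) (hbij : ∀ d : ℕ, d₀ ≤ d → Set.BijOn ψ (𝒜 d) (ℬ d))
    {n : ℕ} (hn : 0 < n) (s : A) (hs : s ∈ 𝒜 n) :
    Function.Bijective (Away.map ψ s) := by
  constructor
  · rw [injective_iff_map_eq_zero]
    intro x hx
    obtain ⟨k, a, ha, rfl⟩ := Away.mk_surjective 𝒜 hs x
    rw [Away.map_mk] at hx
    have hv := congrArg HomogeneousLocalization.val hx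
    rw [Away.val_mk, HomogeneousLocalization.val_zero, Localization.mk_eq_mk',
      IsLocalization.mk'_eq_zero_iff] at hv
    obtain ⟨⟨_, j, rfl⟩, hj⟩ := hv
    -- `(ψ s)^j * ψ a = 0`, enlarge `j`
    have hj' : ψ (s ^ (j + d₀) * a) = 0 := by
      rw [map_mul, map_pow, pow_add, mul_assoc, mul_comm (ψ s ^ d₀), ← mul_assoc]
      have : ψ s ^ j * ψ a = 0 := hj
      rw [this, zero_mul]
    have hdeg : s ^ (j + d₀) * a ∈ 𝒜 ((j + d₀) • n + k • n) :=
      SetLike.mul_mem_graded (SetLike.pow_mem_graded _ hs) ha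
    have hge : d₀ ≤ (j + d₀) • n + k • n := by
      simp only [smul_eq_mul]
      nlinarith
    have h0 : s ^ (j + d₀) * a = 0 :=
      (hbij _ hge).injOn hdeg (zero_mem _) (by rw [hj', map_zero])
    ext
    rw [Away.val_mk, HomogeneousLocalization.val_zero, Localization.mk_eq_mk',
      IsLocalization.mk'_eq_zero_iff]
    exact ⟨⟨s ^ (j + d₀), _, rfl⟩, h0⟩
  · intro x
    obtain ⟨k, b, hb, rfl⟩ := Away.mk_surjective ℬ (ψ.2 hs) x
    have hdeg : b * ψ s ^ d₀ ∈ ℬ (k • n + d₀ • n) :=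
      SetLike.mul_mem_graded hb (SetLike.pow_mem_graded _ (ψ.2 hs))
    have hge : d₀ ≤ k • n + d₀ • n := by
      simp only [smul_eq_mul]
      nlinarith
    obtain ⟨a, ha, hab⟩ := (hbij _ hge).surjOn hdeg
    have ha' : a ∈ 𝒜 ((k + d₀) • n) := by rwa [add_smul]
    refine ⟨Away.mk 𝒜 hs (k + d₀) a ha', ?_⟩
    rw [Away.map_mk]
    ext
    rw [Away.val_mk, Away.val_mk, Localization.mk_eq_mk_iff, Localization.r_iff_exists]
    refine ⟨1, ?_⟩
    simp only [OneMemClass.coe_one, one_mul]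
    rw [hab, pow_add]
    change ψ s ^ k * (b * ψ s ^ d₀) = ψ s ^ k * ψ s ^ d₀ * b
    ring

/-- Let ψ : A → B be a homomorphism of graded rings such that A_d → B_d is bijective for all d ≥ d₀. Let
U(ψ) ⊆ Proj B be the union of the opens D_+(ψ f) over homogeneous f of positive degree, and r_ψ :
U(ψ) → Proj A the morphism whose restriction to each chart Spec B_(ψ f) is Spec of the induced map
A_(f) → B_(ψ f) followed by the chart of Proj A. Then U(ψ) = Proj B and r_ψ is an isomorphism. (Here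
r_ψ is any morphism with that chart description; it is unique.) -/
theorem result {R A : Type u} [CommRing R] [CommRing A] [Algebra R A] (𝒜 : ℕ → Submodule R A) [GradedAlgebra 𝒜]
    {B : Type u} [CommRing B] [Algebra R B] (ℬ : ℕ → Submodule R B) [GradedAlgebra ℬ] (ψ : 𝒜 →+*ᵍ ℬ)
    (d₀ : ℕ) (hbij : ∀ d : ℕ, d₀ ≤ d → Set.BijOn ψ (𝒜 d) (ℬ d))
    (r : (PCone.dom ψ : Scheme.{u}) ⟶ Proj 𝒜)
    (hr : ∀ (d : ℕ) (f : A) (hd : 0 < d) (hf : f ∈ 𝒜 d),
      PCone.chart ψ hf hd ≫ r =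
        Spec.map (CommRingCat.ofHom (HomogeneousLocalization.Away.map ψ f)) ≫ Proj.awayι 𝒜 f hf hd) :
    PCone.dom ψ = ⊤ ∧ IsIso r := by
  refine ⟨?_, ?_⟩
  · rw [eq_top_iff]
    intro q _
    obtain ⟨b, e, he, hb, hqb⟩ := exists_homogeneous_pos_mem_basicOpen ℬ q
    have hdeg : b ^ (d₀ + 1) ∈ ℬ ((d₀ + 1) • e) := SetLike.pow_mem_graded _ hb
    have hge : d₀ ≤ (d₀ + 1) • e := by
      simp only [smul_eq_mul]
      nlinarith
    obtain ⟨a, ha, hab⟩ := (hbij _ hge).surjOn hdeg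
    have hpos : 0 < (d₀ + 1) • e := by
      simp only [smul_eq_mul]
      positivity
    refine TopologicalSpace.Opens.mem_iSup.mpr ⟨⟨a, _, hpos, ha⟩, ?_⟩
    change q ∈ Proj.basicOpen ℬ (ψ a)
    rw [hab, Proj.basicOpen_pow ℬ b (d₀ + 1) (Nat.succ_pos _)]
    exact hqb
  · change MorphismProperty.isomorphisms Scheme r
    apply PConeLib.of_forall_away ψ r hr
    intro n hn s hs
    have hbij' := away_map_bijective 𝒜 ℬ ψ d₀ hbij hn s hs
    have : IsIso (CommRingCat.ofHom (Away.map ψ s)) :=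
      (ConcreteCategory.isIso_iff_bijective _).mpr hbij'
    change IsIso (Spec.map (CommRingCat.ofHom (Away.map ψ s)))
    infer_instance

end Groth.Agent.S9572
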