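import Groth.Statements.S9575
import Groth.Agent.Lib.Helper17.TwistTriv

set_option autoImplicit false
universe u
open CategoryTheory CategoryTheory.Limits AlgebraicGeometry TopologicalSpace Opposite
open Constr

namespace Groth.Agent.S9575

/-- Let S be a graded ring, X = Proj S, d ≥ 1, and a, b homogeneous elements with deg a = deg b + d.
Then for every integer n the restriction of the twisting sheaf O_X(nd) to the standard open D_+(ab)
is isomorphic to the structure sheaf of D_+(ab): it is free of rank one, generated by the section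
(a/b)^n. (This is the invertibility half of the fact that D_+(ab) lies in the open W_d where the
O_X(nd) are invertible with compatible multiplications; existence of an isomorphism only. The
compatibility of the multiplication maps O_X(nd) ⊗ O_X(md) → O_X(nd+md) on this open, and the
converse statement that the largest such open is the union of the D_+(ab), are not stated here.) -/
theorem result {R A : Type u} [CommRing R] [CommRing A] [Algebra R A] (𝒜 : ℕ → Submodule R A) [GradedAlgebra 𝒜]
    {d : ℕ} (hd : 0 < d) {i j : ℕ} {a b : A} (ha : a ∈ 𝒜 i) (hb : b ∈ 𝒜 j) (hij : i = j + d) (n : ℤ) :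
    Nonempty ((Twist.twist 𝒜 (n * d)).restrict (Proj.basicOpen 𝒜 (a * b)).ι ≅
      Coh.structureModule ↑(Proj.basicOpen 𝒜 (a * b))) := by
  have hab : ((n.toNat : ℕ) : ℤ) - ((-n).toNat : ℕ) = n := Int.toNat_sub_toNat_neg n
  have hnot : ∀ (k l : ℕ) (y : ↑(Proj.basicOpen 𝒜 (a * b))),
      a ^ k * b ^ l ∉ ((Proj.basicOpen 𝒜 (a * b)).ι.base y).asHomogeneousIdeal ∧
      b ^ k * a ^ l ∉ ((Proj.basicOpen 𝒜 (a * b)).ι.base y).asHomogeneousIdeal := by
    intro k l y
    have hy : a * b ∉ (y.1 : ProjectiveSpectrum 𝒜).asHomogeneousIdeal :=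
      (Proj.mem_basicOpen 𝒜 (a * b) y.1).mp y.2
    have hya : a ∉ (y.1 : ProjectiveSpectrum 𝒜).asHomogeneousIdeal :=
      fun h => hy (Ideal.mul_mem_right _ _ h)
    have hyb : b ∉ (y.1 : ProjectiveSpectrum 𝒜).asHomogeneousIdeal :=
      fun h => hy (Ideal.mul_mem_left _ _ h)
    have hpr := (y.1 : ProjectiveSpectrum 𝒜).isPrime
    constructor
    · intro hmem
      rcases hpr.mem_or_mem hmem with h | h
      · exact hya (hpr.mem_of_pow_mem k h)
      · exact hyb (hpr.mem_of_pow_mem l h)
    · intro hmem
      rcases hpr.mem_or_mem hmem with h | h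
      · exact hyb (hpr.mem_of_pow_mem k h)
      · exact hya (hpr.mem_of_pow_mem l h)
  refine Groth.Agent.Lib.Helper17.TwistTriv.nonempty_restrict_iso 𝒜 (n * d)
    (u := a ^ n.toNat * b ^ (-n).toNat) (v := b ^ n.toNat * a ^ (-n).toNat)
    (SetLike.mul_mem_graded (SetLike.pow_mem_graded n.toNat ha)
      (SetLike.pow_mem_graded (-n).toNat hb))
    (SetLike.mul_mem_graded (SetLike.pow_mem_graded n.toNat hb)
      (SetLike.pow_mem_graded (-n).toNat ha)) ?_
    (Proj.basicOpen 𝒜 (a * b)).ι (fun y => (hnot _ _ y).2) (fun y => (hnot _ _ y).1)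
  subst hij
  simp only [smul_eq_mul]
  push_cast
  linear_combination (d : ℤ) * hab

end Groth.Agent.S9575
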