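import Groth.Statements.S9580
import Groth.Agent.Lib.Helper17.Proj
import Groth.Agent.Lib.Helper17.TwistTriv

set_option autoImplicit false
universe u
open CategoryTheory CategoryTheory.Limits AlgebraicGeometry TopologicalSpace Opposite
open Constr

namespace Groth.Agent.S9580

/-- Transport of an invertible-on-basic-open iso through double restriction. -/
theorem restrict_restrict_iso {X : Scheme.{u}} (M : X.Modules) (Y : X.Opens) (U : Y.toScheme.Opens)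
    (h : Nonempty (M.restrict (U.ι ≫ Y.ι) ≅ Coh.structureModule (↑U))) :
    Nonempty ((M.restrict Y.ι).restrict U.ι ≅ Coh.structureModule (↑U)) := by
  obtain ⟨e⟩ := h
  exact ⟨((Scheme.Modules.restrictFunctorComp U.ι Y.ι).app M).symm ≪≫ e⟩

theorem finite_cover {R A : Type u} [CommRing R] [CommRing A] [Algebra R A] (𝒜 : ℕ → Submodule R A)
    [GradedAlgebra 𝒜] (Y : (Proj 𝒜).Opens) (hY : IsCompact (Y : Set (Proj 𝒜))) :
    ∃ (t : Finset (Proj 𝒜)) (s : Proj 𝒜 → A) (n : Proj 𝒜 → ℕ), (∀ x, 0 < n x) ∧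
      (∀ x, s x ∈ 𝒜 (n x)) ∧ ∀ y ∈ Y, ∃ x ∈ t, y ∈ Proj.basicOpen 𝒜 (s x) := by
  classical
  choose s n hn hs hx using Groth.Agent.Lib.Helper17.exists_homogeneous_pos_mem_basicOpen 𝒜
  obtain ⟨t, ht⟩ := hY.elim_finite_subcover (fun x : Proj 𝒜 => ((Proj.basicOpen 𝒜 (s x) : (Proj 𝒜).Opens) : Set (Proj 𝒜)))
    (fun x => (Proj.basicOpen 𝒜 (s x)).2) (fun y _ => Set.mem_iUnion.mpr ⟨y, hx y⟩)
  refine ⟨t, s, n, hn, hs, fun y hy => ?_⟩
  have := ht hy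
  simp only [Set.mem_iUnion] at this
  obtain ⟨x, hxt, hyx⟩ := this
  exact ⟨x, hxt, hyx⟩

theorem pow_not_mem {R A : Type u} [CommRing R] [CommRing A] [Algebra R A] (𝒜 : ℕ → Submodule R A)
    [GradedAlgebra 𝒜] (y : Proj 𝒜) (f : A) (hy : y ∈ Proj.basicOpen 𝒜 f) (m : ℕ) :
    f ^ m ∉ y.asHomogeneousIdeal := by
  intro h
  have h1 : f ∉ y.asHomogeneousIdeal := (Proj.mem_basicOpen 𝒜 f y).mp hy
  exact h1 (y.isPrime.mem_of_pow_mem m h)

theorem result {R A : Type u} [CommRing R] [CommRing A] [Algebra R A] (𝒜 : ℕ → Submodule R A) [GradedAlgebra 𝒜]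
    (Y : (Proj 𝒜).Opens) (hY : IsCompact (Y : Set (Proj 𝒜))) :
    ∃ d : ℕ, 0 < d ∧
      (∀ y : Proj 𝒜, y ∈ Y → ∃ (i j : ℕ) (a b : A), a ∈ 𝒜 i ∧ b ∈ 𝒜 j ∧ i = j + d ∧ y ∈ Proj.basicOpen 𝒜 (a * b)) ∧
      ∀ n : ℤ, PicF.IsInvertible ((Twist.twist 𝒜 (n * d)).restrict Y.ι) := by
  classical
  obtain ⟨t, s, e, he, hs, hcov⟩ := finite_cover 𝒜 Y hY
  have hd : 0 < ∏ x ∈ t, e x := Finset.prod_pos (fun x _ => he x)
  have hdx : ∀ x ∈ t, (∏ x ∈ t, e x) = e x * ∏ x' ∈ t.erase x, e x' := fun x hx =>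
    (Finset.mul_prod_erase t e hx).symm
  have hq : ∀ x ∈ t, 0 < ∏ x' ∈ t.erase x, e x' := fun x _ => Finset.prod_pos (fun x' _ => he x')
  refine ⟨∏ x ∈ t, e x, hd, ?_, ?_⟩
  · intro y hy
    obtain ⟨x, hxt, hyx⟩ := hcov y hy
    set q := ∏ x' ∈ t.erase x, e x' with hqdef
    refine ⟨(2 * q) • e x, q • e x, s x ^ (2 * q), s x ^ q, SetLike.pow_mem_graded _ (hs x),
      SetLike.pow_mem_graded _ (hs x), ?_, ?_⟩
    · rw [hdx x hxt]
      simp only [smul_eq_mul]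
      ring
    · rw [← pow_add, Proj.basicOpen_pow 𝒜 (s x) (2 * q + q) (by have := hq x hxt; omega)]
      exact hyx
  · intro n y
    obtain ⟨x, hxt, hyx⟩ := hcov y.1 y.2
    set q := ∏ x' ∈ t.erase x, e x' with hqdef
    refine ⟨Y.ι ⁻¹ᵁ Proj.basicOpen 𝒜 (s x), hyx, ?_⟩
    apply restrict_restrict_iso
    have hmem : ∀ z : ↥(Y.ι ⁻¹ᵁ Proj.basicOpen 𝒜 (s x)),
        ((Y.ι ⁻¹ᵁ Proj.basicOpen 𝒜 (s x)).ι ≫ Y.ι).base z ∈ Proj.basicOpen 𝒜 (s x) := by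
      intro z
      exact z.2
    refine Groth.Agent.Lib.Helper17.TwistTriv.nonempty_restrict_iso 𝒜 (n * (∏ x ∈ t, e x : ℕ))
      (p := (q * n.toNat) • e x) (q := (q * (-n).toNat) • e x)
      (u := s x ^ (q * n.toNat)) (v := s x ^ (q * (-n).toNat))
      (SetLike.pow_mem_graded _ (hs x)) (SetLike.pow_mem_graded _ (hs x)) ?_ _
      (fun z => pow_not_mem 𝒜 _ _ (hmem z) _) (fun z => pow_not_mem 𝒜 _ _ (hmem z) _)
    rw [hdx x hxt, ← hqdef]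
    have hn : n = (n.toNat : ℤ) - ((-n).toNat : ℤ) := (Int.toNat_sub_toNat_neg n).symm
    simp only [smul_eq_mul]
    push_cast
    generalize (n.toNat : ℤ) = a at hn
    generalize ((-n).toNat : ℤ) = b at hn
    rw [hn]
    ring

end Groth.Agent.S9580
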