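import Groth.Statements.S9581
import Groth.Agent.Lib.Helper45.WeakAssLoc

set_option autoImplicit false
universe u
open CAlg

namespace Groth.Agent.S9581

/-- (1) ⇔ (3): for a ring R, an R-module M and a prime p of R, the prime p is weakly associated to M
(minimal among the primes containing the annihilator of some element of M) if and only if the
localization M_p contains an element whose annihilator in R_p has radical equal to the maximal ideal
p R_p. -/
theorem result {R : Type u} [CommRing R] (M : Type u) [AddCommGroup M] [Module R M] (p : Ideal R) [p.IsPrime] :
    p ∈ FlatCA.weakAss R M ↔ IsAssociatedPrime (IsLocalRing.maximalIdeal (Localization.AtPrime p)) (LocalizedModule p.primeCompl M) := by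
  have hcolon : ∀ x : LocalizedModule p.primeCompl M,
      Submodule.colon (⊥ : Submodule (Localization.AtPrime p) (LocalizedModule p.primeCompl M)) {x} =
        Groth.Agent.Lib.Helper45.annEl (Localization.AtPrime p) x := by
    intro x
    ext r
    rw [Submodule.mem_colon_singleton, Submodule.mem_bot, Groth.Agent.Lib.Helper45.mem_annEl]
  have hmax : IsLocalRing.maximalIdeal (Localization.AtPrime p) =
      p.map (algebraMap R (Localization.AtPrime p)) :=
    (IsLocalization.AtPrime.map_eq_maximalIdeal p (Localization.AtPrime p)).symm
  constructor
  · rintro ⟨m, hm⟩
    refine ⟨inferInstance, LocalizedModule.mk m 1, ?_⟩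
    rw [hcolon, Groth.Agent.Lib.Helper45.annEl_mk,
      IsLocalization.AtPrime.radical_map_of_mem_minimalPrimes (Localization.AtPrime p) p _ hm, hmax]
  · rintro ⟨_, x, hx⟩
    induction x using LocalizedModule.induction_on with
    | h m s =>
      refine ⟨m, ?_⟩
      rw [hcolon, Groth.Agent.Lib.Helper45.annEl_mk] at hx
      have hmem : IsLocalRing.maximalIdeal (Localization.AtPrime p) ∈
          ((Groth.Agent.Lib.Helper45.annEl R m).map
            (algebraMap R (Localization.AtPrime p))).minimalPrimes := by
        refine ⟨⟨inferInstance, ?_⟩, ?_⟩
        · rw [hx]; exact Ideal.le_radical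
        · intro q hq _
          rw [hx]
          exact (Ideal.IsPrime.radical_le_iff hq.1).mpr hq.2
      rw [IsLocalization.minimalPrimes_map p.primeCompl, Set.mem_preimage,
        IsLocalization.AtPrime.under_maximalIdeal (Localization.AtPrime p) p] at hmem
      exact hmem

end Groth.Agent.S9581
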