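import Mathlib
import Groth.Statements.S9594
-- import your own Groth.Agent.* helpers here

set_option autoImplicit false
universe u
open CAlg

namespace Groth.Agent.S9594

/-- For a ring R, an R-module M and a multiplicative subset S of R, (1) the primes of R associated to
the R-module S⁻¹M are the inverse images of the primes of S⁻¹R associated to S⁻¹M, and (2) a prime
of R associated to M which does not meet S is associated to the R-module S⁻¹M. Here a prime is
associated to a module when it equals the annihilator of some element. -/
theorem result {R : Type u} [CommRing R] (S : Submonoid R) (M : Type u) [AddCommGroup M] [Module R M] :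
    FlatCA.ass R (LocalizedModule S M) = Ideal.comap (algebraMap R (Localization S)) '' FlatCA.ass (Localization S) (LocalizedModule S M) ∧
      ∀ p ∈ FlatCA.ass R M, Disjoint (S : Set R) (p : Set R) → p ∈ FlatCA.ass R (LocalizedModule S M) := by
  constructor
  · apply Set.Subset.antisymm
    · rintro p ⟨hp, x, hx⟩
      let q : Ideal (Localization S) := (Submodule.span (Localization S) {x}).annihilator
      have hcomap : q.comap (algebraMap R (Localization S)) = p := by
        ext r
        rw [Ideal.mem_comap, hx, Submodule.mem_annihilator_span_singleton,
          Submodule.mem_annihilator_span_singleton, algebraMap_smul]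
      have hdisj : Disjoint (S : Set R) (p : Set R) := by
        rw [Set.disjoint_left]
        intro s hs hsp
        rw [SetLike.mem_coe, hx, Submodule.mem_annihilator_span_singleton] at hsp
        have hinj := IsLocalizedModule.smul_injective (LocalizedModule.mkLinearMap S M) ⟨s, hs⟩
        have hx0 : x = 0 := hinj (by simpa using hsp)
        apply hp.ne_top
        rw [hx, hx0, Submodule.span_singleton_eq_bot.mpr rfl, Submodule.annihilator_bot]
      have hq : q = p.map (algebraMap R (Localization S)) := by
        rw [← hcomap, IsLocalization.map_comap S]
      refine ⟨q, ⟨?_, x, rfl⟩, hcomap⟩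
      rw [hq]
      exact IsLocalization.isPrime_of_isPrime_disjoint S _ p hp hdisj
    · rintro _ ⟨q, ⟨hq, m, hm⟩, rfl⟩
      refine ⟨Ideal.comap_isPrime _ _, m, ?_⟩
      ext r
      rw [Ideal.mem_comap, hm, Submodule.mem_annihilator_span_singleton,
        Submodule.mem_annihilator_span_singleton, algebraMap_smul]
  · rintro p ⟨hp, m, hm⟩ hdisj
    refine ⟨hp, LocalizedModule.mkLinearMap S M m, ?_⟩
    ext r
    rw [Submodule.mem_annihilator_span_singleton, ← map_smul,
      IsLocalizedModule.eq_zero_iff S (LocalizedModule.mkLinearMap S M)]
    constructor
    · intro hr
      refine ⟨1, ?_⟩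
      rw [hm, Submodule.mem_annihilator_span_singleton] at hr
      rw [one_smul, hr]
    · rintro ⟨s, hs⟩
      have h1 : (s : R) * r ∈ p := by
        rw [hm, Submodule.mem_annihilator_span_singleton, mul_smul]
        exact hs
      rcases hp.mem_or_mem h1 with h2 | h2
      · exact absurd h2 (Set.disjoint_left.mp hdisj s.2)
      · exact h2

end Groth.Agent.S9594
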