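import Mathlib
import Groth.Statements.S9595
-- import your own Groth.Agent.* helpers here

set_option autoImplicit false
universe u
open CAlg

namespace Groth.Agent.S9595

/-- For a ring R, an R-module M and a multiplicative subset S of R whose elements are all
nonzerodivisors on M, a prime of R is the annihilator of an element of M if and only if it is the
annihilator in R of an element of S⁻¹M. -/
theorem result {R : Type u} [CommRing R] (S : Submonoid R) (M : Type u) [AddCommGroup M] [Module R M] (hS : ∀ s ∈ S, IsSMulRegular M s) :
    FlatCA.ass R M = FlatCA.ass R (LocalizedModule S M) := by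
  have key : ∀ (m : M) (s : S) (r : R),
      r • IsLocalizedModule.mk' (LocalizedModule.mkLinearMap S M) m s = 0 ↔ r • m = 0 := by
    intro m s r
    rw [← IsLocalizedModule.mk'_smul, IsLocalizedModule.mk'_eq_zero']
    constructor
    · rintro ⟨s', hs'⟩
      apply hS s' s'.2
      show (s' : R) • r • m = (s' : R) • (0 : M)
      rw [smul_zero]
      exact hs' 
    · intro h
      exact ⟨1, by rw [one_smul, h]⟩
  apply Set.Subset.antisymm
  · rintro p ⟨hp, m, hm⟩
    refine ⟨hp, IsLocalizedModule.mk' (LocalizedModule.mkLinearMap S M) m (1 : S), ?_⟩
    ext r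
    rw [hm, Submodule.mem_annihilator_span_singleton, Submodule.mem_annihilator_span_singleton,
      key]
  · rintro p ⟨hp, x, hx⟩
    obtain ⟨⟨m, s⟩, rfl⟩ := IsLocalizedModule.mk'_surjective S (LocalizedModule.mkLinearMap S M) x
    refine ⟨hp, m, ?_⟩
    ext r
    rw [hx, Submodule.mem_annihilator_span_singleton, Submodule.mem_annihilator_span_singleton]
    exact key m s r

end Groth.Agent.S9595
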