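import Mathlib
import Groth.Statements.S9596
-- import your own Groth.Agent.* helpers here

set_option autoImplicit false
universe u
open CAlg

namespace Groth.Agent.S9596

/-- For a Noetherian ring R and any R-module M, a prime which is minimal among the primes in the support
of M is an associated prime of M. -/
theorem result {R : Type u} [CommRing R] [IsNoetherianRing R] (M : Type u) [AddCommGroup M] [Module R M] (p : PrimeSpectrum R) (hp : Minimal (fun q : PrimeSpectrum R => q ∈ Module.support R M) p) :
    p.asIdeal ∈ associatedPrimes R M := by
  obtain ⟨m, hm⟩ := Module.mem_support_iff_exists_annihilator.mp hp.1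
  let N : Submodule R M := R ∙ m
  have hfin : Module.Finite R N := Module.Finite.of_fg (Submodule.fg_span_singleton m)
  have hsub : Module.support R N ⊆ Module.support R M :=
    Module.support_subset_of_injective N.subtype N.injective_subtype
  have hmin : p.asIdeal ∈ (Module.annihilator R N).minimalPrimes := by
    refine ⟨⟨p.2, hm⟩, ?_⟩
    rintro q ⟨hq, hqann⟩ hqp
    have hqs : (⟨q, hq⟩ : PrimeSpectrum R) ∈ Module.support R M := by
      apply hsub
      rw [Module.support_eq_zeroLocus]
      exact hqann
    exact hp.2 hqs hqp
  have := Module.associatedPrimes.minimalPrimes_annihilator_subset_associatedPrimes R N hmin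
  exact this.map_of_injective N.subtype N.injective_subtype

end Groth.Agent.S9596
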