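import Mathlib
import Groth.Statements.S9597
-- import your own Groth.Agent.* helpers here

set_option autoImplicit false
universe u
open CAlg

namespace Groth.Agent.S9597

/-- Let R be a Noetherian ring, M a finite R-module whose associated primes are pairwise incomparable
under inclusion (M has no embedded associated primes), and I the annihilator of M. Then the
associated primes of R/I, viewed as a module over itself, are again pairwise incomparable: R/I has
no embedded primes either. -/
theorem result {R : Type u} [CommRing R] [IsNoetherianRing R] (M : Type u) [AddCommGroup M] [Module R M] [Module.Finite R M] (hM : ∀ p ∈ associatedPrimes R M, ∀ q ∈ associatedPrimes R M, p ≤ q → p = q) :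
    ∀ p ∈ associatedPrimes (R ⧸ Module.annihilator R M) (R ⧸ Module.annihilator R M), ∀ q ∈ associatedPrimes (R ⧸ Module.annihilator R M) (R ⧸ Module.annihilator R M), p ≤ q → p = q := by
  classical
  set I := Module.annihilator R M with hI
  have key : ∀ p ∈ associatedPrimes (R ⧸ I) (R ⧸ I),
      p.comap (Ideal.Quotient.mk I) ∈ associatedPrimes R M := by
    intro p hp
    rw [AssociatedPrimes.mem_iff, isAssociatedPrime_iff] at hp ⊢
    obtain ⟨hpp, x, hx⟩ := hp
    obtain ⟨x, rfl⟩ := Ideal.Quotient.mk_surjective x
    have hP : (p.comap (Ideal.Quotient.mk I)).IsPrime := Ideal.comap_isPrime _ _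
    refine ⟨hP, ?_⟩
    obtain ⟨s, hs⟩ := Module.Finite.fg_top (R := R) (M := M)
    have h1 : p.comap (Ideal.Quotient.mk I) =
        s.inf (fun m => (⊥ : Submodule R M).colon {x • m}) := by
      ext r
      rw [Ideal.mem_comap, hx, Submodule.mem_colon_singleton, Submodule.mem_bot, smul_eq_mul,
        ← map_mul, Ideal.Quotient.eq_zero_iff_mem, hI, ← Submodule.annihilator_top, ← hs,
        Submodule.mem_annihilator_span, Submodule.mem_finsetInf]
      constructor
      · intro h m hm
        rw [Submodule.mem_colon_singleton, Submodule.mem_bot, smul_smul]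
        exact h ⟨m, hm⟩
      · rintro h ⟨m, hm⟩
        have := h m hm
        rwa [Submodule.mem_colon_singleton, Submodule.mem_bot, smul_smul] at this
    obtain ⟨m, hm, hle⟩ := (Ideal.IsPrime.inf_le' hP).mp h1.ge
    exact ⟨x • m, le_antisymm (h1.le.trans (Finset.inf_le hm)) hle⟩
  intro p hp q hq hpq
  have := hM _ (key p hp) _ (key q hq) (Ideal.comap_mono hpq)
  exact Ideal.comap_injective_of_surjective _ Ideal.Quotient.mk_surjective this

end Groth.Agent.S9597
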