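import Mathlib
import Groth.Statements.S9598
-- import your own Groth.Agent.* helpers here

set_option autoImplicit false
universe u
open CAlg

namespace Groth.Agent.S9598

/-- For a field k and a finite type k-algebra S with dim S > 0, some element of S is a nonzerodivisor
and a nonunit. -/
theorem result {k S : Type u} [Field k] [CommRing S] [Algebra k S] [Algebra.FiniteType k S] (hdim : 0 < ringKrullDim S) :
    ∃ f : S, f ∈ nonZeroDivisors S ∧ ¬ IsUnit f := by
  classical
  have hN : IsNoetherianRing S := Algebra.FiniteType.isNoetherianRing k S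
  have hJ : IsJacobsonRing S := isJacobsonRing_of_finiteType (A := k) (B := S)
  obtain ⟨p, hp, hpm⟩ : ∃ p : Ideal S, p.IsPrime ∧ ¬ p.IsMaximal := by
    by_contra! h
    have h0 : Ring.KrullDimLE 0 S := Ring.KrullDimLE.mk₀ h
    have : ringKrullDim S ≤ 0 := by
      have := h0
      rw [Ring.KrullDimLE, Order.krullDimLE_iff] at this
      simpa [ringKrullDim] using this
    exact absurd hdim (not_lt.mpr this)
  have hinf : {m : Ideal S | p ≤ m ∧ m.IsMaximal}.Infinite := by
    intro hfin
    have hjac : p.jacobson = p := (isJacobsonRing_iff_prime_eq.mp hJ) p hp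
    have hle : hfin.toFinset.inf id ≤ p := by
      intro x hx
      rw [← hjac, Ideal.jacobson, Ideal.mem_sInf]
      intro m hm
      rw [Submodule.mem_finsetInf] at hx
      exact hx m (by simpa using hm)
    obtain ⟨m, hm, hmp⟩ := (Ideal.IsPrime.inf_le' hp).mp hle
    rw [Set.Finite.mem_toFinset] at hm
    exact hpm (by rw [le_antisymm hm.1 hmp]; exact hm.2)
  obtain ⟨m, ⟨hpm', hm⟩, hmass⟩ := (hinf.sdiff (associatedPrimes.finite S S)).nonempty
  have hns : ¬ ((m : Set S) ⊆ ⋃ P ∈ associatedPrimes S S, (P : Set S)) := by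
    intro h
    obtain ⟨P, hP, hmP⟩ := (m.subset_union_prime_finite (associatedPrimes.finite S S)
      (f := id) 0 0 fun _ h _ _ ↦ h.isPrime).1 h
    have := hm.eq_of_le hP.isPrime.ne_top hmP
    exact hmass (this ▸ hP)
  obtain ⟨f, hfm, hf⟩ := Set.not_subset.mp hns
  rw [biUnion_associatedPrimes_eq_compl_nonZeroDivisors] at hf
  refine ⟨f, by simpa using hf, fun hu => hm.ne_top (m.eq_top_of_isUnit_mem hfm hu)⟩

end Groth.Agent.S9598
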