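import Mathlib
import Groth.Statements.S9600
import Groth.Agent.Lib.Helper49.AdicExact

set_option autoImplicit false
universe u
open CAlg

namespace Groth.Agent.S9600

/-- Let R be a ring, I an ideal of R and 0 → M → N → Q → 0 a short exact sequence of R-modules in which
Q is killed by some power I^c of I. Then on I-adic completions the map M^ → N^ is injective, N^ → Q^
is surjective with kernel equal to the image of M^, and the canonical map Q → Q^ is bijective; so 0
→ M^ → N^ → Q → 0 is again short exact. -/
theorem result {R : Type u} [CommRing R] (I : Ideal R) {M N Q : Type u} [AddCommGroup M] [Module R M] [AddCommGroup N] [Module R N] [AddCommGroup Q] [Module R Q] (i : M →ₗ[R] N) (g : N →ₗ[R] Q) (hi : Function.Injective i) (hg : Function.Surjective g) (hig : Function.Exact i g) (c : ℕ) (hc : ∀ x ∈ I ^ c, ∀ q : Q, x • q = 0) :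
    Function.Injective (AdicCompletion.map I i) ∧ Function.Exact (AdicCompletion.map I i) (AdicCompletion.map I g) ∧ Function.Surjective (AdicCompletion.map I g) ∧ Function.Bijective (AdicCompletion.of I Q) := by
  have hrange : (I ^ c • ⊤ : Submodule R N) ≤ LinearMap.range i := by
    rw [Submodule.smul_le]
    intro r hr n _
    rw [← (LinearMap.exact_iff.mp hig), LinearMap.mem_ker, map_smul]
    exact hc r hr (g n)
  have hAR : ∀ (n : ℕ) (k : M), i k ∈ (I ^ (n + c) • ⊤ : Submodule R N) →
      k ∈ (I ^ n • ⊤ : Submodule R M) := by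
    intro n k hk
    have h1 : (I ^ (n + c) • ⊤ : Submodule R N) ≤ Submodule.map i (I ^ n • ⊤) := by
      rw [pow_add, mul_smul, Submodule.map_smul'', Submodule.map_top]
      exact Submodule.smul_mono le_rfl hrange
    obtain ⟨k', hk', hik'⟩ := h1 hk
    rw [← hi hik']
    exact hk'
  refine ⟨Groth.Agent.Lib.Helper49.adic_map_injective_of_AR I i c hAR,
    Groth.Agent.Lib.Helper49.adic_map_exact_of_AR I i g hg hig c hAR,
    AdicCompletion.map_surjective I hg, ?_⟩
  rw [AdicCompletion.of_bijective_iff]
  have hzero : ∀ n, c ≤ n → (I ^ n • ⊤ : Submodule R Q) = ⊥ := by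
    intro n hn
    rw [eq_bot_iff, Submodule.smul_le]
    intro r hr q _
    rw [Submodule.mem_bot]
    exact hc r (Ideal.pow_le_pow_right hn hr) q
  refine { toIsHausdorff := ⟨fun x hx => ?_⟩, toIsPrecomplete := ⟨fun f hf => ⟨f c, fun n => ?_⟩⟩ }
  · have := hx c
    rw [SModEq.zero, hzero c le_rfl, Submodule.mem_bot] at this
    exact this
  · rcases le_total n c with hn | hn
    · exact hf hn
    · have := hf hn
      rw [hzero c le_rfl, SModEq.bot] at this
      rw [this]

end Groth.Agent.S9600
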