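import Mathlib
import Groth.Statements.S9601
-- import your own Groth.Agent.* helpers here

set_option autoImplicit false
universe u
open CAlg

namespace Groth.Agent.S9601

section helpers
variable {R : Type u} [CommRing R] (I : Ideal R) (M : Type u) [AddCommGroup M] [Module R M]

open AdicCompletion

theorem ker_eval_antitone {m n : ℕ} (h : m ≤ n) :
    LinearMap.ker (eval I M n) ≤ LinearMap.ker (eval I M m) := by
  intro x hx
  rw [LinearMap.mem_ker, eval_apply] at hx ⊢
  rw [← transitionMap_comp_eval_apply I M h x, hx, _root_.map_zero]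

theorem of_mem_pow_smul_top {m : ℕ} {z : M} (hz : z ∈ (I ^ m • ⊤ : Submodule R M)) :
    of I M z ∈ (I ^ m • ⊤ : Submodule R (AdicCompletion I M)) := by
  have : Submodule.map (of I M) (I ^ m • ⊤) ≤ I ^ m • ⊤ := by
    rw [Submodule.map_smul'']
    exact Submodule.smul_mono le_rfl le_top
  exact this (Submodule.mem_map_of_mem hz)

theorem step (m : ℕ) (x : AdicCompletion I M) (hx : x ∈ LinearMap.ker (eval I M m)) :
    ∃ y ∈ (I ^ m • ⊤ : Submodule R (AdicCompletion I M)),
      x - y ∈ LinearMap.ker (eval I M (m + 1)) := by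
  obtain ⟨z, hz⟩ := Submodule.mkQ_surjective _ (eval I M (m + 1) x)
  have hzm : z ∈ (I ^ m • ⊤ : Submodule R M) := by
    have h1 := transitionMap_comp_eval_apply I M (Nat.le_succ m) x
    rw [LinearMap.mem_ker, eval_apply] at hx
    rw [eval_apply] at hz
    rw [hx, ← hz] at h1
    simpa using h1
  refine ⟨of I M z, of_mem_pow_smul_top I M hzm, ?_⟩
  rw [LinearMap.mem_ker, map_sub, eval_of, hz, sub_self]

theorem exists_seq (n : ℕ) (x : AdicCompletion I M) (hx : x ∈ LinearMap.ker (eval I M n)) :
    ∃ s : ℕ → AdicCompletion I M, s 0 = 0 ∧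
      ∀ k, x - s k ∈ LinearMap.ker (eval I M (n + k)) ∧
        s (k + 1) - s k ∈ (I ^ (n + k) • ⊤ : Submodule R (AdicCompletion I M)) := by
  classical
  choose! g hg using step I M
  let s : ℕ → AdicCompletion I M := fun k => Nat.rec 0 (fun k t => t + g (n + k) (x - t)) k
  have hs0 : s 0 = 0 := rfl
  have hss : ∀ k, s (k + 1) = s k + g (n + k) (x - s k) := fun k => rfl
  have hker : ∀ k, x - s k ∈ LinearMap.ker (eval I M (n + k)) := by
    intro k
    induction k with
    | zero => simpa [hs0] using hx
    | succ k ih =>
      rw [hss, ← sub_sub]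
      exact (hg _ _ ih).2
  refine ⟨s, hs0, fun k => ⟨hker k, ?_⟩⟩
  rw [hss, add_sub_cancel_left]
  exact (hg _ _ (hker k)).1

theorem ker_le_of_precomplete [IsPrecomplete I (AdicCompletion I M)] (n : ℕ) :
    LinearMap.ker (eval I M n) ≤ I ^ n • ⊤ := by
  intro x hx
  obtain ⟨s, hs0, hs⟩ := exists_seq I M n x hx
  have hmono : ∀ a b, a ≤ b →
      s b - s a ∈ (I ^ (n + a) • ⊤ : Submodule R (AdicCompletion I M)) := by
    intro a b hab
    induction b, hab using Nat.le_induction with
    | base => simp
    | succ b hab ih =>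
      have : s (b + 1) - s a = (s (b + 1) - s b) + (s b - s a) := by abel
      rw [this]
      exact add_mem (Submodule.pow_smul_top_le I _ (by omega) (hs b).2) ih
  obtain ⟨L, hL⟩ := IsPrecomplete.prec ‹_› (f := fun j => s (j - n)) (by
    intro j j' hjj'
    rw [SModEq.sub_mem]
    have h1 := hmono (j - n) (j' - n) (Nat.sub_le_sub_right hjj' n)
    have h2 := Submodule.pow_smul_top_le I (AdicCompletion I M)
      (show j ≤ n + (j - n) by omega) h1
    rw [← neg_sub]
    exact neg_mem h2)
  have hLn : L ∈ (I ^ n • ⊤ : Submodule R (AdicCompletion I M)) := by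
    have := hL n
    simp only [Nat.sub_self, hs0] at this
    rw [SModEq.sub_mem, zero_sub, neg_mem_iff] at this
    exact this
  have hxL : x = L := by
    rw [← sub_eq_zero]
    apply AdicCompletion.ext
    intro j
    have h1 : x - L ∈ LinearMap.ker (eval I M (max j n)) := by
      have : x - L = (x - s (max j n - n)) + (s (max j n - n) - L) := by abel
      rw [this]
      refine add_mem ?_ ?_
      · have := (hs (max j n - n)).1
        rwa [show n + (max j n - n) = max j n by omega] at this
      · exact pow_smul_top_le_ker_eval (I := I) (M := M) (max j n) (SModEq.sub_mem.mp (hL (max j n)))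
    have := ker_eval_antitone I M (le_max_left j n) h1
    simpa using this
  rw [hxL]
  exact hLn

end helpers

/-- For a ring R, an ideal I of R and an R-module M, let M^ be the I-adic completion and K_n the kernel
of the projection M^ → M/IⁿM. The completion M^ is I-adically complete exactly when K_n = Iⁿ M^
holds for every n ≥ 1. -/
theorem result {R : Type u} [CommRing R] (I : Ideal R) (M : Type u) [AddCommGroup M] [Module R M] :
    IsAdicComplete I (AdicCompletion I M) ↔ ∀ n : ℕ, 1 ≤ n → LinearMap.ker (AdicCompletion.eval I M n) = I ^ n • (⊤ : Submodule R (AdicCompletion I M)) := by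
  constructor
  · intro h n _
    have := h.toIsPrecomplete
    exact le_antisymm (ker_le_of_precomplete I M n) (AdicCompletion.pow_smul_top_le_ker_eval (I := I) (M := M) n)
  · intro h
    refine { toIsHausdorff := inferInstance, toIsPrecomplete := ⟨fun f hf => ?_⟩ }
    have hcompat : ∀ {m n : ℕ} (hmn : m ≤ n), (f m).val m = (f n).val m := by
      intro m n hmn
      have h1 := AdicCompletion.pow_smul_top_le_ker_eval (I := I) (M := M) m (SModEq.sub_mem.mp (hf hmn))
      rw [LinearMap.mem_ker, map_sub, sub_eq_zero] at h1
      exact h1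
    let L : AdicCompletion I M := ⟨fun n => (f n).val n, by
      intro m n hmn
      rw [AdicCompletion.transitionMap_comp_eval_apply]
      exact (hcompat hmn).symm⟩
    refine ⟨L, fun n => ?_⟩
    rw [SModEq.sub_mem]
    rcases Nat.eq_zero_or_pos n with hn | hn
    · subst hn
      simp
    · rw [← h n hn, LinearMap.mem_ker, map_sub, sub_eq_zero]
      rfl

end Groth.Agent.S9601
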