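import Mathlib
import Groth.Statements.S9603
-- import your own Groth.Agent.* helpers here

set_option autoImplicit false
universe u
open CAlg

namespace Groth.Agent.S9603

section helpers
variable {R : Type u} [CommRing R] (M : Type u) [AddCommGroup M] [Module R M]

theorem series_cauchy (I : Ideal R) (a : ℕ → M) (ha : ∀ n, a n ∈ (I ^ n • ⊤ : Submodule R M))
    {m n : ℕ} (hmn : m ≤ n) :
    ∑ k ∈ Finset.range m, a k ≡ ∑ k ∈ Finset.range n, a k [SMOD (I ^ m • ⊤ : Submodule R M)] := by
  refine SModEq.symm ?_
  rw [SModEq.sub_mem, ← Finset.sum_Ico_eq_sub _ hmn]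
  refine Submodule.sum_mem _ fun k hk => ?_
  exact Submodule.pow_smul_top_le I M (Finset.mem_Ico.mp hk).1 (ha k)

theorem precomplete_sup (I J : Ideal R) (hI : IsPrecomplete I M) (hJ : IsPrecomplete J M) :
    IsPrecomplete (I ⊔ J) M := by
  refine ⟨fun y hy => ?_⟩
  have hz : ∀ n, y (2 * (n + 1)) - y (2 * n) ∈
      (I ^ n • ⊤ : Submodule R M) ⊔ (J ^ n • ⊤ : Submodule R M) := by
    intro n
    have h1 : y (2 * n) ≡ y (2 * (n + 1)) [SMOD ((I ⊔ J) ^ (2 * n) • ⊤ : Submodule R M)] :=
      hy (by omega)
    have h2 := SModEq.sub_mem.mp h1.symm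
    have h3 : ((I ⊔ J) ^ (2 * n) • ⊤ : Submodule R M) ≤ I ^ n • ⊤ ⊔ J ^ n • ⊤ := by
      rw [← Submodule.sup_smul, two_mul]
      exact Submodule.smul_mono_left Ideal.sup_pow_add_le_pow_sup_pow
    exact h3 h2
  choose a ha b hb hab using fun n => Submodule.mem_sup.mp (hz n)
  obtain ⟨A, hA⟩ := hI.prec (f := fun N => ∑ n ∈ Finset.range N, a n)
    (fun {m n} hmn => series_cauchy M I a ha hmn)
  obtain ⟨B, hB⟩ := hJ.prec (f := fun N => ∑ n ∈ Finset.range N, b n)
    (fun {m n} hmn => series_cauchy M J b hb hmn)
  have htel : ∀ N, ∑ n ∈ Finset.range N, a n + ∑ n ∈ Finset.range N, b n = y (2 * N) - y 0 := by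
    intro N
    rw [← Finset.sum_add_distrib]
    simp_rw [hab]
    exact Finset.sum_range_sub (fun i => y (2 * i)) N
  refine ⟨y 0 + A + B, fun n => ?_⟩
  rw [SModEq.sub_mem]
  have h1 : y n - y (2 * n) ∈ ((I ⊔ J) ^ n • ⊤ : Submodule R M) :=
    SModEq.sub_mem.mp (hy (by omega))
  have h2 : y (2 * n) - (y 0 + A + B) ∈ ((I ⊔ J) ^ n • ⊤ : Submodule R M) := by
    have e : y (2 * n) - (y 0 + A + B) =
        (∑ k ∈ Finset.range n, a k - A) + (∑ k ∈ Finset.range n, b k - B) := by
      have h3 : y (2 * n) = ∑ k ∈ Finset.range n, a k + ∑ k ∈ Finset.range n, b k + y 0 := by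
        rw [htel n]; abel
      rw [h3]
      abel
    rw [e]
    refine add_mem ?_ ?_
    · exact Submodule.smul_mono_left (Ideal.pow_right_mono le_sup_left n)
        (SModEq.sub_mem.mp (hA n))
    · exact Submodule.smul_mono_left (Ideal.pow_right_mono le_sup_right n)
        (SModEq.sub_mem.mp (hB n))
  have : y n - (y 0 + A + B) = (y n - y (2 * n)) + (y (2 * n) - (y 0 + A + B)) := by abel
  rw [this]
  exact add_mem h1 h2

theorem precomplete_span_finset (s : Finset R)
    (h : ∀ a ∈ s, IsPrecomplete (Ideal.span {a}) M) :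
    IsPrecomplete (Ideal.span (s : Set R)) M := by
  classical
  induction s using Finset.induction_on with
  | empty =>
    rw [Finset.coe_empty, Ideal.span_empty]
    infer_instance
  | insert a s _ ih =>
    rw [Finset.coe_insert, Ideal.span_insert]
    exact precomplete_sup M _ _ (h a (Finset.mem_insert_self a s))
      (ih fun b hb => h b (Finset.mem_insert_of_mem hb))

end helpers

/-- For a ring A, elements f_1, …, f_r generating an ideal I and an A-module M, if the canonical map
from M to its (f_i)-adic completion is surjective for every i, then the canonical map from M to its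
I-adic completion is surjective. -/
theorem result {A : Type u} [CommRing A] {r : ℕ} (f : Fin r → A) (M : Type u) [AddCommGroup M] [Module A M] (h : ∀ i, Function.Surjective (AdicCompletion.of (Ideal.span {f i}) M)) :
    Function.Surjective (AdicCompletion.of (Ideal.span (Set.range f)) M) := by
  classical
  rw [AdicCompletion.of_surjective_iff]
  have := precomplete_span_finset M (Finset.univ.image f) (by
    intro a ha
    obtain ⟨i, _, rfl⟩ := Finset.mem_image.mp ha
    exact (AdicCompletion.of_surjective_iff).mp (h i))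
  rwa [Finset.coe_image, Finset.coe_univ, Set.image_univ] at this

end Groth.Agent.S9603
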