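import Mathlib
import Groth.Statements.S9604
-- import your own Groth.Agent.* helpers here

set_option autoImplicit false
universe u
open CAlg

namespace Groth.Agent.S9604

section helpers
variable {R : Type u} [CommRing R] (I J : Ideal R) (M : Type u) [AddCommGroup M] [Module R M]

theorem pow_smul_le (c : ℕ) (hI : I ^ c ≤ J) (n : ℕ) :
    (I ^ (c * n) • ⊤ : Submodule R M) ≤ J ^ n • ⊤ := by
  rw [pow_mul]
  exact Submodule.smul_mono_left (Ideal.pow_right_mono hI n)

theorem hausdorff_of_pow_le (c : ℕ) (hI : I ^ c ≤ J) (h : IsHausdorff J M) : IsHausdorff I M := by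
  refine ⟨fun x hx => h.haus' x fun n => ?_⟩
  exact (hx (c * n)).mono (pow_smul_le I J M c hI n)

theorem precomplete_of_pow_le (c d : ℕ) (hc : 0 < c) (hd : 0 < d) (hI : I ^ c ≤ J)
    (hJ : J ^ d ≤ I) (h : IsPrecomplete J M) : IsPrecomplete I M := by
  refine ⟨fun f hf => ?_⟩
  obtain ⟨L, hL⟩ := h.prec' (fun n => f (c * n)) (fun {m n} hmn =>
    (hf (Nat.mul_le_mul_left c hmn)).mono (pow_smul_le I J M c hI m))
  refine ⟨L, fun n => ?_⟩
  have h1 : f n ≡ f (c * (d * n)) [SMOD (I ^ n • ⊤ : Submodule R M)] := by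
    apply hf
    calc n = 1 * (1 * n) := by ring
      _ ≤ c * (d * n) := Nat.mul_le_mul hc (Nat.mul_le_mul hd le_rfl)
  have h2 : f (c * (d * n)) ≡ L [SMOD (I ^ n • ⊤ : Submodule R M)] :=
    (hL (d * n)).mono (pow_smul_le J I M d hJ n)
  exact h1.trans h2

end helpers

/-- Let R be a ring and I, J ideals of R with I^c ⊆ J and J^d ⊆ I for some integers c, d > 0. Then for
an R-module, being complete in the I-adic topology is equivalent to being complete in the J-adic
topology. -/
theorem result {R : Type u} [CommRing R] (I J : Ideal R) (c d : ℕ) (hc : 0 < c) (hd : 0 < d) (hI : I ^ c ≤ J) (hJ : J ^ d ≤ I) (M : Type u) [AddCommGroup M] [Module R M] :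
    IsAdicComplete I M ↔ IsAdicComplete J M := by
  constructor
  · intro h
    exact { toIsHausdorff := hausdorff_of_pow_le J I M d hJ h.toIsHausdorff
            toIsPrecomplete := precomplete_of_pow_le J I M d c hd hc hJ hI h.toIsPrecomplete }
  · intro h
    exact { toIsHausdorff := hausdorff_of_pow_le I J M c hI h.toIsHausdorff
            toIsPrecomplete := precomplete_of_pow_le I J M c d hc hd hI hJ h.toIsPrecomplete }

end Groth.Agent.S9604
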