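import Mathlib
import Groth.Statements.S9605
-- import your own Groth.Agent.* helpers here

set_option autoImplicit false
universe u
open CAlg

namespace Groth.Agent.S9605

section helpers
variable {R : Type u} [CommRing R] (I : Ideal R) (M : Type u) [AddCommGroup M] [Module R M]

theorem mkQ_mem_pow_smul_top_iff (K : Submodule R M) (n : ℕ) (x : M) :
    K.mkQ x ∈ (I ^ n • ⊤ : Submodule R (M ⧸ K)) ↔ x ∈ K ⊔ (I ^ n • ⊤ : Submodule R M) := by
  have : (I ^ n • ⊤ : Submodule R (M ⧸ K)) = Submodule.map K.mkQ (I ^ n • ⊤) := by
    rw [Submodule.map_smul'', Submodule.map_top, Submodule.range_mkQ]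
  rw [this, ← Submodule.mem_comap, Submodule.comap_map_mkQ]

theorem precomplete_quotient [IsPrecomplete I M] (K : Submodule R M) : IsPrecomplete I (M ⧸ K) := by
  rw [← AdicCompletion.of_surjective_iff]
  intro y
  obtain ⟨x, rfl⟩ := AdicCompletion.map_surjective I (f := K.mkQ) (Submodule.mkQ_surjective K) y
  obtain ⟨m, rfl⟩ := AdicCompletion.of_surjective I M x
  exact ⟨K.mkQ m, (AdicCompletion.map_of I K.mkQ m).symm⟩

end helpers

/-- For a ring R, an ideal I of R, an I-adically complete R-module M and a submodule K of M, the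
quotient M/K is I-adically complete if and only if K = ⋂ₙ (K + IⁿM). -/
theorem result {R : Type u} [CommRing R] (I : Ideal R) (M : Type u) [AddCommGroup M] [Module R M] [IsAdicComplete I M] (K : Submodule R M) :
    IsAdicComplete I (M ⧸ K) ↔ K = ⨅ n : ℕ, K ⊔ I ^ n • (⊤ : Submodule R M) := by
  have hpre : IsPrecomplete I (M ⧸ K) := precomplete_quotient I M K
  constructor
  · intro h
    refine le_antisymm (le_iInf fun n => le_sup_left) ?_
    intro x hx
    rw [Submodule.mem_iInf] at hx
    have : K.mkQ x = 0 := by
      apply h.toIsHausdorff.haus'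
      intro n
      rw [SModEq.zero, mkQ_mem_pow_smul_top_iff]
      exact hx n
    simpa using this
  · intro h
    refine { toIsHausdorff := ⟨fun y hy => ?_⟩, toIsPrecomplete := hpre }
    obtain ⟨x, rfl⟩ := Submodule.mkQ_surjective K y
    have hx : x ∈ K := by
      rw [h, Submodule.mem_iInf]
      intro n
      rw [← mkQ_mem_pow_smul_top_iff, ← SModEq.zero]
      exact hy n
    simpa using hx

end Groth.Agent.S9605
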