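import Mathlib
import Groth.Statements.S9606
-- import your own Groth.Agent.* helpers here

set_option autoImplicit false
universe u
open CAlg

namespace Groth.Agent.S9606

section helpers

theorem eq_of_sq_eq_of_cube_eq {F : Type*} [Field F] {u v : F} (h2 : u ^ 2 = v ^ 2)
    (h3 : u ^ 3 = v ^ 3) : u = v := by
  by_cases hu : u = 0
  · subst hu
    have : v ^ 2 = 0 := by rw [← h2]; ring
    exact (pow_eq_zero_iff (two_ne_zero)).mp this |>.symm
  · have hv : v ≠ 0 := by
      rintro rfl
      apply hu
      have : u ^ 2 = 0 := by rw [h2]; ring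
      exact (pow_eq_zero_iff (two_ne_zero)).mp this
    have e1 : u = u ^ 3 / u ^ 2 := by field_simp
    have e2 : v = v ^ 3 / v ^ 2 := by field_simp
    rw [e1, e2, h2, h3]

variable {R S : Type u} [CommRing R] [CommRing S] [Algebra R S]

theorem residue_bijective
    (hgen : Algebra.adjoin R {x : S | x ^ 2 ∈ Set.range (algebraMap R S) ∧
      x ^ 3 ∈ Set.range (algebraMap R S)} = ⊤)
    (p : Ideal R) [p.IsPrime] (q : Ideal S) [q.IsPrime] (hq : p = q.comap (algebraMap R S)) :
    Function.Bijective (Ideal.ResidueField.map p q (algebraMap R S) hq) := by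
  refine ⟨RingHom.injective _, ?_⟩
  set ρ := Ideal.ResidueField.map p q (algebraMap R S) hq with hρ
  have key : ∀ s : S, algebraMap S q.ResidueField s ∈ ρ.fieldRange := by
    intro s
    have hs : s ∈ Algebra.adjoin R {x : S | x ^ 2 ∈ Set.range (algebraMap R S) ∧
        x ^ 3 ∈ Set.range (algebraMap R S)} := by rw [hgen]; trivial
    induction hs using Algebra.adjoin_induction with
    | mem x hx =>
      obtain ⟨⟨a, ha⟩, ⟨b, hb⟩⟩ := hx
      have h2 : (algebraMap S q.ResidueField x) ^ 2 = ρ (algebraMap R p.ResidueField a) := by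
        rw [hρ, Ideal.ResidueField.map_algebraMap, ha, map_pow]
      have h3 : (algebraMap S q.ResidueField x) ^ 3 = ρ (algebraMap R p.ResidueField b) := by
        rw [hρ, Ideal.ResidueField.map_algebraMap, hb, map_pow]
      by_cases h0 : algebraMap S q.ResidueField x = 0
      · rw [h0]; exact zero_mem _
      · have e : algebraMap S q.ResidueField x =
            (algebraMap S q.ResidueField x) ^ 3 / (algebraMap S q.ResidueField x) ^ 2 := by
          field_simp
        rw [e, h2, h3, ← map_div₀]
        exact ⟨_, rfl⟩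
    | algebraMap r =>
      exact ⟨algebraMap R p.ResidueField r, Ideal.ResidueField.map_algebraMap p q _ hq r⟩
    | add x y _ _ hx hy => rw [map_add]; exact add_mem hx hy
    | mul x y _ _ hx hy => rw [map_mul]; exact mul_mem hx hy
  intro z
  obtain ⟨x, y, hy, rfl⟩ := IsFractionRing.div_surjective (A := S ⧸ q) z
  obtain ⟨x, rfl⟩ := Ideal.Quotient.mk_surjective x
  obtain ⟨y, rfl⟩ := Ideal.Quotient.mk_surjective y
  rw [Ideal.algebraMap_quotient_residueField_mk, Ideal.algebraMap_quotient_residueField_mk]
  exact div_mem (key x) (key y)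

theorem prime_unique
    (hgen : Algebra.adjoin R {x : S | x ^ 2 ∈ Set.range (algebraMap R S) ∧
      x ^ 3 ∈ Set.range (algebraMap R S)} = ⊤)
    (p : Ideal R) [p.IsPrime] (q q' : Ideal S) [q.IsPrime] [q'.IsPrime]
    (hq : p = q.comap (algebraMap R S)) (hq' : p = q'.comap (algebraMap R S)) : q = q' := by
  let e := RingEquiv.ofBijective _ (residue_bijective hgen p q hq)
  let e' := RingEquiv.ofBijective _ (residue_bijective hgen p q' hq')
  let ψ : S →ₐ[R] p.ResidueField :=
    { toRingHom := (e.symm : q.ResidueField →+* p.ResidueField).comp (algebraMap S q.ResidueField)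
      commutes' := fun r => by
        simp only [RingHom.toMonoidHom_eq_coe, OneHom.toFun_eq_coe, MonoidHom.toOneHom_coe,
          MonoidHom.coe_coe, RingHom.coe_comp, RingHom.coe_coe, Function.comp_apply]
        rw [RingEquiv.symm_apply_eq]
        exact (Ideal.ResidueField.map_algebraMap p q _ hq r).symm }
  let ψ' : S →ₐ[R] p.ResidueField :=
    { toRingHom := (e'.symm : q'.ResidueField →+* p.ResidueField).comp
        (algebraMap S q'.ResidueField)
      commutes' := fun r => by
        simp only [RingHom.toMonoidHom_eq_coe, OneHom.toFun_eq_coe, MonoidHom.toOneHom_coe,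
          MonoidHom.coe_coe, RingHom.coe_comp, RingHom.coe_coe, Function.comp_apply]
        rw [RingEquiv.symm_apply_eq]
        exact (Ideal.ResidueField.map_algebraMap p q' _ hq' r).symm }
  have hψ : ψ = ψ' := by
    refine AlgHom.ext_of_adjoin_eq_top hgen ?_
    rintro x ⟨⟨a, ha⟩, ⟨b, hb⟩⟩
    apply eq_of_sq_eq_of_cube_eq
    · rw [← map_pow, ← map_pow, ← ha, AlgHom.commutes, AlgHom.commutes]
    · rw [← map_pow, ← map_pow, ← hb, AlgHom.commutes, AlgHom.commutes]
  have hker : ∀ s : S, ψ s = 0 ↔ s ∈ q := by
    intro s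
    show e.symm (algebraMap S q.ResidueField s) = 0 ↔ s ∈ q
    rw [map_eq_zero_iff _ e.symm.injective, Ideal.algebraMap_residueField_eq_zero]
  have hker' : ∀ s : S, ψ' s = 0 ↔ s ∈ q' := by
    intro s
    show e'.symm (algebraMap S q'.ResidueField s) = 0 ↔ s ∈ q'
    rw [map_eq_zero_iff _ e'.symm.injective, Ideal.algebraMap_residueField_eq_zero]
  ext s
  rw [← hker, ← hker', hψ]

end helpers

/-- Let R → S be a ring map with locally nilpotent kernel such that S is generated over R by elements x
with x² and x³ in the image of R. Then the induced map on spectra is a homeomorphism and every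
residue field map κ(p) → κ(q), for q a prime of S with inverse image p, is bijective. -/
theorem result {R S : Type u} [CommRing R] [CommRing S] [Algebra R S]
    (hgen : Algebra.adjoin R {x : S | x ^ 2 ∈ Set.range (algebraMap R S) ∧ x ^ 3 ∈ Set.range (algebraMap R S)} = ⊤)
    (hker : ∀ r : R, algebraMap R S r = 0 → IsNilpotent r) :
    IsHomeomorph (PrimeSpectrum.comap (algebraMap R S)) ∧
      ∀ (q : Ideal S) [q.IsPrime], Function.Bijective (Ideal.ResidueField.map (q.comap (algebraMap R S)) q (algebraMap R S) rfl) := by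
  have hint : Algebra.IsIntegral R S := by
    rw [← integralClosure_eq_top_iff, eq_top_iff, ← hgen]
    apply Algebra.adjoin_le
    rintro x ⟨⟨a, ha⟩, _⟩
    refine ⟨Polynomial.X ^ 2 - Polynomial.C a, Polynomial.monic_X_pow_sub_C a (by norm_num), ?_⟩
    simp [ha]
  have hkerle : RingHom.ker (algebraMap R S) ≤ nilradical R := by
    intro r hr
    exact hker r hr
  refine ⟨?_, fun q _ => residue_bijective hgen _ q rfl⟩
  rw [isHomeomorph_iff_continuous_isClosedMap_bijective]
  refine ⟨PrimeSpectrum.continuous_comap _, ?_, ?_, ?_⟩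
  · exact PrimeSpectrum.isClosedMap_comap_of_isIntegral _ hint.isIntegral
  · intro q q' hqq'
    have h1 : q.asIdeal.comap (algebraMap R S) = q'.asIdeal.comap (algebraMap R S) :=
      congrArg PrimeSpectrum.asIdeal hqq'
    have : (q.asIdeal.comap (algebraMap R S)).IsPrime := Ideal.comap_isPrime _ _
    exact PrimeSpectrum.ext (prime_unique hgen (q.asIdeal.comap (algebraMap R S))
      q.asIdeal q'.asIdeal rfl h1)
  · intro P
    obtain ⟨Q, _, hQ, hQP⟩ := Ideal.exists_ideal_over_prime_of_isIntegral P.asIdeal (⊥ : Ideal S)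
      (by
        intro r hr
        have hr' : r ∈ RingHom.ker (algebraMap R S) := by simpa using hr
        exact (nilradical_le_prime P.asIdeal) (hkerle hr'))
    exact ⟨⟨Q, hQ⟩, PrimeSpectrum.ext hQP⟩

end Groth.Agent.S9606
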