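import Mathlib
import Groth.Statements.S9607
-- import your own Groth.Agent.* helpers here

set_option autoImplicit false
universe u
open CAlg

namespace Groth.Agent.S9607

theorem pow_dvd_choose {p : ℕ} (hp : p.Prime) (a n i e : ℕ) (hi0 : i ≠ 0) (hia : i ≤ p ^ a)
    (hni : ¬ p ^ n ∣ i) (he : e + n ≤ a + 1) : p ^ e ∣ (p ^ a).choose i := by
  have hf := Nat.factorization_choose_prime_pow hp hia hi0
  have hlt : i.factorization p < n := by
    by_contra h
    rw [not_lt] at h
    exact hni ((hp.pow_dvd_iff_le_factorization hi0).mpr h)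
  have hpos : (p ^ a).choose i ≠ 0 := (Nat.choose_pos hia).ne'
  rw [hp.pow_dvd_iff_le_factorization hpos, hf]
  omega

theorem not_pow_dvd {p : ℕ} (n q r : ℕ) (hr0 : r ≠ 0) (hr : r < p ^ n) :
    ¬ p ^ n ∣ p ^ n * q + r := by
  intro h
  have h2 : p ^ n ∣ r := (Nat.dvd_add_right (dvd_mul_right _ _)).mp h
  exact Nat.not_dvd_of_pos_of_lt (Nat.pos_of_ne_zero hr0) hr h2

/-- For a prime number p and integers n, m > 0 there exists an integer a such that (x + y)^(p^a) and p^a
(x + y) both belong to the subring ℤ[x^(p^n), p^n x, y^(p^m), p^m y] of the polynomial ring ℤ[x, y]. -/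
theorem result (p : ℕ) (hp : p.Prime) (n m : ℕ) (hn : 0 < n) (hm : 0 < m) :
    ∃ a : ℕ, ((MvPolynomial.X 0 + MvPolynomial.X 1 : MvPolynomial (Fin 2) ℤ) ^ (p ^ a) ∈ Algebra.adjoin ℤ ({MvPolynomial.X 0 ^ (p ^ n), (p : MvPolynomial (Fin 2) ℤ) ^ n * MvPolynomial.X 0, MvPolynomial.X 1 ^ (p ^ m), (p : MvPolynomial (Fin 2) ℤ) ^ m * MvPolynomial.X 1} : Set (MvPolynomial (Fin 2) ℤ)) ∧
      (p : MvPolynomial (Fin 2) ℤ) ^ a * (MvPolynomial.X 0 + MvPolynomial.X 1) ∈ Algebra.adjoin ℤ ({MvPolynomial.X 0 ^ (p ^ n), (p : MvPolynomial (Fin 2) ℤ) ^ n * MvPolynomial.X 0, MvPolynomial.X 1 ^ (p ^ m), (p : MvPolynomial (Fin 2) ℤ) ^ m * MvPolynomial.X 1} : Set (MvPolynomial (Fin 2) ℤ))) := by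
  set x : MvPolynomial (Fin 2) ℤ := MvPolynomial.X 0 with hx
  set y : MvPolynomial (Fin 2) ℤ := MvPolynomial.X 1 with hy
  set P : MvPolynomial (Fin 2) ℤ := (p : MvPolynomial (Fin 2) ℤ) with hP
  set A := Algebra.adjoin ℤ ({x ^ (p ^ n), P ^ n * x, y ^ (p ^ m), P ^ m * y} :
    Set (MvPolynomial (Fin 2) ℤ)) with hA
  have h1 : x ^ (p ^ n) ∈ A := Algebra.subset_adjoin (by simp)
  have h2 : P ^ n * x ∈ A := Algebra.subset_adjoin (by simp)
  have h3 : y ^ (p ^ m) ∈ A := Algebra.subset_adjoin (by simp)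
  have h4 : P ^ m * y ∈ A := Algebra.subset_adjoin (by simp)
  have hPA : P ∈ A := natCast_mem A p
  have hpn : 0 < p ^ n := pow_pos hp.pos n
  have hpm : 0 < p ^ m := pow_pos hp.pos m
  refine ⟨n * p ^ n + m * p ^ m + n + m, ?_, ?_⟩
  · rw [add_pow]
    refine Subalgebra.sum_mem _ fun i hi => ?_
    generalize ha : n * p ^ n + m * p ^ m + n + m = a at hi ⊢
    have hi' : i ≤ p ^ a := Nat.lt_succ_iff.mp (Finset.mem_range.mp hi)
    obtain ⟨j, hj⟩ : ∃ j, i + j = p ^ a := ⟨p ^ a - i, by omega⟩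
    have hj' : p ^ a - i = j := by omega
    rw [hj']
    have hir := Nat.div_add_mod i (p ^ n)
    have hr_lt : i % p ^ n < p ^ n := Nat.mod_lt _ hpn
    generalize i / p ^ n = q at hir
    generalize i % p ^ n = r at hir hr_lt
    have hjr := Nat.div_add_mod j (p ^ m)
    have hr'_lt : j % p ^ m < p ^ m := Nat.mod_lt _ hpm
    generalize j / p ^ m = q' at hjr
    generalize j % p ^ m = r' at hjr hr'_lt
    have hdvd : p ^ (n * r + m * r') ∣ (p ^ a).choose i := by
      have hbound : n * r + m * r' + n + m ≤ a + 1 := by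
        have e1 : n * r + n ≤ n * p ^ n := by nlinarith
        have e2 : m * r' + m ≤ m * p ^ m := by nlinarith
        omega
      by_cases hr0 : r = 0
      · by_cases hr'0 : r' = 0
        · subst hr0 hr'0
          simp
        · have hsymm : (p ^ a).choose i = (p ^ a).choose j := Nat.choose_symm_of_eq_add hj.symm
          rw [hsymm]
          have hj0 : j ≠ 0 := by
            rintro rfl
            have : p ^ m * q' + r' = 0 := hjr
            omega
          refine pow_dvd_choose hp a m j _ hj0 (by omega) ?_ (by omega)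
          rw [← hjr]
          exact not_pow_dvd m q' r' hr'0 hr'_lt
      · have hi0 : i ≠ 0 := by
          rintro rfl
          have : p ^ n * q + r = 0 := hir
          omega
        refine pow_dvd_choose hp a n i _ hi0 hi' ?_ (by omega)
        rw [← hir]
        exact not_pow_dvd n q r hr0 hr_lt
    obtain ⟨c, hc⟩ := hdvd
    have hterm : x ^ i * y ^ j * (((p ^ a).choose i : ℕ) : MvPolynomial (Fin 2) ℤ) =
        (x ^ (p ^ n)) ^ q * (y ^ (p ^ m)) ^ q' * (P ^ n * x) ^ r * (P ^ m * y) ^ r' *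
          ((c : ℕ) : MvPolynomial (Fin 2) ℤ) := by
      rw [hc, ← hir, ← hjr]
      push_cast
      ring
    rw [hterm]
    exact mul_mem (mul_mem (mul_mem (mul_mem (pow_mem h1 _) (pow_mem h3 _)) (pow_mem h2 _))
      (pow_mem h4 _)) (natCast_mem A c)
  · have e : P ^ (n * p ^ n + m * p ^ m + n + m) * (x + y) =
        P ^ (n * p ^ n + m * p ^ m + m) * (P ^ n * x) +
          P ^ (n * p ^ n + m * p ^ m + n) * (P ^ m * y) := by
      ring
    rw [e]
    exact add_mem (mul_mem (pow_mem hPA _) h2) (mul_mem (pow_mem hPA _) h4)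

end Groth.Agent.S9607
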