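import Mathlib
import Groth.Statements.S9608
-- import your own Groth.Agent.* helpers here

set_option autoImplicit false
universe u
open CAlg

namespace Groth.Agent.S9608

/-- Let k'/k be a field extension and p a prime number. Then k' is generated over k by elements x for
which some n > 0 has x^(p^n) ∈ k and p^n x ∈ k, if and only if either k' = k, or k has
characteristic p and k'/k is purely inseparable. -/
theorem result {k k' : Type u} [Field k] [Field k'] [Algebra k k'] (p : ℕ) (hp : p.Prime) :
    IntermediateField.adjoin k {x : k' | ∃ n : ℕ, 0 < n ∧ x ^ (p ^ n) ∈ Set.range (algebraMap k k') ∧ (p : k') ^ n * x ∈ Set.range (algebraMap k k')} = ⊤ ↔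
      (Function.Surjective (algebraMap k k') ∨ (CharP k p ∧ IsPurelyInseparable k k')) := by
  constructor
  · intro h
    by_cases hchar : CharP k p
    · right
      refine ⟨hchar, ?_⟩
      have : ExpChar k p := ExpChar.prime hp
      rw [isPurelyInseparable_iff_perfectClosure_eq_top, eq_top_iff, ← h, IntermediateField.adjoin_le_iff]
      rintro x ⟨n, _, hx, _⟩
      exact (mem_perfectClosure_iff_pow_mem p).mpr ⟨n, hx⟩
    · left
      have hp0 : (p : k) ≠ 0 := fun h0 => hchar ((CharP.charP_iff_prime_eq_zero hp).mpr h0)
      have hS : {x : k' | ∃ n : ℕ, 0 < n ∧ x ^ (p ^ n) ∈ Set.range (algebraMap k k') ∧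
          (p : k') ^ n * x ∈ Set.range (algebraMap k k')} ⊆
          ((⊥ : IntermediateField k k') : Set k') := by
        rintro x ⟨n, _, _, ⟨c, hc⟩⟩
        rw [SetLike.mem_coe, IntermediateField.mem_bot]
        refine ⟨((p : k) ^ n)⁻¹ * c, ?_⟩
        have hpk' : (p : k') ≠ 0 := by
          rw [← map_natCast (algebraMap k k')]
          exact (map_ne_zero _).mpr hp0
        rw [map_mul, hc, map_inv₀, map_pow, map_natCast, ← mul_assoc,
          inv_mul_cancel₀ (pow_ne_zero _ hpk'), one_mul]
      have hle : (⊤ : IntermediateField k k') ≤ ⊥ := h ▸ IntermediateField.adjoin_le_iff.mpr hS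
      intro z
      have hz : z ∈ (⊥ : IntermediateField k k') := hle IntermediateField.mem_top
      exact IntermediateField.mem_bot.mp hz
  · rintro (h | ⟨hchar, hpi⟩)
    · rw [eq_top_iff]
      intro z _
      obtain ⟨c, rfl⟩ := h z
      exact IntermediateField.algebraMap_mem _ c
    · have := hchar
      have : ExpChar k p := ExpChar.prime hp
      rw [eq_top_iff]
      intro z _
      apply IntermediateField.subset_adjoin
      obtain ⟨n, hn⟩ := (isPurelyInseparable_iff_pow_mem k p).mp hpi z
      refine ⟨n + 1, Nat.succ_pos n, ?_, ?_⟩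
      · rw [pow_succ, pow_mul]
        obtain ⟨c, hc⟩ := hn
        exact ⟨c ^ p, by rw [map_pow, hc]⟩
      · have hpk' : (p : k') = 0 := by
          have : CharP k' p := charP_of_injective_algebraMap (algebraMap k k').injective p
          exact CharP.cast_eq_zero k' p
        rw [hpk', zero_pow (Nat.succ_ne_zero n), zero_mul]
        exact ⟨0, map_zero _⟩

end Groth.Agent.S9608
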