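import Mathlib
import Groth.Statements.S9609
-- import your own Groth.Agent.* helpers here

set_option autoImplicit false
universe u
open CAlg

namespace Groth.Agent.S9609

section helpers
variable {R S : Type u} [CommRing R] [CommRing S] [Algebra R S]

/-- Ring maps out of `S` into fields are determined by their restriction to `R`. -/
def Rad (R S : Type u) [CommRing R] [CommRing S] [Algebra R S] : Prop :=
  ∀ (K : Type u) [Field K] (f g : S →+* K),
    f.comp (algebraMap R S) = g.comp (algebraMap R S) → f = g

theorem pi_iff (q : Ideal S) [q.IsPrime] :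
    (∀ x : q.ResidueField, ∃ n : ℕ,
      x ^ (ringExpChar (q.comap (algebraMap R S)).ResidueField) ^ n ∈
        Set.range (Ideal.ResidueField.map (q.comap (algebraMap R S)) q (algebraMap R S) rfl)) ↔
    @IsPurelyInseparable (q.comap (algebraMap R S)).ResidueField q.ResidueField _ _
      (Ideal.ResidueField.map (q.comap (algebraMap R S)) q (algebraMap R S) rfl).toAlgebra := by
  let := (Ideal.ResidueField.map (q.comap (algebraMap R S)) q (algebraMap R S) rfl).toAlgebra
  rw [isPurelyInseparable_iff_pow_mem (q.comap (algebraMap R S)).ResidueField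
    (ringExpChar (q.comap (algebraMap R S)).ResidueField)]
  rfl

theorem eq_of_ker_eq (q : Ideal S) [q.IsPrime]
    (hq : @IsPurelyInseparable (q.comap (algebraMap R S)).ResidueField q.ResidueField _ _
      (Ideal.ResidueField.map (q.comap (algebraMap R S)) q (algebraMap R S) rfl).toAlgebra)
    (K : Type u) [Field K] (f g : S →+* K) (hf : RingHom.ker f = q) (hg : RingHom.ker g = q)
    (hfg : f.comp (algebraMap R S) = g.comp (algebraMap R S)) : f = g := by
  let := (Ideal.ResidueField.map (q.comap (algebraMap R S)) q (algebraMap R S) rfl).toAlgebra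
  have hunit : ∀ (h : S →+* K), RingHom.ker h = q →
      q.primeCompl ≤ (IsUnit.submonoid K).comap h := by
    intro h hh s hs
    rw [Submonoid.mem_comap, IsUnit.mem_submonoid_iff, isUnit_iff_ne_zero]
    intro h0
    exact hs (hh ▸ (RingHom.mem_ker.mpr h0))
  let fb : q.ResidueField →+* K := Ideal.ResidueField.lift q f hf.ge (hunit f hf)
  let gb : q.ResidueField →+* K := Ideal.ResidueField.lift q g hg.ge (hunit g hg)
  have hfb : ∀ s, fb (algebraMap S q.ResidueField s) = f s :=
    Ideal.ResidueField.lift_algebraMap q f hf.ge (hunit f hf)
  have hgb : ∀ s, gb (algebraMap S q.ResidueField s) = g s :=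
    Ideal.ResidueField.lift_algebraMap q g hg.ge (hunit g hg)
  have hcomp : fb.comp (algebraMap (q.comap (algebraMap R S)).ResidueField q.ResidueField) =
      gb.comp (algebraMap (q.comap (algebraMap R S)).ResidueField q.ResidueField) := by
    apply Ideal.ResidueField.ringHom_ext
    ext r
    simp only [RingHom.comp_apply]
    have e : algebraMap (q.comap (algebraMap R S)).ResidueField q.ResidueField
        (algebraMap R (q.comap (algebraMap R S)).ResidueField r) =
        algebraMap S q.ResidueField (algebraMap R S r) :=
      Ideal.ResidueField.map_algebraMap _ q (algebraMap R S) rfl r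
    rw [e, hfb, hgb]
    exact congrArg (fun h => h r) hfg
  have hb : fb = gb :=
    IsPurelyInseparable.injective_comp_algebraMap (q.comap (algebraMap R S)).ResidueField
      q.ResidueField K hcomp
  ext s
  rw [← hfb, ← hgb, hb]

theorem rad_of_inj_pi
    (hinj : Function.Injective (PrimeSpectrum.comap (algebraMap R S)))
    (hpi : ∀ (q : Ideal S) [q.IsPrime] (x : q.ResidueField), ∃ n : ℕ,
      x ^ (ringExpChar (q.comap (algebraMap R S)).ResidueField) ^ n ∈
        Set.range (Ideal.ResidueField.map (q.comap (algebraMap R S)) q (algebraMap R S) rfl)) :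
    Rad R S := by
  intro K _ f g hfg
  have hkf : (RingHom.ker f).IsPrime := RingHom.ker_isPrime f
  have hkg : (RingHom.ker g).IsPrime := RingHom.ker_isPrime g
  have hker : RingHom.ker g = RingHom.ker f := by
    have h1 : PrimeSpectrum.comap (algebraMap R S) ⟨RingHom.ker g, hkg⟩ =
        PrimeSpectrum.comap (algebraMap R S) ⟨RingHom.ker f, hkf⟩ := by
      apply PrimeSpectrum.ext
      show (RingHom.ker g).comap (algebraMap R S) = (RingHom.ker f).comap (algebraMap R S)
      rw [RingHom.comap_ker, RingHom.comap_ker, hfg]
    exact congrArg PrimeSpectrum.asIdeal (hinj h1)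
  exact eq_of_ker_eq (RingHom.ker f) ((pi_iff (RingHom.ker f)).mp (hpi (RingHom.ker f)))
    K f g rfl hker hfg

theorem pi_of_rad (h : Rad R S) (q : Ideal S) [q.IsPrime] :
    @IsPurelyInseparable (q.comap (algebraMap R S)).ResidueField q.ResidueField _ _
      (Ideal.ResidueField.map (q.comap (algebraMap R S)) q (algebraMap R S) rfl).toAlgebra := by
  let := (Ideal.ResidueField.map (q.comap (algebraMap R S)) q (algebraMap R S) rfl).toAlgebra
  have : Nonempty (q.ResidueField →+* AlgebraicClosure q.ResidueField) :=
    ⟨algebraMap q.ResidueField (AlgebraicClosure q.ResidueField)⟩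
  apply IsPurelyInseparable.of_injective_comp_algebraMap _ _ (AlgebraicClosure q.ResidueField)
  intro f g hfg
  have hFG : f.comp (algebraMap S q.ResidueField) = g.comp (algebraMap S q.ResidueField) := by
    apply h
    ext r
    simp only [RingHom.comp_apply]
    have e : algebraMap (q.comap (algebraMap R S)).ResidueField q.ResidueField
        (algebraMap R (q.comap (algebraMap R S)).ResidueField r) =
        algebraMap S q.ResidueField (algebraMap R S r) :=
      Ideal.ResidueField.map_algebraMap _ q (algebraMap R S) rfl r
    rw [← e]
    exact congrArg (fun h => h (algebraMap R _ r)) hfg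
  exact Ideal.ResidueField.ringHom_ext hFG

theorem inj_of_rad (h : Rad R S) (p : Ideal R) [p.IsPrime] (q q' : Ideal S) [q.IsPrime]
    [q'.IsPrime] (hq : p = q.comap (algebraMap R S)) (hq' : p = q'.comap (algebraMap R S)) :
    q = q' := by
  let a1 : Algebra p.ResidueField q.ResidueField :=
    (Ideal.ResidueField.map p q (algebraMap R S) hq).toAlgebra
  let a2 : Algebra p.ResidueField q'.ResidueField :=
    (Ideal.ResidueField.map p q' (algebraMap R S) hq').toAlgebra
  let T := TensorProduct p.ResidueField q.ResidueField q'.ResidueField
  obtain ⟨m, hm⟩ := Ideal.exists_maximal T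
  let : Field (T ⧸ m) := Ideal.Quotient.field m
  let F : S →+* T ⧸ m := ((Ideal.Quotient.mk m).comp
    (Algebra.TensorProduct.includeLeft (R := p.ResidueField) (S := p.ResidueField)
      (A := q.ResidueField) (B := q'.ResidueField)).toRingHom).comp (algebraMap S q.ResidueField)
  let G : S →+* T ⧸ m := ((Ideal.Quotient.mk m).comp
    (Algebra.TensorProduct.includeRight (R := p.ResidueField)
      (A := q.ResidueField) (B := q'.ResidueField)).toRingHom).comp (algebraMap S q'.ResidueField)
  have hFG : F = G := by
    apply h
    ext r
    simp only [F, G, RingHom.comp_apply]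
    congr 1
    have e1 : algebraMap S q.ResidueField (algebraMap R S r) =
        algebraMap p.ResidueField q.ResidueField (algebraMap R p.ResidueField r) :=
      (Ideal.ResidueField.map_algebraMap p q (algebraMap R S) hq r).symm
    have e2 : algebraMap S q'.ResidueField (algebraMap R S r) =
        algebraMap p.ResidueField q'.ResidueField (algebraMap R p.ResidueField r) :=
      (Ideal.ResidueField.map_algebraMap p q' (algebraMap R S) hq' r).symm
    rw [e1, e2]
    simp only [AlgHom.toRingHom_eq_coe, RingHom.coe_coe, AlgHom.commutes]
  have hkF : RingHom.ker F = q := by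
    ext s
    rw [RingHom.mem_ker]
    show ((Ideal.Quotient.mk m).comp
      (Algebra.TensorProduct.includeLeft (R := p.ResidueField) (S := p.ResidueField)
        (A := q.ResidueField) (B := q'.ResidueField)).toRingHom) (algebraMap S q.ResidueField s)
          = 0 ↔ s ∈ q
    rw [map_eq_zero_iff _ (RingHom.injective _), Ideal.algebraMap_residueField_eq_zero]
  have hkG : RingHom.ker G = q' := by
    ext s
    rw [RingHom.mem_ker]
    show ((Ideal.Quotient.mk m).comp
      (Algebra.TensorProduct.includeRight (R := p.ResidueField)
        (A := q.ResidueField) (B := q'.ResidueField)).toRingHom) (algebraMap S q'.ResidueField s)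
          = 0 ↔ s ∈ q'
    rw [map_eq_zero_iff _ (RingHom.injective _), Ideal.algebraMap_residueField_eq_zero]
  calc q = RingHom.ker F := hkF.symm
    _ = RingHom.ker G := by rw [hFG]
    _ = q' := hkG

end helpers

section baseChange
open TensorProduct
variable {R S R' : Type u} [CommRing R] [CommRing S] [CommRing R'] [Algebra R S] [Algebra R R']

theorem rad_baseChange (h : Rad R S) : Rad R' (R' ⊗[R] S) := by
  intro K _ f g hfg
  have hS : f.comp (Algebra.TensorProduct.includeRight (R := R) (A := R') (B := S)).toRingHom =
      g.comp (Algebra.TensorProduct.includeRight (R := R) (A := R') (B := S)).toRingHom := by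
    apply h
    ext r
    simp only [RingHom.comp_apply, AlgHom.toRingHom_eq_coe, RingHom.coe_coe, AlgHom.commutes]
    have e : algebraMap R (R' ⊗[R] S) r = algebraMap R' (R' ⊗[R] S) (algebraMap R R' r) := by
      rw [← IsScalarTower.algebraMap_apply]
    rw [e]
    exact congrArg (fun h => h (algebraMap R R' r)) hfg
  apply RingHom.ext
  intro z
  induction z using TensorProduct.induction_on with
  | zero => simp
  | tmul a s =>
    have e : a ⊗ₜ[R] s = algebraMap R' (R' ⊗[R] S) a *
        (Algebra.TensorProduct.includeRight (R := R) (A := R') (B := S)) s := by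
      simp [Algebra.TensorProduct.algebraMap_apply]
    rw [e, map_mul, map_mul]
    congr 1
    · exact congrArg (fun h => h a) hfg
    · exact congrArg (fun h => h s) hS
  | add x y hx hy => rw [map_add, map_add, hx, hy]

end baseChange

open TensorProduct in
/-- Let R → S be a ring map which is injective on spectra and whose residue field extensions κ(p) → κ(q)
(q a prime of S with inverse image p) are purely inseparable: every element of κ(q) has a power with
exponent a power of the characteristic exponent lying in the image of κ(p). Then, given an arbitrary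
R-algebra R', the induced map R' → R' ⊗_R S is likewise injective on spectra and has purely
inseparable residue field extensions. -/
theorem result {R S R' : Type u} [CommRing R] [CommRing S] [CommRing R'] [Algebra R S] [Algebra R R']
    (hinj : Function.Injective (PrimeSpectrum.comap (algebraMap R S)))
    (hpi : ∀ (q : Ideal S) [q.IsPrime] (x : q.ResidueField), ∃ n : ℕ, x ^ (ringExpChar (q.comap (algebraMap R S)).ResidueField) ^ n ∈ Set.range (Ideal.ResidueField.map (q.comap (algebraMap R S)) q (algebraMap R S) rfl)) :
    Function.Injective (PrimeSpectrum.comap (algebraMap R' (R' ⊗[R] S))) ∧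
      ∀ (q' : Ideal (R' ⊗[R] S)) [q'.IsPrime] (x : q'.ResidueField), ∃ n : ℕ, x ^ (ringExpChar (q'.comap (algebraMap R' (R' ⊗[R] S))).ResidueField) ^ n ∈ Set.range (Ideal.ResidueField.map (q'.comap (algebraMap R' (R' ⊗[R] S))) q' (algebraMap R' (R' ⊗[R] S)) rfl) := by
  have hrad : Rad R S := rad_of_inj_pi hinj hpi
  have hrad' : Rad R' (R' ⊗[R] S) := rad_baseChange hrad
  refine ⟨?_, fun q' _ => (pi_iff q').mpr (pi_of_rad hrad' q')⟩
  intro q q' hqq'
  have h1 : q.asIdeal.comap (algebraMap R' (R' ⊗[R] S)) =
      q'.asIdeal.comap (algebraMap R' (R' ⊗[R] S)) := congrArg PrimeSpectrum.asIdeal hqq'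
  have : (q.asIdeal.comap (algebraMap R' (R' ⊗[R] S))).IsPrime := Ideal.comap_isPrime _ _
  exact PrimeSpectrum.ext (inj_of_rad hrad' (q.asIdeal.comap (algebraMap R' (R' ⊗[R] S)))
    q.asIdeal q'.asIdeal rfl h1)

end Groth.Agent.S9609
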