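import Mathlib
import Groth.Statements.S9610
-- import your own Groth.Agent.* helpers here

set_option autoImplicit false
universe u
open CAlg

namespace Groth.Agent.S9610

/-- Let k be a field and V a nonzero k-vector space with dim_k V < #k as cardinals. Then every k-linear
endomorphism T of V admits a monic polynomial P over k for which P(T) is not invertible. -/
theorem result {k V : Type u} [Field k] [AddCommGroup V] [Module k V] [Nontrivial V] (hV : Module.rank k V < Cardinal.mk k) (T : Module.End k V) :
    ∃ P : Polynomial k, P.Monic ∧ ¬ IsUnit (Polynomial.aeval T P) := by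
  classical
  by_contra! h
  obtain ⟨v, hv⟩ := exists_ne (0 : V)
  have hu : ∀ P : Polynomial k, P ≠ 0 → IsUnit (Polynomial.aeval T P) := by
    intro P hP
    have hl : P.leadingCoeff ≠ 0 := Polynomial.leadingCoeff_ne_zero.mpr hP
    have : P = Polynomial.C P.leadingCoeff * (P * Polynomial.C P.leadingCoeff⁻¹) := by
      rw [mul_comm P, ← mul_assoc, ← Polynomial.C_mul, mul_inv_cancel₀ hl]; simp
    rw [this, map_mul]
    refine IsUnit.mul ?_ (h _ (Polynomial.monic_mul_leadingCoeff_inv hP))
    rw [Polynomial.aeval_C]
    exact (IsUnit.mk0 _ hl).map (algebraMap k (Module.End k V))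
  have hua : ∀ a : k, IsUnit (Polynomial.aeval T (Polynomial.X - Polynomial.C a)) :=
    fun a => hu _ (Polynomial.X_sub_C_ne_zero a)
  choose S hS using fun a => (hua a).exists_right_inv
  have hli : LinearIndependent k (fun a : k => S a v) := by
    refine linearIndependent_iff'.2 fun s m hm i hi => ?_
    let p : Polynomial k :=
      ∑ i ∈ s, Polynomial.C (m i) * ∏ j ∈ s.erase i, (Polynomial.X - Polynomial.C j)
    have hp0 : Polynomial.aeval T p v = 0 := by
      have := congrArg (Polynomial.aeval T (∏ j ∈ s, (Polynomial.X - Polynomial.C j))) hm
      rw [map_zero, map_sum] at this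
      rw [← this]
      simp only [p, map_sum, LinearMap.sum_apply]
      refine Finset.sum_congr rfl fun i hi => ?_
      rw [map_smul, ← Finset.prod_erase_mul _ _ hi, map_mul, map_mul, Polynomial.aeval_C,
        Module.End.mul_apply, Module.End.mul_apply, ← Module.End.mul_apply _ (S i), hS i,
        Module.End.one_apply, Module.algebraMap_end_apply]
    have hp : p = 0 := by
      by_contra hp
      have hunit := hu p hp
      have hinj : Function.Injective (Polynomial.aeval T p) :=
        ((Module.End.isUnit_iff _).mp hunit).injective
      exact hv (hinj (by rw [hp0, map_zero]))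
    have hev := congrArg (Polynomial.eval i) hp
    simp only [p, Polynomial.eval_finsetSum, Polynomial.eval_mul, Polynomial.eval_C,
      Polynomial.eval_prod, Polynomial.eval_sub, Polynomial.eval_X, Polynomial.eval_zero] at hev
    rw [Finset.sum_eq_single i] at hev
    · rcases mul_eq_zero.mp hev with h0 | h0
      · exact h0
      · exfalso
        rw [Finset.prod_eq_zero_iff] at h0
        obtain ⟨j, hj, hj0⟩ := h0
        exact (Finset.ne_of_mem_erase hj) (sub_eq_zero.mp hj0).symm
    · intro j hj hji
      rw [Finset.prod_eq_zero (Finset.mem_erase.mpr ⟨Ne.symm hji, hi⟩) (sub_self i), mul_zero]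
    · intro hi'
      exact absurd hi hi'
  have := hli.cardinal_le_rank
  exact absurd hV (not_lt.mpr this)

end Groth.Agent.S9610
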