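import Mathlib
import Groth.Statements.S9611
-- import your own Groth.Agent.* helpers here

set_option autoImplicit false
universe u
open CAlg

namespace Groth.Agent.S9611

/-- Let R be a Jacobson ring, p a prime ideal of R which is not maximal, and f an element of R not in p.
Then the set of primes of R containing p and not containing f is infinite. -/
theorem result {R : Type u} [CommRing R] [IsJacobsonRing R] (p : Ideal R) [p.IsPrime] (hp : ¬ p.IsMaximal) (f : R) (hf : f ∉ p) :
    {q : PrimeSpectrum R | p ≤ q.asIdeal ∧ f ∉ q.asIdeal}.Infinite := by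
  classical
  intro hfin
  have hjac : p.jacobson = p := (isJacobsonRing_iff_prime_eq.mp ‹_›) p ‹_›
  set Q := hfin.toFinset with hQ
  have hex : ∀ q : PrimeSpectrum R, ∃ g : R, g ∉ p ∧
      (q.asIdeal.IsMaximal → p ≤ q.asIdeal → g ∈ q.asIdeal) := by
    intro q
    by_cases hq : q.asIdeal.IsMaximal ∧ p ≤ q.asIdeal
    · have : ¬ q.asIdeal ≤ p := fun h => hp (by rw [le_antisymm hq.2 h]; exact hq.1)
      obtain ⟨g, hgq, hgp⟩ := SetLike.not_le_iff_exists.mp this
      exact ⟨g, hgp, fun _ _ => hgq⟩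
    · exact ⟨1, (Ideal.ne_top_iff_one p).mp (Ideal.IsPrime.ne_top ‹_›),
        fun h1 h2 => absurd ⟨h1, h2⟩ hq⟩
  choose g hgp hgq using hex
  have hmem : f * ∏ q ∈ Q, g q ∈ p.jacobson := by
    rw [Ideal.jacobson, Ideal.mem_sInf]
    rintro m ⟨hpm, hm⟩
    by_cases hfm : f ∈ m
    · exact Ideal.mul_mem_right _ _ hfm
    · have hmQ : (⟨m, hm.isPrime⟩ : PrimeSpectrum R) ∈ Q := by
        rw [hQ, Set.Finite.mem_toFinset]
        exact ⟨hpm, hfm⟩
      apply Ideal.mul_mem_left
      exact Ideal.mem_of_dvd _ (Finset.dvd_prod_of_mem g hmQ) (hgq ⟨m, hm.isPrime⟩ hm hpm)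
  rw [hjac] at hmem
  rcases Ideal.IsPrime.mem_or_mem ‹_› hmem with h | h
  · exact hf h
  · obtain ⟨q, _, hq⟩ := (Ideal.IsPrime.prod_mem_iff).mp h
    exact hgp q hq

end Groth.Agent.S9611
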