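import Mathlib
import Groth.Statements.S9613
-- import your own Groth.Agent.* helpers here

set_option autoImplicit false
universe u
open CAlg

namespace Groth.Agent.S9613

/-- Let R → K be an injective ring map into a field K which makes K an R-algebra of finite type. Then
for some nonzero f ∈ R the localization R_f is a field over which K is finite; here R_f is realised
as the R-subalgebra of K that is a localization of R away from f. -/
theorem result {R K : Type u} [CommRing R] [Field K] [Algebra R K] (hinj : Function.Injective (algebraMap R K)) [Algebra.FiniteType R K] :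
    ∃ f : R, f ≠ 0 ∧ ∃ Rf : Subalgebra R K, IsLocalization.Away f Rf ∧ IsField Rf ∧ Module.Finite Rf K := by
  classical
  have : IsDomain R := hinj.isDomain (algebraMap R K)
  let : Algebra (FractionRing R) K := (IsFractionRing.lift hinj).toAlgebra
  have : IsScalarTower R (FractionRing R) K :=
    IsScalarTower.of_algebraMap_eq (fun x => (IsFractionRing.lift_algebraMap hinj x).symm)
  have : Algebra.FiniteType (FractionRing R) K :=
    Algebra.FiniteType.of_restrictScalars_finiteType R (FractionRing R) K
  have : Module.Finite (FractionRing R) K :=
    finite_of_finite_type_of_isJacobsonRing (FractionRing R) K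
  have : Algebra.IsAlgebraic (FractionRing R) K := Algebra.IsAlgebraic.of_finite (FractionRing R) K
  have : Algebra.IsAlgebraic R K :=
    (IsFractionRing.comap_isAlgebraic_iff (A := R) (K := FractionRing R) (C := K)).mpr ‹_›
  obtain ⟨s, hs⟩ := (Algebra.FiniteType.out : (⊤ : Subalgebra R K).FG)
  obtain ⟨y, hy0, hy⟩ := Algebra.IsAlgebraic.exists_integral_multiples R s
  refine ⟨y, hy0, ?_⟩
  have hyK : algebraMap R K y ≠ 0 := (map_ne_zero_iff _ hinj).mpr hy0
  have hyu : IsUnit (Algebra.ofId R K y) := isUnit_iff_ne_zero.mpr hyK
  let φ : Localization.Away y →ₐ[R] K :=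
    IsLocalization.Away.liftAlgHom (A := R) (S := Localization.Away y) y (f := Algebra.ofId R K) hyu
  have hφinj : Function.Injective φ := by
    rw [injective_iff_map_eq_zero]
    intro z hz
    obtain ⟨a, t, rfl⟩ := IsLocalization.exists_mk'_eq (Submonoid.powers y) z
    have h1 := congrArg φ (IsLocalization.mk'_spec (Localization.Away y) a t)
    rw [map_mul, hz, zero_mul, AlgHom.commutes] at h1
    have ha : a = 0 := hinj (by rw [← h1, map_zero])
    rw [ha, IsLocalization.mk'_zero]
  let e : Localization.Away y ≃ₐ[R] φ.range := AlgEquiv.ofInjective φ hφinj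
  have hloc : IsLocalization.Away y φ.range :=
    IsLocalization.isLocalization_of_algEquiv (Submonoid.powers y) e
  let w : φ.range := ⟨φ (IsLocalization.Away.invSelf y), AlgHom.mem_range_self φ _⟩
  have hw : (w : K) * algebraMap R K y = 1 := by
    show φ (IsLocalization.Away.invSelf y) * algebraMap R K y = 1
    rw [← AlgHom.commutes φ y, ← map_mul, mul_comm, IsLocalization.Away.mul_invSelf, map_one]
  have hint : Algebra.IsIntegral φ.range K := by
    constructor
    have hle : Algebra.adjoin R (s : Set K) ≤ (integralClosure φ.range K).restrictScalars R := by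
      rw [Algebra.adjoin_le_iff]
      intro z hz
      have h1 : IsIntegral φ.range (y • z) := (hy z hz).tower_top
      have h2 : z = w • (y • z) := by
        rw [Subalgebra.smul_def, smul_eq_mul, Algebra.smul_def, ← mul_assoc, hw, one_mul]
      show IsIntegral φ.range z
      rw [h2]
      exact h1.smul w
    intro z
    have : z ∈ Algebra.adjoin R (s : Set K) := by rw [hs]; exact Algebra.mem_top
    exact hle this
  refine ⟨φ.range, hloc, ?_, ?_⟩
  · exact isField_of_isIntegral_of_isField (R := φ.range) (S := K) Subtype.val_injective
      (Field.toIsField K)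
  · have : Algebra.FiniteType φ.range K :=
      Algebra.FiniteType.of_restrictScalars_finiteType R φ.range K
    exact Algebra.IsIntegral.finite

end Groth.Agent.S9613
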