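import Mathlib
import Groth.Statements.S9614
-- import your own Groth.Agent.* helpers here

set_option autoImplicit false
universe u
open CAlg

namespace Groth.Agent.S9614

section helpers
variable {R S : Type u} [CommRing R] [CommRing S] [Algebra R S] (𝒜 : ℕ → Submodule R S)
  [GradedAlgebra 𝒜]
  (M : Type u) [AddCommGroup M] [Module R M] [Module S M] [IsScalarTower R S M]
  (ℳ : ℕ → Submodule R M) [DirectSum.Decomposition ℳ] [SetLike.GradedSMul 𝒜 ℳ]

theorem decompose_smul_mem (N : Submodule S M) (d : ℕ) (s : S) (m : M)
    (h : ∀ e f, e + f = d →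
      ((DirectSum.decompose 𝒜 s e : S) • (DirectSum.decompose ℳ m f : M)) ∈ N) :
    (DirectSum.decompose ℳ (s • m) d : M) ∈ N := by
  classical
  have hsm : s • m = ∑ e ∈ (DirectSum.decompose 𝒜 s).support,
      ∑ f ∈ (DirectSum.decompose ℳ m).support,
        (DirectSum.decompose 𝒜 s e : S) • (DirectSum.decompose ℳ m f : M) := by
    conv_lhs => rw [← DirectSum.sum_support_decompose 𝒜 s, ← DirectSum.sum_support_decompose ℳ m]
    rw [Finset.sum_smul]
    simp_rw [Finset.smul_sum]
  rw [hsm, DirectSum.decompose_sum, DirectSum.sum_apply, AddSubmonoidClass.coe_finsetSum]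
  refine Submodule.sum_mem _ fun e _ => ?_
  rw [DirectSum.decompose_sum, DirectSum.sum_apply, AddSubmonoidClass.coe_finsetSum]
  refine Submodule.sum_mem _ fun f _ => ?_
  have hmem : (DirectSum.decompose 𝒜 s e : S) • (DirectSum.decompose ℳ m f : M) ∈ ℳ (e + f) :=
    SetLike.GradedSMul.smul_mem (A := 𝒜) (B := ℳ) (SetLike.coe_mem _) (SetLike.coe_mem _)
  by_cases hd : e + f = d
  · subst hd
    rw [DirectSum.decompose_of_mem_same ℳ hmem]
    exact h e f rfl
  · rw [DirectSum.decompose_of_mem_ne ℳ hmem hd]
    exact zero_mem _

end helpers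

/-- Let S be an ℕ-graded ring and M a finitely generated graded S-module, graded in nonnegative degrees
(the source allows all integer degrees). If x_1, …, x_n are homogeneous elements of M which generate
M modulo S₊ M (S₊ the irrelevant ideal), then x_1, …, x_n generate M. -/
theorem result {R S : Type u} [CommRing R] [CommRing S] [Algebra R S] (𝒜 : ℕ → Submodule R S) [GradedAlgebra 𝒜]
    (M : Type u) [AddCommGroup M] [Module R M] [Module S M] [IsScalarTower R S M] [Module.Finite S M] (ℳ : ℕ → Submodule R M) [DirectSum.Decomposition ℳ] [SetLike.GradedSMul 𝒜 ℳ]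
    {n : ℕ} (x : Fin n → M) (hx : ∀ i, SetLike.IsHomogeneousElem ℳ (x i))
    (h : Submodule.span S (Set.range x) ⊔ (HomogeneousIdeal.irrelevant 𝒜).toIdeal • (⊤ : Submodule S M) = ⊤) :
    Submodule.span S (Set.range x) = ⊤ := by
  classical
  set N := Submodule.span S (Set.range x) with hN
  -- Claim A: N is homogeneous
  have hA : ∀ n ∈ N, ∀ d, (DirectSum.decompose ℳ n d : M) ∈ N := by
    intro n hn
    induction hn using Submodule.span_induction with
    | mem y hy =>
      obtain ⟨i, rfl⟩ := hy
      obtain ⟨e, he⟩ := hx i
      intro d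
      by_cases hd : e = d
      · subst hd
        rw [DirectSum.decompose_of_mem_same ℳ he]
        exact Submodule.subset_span ⟨i, rfl⟩
      · rw [DirectSum.decompose_of_mem_ne ℳ he hd]
        exact zero_mem _
    | zero => intro d; rw [DirectSum.decompose_zero]; exact zero_mem _
    | add y z _ _ hy hz =>
      intro d
      rw [DirectSum.decompose_add, DirectSum.add_apply, Submodule.coe_add]
      exact add_mem (hy d) (hz d)
    | smul s y _ hy =>
      intro d
      exact decompose_smul_mem 𝒜 M ℳ N d s y (fun e f _ => Submodule.smul_mem _ _ (hy f))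
  -- Claim B: every homogeneous element lies in N
  have hB : ∀ d, ∀ m ∈ ℳ d, m ∈ N := by
    intro d
    induction d using Nat.strong_induction_on with
    | _ d ih =>
      intro m hm
      have hmtop : m ∈ N ⊔ (HomogeneousIdeal.irrelevant 𝒜).toIdeal • (⊤ : Submodule S M) := by
        rw [h]; trivial
      obtain ⟨n, hn, z, hz, rfl⟩ := Submodule.mem_sup.mp hmtop
      rw [← DirectSum.decompose_of_mem_same ℳ hm, DirectSum.decompose_add, DirectSum.add_apply,
        Submodule.coe_add]
      refine add_mem (hA n hn d) ?_
      clear hm hmtop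
      refine Submodule.smul_induction_on hz ?_ ?_
      · intro a ha m' _
        refine decompose_smul_mem 𝒜 M ℳ N d a m' (fun e f hef => ?_)
        rcases Nat.eq_zero_or_pos e with he | he
        · subst he
          have : (DirectSum.decompose 𝒜 a 0 : S) = 0 := by
            have := (HomogeneousIdeal.mem_irrelevant_iff 𝒜 a).mp (HomogeneousIdeal.mem_iff.mp ha)
            rwa [GradedRing.proj_apply] at this
          rw [this, zero_smul]
          exact zero_mem _
        · exact Submodule.smul_mem _ _ (ih f (by omega) _ (SetLike.coe_mem _))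
      · intro y z hy hz
        rw [DirectSum.decompose_add, DirectSum.add_apply, Submodule.coe_add]
        exact add_mem hy hz
  rw [eq_top_iff]
  intro m _
  rw [← DirectSum.sum_support_decompose ℳ m]
  exact Submodule.sum_mem _ fun d _ => hB d _ (SetLike.coe_mem _)

end Groth.Agent.S9614
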