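import Mathlib
import Groth.Statements.S9615
-- import your own Groth.Agent.* helpers here

set_option autoImplicit false
universe u
open CAlg

namespace Groth.Agent.S9615

section helpers
open Polynomial DirectSum

variable {S : Type u} [CommRing S] (𝒮 : ℕ → AddSubgroup S) [GradedRing 𝒮]

/-- The additive maps `Sᵢ → S[X]`, `s ↦ s Xⁱ`. -/
noncomputable def psiF (i : ℕ) : 𝒮 i →+ S[X] :=
  ((Polynomial.monomial i : S →ₗ[S] S[X]).toAddMonoidHom).comp (𝒮 i).subtype

theorem psiF_apply (i : ℕ) (x : 𝒮 i) : psiF 𝒮 i x = Polynomial.monomial i (x : S) := rfl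

theorem psiF_one : psiF 𝒮 0 (GradedMonoid.GOne.one (A := fun i => 𝒮 i)) = 1 := by
  rw [psiF_apply, SetLike.coe_gOne]
  rfl

theorem psiF_mul {i j : ℕ} (ai : 𝒮 i) (aj : 𝒮 j) :
    psiF 𝒮 (i + j) (GradedMonoid.GMul.mul (A := fun i => 𝒮 i) ai aj) =
      psiF 𝒮 i ai * psiF 𝒮 j aj := by
  rw [psiF_apply, psiF_apply, psiF_apply, SetLike.coe_gMul, Polynomial.monomial_mul_monomial]

/-- The ring map `S → S[X]`, `s = ∑ sᵢ ↦ ∑ sᵢ Xⁱ` attached to an `ℕ`-grading. -/
noncomputable def psi : S →+* S[X] :=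
  (DirectSum.toSemiring (A := fun i => 𝒮 i) (psiF 𝒮) (psiF_one 𝒮) (psiF_mul 𝒮)).comp
    (DirectSum.decomposeRingEquiv 𝒮).toRingHom

theorem psi_of_mem {i : ℕ} {s : S} (hs : s ∈ 𝒮 i) : psi 𝒮 s = Polynomial.monomial i s := by
  unfold psi
  simp only [RingHom.comp_apply, RingEquiv.toRingHom_eq_coe, RingHom.coe_coe]
  have : (DirectSum.decomposeRingEquiv 𝒮) s = DirectSum.of (fun i => 𝒮 i) i ⟨s, hs⟩ :=
    DirectSum.decompose_of_mem 𝒮 hs
  rw [this, DirectSum.toSemiring_of]
  rfl

theorem psi_coeff (s : S) (n : ℕ) : (psi 𝒮 s).coeff n = (DirectSum.decompose 𝒮 s n : S) := by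
  induction s using DirectSum.Decomposition.inductionOn 𝒮 with
  | zero => simp
  | homogeneous m =>
    rename_i i
    rw [psi_of_mem 𝒮 m.2, Polynomial.coeff_monomial]
    by_cases h : i = n
    · subst h
      rw [if_pos rfl, DirectSum.decompose_of_mem_same 𝒮 m.2]
    · rw [if_neg h, DirectSum.decompose_of_mem_ne 𝒮 m.2 h]
  | add a b ha hb =>
    rw [map_add, Polynomial.coeff_add, ha, hb, DirectSum.decompose_add, DirectSum.add_apply,
      AddSubgroup.coe_add]

end helpers

section compat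
open Polynomial

variable {R S : Type u} [CommRing R] [CommRing S] [Algebra R S] (ℛ : ℕ → AddSubgroup R)
  [GradedRing ℛ] (𝒮 : ℕ → AddSubgroup S) [GradedRing 𝒮]

theorem psi_compat (hmap : ∀ i : ℕ, ∀ r ∈ ℛ i, algebraMap R S r ∈ 𝒮 i) (r : R) :
    psi 𝒮 (algebraMap R S r) = (psi ℛ r).map (algebraMap R S) := by
  induction r using DirectSum.Decomposition.inductionOn ℛ with
  | zero => simp
  | homogeneous m =>
    rename_i i
    rw [psi_of_mem ℛ m.2, psi_of_mem 𝒮 (hmap i _ m.2), Polynomial.map_monomial]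
  | add a b ha hb =>
    rw [map_add, map_add, ha, hb, map_add (psi ℛ), Polynomial.map_add]

end compat

/-- Let R → S be a homomorphism of ℕ-graded rings, i.e. the structure map carries each graded piece R_i
into S_i. If an element s of S is integral over R, then each homogeneous component of s is integral
over R; so the integral closure of R in S is a graded subring of S. -/
theorem result {R S : Type u} [CommRing R] [CommRing S] [Algebra R S] (ℛ : ℕ → AddSubgroup R) [GradedRing ℛ] (𝒮 : ℕ → AddSubgroup S) [GradedRing 𝒮]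
    (hmap : ∀ i : ℕ, ∀ r ∈ ℛ i, algebraMap R S r ∈ 𝒮 i) (s : S) (hs : IsIntegral R s) (i : ℕ) :
    IsIntegral R ((DirectSum.decompose 𝒮 s i : 𝒮 i) : S) := by
  let := Polynomial.algebra R S
  have h1 : IsIntegral (Polynomial R) (psi 𝒮 s) := by
    refine IsIntegral.map_of_comp_eq (psi ℛ) (psi 𝒮) ?_ hs
    ext r : 1
    simp only [RingHom.comp_apply]
    rw [psi_compat ℛ 𝒮 hmap r]
    rfl
  have h2 := (Polynomial.isIntegral_iff_isIntegral_coeff.mp h1) i
  rwa [psi_coeff] at h2

end Groth.Agent.S9615
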