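import Mathlib
import Groth.Statements.S9616
-- import your own Groth.Agent.* helpers here

set_option autoImplicit false
universe u
open CAlg

namespace Groth.Agent.S9616

section helpers
variable {R S : Type u} [CommRing R] [CommRing S] [Algebra R S] (𝒜 : ℕ → Submodule R S)
  [GradedAlgebra 𝒜]

theorem exists_homogeneous_mem_not_mem (J q : HomogeneousIdeal 𝒜) (h : ¬ J ≤ q) :
    ∃ d : ℕ, ∃ y ∈ 𝒜 d, y ∈ J ∧ y ∉ q := by
  classical
  obtain ⟨z, hzJ, hzq⟩ := SetLike.not_le_iff_exists.mp h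
  by_contra! hcon
  apply hzq
  rw [← DirectSum.sum_support_decompose 𝒜 z]
  rw [← HomogeneousIdeal.mem_iff]
  refine Ideal.sum_mem _ fun d _ => ?_
  exact hcon d _ (SetLike.coe_mem _) (J.isHomogeneous d hzJ)

theorem avoid_finset (I : HomogeneousIdeal 𝒜) (hI : I ≤ HomogeneousIdeal.irrelevant 𝒜) :
    ∀ (n : ℕ) (s : Finset (HomogeneousIdeal 𝒜)), s.card = n → (∀ p ∈ s, p.toIdeal.IsPrime) →
      (∀ p ∈ s, ¬ I ≤ p) →
      ∃ x : S, ∃ d : ℕ, 0 < d ∧ x ∈ 𝒜 d ∧ x ∈ I ∧ ∀ p ∈ s, x ∉ p := by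
  classical
  intro n
  induction n with
  | zero =>
    intro s hs _ _
    rw [Finset.card_eq_zero] at hs
    subst hs
    exact ⟨0, 1, Nat.one_pos, zero_mem _, zero_mem _, by simp⟩
  | succ n ih =>
    intro s hs hprime hnot
    have hne : s.Nonempty := by
      rw [← Finset.card_pos, hs]; exact Nat.succ_pos n
    obtain ⟨q, hqs, hqmin⟩ := s.exists_minimal hne
    have hcard : (s.erase q).card = n := by
      rw [Finset.card_erase_of_mem hqs, hs]; rfl
    obtain ⟨x, d, hd, hxd, hxI, hx⟩ := ih (s.erase q) hcard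
      (fun p hp => hprime p (Finset.mem_of_mem_erase hp))
      (fun p hp => hnot p (Finset.mem_of_mem_erase hp))
    by_cases hxq : x ∈ q
    swap
    · refine ⟨x, d, hd, hxd, hxI, fun p hp => ?_⟩
      by_cases hpq : p = q
      · rw [hpq]; exact hxq
      · exact hx p (Finset.mem_erase.mpr ⟨hpq, hp⟩)
    have hqprime := hprime q hqs
    -- element of I not in q
    obtain ⟨e₀, y₀, hy₀e, hy₀I, hy₀q⟩ := exists_homogeneous_mem_not_mem 𝒜 I q (hnot q hqs)
    have he₀ : 0 < e₀ := by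
      rcases Nat.eq_zero_or_pos e₀ with h0 | h0
      · exfalso
        subst h0
        have := hI hy₀I
        rw [HomogeneousIdeal.mem_irrelevant_iff,
          GradedRing.proj_apply, DirectSum.decompose_of_mem_same 𝒜 hy₀e] at this
        exact hy₀q (this ▸ zero_mem _)
      · exact h0
    -- for each p in s.erase q, element of p not in q
    have hex : ∀ p : HomogeneousIdeal 𝒜, ∃ e : ℕ, ∃ y ∈ 𝒜 e, (p ∈ s.erase q → y ∈ p) ∧ y ∉ q := by
      intro p
      by_cases hp : p ∈ s.erase q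
      · have hpq : ¬ p ≤ q := by
          intro hle
          have hp' := Finset.mem_erase.mp hp
          exact hp'.1 (le_antisymm hle (hqmin hp'.2 hle))
        obtain ⟨e, y, hye, hyp, hyq⟩ := exists_homogeneous_mem_not_mem 𝒜 p q hpq
        exact ⟨e, y, hye, fun _ => hyp, hyq⟩
      · refine ⟨0, 1, SetLike.GradedOne.one_mem, fun h => absurd h hp, ?_⟩
        intro h1
        exact hqprime.ne_top ((Ideal.eq_top_iff_one _).mpr (HomogeneousIdeal.mem_iff.mpr h1))
    choose e y hye hyp hyq using hex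
    set Y := y₀ * ∏ p ∈ s.erase q, y p with hY
    set E := e₀ + ∑ p ∈ s.erase q, e p with hE
    have hYE : Y ∈ 𝒜 E := by
      refine SetLike.GradedMul.mul_mem hy₀e ?_
      exact SetLike.prod_mem_graded 𝒜 e y (fun p _ => hye p)
    have hE0 : 0 < E := by omega
    have hYI : Y ∈ I := by
      rw [← HomogeneousIdeal.mem_iff]
      exact Ideal.mul_mem_right _ _ (HomogeneousIdeal.mem_iff.mpr hy₀I)
    have hYp : ∀ p ∈ s.erase q, Y ∈ p := by
      intro p hp
      rw [← HomogeneousIdeal.mem_iff]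
      apply Ideal.mul_mem_left
      exact Ideal.mem_of_dvd _ (Finset.dvd_prod_of_mem y hp) (HomogeneousIdeal.mem_iff.mpr (hyp p hp))
    have hYq : Y ∉ q := by
      rw [← HomogeneousIdeal.mem_iff]
      intro h
      rcases hqprime.mem_or_mem h with h | h
      · exact hy₀q (HomogeneousIdeal.mem_iff.mp h)
      · obtain ⟨p, _, hp⟩ := (Ideal.IsPrime.prod_mem_iff).mp h
        exact hyq p (HomogeneousIdeal.mem_iff.mp hp)
    refine ⟨x ^ E + Y ^ d, d * E, Nat.mul_pos hd hE0, ?_, ?_, ?_⟩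
    · refine add_mem ?_ ?_
      · have := SetLike.pow_mem_graded E hxd
        rwa [smul_eq_mul, mul_comm] at this
      · have := SetLike.pow_mem_graded d hYE
        rwa [smul_eq_mul] at this
    · rw [← HomogeneousIdeal.mem_iff]
      exact add_mem (Ideal.pow_mem_of_mem _ (HomogeneousIdeal.mem_iff.mpr hxI) _ hE0)
        (Ideal.pow_mem_of_mem _ (HomogeneousIdeal.mem_iff.mpr hYI) _ hd)
    · intro p hp
      rw [← HomogeneousIdeal.mem_iff]
      by_cases hpq : p = q
      · subst hpq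
        intro h
        have h1 : x ^ E ∈ p.toIdeal :=
          Ideal.pow_mem_of_mem _ (HomogeneousIdeal.mem_iff.mpr hxq) _ hE0
        have h2 : Y ^ d ∈ p.toIdeal := (Ideal.add_mem_iff_right _ h1).mp h
        exact hYq (HomogeneousIdeal.mem_iff.mp (hqprime.mem_of_pow_mem _ h2))
      · have hp' : p ∈ s.erase q := Finset.mem_erase.mpr ⟨hpq, hp⟩
        intro h
        have h1 : Y ^ d ∈ p.toIdeal :=
          Ideal.pow_mem_of_mem _ (HomogeneousIdeal.mem_iff.mpr (hYp p hp')) _ hd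
        have h2 : x ^ E ∈ p.toIdeal := (Ideal.add_mem_iff_left _ h1).mp h
        exact hx p hp' (HomogeneousIdeal.mem_iff.mp ((hprime p hp).mem_of_pow_mem _ h2))

end helpers

/-- Let S be an ℕ-graded ring, p_1, …, p_r homogeneous prime ideals of S and I ⊆ S₊ a homogeneous ideal
not contained in any p_i. Then there is a homogeneous element x ∈ I of positive degree with x ∉ p_i
for all i. -/
theorem result {R S : Type u} [CommRing R] [CommRing S] [Algebra R S] (𝒜 : ℕ → Submodule R S) [GradedAlgebra 𝒜]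
    {r : ℕ} (p : Fin r → HomogeneousIdeal 𝒜) (hp : ∀ i, (p i).toIdeal.IsPrime) (I : HomogeneousIdeal 𝒜) (hI : I ≤ HomogeneousIdeal.irrelevant 𝒜) (h : ∀ i, ¬ I ≤ p i) :
    ∃ x : S, ∃ d : ℕ, 0 < d ∧ x ∈ 𝒜 d ∧ x ∈ I ∧ ∀ i, x ∉ p i := by
  classical
  obtain ⟨x, d, hd, hxd, hxI, hx⟩ := avoid_finset 𝒜 I hI _ (Finset.univ.image p) rfl
    (by intro q hq; obtain ⟨i, _, rfl⟩ := Finset.mem_image.mp hq; exact hp i)
    (by intro q hq; obtain ⟨i, _, rfl⟩ := Finset.mem_image.mp hq; exact h i)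
  exact ⟨x, d, hd, hxd, hxI, fun i => hx _ (Finset.mem_image_of_mem p (Finset.mem_univ i))⟩

end Groth.Agent.S9616
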