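import Groth.Statements.S9617
import Mathlib.RingTheory.IntegralClosure.IsIntegralClosure.Basic
import Mathlib.RingTheory.Finiteness.Quotient
import Mathlib.Algebra.Module.Torsion.Basic

set_option autoImplicit false
universe u
open CAlg

namespace Groth.Agent.S9617

variable {A S : Type u} [CommRing A] [CommRing S] [Algebra A S] (𝒜 : ℕ → Submodule A S)
  [GradedAlgebra 𝒜]
variable (M : Type u) [AddCommGroup M] [Module A M] [Module S M] [IsScalarTower A S M]
  (ℳ : ℕ → Submodule A M) [DirectSum.Decomposition ℳ] [SetLike.GradedSMul 𝒜 ℳ]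

/-- ideal generated by the homogeneous elements of degree `≥ N`. -/
def IN (N : ℕ) : Ideal S := Ideal.span {s | ∃ d, N ≤ d ∧ s ∈ 𝒜 d}

/-- the projection `M → ℳ n`. -/
noncomputable def projn (n : ℕ) : M →ₗ[A] ℳ n :=
  (DirectSum.component A ℕ (fun i => ℳ i) n) ∘ₗ (DirectSum.decomposeLinearEquiv ℳ).toLinearMap

theorem projn_apply (n : ℕ) (m : M) : projn M ℳ n m = DirectSum.decompose ℳ m n := rfl

theorem projn_surjective (n : ℕ) : Function.Surjective (projn M ℳ n) := by
  intro x
  refine ⟨x, ?_⟩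
  rw [projn_apply]
  exact Subtype.ext (DirectSum.decompose_of_mem_same ℳ x.2)

theorem projn_smul_eq_zero {n d : ℕ} (hd : n < d) {s : S} (hs : s ∈ 𝒜 d) (m : M) :
    projn M ℳ n (s • m) = 0 := by
  classical
  rw [projn_apply]
  conv_lhs => rw [← DirectSum.sum_support_decompose ℳ m]
  rw [Finset.smul_sum, DirectSum.decompose_sum, DFinsupp.finsetSum_apply]
  apply Finset.sum_eq_zero
  intro j _
  have hmem : s • (DirectSum.decompose ℳ m j : M) ∈ ℳ (d + j) :=
    SetLike.GradedSMul.smul_mem hs (DirectSum.decompose ℳ m j).2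
  apply Subtype.ext
  rw [DirectSum.decompose_of_mem_ne ℳ hmem (by omega)]
  rfl

theorem projn_ideal_smul_eq_zero {n N : ℕ} (hN : n < N) {r : S} (hr : r ∈ IN 𝒜 N) (m : M) :
    projn M ℳ n (r • m) = 0 := by
  revert m
  refine Submodule.span_induction (p := fun r _ => ∀ m : M, projn M ℳ n (r • m) = 0)
    ?_ ?_ ?_ ?_ hr
  · rintro s ⟨d, hd, hs⟩ m
    exact projn_smul_eq_zero 𝒜 M ℳ (lt_of_lt_of_le hN hd) hs m
  · intro m
    rw [zero_smul, map_zero]
  · intro x y _ _ hx hy m
    rw [add_smul, map_add, hx m, hy m, add_zero]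
  · intro a x _ hx m
    rw [smul_eq_mul, mul_comm, mul_smul]
    exact hx (a • m)

theorem projn_eq_zero_of_mem {n N : ℕ} (hN : n < N) {m : M}
    (hm : m ∈ (IN 𝒜 N • ⊤ : Submodule S M)) : projn M ℳ n m = 0 := by
  refine Submodule.smul_induction_on hm ?_ ?_
  · intro r hr m _
    exact projn_ideal_smul_eq_zero 𝒜 M ℳ hN hr m
  · intro x y hx hy
    rw [map_add, hx, hy, add_zero]

variable (h0 : ∀ s ∈ 𝒜 0, s ∈ Set.range (algebraMap A S))

include h0 in
theorem isIntegral_mk {N : ℕ} (hN : 0 < N) (s : S) :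
    IsIntegral A (Ideal.Quotient.mk (IN 𝒜 N) s) := by
  classical
  rw [← DirectSum.sum_support_decompose 𝒜 s, map_sum]
  apply IsIntegral.sum
  intro d _
  rcases Nat.eq_zero_or_pos d with hd | hd
  · subst hd
    obtain ⟨a, ha⟩ := h0 _ (DirectSum.decompose 𝒜 s 0).2
    rw [← ha]
    exact isIntegral_algebraMap (x := a) (A := S ⧸ IN 𝒜 N)
  · apply IsIntegral.of_pow hN
    have hmem : (DirectSum.decompose 𝒜 s d : S) ^ N ∈ IN 𝒜 N := by
      apply Ideal.subset_span
      refine ⟨N • d, ?_, SetLike.pow_mem_graded N (DirectSum.decompose 𝒜 s d).2⟩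
      rw [smul_eq_mul]
      exact Nat.le_mul_of_pos_right N hd
    rw [← map_pow, Ideal.Quotient.eq_zero_iff_mem.mpr hmem]
    exact isIntegral_zero

include h0 in
theorem finite_quot [Algebra.FiniteType A S] {N : ℕ} (hN : 0 < N) :
    Module.Finite A (S ⧸ IN 𝒜 N) := by
  haveI : Algebra.IsIntegral A (S ⧸ IN 𝒜 N) := by
    constructor
    intro b
    obtain ⟨s, rfl⟩ := Ideal.Quotient.mk_surjective b
    exact isIntegral_mk 𝒜 h0 hN s
  exact Algebra.IsIntegral.finite

include h0 in
theorem finite_quotM [Algebra.FiniteType A S] [Module.Finite S M] {N : ℕ} (hN : 0 < N) :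
    Module.Finite A (M ⧸ (IN 𝒜 N • ⊤ : Submodule S M)) := by
  haveI := finite_quot 𝒜 h0 hN
  haveI : Module.Finite S (M ⧸ (IN 𝒜 N • ⊤ : Submodule S M)) := inferInstance
  haveI : Module.Finite (S ⧸ IN 𝒜 N) (M ⧸ (IN 𝒜 N • ⊤ : Submodule S M)) :=
    Module.Finite.of_restrictScalars_finite S _ _
  haveI : IsScalarTower A (S ⧸ IN 𝒜 N) (M ⧸ (IN 𝒜 N • ⊤ : Submodule S M)) := by
    refine IsScalarTower.of_algebraMap_smul ?_
    intro a q
    obtain ⟨m, rfl⟩ := Submodule.Quotient.mk_surjective _ q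
    change Ideal.Quotient.mk (IN 𝒜 N) (algebraMap A S a) •
      Submodule.Quotient.mk (p := (IN 𝒜 N • ⊤ : Submodule S M)) m = _
    rw [Module.Quotient.mk_smul_mk, algebraMap_smul, Submodule.Quotient.mk_smul]
  exact Module.Finite.trans (S ⧸ IN 𝒜 N) _

include h0 in
theorem main [Algebra.FiniteType A S] [Module.Finite S M] (n : ℕ) : Module.Finite A (ℳ n) := by
  have hN : 0 < n + 1 := Nat.succ_pos n
  haveI := finite_quotM 𝒜 M h0 hN
  set P : Submodule S M := (IN 𝒜 (n + 1) • ⊤ : Submodule S M) with hP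
  have hker : P.restrictScalars A ≤ LinearMap.ker (projn M ℳ n) := by
    intro m hm
    rw [LinearMap.mem_ker]
    exact projn_eq_zero_of_mem 𝒜 M ℳ (Nat.lt_succ_self n) hm
  let g : (M ⧸ P.restrictScalars A) →ₗ[A] ℳ n := (P.restrictScalars A).liftQ (projn M ℳ n) hker
  have hg : Function.Surjective g := by
    intro x
    obtain ⟨m, rfl⟩ := projn_surjective M ℳ n x
    exact ⟨Submodule.Quotient.mk m, rfl⟩
  haveI : Module.Finite A (M ⧸ P.restrictScalars A) :=
    Module.Finite.equiv (Submodule.Quotient.restrictScalarsEquiv A P).symm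
  exact Module.Finite.of_surjective g hg

end Groth.Agent.S9617


namespace Groth.Agent.S9617

/-- Let S be an ℕ-graded ring, presented as a graded algebra over a ring A mapping onto S₀, such that S
is of finite type over A, i.e. over S₀. If M is a finitely generated graded S-module, graded in
nonnegative degrees (the source allows all integer degrees), then each graded piece M_n is a finite
module over A, i.e. over S₀. -/
theorem result {A S : Type u} [CommRing A] [CommRing S] [Algebra A S] (𝒜 : ℕ → Submodule A S) [GradedAlgebra 𝒜]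
    (h0 : ∀ s ∈ 𝒜 0, s ∈ Set.range (algebraMap A S)) [Algebra.FiniteType A S]
    (M : Type u) [AddCommGroup M] [Module A M] [Module S M] [IsScalarTower A S M] [Module.Finite S M] (ℳ : ℕ → Submodule A M) [DirectSum.Decomposition ℳ] [SetLike.GradedSMul 𝒜 ℳ] (n : ℕ) :
    Module.Finite A (ℳ n) := by
  exact main 𝒜 M ℳ h0 n

end Groth.Agent.S9617
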