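import Groth.Statements.S9618
import Groth.Agent.Lib.Helper50.SpectralClopen

set_option autoImplicit false
universe u
open CAlg

namespace Groth.Agent.S9618

/-- For a ring R and a subset T of Spec R the following are equivalent: (1) T is closed and contains the
connected component of each of its points; (2) T can be written as an intersection of subsets of
Spec R that are both open and closed; (3) T is the common zero locus of some set of idempotent
elements of R (equivalently, of the ideal they generate). -/
theorem result {R : Type u} [CommRing R] (T : Set (PrimeSpectrum R)) :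
    [IsClosed T ∧ ∀ x ∈ T, connectedComponent x ⊆ T,
      ∃ U : Set (Set (PrimeSpectrum R)), (∀ u ∈ U, IsClopen u) ∧ T = ⋂₀ U,
      ∃ E : Set R, (∀ e ∈ E, IsIdempotentElem e) ∧ T = PrimeSpectrum.zeroLocus E].TFAE := by
  tfae_have 1 → 2 := by
    rintro ⟨hT, hTc⟩
    refine ⟨{u | IsClopen u ∧ T ⊆ u}, fun u hu => hu.1, ?_⟩
    apply Set.Subset.antisymm
    · intro x hx u hu
      exact hu.2 hx
    · intro y hy
      by_contra hyT
      obtain ⟨Z, hZ, hTZ, hyZ⟩ :=
        Groth.Agent.Lib.Helper50.exists_isClopen_of_closed_union_connectedComponents hT hTc hyT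
      exact hyZ (hy Z ⟨hZ, hTZ⟩)
  tfae_have 2 → 3 := by
    rintro ⟨U, hU, rfl⟩
    have h : ∀ u ∈ U, ∃ e : R, IsIdempotentElem e ∧ u = PrimeSpectrum.zeroLocus {e} :=
      fun u hu => PrimeSpectrum.isClopen_iff_zeroLocus.mp (hU u hu)
    choose! φ hφ1 hφ2 using h
    refine ⟨φ '' U, ?_, ?_⟩
    · rintro _ ⟨u, hu, rfl⟩
      exact hφ1 u hu
    · ext x
      simp only [Set.mem_sInter, PrimeSpectrum.mem_zeroLocus, Set.image_subset_iff]
      constructor
      · intro h u hu
        have := h u hu
        rw [hφ2 u hu, PrimeSpectrum.mem_zeroLocus, Set.singleton_subset_iff] at this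
        exact this
      · intro h u hu
        rw [hφ2 u hu, PrimeSpectrum.mem_zeroLocus, Set.singleton_subset_iff]
        exact h hu
  tfae_have 3 → 1 := by
    rintro ⟨E, hE, rfl⟩
    refine ⟨PrimeSpectrum.isClosed_zeroLocus _, ?_⟩
    intro x hx y hy
    rw [PrimeSpectrum.mem_zeroLocus] at hx ⊢
    intro e he
    have hclopen : IsClopen (PrimeSpectrum.zeroLocus ({e} : Set R)) :=
      PrimeSpectrum.isClopen_iff_zeroLocus.mpr ⟨e, hE e he, rfl⟩
    have hx' : x ∈ PrimeSpectrum.zeroLocus ({e} : Set R) := by
      rw [PrimeSpectrum.mem_zeroLocus, Set.singleton_subset_iff]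
      exact hx he
    have := hclopen.connectedComponent_subset hx' hy
    rw [PrimeSpectrum.mem_zeroLocus, Set.singleton_subset_iff] at this
    exact this
  tfae_finish

end Groth.Agent.S9618
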