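import Groth.Statements.S9620
import Groth.Agent.Lib.Helper50.SpectralClopen

set_option autoImplicit false
universe u
open CAlg

namespace Groth.Agent.S9620

/-- For a ring R and a point p of Spec R, the connected component of p is the zero locus of the ideal I
generated by the idempotents of R contained in p, and every idempotent e of R satisfies e ∈ I or 1 -
e ∈ I (e maps to 0 or 1 in R/I). -/
theorem result {R : Type u} [CommRing R] (p : PrimeSpectrum R) :
    connectedComponent p = PrimeSpectrum.zeroLocus {e : R | IsIdempotentElem e ∧ e ∈ p.asIdeal} ∧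
      ∀ e : R, IsIdempotentElem e → (e ∈ Ideal.span {e : R | IsIdempotentElem e ∧ e ∈ p.asIdeal} ∨ 1 - e ∈ Ideal.span {e : R | IsIdempotentElem e ∧ e ∈ p.asIdeal}) := by
  constructor
  · apply Set.Subset.antisymm
    · intro y hy
      rw [PrimeSpectrum.mem_zeroLocus]
      rintro e ⟨he, hep⟩
      have hclopen : IsClopen (PrimeSpectrum.zeroLocus ({e} : Set R)) :=
        PrimeSpectrum.isClopen_iff_zeroLocus.mpr ⟨e, he, rfl⟩
      have hx' : p ∈ PrimeSpectrum.zeroLocus ({e} : Set R) := by
        rw [PrimeSpectrum.mem_zeroLocus, Set.singleton_subset_iff]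
        exact hep
      have := hclopen.connectedComponent_subset hx' hy
      rw [PrimeSpectrum.mem_zeroLocus, Set.singleton_subset_iff] at this
      exact this
    · rw [Groth.Agent.Lib.Helper50.connectedComponent_eq_iInter_isClopen_of_prespectral p]
      intro y hy
      rw [Set.mem_iInter]
      rintro ⟨s, hs, hps⟩
      obtain ⟨e, he, rfl⟩ := PrimeSpectrum.isClopen_iff_zeroLocus.mp hs
      rw [PrimeSpectrum.mem_zeroLocus, Set.singleton_subset_iff] at hps
      rw [PrimeSpectrum.mem_zeroLocus] at hy
      show y ∈ PrimeSpectrum.zeroLocus ({e} : Set R)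
      rw [PrimeSpectrum.mem_zeroLocus, Set.singleton_subset_iff]
      exact hy ⟨he, hps⟩
  · intro e he
    have h0 : e * (1 - e) ∈ p.asIdeal := by
      have : e * (1 - e) = 0 := by
        rw [mul_sub, mul_one, he.eq, sub_self]
      rw [this]; exact p.asIdeal.zero_mem
    rcases p.2.mem_or_mem h0 with h | h
    · left; exact Ideal.subset_span ⟨he, h⟩
    · right; exact Ideal.subset_span ⟨he.one_sub, h⟩

end Groth.Agent.S9620
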