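import Groth.Statements.S9621
-- import your own Groth.Agent.* helpers here

set_option autoImplicit false
universe u
open CAlg

namespace Groth.Agent.S9621

/-- Let R be a ring, p a minimal prime of R and W a quasi-compact open subset of Spec R not containing
p. Then there is an f ∈ R, f ∉ p, whose basic open D(f) is disjoint from W. -/
theorem result {R : Type u} [CommRing R] (p : PrimeSpectrum R) (hp : p.asIdeal ∈ minimalPrimes R) (W : Set (PrimeSpectrum R)) (hWo : IsOpen W) (hWc : IsCompact W) (hpW : p ∉ W) :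
    ∃ f : R, f ∉ p.asIdeal ∧ Disjoint (PrimeSpectrum.basicOpen f : Set (PrimeSpectrum R)) W := by
  classical
  have hprime : p.asIdeal.IsPrime := p.2
  -- key lemma: every element of the minimal prime is killed up to nilpotents by something outside p
  have key : ∀ g ∈ p.asIdeal, ∃ f ∉ p.asIdeal, IsNilpotent (f * g) := by
    intro g hg
    have h1 := IsLocalization.AtPrime.radical_map_of_mem_minimalPrimes
      (A := Localization.AtPrime p.asIdeal) p.asIdeal (⊥ : Ideal R) hp
    have h2 : algebraMap R (Localization.AtPrime p.asIdeal) g ∈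
        (Ideal.map (algebraMap R (Localization.AtPrime p.asIdeal)) (⊥ : Ideal R)).radical := by
      rw [h1]; exact Ideal.mem_map_of_mem _ hg
    obtain ⟨n, hn⟩ := h2
    rw [Ideal.map_bot, Ideal.mem_bot, ← map_pow,
      IsLocalization.map_eq_zero_iff p.asIdeal.primeCompl] at hn
    obtain ⟨t, ht⟩ := hn
    refine ⟨t.1, t.2, n + 1, ?_⟩
    calc (t.1 * g) ^ (n + 1) = t.1 ^ n * g * (t.1 * g ^ n) := by ring
      _ = 0 := by rw [ht, mul_zero]
  obtain ⟨t, ht⟩ := PrimeSpectrum.isCompact_isOpen_iff.mp ⟨hWc, hWo⟩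
  have htp : ∀ g ∈ t, g ∈ p.asIdeal := by
    intro g hg
    by_contra hgp
    apply hpW
    rw [← ht, Set.mem_compl_iff, PrimeSpectrum.mem_zeroLocus]
    intro h
    exact hgp (h hg)
  choose! φ hφ1 hφ2 using key
  refine ⟨∏ g ∈ t, φ g, ?_, ?_⟩
  · intro h
    obtain ⟨g, hg, hgp⟩ := (hprime.prod_mem_iff).mp h
    exact hφ1 g (htp g hg) hgp
  · rw [Set.disjoint_left]
    intro q hq hqW
    rw [← ht, Set.mem_compl_iff, PrimeSpectrum.mem_zeroLocus, Set.not_subset] at hqW
    obtain ⟨g, hg, hgq⟩ := hqW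
    have hnil := hφ2 g (htp g hg)
    have hmem : φ g * g ∈ q.asIdeal := by
      obtain ⟨n, hn⟩ := hnil
      exact q.2.mem_of_pow_mem n (hn ▸ q.asIdeal.zero_mem)
    rcases q.2.mem_or_mem hmem with h | h
    · apply hq
      rw [← Finset.mul_prod_erase t φ hg]
      exact Ideal.mul_mem_right _ _ h
    · exact hgq h

end Groth.Agent.S9621
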