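import Groth.Statements.S9622
import Mathlib.RingTheory.Finiteness.NilpotentKer
import Mathlib.RingTheory.HopkinsLevitzki
import Mathlib.RingTheory.FiniteType

set_option autoImplicit false
universe u
open CAlg

namespace Groth.Agent.S9622

/-- Let R → S be a ring map whose target S is a local Artinian ring, and write m for the maximal ideal
of S. Then S is a finite R-module exactly when S/m is, and S is an R-algebra of finite type exactly
when S/m is. -/
theorem result {R S : Type u} [CommRing R] [CommRing S] [Algebra R S] [IsArtinianRing S] [IsLocalRing S] :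
    (Module.Finite R S ↔ Module.Finite R (S ⧸ IsLocalRing.maximalIdeal S)) ∧
      (Algebra.FiniteType R S ↔ Algebra.FiniteType R (S ⧸ IsLocalRing.maximalIdeal S)) := by
  classical
  have hnil : IsLocalRing.maximalIdeal S ≤ nilradical S := by
    obtain ⟨n, hn⟩ := (isArtinianRing_iff_isNilpotent_maximalIdeal S).mp inferInstance
    intro x hx
    refine ⟨n, ?_⟩
    have : x ^ n ∈ IsLocalRing.maximalIdeal S ^ n := Ideal.pow_mem_pow hx n
    rw [hn] at this
    exact this
  have hfg : (IsLocalRing.maximalIdeal S).FG := IsNoetherian.noetherian _
  have hker : ∀ (A : Type u) [CommRing A] [Algebra A S],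
      RingHom.ker (Ideal.Quotient.mkₐ A (IsLocalRing.maximalIdeal S)) = IsLocalRing.maximalIdeal S := by
    intro A _ _
    ext x
    simp [RingHom.mem_ker, Ideal.Quotient.eq_zero_iff_mem]
  constructor
  · constructor
    · intro h
      exact Module.Finite.of_surjective (Ideal.Quotient.mkₐ R (IsLocalRing.maximalIdeal S)).toLinearMap
        (Ideal.Quotient.mkₐ_surjective R _)
    · intro h
      refine Module.finite_of_surjective_of_ker_le_nilradical
        (Ideal.Quotient.mkₐ R (IsLocalRing.maximalIdeal S)) (Ideal.Quotient.mkₐ_surjective R _) ?_ ?_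
      · rw [hker R]; exact hnil
      · rw [hker R]; exact hfg
  · constructor
    · intro h
      exact Algebra.FiniteType.of_surjective (Ideal.Quotient.mkₐ R (IsLocalRing.maximalIdeal S))
        (Ideal.Quotient.mkₐ_surjective R _)
    · intro h
      obtain ⟨n, f, hf⟩ := Algebra.FiniteType.iff_quotient_mvPolynomial''.mp h
      have hlift : ∀ i : Fin n, ∃ t : S, Ideal.Quotient.mk (IsLocalRing.maximalIdeal S) t = f (MvPolynomial.X i) :=
        fun i => Ideal.Quotient.mk_surjective _
      choose t ht using hlift
      let f' : MvPolynomial (Fin n) R →ₐ[R] S := MvPolynomial.aeval t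
      have hff' : (Ideal.Quotient.mkₐ R (IsLocalRing.maximalIdeal S)).comp f' = f := by
        apply MvPolynomial.algHom_ext
        intro i
        simp [f', ht i]
      letI : Algebra (MvPolynomial (Fin n) R) S := f'.toRingHom.toAlgebra
      haveI : IsScalarTower R (MvPolynomial (Fin n) R) S :=
        IsScalarTower.of_algebraMap_eq fun r => (f'.commutes r).symm
      haveI : Module.Finite (MvPolynomial (Fin n) R) (S ⧸ IsLocalRing.maximalIdeal S) := by
        refine Module.Finite.of_surjective
          (Algebra.linearMap (MvPolynomial (Fin n) R) (S ⧸ IsLocalRing.maximalIdeal S)) ?_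
        intro y
        obtain ⟨p, hp⟩ := hf y
        refine ⟨p, ?_⟩
        rw [← hp, ← hff']
        rfl
      haveI : Module.Finite (MvPolynomial (Fin n) R) S := by
        refine Module.finite_of_surjective_of_ker_le_nilradical
          (Ideal.Quotient.mkₐ (MvPolynomial (Fin n) R) (IsLocalRing.maximalIdeal S))
          (Ideal.Quotient.mkₐ_surjective _ _) ?_ ?_
        · rw [hker]; exact hnil
        · rw [hker]; exact hfg
      exact Algebra.FiniteType.trans (S := MvPolynomial (Fin n) R) inferInstance inferInstance

end Groth.Agent.S9622
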