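import Groth.Statements.S9624
import Mathlib.RingTheory.Spectrum.Prime.Chevalley
import Mathlib.RingTheory.LocalRing.ResidueField.Fiber
import Mathlib.RingTheory.Flat.Basic
import Mathlib.LinearAlgebra.Basis.VectorSpace
import Groth.Agent.Lib.Helper50.SpecConnected

set_option autoImplicit false
universe u
open CAlg

namespace Groth.Agent.S9624

open TensorProduct in
/-- Let k be a field, S a geometrically connected k-algebra (the spectrum of k' ⊗_k S is connected for
every field extension k'/k) and R any k-algebra. Then the map R → R ⊗_k S induces a bijection on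
idempotents: each idempotent of R ⊗_k S comes from exactly one idempotent of R. Here the test fields
range over field extensions in the universe of k; this is equivalent to the unrestricted notion,
since an algebraic closure of k suffices as a test. -/
theorem result {k R S : Type u} [Field k] [CommRing R] [CommRing S] [Algebra k R] [Algebra k S]
    (hS : ∀ (k' : Type u) [Field k'] [Algebra k k'], ConnectedSpace (PrimeSpectrum (k' ⊗[k] S)))
    (x : R ⊗[k] S) (hx : IsIdempotentElem x) :
    ∃! e : R, IsIdempotentElem e ∧ algebraMap R (R ⊗[k] S) e = x := by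
  classical
  have hopen : IsOpenMap (PrimeSpectrum.comap (algebraMap R (R ⊗[k] S))) :=
    PrimeSpectrum.isOpenMap_comap_algebraMap_tensorProduct_of_field
  -- fibres are connected
  have hfibconn : ∀ p : PrimeSpectrum R,
      IsConnected (PrimeSpectrum.comap (algebraMap R (R ⊗[k] S)) ⁻¹' {p}) := by
    intro p
    haveI := hS p.asIdeal.ResidueField
    let e : p.asIdeal.ResidueField ⊗[R] (R ⊗[k] S) ≃ₐ[R] p.asIdeal.ResidueField ⊗[k] S :=
      Algebra.TensorProduct.cancelBaseChange k R R p.asIdeal.ResidueField S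
    haveI : ConnectedSpace (PrimeSpectrum (p.asIdeal.Fiber (R ⊗[k] S))) :=
      Groth.Agent.Lib.Helper50.connectedSpace_primeSpectrum_of_injective
        (R := p.asIdeal.ResidueField ⊗[R] (R ⊗[k] S)) (S := p.asIdeal.ResidueField ⊗[k] S)
        e.toRingEquiv.toRingHom e.toRingEquiv.injective
    let h := PrimeSpectrum.preimageHomeomorphFiber R (R ⊗[k] S) p
    haveI : ConnectedSpace (PrimeSpectrum.comap (algebraMap R (R ⊗[k] S)) ⁻¹' {p}) :=
      h.symm.surjective.connectedSpace h.symm.continuous
    exact isConnected_iff_connectedSpace.mpr inferInstance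
  have hsurj : Function.Surjective (PrimeSpectrum.comap (algebraMap R (R ⊗[k] S))) := by
    intro p
    obtain ⟨P, hP⟩ := (hfibconn p).nonempty
    exact ⟨P, hP⟩
  -- the clopen set attached to x
  have hU : IsClopen (PrimeSpectrum.basicOpen x : Set (PrimeSpectrum (R ⊗[k] S))) :=
    PrimeSpectrum.isClopen_iff.mpr ⟨x, hx, rfl⟩
  have hsat : ∀ P Q : PrimeSpectrum (R ⊗[k] S),
      PrimeSpectrum.comap (algebraMap R (R ⊗[k] S)) P = PrimeSpectrum.comap (algebraMap R (R ⊗[k] S)) Q →
      P ∈ (PrimeSpectrum.basicOpen x : Set (PrimeSpectrum (R ⊗[k] S))) →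
      Q ∈ (PrimeSpectrum.basicOpen x : Set (PrimeSpectrum (R ⊗[k] S))) := by
    intro P Q hPQ hP
    have hsub := (hfibconn (PrimeSpectrum.comap (algebraMap R (R ⊗[k] S)) P)).isPreconnected.subset_isClopen
      hU ⟨P, rfl, hP⟩
    exact hsub hPQ.symm
  set V : Set (PrimeSpectrum R) := PrimeSpectrum.comap (algebraMap R (R ⊗[k] S)) ''
    (PrimeSpectrum.basicOpen x : Set (PrimeSpectrum (R ⊗[k] S))) with hVdef
  have hVopen : IsOpen V := hopen _ hU.2
  have hVcompl : Vᶜ = PrimeSpectrum.comap (algebraMap R (R ⊗[k] S)) ''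
      (PrimeSpectrum.basicOpen x : Set (PrimeSpectrum (R ⊗[k] S)))ᶜ := by
    ext p
    constructor
    · intro hp
      obtain ⟨P, hP⟩ := hsurj p
      refine ⟨P, ?_, hP⟩
      intro hPU
      exact hp ⟨P, hPU, hP⟩
    · rintro ⟨P, hP, rfl⟩ ⟨Q, hQ, hQP⟩
      exact hP (hsat Q P hQP hQ)
  have hVclopen : IsClopen V := by
    refine ⟨?_, hVopen⟩
    rw [← isOpen_compl_iff, hVcompl]
    exact hopen _ hU.1.isOpen_compl
  obtain ⟨e, he, hVe⟩ := PrimeSpectrum.isClopen_iff.mp hVclopen
  have hpre : (PrimeSpectrum.basicOpen (algebraMap R (R ⊗[k] S) e) : Set (PrimeSpectrum (R ⊗[k] S))) =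
      (PrimeSpectrum.basicOpen x : Set (PrimeSpectrum (R ⊗[k] S))) := by
    ext P
    have h1 : P ∈ (PrimeSpectrum.basicOpen (algebraMap R (R ⊗[k] S) e) : Set (PrimeSpectrum (R ⊗[k] S))) ↔
        PrimeSpectrum.comap (algebraMap R (R ⊗[k] S)) P ∈ V := by
      rw [hVe]
      rfl
    rw [h1]
    constructor
    · rintro ⟨Q, hQ, hQP⟩
      exact hsat Q P hQP hQ
    · intro hP
      exact ⟨P, hP, rfl⟩
  have hex : algebraMap R (R ⊗[k] S) e = x :=
    PrimeSpectrum.basicOpen_injOn_isIdempotentElem (he.map (algebraMap R (R ⊗[k] S))) hx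
      (TopologicalSpace.Opens.ext hpre)
  -- injectivity of R → R ⊗ S
  haveI : Nontrivial S := by
    haveI := hS k
    haveI : Nonempty (PrimeSpectrum (k ⊗[k] S)) := inferInstance
    haveI : Nontrivial (k ⊗[k] S) := PrimeSpectrum.nonempty_iff_nontrivial.mp inferInstance
    exact (Algebra.TensorProduct.lid k S).symm.toRingEquiv.toRingHom.domain_nontrivial
  have hinj : Function.Injective (algebraMap R (R ⊗[k] S)) :=
    Algebra.TensorProduct.includeLeft_injective (S := R) (algebraMap k S).injective
  refine ⟨e, ⟨he, hex⟩, ?_⟩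
  rintro e' ⟨_, he'⟩
  exact hinj (he'.trans hex.symm)

end Groth.Agent.S9624
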