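import Groth.Statements.S9625
import Mathlib.RingTheory.Flat.Basic
import Mathlib.LinearAlgebra.Basis.VectorSpace
import Groth.Agent.Lib.Helper50.SpecConnected

set_option autoImplicit false
universe u
open CAlg

namespace Groth.Agent.S9625

open TensorProduct in
/-- Let k be a field and S a k-algebra such that Spec(k' ⊗_k S) is irreducible for every field extension
k'/k. Then every k-subalgebra of S has the same property. Here the test fields range over field
extensions in the universe of k; this is equivalent to the unrestricted notion, since an algebraic
closure of k suffices as a test. -/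
theorem result {k S : Type u} [Field k] [CommRing S] [Algebra k S]
    (hS : ∀ (k' : Type u) [Field k'] [Algebra k k'], IrreducibleSpace (PrimeSpectrum (k' ⊗[k] S))) (S' : Subalgebra k S) :
    ∀ (k' : Type u) [Field k'] [Algebra k k'], IrreducibleSpace (PrimeSpectrum (k' ⊗[k] S')) := by
  intro k' _ _
  haveI := hS k'
  let φ : k' ⊗[k] S' →ₐ[k] k' ⊗[k] S :=
    Algebra.TensorProduct.map (AlgHom.id k k') S'.val
  have hφ : Function.Injective φ := by
    have h1 : Function.Injective S'.val.toLinearMap := Subtype.val_injective
    have := Module.Flat.lTensor_preserves_injective_linearMap (M := k') S'.val.toLinearMap h1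
    intro x y hxy
    apply this
    exact hxy
  exact Groth.Agent.Lib.Helper50.irreducibleSpace_primeSpectrum_of_injective φ.toRingHom hφ

end Groth.Agent.S9625
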