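import Groth.Statements.S9626
import Mathlib.RingTheory.RingHom.Flat
import Mathlib.RingTheory.LocalRing.ResidueField.Fiber
import Mathlib.LinearAlgebra.Basis.VectorSpace
import Groth.Agent.Lib.Helper50.SpecConnected

set_option autoImplicit false
universe u
open CAlg

namespace Groth.Agent.S9626

open TensorProduct in
/-- Let k be a field, S a k-algebra with Spec(k' ⊗_k S) irreducible for every field extension k'/k, and
R any k-algebra. Then Spec(R ⊗_k S) → Spec(R) induces a bijection on irreducible components: taking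
inverse images along R → R ⊗_k S maps the set of minimal primes of R ⊗_k S bijectively onto the set
of minimal primes of R. Here the test fields range over field extensions in the universe of k; this
is equivalent to the unrestricted notion, since an algebraic closure of k suffices as a test. -/
theorem result {k R S : Type u} [Field k] [CommRing R] [CommRing S] [Algebra k R] [Algebra k S]
    (hS : ∀ (k' : Type u) [Field k'] [Algebra k k'], IrreducibleSpace (PrimeSpectrum (k' ⊗[k] S))) :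
    Set.BijOn (Ideal.comap (algebraMap R (R ⊗[k] S))) (minimalPrimes (R ⊗[k] S)) (minimalPrimes R) := by
  classical
  have hflat : Module.Flat R (R ⊗[k] S) := inferInstance
  have hgen : GeneralizingMap (PrimeSpectrum.comap (algebraMap R (R ⊗[k] S))) :=
    RingHom.Flat.generalizingMap_comap (RingHom.flat_algebraMap_iff.mpr hflat)
  -- irreducibility of the fibre rings
  have hfibirr : ∀ p : PrimeSpectrum R,
      IrreducibleSpace (PrimeSpectrum (p.asIdeal.Fiber (R ⊗[k] S))) := by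
    intro p
    haveI := hS p.asIdeal.ResidueField
    let e : p.asIdeal.ResidueField ⊗[R] (R ⊗[k] S) ≃ₐ[R] p.asIdeal.ResidueField ⊗[k] S :=
      Algebra.TensorProduct.cancelBaseChange k R R p.asIdeal.ResidueField S
    exact Groth.Agent.Lib.Helper50.irreducibleSpace_primeSpectrum_of_injective
      e.toRingEquiv.toRingHom e.injective
  -- each fibre has a least element
  have hbot : ∀ p : PrimeSpectrum R, ∃ P₀ : PrimeSpectrum (R ⊗[k] S),
      PrimeSpectrum.comap (algebraMap R (R ⊗[k] S)) P₀ = p ∧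
      ∀ Q : PrimeSpectrum (R ⊗[k] S),
        PrimeSpectrum.comap (algebraMap R (R ⊗[k] S)) Q = p → P₀ ≤ Q := by
    intro p
    haveI := hfibirr p
    have hnil : (nilradical (p.asIdeal.Fiber (R ⊗[k] S))).IsPrime :=
      PrimeSpectrum.irreducibleSpace_iff_isPrime_nilradical.mp inferInstance
    let e := PrimeSpectrum.preimageOrderIsoFiber R (R ⊗[k] S) p
    let N : PrimeSpectrum (p.asIdeal.Fiber (R ⊗[k] S)) := ⟨nilradical _, hnil⟩
    refine ⟨(e.symm N).1, (e.symm N).2, ?_⟩
    intro Q hQ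
    have h1 : N ≤ e ⟨Q, hQ⟩ := nilradical_le_prime (e ⟨Q, hQ⟩).asIdeal
    have h2 : e.symm N ≤ ⟨Q, hQ⟩ := (OrderIso.symm_apply_le e).mpr h1
    exact h2
  have hmaps : ∀ P ∈ minimalPrimes (R ⊗[k] S),
      Ideal.comap (algebraMap R (R ⊗[k] S)) P ∈ minimalPrimes R := by
    intro P hP
    haveI := hP.1.1
    refine ⟨⟨Ideal.IsPrime.comap _, bot_le⟩, ?_⟩
    rintro q ⟨hq, _⟩ hqP
    have hspec : (⟨q, hq⟩ : PrimeSpectrum R) ⤳
        PrimeSpectrum.comap (algebraMap R (R ⊗[k] S)) ⟨P, hP.1.1⟩ :=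
      (PrimeSpectrum.le_iff_specializes _ _).mp hqP
    obtain ⟨P', hP'P, hP'q⟩ := hgen hspec
    have hle : P'.asIdeal ≤ P := (PrimeSpectrum.le_iff_specializes P' ⟨P, hP.1.1⟩).mpr hP'P
    have hge : P ≤ P'.asIdeal := hP.2 ⟨P'.2, bot_le⟩ hle
    have heq : P'.asIdeal = P := le_antisymm hle hge
    have : q = Ideal.comap (algebraMap R (R ⊗[k] S)) P'.asIdeal :=
      (congrArg PrimeSpectrum.asIdeal hP'q).symm
    rw [this, heq]
  refine ⟨hmaps, ?_, ?_⟩
  · intro P1 hP1 P2 hP2 h12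
    obtain ⟨P₀, hP₀, hmin⟩ := hbot ⟨Ideal.comap (algebraMap R (R ⊗[k] S)) P1, (hmaps P1 hP1).1.1⟩
    have h1 : P₀.asIdeal ≤ P1 := hmin ⟨P1, hP1.1.1⟩ rfl
    have h2 : P₀.asIdeal ≤ P2 := hmin ⟨P2, hP2.1.1⟩ (PrimeSpectrum.ext h12.symm)
    have e1 : P₀.asIdeal = P1 := le_antisymm h1 (hP1.2 ⟨P₀.2, bot_le⟩ h1)
    have e2 : P₀.asIdeal = P2 := le_antisymm h2 (hP2.2 ⟨P₀.2, bot_le⟩ h2)
    rw [← e1, ← e2]
  · intro p hp
    obtain ⟨P₀, hP₀, hmin⟩ := hbot ⟨p, hp.1.1⟩
    obtain ⟨P, hP, hPP₀⟩ := Ideal.exists_minimalPrimes_le (I := ⊥) (J := P₀.asIdeal) bot_le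
    refine ⟨P, hP, ?_⟩
    have h1 : Ideal.comap (algebraMap R (R ⊗[k] S)) P ≤ p := by
      have : Ideal.comap (algebraMap R (R ⊗[k] S)) P₀.asIdeal = p :=
        congrArg PrimeSpectrum.asIdeal hP₀
      rw [← this]
      exact Ideal.comap_mono hPP₀
    haveI := hP.1.1
    exact le_antisymm h1 (hp.2 ⟨Ideal.IsPrime.comap _, bot_le⟩ h1)

end Groth.Agent.S9626
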