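import Groth.Statements.S9627
import Mathlib.RingTheory.Spectrum.Prime.Chevalley
import Mathlib.RingTheory.LocalRing.ResidueField.Fiber
import Groth.Agent.Lib.Helper50.SpecConnected
import Groth.Agent.S9642

set_option autoImplicit false
universe u
open CAlg

namespace Groth.Agent.S9627

open TensorProduct in
/-- Let K/k be a field extension such that Spec(k' ⊗_k K) is irreducible for every field extension k'/k,
and let S be a K-algebra such that Spec(K' ⊗_K S) is irreducible for every field extension K'/K.
Then Spec(k' ⊗_k S) is irreducible for every field extension k'/k: S is geometrically irreducible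
over k. Here the test fields k'/k and K'/K range over field extensions in the common universe of k
and K; this is equivalent to the unrestricted notions, since an algebraic closure of the base field
suffices as a test. -/
theorem result {k K S : Type u} [Field k] [Field K] [Algebra k K] [CommRing S] [Algebra K S] [Algebra k S] [IsScalarTower k K S]
    (hK : ∀ (k' : Type u) [Field k'] [Algebra k k'], IrreducibleSpace (PrimeSpectrum (k' ⊗[k] K)))
    (hS : ∀ (K' : Type u) [Field K'] [Algebra K K'], IrreducibleSpace (PrimeSpectrum (K' ⊗[K] S))) :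
    ∀ (k' : Type u) [Field k'] [Algebra k k'], IrreducibleSpace (PrimeSpectrum (k' ⊗[k] S)) := by
  intro k' _ _
  classical
  -- B = K ⊗[k] k' has irreducible spectrum
  haveI hB0 := hK k'
  haveI hB : IrreducibleSpace (PrimeSpectrum (K ⊗[k] k')) :=
    Groth.Agent.Lib.Helper50.irreducibleSpace_primeSpectrum_of_injective
      (Algebra.TensorProduct.comm k K k').toRingEquiv.toRingHom
      (Algebra.TensorProduct.comm k K k').injective
  -- C = B ⊗[K] S
  have hopen : IsOpenMap (PrimeSpectrum.comap
      (algebraMap (K ⊗[k] k') ((K ⊗[k] k') ⊗[K] S))) :=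
    PrimeSpectrum.isOpenMap_comap_algebraMap_tensorProduct_of_field
  have hfib : ∀ q ∈ (Set.univ : Set (PrimeSpectrum (K ⊗[k] k'))),
      IrreducibleSpace (PrimeSpectrum (q.asIdeal.Fiber ((K ⊗[k] k') ⊗[K] S))) := by
    intro q _
    haveI := hS q.asIdeal.ResidueField
    let e : q.asIdeal.ResidueField ⊗[K ⊗[k] k'] ((K ⊗[k] k') ⊗[K] S) ≃ₐ[K ⊗[k] k']
        q.asIdeal.ResidueField ⊗[K] S :=
      Algebra.TensorProduct.cancelBaseChange K (K ⊗[k] k') (K ⊗[k] k') q.asIdeal.ResidueField S
    exact Groth.Agent.Lib.Helper50.irreducibleSpace_primeSpectrum_of_injective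
      (R := q.asIdeal.ResidueField ⊗[K ⊗[k] k'] ((K ⊗[k] k') ⊗[K] S))
      (S := q.asIdeal.ResidueField ⊗[K] S)
      e.toRingEquiv.toRingHom e.toRingEquiv.injective
  haveI hC : IrreducibleSpace (PrimeSpectrum ((K ⊗[k] k') ⊗[K] S)) :=
    Groth.Agent.S9642.result hopen Set.univ dense_univ hfib
  -- identify k' ⊗[k] S with C
  let e1 : (K ⊗[k] k') ⊗[K] S ≃+* S ⊗[K] (K ⊗[k] k') :=
    (Algebra.TensorProduct.comm K (K ⊗[k] k') S).toRingEquiv
  let e2 : S ⊗[K] (K ⊗[k] k') ≃+* S ⊗[k] k' :=
    (Algebra.TensorProduct.cancelBaseChange k K K S k').toRingEquiv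
  let e3 : S ⊗[k] k' ≃+* k' ⊗[k] S :=
    (Algebra.TensorProduct.comm k S k').toRingEquiv
  let e : k' ⊗[k] S ≃+* (K ⊗[k] k') ⊗[K] S := ((e1.trans e2).trans e3).symm
  exact Groth.Agent.Lib.Helper50.irreducibleSpace_primeSpectrum_of_injective e.toRingHom e.injective

end Groth.Agent.S9627
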