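import Groth.Statements.S9629
import Mathlib
import Groth.Agent.Lib.Helper50.TensorDomain

set_option autoImplicit false
universe u
open CAlg

namespace Groth.Agent.S9629

open TensorProduct in
/-- For a field k and a k-algebra S the following are equivalent: (1) S is geometrically integral, i.e.
k' ⊗_k S is an integral domain for every field extension k'/k; (2) k' ⊗_k S is an integral domain
for every finite field extension k'/k; (3) k̄ ⊗_k S is an integral domain for the algebraic closure
k̄ of k. Here the test fields range over field extensions in the universe of k; this is equivalent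
to the unrestricted notion, since an algebraic closure of k suffices as a test. -/
theorem result {k S : Type u} [Field k] [CommRing S] [Algebra k S] :
    [∀ (k' : Type u) [Field k'] [Algebra k k'], IsDomain (k' ⊗[k] S),
      ∀ (k' : Type u) [Field k'] [Algebra k k'] [Module.Finite k k'], IsDomain (k' ⊗[k] S),
      IsDomain (AlgebraicClosure k ⊗[k] S)].TFAE := by
  classical
  tfae_have 1 → 2 := fun h k' _ _ _ => h k'
  tfae_have 2 → 3 := by
    intro h
    have hk : IsDomain (k ⊗[k] S) := h k
    have hflat : ∀ (L : IntermediateField k (AlgebraicClosure k)),
        Function.Injective (Algebra.TensorProduct.map L.val (AlgHom.id k S)) := by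
      intro L
      have := Module.Flat.rTensor_preserves_injective_linearMap (M := S) L.val.toLinearMap
        Subtype.val_injective
      intro a b hab
      exact this hab
    have hnt : Nontrivial (AlgebraicClosure k ⊗[k] S) := by
      have hinj : Function.Injective (Algebra.TensorProduct.map (Algebra.ofId k (AlgebraicClosure k))
          (AlgHom.id k S)) := by
        have := Module.Flat.rTensor_preserves_injective_linearMap (M := S)
          (Algebra.ofId k (AlgebraicClosure k)).toLinearMap (algebraMap k (AlgebraicClosure k)).injective
        intro a b hab
        exact this hab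
      exact hinj.nontrivial
    have hnzd : NoZeroDivisors (AlgebraicClosure k ⊗[k] S) := by
      refine ⟨fun {x y} hxy => ?_⟩
      obtain ⟨J, hJ, hsub⟩ := Submodule.exists_fg_le_subset_range_rTensor_subtype (R := k)
        ({x, y} : Set (AlgebraicClosure k ⊗[k] S)) (by simp)
      obtain ⟨t, ht⟩ := hJ
      let L : IntermediateField k (AlgebraicClosure k) := IntermediateField.adjoin k (t : Set (AlgebraicClosure k))
      have hLfin : FiniteDimensional k L :=
        IntermediateField.finiteDimensional_adjoin (fun z _ => Algebra.IsIntegral.isIntegral z)
      have hJL : J ≤ L.toSubalgebra.toSubmodule := by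
        rw [← ht]
        exact Submodule.span_le.mpr (IntermediateField.subset_adjoin k _)
      have hdom : IsDomain (L ⊗[k] S) := h L
      have hcomp : ∀ w : J ⊗[k] S, Algebra.TensorProduct.map L.val (AlgHom.id k S)
          ((Submodule.inclusion hJL).rTensor S w) = J.subtype.rTensor S w := by
        intro w
        induction w with
        | zero => simp
        | tmul a b => rfl
        | add u v hu hv => rw [map_add, map_add, map_add, hu, hv]
      have hrange : ∀ z ∈ ({x, y} : Set (AlgebraicClosure k ⊗[k] S)),
          ∃ z', Algebra.TensorProduct.map L.val (AlgHom.id k S) z' = z := by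
        intro z hz
        obtain ⟨w, hw⟩ := hsub hz
        exact ⟨(Submodule.inclusion hJL).rTensor S w, (hcomp w).trans hw⟩
      obtain ⟨x', rfl⟩ := hrange x (by simp)
      obtain ⟨y', rfl⟩ := hrange y (by simp)
      have h0 : x' * y' = 0 := hflat L (by rw [map_mul, hxy, map_zero])
      rcases mul_eq_zero.mp h0 with h1 | h1
      · left; rw [h1, map_zero]
      · right; rw [h1, map_zero]
    exact NoZeroDivisors.to_isDomain _
  tfae_have 3 → 1 := by
    intro h k' _ _
    let Ω := AlgebraicClosure k'
    letI : Algebra (AlgebraicClosure k) Ω :=
      (IsAlgClosed.lift : AlgebraicClosure k →ₐ[k] Ω).toRingHom.toAlgebra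
    haveI : IsScalarTower k (AlgebraicClosure k) Ω :=
      IsScalarTower.of_algebraMap_eq fun c =>
        ((IsAlgClosed.lift : AlgebraicClosure k →ₐ[k] Ω).commutes c).symm
    have h1 : IsDomain (Ω ⊗[AlgebraicClosure k] (AlgebraicClosure k ⊗[k] S)) :=
      Groth.Agent.Lib.Helper50.isDomain_tensorProduct_of_isAlgClosed
    have h2 : IsDomain (Ω ⊗[k] S) :=
      (Algebra.TensorProduct.cancelBaseChange k (AlgebraicClosure k) (AlgebraicClosure k) Ω S).toRingEquiv.isDomain_iff.mp h1
    have hinj : Function.Injective (Algebra.TensorProduct.map (IsScalarTower.toAlgHom k k' Ω)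
        (AlgHom.id k S)) := by
      have := Module.Flat.rTensor_preserves_injective_linearMap (M := S)
        (IsScalarTower.toAlgHom k k' Ω).toLinearMap (algebraMap k' Ω).injective
      intro a b hab
      exact this hab
    exact hinj.isDomain (Algebra.TensorProduct.map (IsScalarTower.toAlgHom k k' Ω)
        (AlgHom.id k S)).toRingHom
  tfae_finish

end Groth.Agent.S9629
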