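import Groth.Statements.S9633
import Mathlib.Topology.Separation.Hausdorff
import Mathlib.Topology.Connected.Separation

set_option autoImplicit false
universe u
open CAlg

namespace Groth.Agent.S9633

/-- For a ring R with spectrum X the following are equivalent: (1) X is profinite, i.e. compact,
Hausdorff and totally disconnected; (2) X is Hausdorff; (3) X is totally disconnected; (4) every
quasi-compact open subset of X is closed; (5) there are no nontrivial inclusions among prime ideals
of R; (6) every prime ideal of R is maximal; (7) every prime ideal of R is a minimal prime; (8)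
every standard open D(f) is closed. -/
theorem result {R : Type u} [CommRing R] :
    [CompactSpace (PrimeSpectrum R) ∧ T2Space (PrimeSpectrum R) ∧ TotallyDisconnectedSpace (PrimeSpectrum R),
      T2Space (PrimeSpectrum R),
      TotallyDisconnectedSpace (PrimeSpectrum R),
      ∀ W : Set (PrimeSpectrum R), IsOpen W → IsCompact W → IsClosed W,
      ∀ p q : PrimeSpectrum R, p ≤ q → p = q,
      ∀ p : Ideal R, p.IsPrime → p.IsMaximal,
      ∀ p : Ideal R, p.IsPrime → p ∈ minimalPrimes R,
      ∀ f : R, IsClosed (PrimeSpectrum.basicOpen f : Set (PrimeSpectrum R))].TFAE := by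
  tfae_have 1 → 2 := fun h => h.2.1
  tfae_have 1 → 3 := fun h => h.2.2
  tfae_have 2 → 5 := by
    intro h p q hpq
    have hmax : p.asIdeal.IsMaximal :=
      (PrimeSpectrum.isClosed_singleton_iff_isMaximal p).mp (isClosed_singleton)
    exact PrimeSpectrum.ext (hmax.eq_of_le q.2.ne_top hpq)
  tfae_have 3 → 5 := by
    intro h p q hpq
    have hpre : IsPreconnected (closure ({p} : Set (PrimeSpectrum R))) :=
      isPreconnected_singleton.closure
    have hq : q ∈ closure ({p} : Set (PrimeSpectrum R)) :=
      (PrimeSpectrum.le_iff_mem_closure p q).mp hpq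
    have hp : p ∈ closure ({p} : Set (PrimeSpectrum R)) := subset_closure rfl
    exact hpre.subsingleton hp hq
  tfae_have 5 → 6 := by
    intro h p hp
    obtain ⟨m, hm, hpm⟩ := Ideal.exists_le_maximal p hp.ne_top
    have := h ⟨p, hp⟩ ⟨m, hm.isPrime⟩ hpm
    have hpm' : p = m := congrArg PrimeSpectrum.asIdeal this
    rw [hpm']; exact hm
  tfae_have 6 → 7 := by
    intro h p hp
    refine ⟨⟨hp, bot_le⟩, ?_⟩
    rintro q ⟨hq, _⟩ hqp
    exact ((h q hq).eq_of_le hp.ne_top hqp).ge
  tfae_have 7 → 5 := by
    intro h p q hpq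
    have hq := h q.asIdeal q.2
    exact PrimeSpectrum.ext (le_antisymm hpq (hq.2 ⟨p.2, bot_le⟩ hpq))
  tfae_have 5 → 8 := by
    intro h f
    rw [← PrimeSpectrum.localization_away_comap_range (Localization.Away f) f]
    apply PrimeSpectrum.isClosed_range_of_stableUnderSpecialization
    intro x y hxy hx
    have := h x y ((PrimeSpectrum.le_iff_specializes x y).mpr hxy)
    rwa [← this]
  tfae_have 8 → 4 := by
    intro h W hWo hWc
    obtain ⟨t, rfl⟩ := PrimeSpectrum.isCompact_isOpen_iff.mp ⟨hWc, hWo⟩
    have : (PrimeSpectrum.zeroLocus (t : Set R))ᶜ =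
        ⋃ f ∈ t, (PrimeSpectrum.basicOpen f : Set (PrimeSpectrum R)) := by
      ext x
      simp only [Set.mem_compl_iff, PrimeSpectrum.mem_zeroLocus, Set.not_subset, Set.mem_iUnion,
        SetLike.mem_coe, PrimeSpectrum.mem_basicOpen, exists_prop]
    rw [this]
    exact t.finite_toSet.isClosed_biUnion fun f _ => h f
  tfae_have 4 → 8 := by
    intro h f
    exact h _ (PrimeSpectrum.basicOpen f).2 (PrimeSpectrum.isCompact_basicOpen f)
  tfae_have 8 → 1 := by
    intro h
    have hsep : ∀ x y : PrimeSpectrum R, x ≠ y →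
        ∃ U : Set (PrimeSpectrum R), IsClopen U ∧ x ∈ U ∧ y ∈ Uᶜ := by
      intro x y hxy
      have : ¬ (x.asIdeal ≤ y.asIdeal) ∨ ¬ (y.asIdeal ≤ x.asIdeal) := by
        by_contra hcon
        push Not at hcon
        exact hxy (PrimeSpectrum.ext (le_antisymm hcon.1 hcon.2))
      rcases this with hle | hle
      · obtain ⟨f, hfx, hfy⟩ := SetLike.not_le_iff_exists.mp hle
        refine ⟨(PrimeSpectrum.basicOpen f : Set (PrimeSpectrum R))ᶜ,
          ⟨(PrimeSpectrum.basicOpen f).2.isClosed_compl, (h f).isOpen_compl⟩, ?_, ?_⟩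
        · simpa using hfx
        · simpa using hfy
      · obtain ⟨f, hfy, hfx⟩ := SetLike.not_le_iff_exists.mp hle
        refine ⟨(PrimeSpectrum.basicOpen f : Set (PrimeSpectrum R)),
          ⟨h f, (PrimeSpectrum.basicOpen f).2⟩, ?_, ?_⟩
        · simpa using hfx
        · simpa using hfy
    haveI : TotallySeparatedSpace (PrimeSpectrum R) :=
      totallySeparatedSpace_iff_exists_isClopen.mpr hsep
    exact ⟨inferInstance, inferInstance, inferInstance⟩
  tfae_finish

end Groth.Agent.S9633
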