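import Groth.Statements.S9635
import Mathlib
import Groth.Agent.Lib.Helper50.GeomReducedSep

set_option autoImplicit false
universe u
open CAlg

namespace Groth.Agent.S9635

open TensorProduct in
/-- Let k ⊆ k' be fields with k' separable algebraic over k, and A a k'-algebra. Then A is geometrically
reduced over k (K ⊗_k A reduced for all field extensions K/k) if and only if A is geometrically
reduced over k' (K ⊗_{k'} A reduced for all field extensions K/k'). Here the test fields K range
over field extensions (of k, respectively of k') in the common universe of k and k'; this is
equivalent to the unrestricted notions, since an algebraic closure of the base field suffices as a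
test. -/
theorem result {k k' A : Type u} [Field k] [Field k'] [Algebra k k'] [Algebra.IsSeparable k k'] [CommRing A] [Algebra k' A] [Algebra k A] [IsScalarTower k k' A] :
    (∀ (K : Type u) [Field K] [Algebra k K], IsReduced (K ⊗[k] A)) ↔
      ∀ (K : Type u) [Field K] [Algebra k' K], IsReduced (K ⊗[k'] A) := by
    constructor
    · intro hk K _ _
      have h0 : IsReduced (AlgebraicClosure k' ⊗[k] A) := hk (AlgebraicClosure k')
      have h1 : IsReduced (A ⊗[k] AlgebraicClosure k') :=
        isReduced_of_injective (Algebra.TensorProduct.comm k A (AlgebraicClosure k'))
          (Algebra.TensorProduct.comm k A (AlgebraicClosure k')).injective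
      have : Algebra.IsAlgebraic k (AlgebraicClosure k') :=
        Algebra.IsAlgebraic.trans k k' (AlgebraicClosure k')
      have h2 : IsReduced (A ⊗[k'] AlgebraicClosure k') :=
        Groth.Agent.Lib.Helper50.isReduced_tensor_of_isSeparable_base (k := k) h1
      have h3 : IsReduced (AlgebraicClosure k' ⊗[k'] A) :=
        isReduced_of_injective (Algebra.TensorProduct.comm k' (AlgebraicClosure k') A)
          (Algebra.TensorProduct.comm k' (AlgebraicClosure k') A).injective
      have : Algebra.IsGeometricallyReduced k' A :=
        (Algebra.isGeometricallyReduced_field_iff k' A).mpr h3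
      exact Groth.Agent.Lib.Helper50.isReduced_tensor_of_isGeometricallyReduced
    · intro hk' K _ _
      have hT' : IsReduced (K ⊗[k] k') := Groth.Agent.Lib.Helper50.isReduced_tensor_of_isSeparable
      have hT : IsReduced (k' ⊗[k] K) :=
        isReduced_of_injective (Algebra.TensorProduct.comm k k' K)
          (Algebra.TensorProduct.comm k k' K).injective
      have h1 : IsReduced ((k' ⊗[k] K) ⊗[k'] A) :=
        Groth.Agent.Lib.Helper50.isReduced_tensor_of_fibers
          (fun p => hk' p.asIdeal.ResidueField)
      have h2 : IsReduced (A ⊗[k'] (k' ⊗[k] K)) :=
        isReduced_of_injective (Algebra.TensorProduct.comm k' A (k' ⊗[k] K))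
          (Algebra.TensorProduct.comm k' A (k' ⊗[k] K)).injective
      have h3 : IsReduced (A ⊗[k] K) :=
        isReduced_of_injective (Algebra.TensorProduct.cancelBaseChange k k' k' A K).symm
          (Algebra.TensorProduct.cancelBaseChange k k' k' A K).symm.injective
      exact isReduced_of_injective (Algebra.TensorProduct.comm k K A)
          (Algebra.TensorProduct.comm k K A).injective

end Groth.Agent.S9635
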