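import Groth.Statements.S9636
import Mathlib

set_option autoImplicit false
universe u
open CAlg

namespace Groth.Agent.S9636

open TensorProduct in
/-- Let k'/k be a separable algebraic field extension. Then for some multiplicative subset S of k' ⊗_k
k' the multiplication map k' ⊗_k k' → k' is a localization at S: there is a ring isomorphism S⁻¹(k'
⊗_k k') ≅ k' carrying the localization map to the multiplication map. -/
theorem result {k k' : Type u} [Field k] [Field k'] [Algebra k k'] [Algebra.IsSeparable k k'] :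
    ∃ (S : Submonoid (k' ⊗[k] k')) (e : Localization S ≃+* k'), ∀ x : k' ⊗[k] k', e (algebraMap (k' ⊗[k] k') (Localization S) x) = Algebra.TensorProduct.lmul' (S := k') k x := by
  classical
  -- key: every element of the kernel of the multiplication map is killed by an element outside it
  have gen : ∀ s : k', ∃ c : k' ⊗[k] k', Algebra.TensorProduct.lmul' (S := k') k c = 1 ∧
      c * ((1 : k') ⊗ₜ[k] s - s ⊗ₜ[k] (1 : k')) = 0 := by
    intro s
    have hfd : FiniteDimensional k (IntermediateField.adjoin k {s}) :=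
      IntermediateField.adjoin.finiteDimensional (Algebra.IsSeparable.isIntegral k s)
    have hsep : Algebra.IsSeparable k (IntermediateField.adjoin k {s}) :=
      Algebra.isSeparable_tower_bot_of_isSeparable k _ k'
    have hunr : Algebra.FormallyUnramified k (IntermediateField.adjoin k {s}) :=
      Algebra.FormallyUnramified.of_isSeparable k _
    let L := IntermediateField.adjoin k {s}
    let φ : L ⊗[k] L →ₐ[k] k' ⊗[k] k' := Algebra.TensorProduct.map L.val L.val
    let s' : L := ⟨s, IntermediateField.mem_adjoin_simple_self k s⟩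
    refine ⟨φ (Algebra.FormallyUnramified.elem k L), ?_, ?_⟩
    · have h1 : (Algebra.TensorProduct.lmul' (S := k') k).comp φ =
          L.val.comp (Algebra.TensorProduct.lmul' (S := L) k) := by
        ext x <;> simp [φ]
      have h2 := congrArg (fun f => f (Algebra.FormallyUnramified.elem k L)) h1
      simp only [AlgHom.comp_apply] at h2
      rw [h2, Algebra.FormallyUnramified.lmul_elem, map_one]
    · have h3 : ((1 : k') ⊗ₜ[k] s - s ⊗ₜ[k] (1 : k')) = φ ((1 : L) ⊗ₜ[k] s' - s' ⊗ₜ[k] (1 : L)) := by
        simp [φ, s']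
      rw [h3, ← map_mul, mul_comm (Algebra.FormallyUnramified.elem k L) _,
        Algebra.FormallyUnramified.one_tmul_sub_tmul_one_mul_elem, map_zero]
  have key : ∀ x ∈ RingHom.ker (Algebra.TensorProduct.lmul' (S := k') k : k' ⊗[k] k' →ₐ[k] k'),
      ∃ c : k' ⊗[k] k', Algebra.TensorProduct.lmul' (S := k') k c = 1 ∧ c * x = 0 := by
    intro x hx
    change x ∈ KaehlerDifferential.ideal k k' at hx
    rw [← KaehlerDifferential.span_range_eq_ideal] at hx
    induction hx using Submodule.span_induction with
    | mem y hy =>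
      obtain ⟨s, rfl⟩ := hy
      exact gen s
    | zero => exact ⟨1, map_one _, mul_zero _⟩
    | add y z _ _ hy hz =>
      obtain ⟨c, hc1, hc2⟩ := hy
      obtain ⟨d, hd1, hd2⟩ := hz
      refine ⟨c * d, by rw [map_mul, hc1, hd1, one_mul], ?_⟩
      rw [mul_add, mul_right_comm, hc2, zero_mul, mul_assoc, hd2, mul_zero, add_zero]
    | smul a y _ hy =>
      obtain ⟨c, hc1, hc2⟩ := hy
      exact ⟨c, hc1, by rw [smul_eq_mul, mul_left_comm, hc2, mul_zero]⟩
  letI : Algebra (k' ⊗[k] k') k' :=
    (Algebra.TensorProduct.lmul' (S := k') k : k' ⊗[k] k' →ₐ[k] k').toRingHom.toAlgebra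
  have hprime : (RingHom.ker (Algebra.TensorProduct.lmul' (S := k') k : k' ⊗[k] k' →ₐ[k] k')).IsPrime :=
    RingHom.ker_isPrime _
  have hloc : IsLocalization (RingHom.ker (Algebra.TensorProduct.lmul' (S := k') k :
      k' ⊗[k] k' →ₐ[k] k')).primeCompl k' := by
    refine ⟨?_, ?_, ?_⟩
    · rintro ⟨y, hy⟩
      exact isUnit_iff_ne_zero.mpr hy
    · intro z
      refine ⟨(z ⊗ₜ[k] (1 : k'), 1), ?_⟩
      change z * Algebra.TensorProduct.lmul' (S := k') k 1 = Algebra.TensorProduct.lmul' (S := k') k (z ⊗ₜ[k] (1 : k'))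
      simp
    · intro x y hxy
      have hxy' : x - y ∈ RingHom.ker (Algebra.TensorProduct.lmul' (S := k') k :
          k' ⊗[k] k' →ₐ[k] k') := by
        rw [RingHom.mem_ker, map_sub, sub_eq_zero]
        exact hxy
      obtain ⟨c, hc1, hc2⟩ := key _ hxy'
      refine ⟨⟨c, ?_⟩, ?_⟩
      · change c ∉ RingHom.ker _
        rw [RingHom.mem_ker]
        change Algebra.TensorProduct.lmul' (S := k') k c ≠ 0
        rw [hc1]
        exact one_ne_zero
      · rw [mul_sub, sub_eq_zero] at hc2
        exact hc2
  refine ⟨_, (IsLocalization.algEquiv (RingHom.ker (Algebra.TensorProduct.lmul' (S := k') k :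
      k' ⊗[k] k' →ₐ[k] k')).primeCompl (Localization (RingHom.ker (Algebra.TensorProduct.lmul' (S := k') k :
      k' ⊗[k] k' →ₐ[k] k')).primeCompl) k').toRingEquiv, fun x => ?_⟩
  change (IsLocalization.algEquiv _ _ k') (algebraMap _ _ x) = _
  rw [AlgEquiv.commutes]
  rfl

end Groth.Agent.S9636
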