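import Groth.Statements.S9637
import Mathlib.RingTheory.Regular.LinearMap

set_option autoImplicit false
universe u
open CAlg

namespace Groth.Agent.S9637

/-- Let R be a local Noetherian ring, I an ideal contained in its maximal ideal, and M a finite
R-module. Then I contains an M-regular element (one acting injectively on M) if and only if no
associated prime of M contains I. -/
theorem result {R : Type u} [CommRing R] [IsNoetherianRing R] [IsLocalRing R] (I : Ideal R) (hI : I ≤ IsLocalRing.maximalIdeal R) (M : Type u) [AddCommGroup M] [Module R M] [Module.Finite R M] :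
    (∃ x ∈ I, IsSMulRegular M x) ↔ ∀ q ∈ associatedPrimes R M, ¬ I ≤ q := by
  constructor
  · rintro ⟨x, hxI, hx⟩ q hq hIq
    have hxq : x ∈ q := hIq hxI
    have : x ∈ ⋃ p ∈ associatedPrimes R M, (p : Set R) := Set.mem_biUnion hq hxq
    rw [biUnion_associatedPrimes_eq_compl_regular R M] at this
    exact this hx
  · intro h
    by_contra hcon
    push_neg at hcon
    rcases subsingleton_or_nontrivial M with hM | hM
    · exact hcon 0 I.zero_mem (IsSMulRegular.zero)
    · obtain ⟨Ia, hIa⟩ := associatedPrimes.nonempty R M
      have hexist : ∃ p ∈ associatedPrimes R M, I ≤ p := by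
        apply (Ideal.subset_union_prime_finite (associatedPrimes.finite R M) Ia Ia _).mp
        · rw [biUnion_associatedPrimes_eq_compl_regular R M]
          exact fun r hr ↦ hcon r hr
        · exact fun J hin _ _ ↦ IsAssociatedPrime.isPrime hin
      obtain ⟨p, hp, hIp⟩ := hexist
      exact h p hp hIp

end Groth.Agent.S9637
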