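import Groth.Statements.S9638
import Groth.Agent.Lib.Helper50.AssLocalization

set_option autoImplicit false
universe u
open CAlg

namespace Groth.Agent.S9638

/-- Let R → S be a ring map with R a domain with fraction field K, and N an S-module flat over R.
Writing T for the image in S of the nonzero elements of R, so that T⁻¹S = S ⊗_R K and T⁻¹N = N ⊗_R
K, the associated primes of N over S (primes equal to the annihilator of an element) coincide with
those of T⁻¹N over S, and these are exactly the inverse images in S of the associated primes of T⁻¹N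
over T⁻¹S. -/
theorem result {R S : Type u} [CommRing R] [IsDomain R] [CommRing S] [Algebra R S] (N : Type u) [AddCommGroup N] [Module S N] [Module R N] [IsScalarTower R S N] [Module.Flat R N] :
    FlatCA.ass S N = FlatCA.ass S (LocalizedModule (Algebra.algebraMapSubmonoid S (nonZeroDivisors R)) N) ∧
      FlatCA.ass S N = Ideal.comap (algebraMap S (Localization (Algebra.algebraMapSubmonoid S (nonZeroDivisors R)))) '' FlatCA.ass (Localization (Algebra.algebraMapSubmonoid S (nonZeroDivisors R))) (LocalizedModule (Algebra.algebraMapSubmonoid S (nonZeroDivisors R)) N) := by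
  have part1 : FlatCA.ass S N = FlatCA.ass S
      (LocalizedModule (Algebra.algebraMapSubmonoid S (nonZeroDivisors R)) N) := by
    ext q
    rw [Groth.Agent.Lib.Helper50.mem_ass_iff, Groth.Agent.Lib.Helper50.mem_ass_iff]
    refine and_congr Iff.rfl ⟨?_, ?_⟩
    · rintro ⟨n, hn⟩
      exact ⟨LocalizedModule.mk n 1, fun s => by
        rw [hn, Groth.Agent.Lib.Helper50.smul_localizedModule_mk_eq_zero_iff]⟩
    · rintro ⟨x, hx⟩
      induction x using LocalizedModule.induction_on with
      | h n t => exact ⟨n, fun s => by
          rw [hx, Groth.Agent.Lib.Helper50.smul_localizedModule_mk_eq_zero_iff]⟩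
  refine ⟨part1, ?_⟩
  ext q
  constructor
  · intro hq
    rw [Groth.Agent.Lib.Helper50.mem_ass_iff] at hq
    obtain ⟨hq', n, hn⟩ := hq
    have key : ∀ (s : S) (u : Algebra.algebraMapSubmonoid S (nonZeroDivisors R)),
        Localization.mk s u ∈ (Submodule.span (Localization (Algebra.algebraMapSubmonoid S (nonZeroDivisors R)))
          {LocalizedModule.mk n (1 : Algebra.algebraMapSubmonoid S (nonZeroDivisors R))}).annihilator ↔ s ∈ q := by
      intro s u
      rw [Submodule.mem_annihilator_span_singleton,
        Groth.Agent.Lib.Helper50.localization_mk_smul_mk_eq_zero_iff, hn]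
    refine ⟨(Submodule.span (Localization (Algebra.algebraMapSubmonoid S (nonZeroDivisors R)))
      {LocalizedModule.mk n (1 : Algebra.algebraMapSubmonoid S (nonZeroDivisors R))}).annihilator,
      ⟨⟨?_, ?_⟩, _, rfl⟩, ?_⟩
    · intro h
      have h1 : (1 : Localization (Algebra.algebraMapSubmonoid S (nonZeroDivisors R))) ∈
        (Submodule.span (Localization (Algebra.algebraMapSubmonoid S (nonZeroDivisors R)))
          {LocalizedModule.mk n (1 : Algebra.algebraMapSubmonoid S (nonZeroDivisors R))}).annihilator :=
        h ▸ Submodule.mem_top
      rw [← Localization.mk_one, key] at h1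
      exact hq'.ne_top ((Ideal.eq_top_iff_one _).mpr h1)
    · intro x y hxy
      induction x using Localization.induction_on with | H x =>
      induction y using Localization.induction_on with | H y =>
      rw [Localization.mk_mul, key] at hxy
      rw [key, key]
      exact hq'.mem_or_mem hxy
    · ext s
      rw [Ideal.mem_comap, Submodule.mem_annihilator_span_singleton, algebraMap_smul,
        Groth.Agent.Lib.Helper50.smul_localizedModule_mk_eq_zero_iff, hn]
  · rintro ⟨P, hP, rfl⟩
    rw [part1]
    rw [Groth.Agent.Lib.Helper50.mem_ass_iff] at hP ⊢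
    obtain ⟨hP', x, hx⟩ := hP
    refine ⟨Ideal.comap_isPrime _ _, x, fun s => ?_⟩
    rw [Ideal.mem_comap, hx, algebraMap_smul]

end Groth.Agent.S9638
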