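import Groth.Statements.S9640
import Groth.Agent.Lib.Helper50.AssLocalization

set_option autoImplicit false
universe u
open CAlg

namespace Groth.Agent.S9640

/-- Let R → S be a ring map with R a domain with fraction field K and N an S-module flat over R. Writing
T for the image in S of the nonzero elements of R, so that T⁻¹S = S ⊗_R K and T⁻¹N = N ⊗_R K, the
primes of S weakly associated to N are exactly the inverse images in S of the primes of T⁻¹S weakly
associated to T⁻¹N. -/
theorem result {R S : Type u} [CommRing R] [IsDomain R] [CommRing S] [Algebra R S] (N : Type u) [AddCommGroup N] [Module S N] [Module R N] [IsScalarTower R S N] [Module.Flat R N] :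
    FlatCA.weakAss S N = Ideal.comap (algebraMap S (Localization (Algebra.algebraMapSubmonoid S (nonZeroDivisors R)))) '' FlatCA.weakAss (Localization (Algebra.algebraMapSubmonoid S (nonZeroDivisors R))) (LocalizedModule (Algebra.algebraMapSubmonoid S (nonZeroDivisors R)) N) := by
  have key : ∀ (n : N) (t : Algebra.algebraMapSubmonoid S (nonZeroDivisors R)),
      ((Submodule.span (Localization (Algebra.algebraMapSubmonoid S (nonZeroDivisors R)))
        {LocalizedModule.mk n t}).annihilator).comap
        (algebraMap S (Localization (Algebra.algebraMapSubmonoid S (nonZeroDivisors R)))) =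
        (Submodule.span S {n}).annihilator := by
    intro n t
    ext s
    rw [Ideal.mem_comap, Submodule.mem_annihilator_span_singleton,
      Submodule.mem_annihilator_span_singleton, algebraMap_smul,
      Groth.Agent.Lib.Helper50.smul_localizedModule_mk_eq_zero_iff]
  ext q
  constructor
  · rintro ⟨n, hn⟩
    change q ∈ (Submodule.span S {n}).annihilator.minimalPrimes at hn
    rw [← key n 1, IsLocalization.minimalPrimes_comap
      (Algebra.algebraMapSubmonoid S (nonZeroDivisors R))] at hn
    obtain ⟨P, hP, rfl⟩ := hn
    exact ⟨P, ⟨_, hP⟩, rfl⟩
  · rintro ⟨P, ⟨x, hx⟩, rfl⟩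
    induction x using LocalizedModule.induction_on with
    | h n t =>
      refine ⟨n, ?_⟩
      change _ ∈ (Submodule.span S {n}).annihilator.minimalPrimes
      rw [← key n t, IsLocalization.minimalPrimes_comap
        (Algebra.algebraMapSubmonoid S (nonZeroDivisors R))]
      exact ⟨P, hx, rfl⟩

end Groth.Agent.S9640
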