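import Groth.Statements.S9641
import Mathlib.RingTheory.Flat.Basic
import Mathlib.LinearAlgebra.Basis.VectorSpace

set_option autoImplicit false
universe u
open CAlg

namespace Groth.Agent.S9641

open TensorProduct in
/-- Let k be a field and R, S two k-algebras. If R ⊗_k S is not reduced then there are finitely
generated k-subalgebras R' ⊆ R and S' ⊆ S such that R' ⊗_k S' is not reduced. -/
theorem result {k R S : Type u} [Field k] [CommRing R] [CommRing S] [Algebra k R] [Algebra k S] (h : ¬ IsReduced (R ⊗[k] S)) :
    ∃ (R' : Subalgebra k R) (S' : Subalgebra k S), R'.FG ∧ S'.FG ∧ ¬ IsReduced (R' ⊗[k] S') := by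
  by_contra hcon
  push Not at hcon
  apply h
  have h1 : ∀ R' : Subalgebra k R, R'.FG → IsReduced (R' ⊗[k] S) := by
    intro R' hR'
    apply IsReduced.tensorProduct_of_flat_of_forall_fg
    intro S' hS'
    exact hcon R' S' hR' hS'
  have h2 : ∀ R' : Subalgebra k R, R'.FG → IsReduced (S ⊗[k] R') := by
    intro R' hR'
    haveI := h1 R' hR'
    exact isReduced_of_injective (Algebra.TensorProduct.comm k S R').toRingHom
      (Algebra.TensorProduct.comm k S R').injective
  haveI : IsReduced (S ⊗[k] R) := IsReduced.tensorProduct_of_flat_of_forall_fg h2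
  exact isReduced_of_injective (Algebra.TensorProduct.comm k R S).toRingHom
    (Algebra.TensorProduct.comm k R S).injective

end Groth.Agent.S9641
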