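import Groth.Statements.S9643
-- import your own Groth.Agent.* helpers here

set_option autoImplicit false
universe u
open CAlg

namespace Groth.Agent.S9643

/-- Let R be a Noetherian ring, M a finite R-module and 0 = M_0 ⊆ M_1 ⊆ ⋯ ⊆ M_n = M a chain of
submodules whose successive quotients M_i/M_{i-1} are isomorphic to R/p_i for prime ideals p_i. Then
the primes minimal among p_1, …, p_n are exactly the primes minimal in the support of M. -/
theorem result {R : Type u} [CommRing R] [IsNoetherianRing R] (M : Type u) [AddCommGroup M] [Module R M] [Module.Finite R M]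
    {n : ℕ} (N : Fin (n + 1) → Submodule R M) (hN : Monotone N) (h0 : N 0 = ⊥) (hlast : N (Fin.last n) = ⊤)
    (p : Fin n → PrimeSpectrum R)
    (hquot : ∀ i : Fin n, Nonempty ((↥(N i.succ) ⧸ Submodule.comap (N i.succ).subtype (N i.castSucc)) ≃ₗ[R] (R ⧸ (p i).asIdeal))) :
    {q : PrimeSpectrum R | Minimal (fun x => x ∈ Set.range p) q} = {q : PrimeSpectrum R | Minimal (fun x => x ∈ Module.support R M) q} := by
  classical
  -- support of the k-th step of the filtration
  have hsupp : ∀ (k : ℕ) (hk : k < n + 1) (q : PrimeSpectrum R),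
      q ∈ Module.support R ↥(N ⟨k, hk⟩) ↔ ∃ i : Fin n, i.val < k ∧ (p i).asIdeal ≤ q.asIdeal := by
    intro k
    induction k with
    | zero =>
      intro hk q
      have h0' : N ⟨0, hk⟩ = ⊥ := h0
      have : Subsingleton ↥(N ⟨0, hk⟩) := by rw [h0']; infer_instance
      rw [Module.support_eq_empty]
      simp
    | succ k ih =>
      intro hk q
      have hk' : k < n := Nat.lt_of_succ_lt_succ hk
      set i : Fin n := ⟨k, hk'⟩ with hi
      have hle : N i.castSucc ≤ N i.succ := hN (Fin.castSucc_lt_succ).le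
      obtain ⟨e⟩ := hquot i
      have hex : Function.Exact (Submodule.inclusion hle)
          (Submodule.comap (N i.succ).subtype (N i.castSucc)).mkQ := by
        rw [LinearMap.exact_iff, Submodule.ker_mkQ, Submodule.range_inclusion]
      have hs := Module.support_of_exact hex (Submodule.inclusion_injective hle)
        (Submodule.mkQ_surjective _)
      have hq : Module.support R (↥(N i.succ) ⧸ Submodule.comap (N i.succ).subtype (N i.castSucc)) =
          PrimeSpectrum.zeroLocus (p i).asIdeal := by
        rw [e.support_eq, Module.support_eq_zeroLocus, Ideal.annihilator_quotient]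
      have hsucc : (⟨k + 1, hk⟩ : Fin (n + 1)) = i.succ := rfl
      have hcast : (⟨k, Nat.lt_succ_of_lt hk'⟩ : Fin (n + 1)) = i.castSucc := rfl
      have ih' : q ∈ Module.support R ↥(N i.castSucc) ↔
          ∃ j : Fin n, j.val < k ∧ (p j).asIdeal ≤ q.asIdeal := ih (Nat.lt_succ_of_lt hk') q
      rw [hsucc, hs, Set.mem_union, ih', hq,
        PrimeSpectrum.mem_zeroLocus, SetLike.coe_subset_coe]
      constructor
      · rintro (⟨j, hj, hjq⟩ | h)
        · exact ⟨j, Nat.lt_succ_of_lt hj, hjq⟩
        · exact ⟨i, Nat.lt_succ_self k, h⟩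
      · rintro ⟨j, hj, hjq⟩
        rcases Nat.lt_succ_iff_lt_or_eq.mp hj with h | h
        · exact Or.inl ⟨j, h, hjq⟩
        · right
          have : j = i := Fin.ext h
          rw [← this]; exact hjq
  have hM : ∀ q : PrimeSpectrum R, q ∈ Module.support R M ↔ ∃ i : Fin n, (p i).asIdeal ≤ q.asIdeal := by
    intro q
    have h1 : Module.support R M = Module.support R ↥(N (Fin.last n)) := by
      rw [hlast]
      exact (Submodule.topEquiv (R := R) (M := M)).symm.support_eq
    rw [h1]
    have := hsupp n (Nat.lt_succ_self n) q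
    rw [show (⟨n, Nat.lt_succ_self n⟩ : Fin (n + 1)) = Fin.last n from rfl] at this
    rw [this]
    constructor
    · rintro ⟨i, _, h⟩; exact ⟨i, h⟩
    · rintro ⟨i, h⟩; exact ⟨i, i.2, h⟩
  have hpmem : ∀ i, p i ∈ Module.support R M := fun i => (hM (p i)).mpr ⟨i, le_rfl⟩
  ext q
  simp only [Set.mem_ofPred_eq]
  constructor
  · intro hq
    obtain ⟨⟨i, rfl⟩, hmin⟩ := hq
    refine ⟨hpmem i, ?_⟩
    intro q' hq' hle
    obtain ⟨j, hj⟩ := (hM q').mp hq'
    have h1 : p j ≤ p i := le_trans (show p j ≤ q' from hj) hle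
    have h2 : p i ≤ p j := hmin ⟨j, rfl⟩ h1
    exact le_trans h2 hj
  · intro hq
    obtain ⟨hqs, hmin⟩ := hq
    obtain ⟨i, hi⟩ := (hM q).mp hqs
    have h1 : q ≤ p i := hmin (hpmem i) hi
    have hqi : q = p i := le_antisymm h1 hi
    refine ⟨⟨i, hqi.symm⟩, ?_⟩
    rintro _ ⟨j, rfl⟩ hle
    exact hmin (hpmem j) hle

end Groth.Agent.S9643
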