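import Groth.Statements.S9644
import Mathlib

set_option autoImplicit false
universe u
open CAlg

namespace Groth.Agent.S9644

-- HELPERS BEGIN
section
variable (R : Type u) [CommRing R] (M : Type u) [AddCommGroup M] [Module R M]

/-- elements vanishing at every minimal prime of the support -/
def KK : Submodule R M where
  carrier := {m | ∀ p ∈ (Module.annihilator R M).minimalPrimes, ∃ s ∉ p, s • m = 0}
  add_mem' := by
    intro a b ha hb p hp
    obtain ⟨s, hs, hsa⟩ := ha p hp
    obtain ⟨t, ht, htb⟩ := hb p hp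
    have hpr : p.IsPrime := hp.1.1
    refine ⟨s * t, fun h => (hpr.mem_or_mem h).elim hs ht, ?_⟩
    have h1 : (s * t) • a = 0 := by rw [mul_comm, mul_smul, hsa, smul_zero]
    have h2 : (s * t) • b = 0 := by rw [mul_smul, htb, smul_zero]
    rw [smul_add, h1, h2, add_zero]
  zero_mem' := fun p hp => ⟨1, (Ideal.ne_top_iff_one p).mp hp.1.1.ne_top, smul_zero 1⟩
  smul_mem' := fun c m hm p hp => by
    obtain ⟨s, hs, hsm⟩ := hm p hp
    exact ⟨s, hs, by rw [smul_comm, hsm, smul_zero]⟩

variable {R M}

lemma mem_KK {m : M} : m ∈ KK R M ↔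
    ∀ p ∈ (Module.annihilator R M).minimalPrimes, ∃ s ∉ p, s • m = 0 := Iff.rfl

/-- if `m` does not vanish at the minimal prime `p`, neither does its class mod `KK`. -/
lemma smul_mkQ_ne_zero {p : Ideal R} (hp : p ∈ (Module.annihilator R M).minimalPrimes) {m : M}
    (hm : ∀ r ∉ p, r • m ≠ 0) : ∀ r ∉ p, r • (KK R M).mkQ m ≠ 0 := by
  intro r hr h0
  have hpr : p.IsPrime := hp.1.1
  rw [← map_smul, Submodule.mkQ_apply, Submodule.Quotient.mk_eq_zero] at h0
  obtain ⟨s, hs, hsm⟩ := h0 p hp
  rw [← mul_smul] at hsm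
  exact hm (s * r) (fun h => (hpr.mem_or_mem h).elim hs hr) hsm

variable [Module.Finite R M]

lemma minimal_mem_support_quot {p : Ideal R} (hp : p ∈ (Module.annihilator R M).minimalPrimes) :
    (⟨p, hp.1.1⟩ : PrimeSpectrum R) ∈ Module.support R (M ⧸ KK R M) := by
  have h1 : (⟨p, hp.1.1⟩ : PrimeSpectrum R) ∈ Module.support R M :=
    Module.mem_support_iff_of_finite.mpr hp.1.2
  rw [Module.mem_support_iff'] at h1 ⊢
  obtain ⟨m, hm⟩ := h1
  exact ⟨(KK R M).mkQ m, smul_mkQ_ne_zero hp hm⟩

end
section parts
variable {R : Type u} [CommRing R] [IsNoetherianRing R] {M : Type u} [AddCommGroup M] [Module R M]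
  [Module.Finite R M]

lemma KK_mem (U : Set (PrimeSpectrum R)) (hU : IsOpen U)
    (hsub : U ∩ Module.support R M ⊆ closure (Module.support R ↥(KK R M))) :
    U ∩ Module.support R M = ∅ := by
  by_contra hne
  obtain ⟨q, hqU, hqM⟩ := Set.nonempty_iff_ne_empty.mpr hne
  have hann : Module.annihilator R M ≤ q.asIdeal := Module.mem_support_iff_of_finite.mp hqM
  obtain ⟨p, hp, hpq⟩ := Ideal.exists_minimalPrimes_le hann
  let P : PrimeSpectrum R := ⟨p, hp.1.1⟩
  have hPq : P ⤳ q := (PrimeSpectrum.le_iff_specializes P q).mp hpq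
  have hPU : P ∈ U := hPq.mem_open hU hqU
  have hPM : P ∈ Module.support R M := Module.mem_support_iff_of_finite.mpr hp.1.2
  have hPK : P ∈ Module.support R ↥(KK R M) := by
    have := hsub ⟨hPU, hPM⟩
    rwa [Module.isClosed_support.closure_eq] at this
  rw [Module.mem_support_iff'] at hPK
  obtain ⟨k, hk⟩ := hPK
  obtain ⟨s, hs, hsk⟩ := k.2 p hp
  exact hk s hs (Subtype.ext hsk)

lemma le_KK (K' : Submodule R M)
    (hK' : ∀ U : Set (PrimeSpectrum R), IsOpen U →
      U ∩ Module.support R M ⊆ closure (Module.support R ↥K') → U ∩ Module.support R M = ∅) :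
    K' ≤ KK R M := by
  intro m hm p hp
  by_contra hcon
  push Not at hcon
  let P : PrimeSpectrum R := ⟨p, hp.1.1⟩
  have hPK' : P ∈ Module.support R ↥K' := by
    rw [Module.mem_support_iff']
    exact ⟨⟨m, hm⟩, fun r hr h0 => hcon r hr (congrArg Subtype.val h0)⟩
  have hfin := Ideal.finite_minimalPrimes_of_isNoetherianRing R (Module.annihilator R M)
  let T : Set (Ideal R) := (Module.annihilator R M).minimalPrimes \ {p}
  have hTfin : T.Finite := hfin.subset Set.sdiff_subset
  let Z : Set (PrimeSpectrum R) := ⋃ p' ∈ T, PrimeSpectrum.zeroLocus (p' : Set R)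
  have hZ : IsClosed Z := hTfin.isClosed_biUnion fun p' _ => PrimeSpectrum.isClosed_zeroLocus _
  have hsub : Zᶜ ∩ Module.support R M ⊆ closure (Module.support R ↥K') := by
    rintro q ⟨hqZ, hqM⟩
    apply subset_closure
    have hann : Module.annihilator R M ≤ q.asIdeal := Module.mem_support_iff_of_finite.mp hqM
    obtain ⟨p', hp', hp'q⟩ := Ideal.exists_minimalPrimes_le hann
    have hpp : p' = p := by
      by_contra hne
      apply hqZ
      simp only [Z, Set.mem_iUnion]
      exact ⟨p', ⟨hp', hne⟩, by rw [PrimeSpectrum.mem_zeroLocus]; exact hp'q⟩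
    subst hpp
    exact Module.mem_support_mono (p := P) hp'q hPK'
  have hempty := hK' Zᶜ hZ.isOpen_compl hsub
  have hPZ : P ∈ Zᶜ := by
    intro hPZ
    simp only [Z, Set.mem_iUnion] at hPZ
    obtain ⟨p', ⟨hp', hne⟩, hle⟩ := hPZ
    rw [PrimeSpectrum.mem_zeroLocus] at hle
    exact hne (le_antisymm hle (hp.2 hp'.1 hle))
  have hPM : P ∈ Module.support R M := Module.mem_support_iff_of_finite.mpr hp.1.2
  have : P ∈ Zᶜ ∩ Module.support R M := ⟨hPZ, hPM⟩
  rw [hempty] at this
  exact this

lemma support_quot : Module.support R (M ⧸ KK R M) = Module.support R M := by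
  apply subset_antisymm (Module.support_subset_of_surjective _ (Submodule.mkQ_surjective _))
  intro q hqM
  have hann := Module.mem_support_iff_of_finite.mp hqM
  obtain ⟨p, hp, hpq⟩ := Ideal.exists_minimalPrimes_le hann
  exact Module.mem_support_mono (p := ⟨p, hp.1.1⟩) hpq (minimal_mem_support_quot hp)

lemma ass_quot_subset :
    associatedPrimes R (M ⧸ KK R M) ⊆ (Module.annihilator R M).minimalPrimes := by
  intro q hq
  rw [AssociatedPrimes.mem_iff, isAssociatedPrime_iff] at hq
  obtain ⟨hqp, x, hx⟩ := hq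
  obtain ⟨m, rfl⟩ := Submodule.mkQ_surjective _ x
  have hmem : ∀ a, a ∈ q ↔ a • m ∈ KK R M := by
    intro a
    rw [hx, Submodule.mem_colon_singleton, Submodule.mem_bot, ← map_smul, Submodule.mkQ_apply,
      Submodule.Quotient.mk_eq_zero]
  have hm : m ∉ KK R M := by
    intro hm
    apply hqp.ne_top
    rw [Ideal.eq_top_iff_one, hmem, one_smul]
    exact hm
  rw [mem_KK] at hm
  push Not at hm
  obtain ⟨p, hp, hpm⟩ := hm
  have hqp' : q ≤ p := by
    intro a ha
    rw [hmem] at ha
    obtain ⟨s, hs, hsa⟩ := ha p hp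
    rw [← mul_smul] at hsa
    by_contra hap
    exact hpm (s * a) (fun h => (hp.1.1.mem_or_mem h).elim hs hap) hsa
  have hannq : Module.annihilator R M ≤ q := by
    intro a ha
    rw [hmem, Module.mem_annihilator.mp ha m]
    exact zero_mem _
  have hpq : p ≤ q := hp.2 ⟨hqp, hannq⟩ hqp'
  rw [le_antisymm hqp' hpq]
  exact hp

lemma exists_pow_smul_eq_zero (f : R)
    (hf : ∀ p ∈ associatedPrimes R M, ¬ Minimal (fun x => x ∈ associatedPrimes R M) p → f ∈ p)
    (k : M) (hk : k ∈ KK R M) : ∃ n : ℕ, f ^ n • k = 0 := by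
  set N : Submodule R M := Submodule.span R {k} with hN
  have hrad : f ∈ (N.annihilator).radical := by
    rw [← Ideal.sInf_minimalPrimes, Submodule.mem_sInf]
    intro (P : Ideal R) hP
    have hPN : P ∈ associatedPrimes R ↥N :=
      Module.associatedPrimes.minimalPrimes_annihilator_subset_associatedPrimes R ↥N hP
    have hPM : P ∈ associatedPrimes R M :=
      associatedPrimes.subset_of_injective (f := N.subtype) N.injective_subtype hPN
    apply hf P hPM
    intro hmin
    have hannP : Module.annihilator R M ≤ P := by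
      have := IsAssociatedPrime.annihilator_le hPM
      rwa [Submodule.annihilator_top] at this
    have hPpr : Ideal.IsPrime P := IsAssociatedPrime.isPrime hPM
    obtain ⟨p', hp', hp'P⟩ := Ideal.exists_minimalPrimes_le hannP
    have hp'M : p' ∈ associatedPrimes R M :=
      Module.associatedPrimes.minimalPrimes_annihilator_subset_associatedPrimes R M hp'
    have hle : P ≤ p' := hmin.2 hp'M hp'P
    have hPeq : P = p' := le_antisymm hle hp'P
    subst hPeq
    obtain ⟨s, hs, hsk⟩ := hk P hp'
    apply hs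
    apply hP.1.2
    rw [hN, Submodule.mem_annihilator_span_singleton]
    exact hsk
  obtain ⟨n, hn⟩ := hrad
  exact ⟨n, (Submodule.mem_annihilator_span_singleton k _).mp hn⟩

lemma bijective_map (f : R)
    (hf : ∀ p ∈ associatedPrimes R M, ¬ Minimal (fun x => x ∈ associatedPrimes R M) p → f ∈ p) :
    Function.Bijective (LocalizedModule.map (Submonoid.powers f) (KK R M).mkQ) := by
  refine ⟨?_, LocalizedModule.map_surjective _ _ (Submodule.mkQ_surjective _)⟩
  rw [injective_iff_map_eq_zero]
  intro x hx
  induction x using LocalizedModule.induction_on with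
  | h m s =>
    rw [LocalizedModule.map_mk, ← LocalizedModule.zero_mk s, LocalizedModule.mk_eq] at hx
    obtain ⟨u, hu⟩ := hx
    rw [smul_zero, smul_zero, ← mul_smul, Submonoid.smul_def, ← map_smul, Submodule.mkQ_apply,
      Submodule.Quotient.mk_eq_zero] at hu
    obtain ⟨n, hn⟩ := exists_pow_smul_eq_zero f hf _ hu
    rw [← LocalizedModule.zero_mk 1, LocalizedModule.mk_eq]
    refine ⟨⟨f ^ n, n, rfl⟩ * (u * s), ?_⟩
    rw [smul_zero, smul_zero, one_smul, Submonoid.smul_def, Submonoid.coe_mul, mul_smul]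
    exact hn

end parts
-- HELPERS END


/-- Let R be a Noetherian ring and M a finite R-module. Among the submodules K' of M whose support is
nowhere dense inside Supp(M) there is a largest one, K. The quotient M' = M/K then satisfies
Supp(M') = Supp(M), its associated primes are pairwise incomparable (no embedded ones), and whenever
f ∈ R belongs to every embedded associated prime of M the localized map M_f → M'_f is bijective. -/
theorem result {R : Type u} [CommRing R] [IsNoetherianRing R] (M : Type u) [AddCommGroup M] [Module R M] [Module.Finite R M] :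
    ∃ K : Submodule R M,
      IsGreatest {K' : Submodule R M | ∀ U : Set (PrimeSpectrum R), IsOpen U → U ∩ Module.support R M ⊆ closure (Module.support R ↥K') → U ∩ Module.support R M = ∅} K ∧
      Module.support R (M ⧸ K) = Module.support R M ∧
      (∀ p ∈ associatedPrimes R (M ⧸ K), ∀ q ∈ associatedPrimes R (M ⧸ K), p ≤ q → p = q) ∧
      ∀ f : R, (∀ p ∈ associatedPrimes R M, ¬ Minimal (fun x => x ∈ associatedPrimes R M) p → f ∈ p) →
        Function.Bijective (LocalizedModule.map (Submonoid.powers f) K.mkQ) := by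
  refine ⟨KK R M, ⟨fun U hU hsub => KK_mem U hU hsub, fun K' hK' => le_KK K' hK'⟩, support_quot,
    ?_, fun f hf => bijective_map f hf⟩
  intro p hp q hq hpq
  have hp' := ass_quot_subset hp
  have hq' := ass_quot_subset hq
  exact le_antisymm hpq (hq'.2 hp'.1 hpq)

end Groth.Agent.S9644
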