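import Groth.Statements.S9646
import Mathlib.RingTheory.Localization.Integral

set_option autoImplicit false
universe u
open CAlg

namespace Groth.Agent.S9646

/-- (2) ⇒ (1): let R → S be a ring map and x ∈ S. If for every prime ideal p of R the image of x in S_p
(the localization of S at the image of R ∖ p) is integral over R_p, then x is integral over R. Here
R_p and S_p are any rings satisfying the localization universal properties. -/
theorem result {R S : Type u} [CommRing R] [CommRing S] [Algebra R S] (x : S)
    (h : ∀ (p : Ideal R) [p.IsPrime] (Rp Sp : Type u) [CommRing Rp] [CommRing Sp] [Algebra R Rp] [Algebra S Sp] [Algebra Rp Sp] [Algebra R Sp] [IsScalarTower R S Sp] [IsScalarTower R Rp Sp] [IsLocalization.AtPrime Rp p] [IsLocalization (Algebra.algebraMapSubmonoid S p.primeCompl) Sp], IsIntegral Rp (algebraMap S Sp x)) :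
    IsIntegral R x := by
  classical
  let I : Ideal R := Submodule.comap (LinearMap.toSpanSingleton R S x)
    (Subalgebra.toSubmodule (integralClosure R S))
  have hmem : ∀ r : R, r ∈ I ↔ IsIntegral R (r • x) := by
    intro r
    simp only [I, Submodule.mem_comap, LinearMap.toSpanSingleton_apply, Subalgebra.mem_toSubmodule,
      mem_integralClosure_iff]
  have hI : I = ⊤ := by
    by_contra hne
    obtain ⟨m, hm, hIm⟩ := Ideal.exists_le_maximal I hne
    haveI := hm.isPrime
    have hx := h m (Localization.AtPrime m)
      (Localization (Algebra.algebraMapSubmonoid S m.primeCompl))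
    obtain ⟨⟨m₂, hm₂⟩, hm₂s⟩ :=
      IsIntegral.exists_multiple_integral_of_isLocalization m.primeCompl _ hx
    simp only [Submonoid.smul_def] at hm₂s
    obtain ⟨m₃, hm₃, hm₃s⟩ := IsLocalization.exists_isIntegral_smul_of_isIntegral_map
      (Sₘ := Localization (Algebra.algebraMapSubmonoid S m.primeCompl))
      m.primeCompl (x := m₂ • x) <| by
        rw [Algebra.smul_def, map_mul, ← IsScalarTower.algebraMap_apply, ← Algebra.smul_def]
        exact hm₂s
    have h3 : (m₃ * m₂) ∈ I := by
      rw [hmem, mul_smul]; exact hm₃s
    have h4 : (m₃ * m₂) ∈ m := hIm h3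
    exact (mul_mem hm₃ hm₂ : m₃ * m₂ ∈ m.primeCompl) h4
  have h1 : (1 : R) ∈ I := by rw [hI]; trivial
  rw [hmem, one_smul] at h1
  exact h1

end Groth.Agent.S9646
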