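import Groth.Statements.S9649
import Mathlib
import Groth.Agent.Lib.Helper50.SepGen

set_option autoImplicit false
universe u
open CAlg

namespace Groth.Agent.S9649

/-- A separably generated field extension is separable. Precisely: let K/k be a field extension
admitting a transcendence basis x over whose generated subfield k(x) the field K is separable
algebraic; then every finitely generated subextension K' of K/k also admits such a transcendence
basis. -/
theorem result {k K : Type u} [Field k] [Field K] [Algebra k K]
    (h : ∃ (ι : Type u) (x : ι → K), IsTranscendenceBasis k x ∧ Algebra.IsSeparable (IntermediateField.adjoin k (Set.range x)) K)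
    (K' : IntermediateField k K) (hK' : ∃ s : Finset K, IntermediateField.adjoin k (s : Set K) = K') :
    ∃ (ι : Type u) (x : ι → K'), IsTranscendenceBasis k x ∧ Algebra.IsSeparable (IntermediateField.adjoin k (Set.range x)) K' := by
    obtain ⟨ι, x, hx, hsep⟩ := h
    have hgr : Algebra.IsGeometricallyReduced k K :=
      Groth.Agent.Lib.Helper50.isGeometricallyReduced_of_isTranscendenceBasis_of_isSeparable x hx
    have hgr' : Algebra.IsGeometricallyReduced k K' :=
      Algebra.IsGeometricallyReduced.of_injective K'.val Subtype.val_injective
    have hfg : Algebra.EssFiniteType k K' := IntermediateField.essFiniteType_iff.mpr hK'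
    obtain _ | ⟨p, hp, hpk⟩ := CharP.exists' k
    · obtain ⟨s, hs, hsep'⟩ := exists_isTranscendenceBasis_and_isSeparable_of_perfectField k K'
      refine ⟨s, ((↑) : s → K'), hs, ?_⟩
      have e : (Set.range ((↑) : s → K')) = (s : Set K') := Subtype.range_coe
      convert hsep'
    · obtain ⟨s, hs, hsep'⟩ :=
        exists_isTranscendenceBasis_and_isSeparable_of_linearIndepOn_pow_of_essFiniteType (k := k)
          (K := K') p hp.out (fun s hs =>
            Groth.Agent.Lib.Helper50.linearIndepOn_pow_of_isGeometricallyReduced p s hs)
      refine ⟨s, ((↑) : s → K'), hs, ?_⟩
      have e : (Set.range ((↑) : s → K')) = (s : Set K') := Subtype.range_coe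
      convert hsep'

end Groth.Agent.S9649
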