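import Groth.Statements.S9650
import Mathlib

set_option autoImplicit false
universe u
open CAlg

namespace Groth.Agent.S9650

/-- Let K/k be a finitely generated field extension that is separably generated, i.e. admits a
transcendence basis over whose generated subfield K is separable algebraic. Then K is generated over
k by finitely many elements x_1, …, x_r, y such that the x_i form a transcendence basis of K/k and y
is separable over the subfield k(x_1, …, x_r). -/
theorem result {k K : Type u} [Field k] [Field K] [Algebra k K]
    (hfg : ∃ s : Finset K, IntermediateField.adjoin k (s : Set K) = ⊤)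
    (hsep : ∃ (ι : Type u) (x : ι → K), IsTranscendenceBasis k x ∧ Algebra.IsSeparable (IntermediateField.adjoin k (Set.range x)) K) :
    ∃ (r : ℕ) (x : Fin r → K) (y : K), IsTranscendenceBasis k x ∧ IntermediateField.adjoin k (insert y (Set.range x)) = ⊤ ∧ IsSeparable (IntermediateField.adjoin k (Set.range x)) y := by
  classical
  obtain ⟨s, hs⟩ := hfg
  obtain ⟨ι, x, hx, hsepx⟩ := hsep
  have halg : Algebra.IsAlgebraic (Algebra.adjoin k (s : Set K)) K := by
    rw [← IntermediateField.isAlgebraic_adjoin_iff_top, hs, Algebra.isAlgebraic_iff_isIntegral]
    exact Algebra.isIntegral_of_surjective IntermediateField.topEquiv.surjective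
  obtain ⟨t, hts, ht⟩ := exists_isTranscendenceBasis_subset (R := k) (s : Set K)
  have htfin : Finite t := (s.finite_toSet.subset hts).to_subtype
  have hιfin : Finite ι := by
    rw [← Cardinal.mk_lt_aleph0_iff, hx.cardinalMk_eq ht, Cardinal.mk_lt_aleph0_iff]
    exact htfin
  obtain ⟨r, ⟨e⟩⟩ := Finite.exists_equiv_fin ι
  have hx' : IsTranscendenceBasis k (x ∘ e.symm) := hx.comp_equiv e.symm
  have hr : Set.range (x ∘ e.symm) = Set.range x := e.symm.surjective.range_comp x
  have htop : IntermediateField.adjoin (IntermediateField.adjoin k (Set.range x)) (s : Set K) = ⊤ := by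
    rw [← IntermediateField.restrictScalars_eq_top_iff (K := k), IntermediateField.adjoin_adjoin_left,
      eq_top_iff, ← hs]
    exact IntermediateField.adjoin.mono _ _ _ Set.subset_union_right
  have hfd : FiniteDimensional (IntermediateField.adjoin k (Set.range x)) K := by
    have h1 : FiniteDimensional (IntermediateField.adjoin k (Set.range x))
        (IntermediateField.adjoin (IntermediateField.adjoin k (Set.range x)) (s : Set K)) :=
      IntermediateField.finiteDimensional_adjoin
        (fun z _ => Algebra.IsSeparable.isIntegral _ z)
    rw [htop] at h1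
    exact Module.Finite.equiv IntermediateField.topEquiv.toLinearEquiv
  obtain ⟨y, hy⟩ := Field.exists_primitive_element (IntermediateField.adjoin k (Set.range x)) K
  refine ⟨r, x ∘ e.symm, y, hx', ?_, ?_⟩
  · rw [hr, ← Set.union_singleton, ← IntermediateField.adjoin_adjoin_left, hy,
      IntermediateField.restrictScalars_top]
  · rw [hr]
    exact Algebra.IsSeparable.isSeparable _ y

end Groth.Agent.S9650
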