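import Groth.Statements.S9653
import Groth.Agent.Lib.Helper12.ChevJacobson

set_option autoImplicit false
universe u
open CAlg

namespace Groth.Agent.S9653

/-- Let R and S be Jacobson rings, R → S a ring map of finite type with induced map f : Spec(S) →
Spec(R), E ⊆ Spec(S) constructible and E₀ the set of points of E closed in E. Then a point ξ of
Spec(R) lies in f(E) if and only if cl{ξ} ∩ f(E₀) is dense in the closure cl{ξ}. -/
theorem result {R S : Type u} [CommRing R] [CommRing S] [Algebra R S] [IsJacobsonRing R] [IsJacobsonRing S] [Algebra.FiniteType R S]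
    (E : Set (PrimeSpectrum S)) (hE : Topology.IsConstructible E) (ξ : PrimeSpectrum R) :
    ξ ∈ PrimeSpectrum.comap (algebraMap R S) '' E ↔
      closure ({ξ} : Set (PrimeSpectrum R)) ⊆ closure (closure {ξ} ∩ PrimeSpectrum.comap (algebraMap R S) '' {y | y ∈ E ∧ closure {y} ∩ E = {y}}) := by
  refine ⟨Groth.Agent.Lib.Helper12.ChevJacobson.closure_subset_closure_of_mem E hE ξ, fun h => ?_⟩
  apply Groth.Agent.Lib.Helper12.ChevJacobson.mem_image_of_closure_subset E hE ξ
  have h1 := h (subset_closure (Set.mem_singleton ξ))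
  refine closure_mono ?_ h1
  rintro z ⟨hz1, ⟨y, hy, rfl⟩⟩
  exact ⟨hz1, ⟨y, hy.1, rfl⟩⟩

end Groth.Agent.S9653
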