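import Groth.Statements.S9654
import Mathlib

set_option autoImplicit false
universe u
open CAlg

namespace Groth.Agent.S9654

open Polynomial

theorem isIntegral_of_mul_mem_of_one_mem {R A : Type*} [CommRing R] [CommRing A] [Algebra R A]
    (N : Submodule R A) (h1 : (1 : A) ∈ N) (hN : N.FG) (x : A) (hx : ∀ n ∈ N, x * n ∈ N) :
    IsIntegral R x := by
  let A' : Subalgebra R A :=
    { carrier := { x | ∀ n ∈ N, x * n ∈ N }
      mul_mem' := fun {a b} ha hb n hn => by
        rw [mul_assoc]; exact ha _ (hb _ hn)
      one_mem' := fun n hn => by rw [one_mul]; exact hn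
      add_mem' := fun {a b} ha hb n hn => by
        rw [add_mul]; exact N.add_mem (ha _ hn) (hb _ hn)
      zero_mem' := fun n _hn => by rw [zero_mul]; exact N.zero_mem
      algebraMap_mem' := fun r n hn => by
        rw [← Algebra.smul_def]; exact N.smul_mem r hn }
  let f : A' →ₐ[R] Module.End R N :=
    AlgHom.ofLinearMap
      { toFun := fun x => (LinearMap.mulLeft R (x : A)).restrict x.prop
        map_add' := by intro x y; ext; simp [add_mul]
        map_smul' := by intro r s; ext; simp }
      (by ext; simp)
      (by intro x y; ext; simp)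
  have hf : Function.Injective f := by
    rw [injective_iff_map_eq_zero]
    intro a ha
    have := congrArg (fun g : Module.End R N => ((g ⟨1, h1⟩ : N) : A)) ha
    simp only [f] at this
    ext
    simpa using this
  have : Module.Finite R N := Module.Finite.of_fg hN
  have hint : IsIntegral R (⟨x, hx⟩ : A') :=
    (isIntegral_algHom_iff (A := A') (B := Module.End R N) f hf).mp
      (Algebra.IsIntegral.isIntegral _)
  exact hint.map A'.val

theorem isIntegral_of_mem_adjoin_inv {R A : Type*} [CommRing R] [CommRing A] [Algebra R A]
    (a b t : A) (hab : a * b = 1) (ha : t ∈ Algebra.adjoin R {a}) (hb : t ∈ Algebra.adjoin R {b}) :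
    IsIntegral R t := by
  rw [Algebra.adjoin_singleton_eq_range_aeval] at ha hb
  obtain ⟨p, hp⟩ := ha
  obtain ⟨q, hq⟩ := hb
  have hp' : t = ∑ l ∈ Finset.range (p.natDegree + 1), p.coeff l • a ^ l := by
    rw [← hp]; exact Polynomial.aeval_eq_sum_range a
  have hq' : t = ∑ j ∈ Finset.range (q.natDegree + 1), q.coeff j • b ^ j := by
    rw [← hq]; exact Polynomial.aeval_eq_sum_range b
  set n := p.natDegree
  set m := q.natDegree
  let N : Submodule R A := Submodule.span R ((fun i => a ^ i) '' (Set.Iic (n + m)))
  have hmem : ∀ i, i ≤ n + m → a ^ i ∈ N := fun i hi =>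
    Submodule.subset_span ⟨i, hi, rfl⟩
  have hfg : N.FG := Submodule.fg_span ((Set.finite_Iic _).image _)
  have h1 : (1 : A) ∈ N := by
    have := hmem 0 (Nat.zero_le _)
    simpa using this
  have hgen : ∀ i, i ≤ n + m → t * a ^ i ∈ N := by
    intro i hi
    by_cases him : i < m
    · rw [hp', Finset.sum_mul]
      refine Submodule.sum_mem _ fun l hl => ?_
      rw [smul_mul_assoc, ← pow_add]
      refine N.smul_mem _ (hmem _ ?_)
      have := Finset.mem_range.mp hl
      omega
    · rw [hq', Finset.sum_mul]
      refine Submodule.sum_mem _ fun j hj => ?_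
      have hj' : j ≤ i := by
        have := Finset.mem_range.mp hj
        omega
      have : b ^ j * a ^ i = a ^ (i - j) := by
        obtain ⟨d, rfl⟩ := Nat.exists_eq_add_of_le hj'
        rw [pow_add, ← mul_assoc, ← mul_pow, mul_comm b a, hab, one_pow, one_mul,
          Nat.add_sub_cancel_left]
      rw [smul_mul_assoc, this]
      refine N.smul_mem _ (hmem _ ?_)
      omega
  refine isIntegral_of_mul_mem_of_one_mem N h1 hfg t ?_
  intro x hx
  induction hx using Submodule.span_induction with
  | mem x hx =>
    obtain ⟨i, hi, rfl⟩ := hx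
    exact hgen i hi
  | zero => simp
  | add x y _ _ hx hy => rw [mul_add]; exact N.add_mem hx hy
  | smul r x _ hx => rw [mul_smul_comm]; exact N.smul_mem r hx

theorem sup_adjoin_eq {R A : Type*} [CommRing R] [CommRing A] [Algebra R A]
    (a b : A) (hab : a * b = 1) :
    (Algebra.adjoin R {a}).toSubmodule ⊔ (Algebra.adjoin R {b}).toSubmodule =
      (Algebra.adjoin R {a, b}).toSubmodule := by
  apply le_antisymm
  · refine sup_le ?_ ?_
    · exact Subalgebra.toSubmodule.monotone (Algebra.adjoin_mono (by simp))
    · exact Subalgebra.toSubmodule.monotone (Algebra.adjoin_mono (by simp))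
  · rw [Algebra.adjoin_eq_span R ({a, b} : Set A), Submodule.span_le]
    intro c hc
    rw [SetLike.mem_coe, Submonoid.mem_closure_pair] at hc
    obtain ⟨i, j, rfl⟩ := hc
    rcases le_total i j with h | h
    · obtain ⟨d, rfl⟩ := Nat.exists_eq_add_of_le h
      have : a ^ i * b ^ (i + d) = b ^ d := by
        rw [pow_add, ← mul_assoc, ← mul_pow, hab, one_pow, one_mul]
      rw [this]
      exact Submodule.mem_sup_right
        ((Algebra.adjoin R {b}).pow_mem (Algebra.subset_adjoin (Set.mem_singleton b)) d)
    · obtain ⟨d, rfl⟩ := Nat.exists_eq_add_of_le h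
      have : a ^ (j + d) * b ^ j = a ^ d := by
        rw [pow_add, mul_comm (a ^ j), mul_assoc, ← mul_pow, hab, one_pow, mul_one]
      rw [this]
      exact Submodule.mem_sup_left
        ((Algebra.adjoin R {a}).pow_mem (Algebra.subset_adjoin (Set.mem_singleton a)) d)

theorem mem_range_of_isIntegral {R : Type u} [CommRing R] (x y : R)
    (hx : x ∈ nonZeroDivisors R) (hy : y ∈ nonZeroDivisors R)
    (T : Type u) [CommRing T] [Algebra R T] [IsLocalization.Away (x * y) T]
    (hint : IsIntegrallyClosedIn R (Localization.Away x))
    (c t : T) (hc : c * algebraMap R T x = algebraMap R T y)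
    (ht : IsIntegral R t) (htc : t ∈ Algebra.adjoin R {c}) :
    t ∈ Set.range (algebraMap R T) := by
  have hxy : x * y ∈ nonZeroDivisors R := mul_mem hx hy
  have hinjT : Function.Injective (algebraMap R T) :=
    IsLocalization.injective T (M := Submonoid.powers (x * y)) (Submonoid.powers_le.mpr hxy)
  have hunit : IsUnit (algebraMap R T x) := by
    have h : IsUnit (algebraMap R T (x * y)) := IsLocalization.Away.algebraMap_isUnit (x * y)
    rw [map_mul] at h
    exact isUnit_of_mul_isUnit_left h
  have hf : ∀ z : Submonoid.powers x, IsUnit ((Algebra.ofId R T) z) := by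
    rintro ⟨_, n, rfl⟩
    simpa [Algebra.ofId_apply] using hunit.pow n
  let φ : Localization.Away x →ₐ[R] T :=
    IsLocalization.liftAlgHom (M := Submonoid.powers x) (f := Algebra.ofId R T) hf
  have hφinj : Function.Injective φ := by
    rw [injective_iff_map_eq_zero]
    intro u hu
    obtain ⟨⟨r, ⟨_, n, rfl⟩⟩, hr⟩ := IsLocalization.surj (Submonoid.powers x) u
    have h0 : φ (algebraMap R (Localization.Away x) r) = 0 := by
      rw [← hr, map_mul, hu, zero_mul]
    rw [AlgHom.commutes] at h0
    have hr0 : r = 0 := hinjT (by rw [h0, map_zero])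
    rw [hr0, map_zero] at hr
    have hu' : IsUnit (algebraMap R (Localization.Away x) (x ^ n)) :=
      IsLocalization.map_units (Localization.Away x) (⟨x ^ n, n, rfl⟩ : Submonoid.powers x)
    exact (hu'.mul_left_eq_zero).mp hr
  have hcφ : c ∈ φ.range := by
    refine ⟨algebraMap R (Localization.Away x) y * IsLocalization.Away.invSelf x, ?_⟩
    apply hunit.mul_left_injective
    show φ (algebraMap R (Localization.Away x) y * IsLocalization.Away.invSelf x) *
      algebraMap R T x = c * algebraMap R T x
    rw [hc, ← AlgHom.commutes φ x, ← map_mul, mul_assoc, mul_comm (IsLocalization.Away.invSelf x),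
      IsLocalization.Away.mul_invSelf, mul_one, AlgHom.commutes]
  have hle : Algebra.adjoin R {c} ≤ φ.range :=
    Algebra.adjoin_le (Set.singleton_subset_iff.mpr hcφ)
  obtain ⟨t', rfl⟩ := hle htc
  have ht' : IsIntegral R t' := (isIntegral_algHom_iff φ hφinj).mp ht
  obtain ⟨r, rfl⟩ := (IsIntegralClosure.isIntegral_iff (A := R) (R := R)
    (B := Localization.Away x)).mp ht'
  exact ⟨r, (AlgHom.commutes φ r).symm⟩

theorem main {R : Type u} [CommRing R] (x y : R) (hx : x ∈ nonZeroDivisors R)
    (hy : y ∈ nonZeroDivisors R)
    (hint : IsIntegrallyClosedIn R (Localization.Away x) ∨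
      IsIntegrallyClosedIn R (Localization.Away y))
    (T : Type u) [CommRing T] [Algebra R T] [IsLocalization.Away (x * y) T] (u : T)
    (hu : algebraMap R T (x * y) * u = 1) :
    (Algebra.adjoin R {algebraMap R T (x * x) * u}).toSubmodule ⊓
        (Algebra.adjoin R {algebraMap R T (y * y) * u}).toSubmodule =
        (⊥ : Subalgebra R T).toSubmodule ∧
      (Algebra.adjoin R {algebraMap R T (x * x) * u}).toSubmodule ⊔
        (Algebra.adjoin R {algebraMap R T (y * y) * u}).toSubmodule =
        (Algebra.adjoin R {algebraMap R T (x * x) * u, algebraMap R T (y * y) * u}).toSubmodule := by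
  set a : T := algebraMap R T (x * x) * u with ha
  set b : T := algebraMap R T (y * y) * u with hb
  have hab : a * b = 1 := by
    rw [ha, hb]
    calc _ = (algebraMap R T (x * y) * u) * (algebraMap R T (x * y) * u) := by
          simp only [map_mul]; ring
      _ = 1 := by rw [hu, mul_one]
  have hax : a * algebraMap R T y = algebraMap R T x := by
    rw [ha]
    calc _ = algebraMap R T x * (algebraMap R T (x * y) * u) := by simp only [map_mul]; ring
      _ = _ := by rw [hu, mul_one]
  have hbx : b * algebraMap R T x = algebraMap R T y := by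
    rw [hb]
    calc _ = algebraMap R T y * (algebraMap R T (x * y) * u) := by simp only [map_mul]; ring
      _ = _ := by rw [hu, mul_one]
  refine ⟨?_, sup_adjoin_eq a b hab⟩
  apply le_antisymm
  · intro t ht
    obtain ⟨hta, htb⟩ := Submodule.mem_inf.mp ht
    have hta' : t ∈ Algebra.adjoin R {a} := hta
    have htb' : t ∈ Algebra.adjoin R {b} := htb
    have hti : IsIntegral R t := isIntegral_of_mem_adjoin_inv a b t hab hta' htb'
    show t ∈ (⊥ : Subalgebra R T)
    rw [Algebra.mem_bot]
    rcases hint with h | h
    · exact mem_range_of_isIntegral x y hx hy T h b t hbx hti htb'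
    · have : IsLocalization.Away (y * x) T := by rw [mul_comm]; infer_instance
      exact mem_range_of_isIntegral y x hy hx T h a t hax hti hta'
  · exact le_inf (Subalgebra.toSubmodule.monotone bot_le) (Subalgebra.toSubmodule.monotone bot_le)

/-- Let R be a ring and x, y ∈ R nonzerodivisors. In the localization R_{xy} let a = x/y and b = y/x,
and let R[a], R[b], R[a, b] be the R-subalgebras they generate. If R is integrally closed in R_x or
in R_y, then the sequence 0 → R → R[a] ⊕ R[b] → R[a, b] → 0 (difference map, then sum map) is short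
exact; equivalently R[a] ∩ R[b] is the image of R and R[a] + R[b] = R[a, b] inside R_{xy}. -/
theorem result {R : Type u} [CommRing R] (x y : R) (hx : x ∈ nonZeroDivisors R) (hy : y ∈ nonZeroDivisors R)
    (hint : IsIntegrallyClosedIn R (Localization.Away x) ∨ IsIntegrallyClosedIn R (Localization.Away y)) :
    (Algebra.adjoin R {algebraMap R (Localization.Away (x * y)) (x * x) * IsLocalization.Away.invSelf (x * y)}).toSubmodule ⊓
        (Algebra.adjoin R {algebraMap R (Localization.Away (x * y)) (y * y) * IsLocalization.Away.invSelf (x * y)}).toSubmodule =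
        (⊥ : Subalgebra R (Localization.Away (x * y))).toSubmodule ∧
      (Algebra.adjoin R {algebraMap R (Localization.Away (x * y)) (x * x) * IsLocalization.Away.invSelf (x * y)}).toSubmodule ⊔
        (Algebra.adjoin R {algebraMap R (Localization.Away (x * y)) (y * y) * IsLocalization.Away.invSelf (x * y)}).toSubmodule =
        (Algebra.adjoin R {algebraMap R (Localization.Away (x * y)) (x * x) * IsLocalization.Away.invSelf (x * y), algebraMap R (Localization.Away (x * y)) (y * y) * IsLocalization.Away.invSelf (x * y)}).toSubmodule := by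
  exact main x y hx hy hint (Localization.Away (x * y)) (IsLocalization.Away.invSelf (x * y))
    (IsLocalization.Away.mul_invSelf (x * y))

end Groth.Agent.S9654
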