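import Mathlib
import Groth.Statements.S9655

set_option autoImplicit false
universe u
open CAlg

namespace Groth.Agent.S9655

open IsLocalRing in
theorem main {R S : Type u} [CommRing R] [CommRing S] [Algebra R S] [IsLocalRing R] [IsLocalRing S]
    (σ : Finset S)
    (hσ : ∀ s : S, ∃ t ∈ Algebra.adjoin R (σ : Set S),
        IsUnit t ∧ s * t ∈ Algebra.adjoin R (σ : Set S)) :
    ∃ (n : ℕ) (m : Ideal (MvPolynomial (Fin n) R)) (_ : m.IsMaximal),
      m.under R = IsLocalRing.maximalIdeal R ∧
      ∃ (φ : Localization.AtPrime m →ₐ[R] S) (T : Submonoid φ.range), IsLocalization T S := by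
  classical
  -- the residue field and a valuation ring dominating the image of `R`
  let κ := ResidueField S
  let res : S →+* κ := residue S
  let f : R →+* κ := res.comp (algebraMap R S)
  obtain ⟨V, hV, hloc⟩ := IsLocalRing.exists_factor_valuationRing f
  have : IsLocalRing V.toSubring := inferInstanceAs (IsLocalRing V)
  -- modified generators
  let y : S → S := fun s => if res s ∈ V then s else Ring.inverse s
  have hy_mem : ∀ s, res (y s) ∈ V := by
    intro s
    by_cases hs : res s ∈ V
    · simp only [y, if_pos hs]; exact hs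
    · simp only [y, if_neg hs]
      have hne : res s ≠ 0 := fun h0 => hs (h0 ▸ V.zero_mem)
      have hu : IsUnit s := (residue_ne_zero_iff_isUnit s).1 hne
      obtain ⟨u, rfl⟩ := hu
      rw [Ring.inverse_unit]
      have : res (↑u⁻¹ : S) = (res (u : S))⁻¹ := by
        apply eq_inv_of_mul_eq_one_left
        rw [← map_mul]; simp
      rw [this]
      exact (V.mem_or_inv_mem (res u)).resolve_left hs
  let n := σ.card
  let e : Fin n ≃ σ := σ.equivFin.symm
  let ψ : MvPolynomial (Fin n) R →ₐ[R] S := MvPolynomial.aeval (fun i => y (e i))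
  have hψV : ∀ g, res (ψ g) ∈ V.toSubring := by
    intro g
    induction g using MvPolynomial.induction_on with
    | C r =>
      have : res (ψ (MvPolynomial.C r)) = f r := by
        simp [ψ, f]
      rw [this]; exact hV r
    | add p q hp hq =>
      rw [map_add, map_add]; exact V.toSubring.add_mem hp hq
    | mul_X p i hp =>
      rw [map_mul, map_mul]
      refine V.toSubring.mul_mem hp ?_
      have : ψ (MvPolynomial.X i) = y (e i) := by simp [ψ]
      rw [this]; exact hy_mem _
  let ψV : MvPolynomial (Fin n) R →+* V.toSubring :=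
    (res.comp (ψ : MvPolynomial (Fin n) R →+* S)).codRestrict V.toSubring hψV
  let P : Ideal (MvPolynomial (Fin n) R) := Ideal.comap ψV (maximalIdeal V.toSubring)
  have hP : P ≠ ⊤ := by
    intro h
    have h1 : (1 : MvPolynomial (Fin n) R) ∈ P := h ▸ Submodule.mem_top
    have : ψV 1 ∈ maximalIdeal V.toSubring := h1
    rw [map_one] at this
    exact (Ideal.ne_top_iff_one _).1 (maximalIdeal.isMaximal _).ne_top this
  obtain ⟨m, hm, hPm⟩ := Ideal.exists_le_maximal P hP
  have hCP : ∀ r ∈ maximalIdeal R, MvPolynomial.C r ∈ P := by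
    intro r hr
    change ψV (MvPolynomial.C r) ∈ maximalIdeal V.toSubring
    rw [mem_maximalIdeal, mem_nonunits_iff]
    intro hu
    have : ψV (MvPolynomial.C r) = f.codRestrict V.toSubring hV r := by
      apply Subtype.ext
      change res (ψ (MvPolynomial.C r)) = res (algebraMap R S r)
      simp [ψ]
    rw [this] at hu
    exact hr (hloc.map_nonunit r hu)
  have hunder : m.under R = maximalIdeal R := by
    apply le_antisymm
    · apply IsLocalRing.le_maximalIdeal
      intro h
      have h1 : (1 : R) ∈ m.under R := h ▸ Submodule.mem_top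
      rw [Ideal.mem_comap, map_one] at h1
      exact hm.ne_top ((Ideal.eq_top_iff_one _).2 h1)
    · intro r hr
      rw [Ideal.mem_comap]
      exact hPm (hCP r hr)
  have hunit : ∀ g : m.primeCompl, IsUnit (ψ g) := by
    rintro ⟨g, hg⟩
    have hgP : g ∉ P := fun h => hg (hPm h)
    rw [← residue_ne_zero_iff_isUnit]
    intro h0
    apply hgP
    change ψV g ∈ maximalIdeal V.toSubring
    have : ψV g = 0 := by
      apply Subtype.ext
      exact h0
    rw [this]; exact Ideal.zero_mem _
  have : m.IsPrime := hm.isPrime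
  let φ : Localization.AtPrime m →ₐ[R] S := IsLocalization.liftAlgHom (M := m.primeCompl) hunit
  have hφψ : ∀ g, φ (algebraMap _ _ g) = ψ g := by
    intro g
    simp [φ]
  have hrange : ψ.range ≤ φ.range := by
    rintro _ ⟨g, rfl⟩
    exact ⟨algebraMap _ _ g, hφψ g⟩
  -- key: adjoin R σ ⊆ ψ.range up to units of ψ.range
  have key : ∀ a ∈ Algebra.adjoin R (σ : Set S),
      ∃ u ∈ ψ.range, IsUnit u ∧ u * a ∈ ψ.range := by
    intro a ha
    induction ha using Algebra.adjoin_induction with
    | mem s hs =>
      have hsy : y s ∈ ψ.range := by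
        refine ⟨MvPolynomial.X (e.symm ⟨s, hs⟩), ?_⟩
        simp [ψ]
      by_cases hsV : res s ∈ V
      · refine ⟨1, one_mem _, isUnit_one, ?_⟩
        rw [one_mul]
        simpa [y, if_pos hsV] using hsy
      · have hne : res s ≠ 0 := fun h0 => hsV (h0 ▸ V.zero_mem)
        have hu : IsUnit s := (residue_ne_zero_iff_isUnit s).1 hne
        have hys : y s = Ring.inverse s := by simp [y, if_neg hsV]
        refine ⟨y s, hsy, ?_, ?_⟩
        · rw [hys]; exact hu.ringInverse
        · rw [hys, Ring.inverse_mul_cancel _ hu]; exact one_mem _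
    | algebraMap r =>
      exact ⟨1, one_mem _, isUnit_one, by rw [one_mul]; exact Subalgebra.algebraMap_mem _ r⟩
    | add a b _ _ ha hb =>
      obtain ⟨u, hu, hu1, hu2⟩ := ha
      obtain ⟨v, hv, hv1, hv2⟩ := hb
      refine ⟨u * v, mul_mem hu hv, hu1.mul hv1, ?_⟩
      have : u * v * (a + b) = v * (u * a) + u * (v * b) := by ring
      rw [this]
      exact add_mem (mul_mem hv hu2) (mul_mem hu hv2)
    | mul a b _ _ ha hb =>
      obtain ⟨u, hu, hu1, hu2⟩ := ha
      obtain ⟨v, hv, hv1, hv2⟩ := hb
      refine ⟨u * v, mul_mem hu hv, hu1.mul hv1, ?_⟩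
      have : u * v * (a * b) = (u * a) * (v * b) := by ring
      rw [this]
      exact mul_mem hu2 hv2
  refine ⟨n, m, hm, hunder, φ, (IsUnit.submonoid S).comap φ.range.val, ?_⟩
  refine ⟨⟨?_, ?_, ?_⟩⟩
  · rintro ⟨x, hx⟩
    exact hx
  · intro z
    obtain ⟨t₀, ht₀, ht₀u, hzt⟩ := hσ z
    obtain ⟨u₁, hu₁, hu₁u, hu₁t⟩ := key t₀ ht₀
    obtain ⟨u₂, hu₂, hu₂u, hu₂a⟩ := key _ hzt
    refine ⟨⟨⟨u₁ * (u₂ * (z * t₀)), hrange (mul_mem hu₁ hu₂a)⟩,
      ⟨⟨u₂ * (u₁ * t₀), hrange (mul_mem hu₂ hu₁t)⟩, ?_⟩⟩, ?_⟩
    · change IsUnit (u₂ * (u₁ * t₀))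
      exact hu₂u.mul (hu₁u.mul ht₀u)
    · change z * (u₂ * (u₁ * t₀)) = u₁ * (u₂ * (z * t₀))
      ring
  · intro a b hab
    exact ⟨1, by rw [Subtype.ext hab]⟩


/-- Let R and S be local rings and R → S a ring map, not necessarily local, that is essentially of
finite type. Then for some n there is a maximal ideal m of the polynomial ring R[x_1, …, x_n] lying
over the maximal ideal of R, together with an R-algebra map φ : R[x_1, …, x_n]_m → S making S a
localization of the image of φ; thus S arises from R[x_1, …, x_n]_m by passing to a quotient and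
then localizing. -/
theorem result {R S : Type u} [CommRing R] [CommRing S] [Algebra R S] [IsLocalRing R] [IsLocalRing S] [Algebra.EssFiniteType R S] :
    ∃ (n : ℕ) (m : Ideal (MvPolynomial (Fin n) R)) (_ : m.IsMaximal), m.under R = IsLocalRing.maximalIdeal R ∧
      ∃ (φ : Localization.AtPrime m →ₐ[R] S) (T : Submonoid φ.range), IsLocalization T S := by
  obtain ⟨σ, hσ⟩ := (Algebra.essFiniteType_iff (R := R) (S := S)).1 inferInstance
  exact main σ hσ

end Groth.Agent.S9655
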