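import Groth.Statements.S9656
import Mathlib.Algebra.Polynomial.Eval.Degree
import Mathlib.Algebra.Polynomial.Monic

set_option autoImplicit false
universe u
open CAlg

namespace Groth.Agent.S9656

/-- Let R_i → S_i be ring maps indexed by a finite type ι, with product map R = Π R_i → S = Π S_i. Then
an element (s_i) of S is integral over R exactly when s_i is integral over R_i for every i; so
integral closure in a finite product is computed factor by factor. -/
theorem result {ι : Type u} [Fintype ι] {R S : ι → Type u} [∀ i, CommRing (R i)] [∀ i, CommRing (S i)] (f : ∀ i, R i →+* S i) (s : ∀ i, S i) :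
    (RingHom.pi fun i => (f i).comp (Pi.evalRingHom R i)).IsIntegralElem s ↔ ∀ i, (f i).IsIntegralElem (s i) := by
  classical
  constructor
  · rintro ⟨P, hP, hPs⟩ i
    refine ⟨P.map (Pi.evalRingHom R i), hP.map _, ?_⟩
    have := congrArg (Pi.evalRingHom S i) hPs
    rw [Polynomial.hom_eval₂, map_zero] at this
    rw [Polynomial.eval₂_map]
    exact this
  · intro h
    choose p hp hps using h
    set n := Finset.univ.sup (fun i => (p i).natDegree) with hn
    have hle : ∀ i, (p i).natDegree ≤ n := fun i => Finset.le_sup (f := fun i => (p i).natDegree) (Finset.mem_univ i)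
    set q : ∀ i, Polynomial (R i) := fun i => p i * Polynomial.X ^ (n - (p i).natDegree) with hq
    have hqdeg : ∀ i, (q i).natDegree ≤ n := by
      intro i
      calc (q i).natDegree ≤ (p i).natDegree + (Polynomial.X ^ (n - (p i).natDegree) : Polynomial (R i)).natDegree :=
            Polynomial.natDegree_mul_le
        _ ≤ (p i).natDegree + (n - (p i).natDegree) := by
            gcongr
            exact Polynomial.natDegree_X_pow_le _
        _ = n := by have := hle i; omega
    have hqcoeff : ∀ i, (q i).coeff n = 1 := by
      intro i
      simp only [hq, Polynomial.coeff_mul_X_pow']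
      rw [if_pos (Nat.sub_le _ _)]
      have : n - (n - (p i).natDegree) = (p i).natDegree := by have := hle i; omega
      rw [this]
      exact (hp i).coeff_natDegree
    have hqs : ∀ i, Polynomial.eval₂ (f i) (s i) (q i) = 0 := by
      intro i
      simp only [hq, Polynomial.eval₂_mul, hps i, zero_mul]
    set Q : Polynomial (∀ i, R i) :=
      ∑ j ∈ Finset.range (n + 1), Polynomial.monomial j (fun i => (q i).coeff j) with hQ
    have hQdeg : Q.natDegree ≤ n := by
      apply Polynomial.natDegree_sum_le_of_forall_le
      intro j hj
      refine (Polynomial.natDegree_monomial_le _).trans ?_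
      have := Finset.mem_range.mp hj
      omega
    have hQcoeff : Q.coeff n = 1 := by
      simp only [hQ, Polynomial.finsetSum_coeff, Polynomial.coeff_monomial]
      rw [Finset.sum_ite_eq' (Finset.range (n + 1)) n, if_pos (Finset.mem_range.mpr (Nat.lt_succ_self n))]
      funext i
      exact hqcoeff i
    have hQmap : ∀ i, Q.map (Pi.evalRingHom R i) = q i := by
      intro i
      simp only [hQ, Polynomial.map_sum, Polynomial.map_monomial, Pi.evalRingHom_apply]
      exact (Polynomial.as_sum_range' (q i) (n + 1) (Nat.lt_succ_of_le (hqdeg i))).symm
    refine ⟨Q, Polynomial.monic_of_natDegree_le_of_coeff_eq_one n hQdeg hQcoeff, ?_⟩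
    funext i
    have : (Pi.evalRingHom S i) (Polynomial.eval₂ (RingHom.pi fun i => (f i).comp (Pi.evalRingHom R i)) s Q) = 0 := by
      rw [Polynomial.hom_eval₂]
      have := hqs i
      rw [← hQmap i, Polynomial.eval₂_map] at this
      exact this
    exact this

end Groth.Agent.S9656
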