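import Groth.Statements.S9657
import Mathlib
import Groth.Agent.Lib.Helper50.RatFuncIrred
import Groth.Agent.S2150

set_option autoImplicit false
universe u
open CAlg

namespace Groth.Agent.S9657

open TensorProduct in
/-- Let K/k be a field extension and let k(t) ⊆ K(t) be the purely transcendental extensions in one
variable, realised as fraction fields of k[t] and K[t] compatibly with k[t] → K[t]. Then K is
geometrically irreducible over k (Spec(k' ⊗_k K) irreducible for every field extension k'/k) if and
only if K(t) is geometrically irreducible over k(t). Here the test fields range over field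
extensions of k, respectively of k(t), in the universe of k; this is equivalent to the unrestricted
notions, since an algebraic closure of the base field suffices as a test. -/
theorem result {k K : Type u} [Field k] [Field K] [Algebra k K]
    (kt Kt : Type u) [Field kt] [Field Kt] [Algebra (Polynomial k) kt] [IsFractionRing (Polynomial k) kt] [Algebra (Polynomial K) Kt] [IsFractionRing (Polynomial K) Kt]
    [Algebra kt Kt] (hcompat : ∀ p : Polynomial k, algebraMap kt Kt (algebraMap (Polynomial k) kt p) = algebraMap (Polynomial K) Kt (Polynomial.map (algebraMap k K) p)) :
    (∀ (k' : Type u) [Field k'] [Algebra k k'], IrreducibleSpace (PrimeSpectrum (k' ⊗[k] K))) ↔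
      ∀ (L : Type u) [Field L] [Algebra kt L], IrreducibleSpace (PrimeSpectrum (L ⊗[kt] Kt)) := by
    letI : Algebra k kt := ((algebraMap (Polynomial k) kt).comp Polynomial.C).toAlgebra
    haveI : IsScalarTower k (Polynomial k) kt := IsScalarTower.of_algebraMap_eq (fun x => rfl)
    letI : Algebra K Kt := ((algebraMap (Polynomial K) Kt).comp Polynomial.C).toAlgebra
    haveI : IsScalarTower K (Polynomial K) Kt := IsScalarTower.of_algebraMap_eq (fun x => rfl)
    letI : Algebra k Kt := ((algebraMap kt Kt).comp (algebraMap k kt)).toAlgebra
    haveI : IsScalarTower k kt Kt := IsScalarTower.of_algebraMap_eq (fun x => rfl)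
    haveI : IsScalarTower k K Kt := IsScalarTower.of_algebraMap_eq (fun x => by
      change algebraMap kt Kt (algebraMap (Polynomial k) kt (Polynomial.C x)) =
        algebraMap (Polynomial K) Kt (Polynomial.C (algebraMap k K x))
      rw [hcompat, Polynomial.map_C])
    constructor
    · intro h L _ _
      letI : Algebra k L := ((algebraMap kt L).comp (algebraMap k kt)).toAlgebra
      haveI : IsScalarTower k kt L := IsScalarTower.of_algebraMap_eq (fun x => rfl)
      haveI := h L
      exact Groth.Agent.Lib.Helper50.irreducibleSpace_tensor_ratFunc kt Kt L hcompat
    · intro h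
      rw [Groth.Agent.S2150.result]
      have hKt := (Groth.Agent.S2150.result (k := kt) (K := Kt)).mp h
      exact fun α hα =>
        Groth.Agent.Lib.Helper50.mem_range_algebraMap_of_ratFunc kt Kt hcompat hKt α hα

end Groth.Agent.S9657
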