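import Groth.Statements.S9658
import Mathlib.RingTheory.Ideal.Operations

set_option autoImplicit false
universe u
open CAlg

namespace Groth.Agent.S9658

/-- Let R be a ring, f_1, …, f_n ∈ R generating the unit ideal and M an R-module. With M_i = M_{f_i},
M_ij = M_{f_i f_j} (any localizations, with the canonical compatible maps M → M_i → M_ij), the
sequence 0 → M → ⊕ M_i → ⊕ M_ij is exact: an element of M whose image vanishes in every M_i is zero,
and every family (m_i ∈ M_i) such that m_i and m_j have the same image in M_ij for all i, j is the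
image of an element of M. -/
theorem result {R : Type u} [CommRing R] {ι : Type u} [Fintype ι] (f : ι → R) (hf : Ideal.span (Set.range f) = ⊤)
    (M : Type u) [AddCommGroup M] [Module R M]
    (Mi : ι → Type u) [∀ i, AddCommGroup (Mi i)] [∀ i, Module R (Mi i)] (g : ∀ i, M →ₗ[R] Mi i) [∀ i, IsLocalizedModule (Submonoid.powers (f i)) (g i)]
    (Mij : ι → ι → Type u) [∀ i j, AddCommGroup (Mij i j)] [∀ i j, Module R (Mij i j)] (gij : ∀ i j, M →ₗ[R] Mij i j) [∀ i j, IsLocalizedModule (Submonoid.powers (f i * f j)) (gij i j)]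
    (ρ₁ : ∀ i j, Mi i →ₗ[R] Mij i j) (hρ₁ : ∀ i j, ρ₁ i j ∘ₗ g i = gij i j) (ρ₂ : ∀ i j, Mi j →ₗ[R] Mij i j) (hρ₂ : ∀ i j, ρ₂ i j ∘ₗ g j = gij i j) :
    (∀ m : M, (∀ i, g i m = 0) → m = 0) ∧
      ∀ s : ∀ i, Mi i, (∀ i j, ρ₁ i j (s i) = ρ₂ i j (s j)) → ∃ m : M, ∀ i, g i m = s i := by
  classical
  constructor
  · -- injectivity
    intro m hm
    have h1 : ∀ i, ∃ n : ℕ, f i ^ n • m = 0 := by
      intro i
      obtain ⟨⟨_, n, rfl⟩, hn⟩ :=
        (IsLocalizedModule.eq_zero_iff (Submonoid.powers (f i)) (g i)).mp (hm i)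
      exact ⟨n, hn⟩
    choose n hn using h1
    set N := Finset.univ.sup n with hNdef
    have hN : ∀ i, f i ^ N • m = 0 := by
      intro i
      have hle : n i ≤ N := Finset.le_sup (f := n) (Finset.mem_univ i)
      obtain ⟨d, hd⟩ := Nat.exists_eq_add_of_le hle
      rw [hd, pow_add, mul_comm, mul_smul, hn i, smul_zero]
    have hspan : Ideal.span (Set.range fun i => f i ^ N) = ⊤ := by
      have := Ideal.span_pow_eq_top (Set.range f) hf N
      rwa [← Set.range_comp] at this
    have h1 : (1 : R) ∈ Ideal.span (Set.range fun i => f i ^ N) := by rw [hspan]; trivial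
    obtain ⟨c, hc⟩ := (Ideal.mem_span_range_iff_exists_fun).mp h1
    calc m = (1 : R) • m := (one_smul R m).symm
      _ = (∑ i, c i * f i ^ N) • m := by rw [hc]
      _ = ∑ i, (c i * f i ^ N) • m := Finset.sum_smul
      _ = 0 := Finset.sum_eq_zero fun i _ => by rw [mul_smul, hN i, smul_zero]
  · -- gluing
    intro s hs
    have h1 : ∀ i, ∃ (mi : M) (k : ℕ), f i ^ k • s i = g i mi := by
      intro i
      obtain ⟨⟨mi, ⟨_, k, rfl⟩⟩, hk⟩ := IsLocalizedModule.surj (Submonoid.powers (f i)) (g i) (s i)
      exact ⟨mi, k, hk⟩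
    choose m0 k hk using h1
    set N := Finset.univ.sup k with hNdef
    set mm : ι → M := fun i => f i ^ (N - k i) • m0 i with hmm
    have hmmN : ∀ i, f i ^ N • s i = g i (mm i) := by
      intro i
      have hle : k i ≤ N := Finset.le_sup (f := k) (Finset.mem_univ i)
      have : f i ^ N = f i ^ (N - k i) * f i ^ k i := by
        rw [← pow_add]; congr 1; omega
      rw [this, mul_smul, hk i, hmm, map_smul]
    have h2 : ∀ i j, gij i j (f j ^ N • mm i) = gij i j (f i ^ N • mm j) := by
      intro i j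
      have ha : gij i j (f j ^ N • mm i) = (f j ^ N * f i ^ N) • ρ₁ i j (s i) := by
        rw [map_smul, ← hρ₁ i j, LinearMap.comp_apply, ← hmmN i, map_smul, smul_smul]
      have hb : gij i j (f i ^ N • mm j) = (f i ^ N * f j ^ N) • ρ₂ i j (s j) := by
        rw [map_smul, ← hρ₂ i j, LinearMap.comp_apply, ← hmmN j, map_smul, smul_smul]
      rw [ha, hb, hs i j, mul_comm]
    have h3 : ∀ i j, ∃ K : ℕ, (f i * f j) ^ K • (f j ^ N • mm i) = (f i * f j) ^ K • (f i ^ N • mm j) := by
      intro i j
      obtain ⟨⟨_, K, rfl⟩, hK⟩ :=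
        (IsLocalizedModule.eq_iff_exists (Submonoid.powers (f i * f j)) (gij i j)).mp (h2 i j)
      exact ⟨K, hK⟩
    choose K0 hK0 using h3
    set K := Finset.univ.sup (fun p : ι × ι => K0 p.1 p.2) with hKdef
    have hK : ∀ i j, (f i * f j) ^ K • (f j ^ N • mm i) = (f i * f j) ^ K • (f i ^ N • mm j) := by
      intro i j
      have hle : K0 i j ≤ K :=
        Finset.le_sup (f := fun p : ι × ι => K0 p.1 p.2) (Finset.mem_univ (i, j))
      obtain ⟨d, hd⟩ := Nat.exists_eq_add_of_le hle
      rw [hd, pow_add, mul_comm ((f i * f j) ^ K0 i j), mul_smul, mul_smul, hK0 i j]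
    have hspan : Ideal.span (Set.range fun i => f i ^ (N + K)) = ⊤ := by
      have := Ideal.span_pow_eq_top (Set.range f) hf (N + K)
      rwa [← Set.range_comp] at this
    have h1 : (1 : R) ∈ Ideal.span (Set.range fun i => f i ^ (N + K)) := by rw [hspan]; trivial
    obtain ⟨c, hc⟩ := (Ideal.mem_span_range_iff_exists_fun).mp h1
    refine ⟨∑ i, (c i * f i ^ K) • mm i, ?_⟩
    intro j
    have hinj := IsLocalizedModule.smul_injective (g j)
      (⟨f j ^ (N + K), N + K, rfl⟩ : Submonoid.powers (f j))
    apply hinj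
    show f j ^ (N + K) • g j (∑ i, (c i * f i ^ K) • mm i) = f j ^ (N + K) • s j
    have e1 : f j ^ (N + K) • (∑ i, (c i * f i ^ K) • mm i) = f j ^ K • mm j := by
      calc f j ^ (N + K) • (∑ i, (c i * f i ^ K) • mm i)
          = ∑ i, c i • ((f i * f j) ^ K • (f j ^ N • mm i)) := by
            rw [Finset.smul_sum]
            refine Finset.sum_congr rfl fun i _ => ?_
            simp only [smul_smul]
            congr 1
            ring
        _ = ∑ i, c i • ((f i * f j) ^ K • (f i ^ N • mm j)) := by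
            refine Finset.sum_congr rfl fun i _ => ?_
            rw [hK i j]
        _ = (∑ i, c i * f i ^ (N + K)) • (f j ^ K • mm j) := by
            rw [Finset.sum_smul]
            refine Finset.sum_congr rfl fun i _ => ?_
            simp only [smul_smul]
            congr 1
            ring
        _ = f j ^ K • mm j := by rw [hc, one_smul]
    rw [← map_smul, e1, map_smul, ← hmmN j, smul_smul, ← pow_add, add_comm]

end Groth.Agent.S9658
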