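import Groth.Statements.S9659
import Mathlib

set_option autoImplicit false
universe u
open CAlg

namespace Groth.Agent.S9659

open DirectSum

section Aux

variable {R S : Type u} [CommRing R] [CommRing S] [Algebra R S] (𝒜 : ℤ → Submodule R S)
  [GradedAlgebra 𝒜]

/-- the inverse of a homogeneous unit is homogeneous -/
theorem inv_mem {f : S} {d : ℤ} (hf : f ∈ 𝒜 d) (u : Sˣ) (hu : (u : S) = f) :
    ((u⁻¹ : Sˣ) : S) ∈ 𝒜 (-d) := by
  classical
  have key : ∀ j, j ≠ -d → ((decompose 𝒜 ((u⁻¹ : Sˣ) : S)) j : S) = 0 := by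
    intro j hj
    have h1 := coe_decompose_mul_add_of_left_mem 𝒜 (i := d) (j := j) (b := ((u⁻¹ : Sˣ) : S)) hf
    rw [← hu, Units.mul_inv] at h1
    have h2 : ((decompose 𝒜 (1 : S)) (d + j) : S) = 0 := by
      rw [decompose_of_mem_ne 𝒜 (SetLike.GradedOne.one_mem (A := 𝒜))]
      omega
    rw [h2] at h1
    exact (Units.mul_right_eq_zero u).mp h1.symm
  rw [← sum_support_decompose 𝒜 ((u⁻¹ : Sˣ) : S)]
  refine Submodule.sum_mem _ fun j _ => ?_
  by_cases h : j = -d
  · subst h; exact SetLike.coe_mem _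
  · rw [key j h]; exact zero_mem _

theorem zpow_mem {f : S} {d : ℤ} (hf : f ∈ 𝒜 d) (u : Sˣ) (hu : (u : S) = f) (n : ℤ) :
    ((u ^ n : Sˣ) : S) ∈ 𝒜 (n * d) := by
  obtain ⟨m, rfl | rfl⟩ := n.eq_nat_or_neg
  · rw [zpow_natCast, Units.val_pow_eq_pow_val, hu]
    have := SetLike.pow_mem_graded m hf
    simpa [nsmul_eq_mul] using this
  · rw [zpow_neg, zpow_natCast, ← inv_pow, Units.val_pow_eq_pow_val]
    have := SetLike.pow_mem_graded m (inv_mem 𝒜 hf u hu)
    simpa [nsmul_eq_mul] using this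

/-- the degree zero element attached to a homogeneous element -/
theorem z_mem {f : S} {d : ℤ} (hd : 0 < d) (hf : f ∈ 𝒜 d) (u : Sˣ) (hu : (u : S) = f)
    {a : S} {n : ℤ} (ha : a ∈ 𝒜 n) : a ^ d.toNat * ((u ^ (-n) : Sˣ) : S) ∈ 𝒜 0 := by
  have h1 := SetLike.pow_mem_graded d.toNat ha
  have h2 := zpow_mem 𝒜 hf u hu (-n)
  have h3 := SetLike.GradedMul.mul_mem h1 h2
  have : d.toNat • n + -n * d = 0 := by
    rw [nsmul_eq_mul, Int.toNat_of_nonneg hd.le]; ring
  rwa [this] at h3

theorem mem_iff_z {d : ℤ} (hd : 0 < d) (u : Sˣ) (p : Ideal S) [hp : p.IsPrime] (a : S) (n : ℤ) :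
    a ∈ p ↔ a ^ d.toNat * ((u ^ (-n) : Sˣ) : S) ∈ p := by
  rw [Ideal.mul_unit_mem_iff_mem p (Units.isUnit _)]
  constructor
  · intro ha
    exact Ideal.pow_mem_of_mem p ha _ (by omega)
  · intro ha
    exact hp.mem_of_pow_mem _ ha

end Aux

/-- Let S be a ℤ-graded ring which contains an invertible homogeneous element of positive degree. Then
the set of homogeneous prime ideals of S, with the topology induced from Spec(S), maps
homeomorphically onto Spec(S₀) by p ↦ p ∩ S₀. -/
theorem result {R S : Type u} [CommRing R] [CommRing S] [Algebra R S] (𝒜 : ℤ → Submodule R S) [GradedAlgebra 𝒜]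
    (f : S) (d : ℤ) (hd : 0 < d) (hf : f ∈ 𝒜 d) (hu : IsUnit f) :
    IsHomeomorph (fun p : {p : PrimeSpectrum S // p.asIdeal.IsHomogeneous 𝒜} => PrimeSpectrum.comap (SetLike.GradeZero.subring 𝒜).subtype p.1) := by
  classical
  obtain ⟨u, hu⟩ := hu
  set S₀ := SetLike.GradeZero.subring 𝒜 with hS₀
  set Φ : {p : PrimeSpectrum S // p.asIdeal.IsHomogeneous 𝒜} → PrimeSpectrum S₀ :=
    fun p => PrimeSpectrum.comap S₀.subtype p.1 with hΦ
  have hΦmem : ∀ (p : {p : PrimeSpectrum S // p.asIdeal.IsHomogeneous 𝒜}) (y : S₀),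
      y ∈ (Φ p).asIdeal ↔ (y : S) ∈ p.1.asIdeal := fun p y => Iff.rfl
  -- the degree zero element
  let z : S → ℤ → S₀ := fun x n =>
    ⟨((decompose 𝒜 x) n : S) ^ d.toNat * ((u ^ (-n) : Sˣ) : S),
      z_mem 𝒜 hd hf u hu (SetLike.coe_mem _)⟩
  have hz : ∀ (p : {p : PrimeSpectrum S // p.asIdeal.IsHomogeneous 𝒜}) (x : S),
      x ∈ p.1.asIdeal ↔ ∀ n, z x n ∈ (Φ p).asIdeal := by
    intro p x
    rw [p.2.mem_iff]
    refine forall_congr' fun n => ?_
    rw [hΦmem]
    exact mem_iff_z hd u p.1.asIdeal _ n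
  have hinj : Function.Injective Φ := by
    intro p p' h
    apply Subtype.ext
    apply PrimeSpectrum.ext
    ext x
    rw [hz p x, hz p' x, h]
  have hsurj : Function.Surjective Φ := by
    intro q
    set J : Ideal S := Ideal.map S₀.subtype q.asIdeal with hJ
    have hJ0 : ∀ y ∈ J, ∀ s : S,
        (⟨((decompose 𝒜 (s * y)) 0 : S), SetLike.coe_mem _⟩ : S₀) ∈ q.asIdeal := by
      intro y hy
      rw [hJ, Ideal.map] at hy
      induction hy using Submodule.span_induction with
      | mem y hy =>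
        obtain ⟨t, ht, rfl⟩ := hy
        intro s
        have h1 : ((decompose 𝒜 (s * S₀.subtype t)) 0 : S) =
            ((decompose 𝒜 s) 0 : S) * (t : S) :=
          coe_decompose_mul_of_right_mem_zero 𝒜 t.2
        have h2 : (⟨((decompose 𝒜 (s * S₀.subtype t)) 0 : S), SetLike.coe_mem _⟩ : S₀) =
            ⟨((decompose 𝒜 s) 0 : S), SetLike.coe_mem _⟩ * t := Subtype.ext h1
        rw [h2]
        exact Ideal.mul_mem_left _ _ ht
      | zero =>
        intro s
        simp only [mul_zero, decompose_zero, DirectSum.zero_apply, ZeroMemClass.coe_zero]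
        exact zero_mem _
      | add y y' _ _ hy hy' =>
        intro s
        have h2 : (⟨((decompose 𝒜 (s * (y + y'))) 0 : S), SetLike.coe_mem _⟩ : S₀) =
            ⟨((decompose 𝒜 (s * y)) 0 : S), SetLike.coe_mem _⟩ +
              ⟨((decompose 𝒜 (s * y')) 0 : S), SetLike.coe_mem _⟩ := by
          apply Subtype.ext
          simp only [mul_add, decompose_add, DirectSum.add_apply, Submodule.coe_add,
            Subring.coe_add]
        rw [h2]
        exact add_mem (hy s) (hy' s)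
      | smul a y _ hy =>
        intro s
        have : s * (a • y) = (s * a) * y := by rw [smul_eq_mul, mul_assoc]
        simp only [this]
        exact hy (s * a)
    have hJq : ∀ t : S₀, (t : S) ∈ J → t ∈ q.asIdeal := by
      intro t ht
      have := hJ0 _ ht 1
      have h2 : (⟨((decompose 𝒜 (1 * (t : S))) 0 : S), SetLike.coe_mem _⟩ : S₀) = t := by
        apply Subtype.ext
        simp only [one_mul]
        exact decompose_of_mem_same 𝒜 t.2
      rwa [h2] at this
    have hdisj : Disjoint (J : Set S) (Submonoid.map S₀.subtype q.asIdeal.primeCompl) := by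
      rw [Set.disjoint_left]
      rintro y hy ⟨t, ht, rfl⟩
      exact ht (hJq t hy)
    obtain ⟨P, hP, hJP, hPdisj⟩ := Ideal.exists_le_prime_disjoint J _ hdisj
    have hcore : ((P.homogeneousCore 𝒜).toIdeal).IsPrime := hP.homogeneousCore
    refine ⟨⟨⟨(P.homogeneousCore 𝒜).toIdeal, hcore⟩, (P.homogeneousCore 𝒜).isHomogeneous⟩, ?_⟩
    apply PrimeSpectrum.ext
    ext t
    change (t : S) ∈ (P.homogeneousCore 𝒜).toIdeal ↔ t ∈ q.asIdeal
    constructor
    · intro ht
      by_contra hq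
      have h1 : (t : S) ∈ P := Ideal.toIdeal_homogeneousCore_le 𝒜 P ht
      exact Set.disjoint_left.mp hPdisj h1 ⟨t, hq, rfl⟩
    · intro ht
      apply Ideal.mem_homogeneousCore_of_homogeneous_of_mem ⟨0, t.2⟩
      exact hJP (Ideal.mem_map_of_mem _ ht)
  refine ⟨?_, ?_, hinj, hsurj⟩
  · exact (PrimeSpectrum.continuous_comap S₀.subtype).comp continuous_subtype_val
  · have hB := (PrimeSpectrum.isTopologicalBasis_basic_opens (R := S)).isInducing
      (Topology.IsInducing.subtypeVal (t := {p : PrimeSpectrum S | p.asIdeal.IsHomogeneous 𝒜}))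
    rw [hB.isOpenMap_iff]
    rintro s ⟨_, ⟨a, rfl⟩, rfl⟩
    have hs : Φ '' (Subtype.val ⁻¹' (PrimeSpectrum.basicOpen a : Set (PrimeSpectrum S))) =
        ⋃ n : ℤ, (PrimeSpectrum.basicOpen (z a n) : Set (PrimeSpectrum S₀)) := by
      ext q
      simp only [Set.mem_image, Set.mem_preimage, SetLike.mem_coe, PrimeSpectrum.mem_basicOpen,
        Set.mem_iUnion]
      constructor
      · rintro ⟨p, hp, rfl⟩
        by_contra hcon
        push Not at hcon
        exact hp ((hz p a).mpr hcon)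
      · rintro ⟨n, hn⟩
        obtain ⟨p, rfl⟩ := hsurj q
        refine ⟨p, ?_, rfl⟩
        intro ha
        exact hn ((hz p a).mp ha n)
    change IsOpen (Φ '' (Subtype.val ⁻¹' (PrimeSpectrum.basicOpen a : Set (PrimeSpectrum S))))
    rw [hs]
    exact isOpen_iUnion fun n => (PrimeSpectrum.basicOpen (z a n)).isOpen

end Groth.Agent.S9659
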