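import Groth.Statements.S9661
import Mathlib
import Groth.Agent.Lib.Helper85.HS.Core
import Groth.Agent.Lib.Helper85.HS.Poly

set_option autoImplicit false
universe u
attribute [local instance] MvPolynomial.gradedAlgebra
open CAlg

namespace Groth.Agent.S9661

open Groth.Agent.Lib.Helper85.HS

section Helpers

variable {k : Type u} [Field k] (d : ℕ)

/-- graded pieces of an ideal, as `k`-submodules of the ideal -/
noncomputable def piece (J : Ideal (MvPolynomial (Fin d) k)) (n : ℕ) : Submodule k ↥J :=
  (MvPolynomial.homogeneousSubmodule (Fin d) k n).comap (J.subtype.restrictScalars k)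

/-- the graded piece of an ideal as a subspace of the polynomial ring -/
noncomputable def pieceEquiv (J : Ideal (MvPolynomial (Fin d) k)) (n : ℕ) :
    ↥(piece d J n) ≃ₗ[k]
      ↥(J.restrictScalars k ⊓ MvPolynomial.homogeneousSubmodule (Fin d) k n) where
  toFun y := ⟨y.1.1, ⟨y.1.2, y.2⟩⟩
  invFun z := ⟨⟨z.1, z.2.1⟩, z.2.2⟩
  map_add' _ _ := rfl
  map_smul' _ _ := rfl
  left_inv _ := rfl
  right_inv _ := rfl

theorem grData_ideal (J : Ideal (MvPolynomial (Fin d) k))
    (hJ : J.IsHomogeneous (MvPolynomial.homogeneousSubmodule (Fin d) k)) :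
    GrData (⊥ : Ideal k) (MvPolynomial.X : Fin d → MvPolynomial (Fin d) k) ↥J (piece d J) := by
  classical
  have hS : iSupIndep (MvPolynomial.homogeneousSubmodule (Fin d) k) :=
    (DirectSum.Decomposition.isInternal
      (MvPolynomial.homogeneousSubmodule (Fin d) k)).submodule_iSupIndep
  refine ⟨?_, ?_, ?_, ?_⟩
  · rw [iSupIndep_def]
    intro i
    rw [Submodule.disjoint_def]
    intro x hx hx'
    have h1 : (J.subtype.restrictScalars k) x ∈ MvPolynomial.homogeneousSubmodule (Fin d) k i := hx
    have h2 : (J.subtype.restrictScalars k) x ∈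
        ⨆ j ≠ i, MvPolynomial.homogeneousSubmodule (Fin d) k j := by
      have hle : (⨆ j ≠ i, piece d J j).map (J.subtype.restrictScalars k) ≤
          ⨆ j ≠ i, MvPolynomial.homogeneousSubmodule (Fin d) k j := by
        rw [Submodule.map_iSup]
        refine iSup_mono fun j => ?_
        rw [Submodule.map_iSup]
        refine iSup_mono fun _ => ?_
        exact Submodule.map_comap_le _ _
      exact hle (Submodule.mem_map_of_mem hx')
    have h3 := (Submodule.disjoint_def.mp ((iSupIndep_def.mp hS) i)) _ h1 h2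
    exact Subtype.ext h3
  · refine eq_top_iff.mpr fun x _ => ?_
    have hx : x = ∑ n ∈ (DirectSum.decompose (MvPolynomial.homogeneousSubmodule (Fin d) k)
        x.1).support,
        (⟨(DirectSum.decompose (MvPolynomial.homogeneousSubmodule (Fin d) k) x.1 n :
          MvPolynomial (Fin d) k), hJ n x.2⟩ : ↥J) := by
      apply Subtype.ext
      rw [Submodule.coe_sum]
      exact (DirectSum.sum_support_decompose
        (MvPolynomial.homogeneousSubmodule (Fin d) k) x.1).symm
    rw [hx]
    refine Submodule.sum_mem _ fun n _ => Submodule.mem_iSup_of_mem n ?_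
    exact (DirectSum.decompose (MvPolynomial.homogeneousSubmodule (Fin d) k) x.1 n).2
  · intro j i m hm
    have h1 : (MvPolynomial.X j : MvPolynomial (Fin d) k) ∈
        MvPolynomial.homogeneousSubmodule (Fin d) k 1 :=
      (MvPolynomial.mem_homogeneousSubmodule _ _).mpr (MvPolynomial.isHomogeneous_X k j)
    have hm' : (m : MvPolynomial (Fin d) k) ∈ MvPolynomial.homogeneousSubmodule (Fin d) k i := hm
    have h2 := SetLike.mul_mem_graded hm' h1
    show (MvPolynomial.X j : MvPolynomial (Fin d) k) * (m : MvPolynomial (Fin d) k) ∈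
      MvPolynomial.homogeneousSubmodule (Fin d) k (i + 1)
    rw [mul_comm]
    exact h2
  · intro a ha m
    rw [Ideal.mem_bot.mp ha, zero_smul]

theorem lenZ_piece (J : Ideal (MvPolynomial (Fin d) k)) (n : ℕ) :
    lenZ (piece d J) n = (Module.finrank k
      ↥(J.restrictScalars k ⊓ MvPolynomial.homogeneousSubmodule (Fin d) k n) : ℤ) := by
  rw [lenZ, Module.length_eq_rank, Cardinal.toNat_toENat, ← (pieceEquiv d J n).finrank_eq]
  rfl

/-- Hilbert–Serre for a homogeneous ideal of the polynomial ring. -/
theorem hilbert_ideal (J : Ideal (MvPolynomial (Fin d) k))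
    (hJ : J.IsHomogeneous (MvPolynomial.homogeneousSubmodule (Fin d) k)) :
    (∀ n, Module.Finite k
      ↥(J.restrictScalars k ⊓ MvPolynomial.homogeneousSubmodule (Fin d) k n)) ∧
    EvBinom d (fun n => (Module.finrank k
      ↥(J.restrictScalars k ⊓ MvPolynomial.homogeneousSubmodule (Fin d) k n) : ℤ)) := by
  have : IsArtinianRing (k ⧸ (⊥ : Ideal k)) :=
    Function.Surjective.isArtinianRing (Ideal.Quotient.mk_surjective (I := (⊥ : Ideal k)))
  have hx : Algebra.adjoin k (Set.range (MvPolynomial.X : Fin d → MvPolynomial (Fin d) k)) = ⊤ :=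
    MvPolynomial.adjoin_range_X
  obtain ⟨hfin, hev⟩ := hilbert_serre (⊥ : Ideal k)
    (MvPolynomial.X : Fin d → MvPolynomial (Fin d) k) hx d le_rfl ↥J (piece d J)
    (grData_ideal d J hJ) (fun j hj => absurd j.2 (not_lt.mpr hj))
  refine ⟨fun n => ?_, ?_⟩
  · have h1 : IsNoetherian k ↥(piece d J n) :=
      (isFiniteLength_iff_isNoetherian_isArtinian.mp (hfin n)).1
    have h2 : Module.Finite k ↥(piece d J n) := Module.IsNoetherian.finite k _
    exact Module.Finite.equiv (pieceEquiv d J n)
  · exact hev.congr 0 fun n _ => (lenZ_piece d J n).symm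

end Helpers

/-- Let k be a field, d ≥ 1, and I a nonzero homogeneous ideal of the standard-graded polynomial ring
k[X_1, …, X_d]; put M = k[X_1, …, X_d]/I. Then the function n ↦ dim_k M_n (equal to dim_k of the
degree-n part of the polynomial ring minus dim_k of the degree-n part of I) coincides for all large
n with a polynomial of degree < d - 1, the zero polynomial if d = 1. -/
theorem result {k : Type u} [Field k] (d : ℕ) (hd : 0 < d)
    (I : HomogeneousIdeal (MvPolynomial.homogeneousSubmodule (Fin d) k)) (hI : I ≠ ⊥) :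
    ∃ P : Polynomial ℚ, P.degree < ((d - 1 : ℕ) : WithBot ℕ) ∧ ∃ N : ℕ, ∀ n : ℕ, N ≤ n →
      ((Module.finrank k ↥(MvPolynomial.homogeneousSubmodule (Fin d) k n) : ℚ) -
        (Module.finrank k ↥(I.toIdeal.restrictScalars k ⊓ MvPolynomial.homogeneousSubmodule (Fin d) k n) : ℚ)) = P.eval (n : ℚ) := by
  classical
  obtain ⟨d', rfl⟩ : ∃ d', d = d' + 1 := ⟨d - 1, by omega⟩
  -- Hilbert functions of the ring and of the ideal
  have htop : (⊤ : Ideal (MvPolynomial (Fin (d' + 1)) k)).IsHomogeneous
      (MvPolynomial.homogeneousSubmodule (Fin (d' + 1)) k) := fun i r _ => Submodule.mem_top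
  obtain ⟨hfinT, hevT⟩ := hilbert_ideal (d' + 1) (⊤ : Ideal (MvPolynomial (Fin (d' + 1)) k)) htop
  obtain ⟨hfinI, hevI⟩ := hilbert_ideal (d' + 1) I.toIdeal I.isHomogeneous
  have hTn : ∀ n, ((⊤ : Ideal (MvPolynomial (Fin (d' + 1)) k)).restrictScalars k ⊓
      MvPolynomial.homogeneousSubmodule (Fin (d' + 1)) k n) =
      MvPolynomial.homogeneousSubmodule (Fin (d' + 1)) k n := by
    intro n
    rw [Submodule.restrictScalars_top, top_inf_eq]
  have hfinT' : ∀ n, Module.Finite k
      ↥(MvPolynomial.homogeneousSubmodule (Fin (d' + 1)) k n) := fun n => by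
    have := hfinT n
    rwa [hTn n] at this
  have hevT' : EvBinom (d' + 1) (fun n => (Module.finrank k
      ↥(MvPolynomial.homogeneousSubmodule (Fin (d' + 1)) k n) : ℤ)) :=
    hevT.congr 0 fun n _ => by
      beta_reduce
      rw [hTn n]
  clear hfinT hevT
  set F : ℕ → ℤ := fun n => (Module.finrank k
    ↥(MvPolynomial.homogeneousSubmodule (Fin (d' + 1)) k n) : ℤ) with hF
  set G : ℕ → ℤ := fun n => (Module.finrank k
    ↥(I.toIdeal.restrictScalars k ⊓ MvPolynomial.homogeneousSubmodule (Fin (d' + 1)) k n) : ℤ)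
    with hG
  -- a nonzero homogeneous element of `I`
  have hIne : I.toIdeal ≠ ⊥ := by
    intro h
    apply hI
    apply HomogeneousIdeal.toIdeal_injective
    rw [h, HomogeneousIdeal.toIdeal_bot]
  obtain ⟨x, hxI, hx0⟩ := Submodule.exists_mem_ne_zero_of_ne_bot hIne
  obtain ⟨e, he⟩ : ∃ e, (DirectSum.decompose
      (MvPolynomial.homogeneousSubmodule (Fin (d' + 1)) k) x e :
        MvPolynomial (Fin (d' + 1)) k) ≠ 0 := by
    by_contra hcon
    push Not at hcon
    apply hx0
    rw [← DirectSum.sum_support_decompose (MvPolynomial.homogeneousSubmodule (Fin (d' + 1)) k) x]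
    exact Finset.sum_eq_zero fun n _ => hcon n
  set h : MvPolynomial (Fin (d' + 1)) k := (DirectSum.decompose
      (MvPolynomial.homogeneousSubmodule (Fin (d' + 1)) k) x e : MvPolynomial (Fin (d' + 1)) k)
    with hh
  have hhI : h ∈ I.toIdeal := I.isHomogeneous e hxI
  have hhe : h ∈ MvPolynomial.homogeneousSubmodule (Fin (d' + 1)) k e :=
    (DirectSum.decompose (MvPolynomial.homogeneousSubmodule (Fin (d' + 1)) k) x e).2
  -- bounds
  have hbound : ∀ n, e ≤ n → 0 ≤ F n - G n ∧ F n - G n ≤ F n - F (n - e) := by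
    intro n hn
    have := hfinT' n
    have := hfinI n
    have h1 : G n ≤ F n := by
      have : Module.finrank k ↥(I.toIdeal.restrictScalars k ⊓
          MvPolynomial.homogeneousSubmodule (Fin (d' + 1)) k n) ≤
          Module.finrank k ↥(MvPolynomial.homogeneousSubmodule (Fin (d' + 1)) k n) :=
        Submodule.finrank_mono inf_le_right
      simp only [hF, hG]
      exact_mod_cast this
    have h2 : F (n - e) ≤ G n := by
      let μ : ↥(MvPolynomial.homogeneousSubmodule (Fin (d' + 1)) k (n - e)) →ₗ[k]
          ↥(I.toIdeal.restrictScalars k ⊓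
            MvPolynomial.homogeneousSubmodule (Fin (d' + 1)) k n) :=
        { toFun := fun z => ⟨h * z.1, ⟨by
              show h * z.1 ∈ I.toIdeal
              rw [mul_comm]; exact I.toIdeal.mul_mem_left _ hhI, by
              have := SetLike.mul_mem_graded hhe z.2
              rwa [Nat.add_sub_cancel' hn] at this⟩⟩
          map_add' := fun a b => Subtype.ext (mul_add _ _ _)
          map_smul' := fun c a => Subtype.ext (mul_smul_comm _ _ _) }
      have hμ : Function.Injective μ := by
        intro a b hab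
        have : h * a.1 = h * b.1 := congrArg Subtype.val hab
        exact Subtype.ext (mul_left_cancel₀ he this)
      have := LinearMap.finrank_le_finrank_of_injective hμ
      simp only [hF, hG]
      exact_mod_cast this
    constructor <;> omega
  have hevf : EvBinom (d' + 1) (fun n => F n - G n) := hevT'.sub hevI
  have hevg : EvBinom d' (fun n => F n - F (n - e)) := hevT'.sub_unshift e
  have hmain : EvBinom d' (fun n => F n - G n) := by
    rcases Nat.eq_zero_or_pos d' with h0 | h0
    · subst h0
      obtain ⟨c, N, hc⟩ := hevg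
      refine ⟨c, max N e, fun n hn => ?_⟩
      have h1 := hc n (le_trans (le_max_left _ _) hn)
      have h2 := hbound n (le_trans (le_max_right _ _) hn)
      rw [Finset.range_zero, Finset.sum_empty] at h1 ⊢
      beta_reduce at h1 ⊢
      omega
    · obtain ⟨k', rfl⟩ : ∃ k', d' = k' + 1 := ⟨d' - 1, by omega⟩
      exact EvBinom.of_le hevg (k' + 1) _ hevf ⟨e, fun n hn => hbound n hn⟩
  obtain ⟨c, N, hc⟩ := hmain
  refine ⟨binomPoly c d', ?_, N, fun n hn => ?_⟩
  · rw [Nat.add_sub_cancel]
    rcases Nat.eq_zero_or_pos d' with h0 | h0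
    · subst h0
      have : binomPoly c 0 = 0 := by simp [binomPoly]
      rw [this, Polynomial.degree_zero]
      exact WithBot.bot_lt_coe _
    · obtain ⟨k', rfl⟩ : ∃ k', d' = k' + 1 := ⟨d' - 1, by omega⟩
      have h1 := natDegree_binomPoly_le c k'
      refine lt_of_le_of_lt Polynomial.degree_le_natDegree ?_
      exact_mod_cast Nat.lt_succ_of_le h1
  · rw [eval_binomPoly, ← hc n hn]
    simp only [hF, hG]
    push_cast
    ring

end Groth.Agent.S9661
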