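import Groth.Statements.S9662
import Mathlib
import Groth.Agent.Lib.Helper75.K0Hilbert

set_option autoImplicit false
universe u
open CategoryTheory
open CAlg

namespace Groth.Agent.S9662

/-- Let S be a Noetherian ℕ-graded ring, presented as a graded algebra over a ring A mapping onto S₀,
whose irrelevant ideal S₊ is generated as an ideal by the degree-1 part S₁, and let M be a finitely
generated graded S-module, graded in nonnegative degrees. (The published statement allows modules
graded in all integer degrees; this row takes modules graded in degrees ≥ 0, which loses nothing for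
large n.) Write K'₀(A) for the Grothendieck group of finite A-modules (the free abelian group on the
finite A-modules modulo the relations given by short exact sequences) and [M_n] for the class of the
finite A-module M_n. Then n ↦ [M_n] is a numerical polynomial: there are a_0, …, a_{r-1} in K'₀(A)
with [M_n] = Σ_i C(n, i) · a_i for all large n. (When A → S₀ is bijective K'₀(A) is K'₀(S₀), the
group of the published statement; in general the classes are taken after restricting scalars along A
→ S₀.) -/
theorem result {A S : Type u} [CommRing A] [CommRing S] [Algebra A S] [IsNoetherianRing S] (𝒜 : ℕ → Submodule A S) [GradedAlgebra 𝒜]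
    (h0 : ∀ s ∈ 𝒜 0, s ∈ Set.range (algebraMap A S))
    (h1 : (HomogeneousIdeal.irrelevant 𝒜).toIdeal = Ideal.span (𝒜 1 : Set S))
    (M : Type u) [AddCommGroup M] [Module A M] [Module S M] [IsScalarTower A S M] [Module.Finite S M] (ℳ : ℕ → Submodule A M) [DirectSum.Decomposition ℳ] [SetLike.GradedSMul 𝒜 ℳ] :
    ∃ (r : ℕ) (a : Fin r → KZero.K0sub (fun X : ModuleCat.{u} A => Module.Finite A X)) (N : ℕ), ∀ n : ℕ, N ≤ n →
      KZero.clSub (fun X : ModuleCat.{u} A => Module.Finite A X) (ModuleCat.of A ↥(ℳ n)) = ∑ i : Fin r, ((n.choose (i : ℕ) : ℕ) : ℤ) • a i := by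
  classical
  -- finitely many generators of `S₊` in degree one
  have hfg : (HomogeneousIdeal.irrelevant 𝒜).toIdeal.FG := IsNoetherian.noetherian _
  rw [h1] at hfg
  obtain ⟨T, hTsub, hTspan⟩ := (Submodule.fg_span_iff_fg_span_finset_subset _).mp hfg
  have hTspan' : Ideal.span (𝒜 1 : Set S) = Ideal.span (T : Set S) := hTspan
  -- every homogeneous element lies in the subalgebra generated by `T`
  have hhom : ∀ n, ∀ s ∈ 𝒜 n, s ∈ Algebra.adjoin A (T : Set S) := by
    intro n
    induction n with
    | zero =>
      intro s hs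
      obtain ⟨a, rfl⟩ := h0 s hs
      exact Subalgebra.algebraMap_mem _ a
    | succ n ih =>
      intro s hs
      have hs' : s ∈ (HomogeneousIdeal.irrelevant 𝒜).toIdeal := by
        rw [HomogeneousIdeal.mem_iff, HomogeneousIdeal.mem_irrelevant_iff, GradedRing.proj_apply,
          DirectSum.decompose_of_mem_ne 𝒜 hs (Nat.succ_ne_zero n)]
      rw [h1, hTspan'] at hs'
      obtain ⟨c, -, hc⟩ := Submodule.mem_span_finset.mp hs'
      have hs2 : s = ∑ t ∈ T, ((DirectSum.decompose 𝒜 (c t)) n : S) * t := by
        have h3 := DirectSum.decompose_of_mem_same 𝒜 hs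
        rw [← h3]
        conv_lhs => rw [← hc]
        rw [DirectSum.decompose_sum, DFinsupp.finsetSum_apply, AddSubmonoidClass.coe_finsetSum]
        refine Finset.sum_congr rfl fun t ht => ?_
        rw [smul_eq_mul]
        exact DirectSum.coe_decompose_mul_add_of_right_mem 𝒜 (hTsub ht)
      rw [hs2]
      exact Subalgebra.sum_mem _ fun t ht =>
        Subalgebra.mul_mem _ (ih _ (SetLike.coe_mem _)) (Algebra.subset_adjoin ht)
  have hadjT : Algebra.adjoin A (T : Set S) = ⊤ := by
    rw [eq_top_iff]
    rintro s -
    rw [← DirectSum.sum_support_decompose 𝒜 s]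
    exact Subalgebra.sum_mem _ fun i _ => hhom i _ (SetLike.coe_mem _)
  -- enumerate `T`
  let e := T.equivFin
  let x : Fin T.card → S := fun j => ((e.symm j : T) : S)
  have hrange : Set.range x = (T : Set S) := by
    ext s
    constructor
    · rintro ⟨j, rfl⟩
      exact (e.symm j).2
    · intro hs
      exact ⟨e ⟨s, hs⟩, by simp [x]⟩
  have hxdeg : ∀ j, x j ∈ 𝒜 1 := fun j => hTsub (e.symm j).2
  have hadj : Algebra.adjoin A (Set.range x) = ⊤ := by rw [hrange, hadjT]
  -- the graded data
  have hint := (DirectSum.isInternal_submodule_iff_iSupIndep_and_iSup_eq_top ℳ).mp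
    (DirectSum.Decomposition.isInternal ℳ)
  have hGr : Groth.Agent.Lib.Helper85.HS.GrData (⊥ : Ideal A) x M ℳ := by
    refine ⟨hint.1, hint.2, ?_, ?_⟩
    · intro j i m hm
      have := SetLike.GradedSMul.smul_mem (hxdeg j) hm
      rwa [vadd_eq_add, add_comm] at this
    · intro a ha m
      rw [Ideal.mem_bot.mp ha, zero_smul]
  obtain ⟨-, a, N, ha⟩ := Groth.Agent.Lib.Helper75.K0Hilbert.k0_hilbert_serre x hadj T.card le_rfl M ℳ
    hGr (fun j hj => absurd j.2 (not_lt.mpr hj))
  refine ⟨T.card, fun i => a i, N, fun n hn => ?_⟩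
  have h2 := ha n hn
  rw [Finset.sum_range] at h2
  simp only [natCast_zsmul]
  exact h2

end Groth.Agent.S9662
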