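import Groth.Statements.S9666
import Groth.Agent.Lib.Helper50.FiberMod

set_option autoImplicit false
universe u
open CAlg

namespace Groth.Agent.S9666

/-- Part (3): (A ⊆ A_fin): let R → S be a ring map with S Noetherian, N an S-module, q a prime of S and
p the prime of R below q; an associated prime of a module is a prime ideal equal to the annihilator
of some element. If q is an associated prime of the S-module N ⊗_R κ(p) (the fibre module over p, an
S-module by restriction of scalars), then q is an associated prime of the S-module N/pN. -/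
theorem result {R S : Type u} [CommRing R] [CommRing S] [Algebra R S] (N : Type u) [AddCommGroup N] [Module S N] [Module R N] [IsScalarTower R S N] [IsNoetherianRing S]
    (p : Ideal R) [p.IsPrime] (q : Ideal S) [q.IsPrime] (hq : q.comap (algebraMap R S) = p)
    (h : q ∈ FlatCA.ass S (FlatCA.fiberMod p S N)) :
    q ∈ FlatCA.ass S (N ⧸ (p.map (algebraMap R S)) • (⊤ : Submodule S N)) := by
  rw [Groth.Agent.Lib.Helper50.mem_ass_iff] at h ⊢
  obtain ⟨hq', m, hm⟩ := h
  obtain ⟨r₀, hr₀, n₀, hn₀⟩ := Groth.Agent.Lib.Helper50.fiberMod_exists_smul_eq p N m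
  have key : ∀ s, s ∈ q ↔ ∃ r ∉ p, (algebraMap R S r * s) • n₀ ∈
      (p.map (algebraMap R S)) • (⊤ : Submodule S N) := by
    intro s
    rw [← Groth.Agent.Lib.Helper50.smul_toFiberMod_eq_zero_iff, ← hn₀, smul_comm,
      Groth.Agent.Lib.Helper50.fiberMod_smul_eq_zero_iff p N hr₀, hm]
  obtain ⟨t, ht⟩ := (isNoetherianRing_iff_ideal_fg S).mp ‹_› q
  have hex : ∀ s ∈ t, ∃ r ∉ p, (algebraMap R S r * s) • n₀ ∈
      (p.map (algebraMap R S)) • (⊤ : Submodule S N) :=
    fun s hs => (key s).mp (ht ▸ Ideal.subset_span hs)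
  choose! f hf1 hf2 using hex
  have hr : (∏ s ∈ t, f s) ∉ p := by
    rw [Ideal.IsPrime.prod_mem_iff]
    push Not
    exact hf1
  have hall : ∀ s ∈ q, (algebraMap R S (∏ s ∈ t, f s) * s) • n₀ ∈
      (p.map (algebraMap R S)) • (⊤ : Submodule S N) := by
    intro s hs
    rw [← ht] at hs
    induction hs using Submodule.span_induction with
    | mem s hs =>
      obtain ⟨c, hc⟩ := Finset.dvd_prod_of_mem f hs
      have e : algebraMap R S (f s * c) * s = algebraMap R S c * (algebraMap R S (f s) * s) := by
        rw [map_mul]; ring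
      rw [hc, e, mul_smul]
      exact Submodule.smul_mem _ _ (hf2 s hs)
    | zero => simp
    | add x y _ _ hx hy => rw [mul_add, add_smul]; exact add_mem hx hy
    | smul a x _ hx => rw [smul_eq_mul, mul_left_comm, mul_smul]; exact Submodule.smul_mem _ _ hx
  refine ⟨hq', Submodule.Quotient.mk (algebraMap R S (∏ s ∈ t, f s) • n₀), fun s => ?_⟩
  rw [← Submodule.Quotient.mk_smul, Submodule.Quotient.mk_eq_zero, smul_smul, mul_comm]
  exact ⟨hall s, fun h => (key s).mpr ⟨_, hr, h⟩⟩

end Groth.Agent.S9666
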