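import Groth.Statements.S9667
import Groth.Agent.Lib.Helper50.FiberMod
import Groth.Agent.Lib.Helper50.TensorFG

set_option autoImplicit false
universe u
open CAlg

namespace Groth.Agent.S9667

open TensorProduct in
/-- Part (3): (B = B_fin): let R → S be a ring map with S Noetherian, N an S-module, M an R-module and q
a prime of S; an associated prime of a module is a prime ideal equal to the annihilator of some
element. If q is an associated prime of the S-module N ⊗_R M, then there is a finitely generated
R-submodule M' ⊆ M such that q is an associated prime of the S-module N ⊗_R M'. -/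
theorem result {R S : Type u} [CommRing R] [CommRing S] [Algebra R S] (N : Type u) [AddCommGroup N] [Module S N] [Module R N] [IsScalarTower R S N] [IsNoetherianRing S]
    (M : Type u) [AddCommGroup M] [Module R M] (q : Ideal S) [q.IsPrime] (h : q ∈ FlatCA.ass S (N ⊗[R] M)) :
    ∃ M' : Submodule R M, M'.FG ∧ q ∈ FlatCA.ass S (N ⊗[R] ↥M') := by
  classical
  rw [Groth.Agent.Lib.Helper50.mem_ass_iff] at h
  obtain ⟨hq', z, hz⟩ := h
  obtain ⟨t, ht⟩ := (isNoetherianRing_iff_ideal_fg S).mp ‹_› q
  have key : ∀ t' : Finset S, (∀ s ∈ t', s • z = 0) → ∃ M' : Submodule R M, M'.FG ∧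
      ∃ z' : N ⊗[R] M', M'.subtype.lTensor N z' = z ∧ ∀ s ∈ t', s • z' = 0 := by
    intro t'
    induction t' using Finset.induction_on with
    | empty =>
      intro _
      obtain ⟨M', hfin, hM'⟩ := TensorProduct.exists_finite_submodule_right_of_setFinite {z}
        (Set.finite_singleton z)
      obtain ⟨z', hz'⟩ := hM' (Set.mem_singleton z)
      exact ⟨M', Module.Finite.iff_fg.mp hfin, z', hz', by simp⟩
    | insert a t' ha ih =>
      intro hall
      obtain ⟨M', hfg, z', hz', hs'⟩ := ih (fun s hs => hall s (Finset.mem_insert_of_mem hs))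
      have h0 : M'.subtype.lTensor N (a • z') = 0 := by
        have : M'.subtype.lTensor N (a • z') = a • M'.subtype.lTensor N z' :=
          (TensorProduct.AlgebraTensorModule.lTensor S N M'.subtype).map_smul a z'
        rw [this, hz']
        exact hall a (Finset.mem_insert_self _ _)
      obtain ⟨M'', hfg'', hle, h2⟩ :=
        Groth.Agent.Lib.Helper50.exists_lTensor_fg_inclusion_eq_zero hfg (a • z') h0
      refine ⟨M'', hfg'', (Submodule.inclusion hle).lTensor N z', ?_, ?_⟩
      · rw [← LinearMap.lTensor_comp_apply, Submodule.subtype_comp_inclusion, hz']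
      · intro s hs
        have lin : ∀ s : S, s • (Submodule.inclusion hle).lTensor N z' =
            (Submodule.inclusion hle).lTensor N (s • z') := fun s =>
          ((TensorProduct.AlgebraTensorModule.lTensor S N (Submodule.inclusion hle)).map_smul s z').symm
        rw [lin]
        rcases Finset.mem_insert.mp hs with rfl | hs
        · exact h2
        · rw [hs' s hs, map_zero]
  obtain ⟨M', hfg, z', hz', hs'⟩ := key t (fun s hs => (hz s).mp (ht ▸ Ideal.subset_span hs))
  refine ⟨M', hfg, ?_⟩
  rw [Groth.Agent.Lib.Helper50.mem_ass_iff]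
  refine ⟨hq', z', fun s => ⟨fun hs => ?_, fun hs => ?_⟩⟩
  · rw [← ht] at hs
    have hle : Ideal.span (t : Set S) ≤ (Submodule.span S {z'}).annihilator :=
      Ideal.span_le.mpr (fun s hs => by
        rw [SetLike.mem_coe, Submodule.mem_annihilator_span_singleton]; exact hs' s hs)
    exact (Submodule.mem_annihilator_span_singleton _ _).mp (hle hs)
  · rw [hz, ← hz']
    have : M'.subtype.lTensor N (s • z') = s • M'.subtype.lTensor N z' :=
      (TensorProduct.AlgebraTensorModule.lTensor S N M'.subtype).map_smul s z'
    rw [← this, hs, map_zero]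

end Groth.Agent.S9667
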