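import Mathlib
import Groth.Statements.S9671
import Groth.Agent.Lib.Helper96.ReesAway

set_option autoImplicit false
universe u
open CAlg

namespace Groth.Agent.S9671

open Groth.Agent.Lib.Helper96.ReesAway

/-- Let R be a ring and R' an R-algebra of finite type. Then there are an ℕ-graded R-algebra S such that
R → S₀ is bijective and S is generated as an R-algebra by a finite set of degree-1 elements, an
element f ∈ S₁, and a ring isomorphism e between the degree-zero part S_(f) of the localization S_f
and R' which matches r/1 with the image of r in R' for every r ∈ R (so R' is identified with S_(f)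
as an R-algebra). The published statement also produces, from a finite R'-module, a finite graded
S-module whose degree-zero localization at f recovers it; that half is not part of this row. -/
theorem result (R R' : Type u) [CommRing R] [CommRing R'] [Algebra R R'] [Algebra.FiniteType R R'] :
    ∃ (S : Type u) (_ : CommRing S) (_ : Algebra R S) (𝒜 : ℕ → Submodule R S) (_ : GradedAlgebra 𝒜) (f : S) (_ : f ∈ 𝒜 1) (s : Finset S)
      (e : HomogeneousLocalization.Away 𝒜 f ≃+* R'),
      Function.Injective (algebraMap R S) ∧ (∀ x ∈ 𝒜 0, x ∈ Set.range (algebraMap R S)) ∧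
      (↑s ⊆ (𝒜 1 : Set S)) ∧ Algebra.adjoin R (s : Set S) = ⊤ ∧
      ∀ r : R, (e.symm (algebraMap R R' r)).val = algebraMap S (Localization.Away f) (algebraMap R S r) := by
  classical
  obtain ⟨s0, hs0⟩ := (Algebra.FiniteType.out : (⊤ : Subalgebra R R').FG)
  obtain ⟨s', hs', hfin⟩ : ∃ s' : Set R', Algebra.adjoin R s' = ⊤ ∧ s'.Finite :=
    ⟨↑s0, hs0, s0.finite_toSet⟩
  refine ⟨SubT R R' s', SubT.commRing s', SubT.algebra s', grading (R := R) s',
    gradedAlgebra s', fElt (R := R) s', fElt_mem s', (gensS_finite (R := R) s' hfin).toFinset,
    RingEquiv.ofBijective (e0 (R := R) s') ⟨e0_injective s', e0_surjective s' hs'⟩,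
    algebraMap_injective s', fun x hx => mem_range_of_mem_grading_zero s' hx, ?_, ?_, ?_⟩
  · rw [Set.Finite.coe_toFinset]
    exact gensS_subset s'
  · rw [Set.Finite.coe_toFinset]
    exact adjoin_gensS s'
  · intro r
    have h := e0_algebraMap (R := R) s' r
    have h2 : (RingEquiv.ofBijective (e0 (R := R) s')
        ⟨e0_injective s', e0_surjective s' hs'⟩).symm (algebraMap R R' r) =
        HomogeneousLocalization.Away.mk _ (fElt_mem s') 0 (algebraMap R (SubT R R' s') r)
          (algebraMap_mem_grading s' r) := by
      rw [RingEquiv.symm_apply_eq]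
      exact h.symm
    rw [h2]
    exact val_mk_algebraMap s' r

end Groth.Agent.S9671
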