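import Groth.Statements.S9672
import Groth.Agent.Lib.Helper78.QCSpecialize

set_option autoImplicit false
universe u
open CategoryTheory CategoryTheory.Limits AlgebraicGeometry
open Mor

namespace Groth.Agent.S9672

open Groth.Agent.Lib.Helper78

/-- A point specializing to the generic point of an irreducible component is that generic point. -/
theorem eq_of_specializes_generic {T : Type*} [TopologicalSpace T] [T0Space T] {a x : T}
    (hx : closure {x} ∈ irreducibleComponents T) (h : a ⤳ x) : a = x := by
  have h1 : closure {x} ≤ closure {a} := (specializes_iff_closure_subset.mp h)
  have h2 : closure {x} = closure {a} :=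
    hx.eq_of_le isIrreducible_singleton.closure h1
  have h3 : x ⤳ a := specializes_iff_closure_subset.mpr h2.ge
  exact (h.antisymm h3).eq

/-- Let f : Y ⟶ X be quasi-compact and quasi-separated, and write X' for the normalization of X relative
to Y. If x' ∈ X' is the generic point of some irreducible component of X', then there is a point y ∈
Y that is generic in an irreducible component of Y and is sent to x' by the canonical morphism Y ⟶
X'. -/
theorem result {X Y : Scheme.{u}} (f : Y ⟶ X)
    [QuasiCompact f] [QuasiSeparated f] (x' : ↥f.normalization)
    (hx' : closure {x'} ∈ irreducibleComponents ↥f.normalization) :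
    ∃ y : Y, closure {y} ∈ irreducibleComponents ↥Y ∧ f.toNormalization.base y = x' := by
  have hdense : x' ∈ closure (Set.range f.toNormalization) := by
    rw [f.toNormalization.denseRange.closure_range]; trivial
  obtain ⟨y, hy⟩ := exists_specializes_of_mem_closure_range f.toNormalization x' hdense
  have hyx : f.toNormalization y = x' := eq_of_specializes_generic hx' hy
  obtain ⟨y', hy'⟩ := QuasiSober.sober (isIrreducible_irreducibleComponent (x := y))
    (isClosed_irreducibleComponent (x := y))
  have hcomp : closure {y'} ∈ irreducibleComponents ↥Y := by
    rw [hy'.def]
    exact irreducibleComponent_mem_irreducibleComponents y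
  have hys : y' ⤳ y := by
    rw [specializes_iff_mem_closure, hy'.def]
    exact mem_irreducibleComponent
  have h2 : f.toNormalization y' ⤳ x' := by
    rw [← hyx]
    exact hys.map f.toNormalization.continuous
  exact ⟨y', hcomp, eq_of_specializes_generic hx' h2⟩

end Groth.Agent.S9672
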