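import Groth.Statements.S9680
import Mathlib
import Groth.Agent.S10854

set_option autoImplicit false
universe u
open CategoryTheory CategoryTheory.Limits AlgebraicGeometry
open Mor

namespace Groth.Agent.S9680

-- HELPERS BEGIN
theorem stalkSpecializes_eq_eqToHom {S : Scheme.{u}} {s s' : S} (h : s = s') :
    S.presheaf.stalkSpecializes (Inseparable.of_eq h).specializes =
      eqToHom (congrArg S.presheaf.stalk h.symm) := by
  subst h
  simp

theorem stalkCongr_hom_eq_eqToHom {S : Scheme.{u}} {s s' : S} (h : s = s') :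
    (S.presheaf.stalkCongr (Inseparable.of_eq h)).hom =
      eqToHom (congrArg S.presheaf.stalk h) := by
  subst h
  simp [TopCat.Presheaf.stalkCongr]

theorem forward_aux {S X Y U : Scheme.{u}} (sX : X ⟶ S) (sY : Y ⟶ S) (i : U ⟶ X) (g : U ⟶ Y)
    [IsOpenImmersion i] [IsOpenImmersion g] (comm : g ≫ sY = i ≫ sX) (u : U) :
    ∃ (hs : sX (i u) = sY (g u)) (e : X.presheaf.stalk (i u) ≅ Y.presheaf.stalk (g u)),
      sX.stalkMap (i u) ≫ e.hom =
        eqToHom (congrArg S.presheaf.stalk hs) ≫ sY.stalkMap (g u) := by
  have hs : sX (i u) = sY (g u) := by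
    rw [← Scheme.Hom.comp_apply, ← Scheme.Hom.comp_apply, comm]
  refine ⟨hs, asIso (i.stalkMap u) ≪≫ (asIso (g.stalkMap u)).symm, ?_⟩
  simp only [Iso.trans_hom, asIso_hom, Iso.symm_hom, asIso_inv]
  rw [← Category.assoc, IsIso.comp_inv_eq, Category.assoc, ← Scheme.Hom.stalkMap_comp,
    ← Scheme.Hom.stalkMap_comp]
  rw [Scheme.Hom.stalkMap_congr_hom _ _ comm.symm u]
  congr 1
  exact stalkCongr_hom_eq_eqToHom hs
-- HELPERS END


/-- Suppose X and Y are irreducible S-schemes, each locally of finite presentation over S, with generic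
points x and y. Then X and Y are S-birational (they admit S-isomorphic nonempty opens) if and only
if x and y map to the same point s of S and the local rings of X at x and of Y at y are isomorphic
as algebras over the local ring of S at s. -/
theorem result {S X Y : Scheme.{u}}
    [IrreducibleSpace ↥X] [IrreducibleSpace ↥Y] (sX : X ⟶ S) (sY : Y ⟶ S)
    [LocallyOfFinitePresentation sX] [LocallyOfFinitePresentation sY] :
    Scheme.BirationalOver sX sY ↔
      ∃ (hs : sX.base (genericPoint ↥X) = sY.base (genericPoint ↥Y))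
        (e : X.presheaf.stalk (genericPoint ↥X) ≅ Y.presheaf.stalk (genericPoint ↥Y)),
        sX.stalkMap (genericPoint ↥X) ≫ e.hom =
          eqToHom (congrArg S.presheaf.stalk hs) ≫ sY.stalkMap (genericPoint ↥Y) := by
  constructor
  · rintro ⟨f, hf⟩
    have hne : (Set.univ ∩ (f.source : Set X)).Nonempty := by
      rw [Set.univ_inter]
      exact f.dense_source.nonempty
    have hxU : genericPoint X ∈ f.source :=
      ((genericPoint_spec X).mem_open_set_iff f.source.isOpen).mpr hne
    have hirr : IsIrreducible (f.source : Set X) :=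
      ⟨⟨_, hxU⟩, (PreirreducibleSpace.isPreirreducible_univ (X := X)).open_subset
        f.source.isOpen (Set.subset_univ _)⟩
    have : IrreducibleSpace f.source.toScheme := Subtype.irreducibleSpace hirr
    have h1 : f.source.ι (genericPoint f.source.toScheme) = genericPoint X :=
      genericPoint_eq_of_isOpenImmersion f.source.ι
    have h2 : (f.iso.hom ≫ f.target.ι) (genericPoint f.source.toScheme) = genericPoint Y :=
      genericPoint_eq_of_isOpenImmersion (f.iso.hom ≫ f.target.ι)
    obtain ⟨hs, e, he⟩ := forward_aux sX sY f.source.ι (f.iso.hom ≫ f.target.ι)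
      (by simpa using hf) (genericPoint f.source.toScheme)
    revert hs e he
    rw [h1, h2]
    intro hs e he
    exact ⟨hs, e, he⟩
  · rintro ⟨hs, e, he⟩
    have h : sY.stalkMap (genericPoint Y) ≫ e.inv =
        S.presheaf.stalkSpecializes (Inseparable.of_eq hs).specializes ≫
          sX.stalkMap (genericPoint X) := by
      rw [stalkSpecializes_eq_eqToHom hs, Iso.comp_inv_eq, Category.assoc, he,
        ← Category.assoc, eqToHom_trans, eqToHom_refl, Category.id_comp]
    obtain ⟨U, hxU, V, f, hfiso, -, hf2⟩ :=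
      Groth.Agent.S10854.result sX sY hs e.inv h
    have hUd : Dense (U : Set X) := U.isOpen.dense ⟨_, hxU⟩
    have hVd : Dense (V : Set Y) := V.isOpen.dense ⟨_, (f ⟨_, hxU⟩).2⟩
    exact ⟨⟨U, hUd, V, hVd, asIso f⟩, hf2⟩

end Groth.Agent.S9680
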