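import Groth.Statements.S9682
import Mathlib

set_option autoImplicit false
universe u
open CategoryTheory CategoryTheory.Limits AlgebraicGeometry
open Mor

namespace Groth.Agent.S9682

/-- A quasi-sober space without nontrivial specializations has dimension at most zero. -/
theorem topologicalKrullDim_le_zero_of_forall_specializes_eq (α : Type*) [TopologicalSpace α]
    [QuasiSober α] (h : ∀ a b : α, a ⤳ b → a = b) : topologicalKrullDim α ≤ 0 := by
  refine Order.krullDim_nonpos_iff_forall_isMax.mpr fun Z Y hZY => ?_
  obtain ⟨gz, hgz⟩ := QuasiSober.sober Z.2 Z.3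
  obtain ⟨gy, hgy⟩ := QuasiSober.sober Y.2 Y.3
  have h1 : gz ∈ (Y : Set α) := hZY hgz.mem
  have h2 : gy ⤳ gz := by
    rw [specializes_iff_mem_closure, hgy.def]
    exact h1
  have h3 : gy = gz := h _ _ h2
  intro x hx
  change x ∈ Z.carrier
  have hx' : x ∈ Y.carrier := hx
  rw [← hgz.def, ← h3, hgy.def]
  exact hx'

set_option backward.isDefEq.respectTransparency.types false in
/-- (1) ⟹ (2). -/
theorem quasiFiniteAt_of_generic {X Y : Scheme.{u}} (f : X ⟶ Y) [LocallyOfFiniteType f] (η : Y)
    (h1 : ∀ x : X, f.base x = η → closure {x} ∈ irreducibleComponents ↥X)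
    (x : X) (hx : f.base x = η) : f.QuasiFiniteAt x := by
  subst hx
  rw [Scheme.Hom.quasiFiniteAt_iff_isOpen_singleton_asFiber]
  have hlft : LocallyOfFiniteType (f.fiberToSpecResidueField (f x)) :=
    MorphismProperty.pullback_snd _ _ inferInstance
  have hN : IsLocallyNoetherian (f.fiber (f x)) :=
    LocallyOfFiniteType.isLocallyNoetherian (f.fiberToSpecResidueField (f x))
  have hspec : ∀ a b : f.fiber (f x), a ⤳ b → a = b := by
    intro a b hab
    have hab' : f.fiberι (f x) a ⤳ f.fiberι (f x) b := hab.map (f.fiberι (f x)).continuous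
    have e2 : f (f.fiberι (f x) b) = f x := by
      have : f.fiberι (f x) b ∈ Set.range (f.fiberι (f x)) := ⟨b, rfl⟩
      rw [f.range_fiberι (f x)] at this
      exact this
    have hb := h1 _ e2
    have hsub : closure {f.fiberι (f x) b} ⊆ closure {f.fiberι (f x) a} :=
      closure_minimal (Set.singleton_subset_iff.mpr (specializes_iff_mem_closure.mp hab'))
        isClosed_closure
    have hsub' := hb.2 isIrreducible_singleton.closure hsub
    have hba : f.fiberι (f x) b ⤳ f.fiberι (f x) a :=
      specializes_iff_mem_closure.mpr (hsub' (subset_closure rfl))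
    exact (f.fiberι (f x)).isEmbedding.injective (hab'.antisymm hba).eq
  have hdim : topologicalKrullDim (f.fiber (f x)) ≤ 0 :=
    topologicalKrullDim_le_zero_of_forall_specializes_eq _ hspec
  have hA : IsLocallyArtinian (f.fiber (f x)) := .of_topologicalKrullDim_le_zero hdim
  exact isOpen_discrete _

/-- (3) ⟹ (1). -/
theorem generic_of_quasiFiniteAt {X Y : Scheme.{u}} (f : X ⟶ Y) [LocallyOfFiniteType f] (η : Y)
    (hη : closure {η} ∈ irreducibleComponents ↥Y)
    (h3 : ∀ x : X, f.base x = η → closure {x} ∈ irreducibleComponents ↥X → f.QuasiFiniteAt x)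
    (x : X) (hx : f.base x = η) : closure {x} ∈ irreducibleComponents ↥X := by
  subst hx
  obtain ⟨ξ, hξ⟩ := QuasiSober.sober (isIrreducible_irreducibleComponent (x := x))
    isClosed_irreducibleComponent
  have hξC : closure {ξ} ∈ irreducibleComponents ↥X := by
    rw [hξ.def]
    exact irreducibleComponent_mem_irreducibleComponents x
  have hξx : ξ ⤳ x := by
    rw [specializes_iff_mem_closure, hξ.def]
    exact mem_irreducibleComponent
  have hfξx : f ξ ⤳ f x := hξx.map f.continuous
  have hfξ : f ξ = f x := by
    have hsub : closure {f x} ⊆ closure {f ξ} :=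
      closure_minimal (Set.singleton_subset_iff.mpr (specializes_iff_mem_closure.mp hfξx))
        isClosed_closure
    have hsub' := hη.2 isIrreducible_singleton.closure hsub
    have : f x ⤳ f ξ := specializes_iff_mem_closure.mpr (hsub' (subset_closure rfl))
    exact (hfξx.antisymm this).eq
  have hq : f.QuasiFiniteAt ξ := h3 ξ hfξ hξC
  have hcl : IsClosed {f.asFiber ξ} := hq.isClopen_singleton_asFiber.1
  have hxr : x ∈ Set.range (f.fiberι (f ξ)) := by
    rw [f.range_fiberι (f ξ)]
    exact hfξ.symm
  obtain ⟨x', rfl⟩ := hxr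
  have hsp : f.asFiber ξ ⤳ x' := by
    rw [← (f.fiberι (f ξ)).isEmbedding.isInducing.specializes_iff, Scheme.Hom.fiberι_asFiber]
    exact hξx
  have hmem : x' ∈ closure {f.asFiber ξ} := specializes_iff_mem_closure.mp hsp
  rw [hcl.closure_eq, Set.mem_singleton_iff] at hmem
  rw [hmem, Scheme.Hom.fiberι_asFiber]
  exact hξC

/-- Take f : X ⟶ Y locally of finite type and η the generic point of some irreducible component of Y.
Three conditions turn out to coincide: (1) each point of X mapping to η is the generic point of some
irreducible component of X; (2) f is quasi-finite at every point over η; (3) f is quasi-finite at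
each point over η that is generic in some irreducible component of X. Stated as (1) iff (2) together
with (1) iff (3). -/
theorem result {X Y : Scheme.{u}} (f : X ⟶ Y)
    [LocallyOfFiniteType f] (η : Y) (hη : closure {η} ∈ irreducibleComponents ↥Y) :
    ((∀ x : X, f.base x = η → closure {x} ∈ irreducibleComponents ↥X) ↔
      (∀ x : X, f.base x = η → f.QuasiFiniteAt x)) ∧
    ((∀ x : X, f.base x = η → closure {x} ∈ irreducibleComponents ↥X) ↔
      (∀ x : X, f.base x = η → closure {x} ∈ irreducibleComponents ↥X → f.QuasiFiniteAt x)) := by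
  refine ⟨⟨fun h1 x hx => quasiFiniteAt_of_generic f η h1 x hx,
    fun h2 x hx => generic_of_quasiFiniteAt f η hη (fun x hx _ => h2 x hx) x hx⟩,
    ⟨fun h1 x hx _ => quasiFiniteAt_of_generic f η h1 x hx,
    fun h3 x hx => generic_of_quasiFiniteAt f η hη h3 x hx⟩⟩

end Groth.Agent.S9682
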