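import Groth.Statements.S9685
-- import your own Groth.Agent.* helpers here
import Groth.Agent.Lib.Helper55.DimFormulaScheme
import Groth.Agent.Lib.Helper55.DimStalk
import Groth.Agent.Lib.Helper55.ClosedMapDim

set_option autoImplicit false
universe u
open CategoryTheory CategoryTheory.Limits AlgebraicGeometry
open Mor

namespace Groth.Agent.S9685

/-- Let X and Y be integral schemes with Y locally Noetherian and f : X ⟶ Y dominant and locally of
finite type. If n is the transcendence degree of the function field of X over the function field of
Y (computed on residue fields at the generic points), then dim X ≤ dim Y + n, and equality holds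
when the underlying map of f is closed. -/
theorem result {X Y : Scheme.{u}} [IsIntegral X] [IsIntegral Y]
    [IsLocallyNoetherian Y] (f : X ⟶ Y) [IsDominant f] [LocallyOfFiniteType f] (n : ℕ)
    (hn : letI := (f.residueFieldMap (genericPoint ↥X)).hom.toAlgebra
      Algebra.trdeg (Y.residueField (f.base (genericPoint ↥X))) (X.residueField (genericPoint ↥X)) = n) :
    topologicalKrullDim ↥X ≤ topologicalKrullDim ↥Y + n ∧
      (IsClosedMap f.base → topologicalKrullDim ↥X = topologicalKrullDim ↥Y + n) := by
  have hle : topologicalKrullDim ↥X ≤ topologicalKrullDim ↥Y + n := by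
    rw [Groth.Agent.Lib.Helper55.topologicalKrullDim_eq_iSup_ringKrullDim_stalk X]
    refine iSup_le fun x => ?_
    obtain ⟨m, hm⟩ := Groth.Agent.Lib.Helper55.exists_trdeg_residueField_eq_natCast f x
    have h := Groth.Agent.Lib.Helper55.ringKrullDim_stalk_add_trdeg_le f x m n hm (by
      intro ξ hξ _
      have huniv : closure ({ξ} : Set ↥X) = Set.univ :=
        Set.eq_univ_of_univ_subset
          (hξ.2 (IrreducibleSpace.isIrreducible_univ ↥X) (Set.subset_univ _))
      have hgen : IsGenericPoint ξ (Set.univ : Set ↥X) := huniv
      have hξeq : ξ = genericPoint ↥X := hgen.eq (genericPoint_spec ↥X)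
      subst hξeq
      exact hn.le)
    have h0 : (0 : WithBot ℕ∞) ≤ (m : WithBot ℕ∞) := by exact_mod_cast Nat.zero_le m
    calc ringKrullDim (X.presheaf.stalk x) ≤ ringKrullDim (X.presheaf.stalk x) + m :=
          le_add_of_nonneg_right h0
      _ ≤ ringKrullDim (Y.presheaf.stalk (f x)) + n := h
      _ ≤ topologicalKrullDim ↥Y + n :=
          add_le_add_left (Groth.Agent.Lib.Helper55.ringKrullDim_stalk_le_topologicalKrullDim Y _) _
  refine ⟨hle, fun hcl => le_antisymm hle ?_⟩
  exact Groth.Agent.Lib.Helper55.topologicalKrullDim_add_le_of_isClosedMap f n hn hcl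

end Groth.Agent.S9685
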