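import Groth.Statements.S9689
import Groth.Agent.Lib.Helper38.NormLink
import Groth.Agent.Lib.Helper38.NormRedDom
import Groth.Agent.Lib.Helper38.NormSch2

set_option autoImplicit false
universe u
open CategoryTheory CategoryTheory.Limits AlgebraicGeometry
open Mor

namespace Groth.Agent.S9689

open Groth.Agent.Lib.Helper38

theorem isUnivHomeo_of {X Y : Scheme.{u}} (f : X ⟶ Y) [UniversallyInjective f]
    [UniversallyClosed f] [Surjective f] : FlatMor.IsUnivHomeo f := by
  intro X' Y' i₁ i₂ f' h
  have h1 : UniversallyInjective f' := MorphismProperty.of_isPullback h.flip ‹_›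
  have h2 : UniversallyClosed f' := MorphismProperty.of_isPullback h.flip ‹_›
  have h3 : Surjective f' := MorphismProperty.of_isPullback h.flip ‹_›
  exact isHomeomorph_iff_continuous_isClosedMap_bijective.mpr
    ⟨f'.continuous, f'.isClosedMap, f'.injective, f'.surjective⟩

theorem pinsep_of {R K L Q : Type u} [CommRing R] [Field K] [Field L] [CommRing Q] [Algebra K L]
    (Φ : Q ≃+* L) (fQ : R →+* Q) (res : R →+* K)
    (hΦ : ∀ r, Φ (fQ r) = algebraMap K L (res r))
    (h : ∀ z : Q, ∃ n : ℕ, z ^ (ringExpChar Q) ^ n ∈ fQ.range) : IsPurelyInseparable K L := by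
  haveI : IsDomain Q := Φ.toMulEquiv.isDomain L
  haveI : ExpChar Q (ringExpChar Q) := ringExpChar.expChar _
  haveI : ExpChar L (ringExpChar Q) :=
    expChar_of_injective_ringHom (f := Φ.toRingHom) Φ.injective (ringExpChar Q)
  haveI : ExpChar K (ringExpChar Q) :=
    RingHom.expChar (algebraMap K L) (RingHom.injective _) (ringExpChar Q)
  rw [isPurelyInseparable_iff_pow_mem K (ringExpChar Q)]
  intro l
  obtain ⟨n, r, hr⟩ := h (Φ.symm l)
  refine ⟨n, res r, ?_⟩
  rw [← hΦ r, hr, map_pow, RingEquiv.apply_symm_apply]

theorem pinsep_point (X : Scheme.{u}) [IsIntegral X]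
    [QuasiCompact (X.fromSpecStalk (genericPoint X))] [QuasiSeparated (X.fromSpecStalk (genericPoint X))]
    (hX : ∀ x : X, CAlg2.IsGeomUnibranch (X.presheaf.stalk x)) (x' : Curv2.normalization X) :
    ((Curv2.normalizationι X).residueFieldMap x').hom.IsPurelyInseparable := by
  obtain ⟨Θ, hΘ⟩ := NormLink.exists_link X ((Curv2.normalizationι X) x')
    (NormRedDom.iota_isFracExt (X.presheaf.stalk ((Curv2.normalizationι X) x')))
    (NormRedDom.iota_isIntegral (X.presheaf.stalk ((Curv2.normalizationι X) x')))
  obtain ⟨Φ, hΦ⟩ := hΘ ⟨x', rfl⟩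
  haveI hmax : (Θ ⟨x', rfl⟩).asIdeal.IsMaximal := (Θ ⟨x', rfl⟩).isMaximal
  have hgu := (hX ((Curv2.normalizationι X) x')).2 (Θ ⟨x', rfl⟩).asIdeal
  refine @pinsep_of _ _ _ _ _ _ _ _ ((Curv2.normalizationι X).residueFieldMap x').hom.toAlgebra Φ _
    (X.residue ((Curv2.normalizationι X) x')).hom ?_ hgu
  intro r
  have h1 := hΦ r
  have h2 := Scheme.residue_residueFieldMap (Curv2.normalizationι X) x'
  have h3 := congrArg (fun f => f.hom r) h2
  simp only [CommRingCat.hom_comp, RingHom.comp_apply] at h3
  unfold NormLink.psi at h1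
  simp only [RingHom.comp_apply] at h1
  rw [TopCat.Presheaf.stalkSpecializes_refl] at h1
  simp only [CommRingCat.hom_id, RingHom.id_apply] at h1
  exact h1.trans h3.symm


/-- For an integral scheme X: if every local ring of X is geometrically unibranch, then the
normalization morphism X^ν ⟶ X is a universal homeomorphism. (The published statement assumes only X
irreducible; this row takes X integral, which loses nothing since the normalization of X equals that
of its reduction.) (The quasi-compactness and quasi-separatedness binders on Spec K(X) ⟶ X always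
hold; they are only needed to form the normalization.) -/
theorem result (X : Scheme.{u}) [IsIntegral X] [QuasiCompact (X.fromSpecStalk (genericPoint ↥X))] [QuasiSeparated (X.fromSpecStalk (genericPoint ↥X))]
    (hX : ∀ x : X, CAlg2.IsGeomUnibranch (X.presheaf.stalk x)) :
    FlatMor.IsUnivHomeo (Curv2.normalizationι X) := by
  have hinj : Function.Injective (Curv2.normalizationι X) := by
    intro x1 x2 h12
    obtain ⟨Θ, -⟩ := NormLink.exists_link X ((Curv2.normalizationι X) x2)
      (NormRedDom.iota_isFracExt (X.presheaf.stalk ((Curv2.normalizationι X) x2)))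
      (NormRedDom.iota_isIntegral (X.presheaf.stalk ((Curv2.normalizationι X) x2)))
    haveI : IsLocalRing (CAlg2.normRed (X.presheaf.stalk ((Curv2.normalizationι X) x2))) :=
      (hX ((Curv2.normalizationι X) x2)).1.2
    have h3 : Θ ⟨x1, h12⟩ = Θ ⟨x2, rfl⟩ := by
      apply MaximalSpectrum.ext
      rw [IsLocalRing.eq_maximalIdeal (Θ ⟨x1, h12⟩).isMaximal,
        IsLocalRing.eq_maximalIdeal (Θ ⟨x2, rfl⟩).isMaximal]
    exact congrArg Subtype.val (Θ.injective h3)
  haveI : UniversallyInjective (Curv2.normalizationι X) :=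
    ((tfae_universallyInjective (Curv2.normalizationι X)).out 0 2).mpr
      (And.intro hinj (pinsep_point X hX))
  haveI : Surjective (Curv2.normalizationι X) := ⟨NormSch.surjective X⟩
  haveI : UniversallyClosed (Curv2.normalizationι X) := inferInstance
  exact isUnivHomeo_of (Curv2.normalizationι X)

end Groth.Agent.S9689
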