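import Groth.Statements.S9692
import Groth.Agent.Lib.Helper17.Segre

set_option autoImplicit false
universe u
open CategoryTheory CategoryTheory.Limits AlgebraicGeometry
open Mor

namespace Groth.Agent.S9692

/-- A composition of H-projective morphisms (closed immersions into a projective space P^n over the
target, followed by the projection) is H-projective. -/
theorem result {X Y Z : Scheme.{u}} (f : X ⟶ Y) (g : Y ⟶ Z)
    (hf : RelProj.IsHProjective f) (hg : RelProj.IsHProjective g) :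
    RelProj.IsHProjective (f ≫ g) := by
  obtain ⟨n, i₀, hi, hif⟩ := hf
  obtain ⟨m, j₀, hj, hjg⟩ := hg
  obtain ⟨i, hii⟩ : ∃ i : X ⟶ pullback (CohB1.ProjSpace.toSpec n (ULift.{u} ℤ))
      (specULiftZIsTerminal.from Y), i = i₀ := ⟨_, rfl⟩
  obtain ⟨j, hjj⟩ : ∃ j : Y ⟶ pullback (CohB1.ProjSpace.toSpec m (ULift.{u} ℤ))
      (specULiftZIsTerminal.from Z), j = j₀ := ⟨_, rfl⟩
  subst hii hjj
  have hi' : IsClosedImmersion i := hi
  have hj' : IsClosedImmersion j := hj
  have hif' : i ≫ pullback.snd (CohB1.ProjSpace.toSpec n (ULift.{u} ℤ))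
      (specULiftZIsTerminal.from Y) = f := hif
  have hjg' : j ≫ pullback.snd (CohB1.ProjSpace.toSpec m (ULift.{u} ℤ))
      (specULiftZIsTerminal.from Z) = g := hjg
  -- the map `a : P^n_Y ⟶ P^n_Z`
  obtain ⟨a, ha1, ha2⟩ : ∃ a : pullback (CohB1.ProjSpace.toSpec n (ULift.{u} ℤ))
        (specULiftZIsTerminal.from Y) ⟶
      pullback (CohB1.ProjSpace.toSpec n (ULift.{u} ℤ)) (specULiftZIsTerminal.from Z),
      a ≫ pullback.fst _ _ = pullback.fst _ _ ∧ a ≫ pullback.snd _ _ = pullback.snd _ _ ≫ g :=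
    ⟨pullback.lift (pullback.fst _ _) (pullback.snd _ _ ≫ g) (specULiftZIsTerminal.hom_ext _ _),
      pullback.lift_fst _ _ _, pullback.lift_snd _ _ _⟩
  -- the map `k : P^n_Y ⟶ P^n_Z ×_Z P^m_Z`
  obtain ⟨k, hk1, hk2⟩ : ∃ k : pullback (CohB1.ProjSpace.toSpec n (ULift.{u} ℤ))
        (specULiftZIsTerminal.from Y) ⟶
      pullback (pullback.snd (CohB1.ProjSpace.toSpec n (ULift.{u} ℤ)) (specULiftZIsTerminal.from Z))
        (pullback.snd (CohB1.ProjSpace.toSpec m (ULift.{u} ℤ)) (specULiftZIsTerminal.from Z)),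
      k ≫ pullback.fst _ _ = a ∧ k ≫ pullback.snd _ _ = pullback.snd _ _ ≫ j :=
    ⟨pullback.lift a (pullback.snd _ _ ≫ j) (by rw [ha2, Category.assoc, hjg']),
      pullback.lift_fst _ _ _, pullback.lift_snd _ _ _⟩
  have hright : IsPullback
      (pullback.fst (pullback.snd (CohB1.ProjSpace.toSpec n (ULift.{u} ℤ))
          (specULiftZIsTerminal.from Z))
        (pullback.snd (CohB1.ProjSpace.toSpec m (ULift.{u} ℤ)) (specULiftZIsTerminal.from Z)) ≫
        pullback.fst (CohB1.ProjSpace.toSpec n (ULift.{u} ℤ)) (specULiftZIsTerminal.from Z))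
      (pullback.snd (pullback.snd (CohB1.ProjSpace.toSpec n (ULift.{u} ℤ))
          (specULiftZIsTerminal.from Z))
        (pullback.snd (CohB1.ProjSpace.toSpec m (ULift.{u} ℤ)) (specULiftZIsTerminal.from Z)))
      (CohB1.ProjSpace.toSpec n (ULift.{u} ℤ))
      (pullback.snd (CohB1.ProjSpace.toSpec m (ULift.{u} ℤ)) (specULiftZIsTerminal.from Z) ≫
        specULiftZIsTerminal.from Z) :=
    (IsPullback.of_hasPullback _ _).paste_horiz (IsPullback.of_hasPullback _ _)
  have houter : IsPullback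
      (k ≫ pullback.fst (pullback.snd (CohB1.ProjSpace.toSpec n (ULift.{u} ℤ))
          (specULiftZIsTerminal.from Z))
        (pullback.snd (CohB1.ProjSpace.toSpec m (ULift.{u} ℤ)) (specULiftZIsTerminal.from Z)) ≫
        pullback.fst (CohB1.ProjSpace.toSpec n (ULift.{u} ℤ)) (specULiftZIsTerminal.from Z))
      (pullback.snd (CohB1.ProjSpace.toSpec n (ULift.{u} ℤ)) (specULiftZIsTerminal.from Y))
      (CohB1.ProjSpace.toSpec n (ULift.{u} ℤ))
      (j ≫ pullback.snd (CohB1.ProjSpace.toSpec m (ULift.{u} ℤ)) (specULiftZIsTerminal.from Z) ≫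
        specULiftZIsTerminal.from Z) := by
    have h1 : k ≫ pullback.fst (pullback.snd (CohB1.ProjSpace.toSpec n (ULift.{u} ℤ))
          (specULiftZIsTerminal.from Z))
        (pullback.snd (CohB1.ProjSpace.toSpec m (ULift.{u} ℤ)) (specULiftZIsTerminal.from Z)) ≫
        pullback.fst (CohB1.ProjSpace.toSpec n (ULift.{u} ℤ)) (specULiftZIsTerminal.from Z) =
        pullback.fst _ _ := by
      rw [← Category.assoc, hk1, ha1]
    have h2 : j ≫ pullback.snd (CohB1.ProjSpace.toSpec m (ULift.{u} ℤ))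
        (specULiftZIsTerminal.from Z) ≫ specULiftZIsTerminal.from Z =
        specULiftZIsTerminal.from Y := specULiftZIsTerminal.hom_ext _ _
    rw [h1, h2]
    exact IsPullback.of_hasPullback _ _
  have hleft := IsPullback.of_right houter hk2 hright
  have hk : IsClosedImmersion k :=
    MorphismProperty.of_isPullback (P := @IsClosedImmersion) hleft.flip hj'
  obtain ⟨φ, hφc, hφ2, -⟩ := Groth.Agent.Lib.Helper17.Segre.exists_segre Z n m
  obtain ⟨ψ, hψ⟩ : ∃ ψ : X ⟶ pullback (CohB1.ProjSpace.toSpec (n * m + n + m) (ULift.{u} ℤ))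
      (specULiftZIsTerminal.from Z), ψ = i ≫ k ≫ φ := ⟨_, rfl⟩
  have hψc : IsClosedImmersion ψ := by rw [hψ]; infer_instance
  refine ⟨n * m + n + m, ψ, hψc, ?_⟩
  change ψ ≫ pullback.snd (CohB1.ProjSpace.toSpec (n * m + n + m) (ULift.{u} ℤ))
      (specULiftZIsTerminal.from Z) = f ≫ g
  rw [hψ, Category.assoc, Category.assoc, hφ2, ← Category.assoc k, hk1, ha2, ← Category.assoc, hif']

end Groth.Agent.S9692
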