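import Groth.Statements.S9694
import Groth.Agent.Lib.Helper17.AffineLocus

set_option autoImplicit false
universe u
open CategoryTheory CategoryTheory.Limits AlgebraicGeometry
open Mor

namespace Groth.Agent.S9694

/-- Let f : X ⟶ S be universally closed, L an O_X-module ample relative to f and s a global section of
L, viewed as a morphism O_X ⟶ L. Then the open subscheme X_s of X where s generates L is affine over
S: the inclusion of X_s followed by f is an affine morphism. -/
theorem result {X S : Scheme.{u}} (f : X ⟶ S) [UniversallyClosed f]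
    (L : X.Modules) (hL : RelAmple.IsRelAmple f L) (s : Coh.structureModule X ⟶ L) :
    IsAffineHom ((CohB1.genLocus L s).ι ≫ f) := by
  apply isAffineHom_of_forall_exists_isAffineOpen
  intro y
  obtain ⟨_, ⟨V, hV, rfl⟩, hyV, -⟩ :=
    S.isBasis_affineOpens.exists_subset_of_mem_open (Set.mem_univ y) isOpen_univ
  refine ⟨V, hyV, hV, ?_⟩
  have hVa : IsAffine (V : Scheme.{u}) := hV
  have hamp := hL.2 ⟨V, hV⟩
  have h1 := Groth.Agent.Lib.Helper17.AffineLocus.isAffineOpen_genLocus_of_universallyClosed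
    (f ∣_ V) (L.restrict (f ⁻¹ᵁ V).ι) hamp
    ((Scheme.Modules.restrictUnitIso (f ⁻¹ᵁ V).ι).inv ≫
      (Scheme.Modules.restrictFunctor (f ⁻¹ᵁ V).ι).map s)
  rw [Groth.Agent.Lib.Helper11.GenLocus.genLocus_restrict,
    ← Scheme.Hom.isAffineOpen_iff_of_isOpenImmersion (f ⁻¹ᵁ V).ι,
    (f ⁻¹ᵁ V).ι.image_preimage_eq_opensRange_inf, Scheme.Opens.opensRange_ι] at h1
  rw [← Scheme.Hom.isAffineOpen_iff_of_isOpenImmersion (CohB1.genLocus L s).ι,
    Scheme.Hom.comp_preimage, (CohB1.genLocus L s).ι.image_preimage_eq_opensRange_inf,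
    Scheme.Opens.opensRange_ι, inf_comm]
  exact h1

end Groth.Agent.S9694
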