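import Groth.Statements.S9700
import Groth.Agent.H76.ValThrough
import Groth.Agent.Lib.Helper78.QCSpecialize

set_option autoImplicit false
universe u
open CategoryTheory CategoryTheory.Limits AlgebraicGeometry
open Mor

namespace Groth.Agent.S9700

/-- Let f : X ⟶ S and h : U ⟶ X be quasi-compact with h(U) dense in X. Suppose each valuative square
over f, whose map Spec K ⟶ X factors through h, has a unique diagonal lift. Then f is universally
closed, and f is also separated provided it is quasi-separated. -/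
theorem result {U X S : Scheme.{u}} (f : X ⟶ S) (h : U ⟶ X)
    [QuasiCompact f] [QuasiCompact h] (hd : DenseRange h.base)
    (H : ∀ sq : ValuativeCommSq f, (∃ i : Spec (.of sq.K) ⟶ U, i ≫ h = sq.i₁) →
      Nonempty (Unique sq.commSq.LiftStruct)) :
    UniversallyClosed f ∧ (QuasiSeparated f → IsSeparated f) := by
  have hG : ∀ x : X, ∃ u : U, h.base u ⤳ x := fun x =>
    Groth.Agent.Lib.Helper78.exists_specializes_of_mem_closure_range h x
      (by rw [hd.closure_range]; trivial)
  have Hex : ∀ (u : U) (R : ValuationSubring (U.residueField u))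
      (y : Spec (CommRingCat.of R) ⟶ S),
      Spec.map (CommRingCat.ofHom R.subtype) ≫ y = U.fromSpecResidueField u ≫ h ≫ f →
      ∃ l : Spec (CommRingCat.of R) ⟶ X, l ≫ f = y ∧
        Spec.map (CommRingCat.ofHom R.subtype) ≫ l = U.fromSpecResidueField u ≫ h := by
    intro u R y hy
    let sq : ValuativeCommSq f :=
      { R := R, K := U.residueField u
        i₁ := U.fromSpecResidueField u ≫ h
        i₂ := y
        commSq := ⟨by rw [Category.assoc, ← hy]; rfl⟩ }
    obtain ⟨hu⟩ := H sq ⟨U.fromSpecResidueField u, rfl⟩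
    exact ⟨hu.default.l, hu.default.fac_right, hu.default.fac_left⟩
  have Hun : ∀ (u : U) (R : ValuationSubring (U.residueField u))
      (l₁ l₂ : Spec (CommRingCat.of R) ⟶ X), l₁ ≫ f = l₂ ≫ f →
      Spec.map (CommRingCat.ofHom R.subtype) ≫ l₁ = U.fromSpecResidueField u ≫ h →
      Spec.map (CommRingCat.ofHom R.subtype) ≫ l₂ = U.fromSpecResidueField u ≫ h → l₁ = l₂ := by
    intro u R l₁ l₂ h12 h1 h2
    let sq : ValuativeCommSq f :=
      { R := R, K := U.residueField u
        i₁ := U.fromSpecResidueField u ≫ h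
        i₂ := l₁ ≫ f
        commSq := ⟨by rw [← h1, Category.assoc]; rfl⟩ }
    obtain ⟨hu⟩ := H sq ⟨U.fromSpecResidueField u, rfl⟩
    let L₁ : sq.commSq.LiftStruct := ⟨l₁, h1, rfl⟩
    let L₂ : sq.commSq.LiftStruct := ⟨l₂, h2, h12.symm⟩
    exact congrArg CommSq.LiftStruct.l ((hu.uniq L₁).trans (hu.uniq L₂).symm)
  constructor
  · apply UniversallyClosed.of_valuativeCriterion
    intro Sq
    obtain ⟨u, hu⟩ := hG (Sq.i₁.base (IsLocalRing.closedPoint Sq.K))
    exact Groth.Agent.H76.ValThrough.hasLift_of_lifts f h Sq u hu (Hex u) (Hun u)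
  · intro hqs
    apply IsSeparated.of_valuativeCriterion
    intro Sq
    obtain ⟨u, hu⟩ := hG (Sq.i₁.base (IsLocalRing.closedPoint Sq.K))
    exact Groth.Agent.H76.ValThrough.subsingleton_liftStruct f h Sq u hu (Hun u)

end Groth.Agent.S9700
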