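import Groth.Statements.S9702
import Groth.Agent.Lib.Helper69.GenericFinite3

set_option autoImplicit false
universe u
open CategoryTheory CategoryTheory.Limits AlgebraicGeometry
open Mor

namespace Groth.Agent.S9702

/-- Let X, Y be integral and f : X ⟶ Y dominant and locally of finite type, with ξ the generic point of
X (so f ξ is the generic point of Y). Then the following are equivalent: the residue field of ξ is
finite over that of f ξ; some nonempty affine opens U ⊆ X and V ⊆ Y with f(U) ⊆ V have U ⟶ V finite;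
every point of X that f sends to the generic point of Y equals ξ. Under the extra assumption that f
is quasi-compact or separated, these are also equivalent to: f⁻¹(V) ⟶ V is finite for some nonempty
affine open V ⊆ Y. (The published statement also lists transcendence degree 0 of the function field
extension, which for this finitely generated extension is equivalent to finiteness; this row omits
it.) -/
theorem result {X Y : Scheme.{u}} [IsIntegral X] [IsIntegral Y] (f : X ⟶ Y)
    [IsDominant f] [LocallyOfFiniteType f] :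
    let ξ := genericPoint ↥X
    let A := letI := (f.residueFieldMap ξ).hom.toAlgebra
      Module.Finite (Y.residueField (f.base ξ)) (X.residueField ξ)
    let B := ∃ (U : X.Opens) (V : Y.Opens) (hUV : U ≤ f ⁻¹ᵁ V), IsAffineOpen U ∧ IsAffineOpen V ∧
      Nonempty ↥U ∧ IsFinite (f.resLE V U hUV)
    let C := ∀ x : X, f.base x = genericPoint ↥Y → x = ξ
    let D := ∃ V : Y.Opens, IsAffineOpen V ∧ Nonempty ↥V ∧ IsFinite (f ∣_ V)
    (A ↔ B) ∧ (A ↔ C) ∧ (IsSeparated f ∨ QuasiCompact f → (A ↔ D)) := by
  intro ξ A B C D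
  have hξη : f ξ = genericPoint Y := Groth.Agent.Lib.Helper69.map_genericPoint_of_isDominant f
  have hξgen : closure {ξ} ∈ irreducibleComponents X :=
    Groth.Agent.Lib.Helper69.closure_genericPoint_mem_irreducibleComponents X
  have hηgen : closure {f ξ} ∈ irreducibleComponents Y :=
    hξη ▸ Groth.Agent.Lib.Helper69.closure_genericPoint_mem_irreducibleComponents Y
  have hAQ : A ↔ f.QuasiFiniteAt ξ :=
    Groth.Agent.Lib.Helper69.finite_residueFieldMap_iff_quasiFiniteAt f ξ hξgen hηgen
  have hQC : f.QuasiFiniteAt ξ ↔ C := by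
    rw [Groth.Agent.Lib.Helper69.quasiFiniteAt_iff_forall_eq f ξ genericPoint_specializes, hξη]
  have hCB : C → B := Groth.Agent.Lib.Helper69.exists_isFinite_resLE_of_fiber f
  have hBQ : B → f.QuasiFiniteAt ξ := by
    rintro ⟨U, V, hUV, hU, hV, hne, hfin⟩
    have hξU : ξ ∈ U := ((genericPoint_spec X).mem_open_set_iff U.isOpen).mpr
      (by obtain ⟨⟨a, ha⟩⟩ := hne; exact ⟨a, trivial, ha⟩)
    exact Groth.Agent.Lib.Helper69.quasiFiniteAt_of_isFinite_resLE f U V hUV hfin ⟨ξ, hξU⟩
  have hAC : A ↔ C := hAQ.trans hQC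
  have hAB : A ↔ B := ⟨fun h => hCB (hAC.mp h), fun h => hAQ.mpr (hBQ h)⟩
  refine ⟨hAB, hAC, ?_⟩
  intro hsq
  constructor
  · intro hA
    rcases hsq with hsep | hqc
    · obtain ⟨U, V, hUV, hU, hV, hne, hfin⟩ := hAB.mp hA
      refine ⟨V, hV, ?_, Groth.Agent.Lib.Helper69.isFinite_morphismRestrict_of_isFinite_resLE_of_isSeparated
        f U V hUV hne hfin⟩
      obtain ⟨⟨a, ha⟩⟩ := hne
      exact ⟨⟨f a, hUV ha⟩⟩
    · exact Groth.Agent.Lib.Helper69.exists_isFinite_morphismRestrict_of_fiber_of_quasiCompact f
        (hAC.mp hA)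
  · rintro ⟨V, hV, hne, hfin⟩
    exact hAB.mpr
      (Groth.Agent.Lib.Helper69.exists_isFinite_resLE_of_isFinite_morphismRestrict f V hV hne hfin)

end Groth.Agent.S9702
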