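import Groth.Statements.S9709
-- import your own Groth.Agent.* helpers here

set_option autoImplicit false
universe u
open CategoryTheory CategoryTheory.Limits AlgebraicGeometry
open Mor

namespace Groth.Agent.S9709

/-- Let f : X ⟶ S be an integral morphism. Then every point x of X is closed in its fibre: a point of
f⁻¹(f x) specialising from x equals x. -/
theorem result {X S : Scheme.{u}} (f : X ⟶ S) [IsIntegralHom f] (x : X) :
    closure {x} ∩ f.base ⁻¹' {f.base x} = {x} := by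
  apply Set.Subset.antisymm
  · rintro y ⟨hy, hfy⟩
    rw [Set.mem_singleton_iff]
    have hfy' : f.base y = f.base x := hfy
    have hspec : x ⤳ y := specializes_iff_mem_closure.mpr hy
    obtain ⟨_, ⟨V, hV : IsAffineOpen V, rfl⟩, hxV, -⟩ :=
      S.isBasis_affineOpens.exists_subset_of_mem_open (Set.mem_univ (f.base x)) isOpen_univ
    have hU : IsAffineOpen (f ⁻¹ᵁ V) := hV.preimage f
    have hxU : x ∈ f ⁻¹ᵁ V := hxV
    have hyU : y ∈ f ⁻¹ᵁ V := by
      show f.base y ∈ V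
      rw [hfy']; exact hxV
    -- the two primes
    have hle : hU.primeIdealOf ⟨x, hxU⟩ ≤ hU.primeIdealOf ⟨y, hyU⟩ := by
      rw [PrimeSpectrum.le_iff_specializes]
      have h1 : (⟨x, hxU⟩ : ↥(f ⁻¹ᵁ V)) ⤳ ⟨y, hyU⟩ :=
        Topology.IsInducing.subtypeVal.specializes_iff.mp hspec
      exact h1.map hU.isoSpec.hom.continuous
    have hcx := IsAffineOpen.comap_primeIdealOf_appLE (f := f) V hV (f ⁻¹ᵁ V) hU le_rfl hxU
    have hcy := IsAffineOpen.comap_primeIdealOf_appLE (f := f) V hV (f ⁻¹ᵁ V) hU le_rfl hyU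
    have hxy : hV.primeIdealOf ⟨f.base x, hxV⟩ = hV.primeIdealOf ⟨f.base y, hyU⟩ := by
      congr 1
      exact Subtype.ext hfy'.symm
    have hint : (f.appLE V (f ⁻¹ᵁ V) le_rfl).hom.IsIntegral := by
      rw [Scheme.Hom.appLE_eq_app]
      exact IsIntegralHom.isIntegral_app f V hV
    have heq : hU.primeIdealOf ⟨x, hxU⟩ = hU.primeIdealOf ⟨y, hyU⟩ := by
      by_contra hne
      have hlt : (hU.primeIdealOf ⟨x, hxU⟩).asIdeal < (hU.primeIdealOf ⟨y, hyU⟩).asIdeal :=
        lt_of_le_of_ne hle (fun h => hne (PrimeSpectrum.ext h))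
      letI := (f.appLE V (f ⁻¹ᵁ V) le_rfl).hom.toAlgebra
      haveI : Algebra.IsIntegral Γ(S, V) Γ(X, f ⁻¹ᵁ V) := ⟨hint⟩
      haveI := (hU.primeIdealOf ⟨x, hxU⟩).2
      have := Ideal.IsIntegral.comap_lt_comap (R := Γ(S, V)) hlt
      have e1 : (hU.primeIdealOf ⟨x, hxU⟩).asIdeal.comap (algebraMap Γ(S, V) Γ(X, f ⁻¹ᵁ V)) =
          (hV.primeIdealOf ⟨f.base x, hxV⟩).asIdeal := congrArg PrimeSpectrum.asIdeal hcx
      have e2 : (hU.primeIdealOf ⟨y, hyU⟩).asIdeal.comap (algebraMap Γ(S, V) Γ(X, f ⁻¹ᵁ V)) =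
          (hV.primeIdealOf ⟨f.base y, hyU⟩).asIdeal := congrArg PrimeSpectrum.asIdeal hcy
      rw [e1, e2, hxy] at this
      exact lt_irrefl _ this
    have h1 := hU.fromSpec_primeIdealOf ⟨x, hxU⟩
    have h2 := hU.fromSpec_primeIdealOf ⟨y, hyU⟩
    rw [heq] at h1
    exact (h2.symm.trans h1)
  · rintro _ rfl
    exact ⟨subset_closure rfl, rfl⟩

end Groth.Agent.S9709
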