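import Groth.Statements.S9711
-- import your own Groth.Agent.* helpers here
import Groth.Agent.Lib.Helper51.OmegaUniv.ConormalMono
import Groth.Agent.Lib.Helper51.OmegaUniv.DiffCompatIso

set_option autoImplicit false
universe u
open CategoryTheory CategoryTheory.Limits AlgebraicGeometry
open OmegaSh

namespace Groth.Agent.S9711

/-- Let p : X ⟶ Y be smooth and i : Z ⟶ X, j : Z ⟶ Y quasi-compact immersions with i ≫ p = j. Then the
canonical sequence 0 → C_{Z/Y} → C_{Z/X} → i^*Ω_{X/Y} → 0 is short exact; here Ω_{X/Y} is any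
receptacle of a universal Y-derivation of O_X, the first map is the canonical map of conormal
sheaves and the second is the one induced by the derivation. (The published statement allows
arbitrary immersions; quasi-compactness of i and j is assumed here to form the conormal sheaves.) -/
theorem result {Z X Y : Scheme.{u}} (p : X ⟶ Y) [Smooth p]
    (i : Z ⟶ X) (j : Z ⟶ Y) [IsImmersion i] [IsImmersion j] [QuasiCompact i] [QuasiCompact j] (hij : i ≫ p = j)
    (Ω : X.Modules) (d : OmegaSh.Der p Ω) (hd : OmegaSh.IsUniversal d)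
    (ψ : (Scheme.Modules.pullback (𝟙 Z)).obj (Omega.conormal j) ⟶ Omega.conormal i)
    (hψ : OmegaSh.IsConormalMap i j p (𝟙 Z) ψ)
    (φ : Omega.conormal i ⟶ (Scheme.Modules.pullback i).obj Ω) (hφ : OmegaSh.IsConormalDiff i d φ) :
    ∃ w : ψ ≫ φ = 0, (ShortComplex.mk ψ φ w).ShortExact := by
  have hqΩ : Ω.IsQuasicoherent :=
    Groth.Agent.Lib.Helper51.OmegaUniv.isQuasicoherent_of_isUniversal p hd
  have hq₃ : ((Scheme.Modules.pullback i).obj Ω).IsQuasicoherent :=
    Groth.Agent.Lib.Helper16.FlatPull.isQuasicoherent_pullback i Ω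
  have hqNi : (Omega.conormal i).IsQuasicoherent :=
    Groth.Agent.Lib.Helper16.FlatPull.isQuasicoherent_pullback i (ClSub.idealMod i.ker)
  have hqNj : (Omega.conormal j).IsQuasicoherent :=
    Groth.Agent.Lib.Helper16.FlatPull.isQuasicoherent_pullback j (ClSub.idealMod j.ker)
  have hqNj' : ((Scheme.Modules.pullback (𝟙 Z)).obj (Omega.conormal j)).IsQuasicoherent :=
    Groth.Agent.Lib.Helper16.FlatPull.isQuasicoherent_pullback (𝟙 Z) (Omega.conormal j)
  have w : ψ ≫ φ = 0 :=
    Groth.Agent.Lib.Helper51.OmegaUniv.conormalMap_comp_zero p i j hij hψ hφ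
  have chart : ∀ z : Z, ∃ W : Z.Opens, IsAffineOpen W ∧ z ∈ W ∧
      Function.Surjective (φ.app W) ∧
      ∀ n : Γ(Omega.conormal i, W), φ.app W n = 0 → ∃ m, ψ.app W m = n := by
    intro z
    obtain ⟨V, U, hV, hU, h₁, hzU, hW, hsurjB, hWW, -, hsurjA⟩ :=
      Groth.Agent.Lib.Helper51.OmegaUniv.exists_comp_immersion_chart p i j hij z
    obtain ⟨hs, he⟩ := Groth.Agent.Lib.Helper51.OmegaUniv.conormal_comp_chart p i j hij hd hψ hφ
      hV hU h₁ hW hsurjB hWW hsurjA
    exact ⟨i ⁻¹ᵁ U, hW, hzU, hs, he⟩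
  have chart' : ∀ z : Z, ∃ W : Z.Opens, IsAffineOpen W ∧ z ∈ W ∧
      Function.Injective (ψ.app W) := by
    intro z
    obtain ⟨V, U, hV, hU, h₁, hzU, hW, hsurjB, hWW, hWj, hsurjA⟩ :=
      Groth.Agent.Lib.Helper51.OmegaUniv.exists_comp_immersion_chart p i j hij z
    have hsm : (p.appLE V U h₁).hom.FormallySmooth :=
      (Scheme.Hom.smooth_appLE p hV hU h₁).formallySmooth
    refine ⟨j ⁻¹ᵁ V, hWj, ?_, ?_⟩
    · rw [← hWW]
      exact hzU
    · exact Groth.Agent.Lib.Helper51.OmegaUniv.conormalMap_app_injective_chart p i j hij hψ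
        hV hU h₁ hsm hsurjB hWW hWj hsurjA
  have hexact : (ShortComplex.mk ψ φ w).Exact := by
    apply Groth.Agent.Lib.Helper51.OmegaUniv.exact_of_app_exact_of_cover
    intro z
    obtain ⟨W, hW, hzW, -, he⟩ := chart z
    exact ⟨W, hW, hzW, he⟩
  have hepi : Epi φ := by
    apply Groth.Agent.Lib.Helper51.OmegaUniv.epi_of_app_surjective_of_cover
    intro z
    obtain ⟨W, hW, hzW, hs, -⟩ := chart z
    exact ⟨W, hW, hzW, hs⟩
  have hmono : Mono ψ :=
    Groth.Agent.Lib.Helper51.OmegaUniv.mono_of_app_injective_of_cover ψ chart'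
  exact ⟨w, { exact := hexact, mono_f := hmono, epi_g := hepi }⟩

end Groth.Agent.S9711
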