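import Groth.Statements.S9712
import Groth.Agent.Lib.Helper17.HQuasiProj

set_option autoImplicit false
universe u
open CategoryTheory CategoryTheory.Limits AlgebraicGeometry
open Mor

namespace Groth.Agent.S9712

/-- A morphism f : X ⟶ S is locally quasi-projective (S is covered by opens U with f⁻¹(U) ⟶ U
quasi-projective) if and only if S is covered by opens U such that f⁻¹(U) ⟶ U is H-quasi-projective
(a quasi-compact immersion into some P^n_U followed by the projection). -/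
theorem result {X S : Scheme.{u}} (f : X ⟶ S) :
    (∀ s : S, ∃ U : S.Opens, s ∈ U ∧ RelProj.IsQuasiProjective (f ∣_ U)) ↔
      (∀ s : S, ∃ U : S.Opens, s ∈ U ∧ RelProj.IsHQuasiProjective (f ∣_ U)) := by
  constructor
  · intro h s
    obtain ⟨U, hsU, hlft, hqc, L, hL⟩ := h s
    obtain ⟨_, ⟨W, hW, rfl⟩, hsW, -⟩ :=
      (U.toScheme).isBasis_affineOpens.exists_subset_of_mem_open
        (Set.mem_univ (⟨s, hsU⟩ : U.toScheme)) isOpen_univ
    have : IsAffine (W : Scheme.{u}) := hW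
    have h1 : LocallyOfFiniteType (f ∣_ U ∣_ W) := IsZariskiLocalAtTarget.restrict hlft W
    have h2 : QuasiCompact (f ∣_ U ∣_ W) := IsZariskiLocalAtTarget.restrict hqc W
    have hamp : CohB1.IsAmple (L.restrict ((f ∣_ U) ⁻¹ᵁ W).ι) := hL.2 ⟨W, hW⟩
    have h3 : RelAmple.IsRelAmple (f ∣_ U ∣_ W) (L.restrict ((f ∣_ U) ⁻¹ᵁ W).ι) :=
      (Groth.Agent.S4381.result _ _).mpr hamp
    have h4 := Groth.Agent.Lib.Helper17.HQuasiProj.isHQuasiProjective_of_isAffine (f ∣_ U ∣_ W)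
      ⟨h1, h2, _, h3⟩
    refine ⟨U.ι ''ᵁ W, ⟨⟨s, hsU⟩, hsW, rfl⟩, ?_⟩
    exact Groth.Agent.Lib.Helper17.HQuasiProj.isHQuasiProjective_of_arrowIso
      (morphismRestrictRestrict f U W) h4
  · intro h s
    obtain ⟨U, hsU, hH⟩ := h s
    exact ⟨U, hsU, Groth.Agent.Lib.Helper17.HQuasiProj.isQuasiProjective_of_isHQuasiProjective _ hH⟩

end Groth.Agent.S9712
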