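import Groth.Statements.S9714
import Mathlib

set_option autoImplicit false
universe u
open CategoryTheory CategoryTheory.Limits AlgebraicGeometry
open Mor

namespace Groth.Agent.S9714

theorem discreteTopology_of_unramified (k : Type u) [Field k] {X : Scheme.{u}}
    (f : X ⟶ Spec (CommRingCat.of k)) [FormallyUnramified f] [LocallyOfFiniteType f] :
    DiscreteTopology X := by
  have hlqf : LocallyQuasiFinite f := by
    refine ⟨fun {U} hU {V} hV e => ?_⟩
    have h1 : (f.appLE U V e).hom.FiniteType := f.finiteType_appLE hU hV e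
    have h2 : (f.appLE U V e).hom.FormallyUnramified := f.formallyUnramified_appLE hU hV e
    algebraize [(f.appLE U V e).hom]
    have : Algebra.QuasiFinite Γ(Spec (CommRingCat.of k), U) Γ(X, V) := inferInstance
    exact this
  have hsub : Subsingleton ↥(Spec (CommRingCat.of k)) :=
    inferInstanceAs (Subsingleton (PrimeSpectrum k))
  rw [← isDiscrete_univ_iff, isDiscrete_iff_forall_mem_exists_isOpen]
  intro x _
  have h := f.isDiscrete_preimage_singleton (f x)
  rw [isDiscrete_iff_forall_mem_exists_isOpen] at h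
  obtain ⟨u, huo, hu⟩ := h x rfl
  refine ⟨u, huo, ?_⟩
  rw [← hu]
  congr 1
  ext z
  simp [Subsingleton.elim (f z) (f x)]


theorem sections_singleton (k : Type u) [Field k] {X : Scheme.{u}}
    (f : X ⟶ Spec (CommRingCat.of k)) [FormallyUnramified f] [LocallyOfFiniteType f]
    (U : X.Opens) (x : X) (hU : (U : Set X) = {x}) :
    letI := ((Scheme.ΓSpecIso (CommRingCat.of k)).inv ≫ f.appLE ⊤ U le_top).hom.toAlgebra
    IsField Γ(X, U) ∧ Module.Finite k Γ(X, U) ∧ Algebra.FormallyUnramified k Γ(X, U) := by
  have hUaff : IsAffineOpen U := IsAffineOpen.of_subsingleton (hU ▸ Set.subsingleton_singleton)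
  have h1 : (f.appLE ⊤ U le_top).hom.FormallyUnramified :=
    f.formallyUnramified_appLE (isAffineOpen_top _) hUaff le_top
  have h2 : (f.appLE ⊤ U le_top).hom.FiniteType :=
    f.finiteType_appLE (isAffineOpen_top _) hUaff le_top
  have h1' : ((Scheme.ΓSpecIso (CommRingCat.of k)).inv ≫ f.appLE ⊤ U le_top).hom.FormallyUnramified := by
    rw [CommRingCat.hom_comp, RingHom.FormallyUnramified.respectsIso.cancel_left_isIso]
    exact h1
  have h2' : ((Scheme.ΓSpecIso (CommRingCat.of k)).inv ≫ f.appLE ⊤ U le_top).hom.FiniteType := by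
    rw [CommRingCat.hom_comp, RingHom.finiteType_respectsIso.cancel_left_isIso]
    exact h2
  algebraize [((Scheme.ΓSpecIso (CommRingCat.of k)).inv ≫ f.appLE ⊤ U le_top).hom]
  have hfin : Module.Finite k Γ(X, U) := Algebra.FormallyUnramified.finite_of_free k _
  have hred : IsReduced Γ(X, U) := Algebra.FormallyUnramified.isReduced_of_field k _
  have hart : IsArtinianRing Γ(X, U) := .of_finite k _
  have hsub : Subsingleton (PrimeSpectrum Γ(X, U)) := by
    refine ⟨fun p q => ?_⟩
    apply hUaff.fromSpec.isOpenEmbedding.injective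
    have hp : hUaff.fromSpec p ∈ (U : Set X) := by
      rw [← hUaff.range_fromSpec]; exact ⟨p, rfl⟩
    have hq : hUaff.fromSpec q ∈ (U : Set X) := by
      rw [← hUaff.range_fromSpec]; exact ⟨q, rfl⟩
    rw [hU] at hp hq
    exact hp.trans hq.symm
  obtain ⟨p0, -⟩ : ∃ p0 : PrimeSpectrum Γ(X, U), hUaff.fromSpec p0 = x := by
    have : x ∈ Set.range hUaff.fromSpec := by rw [hUaff.range_fromSpec, hU]; rfl
    exact this
  have hnt : Nontrivial Γ(X, U) := PrimeSpectrum.nonempty_iff_nontrivial.mp ⟨p0⟩
  have hloc : IsLocalRing Γ(X, U) := by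
    obtain ⟨m, hm⟩ := Ideal.exists_maximal Γ(X, U)
    refine IsLocalRing.of_unique_max_ideal ⟨m, hm, fun m' hm' => ?_⟩
    exact congrArg PrimeSpectrum.asIdeal
      (Subsingleton.elim (⟨m', hm'.isPrime⟩ : PrimeSpectrum _) ⟨m, hm.isPrime⟩)
  exact ⟨IsArtinianRing.isField_of_isReduced_of_isLocalRing _, hfin, inferInstance⟩


set_option backward.isDefEq.respectTransparency.types false in
theorem exists_iso_of_unramified (k : Type u) [Field k] {X : Scheme.{u}}
    (f : X ⟶ Spec (CommRingCat.of k)) [FormallyUnramified f] [LocallyOfFiniteType f] :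
    ∃ (ι : Type u) (K : ι → Type u) (_ : ∀ i, Field (K i)) (_ : ∀ i, Algebra k (K i)),
        (∀ i, FiniteDimensional k (K i) ∧ Algebra.IsSeparable k (K i)) ∧
        ∃ e : X ≅ ∐ (fun i => Spec (CommRingCat.of (K i))),
          e.hom ≫ Sigma.desc (fun i => Spec.map (CommRingCat.ofHom (algebraMap k (K i)))) = f := by
  have hdisc := discreteTopology_of_unramified k f
  let U : X → X.Opens := fun x => ⟨{x}, isOpen_discrete _⟩
  have hU : ∀ x, ((U x : X.Opens) : Set X) = {x} := fun x => rfl
  have hUaff : ∀ x, IsAffineOpen (U x) :=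
    fun x => IsAffineOpen.of_subsingleton Set.subsingleton_singleton
  let φ : ∀ x, k →+* Γ(X, U x) :=
    fun x => ((Scheme.ΓSpecIso (CommRingCat.of k)).inv ≫ f.appLE ⊤ (U x) le_top).hom
  have hs := fun x => sections_singleton k f (U x) x (hU x)
  let instF : ∀ x : X, Field Γ(X, U x) := fun x => (hs x).1.toField
  let instA : ∀ x : X, Algebra k Γ(X, U x) := fun x => (φ x).toAlgebra
  refine ⟨X, fun x => Γ(X, U x), instF, instA, fun x => ⟨(hs x).2.1, ?_⟩, ?_⟩
  · have h1 : Algebra.FormallyUnramified k Γ(X, U x) := (hs x).2.2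
    have h2 : Module.Finite k Γ(X, U x) := (hs x).2.1
    exact Algebra.FormallyUnramified.isSeparable k _
  · have hcov : ⨆ x, ((hUaff x).fromSpec).opensRange = ⊤ := by
      rw [eq_top_iff]
      intro y _
      rw [TopologicalSpace.Opens.mem_iSup]
      exact ⟨y, by rw [(hUaff y).opensRange_fromSpec]; rfl⟩
    have hdisj : Pairwise (Function.onFun Disjoint fun x => ((hUaff x).fromSpec).opensRange) := by
      intro x y hxy
      simp only [Function.onFun, (hUaff _).opensRange_fromSpec]
      rw [disjoint_iff]
      ext z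
      simp only [TopologicalSpace.Opens.coe_inf, Set.mem_inter_iff, SetLike.mem_coe,
        TopologicalSpace.Opens.coe_bot, Set.mem_empty_iff_false, iff_false, not_and]
      intro h1 h2
      exact hxy ((show z = x from h1).symm.trans (show z = y from h2))
    obtain ⟨hc⟩ := nonempty_isColimit_cofanMk_of (fun x => (hUaff x).fromSpec) hcov hdisj
    let e := hc.coconePointUniqueUpToIso (colimit.isColimit _)
    refine ⟨e, ?_⟩
    refine Cofan.IsColimit.hom_ext hc _ _ fun x => ?_
    have h1 : (Cofan.mk X fun x => (hUaff x).fromSpec).inj x ≫ e.hom =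
        Sigma.ι (fun x : X => Spec Γ(X, U x)) x :=
      IsColimit.comp_coconePointUniqueUpToIso_hom hc (colimit.isColimit _) ⟨x⟩
    rw [← Category.assoc, h1]
    erw [Sigma.ι_desc]
    show Spec.map (CommRingCat.ofHom (φ x)) = (hUaff x).fromSpec ≫ f
    rw [← IsAffineOpen.SpecMap_appLE_fromSpec f (isAffineOpen_top _) (hUaff x) le_top,
      IsAffineOpen.fromSpec_top, Scheme.isoSpec_Spec_inv, ← Spec.map_comp]
    rfl

set_option backward.isDefEq.respectTransparency.types false in
theorem unramified_sigmaDesc_spec (k : Type u) [Field k] {ι : Type u} (K : ι → Type u)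
    [∀ i, Field (K i)] [∀ i, Algebra k (K i)]
    (hK : ∀ i, FiniteDimensional k (K i) ∧ Algebra.IsSeparable k (K i))
    {Z : Scheme.{u}} (e : Z ≅ ∐ (fun i => Spec (CommRingCat.of (K i)))) :
    FormallyUnramified (e.hom ≫ Limits.Sigma.desc fun i =>
        Spec.map (CommRingCat.ofHom (algebraMap k (K i)))) ∧
    LocallyOfFiniteType (e.hom ≫ Limits.Sigma.desc fun i =>
        Spec.map (CommRingCat.ofHom (algebraMap k (K i)))) := by
  have h1 : FormallyUnramified (Limits.Sigma.desc fun i =>
        Spec.map (CommRingCat.ofHom (algebraMap k (K i)))) :=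
    IsZariskiLocalAtSource.sigmaDesc fun i => by
      rw [HasRingHomProperty.Spec_iff (P := @FormallyUnramified), CommRingCat.hom_ofHom,
        RingHom.formallyUnramified_algebraMap]
      have := (hK i).2
      have := (hK i).1
      exact Algebra.FormallyUnramified.of_isSeparable _ _
  have h2 : LocallyOfFiniteType (Limits.Sigma.desc fun i =>
        Spec.map (CommRingCat.ofHom (algebraMap k (K i)))) :=
    IsZariskiLocalAtSource.sigmaDesc fun i => by
      rw [HasRingHomProperty.Spec_iff (P := @LocallyOfFiniteType), CommRingCat.hom_ofHom]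
      have := (hK i).1
      exact RingHom.FiniteType.of_finite (RingHom.finite_algebraMap.mpr inferInstance)
  exact ⟨(MorphismProperty.cancel_left_of_respectsIso @FormallyUnramified e.hom _).mpr h1,
    (MorphismProperty.cancel_left_of_respectsIso @LocallyOfFiniteType e.hom _).mpr h2⟩

/-- Let k be a field and X a scheme over k. The structure morphism X ⟶ Spec k is unramified (formally
unramified and locally of finite type) if and only if X is isomorphic over k to a disjoint union of
spectra of finite separable field extensions of k. -/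
theorem result (k : Type u) [Field k] {X : Scheme.{u}}
    (f : X ⟶ Spec (CommRingCat.of k)) :
    (FormallyUnramified f ∧ LocallyOfFiniteType f) ↔
      ∃ (ι : Type u) (K : ι → Type u) (_ : ∀ i, Field (K i)) (_ : ∀ i, Algebra k (K i)),
        (∀ i, FiniteDimensional k (K i) ∧ Algebra.IsSeparable k (K i)) ∧
        ∃ e : X ≅ ∐ (fun i => Spec (CommRingCat.of (K i))),
          e.hom ≫ Sigma.desc (fun i => Spec.map (CommRingCat.ofHom (algebraMap k (K i)))) = f := by
  constructor
  · rintro ⟨h1, h2⟩
    exact exists_iso_of_unramified k f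
  · rintro ⟨ι, K, hF, hA, hK, e, rfl⟩
    exact unramified_sigmaDesc_spec k K hK e

end Groth.Agent.S9714
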