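import Groth.Statements.S9720
import Mathlib
import Groth.Agent.Lib.Helper24.UnramifiedLocus

set_option autoImplicit false
universe u
open CategoryTheory CategoryTheory.Limits AlgebraicGeometry
open Mor

namespace Groth.Agent.S9720

set_option backward.isDefEq.respectTransparency.types false in
theorem formallyUnramified_sigmaDesc_spec (k : Type u) [Field k] {ι : Type u} (K : ι → Type u)
    [∀ i, Field (K i)] [∀ i, Algebra k (K i)]
    (hK : ∀ i, FiniteDimensional k (K i) ∧ Algebra.IsSeparable k (K i))
    {Z : Scheme.{u}} (e : Z ≅ ∐ (fun i => Spec (CommRingCat.of (K i)))) :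
    FormallyUnramified (e.hom ≫ Limits.Sigma.desc fun i =>
        Spec.map (CommRingCat.ofHom (algebraMap k (K i)))) := by
  have : FormallyUnramified (Limits.Sigma.desc fun i =>
        Spec.map (CommRingCat.ofHom (algebraMap k (K i)))) :=
    IsZariskiLocalAtSource.sigmaDesc fun i => by
      rw [HasRingHomProperty.Spec_iff (P := @FormallyUnramified), CommRingCat.hom_ofHom,
        RingHom.formallyUnramified_algebraMap]
      have := (hK i).2
      have := (hK i).1
      exact Algebra.FormallyUnramified.of_isSeparable _ _
  exact (MorphismProperty.cancel_left_of_respectsIso @FormallyUnramified e.hom _).mpr this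

/-- Let f : X ⟶ S be locally of finite type such that for every point s of S the fibre X_s is isomorphic
over κ(s) to a coproduct of schemes Spec K_i, each K_i a finite separable extension field of κ(s).
In that case f is formally unramified (so unramified, being locally of finite type). -/
theorem result {X S : Scheme.{u}} (f : X ⟶ S) [LocallyOfFiniteType f]
    (H : ∀ s : S, ∃ (ι : Type u) (K : ι → Type u) (_ : ∀ i, Field (K i))
      (_ : ∀ i, Algebra (S.residueField s) (K i)),
      (∀ i, FiniteDimensional (S.residueField s) (K i) ∧ Algebra.IsSeparable (S.residueField s) (K i)) ∧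
        ∃ e : f.fiber s ≅ ∐ (fun i => Spec (CommRingCat.of (K i))),
          e.hom ≫ Sigma.desc (fun i => Spec.map (CommRingCat.ofHom (algebraMap (S.residueField s) (K i)))) =
            f.fiberToSpecResidueField s) :
    FormallyUnramified f := by
  open Groth.Agent.Lib.Helper24 in
  refine HasRingHomProperty.of_stalkMap RingHom.FormallyUnramified.ofLocalizationPrime fun x ↦ ?_
  obtain ⟨ι, K, hF, hA, hK, e, he⟩ := H (f x)
  have Hpb : IsPullback (f.fiberι (f x)) (f.fiberToSpecResidueField (f x)) f
      (S.fromSpecResidueField (f x)) := IsPullback.of_hasPullback _ _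
  have hFU : FormallyUnramified (f.fiberToSpecResidueField (f x)) := by
    rw [← he]
    exact formallyUnramified_sigmaDesc_spec (S.residueField (f x)) K hK e
  have h1 := (formallyUnramified_stalkMap_iff_of_isPullback Hpb (f.asFiber x)).mp
    (FormallyUnramified.stalkMap _ _)
  have gen : ∀ y : X, y = x → (f.stalkMap y).hom.FormallyUnramified →
      (f.stalkMap x).hom.FormallyUnramified := by
    rintro _ rfl h
    exact h
  exact gen _ (f.fiberι_asFiber x) h1

end Groth.Agent.S9720
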