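import Groth.Statements.S9722
import Mathlib
import Groth.Agent.Lib.Helper71.NhdAppLE

set_option autoImplicit false
universe u
open CategoryTheory AlgebraicGeometry
open Mor

namespace Groth.Agent.S9722

-- HELPERS BEGIN
open Groth.Agent.Lib.Helper71.NhdAppLE

theorem hQ_etale : RingHom.StableUnderCompositionWithLocalizationAwaySource RingHom.Etale :=
  (RingHom.StableUnderComposition.stableUnderCompositionWithLocalizationAway
    RingHom.Etale.stableUnderComposition
    (fun _ _ _ _ _ r _ => RingHom.etale_algebraMap.mpr (Algebra.Etale.of_isLocalizationAway r))).1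
-- HELPERS END


/-- Let f : X ⟶ S be a morphism, x a point of X and V an affine open neighbourhood of f(x) in S. Then f
is étale on some open neighbourhood of x if and only if there is an affine open neighbourhood U of x
with f(U) ⊆ V such that Γ(X, U) is a standard étale algebra over Γ(S, V) through the induced ring
map. -/
theorem result {X S : Scheme.{u}} (f : X ⟶ S) (x : X)
    (V : S.Opens) (hV : IsAffineOpen V) (hxV : f x ∈ V) :
    (∃ W : X.Opens, x ∈ W ∧ Etale (W.ι ≫ f)) ↔
      ∃ (U : X.Opens) (_ : IsAffineOpen U) (_ : x ∈ U) (e : U ≤ f ⁻¹ᵁ V),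
        letI := (f.appLE V U e).hom.toAlgebra
        Algebra.IsStandardEtale Γ(S, V) Γ(X, U) := by
  constructor
  · rintro ⟨W, hxW, hW⟩
    obtain ⟨U₀, hU₀, hxU₀, e₀, hQ₀⟩ :=
      exists_affine_nhd_appLE (P := @Etale) hQ_etale f x V hV hxV W hxW hW
    let _ := (f.appLE V U₀ e₀).hom.toAlgebra
    have hE : Algebra.Etale Γ(S, V) Γ(X, U₀) := hQ₀
    obtain ⟨g, hgp, hstd⟩ := Algebra.IsEtaleAt.exists_isStandardEtale (R := Γ(S, V))
      (primeAt U₀ x hxU₀)
    refine ⟨X.basicOpen g, hU₀.basicOpen g, mem_basicOpen_of_notMem_primeAt U₀ x hxU₀ g hgp,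
      (X.basicOpen_le g).trans e₀, ?_⟩
    let _ : Algebra Γ(S, V) Γ(X, X.basicOpen g) :=
      (f.appLE V (X.basicOpen g) ((X.basicOpen_le g).trans e₀)).hom.toAlgebra
    obtain ⟨eq⟩ := nonempty_algEquiv_basicOpen f V U₀ hU₀ e₀ g
    exact Algebra.IsStandardEtale.of_equiv eq
  · rintro ⟨U, hU, hxU, e, hstd⟩
    refine ⟨U, hxU, (iota_comp_iff (P := @Etale) hQ_etale f U hU V hV e).mpr ?_⟩
    let _ := (f.appLE V U e).hom.toAlgebra
    have hE : Algebra.Etale Γ(S, V) Γ(X, U) := inferInstance
    exact hE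

end Groth.Agent.S9722
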