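import Groth.Statements.S9723
import Mathlib.RingTheory.Spectrum.Prime.RingHom

set_option autoImplicit false
universe u
open FlatMor

namespace Groth.Agent.S9723

open AlgebraicGeometry CategoryTheory in
/-- Let f : X ⟶ S be formally étale (unique infinitesimal lifting against square-zero thickenings of
affine schemes), and let U be an open subscheme of X and V an open subscheme of S such that f maps U
into V. Then the restricted morphism U ⟶ V is formally étale. -/
theorem result {X S : Scheme.{u}} (f : X ⟶ S) (hf : MoreMor.IsFormallyEtaleHom f)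
    (U : X.Opens) (V : S.Opens) (h : U ≤ f ⁻¹ᵁ V) : MoreMor.IsFormallyEtaleHom (f.resLE V U h) := by
  intro A _ I hI a b hab
  -- the thickening is surjective on points
  have hsurj0 : Function.Surjective (PrimeSpectrum.comap (Ideal.Quotient.mk I)) := by
    intro p
    have hp : p ∈ Set.range (PrimeSpectrum.comap (Ideal.Quotient.mk I)) := by
      rw [_root_.range_comap_of_surjective _ _ Ideal.Quotient.mk_surjective,
        Ideal.mk_ker, PrimeSpectrum.mem_zeroLocus]
      intro x hx
      have h2 : x ^ 2 ∈ I ^ 2 := Ideal.pow_mem_pow hx 2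
      rw [hI] at h2
      exact p.2.mem_of_pow_mem 2 (h2 ▸ p.asIdeal.zero_mem)
    obtain ⟨q, hq⟩ := hp
    exact ⟨q, hq⟩
  have hsurj : Function.Surjective
      (Spec.map (CommRingCat.ofHom (Ideal.Quotient.mk I))).base := hsurj0
  have hcomm : Spec.map (CommRingCat.ofHom (Ideal.Quotient.mk I)) ≫ (b ≫ V.ι) = (a ≫ U.ι) ≫ f := by
    rw [← Category.assoc, hab, Category.assoc, Category.assoc, Scheme.Hom.resLE_comp_ι]
  obtain ⟨l', ⟨hl'1, hl'2⟩, hl'uniq⟩ := hf A I hI (a ≫ U.ι) (b ≫ V.ι) hcomm
  have hrange : Set.range l'.base ⊆ Set.range U.ι.base := by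
    rintro _ ⟨p, rfl⟩
    obtain ⟨q, rfl⟩ := hsurj p
    have : l'.base ((Spec.map (CommRingCat.ofHom (Ideal.Quotient.mk I))).base q) =
        U.ι.base (a.base q) := by
      have := congrArg (fun g => g.base q) hl'1
      simpa using this
    rw [this]
    exact ⟨_, rfl⟩
  let l : Spec (CommRingCat.of A) ⟶ (U : Scheme.{u}) := IsOpenImmersion.lift U.ι l' hrange
  have hl : l ≫ U.ι = l' := IsOpenImmersion.lift_fac U.ι l' hrange
  refine ⟨l, ⟨?_, ?_⟩, ?_⟩
  · rw [← cancel_mono U.ι, Category.assoc, hl, hl'1]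
  · rw [← cancel_mono V.ι, Category.assoc, Scheme.Hom.resLE_comp_ι, ← Category.assoc, hl, hl'2]
  · rintro l₁ ⟨h1, h2⟩
    have : l₁ ≫ U.ι = l' := by
      apply hl'uniq
      refine ⟨by rw [← Category.assoc, h1], ?_⟩
      rw [Category.assoc, ← Scheme.Hom.resLE_comp_ι f h, ← Category.assoc, h2]
    rw [← cancel_mono U.ι, this, hl]

end Groth.Agent.S9723
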