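import Groth.Statements.S9725
import Mathlib

set_option autoImplicit false
universe u
open FlatMor

namespace Groth.Agent.S9725

-- HELPERS BEGIN
open TensorProduct KaehlerDifferential IsLocalRing

section lemmaA
variable {R S T : Type u} [CommRing R] [CommRing S] [CommRing T] [Algebra R S] [Algebra S T]
  [Algebra R T] [IsScalarTower R S T]

theorem formallySmooth_of_split [Algebra.FormallySmooth R T]
    (l : Ω[T⁄R] →ₗ[T] T ⊗[S] Ω[S⁄R]) (hl : l ∘ₗ mapBaseChange R S T = LinearMap.id) :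
    Algebra.FormallySmooth S T := by
  have hinj : Function.Injective (mapBaseChange R S T) :=
    Function.HasLeftInverse.injective ⟨l, LinearMap.congr_fun hl⟩
  refine ⟨?_, ⟨fun x₁ x₂ => ?_⟩⟩
  · have hex : Function.Exact (mapBaseChange R S T) (KaehlerDifferential.map R S T T) :=
      exact_mapBaseChange_map R S T
    have hsurj : Function.Surjective (KaehlerDifferential.map R S T T) :=
      KaehlerDifferential.map_surjective R S T
    have htfae := (Function.Exact.split_tfae hex hinj hsurj).out 1 0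
    obtain ⟨σ, hσ⟩ := htfae.mp ⟨l, hl⟩
    exact Module.Projective.of_split σ (KaehlerDifferential.map R S T T) hσ
  · have key : ∀ x : Algebra.H1Cotangent S T, x = 0 := by
      intro x
      have h1 : mapBaseChange R S T (Algebra.H1Cotangent.δ R S T x) = 0 :=
        (Algebra.H1Cotangent.exact_δ_mapBaseChange R S T _).mpr ⟨x, rfl⟩
      have h2 : Algebra.H1Cotangent.δ R S T x = 0 := hinj (by rw [h1, map_zero])
      obtain ⟨y, rfl⟩ := (Algebra.H1Cotangent.exact_map_δ R S T x).mp h2
      rw [Subsingleton.elim y 0, map_zero]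
    rw [key x₁, key x₂]

end lemmaA

section lemmaB
variable {R S L : Type u} [CommRing R] [CommRing S] [CommRing L] [Algebra R S] [Algebra S L]
  [Algebra R L] [IsScalarTower R S L] [IsLocalRing L]

theorem formallySmooth_of_lTensor_injective [Algebra.FormallySmooth R L]
    [Module.Finite L Ω[L⁄R]] [Module.Finite S Ω[S⁄R]]
    (h : Function.Injective ((mapBaseChange R S L).lTensor (ResidueField L))) :
    Algebra.FormallySmooth S L := by
  have : Module.Free L Ω[L⁄R] := Module.free_of_flat_of_isLocalRing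
  obtain ⟨l, hl⟩ :=
    (IsLocalRing.split_injective_iff_lTensor_residueField_injective (mapBaseChange R S L)).mpr h
  exact formallySmooth_of_split l hl

end lemmaB
section lemmaC
open Polynomial
variable {R L : Type u} [CommRing R] [CommRing L] [Algebra R L] [IsLocalRing L]
  [Algebra R[X] L] [IsScalarTower R R[X] L]

theorem exists_smul_gen (y : L ⊗[R[X]] Ω[R[X]⁄R]) :
    ∃ a : L, y = a • ((1 : L) ⊗ₜ[R[X]] D R R[X] X) := by
  induction y using TensorProduct.induction_on with
  | zero => exact ⟨0, (zero_smul _ _).symm⟩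
  | tmul a ω =>
    refine ⟨a * algebraMap R[X] L (KaehlerDifferential.polynomialEquiv R ω), ?_⟩
    have hω : ω = (KaehlerDifferential.polynomialEquiv R ω) • D R R[X] X := by
      rw [← KaehlerDifferential.polynomialEquiv_symm, LinearEquiv.symm_apply_apply]
    conv_lhs => rw [hω]
    rw [TensorProduct.tmul_smul, TensorProduct.smul_tmul', TensorProduct.smul_tmul',
      Algebra.smul_def, smul_eq_mul, mul_one, mul_comm]
  | add x y hx hy =>
    obtain ⟨a, rfl⟩ := hx
    obtain ⟨b, rfl⟩ := hy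
    exact ⟨a + b, (add_smul _ _ _).symm⟩

theorem exists_tmul_gen (x : ResidueField L ⊗[L] (L ⊗[R[X]] Ω[R[X]⁄R])) :
    ∃ k : ResidueField L, x = k ⊗ₜ[L] ((1 : L) ⊗ₜ[R[X]] D R R[X] X) := by
  induction x using TensorProduct.induction_on with
  | zero => exact ⟨0, (TensorProduct.zero_tmul _ _).symm⟩
  | tmul k y =>
    obtain ⟨a, rfl⟩ := exists_smul_gen y
    exact ⟨a • k, by rw [TensorProduct.tmul_smul, TensorProduct.smul_tmul']⟩
  | add x y hx hy =>
    obtain ⟨a, rfl⟩ := hx
    obtain ⟨b, rfl⟩ := hy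
    exact ⟨a + b, (TensorProduct.add_tmul _ _ _).symm⟩

theorem lTensor_injective_of_D_ne_zero
    (hd : (1 : ResidueField L) ⊗ₜ[L] D R L (algebraMap R[X] L X) ≠ 0) :
    Function.Injective ((mapBaseChange R R[X] L).lTensor (ResidueField L)) := by
  rw [injective_iff_map_eq_zero]
  intro x hx
  obtain ⟨k, rfl⟩ := exists_tmul_gen x
  rw [LinearMap.lTensor_tmul, mapBaseChange_tmul, one_smul, KaehlerDifferential.map_D] at hx
  have h1 : k ⊗ₜ[L] D R L (algebraMap R[X] L X) =
      k • ((1 : ResidueField L) ⊗ₜ[L] D R L (algebraMap R[X] L X)) := by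
    rw [TensorProduct.smul_tmul', smul_eq_mul, mul_one]
  rw [h1, smul_eq_zero] at hx
  rcases hx with hk | h0
  · rw [hk, TensorProduct.zero_tmul]
  · exact absurd h0 hd

end lemmaC
section core
open Polynomial
variable {R A : Type u} [CommRing R] [CommRing A] [Algebra R A] [Algebra.Smooth R A]

theorem core (p : Ideal A) [p.IsPrime] (L : Type u) [CommRing L] [Algebra A L]
    [IsLocalization.AtPrime L p] [Algebra R L] [IsScalarTower R A L]
    (R' : Type u) [CommRing R'] [Algebra R R'] [Algebra R' L] [IsScalarTower R R' L]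
    [IsLocalRing L] (h₀ : A)
    (hd : (1 : ResidueField L) ⊗ₜ[L] D R' L (algebraMap A L h₀) ≠ 0) :
    ∃ g ∉ p, ∀ (Ag : Type u) [CommRing Ag] [Algebra A Ag] [IsLocalization.Away g Ag]
      [Algebra R Ag] [IsScalarTower R A Ag],
      algebraMap A Ag h₀ ∈ nonZeroDivisors Ag ∧
      Algebra.Smooth R (Ag ⧸ Ideal.span {algebraMap A Ag h₀}) := by
  have hd0 : (1 : ResidueField L) ⊗ₜ[L] D R L (algebraMap A L h₀) ≠ 0 := by
    intro h0
    apply hd
    have := congrArg ((KaehlerDifferential.map R R' L L).lTensor (ResidueField L)) h0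
    rw [LinearMap.lTensor_tmul, KaehlerDifferential.map_D, map_zero] at this
    exact this
  let _ : Algebra R[X] A := (Polynomial.aeval h₀ : R[X] →ₐ[R] A).toRingHom.toAlgebra
  have t1 : IsScalarTower R R[X] A := IsScalarTower.of_algebraMap_eq fun r => by
    simp [RingHom.algebraMap_toAlgebra]
  have hX : algebraMap R[X] A X = h₀ := by simp [RingHom.algebraMap_toAlgebra]
  let _ : Algebra R[X] L := ((algebraMap A L).comp (algebraMap R[X] A)).toAlgebra
  have t2 : IsScalarTower R[X] A L := IsScalarTower.of_algebraMap_eq fun r => rfl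
  have t3 : IsScalarTower R R[X] L := IsScalarTower.to₁₂₄ R R[X] A L
  have e0 : Algebra.FormallyEtale A L := Algebra.FormallyEtale.of_isLocalization p.primeCompl
  have f0 : Algebra.FormallySmooth R L := Algebra.FormallySmooth.comp R A L
  have f00 : Algebra.EssFiniteType A L := Algebra.EssFiniteType.of_isLocalization L p.primeCompl
  have f01 : Algebra.EssFiniteType R L := Algebra.EssFiniteType.comp R A L
  have f1 : Module.Finite L Ω[L⁄R] := inferInstance
  have f2 : Module.Finite R[X] Ω[R[X]⁄R] := inferInstance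
  have hXL : algebraMap R[X] L X = algebraMap A L h₀ := by
    rw [IsScalarTower.algebraMap_apply R[X] A L, hX]
  have hfs : Algebra.FormallySmooth R[X] L :=
    formallySmooth_of_lTensor_injective (R := R)
      (lTensor_injective_of_D_ne_zero (by rw [hXL]; exact hd0))
  have fp : Algebra.FinitePresentation R[X] A :=
    Algebra.FinitePresentation.of_restrict_scalars_finitePresentation R R[X] A
  let e' : L ≃ₐ[A] Localization.AtPrime p := IsLocalization.algEquiv p.primeCompl L _
  have hsmAt : Algebra.IsSmoothAt R[X] p :=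
    Algebra.FormallySmooth.of_equiv (e'.restrictScalars R[X])
  obtain ⟨g, hg, hsm⟩ := Algebra.IsSmoothAt.exists_notMem_smooth R[X] p
  refine ⟨g, hg, ?_⟩
  intro Ag _ _ _ _ _
  let _ : Algebra R[X] Ag := ((algebraMap A Ag).comp (algebraMap R[X] A)).toAlgebra
  have t4 : IsScalarTower R[X] A Ag := IsScalarTower.of_algebraMap_eq fun r => rfl
  have t5 : IsScalarTower R R[X] Ag := IsScalarTower.to₁₂₄ R R[X] A Ag
  let e : Localization.Away g ≃ₐ[A] Ag := IsLocalization.algEquiv (Submonoid.powers g) _ _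
  have hsm' : Algebra.Smooth R[X] Ag := Algebra.Smooth.of_equiv (e.restrictScalars R[X])
  have hXg : algebraMap R[X] Ag X = algebraMap A Ag h₀ := by
    rw [IsScalarTower.algebraMap_apply R[X] A Ag, hX]
  have hflat : Module.Flat R[X] Ag := inferInstance
  constructor
  · have hreg : IsSMulRegular R[X] (X : R[X]) := Polynomial.isRegular_X.left.isSMulRegular
    have h2 : IsSMulRegular Ag (algebraMap R[X] Ag X) := IsSMulRegular.of_flat hreg
    rw [hXg] at h2
    rw [mem_nonZeroDivisors_iff_right]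
    intro z hz
    refine h2 ?_
    simp only [smul_eq_mul, mul_zero]
    rw [mul_comm]
    exact hz
  · have hI : Ideal.span {(X : R[X])} = Ideal.span {X - C (0 : R)} := by simp
    let eQ : (R[X] ⧸ Ideal.span {(X : R[X])}) ≃ₐ[R] R :=
      (Ideal.quotientEquivAlgOfEq R hI).trans (Polynomial.quotientSpanXSubCAlgEquiv (0 : R))
    have sQ : Algebra.Smooth R (R[X] ⧸ Ideal.span {(X : R[X])}) := Algebra.Smooth.of_equiv eQ.symm
    have sT : Algebra.Smooth (R[X] ⧸ Ideal.span {(X : R[X])})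
        ((R[X] ⧸ Ideal.span {(X : R[X])}) ⊗[R[X]] Ag) := inferInstance
    have sRT : Algebra.Smooth R ((R[X] ⧸ Ideal.span {(X : R[X])}) ⊗[R[X]] Ag) :=
      Algebra.Smooth.comp R (R[X] ⧸ Ideal.span {(X : R[X])}) _
    let e1 := Algebra.TensorProduct.quotIdealMapEquivQuotTensor Ag (Ideal.span {(X : R[X])})
    have hmap : (Ideal.span {(X : R[X])}).map (algebraMap R[X] Ag) =
        Ideal.span {algebraMap A Ag h₀} := by
      rw [Ideal.map_span, Set.image_singleton, hXg]
    have t6 : IsScalarTower R (R[X] ⧸ Ideal.span {(X : R[X])})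
        (Ag ⧸ (Ideal.span {(X : R[X])}).map (algebraMap R[X] Ag)) := by
      have key : ∀ r : R, algebraMap R (Ag ⧸ (Ideal.span {(X : R[X])}).map (algebraMap R[X] Ag)) r =
          algebraMap (R[X] ⧸ Ideal.span {(X : R[X])})
            (Ag ⧸ (Ideal.span {(X : R[X])}).map (algebraMap R[X] Ag))
            (algebraMap R (R[X] ⧸ Ideal.span {(X : R[X])}) r) := by
        intro r
        rw [IsScalarTower.algebraMap_apply R R[X] (R[X] ⧸ Ideal.span {(X : R[X])}),
          Ideal.Quotient.algebraMap_eq, Ideal.Quotient.algebraMap_quotient_map_quotient,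
          ← IsScalarTower.algebraMap_apply R R[X] Ag]
        rfl
      exact IsScalarTower.of_algebraMap_eq key
    let e2 : (Ag ⧸ (Ideal.span {(X : R[X])}).map (algebraMap R[X] Ag)) ≃ₐ[R]
        ((R[X] ⧸ Ideal.span {(X : R[X])}) ⊗[R[X]] Ag) := e1.restrictScalars R
    have s3 : Algebra.Smooth R (Ag ⧸ (Ideal.span {(X : R[X])}).map (algebraMap R[X] Ag)) :=
      Algebra.Smooth.of_equiv (A := ((R[X] ⧸ Ideal.span {(X : R[X])}) ⊗[R[X]] Ag)) e2.symm
    exact Algebra.Smooth.of_equiv (Ideal.quotientEquivAlgOfEq R hmap)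

end core
-- HELPERS END


open AlgebraicGeometry CategoryTheory Limits in
/-- Let f : X ⟶ S be a morphism and x a point such that f is smooth on an open neighbourhood of x, and
let h be an element of the maximal ideal of the local ring O_{X,x} such that the image of dh in
Ω_{O_{X,x}/O_{S,f x}} ⊗ κ(x) (the fibre at x of the sheaf of differentials of X over S) is nonzero.
Then there are an affine open U ∋ x and a nonzerodivisor h' of Γ(X, U) with germ h at x such that
the closed subscheme V(h') of U, an effective Cartier divisor through x, is smooth over S. -/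
theorem result {X S : Scheme.{u}} (f : X ⟶ S) (x : X)
    (W : X.Opens) (hxW : x ∈ W) (hW : Smooth (W.ι ≫ f))
    (h : ↑(X.presheaf.stalk x)) (hm : h ∈ IsLocalRing.maximalIdeal ↑(X.presheaf.stalk x))
    (hd : letI := (f.stalkMap x).hom.toAlgebra
      (1 : IsLocalRing.ResidueField ↑(X.presheaf.stalk x)) ⊗ₜ[↑(X.presheaf.stalk x)]
          (KaehlerDifferential.D ↑(S.presheaf.stalk (f x)) ↑(X.presheaf.stalk x) h) ≠ 0) :
    ∃ (U : X.Opens) (hU : IsAffineOpen U) (hx : x ∈ U) (h' : Γ(X, U)), X.presheaf.germ U x hx h' = h ∧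
      h' ∈ nonZeroDivisors Γ(X, U) ∧
      Smooth (Spec.map (CommRingCat.ofHom (Ideal.Quotient.mk (Ideal.span {h'}))) ≫ hU.fromSpec ≫ f) := by
  -- affine `V ∋ f x`
  obtain ⟨_, ⟨V, hV0, rfl⟩, hfxV, -⟩ :=
    S.isBasis_affineOpens.exists_subset_of_mem_open (Set.mem_univ (f x)) isOpen_univ
  have hV : IsAffineOpen V := hV0
  -- representative of `h`
  obtain ⟨U', hxU', s, hs⟩ := TopCat.Presheaf.exists_germ_eq X.presheaf h
  obtain ⟨_, ⟨U₀, hU₀0, rfl⟩, hxU₀, hU₀le⟩ :=
    X.isBasis_affineOpens.exists_subset_of_mem_open (a := x)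
      (show x ∈ ((U' ⊓ W ⊓ f ⁻¹ᵁ V : X.Opens) : Set X) from ⟨⟨hxU', hxW⟩, hfxV⟩)
      (U' ⊓ W ⊓ f ⁻¹ᵁ V).2
  have hU₀ : IsAffineOpen U₀ := hU₀0
  have hU₀U' : U₀ ≤ U' := fun y hy => (hU₀le hy).1.1
  have hU₀W : U₀ ≤ W := fun y hy => (hU₀le hy).1.2
  have hU₀V : U₀ ≤ f ⁻¹ᵁ V := fun y hy => (hU₀le hy).2
  let h₀ : Γ(X, U₀) := X.presheaf.map (homOfLE hU₀U').op s
  have hh₀ : X.presheaf.germ U₀ x hxU₀ h₀ = h := by
    rw [TopCat.Presheaf.germ_res_apply]
    exact hs
  -- the ring map is smooth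
  have hφ : (f.appLE V U₀ hU₀V).hom.Smooth := by
    have hW' : IsAffineOpen (W.ι ⁻¹ᵁ U₀) :=
      hU₀.preimage_of_isOpenImmersion W.ι (by rw [Scheme.Opens.opensRange_ι]; exact hU₀W)
    have hle : W.ι ⁻¹ᵁ U₀ ≤ (W.ι ≫ f) ⁻¹ᵁ V := by
      intro y hy
      exact hU₀V hy
    have h1 := (W.ι ≫ f).smooth_appLE hV hW' hle
    have hiso : IsIso (W.ι.app U₀) :=
      Scheme.Hom.isIso_app W.ι U₀ (by rw [Scheme.Opens.opensRange_ι]; exact hU₀W)
    have key : f.appLE V U₀ hU₀V ≫ W.ι.app U₀ = (W.ι ≫ f).appLE V (W.ι ⁻¹ᵁ U₀) hle := by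
      rw [Scheme.Hom.app_eq_appLE, Scheme.Hom.appLE_comp_appLE]
    rw [← key] at h1
    exact (RingHom.Smooth.propertyIsLocal.respectsIso.cancel_right_isIso _ _).mp h1
  algebraize [(f.appLE V U₀ hU₀V).hom]
  -- algebra instances on the stalks
  let _ : Algebra Γ(X, U₀) (X.presheaf.stalk x) := (X.presheaf.germ U₀ x hxU₀).hom.toAlgebra
  have hloc : IsLocalization.AtPrime (X.presheaf.stalk x) (hU₀.primeIdealOf ⟨x, hxU₀⟩).asIdeal :=
    hU₀.isLocalization_stalk ⟨x, hxU₀⟩
  let _ : Algebra (S.presheaf.stalk (f x)) (X.presheaf.stalk x) := (f.stalkMap x).hom.toAlgebra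
  let _ : Algebra Γ(S, V) (S.presheaf.stalk (f x)) := (S.presheaf.germ V (f x) hfxV).hom.toAlgebra
  let _ : Algebra Γ(S, V) (X.presheaf.stalk x) :=
    ((algebraMap (S.presheaf.stalk (f x)) (X.presheaf.stalk x)).comp
      (algebraMap Γ(S, V) (S.presheaf.stalk (f x)))).toAlgebra
  have t1 : IsScalarTower Γ(S, V) (S.presheaf.stalk (f x)) (X.presheaf.stalk x) :=
    IsScalarTower.of_algebraMap_eq fun _ => rfl
  have t2 : IsScalarTower Γ(S, V) Γ(X, U₀) (X.presheaf.stalk x) := by
    refine IsScalarTower.of_algebraMap_eq fun r => ?_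
    change f.stalkMap x (S.presheaf.germ V (f x) hfxV r) =
      X.presheaf.germ U₀ x hxU₀ (f.appLE V U₀ hU₀V r)
    rw [Scheme.Hom.germ_stalkMap_apply, Scheme.Hom.appLE, CommRingCat.comp_apply,
      TopCat.Presheaf.germ_res_apply]
  obtain ⟨g, hg, H⟩ := core (R := Γ(S, V)) (hU₀.primeIdealOf ⟨x, hxU₀⟩).asIdeal
    (X.presheaf.stalk x) (S.presheaf.stalk (f x)) h₀ (by
      change (1 : IsLocalRing.ResidueField ↑(X.presheaf.stalk x)) ⊗ₜ[↑(X.presheaf.stalk x)]
          (KaehlerDifferential.D ↑(S.presheaf.stalk (f x)) ↑(X.presheaf.stalk x)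
            (X.presheaf.germ U₀ x hxU₀ h₀)) ≠ 0
      rw [hh₀]
      exact hd)
  -- the basic open
  have hUaff : IsAffineOpen (X.basicOpen g) := hU₀.basicOpen g
  have hxU : x ∈ X.basicOpen g := by
    rw [Scheme.mem_basicOpen _ _ x hxU₀]
    exact (IsLocalization.AtPrime.isUnit_to_map_iff (X.presheaf.stalk x)
      (hU₀.primeIdealOf ⟨x, hxU₀⟩).asIdeal g).mpr hg
  have hUle : X.basicOpen g ≤ f ⁻¹ᵁ V := (X.basicOpen_le g).trans hU₀V
  let _ : Algebra Γ(X, U₀) Γ(X, X.basicOpen g) :=
    (X.presheaf.map (homOfLE (X.basicOpen_le g)).op).hom.toAlgebra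
  have hlocg : IsLocalization.Away g Γ(X, X.basicOpen g) := hU₀.isLocalization_basicOpen g
  let _ : Algebra Γ(S, V) Γ(X, X.basicOpen g) := (f.appLE V (X.basicOpen g) hUle).hom.toAlgebra
  have t3 : IsScalarTower Γ(S, V) Γ(X, U₀) Γ(X, X.basicOpen g) := by
    refine IsScalarTower.of_algebraMap_eq fun r => ?_
    change f.appLE V (X.basicOpen g) hUle r =
      X.presheaf.map (homOfLE (X.basicOpen_le g)).op (f.appLE V U₀ hU₀V r)
    rw [← CommRingCat.comp_apply, Scheme.Hom.appLE_map]
  obtain ⟨hnzd, hsm⟩ := H Γ(X, X.basicOpen g)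
  refine ⟨X.basicOpen g, hUaff, hxU, X.presheaf.map (homOfLE (X.basicOpen_le g)).op h₀, ?_,
    hnzd, ?_⟩
  · rw [TopCat.Presheaf.germ_res_apply]
    exact hh₀
  · rw [← IsAffineOpen.SpecMap_appLE_fromSpec f hV hUaff hUle, ← Category.assoc, ← Spec.map_comp]
    have hresp : MorphismProperty.Respects (@Smooth.{u}) (@IsOpenImmersion.{u}) := inferInstance
    refine hresp.toRespectsRight.postcomp _ (inferInstance : IsOpenImmersion hV.fromSpec) _ ?_
    rw [HasRingHomProperty.Spec_iff (P := @Smooth)]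
    have hcomp : (f.appLE V (X.basicOpen g) hUle ≫ CommRingCat.ofHom (Ideal.Quotient.mk
        (Ideal.span {X.presheaf.map (homOfLE (X.basicOpen_le g)).op h₀}))).hom =
        algebraMap Γ(S, V) (Γ(X, X.basicOpen g) ⧸
          Ideal.span {algebraMap Γ(X, U₀) Γ(X, X.basicOpen g) h₀}) := rfl
    rw [hcomp]
    exact RingHom.smooth_algebraMap.mpr hsm

end Groth.Agent.S9725
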