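import Groth.Statements.S9724
import Groth.Agent.S9725
import Groth.Agent.Lib.Helper7.SmoothResidue
import Groth.Agent.Lib.Helper55.FiberCompDim

set_option autoImplicit false
universe u
open FlatMor

namespace Groth.Agent.S9724

open AlgebraicGeometry CategoryTheory Limits in
/-- Let f : X ⟶ S be a morphism and x a point such that f is smooth on an open neighbourhood of x, the
residue field extension κ(x)/κ(f x) is separable (formally smooth), and x is not the generic point
of any irreducible component of the fibre over f x, i.e. (the fibre being smooth over a field near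
x) the maximal ideal of the local ring of the fibre at x is nonzero. Then there are an affine open U
∋ x and a nonzerodivisor h' of Γ(X, U) vanishing at x such that the closed subscheme V(h') of U, an
effective Cartier divisor through x, is smooth over S. -/
theorem result {X S : Scheme.{u}} (f : X ⟶ S) (x : X)
    (W : X.Opens) (hxW : x ∈ W) (hW : Smooth (W.ι ≫ f))
    (hsep : letI := (f.residueFieldMap x).hom.toAlgebra
      Algebra.FormallySmooth (S.residueField (f x)) (X.residueField x))
    (hgen : IsLocalRing.maximalIdeal ↑((f.fiber (f x)).presheaf.stalk (f.asFiber x)) ≠ ⊥) :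
    ∃ (U : X.Opens) (hU : IsAffineOpen U) (hx : x ∈ U) (h' : Γ(X, U)), h' ∈ nonZeroDivisors Γ(X, U) ∧
      X.presheaf.germ U x hx h' ∈ IsLocalRing.maximalIdeal ↑(X.presheaf.stalk x) ∧
      Smooth (Spec.map (CommRingCat.ofHom (Ideal.Quotient.mk (Ideal.span {h'}))) ≫ hU.fromSpec ≫ f) := by
  haveI := hW
  -- (a) formal smoothness of the stalk map
  have hfs : (f.stalkMap x).hom.FormallySmooth := by
    have h1 : ((W.ι ≫ f).stalkMap ⟨x, hxW⟩).hom.FormallySmooth := by
      have h0 := (W.ι ≫ f).smoothLocus_eq_top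
      have hmem : (⟨x, hxW⟩ : W) ∈ (W.ι ≫ f).smoothLocus := h0 ▸ trivial
      exact hmem
    rw [Scheme.Hom.stalkMap_comp] at h1
    exact (RingHom.FormallySmooth.respectsIso.cancel_right_isIso _
      (W.ι.stalkMap ⟨x, hxW⟩)).mp h1
  letI : Algebra (S.presheaf.stalk (f x)) (X.presheaf.stalk x) := (f.stalkMap x).hom.toAlgebra
  have hfs' : Algebra.FormallySmooth (S.presheaf.stalk (f x)) (X.presheaf.stalk x) := hfs
  have hloc : IsLocalHom (algebraMap (S.presheaf.stalk (f x)) (X.presheaf.stalk x)) := by
    rw [RingHom.algebraMap_toAlgebra]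
    infer_instance
  letI : Algebra (IsLocalRing.ResidueField (S.presheaf.stalk (f x)))
      (IsLocalRing.ResidueField (X.presheaf.stalk x)) := (f.residueFieldMap x).hom.toAlgebra
  have hcompat : ∀ a : S.presheaf.stalk (f x),
      algebraMap (IsLocalRing.ResidueField (S.presheaf.stalk (f x)))
        (IsLocalRing.ResidueField (X.presheaf.stalk x))
        (IsLocalRing.residue (S.presheaf.stalk (f x)) a) =
      IsLocalRing.residue (X.presheaf.stalk x)
        (algebraMap (S.presheaf.stalk (f x)) (X.presheaf.stalk x) a) := fun a => rfl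
  have hsep' : Algebra.FormallySmooth (IsLocalRing.ResidueField (S.presheaf.stalk (f x)))
      (IsLocalRing.ResidueField (X.presheaf.stalk x)) := hsep
  -- (b) the closed fibre ring is Noetherian
  have hnoeth : IsNoetherianRing (X.presheaf.stalk x ⧸
      (IsLocalRing.maximalIdeal (S.presheaf.stalk (f x))).map
        (algebraMap (S.presheaf.stalk (f x)) (X.presheaf.stalk x))) := by
    have h1 := Groth.Agent.Lib.Helper55.isNoetherianRing_stalk_quotient (W.ι ≫ f) ⟨x, hxW⟩
    let e : X.presheaf.stalk x ≃+* W.toScheme.presheaf.stalk ⟨x, hxW⟩ :=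
      (asIso (W.ι.stalkMap ⟨x, hxW⟩)).commRingCatIsoToRingEquiv
    have hIJ : Ideal.map ((W.ι ≫ f).stalkMap ⟨x, hxW⟩).hom
          (IsLocalRing.maximalIdeal (S.presheaf.stalk ((W.ι ≫ f) ⟨x, hxW⟩))) =
        Ideal.map (e : X.presheaf.stalk x →+* W.toScheme.presheaf.stalk ⟨x, hxW⟩)
          ((IsLocalRing.maximalIdeal (S.presheaf.stalk (f x))).map
            (algebraMap (S.presheaf.stalk (f x)) (X.presheaf.stalk x))) := by
      rw [Ideal.map_map]
      congr 1
      rw [Scheme.Hom.stalkMap_comp]
      rfl
    exact isNoetherianRing_of_ringEquiv _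
      (Ideal.quotientEquiv
        ((IsLocalRing.maximalIdeal (S.presheaf.stalk (f x))).map
          (algebraMap (S.presheaf.stalk (f x)) (X.presheaf.stalk x)))
        (Ideal.map ((W.ι ≫ f).stalkMap ⟨x, hxW⟩).hom
          (IsLocalRing.maximalIdeal (S.presheaf.stalk ((W.ι ≫ f) ⟨x, hxW⟩)))) e hIJ).symm
  -- (e) the closed fibre ring is not a field
  have hne : ∃ t ∈ IsLocalRing.maximalIdeal (X.presheaf.stalk x),
      t ∉ (IsLocalRing.maximalIdeal (S.presheaf.stalk (f x))).map
        (algebraMap (S.presheaf.stalk (f x)) (X.presheaf.stalk x)) := by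
    by_contra hcon
    push Not at hcon
    obtain ⟨e⟩ := Groth.Agent.Lib.Helper55.nonempty_stalk_fiber_equiv f (f x) (f.asFiber x) x
      (f.fiberι_asFiber x)
    have hIeq : Ideal.map (f.stalkMap x).hom
        (IsLocalRing.maximalIdeal (S.presheaf.stalk (f x))) =
        IsLocalRing.maximalIdeal (X.presheaf.stalk x) :=
      le_antisymm (IsLocalRing.map_maximalIdeal_le _) hcon
    have hmax : (Ideal.map (f.stalkMap x).hom
        (IsLocalRing.maximalIdeal (S.presheaf.stalk (f x)))).IsMaximal :=
      hIeq ▸ IsLocalRing.maximalIdeal.isMaximal _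
    have hfield : IsField (X.presheaf.stalk x ⧸ Ideal.map (f.stalkMap x).hom
        (IsLocalRing.maximalIdeal (S.presheaf.stalk (f x)))) :=
      (Ideal.Quotient.maximal_ideal_iff_isField_quotient _).mp hmax
    have hfield' : IsField ((f.fiber (f x)).presheaf.stalk (f.asFiber x)) :=
      e.symm.toMulEquiv.isField hfield
    exact hgen (IsLocalRing.isField_iff_maximalIdeal_eq.mp hfield')
  obtain ⟨h, hm, hd⟩ :=
    Groth.Agent.Lib.Helper7.SmoothResidue.exists_mem_maximalIdeal_tmul_D_ne_zero
      (S.presheaf.stalk (f x)) (X.presheaf.stalk x) hcompat hnoeth hne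
  obtain ⟨U, hU, hx, h', hgerm, hnzd, hsm⟩ := Groth.Agent.S9725.result f x W hxW hW h hm hd
  exact ⟨U, hU, hx, h', hnzd, hgerm ▸ hm, hsm⟩

end Groth.Agent.S9724
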