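import Groth.Statements.S9728
import Groth.Agent.Lib.Helper10.LciMor
import Groth.Agent.S8656

set_option autoImplicit false
universe u
open FlatMor

namespace Groth.Agent.S9728

open Groth.Agent.Lib.Helper10.LciMor

open AlgebraicGeometry CategoryTheory Limits in
/-- Given S-schemes U, P, P' with P and P' smooth over S, immersions i : U ⟶ P and i' : U ⟶ P'
compatible with the structure maps to S, and a point u of U, some restriction of i to an open
neighbourhood of u is a Koszul-regular immersion exactly when some restriction of i' to an open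
neighbourhood of u is. -/
theorem result {S U P P' : Scheme.{u}} (q : U ⟶ S)
    (p : P ⟶ S) (p' : P' ⟶ S) [Smooth p] [Smooth p'] (i : U ⟶ P) (i' : U ⟶ P') [IsImmersion i] [IsImmersion i']
    (hi : i ≫ p = q) (hi' : i' ≫ p' = q) (u : U) :
    (∃ V : U.Opens, u ∈ V ∧ RegImm.IsRegularImmersion RegImm.Kind.koszul (V.ι ≫ i)) ↔
      (∃ V : U.Opens, u ∈ V ∧ RegImm.IsRegularImmersion RegImm.Kind.koszul (V.ι ≫ i')) := by
  have key : ∀ {P P' : Scheme.{u}} (p : P ⟶ S) (p' : P' ⟶ S) [Smooth p] [Smooth p'] (i : U ⟶ P)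
      (i' : U ⟶ P') [IsImmersion i] [IsImmersion i'] (hi : i ≫ p = q) (hi' : i' ≫ p' = q),
      (∃ V : U.Opens, u ∈ V ∧ RegImm.IsRegularImmersion RegImm.Kind.koszul (V.ι ≫ i)) →
      (∃ V : U.Opens, u ∈ V ∧ RegImm.IsRegularImmersion RegImm.Kind.koszul (V.ι ≫ i')) := by
    intro P P' p p' _ _ i i' _ _ hi hi' ⟨V, huV, hV⟩
    refine ⟨V, huV, ?_⟩
    have h1 : lciMor ((V.ι ≫ i) ≫ p) :=
      lciMor.comp_mem _ _ (lciMor_of_isRegularImmersion _ hV) (lciMor_of_smooth p)
    have h2 : (V.ι ≫ i') ≫ p' = (V.ι ≫ i) ≫ p := by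
      rw [Category.assoc, Category.assoc, hi, hi']
    exact Groth.Agent.S8656.result ((V.ι ≫ i) ≫ p) (isKoszulAt_of_lciMor _ h1) p' (V.ι ≫ i') h2
  exact ⟨key p p' i i' hi hi', key p' p i' i hi' hi⟩

end Groth.Agent.S9728
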