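import Groth.Statements.S9730
import Groth.Agent.Lib.Helper10.LciSyntDescentC
import Groth.Agent.Lib.Helper71.FppfChart
import Groth.Agent.S9758

set_option autoImplicit false
universe u
open FlatMor

namespace Groth.Agent.S9730

open AlgebraicGeometry CategoryTheory Limits in
/-- For g : X' ⟶ X surjective and syntomic and any morphism f : X ⟶ Y, the composite g ≫ f is Koszul at
every point of X' (a local complete intersection morphism) if and only if f is Koszul at every point
of X. The published statement is phrased for syntomic coverings; this row takes a single surjective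
syntomic morphism, to which a covering reduces by passing to the disjoint union of its members. -/
theorem result {X' X Y : Scheme.{u}} (g : X' ⟶ X) (hg : Synt.IsSyntomicMor g) [Surjective g]
    (f : X ⟶ Y) : (∀ x' : X', Synt.IsKoszulAt (g ≫ f) x') ↔ (∀ x : X, Synt.IsKoszulAt f x) := by
  obtain ⟨hflat, hk⟩ := (Groth.Agent.S9758.result g).mpr hg
  have hglci : Groth.Agent.Lib.Helper10.LciMor.lciMor g :=
    Groth.Agent.Lib.Helper10.LciMor.lciMor_of_forall_isKoszulAt g hk
  rw [← Groth.Agent.Lib.Helper10.LciMor.lciMor_iff_forall_isKoszulAt,
    ← Groth.Agent.Lib.Helper10.LciMor.lciMor_iff_forall_isKoszulAt]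
  constructor
  · intro h
    haveI := hflat
    haveI : LocallyOfFinitePresentation g :=
      Groth.Agent.Lib.Helper10.LciSyntDescent.locallyOfFinitePresentation_of_isSyntomicMor g hg
    haveI : LocallyOfFiniteType (g ≫ f) :=
      Groth.Agent.Lib.Helper10.LciMor.locallyOfFiniteType_of_lciMor _ h
    haveI : LocallyOfFiniteType f :=
      Groth.Agent.Lib.Helper71.FppfChart.locallyOfFiniteType_of_fppf_comp g f
    exact Groth.Agent.Lib.Helper10.LciSyntDescent.lciMor_of_flat_lci_surjective_comp g f hglci h
  · intro h
    exact Groth.Agent.Lib.Helper10.LciMor.lciMor.comp_mem g f hglci h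

end Groth.Agent.S9730
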