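import Groth.Statements.S9732
-- import your own Groth.Agent.* helpers here
import Groth.Agent.Lib.Helper51.ThickeningSpec

set_option autoImplicit false
universe u
open OmegaSh

namespace Groth.Agent.S9732

open AlgebraicGeometry CategoryTheory Limits in
/-- Let h : Z ⟶ X be formally unramified and let (i : Z ⟶ Z', h' : Z' ⟶ X) be a universal first order
thickening of Z over X. Then h' is formally unramified. -/
theorem result {Z Z' X : Scheme.{u}} (h : Z ⟶ X) [FormallyUnramified h]
    (i : Z ⟶ Z') (h' : Z' ⟶ X) (hu : OmegaSh.IsUnivThickening h i h') : FormallyUnramified h' := by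
  open AlgebraicGeometry CategoryTheory Limits in
  obtain ⟨hi, hih', huniv⟩ := hu
  have hci : IsClosedImmersion i := hi.1.1
  refine FormallyUnramified.of_hom_ext h' ?_
  intro R S φ hφsurj hφker g₁ g₂ hg hgf
  have hj : MoreMor.IsFirstOrderThickening (Spec.map φ) :=
    Groth.Agent.Lib.Helper51.isFirstOrderThickening_SpecMap φ hφsurj hφker
  -- the scheme theoretic preimage of `Z` under `g₁`
  have hja : MoreMor.IsFirstOrderThickening (pullback.fst g₁ i) :=
    Groth.Agent.Lib.Helper51.isFirstOrderThickening_of_isPullback (IsPullback.of_hasPullback g₁ i) hi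
  have hj₀ : MoreMor.IsFirstOrderThickening
      (pullback.snd (Spec.map φ) (pullback.fst g₁ i)) :=
    Groth.Agent.Lib.Helper51.isFirstOrderThickening_of_isPullback
      (IsPullback.of_hasPullback (Spec.map φ) (pullback.fst g₁ i)).flip hj
  have hcond : pullback.fst g₁ i ≫ g₁ = pullback.snd g₁ i ≫ i := pullback.condition
  have hcond₀ : pullback.snd (Spec.map φ) (pullback.fst g₁ i) ≫ pullback.fst g₁ i =
      pullback.fst (Spec.map φ) (pullback.fst g₁ i) ≫ Spec.map φ := pullback.condition.symm
  -- step 1: the two maps agree on the preimage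
  have step1 : pullback.fst g₁ i ≫ g₁ = pullback.fst g₁ i ≫ g₂ := by
    have hex := huniv _ _ (pullback.snd (Spec.map φ) (pullback.fst g₁ i))
      (pullback.fst g₁ i ≫ g₁ ≫ h')
      (pullback.snd (Spec.map φ) (pullback.fst g₁ i) ≫ pullback.snd g₁ i) hj₀ (by
        rw [Category.assoc, ← hih', ← Category.assoc (pullback.snd g₁ i), ← hcond,
          Category.assoc])
    refine hex.unique ⟨?_, ?_⟩ ⟨?_, ?_⟩
    · rw [Category.assoc, hcond]
    · rw [Category.assoc]
    · rw [Category.assoc, ← hcond, ← Category.assoc, ← Category.assoc, hcond₀, Category.assoc,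
        Category.assoc, hg]
    · rw [Category.assoc, hgf]
  -- step 2: the two maps agree
  have hex := huniv _ _ (pullback.fst g₁ i) (g₁ ≫ h') (pullback.snd g₁ i) hja (by
    rw [← Category.assoc, hcond, Category.assoc, hih'])
  exact hex.unique ⟨hcond, rfl⟩ ⟨step1.symm.trans hcond, hgf.symm⟩

end Groth.Agent.S9732
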