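import Groth.Statements.S9733
-- import your own Groth.Agent.* helpers here
import Groth.Agent.Lib.Helper51.Thickening

set_option autoImplicit false
universe u
open OmegaSh

namespace Groth.Agent.S9733

open AlgebraicGeometry CategoryTheory Limits in
/-- Let h : Z ⟶ X and f : Z ⟶ W make Z the fibre product of g : X ⟶ Y and a formally unramified h' : W ⟶
Y, and let (j : W ⟶ W', k : W' ⟶ Y) be universal first-order thickening data for h'. Then the map Z
⟶ X ×_Y W' with components h and f ≫ j, together with the first projection X ×_Y W' ⟶ X, is a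
universal first-order thickening for h. The published statement also asserts that h is formally
unramified and that the pullback along f of the conormal sheaf of W relative to Y surjects onto the
conormal sheaf of Z relative to X; this row states neither. -/
theorem result {Z X W Y W' : Scheme.{u}} (h : Z ⟶ X) (f : Z ⟶ W) (g : X ⟶ Y) (h' : W ⟶ Y)
    [FormallyUnramified h'] (hc : IsPullback h f g h') (j : W ⟶ W') (k : W' ⟶ Y) (hu : OmegaSh.IsUnivThickening h' j k) :
    OmegaSh.IsUnivThickening h (pullback.lift h (f ≫ j) (hc.w.trans (congrArg (f ≫ ·) hu.2.1).symm)) (pullback.fst g k) := by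
  have hi' : pullback.lift h (f ≫ j) (hc.w.trans (congrArg (f ≫ ·) hu.2.1).symm) ≫
      pullback.snd g k = f ≫ j := pullback.lift_snd _ _ _
  have hfst : pullback.lift h (f ≫ j) (hc.w.trans (congrArg (f ≫ ·) hu.2.1).symm) ≫
      pullback.fst g k = h := pullback.lift_fst _ _ _
  refine ⟨?_, hfst, ?_⟩
  · have hbig : IsPullback f
        (pullback.lift h (f ≫ j) (hc.w.trans (congrArg (f ≫ ·) hu.2.1).symm) ≫ pullback.fst g k)
        (j ≫ k) g := by
      rw [hfst, hu.2.1]
      exact hc.flip
    have htop := IsPullback.of_bot hbig hi'.symm (IsPullback.of_hasPullback g k).flip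
    exact Groth.Agent.Lib.Helper51.isFirstOrderThickening_of_isPullback htop.flip hu.1
  · intro T T' jT b a hjT hcomm
    have hcomm' : jT ≫ (b ≫ g) = (a ≫ f) ≫ h' := by
      rw [← Category.assoc, hcomm, Category.assoc, Category.assoc, hc.w]
    obtain ⟨c, ⟨hc1, hc2⟩, hcu⟩ := hu.2.2 T T' jT (b ≫ g) (a ≫ f) hjT hcomm'
    refine ⟨pullback.lift b c hc2.symm, ⟨?_, pullback.lift_fst _ _ _⟩, ?_⟩
    · apply pullback.hom_ext
      · rw [Category.assoc, pullback.lift_fst, Category.assoc, hfst, hcomm]
      · rw [Category.assoc, pullback.lift_snd, Category.assoc, hi', hc1, Category.assoc]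
    · rintro a'' ⟨h1, h2⟩
      have : a'' ≫ pullback.snd g k = c := by
        apply hcu
        refine ⟨?_, ?_⟩
        · rw [← Category.assoc, h1, Category.assoc, hi', Category.assoc]
        · rw [Category.assoc, ← pullback.condition, ← Category.assoc, h2]
      apply pullback.hom_ext
      · rw [h2, pullback.lift_fst]
      · rw [this, pullback.lift_snd]

end Groth.Agent.S9733
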