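import Groth.Statements.S9734
import Groth.Agent.Lib.Helper61.ResidueFieldExt

set_option autoImplicit false
set_option linter.style.haveILetI false
universe u
open FlatMor

namespace Groth.Agent.S9734

open Polynomial in

open Groth.Agent.Lib.Helper61.ResidueFieldExt in
/-- algebraic core: an étale algebra with an algebra map to `k` hitting a primitive element. -/
lemma alg_core {R : Type u} [CommRing R] {κ : Type u} [Field κ] {k : Type u} [Field k]
    [Algebra R κ] [Algebra κ k] [Algebra R k] [IsScalarTower R κ k]
    [FiniteDimensional κ k] [Algebra.IsSeparable κ k]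
    (hfrac : ∀ c : κ, ∃ a s : R, algebraMap R κ s ≠ 0 ∧
      c * algebraMap R κ s = algebraMap R κ a) :
    ∃ (S' : Type u) (_ : CommRing S') (_ : Algebra R S') (_ : Algebra.Etale R S')
      (ψ : S' →ₐ[R] k) (ρ : S'), IntermediateField.adjoin κ {ψ ρ} = ⊤ := by
  classical
  obtain ⟨α, hα⟩ := Field.exists_primitive_element κ k
  have hαint : IsIntegral κ α := IsIntegral.of_finite _ α
  obtain ⟨G, t, hGm, ht, hdeg, hroot⟩ := exists_monic_lift (R := R) hfrac α hαint
  set β : k := algebraMap R k t * α with hβ
  have hβint : IsIntegral κ β := IsIntegral.of_finite _ β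
  -- β is primitive too
  have hσ : algebraMap R k t = algebraMap κ k (algebraMap R κ t) :=
    IsScalarTower.algebraMap_apply R κ k t
  have hσ0 : algebraMap R k t ≠ 0 := by
    rw [hσ]; exact (_root_.map_ne_zero _).mpr ht
  have hβtop : IntermediateField.adjoin κ {β} = ⊤ := by
    rw [eq_top_iff, ← hα, IntermediateField.adjoin_simple_le_iff]
    have h1 : α = (algebraMap κ k (algebraMap R κ t))⁻¹ * β := by
      rw [hβ, ← hσ, ← mul_assoc, inv_mul_cancel₀ hσ0, one_mul]
    rw [h1]
    exact mul_mem (inv_mem (IntermediateField.algebraMap_mem _ _))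
      (IntermediateField.mem_adjoin_simple_self κ β)
  -- the image of `G` is the minimal polynomial of `β`
  have hdegβ : (minpoly κ β).natDegree = (minpoly κ α).natDegree := by
    rw [← IntermediateField.adjoin.finrank hβint, ← IntermediateField.adjoin.finrank hαint,
      hβtop, hα]
  have hGβ : G.map (algebraMap R κ) = minpoly κ β := by
    apply Polynomial.eq_of_monic_of_dvd_of_natDegree_le (minpoly.monic hβint) (hGm.map _)
    · apply minpoly.dvd
      rw [aeval_map_algebraMap]; exact hroot
    · rw [hGm.natDegree_map, hdeg, hdegβ]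
  -- derivative is a unit at β
  have hsep : (minpoly κ β).Separable := Algebra.IsSeparable.isSeparable κ β
  have hder : aeval β (derivative G) ≠ 0 := by
    have h1 := hsep.aeval_derivative_ne_zero (minpoly.aeval κ β)
    rw [← hGβ, derivative_map, aeval_map_algebraMap] at h1
    exact h1
  let P : StandardEtalePair R := ⟨G, hGm, derivative G, ⟨1, 0, 1, by simp⟩⟩
  have hmap : P.HasMap β := ⟨hroot, isUnit_iff_ne_zero.mpr hder⟩
  refine ⟨P.Ring, inferInstance, inferInstance, inferInstance, P.lift β hmap, P.X, ?_⟩
  rw [P.lift_X]; exact hβtop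


open AlgebraicGeometry CategoryTheory Limits in
/-- Let S be a scheme, s a point of S and k a finite separable field extension of the residue field
κ(s). Then there is an étale neighbourhood (U, u) ⟶ (S, s) whose residue field extension κ(u)/κ(s)
is isomorphic to k/κ(s). -/
theorem result (S : Scheme.{u}) (s : S) (k : Type u) [Field k]
    [Algebra (S.residueField s) k] [FiniteDimensional (S.residueField s) k] [Algebra.IsSeparable (S.residueField s) k] :
    ∃ (U : Scheme.{u}) (g : U ⟶ S) (u : U) (hu : g u = s), Etale g ∧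
      letI := ((S.residueFieldCongr hu).inv ≫ g.residueFieldMap u).hom.toAlgebra
      Nonempty (k ≃ₐ[S.residueField s] U.residueField u) := by
  classical
  obtain ⟨V, hV, hsV⟩ : ∃ V : S.Opens, IsAffineOpen V ∧ s ∈ V := by
    obtain ⟨_, ⟨V, hV, rfl⟩, hsV, -⟩ :=
      S.isBasis_affineOpens.exists_subset_of_mem_open (Set.mem_univ s) isOpen_univ
    exact ⟨V, hV, hsV⟩
  let ev : Γ(S, V) ⟶ S.residueField s := S.evaluation V s hsV
  letI algRκ : Algebra Γ(S, V) (S.residueField s) := ev.hom.toAlgebra
  letI algRk : Algebra Γ(S, V) k := ((algebraMap (S.residueField s) k).comp ev.hom).toAlgebra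
  haveI : IsScalarTower Γ(S, V) (S.residueField s) k := IsScalarTower.of_algebraMap_eq (fun _ => rfl)
  have hfrac : ∀ c : S.residueField s, ∃ a t : Γ(S, V),
      algebraMap Γ(S, V) (S.residueField s) t ≠ 0 ∧
      c * algebraMap Γ(S, V) (S.residueField s) t = algebraMap Γ(S, V) (S.residueField s) a := by
    intro c
    obtain ⟨z, rfl⟩ := S.residue_surjective s c
    letI : Algebra Γ(S, V) (S.presheaf.stalk s) :=
      TopCat.Presheaf.algebra_section_stalk S.presheaf ⟨s, hsV⟩
    haveI := hV.isLocalization_stalk ⟨s, hsV⟩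
    obtain ⟨⟨a, t⟩, hat⟩ := IsLocalization.surj (hV.primeIdealOf ⟨s, hsV⟩).asIdeal.primeCompl z
    refine ⟨a, t, ?_, ?_⟩
    · have hu : IsUnit (algebraMap Γ(S, V) (S.presheaf.stalk s) t) :=
        IsLocalization.map_units _ t
      have : IsUnit ((S.residue s).hom (algebraMap Γ(S, V) (S.presheaf.stalk s) t)) := hu.map _
      exact this.ne_zero
    · have := congrArg (S.residue s).hom hat
      rw [map_mul] at this
      exact this
  obtain ⟨S', _, _, hét, ψ, ρ, hρ⟩ :=
    alg_core (R := Γ(S, V)) (κ := S.residueField s) (k := k) hfrac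
  let φ : Γ(S, V) ⟶ CommRingCat.of S' := CommRingCat.ofHom (algebraMap Γ(S, V) S')
  let g : Spec (.of S') ⟶ S := Spec.map φ ≫ hV.fromSpec
  let ψc : CommRingCat.of S' ⟶ CommRingCat.of k := CommRingCat.ofHom ψ.toRingHom
  let x : Spec (.of k) ⟶ Spec (.of S') := Spec.map ψc
  have hét' : Etale g := by
    haveI : Etale (Spec.map φ) :=
      (HasRingHomProperty.Spec_iff (P := @Etale)).mpr (RingHom.etale_algebraMap.mpr hét)
    infer_instance
  have key : x ≫ g = Spec.map (CommRingCat.ofHom (algebraMap (S.residueField s) k)) ≫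
      S.fromSpecResidueField s := by
    have h1 : S.fromSpecResidueField s = Spec.map ev ≫ hV.fromSpec := by
      rw [Scheme.fromSpecResidueField, ← hV.fromSpecStalk_eq_fromSpecStalk hsV,
        IsAffineOpen.fromSpecStalk, ← Category.assoc, ← Spec.map_comp]
      rfl
    rw [h1]
    change Spec.map ψc ≫ Spec.map φ ≫ hV.fromSpec = _
    rw [← Category.assoc, ← Spec.map_comp, ← Category.assoc, ← Spec.map_comp]
    congr 2
    ext r
    exact ψ.commutes r
  have hE := congrArg (Scheme.SpecToEquivOfField k S) key
  have hR : Scheme.SpecToEquivOfField k S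
      (Spec.map (CommRingCat.ofHom (algebraMap (S.residueField s) k)) ≫
        S.fromSpecResidueField s) = ⟨s, CommRingCat.ofHom (algebraMap (S.residueField s) k)⟩ :=
    (Scheme.SpecToEquivOfField k S).apply_symm_apply
      ⟨s, CommRingCat.ofHom (algebraMap (S.residueField s) k)⟩
  rw [hR, Scheme.SpecToEquivOfField_eq_iff] at hE
  obtain ⟨e, he⟩ := hE
  let u : Spec (.of S') := x (IsLocalRing.closedPoint k)
  let θ : (Spec (.of S')).residueField u ⟶ .of k :=
    Scheme.descResidueField (Scheme.stalkClosedPointTo x)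
  have hu : g u = s := e
  have he' : g.residueFieldMap u ≫ θ =
      (S.residueFieldCongr hu).hom ≫ CommRingCat.ofHom (algebraMap (S.residueField s) k) := by
    exact (Scheme.descResidueField_stalkClosedPointTo_comp g x).symm.trans he
  refine ⟨Spec (.of S'), g, u, hu, hét', ?_⟩
  letI algκu : Algebra (S.residueField s) ((Spec (.of S')).residueField u) :=
    ((S.residueFieldCongr hu).inv ≫ g.residueFieldMap u).hom.toAlgebra
  have hcomm : ∀ c : S.residueField s,
      θ.hom (algebraMap (S.residueField s) ((Spec (.of S')).residueField u) c) =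
        algebraMap (S.residueField s) k c := by
    intro c
    have h6 : (S.residueFieldCongr hu).hom.hom ((S.residueFieldCongr hu).inv.hom c) = c := by
      have := congrArg (fun f => f.hom c) (S.residueFieldCongr hu).inv_hom_id
      exact this
    calc θ.hom (algebraMap (S.residueField s) ((Spec (.of S')).residueField u) c)
        = (g.residueFieldMap u ≫ θ).hom ((S.residueFieldCongr hu).inv.hom c) := rfl
      _ = ((S.residueFieldCongr hu).hom ≫
            CommRingCat.ofHom (algebraMap (S.residueField s) k)).hom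
              ((S.residueFieldCongr hu).inv.hom c) := by rw [he']
      _ = algebraMap (S.residueField s) k
            ((S.residueFieldCongr hu).hom.hom ((S.residueFieldCongr hu).inv.hom c)) := rfl
      _ = algebraMap (S.residueField s) k c := by rw [h6]
  let θa : (Spec (.of S')).residueField u →ₐ[S.residueField s] k :=
    { θ.hom with commutes' := hcomm }
  have hρmem : ψ ρ ∈ θa.fieldRange := by
    have h3 : (Spec (.of S')).presheaf.germ ⊤ u trivial ≫ (Spec (.of S')).residue u ≫ θ =
        (Scheme.ΓSpecIso (.of S')).hom ≫ ψc := by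
      rw [Scheme.residue_descResidueField]
      exact Scheme.germ_stalkClosedPointTo_Spec ψc
    have h7 : (Scheme.ΓSpecIso (.of S')).hom.hom ((Scheme.ΓSpecIso (.of S')).inv.hom ρ) = ρ := by
      have := congrArg (fun f => f.hom ρ) (Scheme.ΓSpecIso (.of S')).inv_hom_id
      exact this
    refine ⟨(Spec (.of S')).residue u ((Spec (.of S')).presheaf.germ ⊤ u trivial
      ((Scheme.ΓSpecIso (.of S')).inv.hom ρ)), ?_⟩
    calc θ.hom ((Spec (.of S')).residue u ((Spec (.of S')).presheaf.germ ⊤ u trivial
          ((Scheme.ΓSpecIso (.of S')).inv.hom ρ)))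
        = ((Spec (.of S')).presheaf.germ ⊤ u trivial ≫ (Spec (.of S')).residue u ≫ θ).hom
            ((Scheme.ΓSpecIso (.of S')).inv.hom ρ) := rfl
      _ = ((Scheme.ΓSpecIso (.of S')).hom ≫ ψc).hom ((Scheme.ΓSpecIso (.of S')).inv.hom ρ) := by
          rw [h3]
      _ = ψ ((Scheme.ΓSpecIso (.of S')).hom.hom ((Scheme.ΓSpecIso (.of S')).inv.hom ρ)) := rfl
      _ = ψ ρ := by rw [h7]
  have hsurj : Function.Surjective θa := by
    have h6 : θa.fieldRange = ⊤ := by
      rw [eq_top_iff, ← hρ, IntermediateField.adjoin_simple_le_iff]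
      exact hρmem
    intro y
    have : y ∈ θa.fieldRange := by rw [h6]; trivial
    exact this
  exact ⟨(AlgEquiv.ofBijective θa ⟨θa.toRingHom.injective, hsurj⟩).symm⟩

end Groth.Agent.S9734
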