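import Groth.Statements.S9738
import Groth.Agent.H76.InfFlat

set_option autoImplicit false
universe u
open FlatMor

namespace Groth.Agent.S9738

open AlgebraicGeometry CategoryTheory Limits in
/-- For a morphism f : X ⟶ S between locally Noetherian schemes, an ideal sheaf I on S with closed
subscheme Z, and Z_n the closed subscheme cut out by I^(n+1): if each base change X ×_S Z_n ⟶ Z_n is
flat, then f is flat at each point of X lying over Z. -/
theorem result {X S : Scheme.{u}} (f : X ⟶ S) [IsLocallyNoetherian X] [IsLocallyNoetherian S]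
    (I : S.IdealSheafData) (h : ∀ n : ℕ, Flat (pullback.snd f (I ^ (n + 1)).subschemeι)) (x : X) (hx : f x ∈ I.support) :
    (f.stalkMap x).hom.Flat := by
  classical
  obtain ⟨_, ⟨V, hV, rfl⟩, hxV, -⟩ :=
    S.isBasis_affineOpens.exists_subset_of_mem_open (Set.mem_univ (f x)) isOpen_univ
  obtain ⟨_, ⟨U, hU, rfl⟩, hxU, hUV⟩ :=
    X.isBasis_affineOpens.exists_subset_of_mem_open hxV (V.2.preimage f.continuous)
  have hUV' : U ≤ f ⁻¹ᵁ V := hUV
  rw [RingHom.Flat.respectsIso.arrow_mk_iso_iff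
    (IsAffineOpen.arrowStalkMapIso f V hV U hU hUV' hxU)]
  have hpq : (hV.primeIdealOf ⟨f x, hUV' hxU⟩).asIdeal =
      (hU.primeIdealOf ⟨x, hxU⟩).asIdeal.comap (f.appLE V U hUV').hom :=
    congr($(IsAffineOpen.comap_primeIdealOf_appLE V hV U hU hUV' hxU).1).symm
  have hNA : IsNoetherianRing Γ(S, V) := IsLocallyNoetherian.component_noetherian ⟨V, hV⟩
  have hNC : IsNoetherianRing Γ(X, U) := IsLocallyNoetherian.component_noetherian ⟨U, hU⟩
  algebraize [(f.appLE V U hUV').hom,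
    Localization.localRingHom (hV.primeIdealOf ⟨f x, hUV' hxU⟩).asIdeal
      (hU.primeIdealOf ⟨x, hxU⟩).asIdeal (f.appLE V U hUV').hom hpq]
  have : IsScalarTower Γ(S, V) (Localization.AtPrime (hV.primeIdealOf ⟨f x, hUV' hxU⟩).asIdeal)
      (Localization.AtPrime (hU.primeIdealOf ⟨x, hxU⟩).asIdeal) :=
    .of_algebraMap_eq fun a => (Localization.localRingHom_to_map _ _ _ hpq a).symm
  show Module.Flat (Localization.AtPrime (hV.primeIdealOf ⟨f x, hUV' hxU⟩).asIdeal)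
      (Localization.AtPrime (hU.primeIdealOf ⟨x, hxU⟩).asIdeal)
  rw [Module.flat_iff_of_isLocalization
    (S := Localization.AtPrime (hV.primeIdealOf ⟨f x, hUV' hxU⟩).asIdeal)
    (p := (hV.primeIdealOf ⟨f x, hUV' hxU⟩).asIdeal.primeCompl)]
  letI algQ : ∀ n : ℕ, Algebra Γ(S, V)
      Γ((I ^ (n + 1)).subscheme, (I ^ (n + 1)).subschemeι ⁻¹ᵁ V) := fun n =>
    ((I ^ (n + 1)).subschemeι.appLE V ((I ^ (n + 1)).subschemeι ⁻¹ᵁ V) le_rfl).hom.toAlgebra
  have happ : ∀ n : ℕ, (algebraMap Γ(S, V)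
      Γ((I ^ (n + 1)).subscheme, (I ^ (n + 1)).subschemeι ⁻¹ᵁ V)) =
      ((I ^ (n + 1)).subschemeι.app V).hom := by
    intro n
    show ((I ^ (n + 1)).subschemeι.appLE V ((I ^ (n + 1)).subschemeι ⁻¹ᵁ V) le_rfl).hom = _
    rw [Scheme.Hom.app_eq_appLE]
  apply Groth.Agent.H76.LocalCritPow.flat_localization_of_flat_quotients
    (J := I.ideal ⟨V, hV⟩) (q := (hU.primeIdealOf ⟨x, hxU⟩).asIdeal) ?_
    (fun n => Γ((I ^ (n + 1)).subscheme, (I ^ (n + 1)).subschemeι ⁻¹ᵁ V))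
  · intro n
    rw [happ n]
    exact (I ^ (n + 1)).subschemeι_app_surjective ⟨V, hV⟩
  · intro n
    rw [happ n, (I ^ (n + 1)).ker_subschemeι_app ⟨V, hV⟩]
    exact le_of_eq rfl
  · intro n
    have := h n
    exact Groth.Agent.H76.InfFlat.flat_tensor_of_flat_snd f ((I ^ (n + 1)).subschemeι) V hV U hU hUV'
  · rw [Ideal.map_le_iff_le_comap]
    show I.ideal ⟨V, hV⟩ ≤ (hU.primeIdealOf ⟨x, hxU⟩).asIdeal.comap (f.appLE V U hUV').hom
    rw [← hpq]
    intro a ha
    by_contra hna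
    have hz : f x ∈ S.zeroLocus (U := V) (I.ideal ⟨V, hV⟩) :=
      (Scheme.IdealSheafData.mem_support_iff_of_mem (U := ⟨V, hV⟩) hxV).mp hx
    rw [Scheme.mem_zeroLocus_iff] at hz
    apply hz a ha
    have h1 : hV.primeIdealOf ⟨f x, hUV' hxU⟩ ∈ PrimeSpectrum.basicOpen a :=
      (PrimeSpectrum.mem_basicOpen _ _).mpr hna
    rw [← hV.fromSpec_preimage_basicOpen a] at h1
    have h2 : hV.fromSpec (hV.primeIdealOf ⟨f x, hUV' hxU⟩) ∈ S.basicOpen a := h1
    rwa [hV.fromSpec_primeIdealOf] at h2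

end Groth.Agent.S9738
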