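import Groth.Statements.S9740
-- import your own Groth.Agent.* helpers here
import Groth.Agent.Lib.Helper51.Thickening

set_option autoImplicit false
universe u
open OmegaSh

namespace Groth.Agent.S9740

open AlgebraicGeometry CategoryTheory Limits in
/-- Let h : Z ⟶ X be formally unramified with universal first order thickening (i : Z ⟶ Z', h' : Z' ⟶
X), let V ⊆ Z and U ⊆ X be opens with h(V) ⊆ U, and let V' ⊆ Z' be the open with i⁻¹(V') = V (so
h'(V') ⊆ U). Then the restricted pair (V ⟶ V', V' ⟶ U) is a universal first-order thickening for the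
restriction V ⟶ U of h. The published statement also asserts that this restriction is formally
unramified and that the conormal sheaf of Z over X restricts on V to that of V over U; this row
states only the thickening part. -/
theorem result {Z Z' X : Scheme.{u}} (h : Z ⟶ X) [FormallyUnramified h] (i : Z ⟶ Z') (h' : Z' ⟶ X)
    (hu : OmegaSh.IsUnivThickening h i h') (V : Z.Opens) (U : X.Opens) (hVU : V ≤ h ⁻¹ᵁ U)
    (V' : Z'.Opens) (hV' : i ⁻¹ᵁ V' = V) (hV'U : V' ≤ h' ⁻¹ᵁ U) :
    OmegaSh.IsUnivThickening (h.resLE U V hVU) (i.resLE V' V hV'.ge) (h'.resLE U V' hV'U) := by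
  obtain ⟨h1, h2, h3⟩ := hu
  have hthick := h1.1
  have : IsClosedImmersion i := hthick.1
  have hsurj : Surjective i := hthick.2
  refine ⟨?_, ?_, ?_⟩
  · have hpb : IsPullback (i.resLE V' V hV'.ge) V.ι V'.ι i := by
      apply IsOpenImmersion.isPullback
      · rw [Scheme.Hom.resLE_comp_ι]
      · rw [Scheme.Opens.opensRange_ι, Scheme.Opens.opensRange_ι, hV']
    exact Groth.Agent.Lib.Helper51.isFirstOrderThickening_of_isPullback hpb h1
  · rw [← cancel_mono U.ι]
    simp only [Category.assoc, Scheme.Hom.resLE_comp_ι, Scheme.Hom.resLE_comp_ι_assoc, h2]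
  · intro T T' jT b a hjT hcomm
    have hcomm' : jT ≫ (b ≫ U.ι) = (a ≫ V.ι) ≫ h := by
      rw [← Category.assoc, hcomm, Category.assoc, Scheme.Hom.resLE_comp_ι, Category.assoc]
    obtain ⟨c, ⟨hc1, hc2⟩, hcu⟩ := h3 T T' jT (b ≫ U.ι) (a ≫ V.ι) hjT hcomm'
    have hjTs : Surjective jT := hjT.1.2
    have hrange : Set.range c ⊆ Set.range V'.ι := by
      rintro _ ⟨t', rfl⟩
      obtain ⟨t, rfl⟩ := jT.surjective t'
      rw [Scheme.Opens.range_ι]
      have e : c (jT t) = i (V.ι (a t)) := by
        rw [← Scheme.Hom.comp_apply, hc1]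
        rfl
      rw [e]
      have hmem : V.ι (a t) ∈ i ⁻¹ᵁ V' := by
        rw [hV']
        exact (a t).2
      exact hmem
    refine ⟨IsOpenImmersion.lift V'.ι c hrange, ⟨?_, ?_⟩, ?_⟩
    · rw [← cancel_mono V'.ι]
      simp only [Category.assoc, IsOpenImmersion.lift_fac, Scheme.Hom.resLE_comp_ι, hc1]
    · rw [← cancel_mono U.ι]
      simp only [Category.assoc, Scheme.Hom.resLE_comp_ι, IsOpenImmersion.lift_fac_assoc, hc2]
    · rintro a'' ⟨ha1, ha2⟩
      rw [← cancel_mono V'.ι, IsOpenImmersion.lift_fac]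
      apply hcu
      refine ⟨?_, ?_⟩
      · rw [← Category.assoc, ha1, Category.assoc, Scheme.Hom.resLE_comp_ι, Category.assoc]
      · rw [Category.assoc, ← Scheme.Hom.resLE_comp_ι h' hV'U, ← Category.assoc, ha2]

end Groth.Agent.S9740
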