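import Groth.Statements.S9741
-- import your own Groth.Agent.* helpers here
import Groth.Agent.Lib.Helper51.Thickening

set_option autoImplicit false
universe u
open OmegaSh

namespace Groth.Agent.S9741

open AlgebraicGeometry CategoryTheory Limits in
/-- Let a : Z ⟶ Y and b : Y ⟶ X be formally unramified, let (i : Z ⟶ Z', c : Z' ⟶ X) be universal among
first order thickenings of Z relative to X (for a ≫ b), and (j : Y ⟶ Y', d : Y' ⟶ X) likewise for Y
relative to X (for b). Then there is a morphism of thickenings m : Z' ⟶ Y' over X (i ≫ m = a ≫ j and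
m ≫ d = c) such that Z ⟶ Y ×_{Y'} Z' (components a and i), together with the projection to Y, is
universal among first order thickenings of Z relative to Y (for a). The published statement also
asserts an exact sequence of conormal sheaves; this row states only the thickening assertion. -/
theorem result {Z Y X Z' Y' : Scheme.{u}} (a : Z ⟶ Y) (b : Y ⟶ X)
    [FormallyUnramified a] [FormallyUnramified b] (i : Z ⟶ Z') (c : Z' ⟶ X) (hZ : OmegaSh.IsUnivThickening (a ≫ b) i c)
    (j : Y ⟶ Y') (d : Y' ⟶ X) (hY : OmegaSh.IsUnivThickening b j d) :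
    ∃ (m : Z' ⟶ Y') (hm : i ≫ m = a ≫ j), m ≫ d = c ∧
      OmegaSh.IsUnivThickening a (pullback.lift a i hm.symm) (pullback.fst j m) := by
  obtain ⟨hZ1, hZ2, hZ3⟩ := hZ
  obtain ⟨hY1, hY2, hY3⟩ := hY
  have : IsClosedImmersion j := hY1.1.1
  obtain ⟨m, ⟨hm1, hm2⟩, -⟩ := hY3 Z Z' i c a hZ1 hZ2
  refine ⟨m, hm1, hm2, ?_⟩
  have hfst : pullback.lift a i hm1.symm ≫ pullback.fst j m = a := pullback.lift_fst _ _ _
  have hsnd : pullback.lift a i hm1.symm ≫ pullback.snd j m = i := pullback.lift_snd _ _ _
  refine ⟨?_, hfst, ?_⟩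
  · have hpb : IsPullback (pullback.lift a i hm1.symm) (𝟙 Z) (pullback.snd j m) i :=
      IsPullback.of_vert_isIso_mono ⟨by rw [hsnd, Category.id_comp]⟩
    exact Groth.Agent.Lib.Helper51.isFirstOrderThickening_of_isPullback hpb hZ1
  · intro T T' jT β α hjT hcomm
    have hcommZ : jT ≫ (β ≫ b) = α ≫ (a ≫ b) := by
      rw [← Category.assoc, hcomm, Category.assoc]
    obtain ⟨γ, ⟨hγ1, hγ2⟩, hγu⟩ := hZ3 T T' jT (β ≫ b) α hjT hcommZ
    have hcommY : jT ≫ (β ≫ b) = (α ≫ a) ≫ b := by
      rw [hcommZ, Category.assoc]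
    obtain ⟨δ, -, hδu⟩ := hY3 T T' jT (β ≫ b) (α ≫ a) hjT hcommY
    have e1 : γ ≫ m = δ := by
      apply hδu
      refine ⟨?_, ?_⟩
      · rw [← Category.assoc, hγ1, Category.assoc, hm1, Category.assoc]
      · rw [Category.assoc, hm2, hγ2]
    have e2 : β ≫ j = δ := by
      apply hδu
      refine ⟨?_, ?_⟩
      · rw [← Category.assoc, hcomm, Category.assoc]
      · rw [Category.assoc, hY2]
    have e : β ≫ j = γ ≫ m := e2.trans e1.symm
    refine ⟨pullback.lift β γ e, ⟨?_, pullback.lift_fst _ _ _⟩, ?_⟩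
    · apply pullback.hom_ext
      · rw [Category.assoc, pullback.lift_fst, Category.assoc, hfst, hcomm]
      · rw [Category.assoc, pullback.lift_snd, Category.assoc, hsnd, hγ1]
    · rintro α'' ⟨h1, h2⟩
      have : α'' ≫ pullback.snd j m = γ := by
        apply hγu
        refine ⟨?_, ?_⟩
        · rw [← Category.assoc, h1, Category.assoc, hsnd]
        · rw [← hm2, Category.assoc, ← pullback.condition_assoc, hY2, ← Category.assoc, h2]
      apply pullback.hom_ext
      · rw [h2, pullback.lift_fst]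
      · rw [this, pullback.lift_snd]

end Groth.Agent.S9741
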