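import Groth.Statements.S9746
-- import your own Groth.Agent.* helpers here
import Groth.Agent.Lib.Helper51.RelFPSch

set_option autoImplicit false
universe u
open Flatn

namespace Groth.Agent.S9746

open AlgebraicGeometry CategoryTheory Limits in
/-- Let f : X ⟶ Y be locally of finite type, g : Y ⟶ S locally of finite presentation, and F a
quasi-coherent O_X-module that is finitely presented relative to Y. Then F, viewed over S through
the composite f ≫ g, is finitely presented relative to S. -/
theorem result {X Y S : Scheme.{u}} (f : X ⟶ Y) (g : Y ⟶ S) [LocallyOfFiniteType f] [LocallyOfFinitePresentation g]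
    (F : X.Modules) [Coh.IsQCoh F] (hF : Flatn.IsRelFP f F) : Flatn.IsRelFP (f ≫ g) F := by
  open Groth.Agent.Lib.Helper51.RelFPSch in
  rw [isRelFP_iff]
  intro U W hUW
  apply relFPOn_of_forall_exists
  intro x hx
  have hfx : f x ∈ g ⁻¹ᵁ (W : S.Opens) := by
    have := hUW hx
    simpa using this
  obtain ⟨V', hV'aff, hfxV', hV'le⟩ :=
    (TopologicalSpace.Opens.isBasis_iff_nbhd.mp Y.isBasis_affineOpens) hfx
  obtain ⟨a, haV', hxa⟩ := U.2.exists_basicOpen_le (V := f ⁻¹ᵁ V') ⟨x, hfxV'⟩ hx
  refine ⟨a, hxa, ?_⟩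
  have h1 := relFPOn_of_isRelFP f F hF (X.affineBasicOpen a) ⟨V', hV'aff⟩ haV'
  have hfp := HasRingHomProperty.appLE (P := @LocallyOfFinitePresentation) g inferInstance W
    ⟨V', hV'aff⟩ hV'le
  exact (relFPOn_comp_iff f g F (X.affineBasicOpen a) ⟨V', hV'aff⟩ W haV' hV'le _ hfp).mp h1

end Groth.Agent.S9746
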