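import Groth.Statements.S9749
-- import your own Groth.Agent.* helpers here

set_option autoImplicit false
universe u
open Flatn

namespace Groth.Agent.S9749

open AlgebraicGeometry CategoryTheory Limits in
/-- For f : X ⟶ S locally of finite type and quasi-coherent O_X-modules F, F', relative finite
presentation over S of the biproduct F ⊞ F' implies the same property for each summand. -/
theorem result {X S : Scheme.{u}} (f : X ⟶ S) [LocallyOfFiniteType f] (F F' : X.Modules) [Coh.IsQCoh F] [Coh.IsQCoh F']
    (h : Flatn.IsRelFP f (F ⊞ F')) : Flatn.IsRelFP f F ∧ Flatn.IsRelFP f F' := by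
  -- retract of a finitely presented module is finitely presented
  have retract : ∀ {R : Type u} [CommRing R] {M N : Type u} [AddCommGroup M] [AddCommGroup N]
      [Module R M] [Module R N] (i : N →ₗ[R] M) (p : M →ₗ[R] N) (_ : p ∘ₗ i = LinearMap.id)
      [Module.FinitePresentation R M], Module.FinitePresentation R N := by
    intro R _ M N _ _ _ _ i p hpi _
    have hsurj : Function.Surjective p := fun n ↦ ⟨i n, congr($hpi n)⟩
    refine Module.finitePresentation_of_surjective p hsurj ?_
    have : LinearMap.ker p = LinearMap.range (LinearMap.id - i ∘ₗ p) := by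
      ext m
      simp only [LinearMap.mem_ker, LinearMap.mem_range, LinearMap.sub_apply, LinearMap.id_apply,
        LinearMap.comp_apply]
      constructor
      · intro hm
        exact ⟨m, by rw [hm, map_zero, sub_zero]⟩
      · rintro ⟨y, rfl⟩
        have := congr($hpi (p y))
        simp only [LinearMap.comp_apply, LinearMap.id_apply] at this
        rw [map_sub, this, sub_self]
    rw [this]
    exact Submodule.fg_range _
  -- the key local statement
  have key : ∀ (G H : X.Modules) (i : G ⟶ H) (p : H ⟶ G) (_ : i ≫ p = 𝟙 G)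
      (U : X.affineOpens) (V : S.affineOpens) (hUV : (U : X.Opens) ≤ f ⁻¹ᵁ (V : S.Opens)),
      Flatn.RelFPOn f H U V hUV → Flatn.RelFPOn f G U V hUV := by
    intro G H i p hip U V hUV hH
    unfold Flatn.RelFPOn at hH ⊢
    letI alg : Algebra Γ(S, (V : S.Opens)) Γ(X, (U : X.Opens)) :=
      (f.appLE (V : S.Opens) (U : X.Opens) hUV).hom.toAlgebra
    obtain ⟨n, φ, hφ, hfp⟩ := hH
    refine ⟨n, φ, hφ, ?_⟩
    letI mH : Module (MvPolynomial (Fin n) Γ(S, (V : S.Opens)))
        (H.val.obj (Opposite.op (U : X.Opens))) := Module.compHom _ φ.toRingHom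
    letI mG : Module (MvPolynomial (Fin n) Γ(S, (V : S.Opens)))
        (G.val.obj (Opposite.op (U : X.Opens))) := Module.compHom _ φ.toRingHom
    let il := (i.val.app (Opposite.op (U : X.Opens))).hom
    let pl := (p.val.app (Opposite.op (U : X.Opens))).hom
    have hpl : ∀ x, pl (il x) = x := by
      intro x
      have := congr((($hip).val.app (Opposite.op (U : X.Opens))).hom x)
      exact this
    let iP : (G.val.obj (Opposite.op (U : X.Opens))) →ₗ[MvPolynomial (Fin n) Γ(S, (V : S.Opens))]
        (H.val.obj (Opposite.op (U : X.Opens))) :=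
      { toFun := il
        map_add' := il.map_add
        map_smul' := fun r x ↦ by
          change il (φ r • x) = φ r • il x
          exact il.map_smul (φ r) x }
    let pP : (H.val.obj (Opposite.op (U : X.Opens))) →ₗ[MvPolynomial (Fin n) Γ(S, (V : S.Opens))]
        (G.val.obj (Opposite.op (U : X.Opens))) :=
      { toFun := pl
        map_add' := pl.map_add
        map_smul' := fun r x ↦ by
          change pl (φ r • x) = φ r • pl x
          exact pl.map_smul (φ r) x }
    have hfp' : Module.FinitePresentation (MvPolynomial (Fin n) Γ(S, (V : S.Opens)))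
      (H.val.obj (Opposite.op (U : X.Opens))) := hfp
    exact retract iP pP (LinearMap.ext hpl)
  have main : ∀ (G H : X.Modules) (i : G ⟶ H) (p : H ⟶ G) (_ : i ≫ p = 𝟙 G),
      Flatn.IsRelFP f H → Flatn.IsRelFP f G := by
    intro G H i p hip ⟨𝒱, h𝒱, hV⟩
    refine ⟨𝒱, h𝒱, fun V hVmem ↦ ?_⟩
    obtain ⟨𝒰, h𝒰, hU⟩ := hV V hVmem
    exact ⟨𝒰, h𝒰, fun U hUmem hUV ↦ key G H i p hip U V hUV (hU U hUmem hUV)⟩
  exact ⟨main F (F ⊞ F') biprod.inl biprod.fst biprod.inl_fst h,
    main F' (F ⊞ F') biprod.inr biprod.snd biprod.inr_snd h⟩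

end Groth.Agent.S9749
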