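import Groth.Statements.S9750
import Groth.Agent.Lib.Helper7.ConormalIso
import Groth.Agent.Lib.Helper7.FormallyEtaleLift
import Groth.Agent.Lib.Helper51.ThickeningSpec

set_option autoImplicit false
universe u
open FlatMor

namespace Groth.Agent.S9750

open AlgebraicGeometry CategoryTheory Limits in
/-- (1) ⇔ (2) ⇔ (3): a morphism f : X ⟶ S is formally étale (unique infinitesimal lifting against
square-zero thickenings of affine schemes) if and only if f is formally unramified and X, through
the identity and f, is its own universal square-zero (first order) thickening relative to f; and,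
for f formally unramified with universal first order thickening data (i : X ⟶ X', h' : X' ⟶ S), f is
formally étale if and only if the conormal sheaf of i (the conormal sheaf of f) is zero. The
published statement also lists a fourth equivalent condition, the vanishing of both the sheaf of
differentials and the conormal sheaf; this row omits it. -/
theorem result {X S : Scheme.{u}} (f : X ⟶ S) :
    (MoreMor.IsFormallyEtaleHom f ↔ FormallyUnramified f ∧ OmegaSh.IsUnivThickening f (𝟙 X) f) ∧
    (∀ {X' : Scheme.{u}} (i : X ⟶ X') (h' : X' ⟶ S) [QuasiCompact i], FormallyUnramified f →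
      OmegaSh.IsUnivThickening f i h' → (MoreMor.IsFormallyEtaleHom f ↔ IsZero (Omega.conormal i))) := by
  open AlgebraicGeometry CategoryTheory Limits in
  -- (1) ⇒ (2)
  have hA1 : MoreMor.IsFormallyEtaleHom f →
      FormallyUnramified f ∧ OmegaSh.IsUnivThickening f (𝟙 X) f := by
    intro hf
    have hRL := Groth.Agent.Lib.Helper7.ringLevel_of_isFormallyEtaleHom f hf
    refine ⟨?_, ?_, Category.id_comp f, ?_⟩
    · rw [HasRingHomProperty.iff_appLE (P := @FormallyUnramified)]
      intro U V e
      have h1 := hRL V.1 U.1 V.2 U.2 e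
      letI := (f.appLE U.1 V.1 e).hom.toAlgebra
      haveI : Algebra.FormallyEtale Γ(S, U.1) Γ(X, V.1) := h1
      show Algebra.FormallyUnramified Γ(S, U.1) Γ(X, V.1)
      infer_instance
    · refine ⟨⟨inferInstance, inferInstance⟩, ?_⟩
      rw [Scheme.Hom.ker_eq_bot_of_isIso]
      exact zero_mul (0 : X.IdealSheafData)
    · intro T T' j b a hj w
      obtain ⟨⟨h1, h2⟩, hsq⟩ := hj
      haveI := h1
      haveI := h2
      have h3 := Groth.Agent.Lib.Helper7.existsUnique_lift_of_ringLevel f j a b hRL hsq w
      simp only [Category.comp_id]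
      exact h3
  -- (2) ⇒ (1), in the general form: a universal thickening `(i, h')` with `i` an isomorphism
  have hA2 : ∀ {X' : Scheme.{u}} (i : X ⟶ X') (h' : X' ⟶ S), IsIso i →
      OmegaSh.IsUnivThickening f i h' → MoreMor.IsFormallyEtaleHom f := by
    intro X' i h' hiso hu
    obtain ⟨-, hih', huniv⟩ := hu
    intro A _ I hI a b w
    have hj : MoreMor.IsFirstOrderThickening
        (Spec.map (CommRingCat.ofHom (Ideal.Quotient.mk I))) :=
      Groth.Agent.Lib.Helper51.isFirstOrderThickening_SpecMap _ Ideal.Quotient.mk_surjective (by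
        rw [CommRingCat.hom_ofHom, Ideal.mk_ker]; exact hI)
    obtain ⟨a', ⟨ha'1, ha'2⟩, ha'u⟩ := huniv _ _ _ b a hj w
    refine ⟨a' ≫ inv i, ⟨?_, ?_⟩, ?_⟩
    · rw [← Category.assoc, ha'1, Category.assoc, IsIso.hom_inv_id, Category.comp_id]
    · rw [← hih', Category.assoc, IsIso.inv_hom_id_assoc, ha'2]
    · rintro l ⟨hl1, hl2⟩
      have := ha'u (l ≫ i) ⟨by rw [← Category.assoc, hl1], by
        rw [Category.assoc, hih', hl2]⟩
      rw [← this, Category.assoc, IsIso.hom_inv_id, Category.comp_id]
  refine ⟨⟨hA1, fun h => hA2 (𝟙 X) f inferInstance h.2⟩, ?_⟩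
  intro X' i h' _ hunr hu
  have hi := hu.1
  haveI : IsClosedImmersion i := hi.1.1
  constructor
  · intro hf
    -- `i` is an isomorphism
    obtain ⟨-, -, hself⟩ := (hA1 hf).2
    obtain ⟨r, ⟨hr1, hr2⟩, -⟩ := hself X X' i h' (𝟙 X) hi (by rw [hu.2.1, Category.id_comp])
    rw [Category.comp_id] at hr1
    obtain ⟨c, -, hcu⟩ := hu.2.2 X X' i h' (𝟙 X) hi (by rw [hu.2.1, Category.id_comp])
    have e1 : 𝟙 X' = c := hcu (𝟙 X') ⟨by rw [Category.comp_id, Category.id_comp],
      Category.id_comp h'⟩
    have e2 : r ≫ i = c := hcu (r ≫ i) ⟨by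
      rw [← Category.assoc, hr1], by rw [Category.assoc, hu.2.1, hr2]⟩
    haveI : IsIso i := ⟨r, hr1, by rw [e2, ← e1]⟩
    exact Groth.Agent.Lib.Helper7.ConormalIso.isZero_conormal_of_isIso i
  · intro hz
    exact hA2 i h' (Groth.Agent.Lib.Helper7.ConormalIso.isIso_of_isZero_conormal i hi.2 hz) hu

end Groth.Agent.S9750
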