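import Groth.Statements.S9756
import Groth.Agent.Lib.Helper22.FibSliceScheme
import Groth.Agent.Lib.Helper24.FibreStalkQuot
import Groth.Agent.Lib.Helper29.DepthFinite

set_option autoImplicit false
universe u
open FlatMor

namespace Groth.Agent.S9756

open AlgebraicGeometry CategoryTheory Limits in
/-- Let f : X ⟶ S be locally of finite presentation and flat at a point x, and assume the local ring of
the fibre X_{f x} at x has depth at least 1. Then there are an affine open U ∋ x and a
nonzerodivisor h' of Γ(X, U) vanishing at x such that the closed subscheme V(h') of U, an effective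
Cartier divisor through x, is flat and locally of finite presentation over S. The published
statement concludes that V(h') ⟶ S is of finite presentation; this row concludes only that it is
flat and locally of finite presentation, which is what the published argument (slicing by a lift of
a fibrewise nonzerodivisor) yields, and which is equivalent when S is quasi-separated, V(h') being
affine. -/
theorem result {X S : Scheme.{u}} (f : X ⟶ S) [LocallyOfFinitePresentation f] (x : X)
    (hflat : (f.stalkMap x).hom.Flat)
    (hdepth : 1 ≤ LocCoh.depth ↑((f.fiber (f x)).presheaf.stalk (f.asFiber x)) ↑((f.fiber (f x)).presheaf.stalk (f.asFiber x))) :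
    ∃ (U : X.Opens) (hU : IsAffineOpen U) (hx : x ∈ U) (h' : Γ(X, U)), h' ∈ nonZeroDivisors Γ(X, U) ∧
      X.presheaf.germ U x hx h' ∈ IsLocalRing.maximalIdeal ↑(X.presheaf.stalk x) ∧
      Flat (Spec.map (CommRingCat.ofHom (Ideal.Quotient.mk (Ideal.span {h'}))) ≫ hU.fromSpec ≫ f) ∧
      LocallyOfFinitePresentation (Spec.map (CommRingCat.ofHom (Ideal.Quotient.mk (Ideal.span {h'}))) ≫ hU.fromSpec ≫ f) := by
  classical
  -- a regular element in the maximal ideal of the fibre local ring
  obtain ⟨hb, hbm, hbreg⟩ : ∃ b ∈ IsLocalRing.maximalIdeal ↑((f.fiber (f x)).presheaf.stalk (f.asFiber x)),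
      IsSMulRegular ↑((f.fiber (f x)).presheaf.stalk (f.asFiber x)) b := by
    by_contra hcon
    have h0 := Groth.Agent.Lib.Helper29.depth_eq_zero_of_forall_not_isSMulRegular
      ↑((f.fiber (f x)).presheaf.stalk (f.asFiber x)) ↑((f.fiber (f x)).presheaf.stalk (f.asFiber x))
      (fun b hb hreg => hcon ⟨b, hb, hreg⟩)
    rw [h0] at hdepth
    exact absurd hdepth (by norm_num)
  obtain ⟨e1⟩ := Groth.Agent.Lib.Helper24.nonempty_fibre_stalk_ringEquiv_quotient f x
  obtain ⟨h, hh⟩ := Ideal.Quotient.mk_surjective (e1 hb)
  have hreg : Ideal.Quotient.mk (Ideal.map (f.stalkMap x).hom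
      (IsLocalRing.maximalIdeal (S.presheaf.stalk (f x)))) h ∈
      nonZeroDivisors (X.presheaf.stalk x ⧸ Ideal.map (f.stalkMap x).hom
        (IsLocalRing.maximalIdeal (S.presheaf.stalk (f x)))) := by
    rw [hh, mem_nonZeroDivisors_iff_right]
    intro z hz
    obtain ⟨w, rfl⟩ := e1.surjective z
    rw [← map_mul, map_eq_zero_iff e1 e1.injective] at hz
    have : w = 0 := by
      apply hbreg
      simp only [smul_eq_mul, mul_zero]
      rw [mul_comm]
      exact hz
    rw [this, map_zero]
  obtain ⟨U, hU, hx, h', hgerm, hnzd, hflat', hlfp⟩ :=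
    Groth.Agent.Lib.Helper22.FibSliceScheme.slice_one f x hflat h hreg
  refine ⟨U, hU, hx, h', hnzd, ?_, hflat', hlfp⟩
  rw [hgerm, IsLocalRing.mem_maximalIdeal, mem_nonunits_iff]
  intro hu
  have hu' : IsUnit (e1 hb) := by
    rw [← hh]
    exact hu.map _
  have hu'' : IsUnit hb := by
    have := hu'.map e1.symm
    rwa [RingEquiv.symm_apply_apply] at this
  exact (IsLocalRing.mem_maximalIdeal _).mp hbm hu''

end Groth.Agent.S9756
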