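import Groth.Statements.S9770
import Mathlib
import Groth.Agent.S9194
import Groth.Agent.Lib.Helper22.UOpenLimit
-- import your own Groth.Agent.* helpers here

set_option autoImplicit false
universe u
open CategoryTheory AlgebraicGeometry
open FlatMor

open Groth.Agent.Lib.Helper22.Weighting Groth.Agent.Lib.Helper22.PullbackDiagram Limits

namespace Groth.Agent.S9770

/-- Let S = lim S_i be a cofiltered limit of schemes with affine transition morphisms, i₀ an index with
S_{i₀} quasi-compact and quasi-separated, and f₀ : X₀ ⟶ Y₀ a morphism of schemes over S_{i₀} with X₀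
and Y₀ quasi-compact and quasi-separated and f₀ locally of finite presentation. Write f : X ⟶ Y for
the pullback of f₀ along S ⟶ S_{i₀} (all base changes given by pullback squares). Assuming f is
universally open and locally quasi-finite (with locally of finite type, as the book's notion
includes), there is a stage S_i over S_{i₀} where the pulled-back morphism f_i : X_i ⟶ Y_i already
has both properties. -/
theorem result {I : Type u} [SmallCategory I] [IsCofiltered I]
    (D : I ⥤ Scheme.{u}) (c : Limits.Cone D) (hc : Limits.IsLimit c)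
    [∀ (i j : I) (φ : i ⟶ j), IsAffineHom (D.map φ)] (i₀ : I) [CompactSpace (D.obj i₀)] [QuasiSeparatedSpace (D.obj i₀)]
    {X₀ Y₀ : Scheme.{u}} (f₀ : X₀ ⟶ Y₀) (g₀ : Y₀ ⟶ D.obj i₀) [CompactSpace X₀] [QuasiSeparatedSpace X₀]
    [CompactSpace Y₀] [QuasiSeparatedSpace Y₀] [LocallyOfFinitePresentation f₀]
    {X Y : Scheme.{u}} (f : X ⟶ Y) (g : Y ⟶ c.pt) (qY : Y ⟶ Y₀) (qX : X ⟶ X₀)
    (hY : IsPullback qY g g₀ (c.π.app i₀)) (hX : IsPullback qX f f₀ qY)
    [LocallyQuasiFinite f] [LocallyOfFiniteType f] [UniversallyOpen f] :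
    ∃ (i : I) (φ : i ⟶ i₀) (Xi Yi : Scheme.{u}) (fi : Xi ⟶ Yi) (gi : Yi ⟶ D.obj i) (pY : Yi ⟶ Y₀) (pX : Xi ⟶ X₀),
      IsPullback pY gi g₀ (D.map φ) ∧ IsPullback pX fi f₀ pY ∧ LocallyQuasiFinite fi ∧ LocallyOfFiniteType fi ∧ UniversallyOpen fi := by
  -- a stage at which the morphism is locally quasi-finite
  obtain ⟨i, φ, Xi, Yi, fi, gi, pY, pX, hYi, hXi, hlqf⟩ :=
    Groth.Agent.S9194.result D c hc i₀ f₀ g₀ f g qY qX hY hX
  -- rebase at `i`
  obtain ⟨qY', hqY'₁, hqY'₂⟩ : ∃ qY' : Y ⟶ Yi, qY' ≫ pY = qY ∧ qY' ≫ gi = g ≫ c.π.app i :=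
    ⟨hYi.lift qY (g ≫ c.π.app i) (by rw [Category.assoc, c.w, hY.w]), hYi.lift_fst _ _ _,
      hYi.lift_snd _ _ _⟩
  have hY' : IsPullback qY' g gi (c.π.app i) := by
    have hbig : IsPullback (qY' ≫ pY) g g₀ (c.π.app i ≫ D.map φ) := by
      rw [hqY'₁, c.w]
      exact hY
    exact IsPullback.of_right hbig hqY'₂ hYi
  obtain ⟨qX', hqX'₁, hqX'₂⟩ : ∃ qX' : X ⟶ Xi, qX' ≫ pX = qX ∧ qX' ≫ fi = f ≫ qY' :=
    ⟨hXi.lift qX (f ≫ qY') (by rw [Category.assoc, hqY'₁, hX.w]), hXi.lift_fst _ _ _,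
      hXi.lift_snd _ _ _⟩
  have hX' : IsPullback qX' f fi qY' := by
    have hbig : IsPullback (qX' ≫ pX) f f₀ (qY' ≫ pY) := by
      rw [hqX'₁, hqY'₁]
      exact hX
    exact IsPullback.of_right hbig hqX'₂ hXi
  have : LocallyOfFinitePresentation fi :=
    MorphismProperty.of_isPullback (P := @LocallyOfFinitePresentation) hXi inferInstance
  have : IsAffineHom pY :=
    MorphismProperty.of_isPullback (P := @IsAffineHom) hYi.flip inferInstance
  have : IsAffineHom pX :=
    MorphismProperty.of_isPullback (P := @IsAffineHom) hXi.flip inferInstance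
  have : CompactSpace Xi := QuasiCompact.compactSpace_of_compactSpace pX
  obtain ⟨b, hb⟩ := exists_universallyOpen_stage' D c hc i gi fi f g qY' qX' hY' hX'
  -- the output
  have hpbY : IsPullback (psnd D i gi b ≫ pY) (pfst D i gi b) g₀ (D.map (b.hom ≫ φ)) := by
    rw [D.map_comp]
    exact (isPullback_psnd_pfst D i gi b).paste_horiz hYi
  have hpbX : IsPullback (psnd D i (fi ≫ gi) b ≫ pX) (fD D i gi fi b) f₀ (psnd D i gi b ≫ pY) :=
    (isPullback_fD D i gi fi b).paste_horiz hXi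
  refine ⟨b.left, b.hom ≫ φ, (DM D i (fi ≫ gi)).obj b, (DM D i gi).obj b, fD D i gi fi b,
    pfst D i gi b, psnd D i gi b ≫ pY, psnd D i (fi ≫ gi) b ≫ pX, hpbY, hpbX, ?_, ?_, hb⟩
  · exact MorphismProperty.of_isPullback (P := @LocallyQuasiFinite) (isPullback_fD D i gi fi b)
      hlqf
  · have : LocallyOfFiniteType fi := inferInstance
    exact MorphismProperty.of_isPullback (P := @LocallyOfFiniteType) (isPullback_fD D i gi fi b)
      this

end Groth.Agent.S9770
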