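import Groth.Statements.S9772
-- import your own Groth.Agent.* helpers here
import Groth.Agent.S1302
import Groth.Agent.Lib.Helper51.UnivThickLci
import Groth.Agent.Lib.Helper51.OmegaUniv.LciChart
import Groth.Agent.Lib.Helper49.FinLocFreeSections

set_option autoImplicit false
universe u
open OmegaSh

namespace Groth.Agent.S9772

open AlgebraicGeometry CategoryTheory Limits in
/-- Suppose f : X ⟶ Y is Koszul at every point of X (a local complete intersection morphism) and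
formally unramified, and (i : X ⟶ X', h' : X' ⟶ Y) is universal first order thickening data for f.
Then the conormal sheaf of i (the conormal sheaf of f) is finite locally free. The published
statement also asserts that for a local complete intersection morphism unramified and formally
unramified are equivalent; this row states only the conormal clause. -/
theorem result {X Y X' : Scheme.{u}} (f : X ⟶ Y)
    (hf : ∀ x : X, Synt.IsKoszulAt f x) [FormallyUnramified f] (i : X ⟶ X') (h' : X' ⟶ Y)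
    (hu : OmegaSh.IsUnivThickening f i h') : FlatMod.IsFinLocFree (Omega.conormal i) := by
  have hic : IsClosedImmersion i := hu.1.1.1
  have hsurj : Surjective i := hu.1.1.2
  have hsq : i.ker * i.ker = ⊥ := hu.1.2
  have hih : i ≫ h' = f := hu.2.1
  have hqc : (Omega.conormal i).IsQuasicoherent :=
    Groth.Agent.Lib.Helper16.FlatPull.isQuasicoherent_pullback i (ClSub.idealMod i.ker)
  apply Groth.Agent.Lib.Helper49.isFinLocFree_of_finite_projective_cover
  intro x
  obtain ⟨VY, W, hVY, hW, hxW, hWV, Pr, πs, ρ, c, g, hsm, hρ, hg, hspan, hcomp⟩ :=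
    Groth.Agent.Lib.Helper51.OmegaUniv.exists_lci_chart f x (hf x)
  have hemb : Topology.IsClosedEmbedding i := i.isClosedEmbedding
  have hhomeo : IsHomeomorph i :=
    isHomeomorph_iff_isEmbedding_surjective.mpr ⟨hemb.isEmbedding, hsurj.surj⟩
  have hopen : IsOpen (i '' (W : Set X)) := hhomeo.isOpenMap _ W.isOpen
  obtain ⟨V', hV'def⟩ : ∃ V' : X'.Opens, (V' : Set X') = i '' (W : Set X) := ⟨⟨_, hopen⟩, rfl⟩
  have hWeq : i ⁻¹ᵁ V' = W := by
    ext y
    change i y ∈ (V' : Set X') ↔ y ∈ W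
    rw [hV'def]
    constructor
    · rintro ⟨y₀, hy₀, he⟩
      rwa [← hemb.injective he]
    · intro hy
      exact ⟨y, hy, rfl⟩
  have hW' : IsAffineOpen (i ⁻¹ᵁ V') := by rw [hWeq]; exact hW
  have hV' : IsAffineOpen V' :=
    Groth.Agent.S1302.isAffineOpen_of_thickening i hsurj.surj V' hW'
  have hV'VY : V' ≤ h' ⁻¹ᵁ VY := by
    intro z hz
    have hz' : z ∈ i '' (W : Set X) := by rw [← hV'def]; exact hz
    obtain ⟨y, hy, rfl⟩ := hz'
    change h' (i y) ∈ VY
    rw [← Scheme.Hom.comp_apply, hih]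
    exact hWV hy
  have hxW' : x ∈ i ⁻¹ᵁ V' := by rw [hWeq]; exact hxW
  refine ⟨i ⁻¹ᵁ V', hW', hxW', ?_⟩
  let _ : Algebra Γ(Y, VY) Γ(X', V') := (h'.appLE VY V' hV'VY).hom.toAlgebra
  let _ : Algebra Γ(X', V') Γ(X, i ⁻¹ᵁ V') := (i.appLE V' (i ⁻¹ᵁ V') le_rfl).hom.toAlgebra
  let _ : Algebra Γ(Y, VY) Γ(X, i ⁻¹ᵁ V') :=
    (h'.appLE VY V' hV'VY ≫ i.appLE V' (i ⁻¹ᵁ V') le_rfl).hom.toAlgebra
  have t₂ : IsScalarTower Γ(Y, VY) Γ(X', V') Γ(X, i ⁻¹ᵁ V') :=
    IsScalarTower.of_algebraMap_eq' rfl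
  have happ : i.appLE V' (i ⁻¹ᵁ V') le_rfl = i.app V' := (Scheme.Hom.app_eq_appLE i).symm
  have hπsurj : Function.Surjective (algebraMap Γ(X', V') Γ(X, i ⁻¹ᵁ V')) := by
    change Function.Surjective (i.appLE V' (i ⁻¹ᵁ V') le_rfl).hom
    rw [happ]
    exact i.app_surjective V' hV'
  have hring : OmegaSh.IsUnivThickeningRing Γ(Y, VY) Γ(X, i ⁻¹ᵁ V') Γ(X', V')
      (IsScalarTower.toAlgHom Γ(Y, VY) Γ(X', V') Γ(X, i ⁻¹ᵁ V')) := by
    apply Groth.Agent.Lib.Helper51.UnivThickRing.isUnivThickeningRing_of_ringUniv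
    · exact hπsurj
    · change RingHom.ker (i.appLE V' (i ⁻¹ᵁ V') le_rfl).hom ^ 2 = ⊥
      rw [happ]
      exact Groth.Agent.Lib.Helper7.ker_app_sq_eq_bot i hsq hV'
    · have := Groth.Agent.Lib.Helper51.UnivThickRing.ringUniv_of_isUnivThickening f i h' hu
        hVY hV' hV'VY
      rw [← happ] at this
      exact this
  let _ : Algebra Γ(Y, VY) Pr := πs.hom.toAlgebra
  have hfs : Algebra.FormallySmooth Γ(Y, VY) Pr := hsm
  have hresbij : Function.Bijective (X.presheaf.map (eqToHom hWeq).op).hom :=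
    ConcreteCategory.bijective_of_isIso (X.presheaf.map (eqToHom hWeq).op)
  have hcomm : πs ≫ ρ ≫ X.presheaf.map (eqToHom hWeq).op =
      h'.appLE VY V' hV'VY ≫ i.appLE V' (i ⁻¹ᵁ V') le_rfl := by
    rw [← Category.assoc, hcomp, Scheme.Hom.appLE_comp_appLE]
    have key : ∀ (p q : X ⟶ Y) (_ : p = q) (h1 : i ⁻¹ᵁ V' ≤ p ⁻¹ᵁ VY)
        (h2 : i ⁻¹ᵁ V' ≤ q ⁻¹ᵁ VY),
        p.appLE VY (i ⁻¹ᵁ V') h1 = q.appLE VY (i ⁻¹ᵁ V') h2 := by
      rintro p q rfl _ _; rfl
    have e1 : f.appLE VY W hWV ≫ X.presheaf.map (eqToHom hWeq).op =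
        f.appLE VY (i ⁻¹ᵁ V') (hWeq.le.trans hWV) :=
      Scheme.Hom.appLE_map f hWV (eqToHom hWeq).op
    rw [e1]
    exact key _ _ hih.symm _ _
  let ρ' : Pr →ₐ[Γ(Y, VY)] Γ(X, i ⁻¹ᵁ V') :=
    { toRingHom := (ρ ≫ X.presheaf.map (eqToHom hWeq).op).hom
      commutes' := fun r => congr($(hcomm).hom r) }
  have hρ' : Function.Surjective ρ' := by
    change Function.Surjective (ρ ≫ X.presheaf.map (eqToHom hWeq).op).hom
    rw [CommRingCat.hom_comp]
    exact hresbij.2.comp hρ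
  have hker' : RingHom.ker ρ'.toRingHom = Ideal.span (Set.range g) := by
    rw [← hspan]
    ext y
    change (X.presheaf.map (eqToHom hWeq).op).hom (ρ.hom y) = 0 ↔ ρ.hom y = 0
    constructor
    · intro h
      exact hresbij.1 (h.trans (map_zero _).symm)
    · intro h
      rw [h, map_zero]
  obtain ⟨u, σ, h1, h2, h3⟩ := Groth.Agent.Lib.Helper51.UnivThickRing.exists_retract_quot_sq ρ' hρ'
    (IsScalarTower.toAlgHom Γ(Y, VY) Γ(X', V') Γ(X, i ⁻¹ᵁ V')) hring
  obtain ⟨eN, -⟩ := Groth.Agent.Lib.Helper51.OmegaUniv.exists_conormal_sections_equiv i hV' hW' le_rfl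
  have hmapπ : ∀ y : Γ(X', V'), algebraMap Γ(X', V') Γ(X, i ⁻¹ᵁ V') y = i.app V' y := by
    intro y
    change (i.appLE V' (i ⁻¹ᵁ V') le_rfl).hom y = _
    rw [happ]
  obtain ⟨hfin, hproj⟩ := Groth.Agent.Lib.Helper51.UnivThickRing.finite_projective_of_retract_h1
    ρ'.toRingHom hρ' hπsurj g hg hker' u σ h1 h2 h3
    (OmegaSh.idealSect i.ker V')
    (Groth.Agent.Lib.Helper51.OmegaUniv.idealSect_smul i.ker V')
    (Groth.Agent.Lib.Helper51.OmegaUniv.idealSect_injective i.ker V')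
    (fun n => (hmapπ _).trans (Groth.Agent.Lib.Helper51.OmegaUniv.app_idealSect i hV' n))
    (fun y hy => Groth.Agent.Lib.Helper51.OmegaUniv.exists_idealSect_eq i hV' y
      ((hmapπ y).symm.trans hy))
  exact ⟨Module.Finite.equiv eN, Module.Projective.of_equiv eN⟩

end Groth.Agent.S9772
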