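import Groth.Statements.S9775
import Groth.Agent.Lib.Helper10.AvrSch
import Groth.Agent.Lib.Helper35.PerfHomPoly
import Groth.Agent.S1493

set_option autoImplicit false
universe u
open FlatMor

namespace Groth.Agent.S9775

open AlgebraicGeometry CategoryTheory Limits in
/-- Let S be a locally Noetherian scheme, g : Y ⟶ S locally of finite type with Y regular (all local
rings regular), f : X ⟶ Y a morphism, and assume the composite f ≫ g is Koszul at every point of X
(a local complete intersection morphism). Then f is Koszul at every point of X, and g is Koszul at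
the point f x for each x ∈ X. -/
theorem result {X Y S : Scheme.{u}} (f : X ⟶ Y) (g : Y ⟶ S) [IsLocallyNoetherian S] [LocallyOfFiniteType g]
    (hY : Models.IsRegularScheme Y) (h : ∀ x : X, Synt.IsKoszulAt (f ≫ g) x) :
    (∀ x : X, Synt.IsKoszulAt f x) ∧ ∀ x : X, Synt.IsKoszulAt g (f x) := by
  haveI : IsLocallyNoetherian Y := LocallyOfFiniteType.isLocallyNoetherian g
  have hl : Groth.Agent.Lib.Helper10.LciMor.lciMor (f ≫ g) :=
    (Groth.Agent.Lib.Helper10.LciMor.lciMor_iff_forall_isKoszulAt _).mpr h
  haveI : LocallyOfFiniteType (f ≫ g) :=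
    Groth.Agent.Lib.Helper10.LciMor.locallyOfFiniteType_of_lciMor _ hl
  haveI : LocallyOfFiniteType f := locallyOfFiniteType_of_comp f g
  have key := fun x => Groth.Agent.Lib.Helper10.AvrSch.isKoszulAt_of_hasFiniteTorDim f g
    (fun U V hU hV hUV => by
      letI := (f.appLE V U hUV).hom.toAlgebra
      haveI : IsRegularRing Γ(Y, V) := Groth.Agent.S1493.isRegularRing_of_stalks hY hV
      haveI : Algebra.FiniteType Γ(Y, V) Γ(X, U) := f.finiteType_appLE hV hU hUV
      exact (Groth.Agent.Lib.Helper35.PHP.isPerfectHom_of_finiteType_of_isRegularRing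
        Γ(Y, V) Γ(X, U)).2) h x
  exact ⟨fun x => (key x).1, fun x => (key x).2⟩

end Groth.Agent.S9775
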