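import Groth.Statements.S9776
-- import your own Groth.Agent.* helpers here
import Groth.Agent.Lib.Helper51.OmegaUniv.DiffCompatIso
import Groth.Agent.Lib.Helper51.OmegaUniv.KaehlerAlg

set_option autoImplicit false
universe u
open OmegaSh

namespace Groth.Agent.S9776

open AlgebraicGeometry CategoryTheory Limits in
/-- Consider a commutative square of schemes with vertical maps p₁ : X₁ ⟶ S₁, p₂ : X₂ ⟶ S₂ and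
horizontal maps f : X₂ ⟶ X₁, g : S₂ ⟶ S₁, where f and g are étale. Let d₁ : O_{X₁} → Ω₁ and d₂ :
O_{X₂} → Ω₂ be universal derivations over S₁ and S₂ (sheaves of differentials) and c : f^*Ω₁ ⟶ Ω₂
the O_{X₂}-linear map compatible with d₁ and d₂ (the canonical map c_f). Then c is an isomorphism. -/
theorem result {X₁ S₁ X₂ S₂ : Scheme.{u}} (p₁ : X₁ ⟶ S₁) (p₂ : X₂ ⟶ S₂) (f : X₂ ⟶ X₁) (g : S₂ ⟶ S₁)
    [Etale f] [Etale g] (hsq : f ≫ p₁ = p₂ ≫ g)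
    (Ω₁ : X₁.Modules) (d₁ : OmegaSh.Der p₁ Ω₁) (hd₁ : OmegaSh.IsUniversal d₁)
    (Ω₂ : X₂.Modules) (d₂ : OmegaSh.Der p₂ Ω₂) (hd₂ : OmegaSh.IsUniversal d₂)
    (c : (Scheme.Modules.pullback f).obj Ω₁ ⟶ Ω₂) (hc : OmegaSh.IsDiffCompat f d₁ d₂ c) : IsIso c := by
  have hq₂ : Ω₂.IsQuasicoherent :=
    Groth.Agent.Lib.Helper51.OmegaUniv.isQuasicoherent_of_isUniversal p₂ hd₂
  have hq₁ : Ω₁.IsQuasicoherent :=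
    Groth.Agent.Lib.Helper51.OmegaUniv.isQuasicoherent_of_isUniversal p₁ hd₁
  have hq₃ : ((Scheme.Modules.pullback f).obj Ω₁).IsQuasicoherent :=
    Groth.Agent.Lib.Helper16.FlatPull.isQuasicoherent_pullback f Ω₁
  apply Groth.Agent.Lib.Helper42.isIso_of_app_bijective_of_cover
  intro x
  obtain ⟨V₁, hV₁, hxV₁, -⟩ := exists_isAffineOpen_mem_and_subset
    (x := g (p₂ x)) (U := ⊤) trivial
  obtain ⟨V₂, hV₂, hxV₂, hg⟩ := exists_isAffineOpen_mem_and_subset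
    (x := p₂ x) (U := g ⁻¹ᵁ V₁) hxV₁
  have hfx : f x ∈ p₁ ⁻¹ᵁ V₁ := by
    change p₁ (f x) ∈ V₁
    rw [← Scheme.Hom.comp_apply, hsq, Scheme.Hom.comp_apply]
    exact hxV₁
  obtain ⟨U₁, hU₁, hxU₁, h₁⟩ := exists_isAffineOpen_mem_and_subset
    (x := f x) (U := p₁ ⁻¹ᵁ V₁) hfx
  obtain ⟨U₂, hU₂, hxU₂, h₂'⟩ := exists_isAffineOpen_mem_and_subset
    (x := x) (U := f ⁻¹ᵁ U₁ ⊓ p₂ ⁻¹ᵁ V₂) ⟨hxU₁, hxV₂⟩
  have hh : U₂ ≤ f ⁻¹ᵁ U₁ := fun y hy => (h₂' hy).1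
  have h₂ : U₂ ≤ p₂ ⁻¹ᵁ V₂ := fun y hy => (h₂' hy).2
  obtain ⟨e, e₂, L, hL, -, hsqL⟩ := Groth.Agent.Lib.Helper51.OmegaUniv.exists_chart_square
    f hd₁ hd₂ hc hU₁ hV₁ h₁ hU₂ hV₂ h₂ hh
  refine ⟨U₂, hU₂, hxU₂, Groth.Agent.Lib.Helper51.OmegaUniv.app_bijective_of_chart_square
    f e.toEquiv e₂.toEquiv L hsqL ?_⟩
  let _ : Algebra Γ(S₁, V₁) Γ(X₁, U₁) := (p₁.appLE V₁ U₁ h₁).hom.toAlgebra
  let _ : Algebra Γ(S₂, V₂) Γ(X₂, U₂) := (p₂.appLE V₂ U₂ h₂).hom.toAlgebra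
  let _ : Algebra Γ(X₁, U₁) Γ(X₂, U₂) := (f.appLE U₁ U₂ hh).hom.toAlgebra
  let _ : Algebra Γ(S₁, V₁) Γ(S₂, V₂) := (g.appLE V₁ V₂ hg).hom.toAlgebra
  let _ : Algebra Γ(S₁, V₁) Γ(X₂, U₂) :=
    (p₁.appLE V₁ U₁ h₁ ≫ f.appLE U₁ U₂ hh).hom.toAlgebra
  have t₁ : IsScalarTower Γ(S₁, V₁) Γ(X₁, U₁) Γ(X₂, U₂) := IsScalarTower.of_algebraMap_eq' rfl
  have key : ∀ (a b : X₂ ⟶ S₁) (_ : a = b) (h1 : U₂ ≤ a ⁻¹ᵁ V₁) (h2 : U₂ ≤ b ⁻¹ᵁ V₁),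
      a.appLE V₁ U₂ h1 = b.appLE V₁ U₂ h2 := by
    rintro a b rfl _ _; rfl
  have t₂ : IsScalarTower Γ(S₁, V₁) Γ(S₂, V₂) Γ(X₂, U₂) := by
    refine IsScalarTower.of_algebraMap_eq' ?_
    change (p₁.appLE V₁ U₁ h₁ ≫ f.appLE U₁ U₂ hh).hom =
      (g.appLE V₁ V₂ hg ≫ p₂.appLE V₂ U₂ h₂).hom
    rw [Scheme.Hom.appLE_comp_appLE, Scheme.Hom.appLE_comp_appLE]
    exact congrArg _ (key _ _ hsq _ _)
  have u₁ : Algebra.FormallyUnramified Γ(S₁, V₁) Γ(S₂, V₂) :=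
    (Etale.etale_appLE g hV₁ hV₂ hg).formallyUnramified
  have u₂ : Algebra.FormallyEtale Γ(X₁, U₁) Γ(X₂, U₂) :=
    have : Algebra.Etale Γ(X₁, U₁) Γ(X₂, U₂) := Etale.etale_appLE f hU₁ hU₂ hh
    inferInstance
  exact Groth.Agent.Lib.Helper51.OmegaUniv.KAlg.bijective_of_etale_square L hL

end Groth.Agent.S9776
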