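import Groth.Statements.S9777
-- import your own Groth.Agent.* helpers here
import Groth.Agent.S4642
import Mathlib.AlgebraicGeometry.Fiber

set_option autoImplicit false
universe u
open FlatMor

namespace Groth.Agent.S9777

open AlgebraicGeometry CategoryTheory Limits in
/-- A base change of a scheme locally of finite type over a field along a field extension has the
same dimension. -/
theorem topologicalKrullDim_eq_of_isPullback_field {k K : Type u} [Field k] [Field K]
    (φ : CommRingCat.of k ⟶ CommRingCat.of K) {X Z : Scheme.{u}}
    (f : X ⟶ Spec (CommRingCat.of k)) [LocallyOfFiniteType f] (a : Z ⟶ X)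
    (b : Z ⟶ Spec (CommRingCat.of K)) (h : IsPullback a b f (Spec.map φ)) :
    topologicalKrullDim ↥Z = topologicalKrullDim ↥X := by
  let _ : Algebra k K := φ.hom.toAlgebra
  have h1 := Groth.Agent.S4642.result (k := k) (K := K) f
  rw [← h1]
  have e : Z ≅ pullback f (Spec.map (CommRingCat.ofHom (algebraMap k K))) := h.isoPullback
  exact (Scheme.homeoOfIso e).isHomeomorph.topologicalKrullDim_eq

open AlgebraicGeometry CategoryTheory Limits in
/-- For a finite-type morphism f : X ⟶ Y and its pullback f' : X' ⟶ Y' along any g : Y' ⟶ Y, the Krull
dimension of the fibre of f' over a point y' equals that of the fibre of f over g y'; fibre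
dimension commutes with base change. -/
theorem result {X Y X' Y' : Scheme.{u}} (f : X ⟶ Y) [QuasiCompact f] [LocallyOfFiniteType f]
    (g : Y' ⟶ Y) (f' : X' ⟶ Y') (g' : X' ⟶ X) (hc : IsPullback g' f' f g) (y' : Y') :
    topologicalKrullDim ↑(f'.fiber y') = topologicalKrullDim ↑(f.fiber (g y')) := by
  have hpb := isPullback_fiberToSpecResidueField_of_isPullback hc y'
  have hlft : LocallyOfFiniteType (f.fiberToSpecResidueField (g y')) := by
    unfold Scheme.Hom.fiberToSpecResidueField
    exact MorphismProperty.of_isPullback (P := @LocallyOfFiniteType)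
      (IsPullback.of_hasPullback f (Y.fromSpecResidueField (g y'))) ‹_›
  exact topologicalKrullDim_eq_of_isPullback_field
    (k := ↑(Y.residueField (g y'))) (K := ↑(Y'.residueField y'))
    (g.residueFieldMap y') (f.fiberToSpecResidueField (g y')) _ _ hpb

end Groth.Agent.S9777
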