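import Groth.Statements.S9778
import Groth.Agent.Lib.Helper7.EtaleSplit
-- import your own Groth.Agent.* helpers here

set_option autoImplicit false
universe u
open FlatMor

namespace Groth.Agent.S9778

open AlgebraicGeometry CategoryTheory Limits in
/-- Let f : X ⟶ S be separated and locally of finite type, s a point of S and x_1, …, x_n pairwise
distinct points of X over s at which f is quasi-finite (isolated points of the fibre). Then there
are an étale morphism g : U ⟶ S with a point u over s and finitely many pairwise disjoint open and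
closed subschemes V_{i,j} of X_U = X ×_S U, each finite over U and containing exactly one point
v_{i,j} over u, with v_{i,j} mapping to x_i and κ(v_{i,j}) purely inseparable over κ(u), such that
every point of X_U over u mapping to some x_i lies in one of the V_{i,j} (so the open and closed
complement W of their union has no point over u mapping to any x_i). -/
theorem result {X S : Scheme.{u}} (f : X ⟶ S) [LocallyOfFiniteType f] [IsSeparated f] (s : S)
    {ι : Type} [Finite ι] (x : ι → ↑X) (hinj : Function.Injective x) (hs : ∀ i, f (x i) = s) (hx : ∀ i, f.QuasiFiniteAt (x i)) :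
    ∃ (U : Scheme.{u}) (g : U ⟶ S) (u : U), Etale g ∧ g u = s ∧
      ∃ (J : ι → Type) (_ : ∀ i, Finite (J i)) (V : ∀ i, J i → (pullback f g).Opens) (v : ∀ i, J i → ↑(pullback f g)),
        (∀ i j, IsClopen ((V i j : Set ↑(pullback f g)))) ∧
        (∀ i j i' j', ((V i j : Set ↑(pullback f g)) ∩ (V i' j')).Nonempty → i = i' ∧ HEq j j') ∧
        (∀ i j, v i j ∈ V i j ∧ IsFinite ((V i j).ι ≫ pullback.snd f g) ∧ pullback.snd f g (v i j) = u ∧
          (∀ w : ↑(pullback f g), w ∈ V i j → pullback.snd f g w = u → w = v i j) ∧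
          (letI := ((pullback.snd f g).residueFieldMap (v i j)).hom.toAlgebra
           IsPurelyInseparable ↑(U.residueField (pullback.snd f g (v i j))) ↑((pullback f g).residueField (v i j))) ∧
          pullback.fst f g (v i j) = x i) ∧
        (∀ (w : ↑(pullback f g)) (i : ι), pullback.snd f g w = u → pullback.fst f g w = x i → ∃ j, w ∈ V i j) := by
  classical
  open Groth.Agent.Lib.Helper7.EtaleSplit Groth.Agent.Lib.Helper22.Weighting in
  obtain ⟨U, g, hg, u, hu, n, p, x₀, hx₀, hdeg, huniq, hinjp, -, hcov, hcl, hdisj⟩ :=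
    exists_etale_pieces_pts_separated f s (Set.range x) (Set.finite_range x) ⊤ (fun _ _ => trivial)
      (by rintro _ ⟨i, rfl⟩; exact hx i)
  refine ⟨U, g, u, hg, hu, fun i => {k : Fin n // pullback.fst f g ((p k).j (x₀ k)) = x i},
    fun i => inferInstance, fun i j => (p j.1).j.opensRange, fun i j => (p j.1).j (x₀ j.1),
    ?_, ?_, ?_, ?_⟩
  · intro i j
    exact ⟨hcl j.1, (p j.1).j.opensRange.isOpen⟩
  · rintro i j i' j' ⟨w, hw1, hw2⟩
    have hjj' : j.1 = j'.1 := by
      by_contra hne
      exact Set.disjoint_left.mp (hdisj j.1 j'.1 hne) hw1 hw2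
    have h1 : x i = x i' := by
      rw [← j.2, ← j'.2, hjj']
    have hi : i = i' := hinj h1
    subst hi
    exact ⟨rfl, heq_of_eq (Subtype.ext hjj')⟩
  · intro i j
    refine ⟨⟨x₀ j.1, rfl⟩, (p j.1).isFinite_opensRange, ?_, ?_, ?_, j.2⟩
    · rw [BPiece.snd_j_apply]; exact hx₀ j.1
    · rintro _ ⟨y, rfl⟩ hy
      rw [BPiece.snd_j_apply] at hy
      rw [huniq j.1 y hy]
    · exact ((p j.1).residue (x₀ j.1) (by rw [hx₀ j.1]; exact hdeg j.1)).2
  · intro w i hw hwi
    obtain ⟨k, rfl⟩ := hcov w hw ⟨i, hwi.symm⟩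
    exact ⟨⟨k, hwi⟩, ⟨x₀ k, rfl⟩⟩

end Groth.Agent.S9778
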