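import Groth.Statements.S9779
import Mathlib
import Groth.Agent.Lib.Helper61.QFSlice2

set_option autoImplicit false
universe u
open FlatMor

namespace Groth.Agent.S9779

section helpers
open AlgebraicGeometry CategoryTheory Limits IsLocalRing

/-- In a Noetherian ring, a point in the closure of an open subset of the spectrum has a
generization in this open subset. -/
theorem primeSpectrum_exists_mem_specializes_of_mem_closure {R : Type u} [CommRing R]
    [IsNoetherianRing R] (U : Set (PrimeSpectrum R)) (hU : IsOpen U) (p : PrimeSpectrum R)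
    (hp : p ∈ closure U) : ∃ q ∈ U, q ⤳ p := by
  classical
  obtain ⟨J, hJ⟩ := (PrimeSpectrum.isClosed_iff_zeroLocus_ideal _).mp hU.isClosed_compl
  obtain ⟨s, hs⟩ := (IsNoetherian.noetherian J : J.FG)
  have hUeq : U = ⋃ g ∈ s, (PrimeSpectrum.basicOpen g : Set (PrimeSpectrum R)) := by
    rw [← compl_compl U, hJ, ← hs, PrimeSpectrum.zeroLocus_span]
    ext q
    simp [PrimeSpectrum.mem_zeroLocus, Set.subset_def]
  rw [hUeq] at hp
  have hcl : closure (⋃ g ∈ s, (PrimeSpectrum.basicOpen g : Set (PrimeSpectrum R))) =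
      ⋃ g ∈ s, closure (PrimeSpectrum.basicOpen g : Set (PrimeSpectrum R)) :=
    s.finite_toSet.closure_biUnion _
  rw [hcl] at hp
  simp only [Set.mem_iUnion] at hp
  obtain ⟨g, hgs, hpg⟩ := hp
  let φ := algebraMap R (Localization.Away g)
  rw [← PrimeSpectrum.localization_away_comap_range (Localization.Away g) g,
    PrimeSpectrum.closure_range_comap] at hpg
  have hle : RingHom.ker φ ≤ p.asIdeal := hpg
  obtain ⟨q, hq₁, hq₂⟩ := Ideal.exists_minimalPrimes_le hle
  obtain ⟨p', hp', hp'', rfl⟩ := Ideal.exists_comap_eq_of_mem_minimalPrimes φ _ hq₁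
  refine ⟨PrimeSpectrum.comap φ ⟨p', hp'⟩, ?_, (PrimeSpectrum.le_iff_specializes _ p).mp hq₂⟩
  rw [hUeq]
  simp only [Set.mem_iUnion]
  refine ⟨g, hgs, ?_⟩
  rw [← PrimeSpectrum.localization_away_comap_range (Localization.Away g) g]
  exact ⟨_, rfl⟩

theorem scheme_exists_mem_specializes_of_mem_closure {X : Scheme.{u}} [IsLocallyNoetherian X]
    (U : X.Opens) (x : X) (hx : x ∈ closure (U : Set X)) : ∃ x' ∈ U, x' ⤳ x := by
  obtain ⟨_, ⟨W, hW : IsAffineOpen W, rfl⟩, hxW, -⟩ :=
    X.isBasis_affineOpens.exists_subset_of_mem_open (Set.mem_univ x) isOpen_univ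
  have hN : IsNoetherianRing Γ(X, W) := IsLocallyNoetherian.component_noetherian ⟨W, hW⟩
  let p : PrimeSpectrum Γ(X, W) := hW.primeIdealOf ⟨x, hxW⟩
  have hpx : hW.fromSpec p = x := hW.fromSpec_primeIdealOf ⟨x, hxW⟩
  let U' : Set (PrimeSpectrum Γ(X, W)) := hW.fromSpec ⁻¹' (U : Set X)
  have hU' : IsOpen U' := U.isOpen.preimage hW.fromSpec.continuous
  have hp : p ∈ closure U' := by
    have := hW.fromSpec.isOpenEmbedding.isOpenMap.preimage_closure_eq_closure_preimage
      hW.fromSpec.continuous (U : Set X)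
    show p ∈ closure (hW.fromSpec ⁻¹' (U : Set X))
    rw [← this]
    show hW.fromSpec p ∈ closure (U : Set X)
    rw [hpx]; exact hx
  obtain ⟨q, hqU, hqp⟩ := primeSpectrum_exists_mem_specializes_of_mem_closure U' hU' p hp
  refine ⟨hW.fromSpec q, hqU, ?_⟩
  rw [← hpx]
  exact hqp.map hW.fromSpec.continuous

end helpers

open AlgebraicGeometry CategoryTheory Limits in
/-- Suppose S is locally Noetherian and the morphism f : X ⟶ S is locally of finite type; take x a point
of X closed in its fibre, and U ⊆ X an open subscheme not meeting the fibre through x but with x in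
the closure of U. Then there is a closed subscheme Z of X passing through x such that Z ⟶ S is
quasi-finite at x and Z contains a point z of U specializing to x with f z ≠ f x. -/
theorem result {X S : Scheme.{u}} (f : X ⟶ S) [LocallyOfFiniteType f] [IsLocallyNoetherian S] (x : X)
    (hcl : IsClosed (Subtype.val ⁻¹' {x} : Set ↑(f ⁻¹' {f x}))) (U : X.Opens)
    (hU : ∀ x' ∈ U, f x' ≠ f x) (hxU : x ∈ closure (U : Set ↑X)) :
    ∃ (I : X.IdealSheafData) (z₀ x₀ : ↑I.subscheme), I.subschemeι x₀ = x ∧ (I.subschemeι ≫ f).QuasiFiniteAt x₀ ∧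
      I.subschemeι z₀ ∈ U ∧ I.subschemeι z₀ ⤳ x ∧ f (I.subschemeι z₀) ≠ f x := by
  have hXN : IsLocallyNoetherian X := LocallyOfFiniteType.isLocallyNoetherian f
  obtain ⟨x', hx'U, hx'x⟩ := scheme_exists_mem_specializes_of_mem_closure U x hxU
  exact Groth.Agent.Lib.Helper61.QFSlice2.exists_quasiFinite_slice f x hcl U x' hx'U hx'x
    (hU x' hx'U)

end Groth.Agent.S9779
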