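import Groth.Statements.S9783
-- import your own Groth.Agent.* helpers here
import Groth.Agent.Lib.Helper51.OmegaUniv.Conormal
import Groth.Agent.Lib.Helper51.OmegaUniv.KaehlerAlg
import Groth.Agent.Lib.Helper51.OmegaUniv.Sections
import Groth.Agent.Lib.Helper51.UnivThickRing

set_option autoImplicit false
universe u
open OmegaSh

namespace Groth.Agent.S9783

open AlgebraicGeometry CategoryTheory Limits in
/-- Let q : X ⟶ S be a morphism, h : Z ⟶ X formally unramified, and (i : Z ⟶ Z', h' : Z' ⟶ X) the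
universal first order thickening attached to h. Let d_X : O_X → Ω_X be a universal S-derivation,
d_{Z'} : O_{Z'} → Ω_{Z'} a universal S-derivation for Z' over S via h' ≫ q, and c : (h')^*Ω_X ⟶
Ω_{Z'} the O_{Z'}-linear map compatible with them (the canonical map c_{h'}). Then the pullback of c
along i, a map h^*Ω_X ⟶ Ω_{Z'} ⊗ O_Z, is an isomorphism. -/
theorem result {Z X S Z' : Scheme.{u}} (h : Z ⟶ X) (q : X ⟶ S) [FormallyUnramified h]
    (i : Z ⟶ Z') (h' : Z' ⟶ X) (hu : OmegaSh.IsUnivThickening h i h')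
    (ΩX : X.Modules) (dX : OmegaSh.Der q ΩX) (hdX : OmegaSh.IsUniversal dX)
    (ΩZ' : Z'.Modules) (dZ' : OmegaSh.Der (h' ≫ q) ΩZ') (hdZ' : OmegaSh.IsUniversal dZ')
    (c : (Scheme.Modules.pullback h').obj ΩX ⟶ ΩZ') (hc : OmegaSh.IsDiffCompat h' dX dZ' c) :
    IsIso ((Scheme.Modules.pullback i).map c) := by
  have hic : IsClosedImmersion i := hu.1.1.1
  have hsq : i.ker * i.ker = ⊥ := hu.1.2
  have hqX : ΩX.IsQuasicoherent :=
    Groth.Agent.Lib.Helper51.OmegaUniv.isQuasicoherent_of_isUniversal q hdX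
  have hqZ' : ΩZ'.IsQuasicoherent :=
    Groth.Agent.Lib.Helper51.OmegaUniv.isQuasicoherent_of_isUniversal (h' ≫ q) hdZ'
  have hqM : ((Scheme.Modules.pullback h').obj ΩX).IsQuasicoherent :=
    Groth.Agent.Lib.Helper16.FlatPull.isQuasicoherent_pullback h' ΩX
  have hq1 : ((Scheme.Modules.pullback i).obj ((Scheme.Modules.pullback h').obj ΩX)).IsQuasicoherent :=
    Groth.Agent.Lib.Helper16.FlatPull.isQuasicoherent_pullback i _
  have hq2 : ((Scheme.Modules.pullback i).obj ΩZ').IsQuasicoherent :=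
    Groth.Agent.Lib.Helper16.FlatPull.isQuasicoherent_pullback i _
  apply Groth.Agent.Lib.Helper42.isIso_of_app_bijective_of_cover
  intro x
  obtain ⟨W, hW, hxW, -⟩ := exists_isAffineOpen_mem_and_subset
    (x := q (h' (i x))) (U := ⊤) trivial
  obtain ⟨U, hU, hxU, hUW⟩ := exists_isAffineOpen_mem_and_subset
    (x := h' (i x)) (U := q ⁻¹ᵁ W) hxW
  obtain ⟨V', hV', hxV', hV'U⟩ := exists_isAffineOpen_mem_and_subset
    (x := i x) (U := h' ⁻¹ᵁ U) hxU
  have hV : IsAffineOpen (i ⁻¹ᵁ V') := hV'.preimage i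
  refine ⟨i ⁻¹ᵁ V', hV, hxV', ?_⟩
  have hV'W : V' ≤ (h' ≫ q) ⁻¹ᵁ W := fun y hy => hUW (hV'U hy)
  obtain ⟨e, e₂, L, he, hL, -, hsqL⟩ := Groth.Agent.Lib.Helper51.OmegaUniv.exists_chart_square'
    h' hdX hdZ' hc hU hW hUW hV' hW hV'W hV'U
  let _ : Algebra Γ(S, W) Γ(X, U) := (q.appLE W U hUW).hom.toAlgebra
  let _ : Algebra Γ(S, W) Γ(Z', V') := ((h' ≫ q).appLE W V' hV'W).hom.toAlgebra
  let _ : Algebra Γ(X, U) Γ(Z', V') := (h'.appLE U V' hV'U).hom.toAlgebra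
  let _ : Algebra Γ(Z', V') Γ(Z, i ⁻¹ᵁ V') := (i.appLE V' (i ⁻¹ᵁ V') le_rfl).hom.toAlgebra
  let _ : Algebra Γ(X, U) Γ(Z, i ⁻¹ᵁ V') :=
    (h'.appLE U V' hV'U ≫ i.appLE V' (i ⁻¹ᵁ V') le_rfl).hom.toAlgebra
  have t₁ : IsScalarTower Γ(S, W) Γ(X, U) Γ(Z', V') := by
    refine IsScalarTower.of_algebraMap_eq' ?_
    change ((h' ≫ q).appLE W V' hV'W).hom = (q.appLE W U hUW ≫ h'.appLE U V' hV'U).hom
    rw [Scheme.Hom.appLE_comp_appLE]
  have t₂ : IsScalarTower Γ(X, U) Γ(Z', V') Γ(Z, i ⁻¹ᵁ V') :=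
    IsScalarTower.of_algebraMap_eq' rfl
  obtain ⟨eM, heM⟩ := Groth.Agent.Lib.Helper51.OmegaUniv.exists_tensor_sections_equiv i
    ((Scheme.Modules.pullback h').obj ΩX) hV' hV le_rfl
  obtain ⟨eN, heN⟩ := Groth.Agent.Lib.Helper51.OmegaUniv.exists_tensor_sections_equiv i
    ΩZ' hV' hV le_rfl
  have hLeq : L = KaehlerDifferential.mapBaseChange Γ(S, W) Γ(X, U) Γ(Z', V') := by
    apply Groth.Agent.Lib.Helper51.OmegaUniv.KAlg.tensor_kaehler_ext
    intro s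
    rw [hL, KaehlerDifferential.mapBaseChange_tmul, one_smul, KaehlerDifferential.map_D]
    rfl
  have happ : i.appLE V' (i ⁻¹ᵁ V') le_rfl = i.app V' := (Scheme.Hom.app_eq_appLE i).symm
  have hring : OmegaSh.IsUnivThickeningRing Γ(X, U) Γ(Z, i ⁻¹ᵁ V') Γ(Z', V')
      (IsScalarTower.toAlgHom Γ(X, U) Γ(Z', V') Γ(Z, i ⁻¹ᵁ V')) := by
    apply Groth.Agent.Lib.Helper51.UnivThickRing.isUnivThickeningRing_of_ringUniv
    · change Function.Surjective (i.appLE V' (i ⁻¹ᵁ V') le_rfl).hom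
      rw [happ]
      exact i.app_surjective V' hV'
    · change RingHom.ker (i.appLE V' (i ⁻¹ᵁ V') le_rfl).hom ^ 2 = ⊥
      rw [happ]
      exact Groth.Agent.Lib.Helper7.ker_app_sq_eq_bot i hsq hV'
    · have := Groth.Agent.Lib.Helper51.UnivThickRing.ringUniv_of_isUnivThickening h i h' hu hU hV' hV'U
      rw [← happ] at this
      exact this
  have hbij := Groth.Agent.Lib.Helper48.bijective_baseChange_mapBaseChange_of_isUnivThickeningRing
    Γ(S, W) Γ(X, U) Γ(Z, i ⁻¹ᵁ V') Γ(Z', V') hring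
  have key : ∀ t, ((Scheme.Modules.pullback i).map c).app (i ⁻¹ᵁ V')
      (eM (LinearEquiv.lTensor Γ(Z, i ⁻¹ᵁ V') e t)) =
      eN (LinearEquiv.lTensor Γ(Z, i ⁻¹ᵁ V') e₂
        (((KaehlerDifferential.mapBaseChange Γ(S, W) Γ(X, U) Γ(Z', V')).baseChange
          Γ(Z, i ⁻¹ᵁ V')) t)) := by
    intro t
    induction t using TensorProduct.induction_on with
    | zero => simp only [map_zero]
    | tmul b m =>
      change ((Scheme.Modules.pullback i).map c).app (i ⁻¹ᵁ V') (eM (b ⊗ₜ e m)) =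
        eN (b ⊗ₜ e₂ (KaehlerDifferential.mapBaseChange Γ(S, W) Γ(X, U) Γ(Z', V') m))
      rw [heM, heN, Scheme.Modules.Hom.app_smul,
        Groth.Agent.Lib.Helper49.UnitChart.pullSLE_naturality, hsqL, hLeq]
    | add a b ha hb =>
      simp only [map_add]
      rw [ha, hb]
  exact Groth.Agent.Lib.Helper51.OmegaUniv.app_bijective_of_chart_square i
    ((LinearEquiv.lTensor Γ(Z, i ⁻¹ᵁ V') e).toEquiv.trans eM.toEquiv)
    ((LinearEquiv.lTensor Γ(Z, i ⁻¹ᵁ V') e₂).toEquiv.trans eN.toEquiv)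
    ((KaehlerDifferential.mapBaseChange Γ(S, W) Γ(X, U) Γ(Z', V')).baseChange Γ(Z, i ⁻¹ᵁ V'))
    key hbij

end Groth.Agent.S9783
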