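import Groth.Statements.S9784
-- import your own Groth.Agent.* helpers here
import Groth.Agent.Lib.Helper51.OmegaUniv.ConormalPullbackTriple
import Groth.Agent.Lib.Helper7.UnivThick.Basic
import Groth.Agent.S9741

set_option autoImplicit false
universe u
open OmegaSh

namespace Groth.Agent.S9784

open AlgebraicGeometry CategoryTheory Limits in
/-- Let i : Z ⟶ Y and b : Y ⟶ X be formally unramified, let (i' : Z ⟶ Z', c) be a first order thickening
over X that is universal for i ≫ b, (j : Y ⟶ Y', d) one universal for b, m : Z' ⟶ Y' the morphism of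
thickenings over X compatible with i, (i'' : Z ⟶ Z'', e) a first order thickening over Y that is
universal for i, and n : Z'' ⟶ Z' the morphism of thickenings over X extending the identity of Z.
Let ψ₁ : i^*C_{Y/Y'} ⟶ C_{Z/Z'} and ψ₂ : C_{Z/Z'} ⟶ C_{Z/Z''} be the canonical maps of conormal
sheaves induced by (i, m) and (id, n). These are the conormal sheaves C_{Y/X}, C_{Z/X}, C_{Z/Y} of
the formally unramified morphisms and the canonical maps between them. Then the sequence i^*C_{Y/X}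
⟶ C_{Z/X} ⟶ C_{Z/Y} ⟶ 0 they form is exact. -/
theorem result {Z Y X Z' Y' Z'' : Scheme.{u}} (i : Z ⟶ Y) (b : Y ⟶ X)
    [FormallyUnramified i] [FormallyUnramified b]
    (i' : Z ⟶ Z') (c : Z' ⟶ X) (hZ' : OmegaSh.IsUnivThickening (i ≫ b) i' c)
    (j : Y ⟶ Y') (d : Y' ⟶ X) (hY' : OmegaSh.IsUnivThickening b j d)
    (m : Z' ⟶ Y') (hm₁ : i' ≫ m = i ≫ j) (hm₂ : m ≫ d = c)
    (i'' : Z ⟶ Z'') (e : Z'' ⟶ Y) (hZ'' : OmegaSh.IsUnivThickening i i'' e)
    (n : Z'' ⟶ Z') (hn₁ : i'' ≫ n = i') (hn₂ : n ≫ c = e ≫ b)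
    (ψ₁ : (Scheme.Modules.pullback i).obj (Omega.conormal j) ⟶ Omega.conormal i') (hψ₁ : OmegaSh.IsConormalMap i' j m i ψ₁)
    (ψ₂ : (Scheme.Modules.pullback (𝟙 Z)).obj (Omega.conormal i') ⟶ Omega.conormal i'') (hψ₂ : OmegaSh.IsConormalMap i'' i' n (𝟙 Z) ψ₂) :
    ∃ w : (Scheme.Modules.pullback (𝟙 Z)).map ψ₁ ≫ ψ₂ = 0, (ShortComplex.mk _ _ w).Exact ∧ Epi ψ₂ := by
  have hcj : IsClosedImmersion j := hY'.1.1.1
  have hci'' : IsClosedImmersion i'' := hZ''.1.1.1
  -- the morphism of thickenings of S9741 is `m`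
  obtain ⟨m₀, hm₀, hm₀d, hT⟩ := Groth.Agent.S9741.result i b i' c hZ' j d hY'
  have hmm : m₀ = m := by
    obtain ⟨mm, -, huniq⟩ := hY'.2.2 Z Z' i' c i hZ'.1 hZ'.2.1
    rw [huniq m₀ ⟨hm₀, hm₀d⟩, huniq m ⟨hm₁, hm₂⟩]
  subst hmm
  have wsq : e ≫ j = n ≫ m₀ := by
    obtain ⟨mm, -, huniq⟩ := hY'.2.2 Z Z'' i'' (e ≫ b) i hZ''.1
      (by rw [← Category.assoc, hZ''.2.1])
    rw [huniq (e ≫ j) ⟨by rw [← Category.assoc, hZ''.2.1], by rw [Category.assoc, hY'.2.1]⟩,
      huniq (n ≫ m₀) ⟨by rw [← Category.assoc, hn₁, hm₁], by rw [Category.assoc, hm₂, hn₂]⟩]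
  have he1 : i'' ≫ pullback.lift e n wsq = (Iso.refl Z).hom ≫ pullback.lift i i' hm₀.symm := by
    apply pullback.hom_ext
    · rw [Category.assoc, pullback.lift_fst, Iso.refl_hom, Category.id_comp, pullback.lift_fst,
        hZ''.2.1]
    · rw [Category.assoc, pullback.lift_snd, Iso.refl_hom, Category.id_comp, pullback.lift_snd,
        hn₁]
  have hε : IsIso (pullback.lift e n wsq) :=
    Groth.Agent.Lib.Helper7.UnivThick.isIso_of_isUnivThickening i i i'' e
      (pullback.lift i i' hm₀.symm) (pullback.fst j m₀) hZ'' hT (Iso.refl Z)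
      (Category.id_comp i) (pullback.lift e n wsq) he1 (pullback.lift_fst _ _ _)
  have hpb : IsPullback n e m₀ j :=
    (IsPullback.of_iso_pullback ⟨wsq⟩ (asIso (pullback.lift e n wsq))
      (pullback.lift_fst _ _ _) (pullback.lift_snd _ _ _)).flip
  subst hn₁
  obtain ⟨w', hex, hepi⟩ := Groth.Agent.Lib.Helper51.OmegaUniv.conormal_pullback_triple
    j m₀ e n i'' i hpb hψ₁ hψ₂
  have hnat : (Scheme.Modules.pullback (𝟙 Z)).map ψ₁ ≫
      (Scheme.Modules.pullbackId Z).hom.app (Omega.conormal (i'' ≫ n)) =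
      (Scheme.Modules.pullbackId Z).hom.app ((Scheme.Modules.pullback i).obj (Omega.conormal j)) ≫
        ψ₁ := (Scheme.Modules.pullbackId Z).hom.naturality ψ₁
  have hmap : (Scheme.Modules.pullback (𝟙 Z)).map ψ₁ =
      (Scheme.Modules.pullbackId Z).hom.app ((Scheme.Modules.pullback i).obj (Omega.conormal j)) ≫
        ψ₁ ≫ (Scheme.Modules.pullbackId Z).inv.app (Omega.conormal (i'' ≫ n)) := by
    rw [← Category.assoc, ← hnat, Category.assoc, Iso.hom_inv_id_app]
    exact (Category.comp_id _).symm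
  have w : (Scheme.Modules.pullback (𝟙 Z)).map ψ₁ ≫ ψ₂ = 0 := by
    rw [hmap, Category.assoc, Category.assoc, w', comp_zero]
  have hiso : ShortComplex.mk ((Scheme.Modules.pullback (𝟙 Z)).map ψ₁) ψ₂ w ≅
      ShortComplex.mk ψ₁
        ((Scheme.Modules.pullbackId Z).inv.app (Omega.conormal (i'' ≫ n)) ≫ ψ₂) w' := by
    refine ShortComplex.isoMk
      ((Scheme.Modules.pullbackId Z).app ((Scheme.Modules.pullback i).obj (Omega.conormal j)))
      ((Scheme.Modules.pullbackId Z).app (Omega.conormal (i'' ≫ n))) (Iso.refl _) ?_ ?_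
    · exact hnat.symm
    · change (Scheme.Modules.pullbackId Z).hom.app (Omega.conormal (i'' ≫ n)) ≫
        ((Scheme.Modules.pullbackId Z).inv.app (Omega.conormal (i'' ≫ n)) ≫ ψ₂) = ψ₂ ≫ 𝟙 _
      rw [← Category.assoc, Iso.hom_inv_id_app, Category.comp_id]
      exact Category.id_comp _
  exact ⟨w, (ShortComplex.exact_iff_of_iso hiso).mpr hex, hepi⟩

end Groth.Agent.S9784
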