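import Groth.Statements.S9786
-- import your own Groth.Agent.* helpers here
import Groth.Agent.S9375
import Groth.Agent.S1302
import Groth.Agent.Lib.Helper51.UnivThickRetract
import Groth.Agent.Lib.Helper51.OmegaUniv.LocalRetract
import Groth.Agent.Lib.Helper51.OmegaUniv.ConormalSplit
import Groth.Agent.Lib.Helper7.FormallySmoothLift

set_option autoImplicit false
universe u
open OmegaSh

namespace Groth.Agent.S9786

open AlgebraicGeometry CategoryTheory Limits in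
/-- Let i : Z ⟶ X be a morphism and p : X ⟶ Y a formally smooth morphism (infinitesimal lifting against
square-zero thickenings of affine schemes) with i and i ≫ p formally unramified. Let (i' : Z ⟶ Z',
a) be the universal first-order thickening attached to i, (i'' : Z ⟶ Z'', b) the one attached to i ≫
p, and k : Z' ⟶ Z'' the morphism of thickenings (i' ≫ k = i'', k ≫ b = a ≫ p). Let d : O_{Z'} → Ω be
a universal derivation over Z'', ψ : C_{Z/Z''} ⟶ C_{Z/Z'} the canonical map of conormal sheaves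
induced by (id, k) and φ : C_{Z/Z'} ⟶ (i')^*Ω the map induced by d. Then 0 ⟶ C_{Z/Z''} ⟶ C_{Z/Z'} ⟶
(i')^*Ω ⟶ 0 is short exact and locally split: every point of Z has an open neighbourhood over which
ψ admits a left inverse. The published statement concerns the conormal–differential sequence of Z in
X over Y; this row states it on the thickenings Z ⊂ Z' ⟶ Z'', whose terms identify with the
published ones by the definition of the conormal sheaf of a formally unramified morphism and by the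
isomorphism of (i')^*Ω_{Z'/S} with i^*Ω_{X/S} for a universal thickening (with Ω_{Z'/Z''} =
Ω_{Z'/Y}, as Z'' ⟶ Y is formally unramified). -/
theorem result {Z X Y Z' Z'' : Scheme.{u}} (i : Z ⟶ X) (p : X ⟶ Y)
    (hp : MoreMor.IsFormallySmoothHom p) [FormallyUnramified i] [FormallyUnramified (i ≫ p)]
    (i' : Z ⟶ Z') (a : Z' ⟶ X) (hZ' : OmegaSh.IsUnivThickening i i' a)
    (i'' : Z ⟶ Z'') (b : Z'' ⟶ Y) (hZ'' : OmegaSh.IsUnivThickening (i ≫ p) i'' b)
    (k : Z' ⟶ Z'') (hk₁ : i' ≫ k = i'') (hk₂ : k ≫ b = a ≫ p)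
    (Ω : Z'.Modules) (d : OmegaSh.Der k Ω) (hd : OmegaSh.IsUniversal d)
    (ψ : (Scheme.Modules.pullback (𝟙 Z)).obj (Omega.conormal i'') ⟶ Omega.conormal i') (hψ : OmegaSh.IsConormalMap i' i'' k (𝟙 Z) ψ)
    (φ : Omega.conormal i' ⟶ (Scheme.Modules.pullback i').obj Ω) (hφ : OmegaSh.IsConormalDiff i' d φ) :
    ∃ w : ψ ≫ φ = 0, (ShortComplex.mk ψ φ w).ShortExact ∧
      ∀ z : Z, ∃ (U : Z.Opens) (r : (Scheme.Modules.restrictFunctor U.ι).obj (Omega.conormal i') ⟶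
          (Scheme.Modules.restrictFunctor U.ι).obj ((Scheme.Modules.pullback (𝟙 Z)).obj (Omega.conormal i''))),
        z ∈ U ∧ (Scheme.Modules.restrictFunctor U.ι).map ψ ≫ r = 𝟙 _ := by
  subst hk₁
  have hic' : IsClosedImmersion i' := hZ'.1.1.1
  have hic'' : IsClosedImmersion (i' ≫ k) := hZ''.1.1.1
  have hs' : Surjective i' := hZ'.1.1.2
  have hia : i' ≫ a = i := hZ'.2.1
  have hib : (i' ≫ k) ≫ b = i ≫ p := hZ''.2.1
  obtain ⟨w, hex, hepi⟩ := Groth.Agent.S9375.result k i' (i' ≫ k) rfl Ω d hd ψ hψ φ hφ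
  have hqNi : (Omega.conormal i').IsQuasicoherent :=
    Groth.Agent.Lib.Helper16.FlatPull.isQuasicoherent_pullback i' (ClSub.idealMod i'.ker)
  have hqNj : (Omega.conormal (i' ≫ k)).IsQuasicoherent :=
    Groth.Agent.Lib.Helper16.FlatPull.isQuasicoherent_pullback (i' ≫ k)
      (ClSub.idealMod (i' ≫ k).ker)
  have hqNj' : ((Scheme.Modules.pullback (𝟙 Z)).obj (Omega.conormal (i' ≫ k))).IsQuasicoherent :=
    Groth.Agent.Lib.Helper16.FlatPull.isQuasicoherent_pullback (𝟙 Z) (Omega.conormal (i' ≫ k))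
  have chart : ∀ z : Z, ∃ W : Z.Opens, IsAffineOpen W ∧ z ∈ W ∧
      ∃ ρ : Γ(Omega.conormal i', W) →ₗ[Γ(Z, W)]
        Γ((Scheme.Modules.pullback (𝟙 Z)).obj (Omega.conormal (i' ≫ k)), W),
        ∀ m, ρ (ψ.app W m) = m := by
    intro z
    obtain ⟨UY, hUY, hzUY, -⟩ := exists_isAffineOpen_mem_and_subset
      (x := p (i z)) (U := ⊤) trivial
    obtain ⟨UX, hUX, hzUX, hUXY⟩ := exists_isAffineOpen_mem_and_subset
      (x := i z) (U := p ⁻¹ᵁ UY) hzUY
    have hemb : Topology.IsClosedEmbedding (i' ≫ k) := (i' ≫ k).isClosedEmbedding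
    have hhomeo : IsHomeomorph (i' ≫ k) :=
      isHomeomorph_iff_isEmbedding_surjective.mpr ⟨hemb.isEmbedding, hZ''.1.1.2.surj⟩
    have hopen : IsOpen ((i' ≫ k) '' (i ⁻¹ᵁ UX : Set Z)) :=
      hhomeo.isOpenMap _ (i ⁻¹ᵁ UX).isOpen
    have hzb : (i' ≫ k) z ∈ b ⁻¹ᵁ UY := by
      change b ((i' ≫ k) z) ∈ UY
      rw [← Scheme.Hom.comp_apply, hib, Scheme.Hom.comp_apply]
      exact hzUY
    obtain ⟨V'', hV'', hzV'', hV''le⟩ := exists_isAffineOpen_mem_and_subset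
      (x := (i' ≫ k) z) (U := (⟨_, hopen⟩ : Z''.Opens) ⊓ b ⁻¹ᵁ UY) ⟨⟨z, hzUX, rfl⟩, hzb⟩
    have hV''UY : V'' ≤ b ⁻¹ᵁ UY := fun y hy => (hV''le hy).2
    have hW : IsAffineOpen ((i' ≫ k) ⁻¹ᵁ V'') := hV''.preimage (i' ≫ k)
    have hV' : IsAffineOpen (k ⁻¹ᵁ V'') :=
      Groth.Agent.S1302.isAffineOpen_of_thickening i' hs'.surj (k ⁻¹ᵁ V'') hW
    have hV'UX : k ⁻¹ᵁ V'' ≤ a ⁻¹ᵁ UX := by
      intro x hx
      obtain ⟨y, rfl⟩ := hs'.surj x
      obtain ⟨y₀, hy₀, hy₀e⟩ := (hV''le hx).1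
      have : y₀ = y := hemb.injective hy₀e
      subst this
      change a (i' y₀) ∈ UX
      rw [← Scheme.Hom.comp_apply, hia]
      exact hy₀
    have hA := Groth.Agent.Lib.Helper51.UnivThickRing.ringUniv_of_isUnivThickening i i' a hZ'
      hUX hV' hV'UX
    have hR := Groth.Agent.Lib.Helper51.UnivThickRing.ringUniv_of_isUnivThickening (i ≫ p)
      (i' ≫ k) b hZ'' hUY hV'' hV''UY
    have hsm : (p.appLE UY UX hUXY).hom.FormallySmooth :=
      Groth.Agent.Lib.Helper7.ringLevel_of_isFormallySmoothHom p hp UX UY hUX hUY hUXY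
    have hsurjA : Function.Surjective ((i' ≫ k).app V'').hom := (i' ≫ k).app_surjective V'' hV''
    have hker : RingHom.ker ((i' ≫ k).app V'').hom ^ 2 = ⊥ :=
      Groth.Agent.Lib.Helper7.ker_app_sq_eq_bot (i' ≫ k) hZ''.1.2 hV''
    have key : ∀ (f g : Z' ⟶ Y) (_ : f = g) (h1 : k ⁻¹ᵁ V'' ≤ f ⁻¹ᵁ UY)
        (h2 : k ⁻¹ᵁ V'' ≤ g ⁻¹ᵁ UY), f.appLE UY (k ⁻¹ᵁ V'') h1 = g.appLE UY (k ⁻¹ᵁ V'') h2 := by
      rintro f g rfl _ _; rfl
    have hcomm : b.appLE UY V'' hV''UY ≫ k.app V'' =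
        p.appLE UY UX hUXY ≫ a.appLE UX (k ⁻¹ᵁ V'') hV'UX := by
      rw [Scheme.Hom.app_eq_appLE, Scheme.Hom.appLE_comp_appLE, Scheme.Hom.appLE_comp_appLE]
      exact key _ _ hk₂ _ _
    obtain ⟨l, hl1, hl2⟩ := Groth.Agent.Lib.Helper51.UnivThickRing.exists_retraction_of_ringUniv
      (p.appLE UY UX hUXY) (a.appLE UX (k ⁻¹ᵁ V'') hV'UX) (b.appLE UY V'' hV''UY) (k.app V'')
      (i'.app (k ⁻¹ᵁ V'')) hsm hsurjA hker hcomm hA hR
    obtain ⟨ρ, hρ⟩ := Groth.Agent.Lib.Helper51.OmegaUniv.conormalMap_retraction_chart k i'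
      (i' ≫ k) rfl hψ hV'' hV' le_rfl rfl hW hsurjA l.hom
      (fun y => by
        have := congr($(hl1).hom y)
        rw [Scheme.Hom.appLE_eq_app]
        exact this)
      (fun x => by
        have h1 : (k.app V'' ≫ i'.app (k ⁻¹ᵁ V'')).hom (l.hom x) = (i'.app (k ⁻¹ᵁ V'')).hom x :=
          congr($(hl2).hom x)
        have h2 : i'.appLE (k ⁻¹ᵁ V'') (i' ⁻¹ᵁ (k ⁻¹ᵁ V'')) le_rfl = i'.app (k ⁻¹ᵁ V'') :=
          Scheme.Hom.appLE_eq_app i'
        exact h1.trans (congr($(h2.symm).hom x)))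
    exact ⟨(i' ≫ k) ⁻¹ᵁ V'', hW, hzV'', ρ, hρ⟩
  have hmono : Mono ψ := by
    apply Groth.Agent.Lib.Helper51.OmegaUniv.mono_of_app_injective_of_cover
    intro z
    obtain ⟨W, hW, hzW, ρ, hρ⟩ := chart z
    exact ⟨W, hW, hzW, Function.LeftInverse.injective (g := ρ) hρ⟩
  refine ⟨w, { exact := hex, mono_f := hmono, epi_g := hepi }, ?_⟩
  intro z
  obtain ⟨W, hW, hzW, ρ, hρ⟩ := chart z
  obtain ⟨r, hr⟩ := Groth.Agent.Lib.Helper51.OmegaUniv.exists_retraction_restrict ψ hW ρ hρ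
  exact ⟨W, r, hzW, hr⟩

end Groth.Agent.S9786
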