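import Groth.Statements.S9791
import Mathlib
import Groth.Agent.Lib.Helper78.NormCompare
import Groth.Agent.Lib.Helper38.NormSch2

set_option autoImplicit false
universe u
open CategoryTheory CategoryTheory.Limits AlgebraicGeometry
open FlatMor

namespace Groth.Agent.S9791

section Helpers

open Groth.Agent.Lib.Helper78.NormCompare

/-- A flat morphism of irreducible schemes maps the generic point to the generic point. -/
theorem map_genericPoint_of_flat {X Y : Scheme.{u}} [IrreducibleSpace X] [IrreducibleSpace Y]
    (f : X ⟶ Y) [Flat f] : f.base (genericPoint X) = genericPoint Y := by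
  obtain ⟨x', hx', hfx'⟩ := Flat.generalizingMap f (genericPoint_specializes (f.base (genericPoint X)))
  have : x' = genericPoint X := (hx'.antisymm (genericPoint_specializes x')).eq
  rw [← this]; exact hfx'

/-- The generic point is the only point of an irreducible scheme whose closure is an irreducible
component. -/
theorem eq_genericPoint_of_mem_irreducibleComponents' (X : Scheme.{u}) [IrreducibleSpace X] (x : X)
    (hx : closure ({x} : Set X) ∈ irreducibleComponents (X : Type u)) : x = genericPoint X := by
  rw [irreducibleComponents_eq_singleton, Set.mem_singleton_iff] at hx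
  exact (show IsGenericPoint x Set.univ from hx).eq (genericPoint_spec X)

variable {X Y : Scheme.{u}} (f : X ⟶ Y) [Smooth f] [IsIntegral X] [IsIntegral Y]
  [QuasiCompact (X.fromSpecStalk (genericPoint X))] [QuasiSeparated (X.fromSpecStalk (genericPoint X))]
  [QuasiCompact (Y.fromSpecStalk (genericPoint Y))] [QuasiSeparated (Y.fromSpecStalk (genericPoint Y))]

/-- The normalization of `X` in the generic fibre of `f` is the normalization of `X`. -/
theorem exists_iso_normalization_genericFibre :
    ∃ a : (X.fromSpecStalk (genericPoint X)).normalization ≅
        (pullback.snd (Y.fromSpecStalk (genericPoint Y)) f).normalization,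
      a.hom ≫ (pullback.snd (Y.fromSpecStalk (genericPoint Y)) f).fromNormalization =
        (X.fromSpecStalk (genericPoint X)).fromNormalization := by
  set φY := Y.fromSpecStalk (genericPoint Y) with hφY
  set φX := X.fromSpecStalk (genericPoint X) with hφX
  let h : pullback φY f ⟶ X := pullback.snd φY f
  -- the generic fibre is normal
  have hZ : Pi1.IsNormalScheme (pullback φY f) := fun z =>
    Groth.Agent.Lib.Helper78.isIntegrallyClosed_stalk_of_smooth_field Y.functionField
      (pullback.fst φY f) z
  -- the canonical point
  have hgen : f.base (genericPoint X) = genericPoint Y := map_genericPoint_of_flat f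
  have hsp : f.base (genericPoint X) ⤳ genericPoint Y := specializes_of_eq hgen
  let θ : Y.presheaf.stalk (genericPoint Y) ⟶ X.presheaf.stalk (genericPoint X) :=
    Y.presheaf.stalkSpecializes hsp ≫ f.stalkMap (genericPoint X)
  have hθ : Spec.map θ ≫ φY = φX ≫ f := by
    rw [Spec.map_comp, Category.assoc, Scheme.SpecMap_stalkSpecializes_fromSpecStalk,
      Scheme.SpecMap_stalkMap_fromSpecStalk]
  let ψ : Spec (X.presheaf.stalk (genericPoint X)) ⟶ pullback φY f :=
    pullback.lift (Spec.map θ) φX hθ
  have hψ : ψ ≫ h = φX := pullback.lift_snd _ _ _
  -- topology of the generic fibre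
  let z₀ : ↥(pullback φY f) := ψ.base (IsLocalRing.closedPoint (X.presheaf.stalk (genericPoint X)))
  have hz₀ : h.base z₀ = genericPoint X := by
    have h1 : h.base z₀ = φX.base (IsLocalRing.closedPoint (X.presheaf.stalk (genericPoint X))) := by
      rw [← hψ]; rfl
    rw [h1]
    exact Scheme.fromSpecStalk_closedPoint
  have hspec : ∀ z : ↥(pullback φY f), z₀ ⤳ z := by
    intro z
    rw [← h.isEmbedding.specializes_iff, hz₀]
    exact genericPoint_specializes _
  have hdomψ : IsDominant ψ := by
    constructor
    intro z
    have h1 : z ∈ closure ({z₀} : Set ↥(pullback φY f)) := (hspec z).mem_closure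
    exact closure_mono (Set.singleton_subset_iff.mpr (Set.mem_range_self _)) h1
  have hdom : ∀ z : ↥(pullback φY f), closure {z} ∈ irreducibleComponents ↥(pullback φY f) →
      h.base z = genericPoint X := by
    intro z hz
    have h1 : closure ({z} : Set ↥(pullback φY f)) ⊆ closure {z₀} :=
      (hspec z).closure_subset
    have h2 : IsIrreducible (closure ({z₀} : Set ↥(pullback φY f))) :=
      isIrreducible_singleton.closure
    have h3 : closure ({z₀} : Set ↥(pullback φY f)) ⊆ closure {z} := hz.2 h2 h1
    have h4 : z ⤳ z₀ := specializes_iff_mem_closure.mpr (h3 (subset_closure rfl))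
    have h5 : h.base z ⤳ genericPoint X := hz₀ ▸ h4.map h.continuous
    exact (h5.antisymm (genericPoint_specializes _)).eq
  exact exists_iso_normalization X h hZ hdom ψ hψ

end Helpers

/-- In the case of integral schemes: let f : X ⟶ Y be a smooth morphism with X and Y integral, and let
X^ν ⟶ X and Y^ν ⟶ Y be the normalizations (in the function fields). Then X^ν is isomorphic over X to
the fibre product X ×_Y Y^ν, and such an isomorphism is unique. (The published statement requires
only that each quasi-compact open subset of Y meet finitely many irreducible components of Y, and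
also derives this for X; this row assumes X and Y integral, the case in which the normalization used
here is defined. The quasi-compactness and quasi-separatedness binders on Spec K(X) → X and Spec
K(Y) → Y always hold and are needed only to form the normalization.) -/
theorem result {X Y : Scheme.{u}} (f : X ⟶ Y) [Smooth f] [IsIntegral X] [IsIntegral Y]
    [QuasiCompact (X.fromSpecStalk (genericPoint X))] [QuasiSeparated (X.fromSpecStalk (genericPoint X))]
    [QuasiCompact (Y.fromSpecStalk (genericPoint Y))] [QuasiSeparated (Y.fromSpecStalk (genericPoint Y))] :
    ∃! e : Curv2.normalization X ≅ pullback f (Curv2.normalizationι Y),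
      e.hom ≫ pullback.fst f (Curv2.normalizationι Y) = Curv2.normalizationι X := by
  classical
  obtain ⟨a, ha⟩ := exists_iso_normalization_genericFibre f
  let φY := Y.fromSpecStalk (genericPoint Y)
  let φX := X.fromSpecStalk (genericPoint X)
  let NP : (pullback.snd φY f).normalization ⟶ pullback φY.fromNormalization f :=
    φY.normalizationPullback f
  have hNP : IsIso NP := inferInstanceAs (IsIso (φY.normalizationPullback f))
  let e₀ : φX.normalization ≅ pullback f φY.fromNormalization :=
    a ≪≫ asIso NP ≪≫ pullbackSymmetry _ _
  have he₀ : e₀.hom ≫ pullback.fst f φY.fromNormalization = φX.fromNormalization := by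
    change (a.hom ≫ NP ≫ (pullbackSymmetry _ _).hom) ≫ pullback.fst f φY.fromNormalization = _
    rw [Category.assoc, Category.assoc, pullbackSymmetry_hom_comp_fst]
    change a.hom ≫ φY.normalizationPullback f ≫ pullback.snd _ _ = _
    rw [Scheme.Hom.normalizationPullback_snd, ha]
  let e : Curv2.normalization X ≅ pullback f (Curv2.normalizationι Y) := e₀
  have he : e.hom ≫ pullback.fst f (Curv2.normalizationι Y) = Curv2.normalizationι X := he₀
  refine ⟨e, he, fun e' he' => ?_⟩
  apply Iso.ext
  apply pullback.hom_ext
  · rw [he', he]
  · -- uniqueness of lifts to the normalization of `Y`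
    have hN : Pi1.IsNormalScheme (Curv2.normalization X) :=
      Groth.Agent.Lib.Helper38.NormSch.isNormalScheme X
    have hgen : f.base (genericPoint X) = genericPoint Y := map_genericPoint_of_flat f
    have hdom : ∀ z : ↥(Curv2.normalization X),
        closure {z} ∈ irreducibleComponents ↥(Curv2.normalization X) →
          (Curv2.normalizationι X ≫ f).base z = genericPoint Y := by
      intro z hz
      obtain rfl := eq_genericPoint_of_mem_irreducibleComponents' _ z hz
      change f.base ((Curv2.normalizationι X).base (genericPoint ↥(Curv2.normalization X))) = _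
      rw [Groth.Agent.Lib.Helper38.NormSch.map_genericPoint X, hgen]
    obtain ⟨c, -, hc⟩ := Groth.Agent.S9690.result Y (Curv2.normalizationι X ≫ f) hN hdom
    have h1 : ∀ (t : Curv2.normalization X ≅ pullback f (Curv2.normalizationι Y)),
        t.hom ≫ pullback.fst f (Curv2.normalizationι Y) = Curv2.normalizationι X →
        t.hom ≫ pullback.snd f (Curv2.normalizationι Y) = c := by
      intro t ht
      apply hc
      rw [Category.assoc, ← pullback.condition, reassoc_of% ht]
    rw [h1 e' he', h1 e he]

end Groth.Agent.S9791
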