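import Groth.Statements.S9792
-- import your own Groth.Agent.* helpers here
import Mathlib.AlgebraicGeometry.Stalk
import Mathlib.AlgebraicGeometry.Noetherian
import Mathlib.RingTheory.Ideal.KrullsHeightTheorem
import Mathlib.Order.WellQuasiOrder

set_option autoImplicit false
universe u
open CategoryTheory AlgebraicGeometry TopologicalSpace
open Props

namespace Groth.Agent.S9792

/-- In a Noetherian scheme, every infinite set of points contains an infinite subset no two distinct
members of which are related by specialization. -/
theorem result (S : Scheme.{u}) [IsNoetherian S]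
    (T : Set S) (hT : T.Infinite) :
    ∃ T' : Set S, T' ⊆ T ∧ T'.Infinite ∧ ∀ a ∈ T', ∀ b ∈ T', a ⤳ b → a = b := by
  classical
  by_contra hcon
  push Not at hcon
  let _ : Preorder S := specializationPreorder S
  -- closures of points give a strictly monotone map to closed sets
  have hwfS : WellFoundedLT S := by
    have hns : NoetherianSpace S := inferInstance
    have hcl : WellFoundedLT (TopologicalSpace.Closeds S) :=
      ((TopologicalSpace.noetherianSpace_TFAE S).out 0 1).mp hns
    refine StrictMono.wellFoundedLT (f := fun s : S => TopologicalSpace.Closeds.closure {s}) ?_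
    intro a b hab
    obtain ⟨h1, h2⟩ : b ⤳ a ∧ ¬ a ⤳ b := hab
    refine lt_of_le_of_ne ?_ ?_
    · show closure {a} ⊆ closure {b}
      exact closure_minimal (Set.singleton_subset_iff.mpr (specializes_iff_mem_closure.mp h1))
        isClosed_closure
    · intro heq
      apply h2
      rw [specializes_iff_mem_closure]
      have : (closure {a} : Set S) = closure {b} := congrArg (fun Z : TopologicalSpace.Closeds S => (Z : Set S)) heq
      rw [this]
      exact subset_closure rfl
  have hwfT : WellFoundedLT ↥T := by
    refine StrictMono.wellFoundedLT (f := fun t : ↥T => (t : S)) ?_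
    intro a b hab
    exact hab
  -- antichains in `T` are finite
  have hanti : ∀ s : Set ↥T, IsAntichain (· ≤ ·) s → s.Finite := by
    intro s hs
    by_contra hinf
    have hinf' : (Subtype.val '' s).Infinite := (Set.infinite_image_iff Subtype.val_injective.injOn).mpr hinf
    obtain ⟨a, ⟨a', ha's, rfl⟩, b, ⟨b', hb's, rfl⟩, hab, hne⟩ :=
      hcon (Subtype.val '' s) (by rintro _ ⟨x, -, rfl⟩; exact x.2) hinf'
    have hne' : b' ≠ a' := fun h => hne (congrArg Subtype.val h.symm)
    exact hs hb's ha's hne' hab
  have hwqo : WellQuasiOrderedLE ↥T := wellQuasiOrderedLE_iff.mpr ⟨hwfT, hanti⟩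
  -- an injective sequence in `T`
  have : Infinite ↥T := hT.to_subtype
  let f : ℕ → ↥T := Infinite.natEmbedding ↥T
  have hf : Function.Injective f := (Infinite.natEmbedding ↥T).injective
  obtain ⟨g, hg⟩ := wellQuasiOrdered_le.exists_monotone_subseq f
  -- all `f (g n)` are generizations of `t₀ = f (g 0)`
  let t₀ : S := (f (g 0) : S)
  let R := S.presheaf.stalk t₀
  let φ := S.fromSpecStalk t₀
  have hrange : Set.range φ = {y | y ⤳ t₀} := S.range_fromSpecStalk
  have hind : Topology.IsInducing (fun q : PrimeSpectrum R => φ q) := φ.isEmbedding.isInducing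
  have hgen : ∀ n, ((f (g n) : ↥T) : S) ⤳ t₀ := fun n => hg 0 n (Nat.zero_le n)
  have hex : ∀ n, ∃ q : PrimeSpectrum R, φ q = ((f (g n) : ↥T) : S) := by
    intro n
    have : ((f (g n) : ↥T) : S) ∈ Set.range φ := by rw [hrange]; exact hgen n
    obtain ⟨q, hq⟩ := this
    exact ⟨q, hq⟩
  choose q hq using hex
  have hlt : ∀ n, (q (n + 1)).asIdeal.height < (q n).asIdeal.height := by
    intro n
    have hsp : φ (q (n + 1)) ⤳ φ (q n) := by
      rw [hq, hq]
      exact hg n (n + 1) (Nat.le_succ n)
    have hle : q (n + 1) ≤ q n := by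
      rw [PrimeSpectrum.le_iff_specializes, ← hind.specializes_iff]; exact hsp
    have hne : q (n + 1) ≠ q n := by
      intro h
      have h1 : ((f (g (n + 1)) : ↥T) : S) = ((f (g n) : ↥T) : S) := by rw [← hq, ← hq, h]
      have h2 : g (n + 1) = g n := hf (Subtype.ext h1)
      have := g.injective h2
      omega
    have hlt' : (q (n + 1)).asIdeal < (q n).asIdeal :=
      lt_of_le_of_ne hle (fun h => hne (PrimeSpectrum.ext h))
    exact Ideal.height_strict_mono_of_isPrime hlt'
  obtain ⟨n, hn⟩ := WellFounded.not_rel_apply_succ (r := ((· < ·) : ℕ∞ → ℕ∞ → Prop))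
    (fun n => (q n).asIdeal.height)
  exact hn (hlt n)

end Groth.Agent.S9792
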