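import Groth.Statements.S9793
-- import your own Groth.Agent.* helpers here
import Mathlib.AlgebraicGeometry.Stalk
import Mathlib.AlgebraicGeometry.Noetherian
import Mathlib.RingTheory.Ideal.KrullsHeightTheorem

set_option autoImplicit false
universe u
open CategoryTheory AlgebraicGeometry TopologicalSpace
open Props

namespace Groth.Agent.S9793

/-- Let S be a Noetherian scheme and T a set of points of S. Every point of T is a specialization of
some point of T which admits no non-trivial generization lying in T. -/
theorem result (S : Scheme.{u}) [IsNoetherian S]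
    (T : Set S) (t : S) (ht : t ∈ T) :
    ∃ t₀ ∈ T, (∀ t' ∈ T, t' ⤳ t₀ → t' = t₀) ∧ t₀ ⤳ t := by
  let R := S.presheaf.stalk t
  let φ := S.fromSpecStalk t
  have hrange : Set.range φ = {y | y ⤳ t} := S.range_fromSpecStalk
  have hind : Topology.IsInducing (fun q : PrimeSpectrum R => φ q) := φ.isEmbedding.isInducing
  let G : Set (PrimeSpectrum R) := {q | φ q ∈ T}
  have hG : G.Nonempty := ⟨IsLocalRing.closedPoint R, by
    show φ (IsLocalRing.closedPoint R) ∈ T
    rw [Scheme.fromSpecStalk_closedPoint]; exact ht⟩
  have hwf : WellFounded (InvImage (· < ·) (fun q : PrimeSpectrum R => q.asIdeal.height)) :=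
    InvImage.wf _ wellFounded_lt
  obtain ⟨q, hqG, hmin⟩ := hwf.has_min G hG
  have hqt : φ q ⤳ t := by
    have : φ q ∈ Set.range φ := ⟨q, rfl⟩
    rw [hrange] at this
    exact this
  refine ⟨φ q, hqG, ?_, hqt⟩
  intro t' ht' hsp
  have ht't : t' ⤳ t := hsp.trans hqt
  obtain ⟨q', hq'⟩ : ∃ q' : PrimeSpectrum R, φ q' = t' := by
    have : t' ∈ Set.range φ := by rw [hrange]; exact ht't
    obtain ⟨q', hq'⟩ := this
    exact ⟨q', hq'⟩
  subst hq'
  have hle : q' ≤ q := by
    rw [PrimeSpectrum.le_iff_specializes, ← hind.specializes_iff]; exact hsp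
  by_contra hne
  have hlt : q'.asIdeal < q.asIdeal :=
    lt_of_le_of_ne hle (fun h => hne (congrArg (fun q : PrimeSpectrum R => φ q) (PrimeSpectrum.ext h)))
  have := Ideal.height_strict_mono_of_isPrime hlt
  exact hmin q' ht' this

end Groth.Agent.S9793
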