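import Groth.Statements.S9800
-- import your own Groth.Agent.* helpers here
import Mathlib.RingTheory.DedekindDomain.PID
import Mathlib.RingTheory.RegularLocalRing.Defs
import Mathlib.AlgebraicGeometry.Noetherian

set_option autoImplicit false
universe u
open CategoryTheory AlgebraicGeometry TopologicalSpace
open Props

namespace Groth.Agent.S9800

/-- A locally Noetherian normal scheme of dimension at most one is regular, that is, all of its local
rings are regular local rings. -/
theorem result (X : Scheme.{u})
    [IsLocallyNoetherian X] (hN : Pi1.IsNormalScheme X) (hd : topologicalKrullDim X ≤ 1) (x : X) :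
    IsRegularLocalRing (X.presheaf.stalk x) := by
  obtain ⟨hdom, hic⟩ := hN x
  -- dimension bound for the stalk
  have hdim : ringKrullDim (X.presheaf.stalk x) ≤ 1 := by
    rw [← PrimeSpectrum.topologicalKrullDim_eq_ringKrullDim]
    exact ((X.fromSpecStalk x).isEmbedding.isInducing.topologicalKrullDim_le).trans hd
  have hK : Ring.KrullDimLE 1 (X.presheaf.stalk x) := Ring.krullDimLE_iff.mpr hdim
  have hD1 : Ring.DimensionLEOne (X.presheaf.stalk x) :=
    ⟨fun {p} hp hp' ↦ Ring.krullDimLE_one_iff_of_noZeroDivisors.mp hK p hp hp'⟩
  have hDR : IsDedekindRing (X.presheaf.stalk x) := { }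
  have hDD : IsDedekindDomain (X.presheaf.stalk x) := { }
  have hfin : {I : Ideal (X.presheaf.stalk x) | I.IsMaximal}.Finite := by
    refine (Set.finite_singleton (IsLocalRing.maximalIdeal (X.presheaf.stalk x))).subset ?_
    intro I hI
    exact IsLocalRing.eq_maximalIdeal hI
  have hPID : IsPrincipalIdealRing (X.presheaf.stalk x) :=
    IsPrincipalIdealRing.of_finite_maximals hfin
  infer_instance

end Groth.Agent.S9800
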