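import Groth.Statements.S9801
import Groth.Agent.H34.NormalDepth
import Groth.Agent.Lib.Helper28.RegularCM
import Groth.Agent.Lib.Helper29.DepthRees
import Groth.Agent.Lib.Helper29.DepthCM2

set_option autoImplicit false
universe u
open CategoryTheory AlgebraicGeometry TopologicalSpace
open Props

namespace Groth.Agent.S9801

open Groth.Agent.Lib.Helper29

/-- A Noetherian normal local domain of dimension at most one is a regular local ring. -/
theorem isRegularLocalRing_of_dim_le_one (A : Type u) [CommRing A] [IsDomain A]
    [IsNoetherianRing A] [IsLocalRing A] [IsIntegrallyClosed A] (hdim : ringKrullDim A ≤ 1) :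
    IsRegularLocalRing A := by
  have hK : Ring.KrullDimLE 1 A := Ring.krullDimLE_iff.mpr hdim
  have hD1 : Ring.DimensionLEOne A :=
    ⟨fun {p} hp hp' ↦ Ring.krullDimLE_one_iff_of_noZeroDivisors.mp hK p hp hp'⟩
  have hDR : IsDedekindRing A := { }
  have hDD : IsDedekindDomain A := { }
  have hfin : {I : Ideal A | I.IsMaximal}.Finite := by
    refine (Set.finite_singleton (IsLocalRing.maximalIdeal A)).subset ?_
    intro I hI
    exact IsLocalRing.eq_maximalIdeal hI
  have hPID : IsPrincipalIdealRing A := IsPrincipalIdealRing.of_finite_maximals hfin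
  infer_instance

/-- A Noetherian normal local domain of dimension at most two is Cohen–Macaulay. -/
theorem isCohenMacaulayLocalRing_of_dim_le_two (A : Type u) [CommRing A] [IsDomain A]
    [IsNoetherianRing A] [IsLocalRing A] [IsIntegrallyClosed A] (hdim : ringKrullDim A ≤ 2) :
    LocCoh.IsCohenMacaulayLocalRing A := by
  by_cases h1 : ringKrullDim A ≤ 1
  · have := isRegularLocalRing_of_dim_le_one A h1
    exact Groth.Agent.Lib.Helper28.isCohenMacaulayLocalRing_of_isRegularLocalRing A
  · refine { supportDim_eq_depth := ?_ }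
    obtain ⟨n, hn⟩ := exists_nat_supportDim_eq A A
    have hn' : ringKrullDim A = (n : WithBot ℕ∞) := by
      rw [← Module.supportDim_self_eq_ringKrullDim]; exact hn
    have hn2 : n = 2 := by
      rw [hn'] at h1 hdim
      have a1 : ¬ n ≤ 1 := fun h => h1 (by exact_mod_cast h)
      have a2 : n ≤ 2 := by exact_mod_cast hdim
      omega
    subst hn2
    have h2 : (2 : WithBot ℕ∞) ≤ ringKrullDim A := by rw [hn']; rfl
    have hd2 := Groth.Agent.H34.two_le_depth_of_isIntegrallyClosed A h2
    have hle := depth_le_supportDim A A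
    rw [hn] at hle ⊢
    have hle' : LocCoh.depth A A ≤ 2 := by
      have h3 : ((LocCoh.depth A A : ℕ∞) : WithBot ℕ∞) ≤ ((2 : ℕ∞) : WithBot ℕ∞) := hle
      exact WithBot.coe_le_coe.mp h3
    have : LocCoh.depth A A = 2 := le_antisymm hle' hd2
    rw [this]
    rfl

/-- A locally Noetherian normal scheme of dimension at most two is Cohen-Macaulay, that is, all of its
local rings are Cohen-Macaulay local rings. -/
theorem result (X : Scheme.{u})
    [IsLocallyNoetherian X] (hN : Pi1.IsNormalScheme X) (hd : topologicalKrullDim X ≤ 2) (x : X) :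
    LocCoh.IsCohenMacaulayLocalRing (X.presheaf.stalk x) := by
  obtain ⟨hdom, hic⟩ := hN x
  have hdim : ringKrullDim (X.presheaf.stalk x) ≤ 2 := by
    rw [← PrimeSpectrum.topologicalKrullDim_eq_ringKrullDim]
    exact ((X.fromSpecStalk x).isEmbedding.isInducing.topologicalKrullDim_le).trans hd
  exact isCohenMacaulayLocalRing_of_dim_le_two _ hdim


end Groth.Agent.S9801
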