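import Groth.Statements.S9802
import Mathlib
import Groth.Agent.Lib.Helper48.NagataClosed

set_option autoImplicit false
universe u
open CategoryTheory AlgebraicGeometry TopologicalSpace
open Props

namespace Groth.Agent.S9802

/-- A locally Noetherian scheme is Nagata (every affine open has a Nagata coordinate ring) if and only
if every integral closed subscheme is Japanese (every nonempty affine open of it has an N-2
coordinate ring). -/
theorem result (X : Scheme.{u})
    [IsLocallyNoetherian X] :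
    (∀ U : X.Opens, IsAffineOpen U → CAlg.IsNagata Γ(X, U)) ↔
      ∀ (Z : Scheme.{u}) (i : Z ⟶ X) [IsClosedImmersion i] [IsIntegral Z]
        (V : Z.Opens) [Nonempty V], IsAffineOpen V → CAlg.IsN2 Γ(Z, V) := by
  constructor
  · intro hN Z i _ _ V _ hV
    haveI : ∀ W : {W : X.affineOpens // Nonempty (i ⁻¹ᵁ W.1)}, Nonempty (i ⁻¹ᵁ W.1.1) :=
      fun W => W.2
    refine Groth.Agent.Lib.Helper48.isN2_affineOpen_of_cover Z
      (ι := {W : X.affineOpens // Nonempty (i ⁻¹ᵁ W.1)}) (fun W => i ⁻¹ᵁ W.1.1)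
      ?_ (fun W => W.1.2.preimage i) (fun W => ?_) V hV
    · rw [eq_top_iff]
      intro z _
      obtain ⟨_, ⟨W, hW, rfl⟩, hzW, -⟩ :=
        X.isBasis_affineOpens.exists_subset_of_mem_open (Set.mem_univ (i z)) isOpen_univ
      rw [TopologicalSpace.Opens.mem_iSup]
      exact ⟨⟨⟨W, hW⟩, ⟨⟨z, hzW⟩⟩⟩, hzW⟩
    · haveI : Nonempty (i ⁻¹ᵁ W.1.1) := W.2
      have hsurj : Function.Surjective (i.app W.1.1).hom := i.app_surjective W.1.1 W.1.2
      haveI : (RingHom.ker (i.app W.1.1).hom).IsPrime := RingHom.ker_isPrime _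
      exact Groth.Agent.Lib.Helper48.isN2_of_ringEquiv
        (RingHom.quotientKerEquivOfSurjective hsurj) ((hN W.1.1 W.1.2).2 _)
  · intro h U hU
    refine ⟨IsLocallyNoetherian.component_noetherian ⟨U, hU⟩, fun p hp => ?_⟩
    obtain ⟨Z, i, _, _, hne, haff, ⟨e⟩⟩ :=
      Groth.Agent.Lib.Helper48.exists_integral_closedSubscheme X U hU p
    exact Groth.Agent.Lib.Helper48.isN2_of_ringEquiv e.symm (h Z i (i ⁻¹ᵁ U) haff)

end Groth.Agent.S9802
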