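import Groth.Statements.S9804
-- import your own Groth.Agent.* helpers here
import Groth.Agent.Lib.Helper51.QuasiAffine

set_option autoImplicit false
universe u
open CategoryTheory AlgebraicGeometry TopologicalSpace
open Props

namespace Groth.Agent.S9804

/-- For quasi-affine schemes U and V and an open immersion j : U → V, the scheme U is the fibre product
of the composite U → V → Spec Γ(V, O_V) and the morphism Spec Γ(U, O_U) → Spec Γ(V, O_V) induced by
restriction of sections along j: the square whose sides are the identity of U, the canonical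
morphism U → Spec Γ(U, O_U), that composite and that induced morphism is cartesian. -/
theorem result {U V : Scheme.{u}} (j : U ⟶ V)
    [IsOpenImmersion j] [U.IsQuasiAffine] [V.IsQuasiAffine] :
    IsPullback (𝟙 U) U.toSpecΓ (j ≫ V.toSpecΓ) (Spec.map j.appTop) := by
  have hnat : U.toSpecΓ ≫ Spec.map j.appTop = j ≫ V.toSpecΓ := (Scheme.toSpecΓ_naturality j).symm
  apply IsOpenImmersion.isPullback
  · rw [Category.id_comp, hnat]
  · refine le_antisymm ?_ ?_
    · intro 𝔭 h𝔭
      -- a basic open `D(f)` of `Spec Γ(V)` around the image point, inside the range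
      have hq : (Spec.map j.appTop 𝔭 : PrimeSpectrum Γ(V, ⊤)) ∈
          (Set.range (j ≫ V.toSpecΓ) : Set (PrimeSpectrum Γ(V, ⊤))) := h𝔭
      obtain ⟨_, ⟨_, ⟨f, rfl⟩, rfl⟩, hpf, hfW⟩ := (PrimeSpectrum.isBasis_basic_opens
        (R := Γ(V, ⊤))).exists_subset_of_mem_open hq (j ≫ V.toSpecΓ).isOpenEmbedding.isOpen_range
      have hmem : 𝔭 ∈ (PrimeSpectrum.basicOpen (j.appTop.hom f) : Set (PrimeSpectrum Γ(U, ⊤))) := by
        have := PrimeSpectrum.comap_basicOpen j.appTop.hom f
        have h2 := congr(𝔭 ∈ $this)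
        exact h2.mp hpf
      have haff : IsAffineOpen (U.basicOpen (j.appTop.hom f)) := by
        rw [← Scheme.toSpecΓ_preimage_basicOpen]
        rw [← Scheme.Hom.isAffineOpen_iff_of_isOpenImmersion (j ≫ V.toSpecΓ)]
        have e : (j ≫ V.toSpecΓ) ''ᵁ (U.toSpecΓ ⁻¹ᵁ PrimeSpectrum.basicOpen (j.appTop.hom f)) =
            PrimeSpectrum.basicOpen f := by
          have e1 : U.toSpecΓ ⁻¹ᵁ PrimeSpectrum.basicOpen (j.appTop.hom f) =
              (j ≫ V.toSpecΓ) ⁻¹ᵁ PrimeSpectrum.basicOpen f := by
            rw [← hnat]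
            rfl
          rw [e1]
          exact SetLike.coe_injective (Set.image_preimage_eq_of_subset hfW)
        rw [e]
        exact IsAffineOpen.Spec_basicOpen f
      exact Groth.Agent.Lib.Helper51.basicOpen_subset_range_toSpecΓ U _ haff hmem
    · rintro _ ⟨u, rfl⟩
      refine ⟨u, ?_⟩
      rw [← hnat]
      rfl

end Groth.Agent.S9804
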