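import Groth.Statements.S9811
import Groth.Agent.Lib.Helper3.BranchSum
import Groth.Agent.Lib.Helper3.SHensQuot
import Groth.Agent.S9238
import Groth.Agent.S0537
import Groth.Agent.S0539

set_option autoImplicit false
universe u
open Brnch

namespace Groth.Agent.S9811

/-- Geometric branches, in terms of the local ring: for a local ring A with finitely many minimal prime
ideals, the number of geometric branches of A is the sum over the minimal primes p of the numbers of
geometric branches of the local domains A/p. -/
theorem result (A : Type u) [CommRing A] [IsLocalRing A]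
    (h : (minimalPrimes A).Finite) :
    Brnch.numGeomBranches A =
      ∑ᶠ p : minimalPrimes A,
        haveI : p.1.IsPrime := p.2.1.1
        Brnch.numGeomBranches (A ⧸ p.1) := by
  open Groth.Agent.Lib.Helper3 IsLocalRing in
  obtain ⟨S, _, _, _, _, hS⟩ := Groth.Agent.S0537.result A
  have hff : Module.FaithfullyFlat A S := Groth.Agent.S0539.result A S
  have hflat : Module.Flat A S := hff.toFlat
  rw [← Groth.Agent.S9238.result A S, ENat.card_coe_set_eq,
    Branch.encard_minimalPrimes_eq_finsum A S h]
  apply finsum_congr
  intro p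
  have hp : p.1.IsPrime := p.2.1.1
  have hple : p.1 ≤ maximalIdeal A := IsLocalRing.le_maximalIdeal hp.ne_top
  have hmS : (maximalIdeal S).comap (algebraMap A S) = maximalIdeal A :=
    ((local_hom_TFAE (algebraMap A S)).out 0 4 rfl rfl).mp inferInstance
  have hpS : p.1.map (algebraMap A S) ≤ maximalIdeal S := by
    rw [Ideal.map_le_iff_le_comap, hmS]
    exact hple
  have hnt : Nontrivial (S ⧸ p.1.map (algebraMap A S)) :=
    Ideal.Quotient.nontrivial_iff.mpr (fun h => (maximalIdeal.isMaximal S).ne_top
      (top_le_iff.mp (h ▸ hpS)))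
  have hlocS : IsLocalRing (S ⧸ p.1.map (algebraMap A S)) :=
    IsLocalRing.of_surjective' (Ideal.Quotient.mk _) Ideal.Quotient.mk_surjective
  have hlh : IsLocalHom (algebraMap (A ⧸ p.1) (S ⧸ p.1.map (algebraMap A S))) :=
    Branch.isLocalHom_quotient_map' A S p.1 hple
  have hH : Hensel.IsStrictHenselization (A ⧸ p.1) (S ⧸ p.1.map (algebraMap A S)) :=
    isStrictHenselization_quotient p.1
  rw [← Groth.Agent.S9238.result (A ⧸ p.1) (S ⧸ p.1.map (algebraMap A S)), ENat.card_coe_set_eq]
  exact Branch.encard_minimalPrimes_ideal _

end Groth.Agent.S9811
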