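import Groth.Statements.S9816
import Mathlib
import Groth.Agent.Lib.Helper11.RelAmpleProd

set_option autoImplicit false
universe u
open CategoryTheory CategoryTheory.Limits AlgebraicGeometry TopologicalSpace
open Props

namespace Groth.Agent.S9816

section helpers

open CategoryTheory CategoryTheory.Limits AlgebraicGeometry TopologicalSpace Opposite
open Groth.Agent.Lib.Helper11 Groth.Agent.Lib.Helper45 Groth.Agent.Lib.Helper49
  Groth.Agent.Lib.Helper45.RefHullBasic Groth.Agent.Lib.Helper11.GenLocus
  Groth.Agent.Lib.Helper11.IdealGen Groth.Agent.Lib.Helper11.MulHom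
  Groth.Agent.Lib.Helper11.CounitEpi Groth.Agent.Lib.Helper11.PullbackBasis
  Groth.Agent.Lib.Helper11.PullbackTensor Groth.Agent.Lib.Helper11.CounitEpi2
  Groth.Agent.Lib.Helper11.PullbackAmple Groth.Agent.Lib.Helper11.PullbackAmple2
  Groth.Agent.Lib.Helper11.RelAmpleBaseChange Groth.Agent.Lib.Helper11.RelAmpleComp
  Groth.Agent.Lib.Helper11.RelAmpleProd


theorem main_S9816 {X Y S : Scheme.{u}} [QuasiSeparatedSpace S]
    (f : X ⟶ S) (g : Y ⟶ S) (L : X.Modules) (N : Y.Modules) (hL : CohB1.IsAmple L) (hN : CohB1.IsAmple N) :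
    CohB1.IsAmple (CohB1.tensorMod ((Scheme.Modules.pullback (pullback.fst f g)).obj L)
      ((Scheme.Modules.pullback (pullback.snd f g)).obj N)) := by
  have hcX : CompactSpace X := hL.2.1
  have hcY : CompactSpace Y := hN.2.1
  let i : S ⟶ ⊤_ Scheme.{u} := terminal.from S
  let j : pullback f g ⟶ pullback (f ≫ i) (g ≫ i) :=
    pullback.map f g (f ≫ i) (g ≫ i) (𝟙 X) (𝟙 Y) i (Category.id_comp _).symm (Category.id_comp _).symm
  have hsq := pullback_map_diagonal_isPullback f g i
  have hqs : QuasiSeparated i := (quasiSeparatedSpace_iff_quasiSeparated S).mp inferInstance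
  have hjqc : QuasiCompact j := MorphismProperty.of_isPullback hsq (hqs.1)
  have hjim : IsImmersion j := MorphismProperty.of_isPullback hsq inferInstance
  have hqcg : QuasiCompact (g ≫ i) := by
    rw [terminalIsTerminal.hom_ext (g ≫ i) (terminal.from Y)]
    exact (compactSpace_iff_quasiCompact Y).mp hcY
  have hcP : CompactSpace ↥(pullback (f ≫ i) (g ≫ i)) :=
    QuasiCompact.compactSpace_of_compactSpace (pullback.fst (f ≫ i) (g ≫ i))
  have hT : IsAffine (⊤_ Scheme.{u}) := inferInstance
  have hM := isAmple_tensor_pullbacks (pullback.fst (f ≫ i) (g ≫ i)) (pullback.snd (f ≫ i) (g ≫ i))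
    hL hN (fun G₁ G₂ h₁ h₂ => isAffineOpen_pullback_inf h₁ h₂ (isAffineOpen_top (⊤_ Scheme.{u}))
      le_top le_top)
  have hcT : CompactSpace ↥(pullback f g) := QuasiCompact.compactSpace_of_compactSpace j
  have hjM := isAmple_pullback_of_isEmbedding' j j.isEmbedding hM
  refine isAmple_of_iso ?_ hjM
  have hB₁ := isInvertible_pullback (pullback.fst (f ≫ i) (g ≫ i)) hL.1
  have hB₂ := isInvertible_pullback (pullback.snd (f ≫ i) (g ≫ i)) hN.1
  refine pullbackTensorIso j _ _ hB₁ hB₂ ≪≫ tensorModCongr ?_ ?_
  · exact (Scheme.Modules.pullbackComp j (pullback.fst (f ≫ i) (g ≫ i))).app L ≪≫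
      (Scheme.Modules.pullbackCongr ((pullback.lift_fst _ _ _).trans (Category.comp_id _))).app L
  · exact (Scheme.Modules.pullbackComp j (pullback.snd (f ≫ i) (g ≫ i))).app N ≪≫
      (Scheme.Modules.pullbackCongr ((pullback.lift_snd _ _ _).trans (Category.comp_id _))).app N


end helpers

/-- Over a quasi-separated base S, if X and Y carry ample invertible modules L and N, then the tensor
product of their pullbacks along the two projections is an ample invertible module on the fibre
product of X and Y over S. -/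
theorem result {X Y S : Scheme.{u}} [QuasiSeparatedSpace S]
    (f : X ⟶ S) (g : Y ⟶ S) (L : X.Modules) (N : Y.Modules) (hL : CohB1.IsAmple L) (hN : CohB1.IsAmple N) :
    CohB1.IsAmple (CohB1.tensorMod ((Scheme.Modules.pullback (pullback.fst f g)).obj L)
      ((Scheme.Modules.pullback (pullback.snd f g)).obj N)) := by
  exact main_S9816 f g L N hL hN

end Groth.Agent.S9816
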