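import Groth.Statements.S9822
-- import your own Groth.Agent.* helpers here
import Mathlib.AlgebraicGeometry.Limits

set_option autoImplicit false
universe u
open CategoryTheory CategoryTheory.Limits AlgebraicGeometry TopologicalSpace Opposite
open Props

namespace Groth.Agent.S9822

/-- A scheme is irreducible if and only if it is nonempty and every nonempty affine open subset is
irreducible. -/
theorem result (X : Scheme.{u}) :
    IrreducibleSpace X ↔ Nonempty X ∧ ∀ U : X.Opens, IsAffineOpen U → (U : Set X).Nonempty → IsIrreducible (U : Set X) := by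
  constructor
  · intro h
    refine ⟨inferInstance, fun U _ hne ↦ ⟨hne, ?_⟩⟩
    exact (PreirreducibleSpace.isPreirreducible_univ (X := X)).open_subset U.2 (Set.subset_univ _)
  · rintro ⟨hne, h⟩
    have : PreirreducibleSpace X := by
      refine ⟨?_⟩
      rintro u v hu hv ⟨x, -, hx⟩ ⟨y, -, hy⟩
      obtain ⟨_, ⟨A, hA, rfl⟩, hxA, hAu⟩ := (X.isBasis_affineOpens).exists_subset_of_mem_open hx hu
      obtain ⟨_, ⟨B, hB, rfl⟩, hyB, hBv⟩ := (X.isBasis_affineOpens).exists_subset_of_mem_open hy hv
      by_cases hAB : ((A : Set X) ∩ (B : Set X)).Nonempty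
      · obtain ⟨z, hzA, hzB⟩ := hAB
        exact ⟨z, trivial, hAu hzA, hBv hzB⟩
      · exfalso
        have hdisj : Disjoint A B := by
          rw [← TopologicalSpace.Opens.coe_disjoint, Set.disjoint_iff_inter_eq_empty]
          exact Set.not_nonempty_iff_eq_empty.mp hAB
        have haff : IsAffineOpen (A ⊔ B) := IsAffineOpen.sup_of_disjoint hA hB hdisj
        have hirr := h (A ⊔ B) haff ⟨x, Or.inl hxA⟩
        obtain ⟨z, -, hzA, hzB⟩ := hirr.2 A B A.2 B.2 ⟨x, Or.inl hxA, hxA⟩ ⟨y, Or.inr hyB, hyB⟩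
        exact hAB ⟨z, hzA, hzB⟩
    exact ⟨hne⟩

end Groth.Agent.S9822
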