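import Groth.Statements.S9823
import Groth.Agent.Lib.Helper18.FTIdeal

set_option autoImplicit false
universe u
open CategoryTheory CategoryTheory.Limits AlgebraicGeometry TopologicalSpace Opposite
open Props

namespace Groth.Agent.S9823

/-- In a quasi-compact quasi-separated scheme, an open subset is quasi-compact exactly when its
complement is the support of some quasi-coherent ideal sheaf of finite type. -/
theorem result (X : Scheme.{u}) [CompactSpace X] [QuasiSeparatedSpace X]
    (U : X.Opens) :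
    IsCompact (U : Set X) ↔
      ∃ I : X.IdealSheafData, (∀ V : X.affineOpens, (I.ideal V).FG) ∧ (I.support : Set X) = (U : Set X)ᶜ := by
  classical
  obtain ⟨T, hT⟩ := Groth.Agent.Lib.Helper18.FTApprox.exists_finite_affine_cover X
  have hcov : ∀ x : X, ∃ V : ↥T, x ∈ V.1.1 := fun x =>
    TopologicalSpace.Opens.mem_iSup.mp (hT.ge (Set.mem_univ x))
  constructor
  · intro hU
    let Z : Closeds X := ⟨(U : Set X)ᶜ, U.2.isClosed_compl⟩
    -- finitely many basic opens covering `U ⊓ V`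
    have h1 : ∀ V : ↥T, ∃ S : Finset Γ(X, V.1.1), (∀ f ∈ S, X.basicOpen f ≤ U) ∧
        ((U : Set X) ∩ (V.1.1 : Set X)) ⊆ ⋃ f ∈ S, (X.basicOpen f : Set X) := by
      intro V
      have hc : IsCompact ((U : Set X) ∩ (V.1.1 : Set X)) :=
        QuasiSeparatedSpace.inter_isCompact _ _ U.2 hU V.1.1.2 V.1.2.isCompact
      have h2 : ∀ x : ↥(U ⊓ V.1.1), ∃ f : Γ(X, V.1.1), X.basicOpen f ≤ U ∧ x.1 ∈ X.basicOpen f :=
        fun x => V.1.2.exists_basicOpen_le ⟨x.1, x.2.1⟩ x.2.2
      choose f hfU hxf using h2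
      obtain ⟨t, ht⟩ := hc.elim_finite_subcover (fun x : ↥(U ⊓ V.1.1) => (X.basicOpen (f x) : Set X))
        (fun x => (X.basicOpen (f x)).2) (fun x hx => Set.mem_iUnion.mpr ⟨⟨x, hx⟩, hxf ⟨x, hx⟩⟩)
      refine ⟨t.image f, fun g hg => ?_, fun x hx => ?_⟩
      · obtain ⟨y, _, rfl⟩ := Finset.mem_image.mp hg
        exact hfU y
      · obtain ⟨y, hy⟩ := Set.mem_iUnion.mp (ht hx)
        obtain ⟨hyt, hxy⟩ := Set.mem_iUnion.mp hy
        exact Set.mem_iUnion.mpr ⟨f y, Set.mem_iUnion.mpr ⟨Finset.mem_image_of_mem f hyt, hxy⟩⟩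
    choose S hSU hScov using h1
    -- the sections lie in the vanishing ideal of the complement
    have hmem : ∀ (V : ↥T) (f : Γ(X, V.1.1)), X.basicOpen f ≤ U →
        f ∈ (Scheme.IdealSheafData.vanishingIdeal Z).ideal V.1 := by
      intro V f hf
      rw [Scheme.IdealSheafData.vanishingIdeal_ideal, PrimeSpectrum.mem_vanishingIdeal]
      intro p hp
      by_contra hfp
      have h3 : p ∈ (PrimeSpectrum.basicOpen f : Set (PrimeSpectrum Γ(X, V.1.1))) := hfp
      have h4 : p ∈ V.1.2.fromSpec ⁻¹ᵁ X.basicOpen f := by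
        rw [V.1.2.fromSpec_preimage_basicOpen]; exact h3
      exact hp (hf h4)
    obtain ⟨K, hKle, hKmem, hKfg⟩ := Groth.Agent.Lib.Helper18.FTApprox.exists_le_ft_mem_family
      (Scheme.IdealSheafData.vanishingIdeal Z) (ι := Σ V : ↥T, ↥(S V)) (fun i => i.1.1)
      (fun i => i.2.1) (fun i => hmem i.1 i.2.1 (hSU i.1 i.2.1 i.2.2))
    refine ⟨K, hKfg, ?_⟩
    apply Set.Subset.antisymm
    · intro x hx hxU
      obtain ⟨V, hxV⟩ := hcov x
      obtain ⟨f, hf⟩ := Set.mem_iUnion.mp (hScov V ⟨hxU, hxV⟩)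
      obtain ⟨hfS, hxf⟩ := Set.mem_iUnion.mp hf
      rw [SetLike.mem_coe, Scheme.IdealSheafData.mem_support_iff_of_mem hxV,
        Scheme.mem_zeroLocus_iff] at hx
      exact hx f (hKmem ⟨V, ⟨f, hfS⟩⟩) hxf
    · have h5 := Scheme.IdealSheafData.support_antitone hKle
      have h6 : ((Scheme.IdealSheafData.vanishingIdeal Z).support : Set X) = (U : Set X)ᶜ :=
        Scheme.IdealSheafData.coe_support_vanishingIdeal Z
      rw [← h6]
      exact h5
  · rintro ⟨I, hIfg, hIsupp⟩
    have h1 : (U : Set X) = ⋃ V : ↥T, ((U : Set X) ∩ (V.1.1 : Set X)) := by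
      ext x
      simp only [Set.mem_iUnion, Set.mem_inter_iff, exists_and_left]
      exact ⟨fun hx => ⟨hx, hcov x⟩, fun hx => hx.1⟩
    rw [h1]
    refine isCompact_iUnion fun V => ?_
    obtain ⟨S, hS⟩ := hIfg V.1
    have h2 : (U : Set X) ∩ (V.1.1 : Set X) = ⋃ f ∈ S, (X.basicOpen f : Set X) := by
      ext x
      simp only [Set.mem_iUnion, Set.mem_inter_iff, exists_prop]
      constructor
      · rintro ⟨hxU, hxV⟩
        have hx : x ∉ (I.support : Set X) := by rw [hIsupp]; exact fun h => h hxU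
        rw [SetLike.mem_coe, Scheme.IdealSheafData.mem_support_iff_of_mem hxV, ← hS,
          Scheme.zeroLocus_span, Scheme.mem_zeroLocus_iff] at hx
        push Not at hx
        obtain ⟨f, hfS, hxf⟩ := hx
        exact ⟨f, hfS, hxf⟩
      · rintro ⟨f, hfS, hxf⟩
        have hxV : x ∈ V.1.1 := X.basicOpen_le f hxf
        refine ⟨?_, hxV⟩
        by_contra hxU
        have hx : x ∈ (I.support : Set X) := by rw [hIsupp]; exact hxU
        rw [SetLike.mem_coe, Scheme.IdealSheafData.mem_support_iff_of_mem hxV, ← hS,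
          Scheme.zeroLocus_span, Scheme.mem_zeroLocus_iff] at hx
        exact hx f hfS hxf
    rw [h2]
    exact S.isCompact_biUnion fun f _ => (V.1.2.basicOpen f).isCompact

end Groth.Agent.S9823
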