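import Groth.Statements.S9831
import Groth.Agent.Lib.Helper18.LSubRestrict
import Groth.Agent.Lib.Helper18.FTApprox

set_option autoImplicit false
universe u
open CategoryTheory CategoryTheory.Limits AlgebraicGeometry TopologicalSpace Opposite
open Props

namespace Groth.Agent.S9831

/-- On a quasi-compact quasi-separated scheme, a quasi-coherent module of finite type on a quasi-compact
open U is the restriction of a quasi-coherent module of finite type on the whole scheme. -/
theorem result {X : Scheme.{u}} [CompactSpace X]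
    [QuasiSeparatedSpace X] (U : X.Opens) (hU : IsCompact (U : Set X)) (G : (U : Scheme.{u}).Modules)
    [Coh.IsQCoh G] (hG : CohB1.IsFT G) :
    ∃ G' : X.Modules, Coh.IsQCoh G' ∧ CohB1.IsFT G' ∧ Nonempty (G'.restrict U.ι ≅ G) := by
  classical
  have hqc : QuasiCompact U.ι := by
    rw [quasiCompact_iff]
    intro C hC hCc
    have h1 : IsCompact ((C : Set X) ∩ (U : Set X)) :=
      QuasiSeparatedSpace.inter_isCompact _ _ hC hCc U.2 hU
    have h2 : (C : Set X) ∩ (U : Set X) = U.ι '' (U.ι ⁻¹' C) := by
      rw [Set.image_preimage_eq_inter_range, Scheme.Opens.range_ι]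
    rw [h2] at h1
    exact U.ι.isOpenEmbedding.isInducing.isCompact_iff.mpr h1
  let F : X.Modules := (Scheme.Modules.pushforward U.ι).obj G
  have hF : F.IsQuasicoherent := Groth.Agent.Lib.Helper49.isQuasicoherent_pushforward G U.ι
  let i : G ⟶ F.restrict U.ι := ((Scheme.Modules.restrictFunctorAdjCounitIso U.ι).app G).inv
  have : Mono i := inferInstance
  obtain ⟨T, hT⟩ := Groth.Agent.Lib.Helper18.FTApprox.exists_finite_affine_cover X
  let ε := T.equivFin
  let V : Fin T.card → X.Opens := fun k => ((ε.symm k : ↥T) : X.affineOpens).1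
  have hV : ∀ l, IsAffineOpen (V l) := fun l => ((ε.symm l : ↥T) : X.affineOpens).2
  have hcov : ⨆ l, V l = ⊤ := by
    rw [← hT]
    exact ε.symm.iSup_comp (g := fun W : ↥T => (W.1 : X.affineOpens).1)
  have hW : ∀ l, IsCompact ((V l : Set X) ∩ ⋃ m ∈ Set.Iio l, (V m : Set X)) := by
    intro l
    rw [Set.inter_iUnion₂]
    refine (Set.finite_Iio l).isCompact_biUnion fun m _ => ?_
    exact QuasiSeparatedSpace.inter_isCompact _ _ (V l).2 (hV l).isCompact (V m).2 (hV m).isCompact
  have hW₀ : ∀ l, IsCompact ((V l : Set X) ∩ (U.ι.opensRange : Set X)) := by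
    intro l
    rw [Scheme.Opens.opensRange_ι]
    exact QuasiSeparatedSpace.inter_isCompact _ _ (V l).2 (hV l).isCompact U.2 hU
  obtain ⟨G', i', e, -, hq, hft, -⟩ :=
    Groth.Agent.Lib.Helper18.LSubM.exists_extension_of_mono i hG V hV hcov hW hW₀
  exact ⟨G', hq, hft, ⟨e⟩⟩

end Groth.Agent.S9831
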