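import Groth.Statements.S9836
import Mathlib
import Groth.Agent.Lib.Helper11.ClosedChangeRings
import Groth.Agent.Lib.Helper49.HomAdj
import Groth.Agent.Lib.Helper45.RefHullCoh
import Groth.Agent.Lib.Helper49.PushforwardFP

set_option autoImplicit false
universe u
open CategoryTheory CategoryTheory.Limits AlgebraicGeometry
open Props

namespace Groth.Agent.S9836

open Groth.Agent.Lib.Helper11.ClosedChangeRings Groth.Agent.Lib.Helper30.ModTensorAdj
  Groth.Agent.Lib.Helper30.ExtZero

/-- For a closed immersion i : Z → X with ideal sheaf of finite type and a quasi-coherent O_X-module F,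
the subsheaf of sections of F annihilated by the ideal, namely i_* Hom(O_Z, F) for the right adjoint
Hom(O_Z, -) of i_*, is a quasi-coherent O_X-module. -/
theorem result {Z X : Scheme.{u}} (i : Z ⟶ X)
    [IsClosedImmersion i] [LocallyOfFinitePresentation i] [Dual3.HasHomO i] (F : X.Modules) [Coh.IsQCoh F] :
    Coh.IsQCoh ((Scheme.Modules.pushforward i).obj ((Dual3.homO i).obj F)) := by
  let E : Z.Modules := ModSite.unit Z.sheaf
  let P : X.Modules := (Scheme.Modules.pushforward i).obj E
  let eΦ : Phi i E ≅ Scheme.Modules.pushforward i :=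
    Functor.isoWhiskerRight (tensorBiSymm Z.sheaf (ModSite.unit Z.sheaf) ≪≫ tensorUnitIso Z.sheaf) _ ≪≫
      Functor.leftUnitor _
  let adj1 : Scheme.Modules.pullback i ⋙ Scheme.Modules.pushforward i ⊣
      Dual3.homO i ⋙ Scheme.Modules.pushforward i :=
    (Scheme.Modules.pullbackPushforwardAdjunction i).comp (Dual3.homOAdj i)
  let e2 : (DCoh.tensorBi (X := X)).obj P ≅
      Scheme.Modules.pullback i ⋙ Scheme.Modules.pushforward i :=
    projNat i E ≪≫ Functor.isoWhiskerLeft _ eΦ
  have hS : DCoh.HasSheafHom P := ⟨_, ⟨adj1.ofNatIsoLeft e2.symm⟩⟩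
  let e3 : DCoh.sheafHom P ≅ Dual3.homO i ⋙ Scheme.Modules.pushforward i :=
    Adjunction.rightAdjointUniq (DCoh.sheafHomAdj P) (adj1.ofNatIsoLeft e2.symm)
  have e4 := Groth.Agent.Lib.Helper49.HomAdj.sheafHomIso P F
  have hE : CohB1.IsFP E := by
    have : (Coh.structureModule Z).IsQuasicoherent :=
      Groth.Agent.Lib.Helper45.isQuasicoherent_structureModule Z
    refine Groth.Agent.Lib.Helper49.isFinitePresentation_of_affine_cover (Coh.structureModule Z) fun x => ?_
    obtain ⟨U, hU, hxU⟩ : ∃ U : Z.Opens, IsAffineOpen U ∧ x ∈ U := by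
      obtain ⟨U, hU⟩ := Z.isBasis_affineOpens.exists_subset_of_mem_open (Set.mem_univ x) isOpen_univ
      obtain ⟨⟨V, hV, rfl⟩, hx, -⟩ := hU
      exact ⟨V, hV, hx⟩
    exact ⟨U, hU, hxU, Module.FinitePresentation.of_equiv
      (Groth.Agent.Lib.Helper49.unitSectionsEquiv Z U).symm⟩
  have hEq : E.IsQuasicoherent := Groth.Agent.Lib.Helper45.isQuasicoherent_structureModule Z
  have hP : CohB1.IsFP P :=
    Groth.Agent.Lib.Helper49.isFinitePresentation_pushforward_of_isFinite (f := i) (F := E) hE
  have hq := Groth.Agent.Lib.Helper45.RefHullCoh.isQuasicoherent_homSh P F hP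
  exact Groth.Agent.Lib.Helper49.isQuasicoherent_of_iso (e4.symm ≪≫ e3.app F) hq

end Groth.Agent.S9836
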