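import Groth.Statements.S9841
-- import your own Groth.Agent.* helpers here
import Groth.Agent.Lib.Helper54.Reduced

set_option autoImplicit false
open CategoryTheory CategoryTheory.Limits AlgebraicGeometry Opposite
universe u
open Desc

namespace Groth.Agent.S9841

/-- Being reduced is local in the smooth topology: for a jointly surjective family of smooth morphisms f
i : X i ⟶ S, the scheme S is reduced if and only if every X i is reduced. -/
theorem result {ι : Type u} {S : Scheme.{u}} {X : ι → Scheme.{u}} (f : ∀ i, X i ⟶ S)
    (hf : Presieve.ofArrows X f ∈ Scheme.precoverage @Smooth S) :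
    IsReduced S ↔ ∀ i, IsReduced (X i) := by
  rw [Scheme.ofArrows_mem_precoverage_iff] at hf
  obtain ⟨hsurj, hsm⟩ := hf
  constructor
  · intro hS i
    have := hsm i
    exact Groth.Agent.Lib.Helper54.isReduced_of_smooth_scheme (f i)
  · intro h
    have hred : IsReduced (∐ X) := by
      have : ∀ i, IsReduced ((sigmaOpenCover X).X i) := fun i => h i
      exact IsReduced.of_openCover _ (sigmaOpenCover X)
    have hs : Surjective (Sigma.desc f) := by
      apply Surjective.sigmaDesc_of_union_range_eq_univ
      rw [Set.eq_univ_iff_forall]
      intro x
      obtain ⟨i, hi⟩ := hsurj x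
      exact Set.mem_iUnion.2 ⟨i, hi⟩
    have hfl : ∀ i, Flat (f i) := fun i => by
      have := hsm i
      infer_instance
    exact Groth.Agent.Lib.Helper54.isReduced_of_flat_of_surjective (Sigma.desc f)

end Groth.Agent.S9841
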