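import Groth.Statements.S9843
-- import your own Groth.Agent.* helpers here

set_option autoImplicit false
open CategoryTheory CategoryTheory.Limits AlgebraicGeometry Opposite
universe u
open Desc

namespace Groth.Agent.S9843

/-- Being dominant is fppf local on the base: for every fppf covering family Y i ⟶ Y (flat, locally of
finite presentation, jointly surjective), a morphism X ⟶ Y is dominant if and only if all its base
changes X ×_Y Y i ⟶ Y i are. -/
theorem result :
    MorphismProperty.IsLocalAtTarget (@IsDominant : MorphismProperty Scheme.{u}) Scheme.fppfPrecoverage := by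
  refine MorphismProperty.IsLocalAtTarget.mk_of_iff_of_zeroHypercover fun {X Y} f 𝒰 ↦ ?_
  have hmem := 𝒰.mem₀
  unfold Scheme.fppfPrecoverage at hmem
  rw [Scheme.ofArrows_mem_precoverage_iff] at hmem
  obtain ⟨hsurj, hP⟩ := hmem
  constructor
  · intro hf i
    have : Flat (𝒰.f i) := (hP i).1
    have : LocallyOfFinitePresentation (𝒰.f i) := (hP i).2
    refine ⟨?_⟩
    rw [DenseRange, Scheme.Pullback.range_snd]
    rw [dense_iff_inter_open]
    intro V hV hVne
    have hopen : IsOpen ((𝒰.f i) '' V) := (𝒰.f i).isOpenMap V hV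
    have hne : ((𝒰.f i) '' V).Nonempty := hVne.image _
    obtain ⟨y, hy1, hy2⟩ := (dense_iff_inter_open.mp hf.denseRange) _ hopen hne
    obtain ⟨v, hv, rfl⟩ := hy1
    exact ⟨v, hv, hy2⟩
  · intro h
    refine ⟨?_⟩
    rw [DenseRange, dense_iff_inter_open]
    intro V hV ⟨y, hy⟩
    obtain ⟨i, y', rfl⟩ := hsurj y
    have hd := (h i).denseRange
    rw [DenseRange, Scheme.Pullback.range_snd, dense_iff_inter_open] at hd
    obtain ⟨z, hz1, hz2⟩ := hd ((𝒰.f i) ⁻¹' V) (hV.preimage (𝒰.f i).continuous) ⟨y', hy⟩
    exact ⟨_, hz1, hz2⟩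

end Groth.Agent.S9843
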