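import Groth.Statements.S9845
-- import your own Groth.Agent.* helpers here

set_option autoImplicit false
open CategoryTheory CategoryTheory.Limits AlgebraicGeometry Opposite
universe u
open Desc

namespace Groth.Agent.S9845

/-- Being an open morphism (open underlying map) is fppf local on the source: for every fppf covering
family g i : X i ⟶ X, a morphism f : X ⟶ Y has open underlying map if and only if every composite g
i ≫ f does. -/
theorem result :
    MorphismProperty.IsLocalAtSource (topologically (fun f => IsOpenMap f) : MorphismProperty Scheme.{u})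
      Scheme.fppfPrecoverage := by
  refine MorphismProperty.IsLocalAtSource.mk_of_iff_of_zeroHypercover fun {X Y} f 𝒰 ↦ ?_
  have hmem := 𝒰.mem₀
  unfold Scheme.fppfPrecoverage at hmem
  rw [Scheme.ofArrows_mem_precoverage_iff] at hmem
  obtain ⟨hsurj, hP⟩ := hmem
  constructor
  · intro hf i
    have : Flat (𝒰.f i) := (hP i).1
    have : LocallyOfFinitePresentation (𝒰.f i) := (hP i).2
    exact IsOpenMap.comp (g := f) (f := 𝒰.f i) hf (𝒰.f i).isOpenMap
  · intro h U hU
    have : (f : X → Y) '' U = ⋃ i, ((𝒰.f i ≫ f : 𝒰.X i ⟶ Y) : 𝒰.X i → Y) '' ((𝒰.f i) ⁻¹' U) := by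
      ext y
      simp only [Set.mem_image, Set.mem_iUnion, Set.mem_preimage, Scheme.Hom.comp_apply]
      constructor
      · rintro ⟨x, hx, rfl⟩
        obtain ⟨i, z, rfl⟩ := hsurj x
        exact ⟨i, z, hx, rfl⟩
      · rintro ⟨i, z, hz, rfl⟩
        exact ⟨_, hz, rfl⟩
    rw [this]
    exact isOpen_iUnion fun i ↦ h i _ (hU.preimage (𝒰.f i).continuous)

end Groth.Agent.S9845
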