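import Groth.Statements.S9847
-- import your own Groth.Agent.* helpers here
import Groth.Agent.H53.SourceLocal

set_option autoImplicit false
open CategoryTheory CategoryTheory.Limits AlgebraicGeometry Opposite
universe u
open Desc

namespace Groth.Agent.S9847

/-- Being etale is etale local on the source: for every etale covering family g i : X i ⟶ X (etale,
jointly surjective), a morphism f : X ⟶ Y is etale if and only if every composite g i ≫ f is. -/
theorem result :
    MorphismProperty.IsLocalAtSource (@Etale : MorphismProperty Scheme.{u}) Scheme.etalePrecoverage := by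
  refine MorphismProperty.IsLocalAtSource.mk_of_iff_of_zeroHypercover fun {X Y} f 𝒰 ↦ ?_
  have hmem := 𝒰.mem₀
  unfold Scheme.etalePrecoverage at hmem
  rw [Scheme.ofArrows_mem_precoverage_iff] at hmem
  obtain ⟨hsurj, hP⟩ := hmem
  constructor
  · intro hf i
    have : Etale (𝒰.f i) := hP i
    infer_instance
  · intro h
    choose i hi using hsurj
    have hg : Etale (Sigma.desc (fun x : X => 𝒰.f (i x))) :=
      IsZariskiLocalAtSource.sigmaDesc (fun x => hP (i x))
    have hs : Surjective (Sigma.desc (fun x : X => 𝒰.f (i x))) := by
      apply Surjective.sigmaDesc_of_union_range_eq_univ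
      rw [Set.eq_univ_iff_forall]
      intro x
      exact Set.mem_iUnion.2 ⟨x, hi x⟩
    have hgf : Etale (Sigma.desc (fun x : X => 𝒰.f (i x)) ≫ f) := by
      have : Sigma.desc (fun x : X => 𝒰.f (i x)) ≫ f = Sigma.desc (fun x : X => 𝒰.f (i x) ≫ f) := by
        apply Sigma.hom_ext
        intro x
        rw [Sigma.ι_desc_assoc, Sigma.ι_desc]
      rw [this]
      exact IsZariskiLocalAtSource.sigmaDesc (fun x => h (i x))
    exact Groth.Agent.H53.etale_of_comp_etale_surjective _ f hgf

end Groth.Agent.S9847
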