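import Groth.Statements.S9852
-- import your own Groth.Agent.* helpers here
import Groth.Agent.Lib.Helper51.DescFam
import Mathlib.AlgebraicGeometry.Morphisms.Flat

set_option autoImplicit false
open CategoryTheory CategoryTheory.Limits AlgebraicGeometry Opposite
universe u
open Desc

namespace Groth.Agent.S9852

/-- Let g : X ⟶ X' be a morphism of schemes over S, with structure morphisms a : X ⟶ S and a' : X' ⟶ S,
and assume a is surjective and flat. Then the pullback functor along g, from descent data for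
schemes relative to X' ⟶ S to descent data relative to X ⟶ S, is faithful. (Descent data relative to
a single morphism are written as descent data relative to the corresponding one-member family.) -/
theorem result {X X' S : Scheme.{u}} (a : X ⟶ S) (a' : X' ⟶ S) (g : X ⟶ X')
    (h : g ≫ a' = a) [Surjective a] [Flat a] :
    (Desc.pullDDFam (f := fun _ : PUnit.{u + 1} => a') (f' := fun _ : PUnit.{u + 1} => a) (α := fun j => j)
        (p := 𝟙 S) (p' := fun _ => g) (fun _ => (h).trans (Category.comp_id a).symm)).Faithful := by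
  constructor
  intro D D' m n hmn
  let wg : ∀ _ : PUnit.{u + 1}, g ≫ a' = a ≫ 𝟙 S := fun _ => (h).trans (Category.comp_id a).symm
  let P := Groth.Agent.Lib.Helper51.DescFam.PointDesc.pull (f := fun _ : PUnit.{u + 1} => a')
    (f' := fun _ : PUnit.{u + 1} => a) (α := fun j => j) (p := 𝟙 S) (p' := fun _ => g) wg
  apply Groth.Agent.Lib.Helper51.DescFam.hom_ext_push
  rintro ⟨⟩ d
  let V := D.obj PUnit.unit
  have hflat : Flat (pullback.snd a (V.hom ≫ a')) := inferInstance
  have hsurj : Surjective (pullback.snd a (V.hom ≫ a')) := inferInstance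
  have hepi : Epi (pullback.snd a (V.hom ≫ a')) := Flat.epi_of_flat_of_surjective _
  let π₁ := pullback.fst a (V.hom ≫ a')
  let π₂ := pullback.snd a (V.hom ≫ a')
  let y₀ : pullback a (V.hom ≫ a') ⟶ X' := π₁ ≫ g
  let y₁ : pullback a (V.hom ≫ a') ⟶ X' := π₂ ≫ V.hom
  have hy : y₁ ≫ a' = y₀ ≫ a' := by
    change (π₂ ≫ V.hom) ≫ a' = (π₁ ≫ g) ≫ a'
    rw [Category.assoc, Category.assoc, h]
    exact pullback.condition.symm
  let d' : Desc.Lifts V y₁ := ⟨π₂ ≫ d.1, by
    change (π₂ ≫ d.1) ≫ V.hom = π₂ ≫ V.hom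
    rw [Category.assoc, d.2]⟩
  let d₀ : Desc.Lifts V y₀ := D.φ y₁ y₀ hy d'
  have key : Desc.SchDDFam.Hom.push m d₀ = Desc.SchDDFam.Hom.push n d₀ := by
    have e1 := P.map m PUnit.unit π₁ ((P.θ D PUnit.unit π₁).symm d₀)
    have e2 := P.map n PUnit.unit π₁ ((P.θ D PUnit.unit π₁).symm d₀)
    rw [Equiv.apply_symm_apply] at e1 e2
    rw [← e1, ← e2, hmn]
  have hd' : D.φ y₀ y₁ hy.symm d₀ = d' := by
    change D.φ y₀ y₁ hy.symm (D.φ y₁ y₀ hy d') = d'
    rw [D.φ_comp, D.φ_self]
  have e3 : Desc.SchDDFam.Hom.push m d' = Desc.SchDDFam.Hom.push n d' :=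
    calc Desc.SchDDFam.Hom.push m d' = Desc.SchDDFam.Hom.push m (D.φ y₀ y₁ hy.symm d₀) := by
          rw [hd']
      _ = D'.φ y₀ y₁ hy.symm (Desc.SchDDFam.Hom.push m d₀) :=
          (Groth.Agent.Lib.Helper51.DescFam.comm_push m y₀ y₁ hy.symm d₀).symm
      _ = D'.φ y₀ y₁ hy.symm (Desc.SchDDFam.Hom.push n d₀) := by rw [key]
      _ = Desc.SchDDFam.Hom.push n (D.φ y₀ y₁ hy.symm d₀) :=
          Groth.Agent.Lib.Helper51.DescFam.comm_push n y₀ y₁ hy.symm d₀
      _ = Desc.SchDDFam.Hom.push n d' := by rw [hd']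
  apply Subtype.ext
  rw [← cancel_epi π₂]
  have e4 := congrArg Subtype.val e3
  simpa [Groth.Agent.Lib.Helper51.DescFam.push_val, d'] using e4

end Groth.Agent.S9852
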