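import Groth.Statements.S9859
-- import your own Groth.Agent.* helpers here
import Mathlib.AlgebraicGeometry.Morphisms.UniversallyOpen
import Mathlib.AlgebraicGeometry.Morphisms.Basic

set_option autoImplicit false
open CategoryTheory CategoryTheory.Limits AlgebraicGeometry Opposite
universe u
open Desc

namespace Groth.Agent.S9859

/-- Case τ = fppf: let P be a property of morphisms of schemes which is fppf local on the base and f : X
⟶ Y a morphism. There is a largest open W of Y such that the restriction of f over W has P;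
moreover, first, if g : Y' ⟶ Y is flat and locally of finite presentation and the base change of f
to Y' has P, then the image of g lies in W; and second, for such g the largest open of Y' over which
the base change of f has P is exactly g⁻¹(W). -/
theorem result (P : MorphismProperty Scheme.{u})
    [MorphismProperty.IsLocalAtTarget P Scheme.fppfPrecoverage] {X Y : Scheme.{u}} (f : X ⟶ Y) :
    ∃ W : Y.Opens, P (f ∣_ W) ∧ (∀ W₀ : Y.Opens, P (f ∣_ W₀) → W₀ ≤ W) ∧
      (∀ (Y' : Scheme.{u}) (g : Y' ⟶ Y), Flat g → LocallyOfFinitePresentation g →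
        P (pullback.snd f g) → Set.range g.base ⊆ (W : Set Y)) ∧
      (∀ (Y' : Scheme.{u}) (g : Y' ⟶ Y), Flat g → LocallyOfFinitePresentation g →
        ∀ W' : Y'.Opens, P (pullback.snd f g ∣_ W') → (∀ W₀ : Y'.Opens, P (pullback.snd f g ∣_ W₀) → W₀ ≤ W') →
          W' = g ⁻¹ᵁ W) := by
  have hZ : IsZariskiLocalAtTarget P :=
    MorphismProperty.IsLocalAtTarget.of_le Scheme.zariskiPrecoverage_le_fppfPrecoverage
  -- base change along flat, locally finitely presented morphisms
  have L1 : ∀ {X Y Y' X' : Scheme.{u}} (f : X ⟶ Y) (g : Y' ⟶ Y) (fst : X' ⟶ X) (snd : X' ⟶ Y'),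
      Flat g → LocallyOfFinitePresentation g → IsPullback fst snd f g → P f → P snd := by
    intro X Y Y' X' f g fst snd hg1 hg2 h hf
    have : (@Flat ⊓ @LocallyOfFinitePresentation : MorphismProperty Scheme.{u}).ContainsIdentities :=
      ⟨fun X ↦ ⟨inferInstance, inferInstance⟩⟩
    exact MorphismProperty.IsLocalAtTarget.of_isPullback (K := Scheme.fppfPrecoverage)
      ((Scheme.coverOfIsIso.{0} (P := @Flat ⊓ @LocallyOfFinitePresentation) (𝟙 Y)).add g ⟨hg1, hg2⟩)
      none h hf
  -- descent along surjective flat, locally finitely presented morphisms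
  have L2 : ∀ {X Y Y' X' : Scheme.{u}} (f : X ⟶ Y) (g : Y' ⟶ Y) (fst : X' ⟶ X) (snd : X' ⟶ Y'),
      Flat g → LocallyOfFinitePresentation g → Surjective g → IsPullback fst snd f g →
      P snd → P f := by
    intro X Y Y' X' f g fst snd hg1 hg2 hg3 h hsnd
    let 𝒰 : Scheme.Cover.{0} (Scheme.precoverage (@Flat ⊓ @LocallyOfFinitePresentation)) Y :=
      Scheme.Cover.mkOfCovers PUnit.{1} (fun _ ↦ Y') (fun _ ↦ g)
        (fun x ↦ ⟨⟨⟩, hg3.surj x⟩) (fun _ ↦ ⟨hg1, hg2⟩)
    refine MorphismProperty.IsLocalAtTarget.of_zeroHypercover (K := Scheme.fppfPrecoverage) 𝒰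
      (fun i ↦ ?_)
    change P (pullback.snd f g)
    rw [← P.cancel_left_of_respectsIso h.isoPullback.hom, h.isoPullback_hom_snd]
    exact hsnd
  -- the largest open
  let W : Y.Opens := sSup {W₀ : Y.Opens | P (f ∣_ W₀)}
  have hW : P (f ∣_ W) := by
    refine IsZariskiLocalAtTarget.of_forall_exists_morphismRestrict fun x ↦ ?_
    have hx : x.1 ∈ W := x.2
    obtain ⟨W₀, hW₀, hxW₀⟩ := TopologicalSpace.Opens.mem_sSup.1 hx
    have hle : W₀ ≤ W := le_sSup hW₀
    refine ⟨W.ι ⁻¹ᵁ W₀, hxW₀, ?_⟩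
    rw [P.arrow_mk_iso_iff (morphismRestrictRestrict f W (W.ι ⁻¹ᵁ W₀))]
    have : W.ι ''ᵁ (W.ι ⁻¹ᵁ W₀) = W₀ := by
      rw [Scheme.Hom.image_preimage_eq_opensRange_inf, Scheme.Opens.opensRange_ι]
      exact inf_eq_right.2 hle
    rw [this]
    exact hW₀
  have h3 : ∀ (Y' : Scheme.{u}) (g : Y' ⟶ Y), Flat g → LocallyOfFinitePresentation g →
      P (pullback.snd f g) → Set.range g.base ⊆ (W : Set Y) := by
    intro Y' g hg1 hg2 hP
    let V : Y.Opens := ⟨Set.range g, g.isOpenMap.isOpen_range⟩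
    have hrange : Set.range g ⊆ Set.range V.ι := by
      rw [Scheme.Opens.range_ι]
      exact subset_rfl
    let g' : Y' ⟶ V.toScheme := IsOpenImmersion.lift V.ι g hrange
    have hg' : g' ≫ V.ι = g := IsOpenImmersion.lift_fac V.ι g hrange
    have hpb : IsPullback (𝟙 Y') g' g V.ι := IsPullback.of_horiz_isIso_mono ⟨by rw [hg', Category.id_comp]⟩
    have hg'1 : Flat g' := MorphismProperty.of_isPullback (P := @Flat) hpb hg1
    have hg'2 : LocallyOfFinitePresentation g' :=
      MorphismProperty.of_isPullback (P := @LocallyOfFinitePresentation) hpb hg2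
    have hg'3 : Surjective g' := by
      refine ⟨fun v ↦ ?_⟩
      obtain ⟨y, hy⟩ := v.2
      refine ⟨y, ?_⟩
      apply V.ι.isOpenEmbedding.injective
      rw [← Scheme.Hom.comp_apply, hg']
      exact hy
    have hright : IsPullback (f ⁻¹ᵁ V).ι (f ∣_ V) f V.ι := (isPullback_morphismRestrict f V).flip
    have hbig : IsPullback (pullback.fst f g) (pullback.snd f g) f (g' ≫ V.ι) := by
      rw [hg']
      exact IsPullback.of_hasPullback f g
    have hw : pullback.fst f g ≫ f = (pullback.snd f g ≫ g') ≫ V.ι := by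
      rw [Category.assoc, hg']
      exact pullback.condition
    have hleft : IsPullback (hright.lift (pullback.fst f g) (pullback.snd f g ≫ g') hw)
        (pullback.snd f g) (f ∣_ V) g' := by
      refine IsPullback.of_right ?_ (hright.lift_snd _ _ hw) hright
      rw [hright.lift_fst]
      exact hbig
    have hPV : P (f ∣_ V) := L2 (f ∣_ V) g' _ _ hg'1 hg'2 hg'3 hleft hP
    have hVW : V ≤ W := le_sSup hPV
    exact hVW
  refine ⟨W, hW, fun W₀ hW₀ ↦ le_sSup hW₀, h3, ?_⟩
  intro Y' g hg1 hg2 W' hW' hmax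
  apply le_antisymm
  · -- `W' ≤ g⁻¹ W`
    have hcomp1 : Flat (W'.ι ≫ g) := inferInstance
    have hcomp2 : LocallyOfFinitePresentation (W'.ι ≫ g) := inferInstance
    have hA : IsPullback ((pullback.snd f g) ⁻¹ᵁ W').ι (pullback.snd f g ∣_ W') (pullback.snd f g) W'.ι :=
      (isPullback_morphismRestrict (pullback.snd f g) W').flip
    have hAB := hA.paste_horiz (IsPullback.of_hasPullback f g)
    have hP' : P (pullback.snd f (W'.ι ≫ g)) := by
      rw [← P.cancel_left_of_respectsIso hAB.isoPullback.hom, hAB.isoPullback_hom_snd]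
      exact hW'
    have := h3 _ (W'.ι ≫ g) hcomp1 hcomp2 hP'
    intro y hy
    apply this
    exact ⟨⟨y, hy⟩, rfl⟩
  · -- `g⁻¹ W ≤ W'`
    apply hmax
    have hC : IsPullback (g ⁻¹ᵁ W).ι (g ∣_ W) g W.ι := (isPullback_morphismRestrict g W).flip
    have hgW1 : Flat (g ∣_ W) := MorphismProperty.of_isPullback (P := @Flat) hC hg1
    have hgW2 : LocallyOfFinitePresentation (g ∣_ W) :=
      MorphismProperty.of_isPullback (P := @LocallyOfFinitePresentation) hC hg2
    have hA : IsPullback ((pullback.snd f g) ⁻¹ᵁ (g ⁻¹ᵁ W)).ι (pullback.snd f g ∣_ (g ⁻¹ᵁ W))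
        (pullback.snd f g) (g ⁻¹ᵁ W).ι :=
      (isPullback_morphismRestrict (pullback.snd f g) (g ⁻¹ᵁ W)).flip
    have hAB := hA.paste_horiz (IsPullback.of_hasPullback f g)
    rw [hC.w] at hAB
    have hD : IsPullback (f ⁻¹ᵁ W).ι (f ∣_ W) f W.ι := (isPullback_morphismRestrict f W).flip
    have hw : (((pullback.snd f g) ⁻¹ᵁ (g ⁻¹ᵁ W)).ι ≫ pullback.fst f g) ≫ f =
        ((pullback.snd f g ∣_ (g ⁻¹ᵁ W)) ≫ (g ∣_ W)) ≫ W.ι := by
      rw [Category.assoc _ _ W.ι]
      exact hAB.w
    have hleft : IsPullback (hD.lift _ _ hw) (pullback.snd f g ∣_ (g ⁻¹ᵁ W)) (f ∣_ W) (g ∣_ W) := by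
      refine IsPullback.of_right ?_ (hD.lift_snd _ _ hw) hD
      rw [hD.lift_fst]
      exact hAB
    exact L1 (f ∣_ W) (g ∣_ W) _ _ hgW1 hgW2 hleft hW

end Groth.Agent.S9859
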