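import Groth.Statements.S9860
-- import your own Groth.Agent.* helpers here

set_option autoImplicit false
open CategoryTheory CategoryTheory.Limits AlgebraicGeometry Opposite
universe u
open Desc

namespace Groth.Agent.S9860

/-- Consider morphisms of schemes f i : X i ⟶ X indexed by i. Suppose that, whenever Y is an affine
scheme and g : Y ⟶ X is a morphism, the sieve on Y obtained by pulling back along g (generated by
the base changes X i ×_X Y ⟶ Y) is effective epimorphic. Then the pulled-back sieve along every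
morphism Y ⟶ X of schemes is effective epimorphic; in other words, within schemes the family forms a
universal effective epimorphism. -/
theorem result {ι : Type u} {X : Scheme.{u}} {Xi : ι → Scheme.{u}} (f : ∀ i, Xi i ⟶ X)
    (h : ∀ (Y : Scheme.{u}) (g : Y ⟶ X), IsAffine Y → ((Sieve.ofArrows Xi f).pullback g).EffectiveEpimorphic)
    {Y : Scheme.{u}} (g : Y ⟶ X) : ((Sieve.ofArrows Xi f).pullback g).EffectiveEpimorphic := by
  rw [Sieve.EffectiveEpimorphic.iff_forall_isSheafFor_yoneda]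
  intro W
  have hsh : ∀ (V : Scheme.{u}) (k : V ⟶ Y), IsAffine V →
      Presieve.IsSheafFor (yoneda.obj W)
        (((Sieve.ofArrows Xi f).pullback g).pullback k).arrows := by
    intro V k hV
    have := (Sieve.EffectiveEpimorphic.iff_forall_isSheafFor_yoneda _).1 (h V (k ≫ g) hV) W
    rwa [Sieve.pullback_comp] at this
  generalize (Sieve.ofArrows Xi f).pullback g = R at hsh ⊢
  intro x hx
  have hxs := hx.to_sieveCompatible
  have hxeq : ∀ ⦃Y' : Scheme.{u}⦄ (f₁ f₂ : Y' ⟶ Y) (h₁ : R f₁) (h₂ : R f₂), f₁ = f₂ →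
      x f₁ h₁ = x f₂ h₂ := by
    intro _ f₁ f₂ h₁ h₂ e
    subst e
    rfl
  let 𝒰 := Y.affineCover
  have hloc := fun a => hsh (𝒰.X a) (𝒰.f a) inferInstance (x.pullback (𝒰.f a))
    (hx.pullback (𝒰.f a))
  choose t ht htuniq using hloc
  have ht' : ∀ a ⦃Y' : Scheme.{u}⦄ (k : Y' ⟶ 𝒰.X a) (hk : R (k ≫ 𝒰.f a)),
      k ≫ t a = x (k ≫ 𝒰.f a) hk := fun a Y' k hk => ht a k hk
  have hcompat : ∀ a b, pullback.fst (𝒰.f a) (𝒰.f b) ≫ t a =
      pullback.snd (𝒰.f a) (𝒰.f b) ≫ t b := by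
    intro a b
    refine (pullback (𝒰.f a) (𝒰.f b)).affineCover.hom_ext _ _ (fun c => ?_)
    have hsep := (hsh _ ((pullback (𝒰.f a) (𝒰.f b)).affineCover.f c ≫
      pullback.fst (𝒰.f a) (𝒰.f b) ≫ 𝒰.f a) inferInstance).isSeparatedFor
    refine hsep.ext (fun Y' k hk => ?_)
    change k ≫ (pullback (𝒰.f a) (𝒰.f b)).affineCover.f c ≫ pullback.fst _ _ ≫ t a =
      k ≫ (pullback (𝒰.f a) (𝒰.f b)).affineCover.f c ≫ pullback.snd _ _ ≫ t b
    have hk' : R ((k ≫ (pullback (𝒰.f a) (𝒰.f b)).affineCover.f c ≫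
        pullback.fst (𝒰.f a) (𝒰.f b)) ≫ 𝒰.f a) := by
      have hk0 : R (k ≫ (pullback (𝒰.f a) (𝒰.f b)).affineCover.f c ≫
          pullback.fst (𝒰.f a) (𝒰.f b) ≫ 𝒰.f a) := hk
      simpa only [Category.assoc] using hk0
    have e0 : (k ≫ (pullback (𝒰.f a) (𝒰.f b)).affineCover.f c ≫
        pullback.snd (𝒰.f a) (𝒰.f b)) ≫ 𝒰.f b =
        (k ≫ (pullback (𝒰.f a) (𝒰.f b)).affineCover.f c ≫
        pullback.fst (𝒰.f a) (𝒰.f b)) ≫ 𝒰.f a := by
      simp only [Category.assoc, pullback.condition]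
    have hk'' : R ((k ≫ (pullback (𝒰.f a) (𝒰.f b)).affineCover.f c ≫
        pullback.snd (𝒰.f a) (𝒰.f b)) ≫ 𝒰.f b) := by
      rw [e0]
      exact hk'
    have e1 := ht' a _ hk'
    have e2 := ht' b _ hk''
    simp only [Category.assoc] at e1 e2
    rw [e1, e2]
    exact hxeq _ _ _ _ (by simp only [Category.assoc, pullback.condition])
  have ht₀ : ∀ a, 𝒰.f a ≫ 𝒰.glueMorphisms t hcompat = t a := 𝒰.ι_glueMorphisms t hcompat
  refine ⟨𝒰.glueMorphisms t hcompat, ?_, ?_⟩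
  · intro Y' k hk
    change k ≫ 𝒰.glueMorphisms t hcompat = x k hk
    refine Scheme.Cover.hom_ext (𝒰.pullback₁ k) _ _ (fun a => ?_)
    change pullback.fst k (𝒰.f a) ≫ k ≫ 𝒰.glueMorphisms t hcompat =
      pullback.fst k (𝒰.f a) ≫ x k hk
    have hk₂ : R (pullback.snd k (𝒰.f a) ≫ 𝒰.f a) := by
      rw [← pullback.condition]
      exact R.downward_closed hk _
    rw [← Category.assoc, pullback.condition, Category.assoc, ht₀, ht' a _ hk₂]
    exact (hxeq _ _ _ _ pullback.condition.symm).trans (hxs k (pullback.fst k (𝒰.f a)) hk)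
  · intro t₁ ht₁
    refine 𝒰.hom_ext _ _ (fun a => ?_)
    rw [ht₀]
    exact htuniq a (𝒰.f a ≫ t₁) (fun Y' k hk => by
      change k ≫ 𝒰.f a ≫ t₁ = x (k ≫ 𝒰.f a) hk
      rw [← Category.assoc]
      exact ht₁ (k ≫ 𝒰.f a) hk)

end Groth.Agent.S9860
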