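import Groth.Statements.S9867
-- import your own Groth.Agent.* helpers here
import Groth.Agent.Lib.Helper1.AffineAndDescent
import Mathlib.AlgebraicGeometry.Morphisms.FlatRank
import Mathlib.AlgebraicGeometry.Morphisms.LocalFlatDescent

set_option autoImplicit false
open CategoryTheory CategoryTheory.Limits AlgebraicGeometry Opposite
universe u
open Desc

namespace Groth.Agent.S9867

/-- Being finite locally free (finite, flat and locally of finite presentation), and being finite
locally free of a given degree d, are fpqc local on the base; the descent directions, stated as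
descent along surjective flat quasi-compact morphisms: if the base change of f along such a morphism
is finite locally free then so is f, and if moreover that base change has constant rank d (Mathlib's
rank function of a finite flat morphism) then f has constant rank d. (With Zariski-locality on the
target these give the statements for arbitrary fpqc coverings; stability under base change is the
other direction.) -/
theorem result :
    MorphismProperty.DescendsAlong (fun _ _ f => Mor2.IsFinLocFree f : MorphismProperty Scheme.{u})
      (@Surjective ⊓ @Flat ⊓ @QuasiCompact : MorphismProperty Scheme.{u}) ∧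
    ∀ d : ℕ, MorphismProperty.DescendsAlong (fun _ _ f => Mor2.IsFinLocFreeOfDeg d f : MorphismProperty Scheme.{u})
      (@Surjective ⊓ @Flat ⊓ @QuasiCompact : MorphismProperty Scheme.{u}) := by
  have hflatco : RingHom.CodescendsAlong RingHom.Flat RingHom.FaithfullyFlat := by
    refine .mk _ RingHom.Flat.respectsIso fun R S T _ _ _ _ _ h h' ↦ ?_
    rw [RingHom.faithfullyFlat_algebraMap_iff] at h
    rw [RingHom.flat_algebraMap_iff] at h' ⊢
    exact Module.Flat.of_flat_tensorProduct R T S
  have hflat : MorphismProperty.DescendsAlong @Flat
      (@Surjective ⊓ @Flat ⊓ @QuasiCompact : MorphismProperty Scheme.{u}) :=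
    HasRingHomProperty.descendsAlong_flat hflatco
  have hfin := Groth.Agent.Lib.Helper1.descendsAlong_isFinite_fpqc.{u}
  have h1 : ∀ {A X Y Z : Scheme.{u}} {fst : A ⟶ X} {snd : A ⟶ Y} {f : X ⟶ Z} {g : Y ⟶ Z},
      IsPullback fst snd f g →
      (@Surjective ⊓ @Flat ⊓ @QuasiCompact : MorphismProperty Scheme.{u}) f →
      Mor2.IsFinLocFree fst → Mor2.IsFinLocFree g := by
    intro A X Y Z fst snd f g h hf ⟨h1, h2, h3⟩
    exact ⟨hfin.of_isPullback h hf h1, hflat.of_isPullback h hf h2,
      MorphismProperty.of_isPullback_of_descendsAlong h hf h3⟩
  refine ⟨⟨h1⟩, fun d ↦ ⟨?_⟩⟩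
  intro A X Y Z fst snd f g h hf ⟨hP, hd⟩
  have hg := h1 h hf hP
  refine ⟨hg, fun z ↦ ?_⟩
  have : Surjective f := hf.1.1
  obtain ⟨x, rfl⟩ := f.surjective z
  have := hg.1
  have := hg.2.1
  rw [← hd x]
  exact (Scheme.Hom.finrank_of_isPullback snd fst g f h.flip x).symm

end Groth.Agent.S9867
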