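import Groth.Statements.S9871
-- import your own Groth.Agent.* helpers here
import Groth.Agent.Lib.Helper51.ProdMap

set_option autoImplicit false
universe u
open CategoryTheory CategoryTheory.Limits AlgebraicGeometry
open AlgSp

namespace Groth.Agent.S9871

/-- Let `s, t : R ⟶ U` be an etale equivalence relation on a scheme `U` over `S` and let `g : U' ⟶ U` be
an etale morphism over `S`. Let `s', t' : R' ⟶ U'` be the restriction to `U'`: `R'`, with `(t', s')`
and `R' ⟶ R`, is the fibre product of `U' ×_S U'` and `R` over `U ×_S U`. Then `s', t'` is again an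
etale equivalence relation. -/
theorem result (S : Scheme.{u}) {R U R' U' : Over S} (s t : R ⟶ U)
    (g : U' ⟶ U) (s' t' : R' ⟶ U') (r : R' ⟶ R)
    (hsq : IsPullback (prod.lift t' s') r (prod.map g g) (prod.lift t s))
    (h : AlgSp.IsEtaleEqvRel s t) [Etale g.left] :
    AlgSp.IsEtaleEqvRel s' t' := by
  -- the two components of the pullback square
  have wt : t' ≫ g = r ≫ t := by
    have := hsq.w =≫ prod.fst
    rwa [Category.assoc, prod.map_fst, prod.lift_fst_assoc, Category.assoc, prod.lift_fst] at this
  have ws : s' ≫ g = r ≫ s := by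
    have := hsq.w =≫ prod.snd
    rwa [Category.assoc, prod.map_snd, prod.lift_snd_assoc, Category.assoc, prod.lift_snd] at this
  -- `T`-points of `R'`
  have hext : ∀ {T : Over S} (a b : T ⟶ R'), a ≫ t' = b ≫ t' → a ≫ s' = b ≫ s' → a ≫ r = b ≫ r →
      a = b := by
    intro T a b h1 h2 h3
    apply hsq.hom_ext _ h3
    apply Limits.prod.hom_ext
    · rw [Category.assoc, Category.assoc, prod.lift_fst]; exact h1
    · rw [Category.assoc, Category.assoc, prod.lift_snd]; exact h2
  have hrel : ∀ {T : Over S} (a b : T ⟶ U'),
      (∃ r' : T ⟶ R', r' ≫ t' = a ∧ r' ≫ s' = b) ↔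
        (∃ ρ : T ⟶ R, ρ ≫ t = a ≫ g ∧ ρ ≫ s = b ≫ g) := by
    intro T a b
    constructor
    · rintro ⟨r', rfl, rfl⟩
      exact ⟨r' ≫ r, by rw [Category.assoc, Category.assoc, wt],
        by rw [Category.assoc, Category.assoc, ws]⟩
    · rintro ⟨ρ, h1, h2⟩
      have hcomp : prod.lift a b ≫ prod.map g g = ρ ≫ prod.lift t s := by
        apply Limits.prod.hom_ext
        · rw [Category.assoc, prod.map_fst, prod.lift_fst_assoc, Category.assoc, prod.lift_fst, h1]
        · rw [Category.assoc, prod.map_snd, prod.lift_snd_assoc, Category.assoc, prod.lift_snd, h2]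
      refine ⟨hsq.lift (prod.lift a b) ρ hcomp, ?_, ?_⟩
      · have := hsq.lift_fst (prod.lift a b) ρ hcomp =≫ prod.fst
        rwa [Category.assoc, prod.lift_fst, prod.lift_fst] at this
      · have := hsq.lift_fst (prod.lift a b) ρ hcomp =≫ prod.snd
        rwa [Category.assoc, prod.lift_snd, prod.lift_snd] at this
  -- `r` is etale, as a base change of `g × g`
  have hgg : (MorphismProperty.inverseImage @Etale (Over.forget S)) (prod.map g g) :=
    Groth.Agent.Lib.Helper51.prod_map_mem _ g g (by change Etale g.left; infer_instance)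
      (by change Etale g.left; infer_instance)
  have hr : Etale r.left :=
    MorphismProperty.of_isPullback (P := MorphismProperty.inverseImage @Etale (Over.forget S)) hsq hgg
  have hs : Etale s.left := h.etale_left
  have ht : Etale t.left := h.etale_right
  refine ⟨⟨?_, ?_⟩, ?_, ?_⟩
  · intro T a b h1 h2
    refine hext a b h1 h2 (h.injective T _ _ ?_ ?_)
    · rw [Category.assoc, Category.assoc, ← wt, reassoc_of% h1]
    · rw [Category.assoc, Category.assoc, ← ws, reassoc_of% h2]
  · intro T
    have hE := h.equivalence T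
    refine ⟨fun a ↦ (hrel a a).2 (hE.refl _), fun {a b} hab ↦ (hrel b a).2 (hE.symm ((hrel a b).1 hab)),
      fun {a b c} hab hbc ↦ (hrel a c).2 (hE.trans ((hrel a b).1 hab) ((hrel b c).1 hbc))⟩
  · have : Etale (s'.left ≫ g.left) := by
      rw [← Over.comp_left, ws, Over.comp_left]; infer_instance
    exact Etale.of_comp s'.left g.left
  · have : Etale (t'.left ≫ g.left) := by
      rw [← Over.comp_left, wt, Over.comp_left]; infer_instance
    exact Etale.of_comp t'.left g.left

end Groth.Agent.S9871
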