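import Groth.Statements.S9875
-- import your own Groth.Agent.* helpers here
import Groth.Agent.S9874

set_option autoImplicit false
universe u
open CategoryTheory CategoryTheory.Limits AlgebraicGeometry
open AlgSp

namespace Groth.Agent.S9875

/-- The category of algebraic spaces over `S` has fibre products, and the inclusion functor into fppf
sheaves of sets over `S` preserves them (the fibre product of sheaves of two algebraic spaces over a
third is an algebraic space and is their fibre product as algebraic spaces). -/
theorem result (S : Scheme.{u}) :
    HasPullbacks (AlgSp.Space S) ∧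
      PreservesLimitsOfShape WalkingCospan (ObjectProperty.ι (AlgSp.IsAlgSpace (S := S))) := by
  have hclosed : ObjectProperty.IsClosedUnderLimitsOfShape (AlgSp.IsAlgSpace (S := S))
      WalkingCospan := by
    refine ⟨fun P ⟨hP⟩ ↦ ?_⟩
    have hpb := IsPullback.of_isLimit_cone hP.isLimit
    exact Groth.Agent.S9874.result S (hP.diag.obj WalkingCospan.one)
      (hP.prop_diag_obj WalkingCospan.one).diag
      ⟨_, hP.prop_diag_obj WalkingCospan.left⟩ ⟨_, hP.prop_diag_obj WalkingCospan.right⟩
      _ _ P _ _ hpb
  have h1 : HasLimitsOfShape WalkingCospan (AlgSp.Space S) := inferInstance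
  exact ⟨h1, inferInstance⟩

end Groth.Agent.S9875
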