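import Groth.Statements.S9878
-- import your own Groth.Agent.* helpers here
import Groth.Agent.Lib.Helper51.AlgSpCoprod

set_option autoImplicit false
universe u
open CategoryTheory CategoryTheory.Limits AlgebraicGeometry
open AlgSp

namespace Groth.Agent.S9878

/-- Let `F`, `G` be fppf sheaves of sets over `S` and let `F ⨿ G` be their coproduct in sheaves (any
colimit binary cofan). Then the coprojection `F ⟶ F ⨿ G` is representable by schemes, by morphisms
that are both open immersions and closed immersions. -/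
theorem result (S : Scheme.{u}) (F G : AlgSp.Sp S) (c : BinaryCofan F G)
    (hc : IsColimit c) :
    AlgSp.RepWith (@IsOpenImmersion ⊓ @IsClosedImmersion) c.inl := by
  -- reindex the binary cofan by `ULift WalkingPair : Type u`
  let X : ULift.{u} WalkingPair → AlgSp.Sp S := fun i ↦ WalkingPair.casesOn i.down F G
  let inj : ∀ i, X i ⟶ c.pt := fun i ↦ match i with
    | ⟨.left⟩ => c.inl
    | ⟨.right⟩ => c.inr
  have hc' : IsColimit (Cofan.mk c.pt inj) := by
    refine Cofan.IsColimit.mk _
      (fun s ↦ (BinaryCofan.IsColimit.desc' hc (s.inj ⟨.left⟩) (s.inj ⟨.right⟩)).1)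
      (fun s i ↦ ?_) (fun s m hm ↦ ?_)
    · obtain ⟨_ | _⟩ := i
      · exact (BinaryCofan.IsColimit.desc' hc (s.inj ⟨.left⟩) (s.inj ⟨.right⟩)).2.1
      · exact (BinaryCofan.IsColimit.desc' hc (s.inj ⟨.left⟩) (s.inj ⟨.right⟩)).2.2
    · apply BinaryCofan.IsColimit.hom_ext hc
      · rw [(BinaryCofan.IsColimit.desc' hc (s.inj ⟨.left⟩) (s.inj ⟨.right⟩)).2.1]
        exact hm ⟨.left⟩
      · rw [(BinaryCofan.IsColimit.desc' hc (s.inj ⟨.left⟩) (s.inj ⟨.right⟩)).2.2]
        exact hm ⟨.right⟩
  exact Groth.Agent.Lib.Helper51.repWith_openClosed_inj X (Cofan.mk c.pt inj) hc' ⟨.left⟩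

end Groth.Agent.S9878
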