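import Groth.Statements.S9879
-- import your own Groth.Agent.* helpers here
import Groth.Agent.Lib.Helper51.AlgSpCoprod

set_option autoImplicit false
universe u
open CategoryTheory CategoryTheory.Limits AlgebraicGeometry
open AlgSp

namespace Groth.Agent.S9879

/-- Let `U` be a scheme over `S` and `F_i` a family of fppf sheaves of sets over `S` whose coproduct in
sheaves is isomorphic to `h_U`. Then each `F_i` is representable by a scheme `V_i` over `S` such
that `V_i ⟶ U` (the morphism inducing `h_{V_i} ≅ F_i ⟶ ∐ F_i ≅ h_U`) is an open and closed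
immersion, and `U` is the coproduct of the `V_i` in schemes. -/
theorem result (S : Scheme.{u}) (U : Over S) {ι : Type u}
    (F : ι → AlgSp.Sp S) (c : Cofan F) (hc : IsColimit c) (e : c.pt ≅ (AlgSp.yon S).obj U) :
    ∃ (V : ι → Over S) (g : ∀ i, V i ⟶ U) (ei : ∀ i, (AlgSp.yon S).obj (V i) ≅ F i),
      (∀ i, IsOpenImmersion (g i).left ∧ IsClosedImmersion (g i).left) ∧
      (∀ i, (ei i).hom ≫ c.inj i ≫ e.hom = (AlgSp.yon S).map (g i)) ∧
      Nonempty (IsColimit (Cofan.mk U.left (fun i => (g i).left))) := by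
  obtain ⟨ψ, V, g, k, fst, h1, h2⟩ :=
    Groth.Agent.Lib.Helper51.exists_decomposition F c hc U e.inv
  have hiso : ∀ i, IsIso (fst i) := fun i ↦ (h1 i).isIso_fst_of_isIso
  have hpb : ∀ i, IsPullback (g i).left (k i).left ψ.left (Sigma.ι (fun _ : ι ↦ S) i) :=
    fun i ↦ (h2 i).map (Over.forget S)
  have hopen : ∀ i, IsOpenImmersion (g i).left := fun i ↦
    MorphismProperty.of_isPullback (hpb i).flip (inferInstanceAs (IsOpenImmersion (Sigma.ι _ i)))
  have hclosed : ∀ i, IsClosedImmersion (g i).left := fun i ↦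
    MorphismProperty.of_isPullback (hpb i).flip (inferInstanceAs (IsClosedImmersion (Sigma.ι _ i)))
  refine ⟨V, g, fun i ↦ asIso (fst i), fun i ↦ ⟨hopen i, hclosed i⟩, fun i ↦ ?_, ?_⟩
  · rw [asIso_hom, ← Category.assoc, (h1 i).w, Category.assoc, e.inv_hom_id, Category.comp_id]
  · apply nonempty_isColimit_cofanMk_of
    · rw [eq_top_iff]
      intro x _
      obtain ⟨i, y, hy⟩ := (sigmaOpenCover (fun _ : ι ↦ S)).exists_eq (ψ.left x)
      obtain ⟨p, hp, -⟩ := Scheme.exists_preimage_of_isPullback (hpb i) x y hy.symm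
      simp only [TopologicalSpace.Opens.iSup_mk, TopologicalSpace.Opens.carrier_eq_coe,
        Scheme.Hom.coe_opensRange, TopologicalSpace.Opens.mem_mk, Set.mem_iUnion, Set.mem_range]
      exact ⟨i, p, hp⟩
    · intro i j hij
      rw [Function.onFun, disjoint_iff]
      ext x
      simp only [TopologicalSpace.Opens.coe_inf, Scheme.Hom.coe_opensRange, Set.mem_inter_iff,
        Set.mem_range, TopologicalSpace.Opens.coe_bot, Set.mem_empty_iff_false, iff_false, not_and,
        not_exists]
      rintro ⟨p, rfl⟩ q hq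
      have h3 : Sigma.ι (fun _ : ι ↦ S) i ((k i).left p) = Sigma.ι (fun _ : ι ↦ S) j ((k j).left q) := by
        rw [← Scheme.Hom.comp_apply, ← (hpb i).w, ← Scheme.Hom.comp_apply, ← (hpb j).w,
          Scheme.Hom.comp_apply, Scheme.Hom.comp_apply, hq]
      exact hij (congr_arg Sigma.fst ((sigmaι_eq_iff _ i j _ _).1 h3))

end Groth.Agent.S9879
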