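import Groth.Statements.S9882
-- import your own Groth.Agent.* helpers here
import Groth.Agent.S9884
import Groth.Agent.S9885
import Groth.Agent.Lib.Helper51.FppfLocal
import Groth.Agent.Lib.Helper51.ProdMap

set_option autoImplicit false
universe u
open CategoryTheory CategoryTheory.Limits AlgebraicGeometry
open AlgSp

namespace Groth.Agent.S9882

/-- Let `X` be an algebraic space over `S` with diagonal `Δ : X ⟶ X × X` (representable by schemes).
Then, in the representable sense, `Δ` is locally of finite type, a monomorphism, separated, and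
locally quasi-finite. (Mathlib's locally quasi-finite class has no finite-type clause; together with
the first conjunct this is the usual notion.) -/
theorem result (S : Scheme.{u}) (X : AlgSp.Space S) :
    AlgSp.RepWith @LocallyOfFiniteType (Limits.diag X.obj) ∧
      AlgSp.RepWith (MorphismProperty.monomorphisms Scheme.{u}) (Limits.diag X.obj) ∧
      AlgSp.RepWith @IsSeparated (Limits.diag X.obj) ∧
      AlgSp.RepWith @LocallyQuasiFinite (Limits.diag X.obj) := by
  obtain ⟨U, p, hpe, hps⟩ := X.property.atlas
  have hΔ : AlgSp.Representable (Limits.diag X.obj) := X.property.diag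
  -- the product atlas is locally surjective
  have hppe : AlgSp.RepWith @Etale (prod.map p p) :=
    Groth.Agent.Lib.Helper51.prod_map_mem (AlgSp.RepWith @Etale) p p hpe hpe
  have hpps : AlgSp.RepWith @Surjective (prod.map p p) :=
    Groth.Agent.Lib.Helper51.prod_map_mem (AlgSp.RepWith @Surjective) p p hps hps
  have hppf : AlgSp.RepWith @Flat (prod.map p p) :=
    ⟨hppe.1, fun _ _ a b c hpb ↦ by
      have : Etale c.left := hppe.2 a b c hpb
      change Flat c.left
      infer_instance⟩
  have hppp : AlgSp.RepWith @LocallyOfFinitePresentation (prod.map p p) :=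
    ⟨hppe.1, fun _ _ a b c hpb ↦ by
      have : Etale c.left := hppe.2 a b c hpb
      change LocallyOfFinitePresentation c.left
      infer_instance⟩
  have hls : Sheaf.IsLocallySurjective (prod.map p p) :=
    Groth.Agent.S9885.result S _ _ _ hppf hppp hpps
  -- the fibre product `h_U ×_X h_U`
  obtain ⟨R, s, t', hR⟩ := hpe.1 p
  obtain ⟨t, rfl⟩ := (AlgSp.yon S).map_surjective t'
  have hs : Etale s.left := hpe.2 p _ s hR
  have hsq := Groth.Agent.Lib.Helper51.isPullback_diag_of_isPullback hR
  have hL : prod.lift ((AlgSp.yon S).map t) ((AlgSp.yon S).map s) =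
      (AlgSp.yon S).map (prod.lift t s) ≫ prodComparison (AlgSp.yon S) U U := by
    apply Limits.prod.hom_ext
    · rw [prod.lift_fst, Category.assoc, prodComparison_fst, ← Functor.map_comp, prod.lift_fst]
    · rw [prod.lift_snd, Category.assoc, prodComparison_snd, ← Functor.map_comp, prod.lift_snd]
  have hlft : LocallyOfFiniteType (prod.lift t s).left := by
    have h1 : (prod.lift t s).left ≫ (prod.snd : U ⨯ U ⟶ U).left = s.left := by
      rw [← Over.comp_left, prod.lift_snd]
    have : LocallyOfFiniteType ((prod.lift t s).left ≫ (prod.snd : U ⨯ U ⟶ U).left) := by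
      rw [h1]; infer_instance
    exact locallyOfFiniteType_of_comp _ (prod.snd : U ⨯ U ⟶ U).left
  have ha' : AlgSp.RepWith @LocallyOfFiniteType
      (prod.lift ((AlgSp.yon S).map t) ((AlgSp.yon S).map s)) := by
    rw [hL]
    exact (MorphismProperty.cancel_right_of_respectsIso (AlgSp.RepWith @LocallyOfFiniteType) _ _).2
      ((AlgSp.repWith_yon_map_iff _ _).2 hlft)
  have hLFT : AlgSp.RepWith @LocallyOfFiniteType (Limits.diag X.obj) :=
    Groth.Agent.S9884.result S _ _ _ (Limits.diag X.obj) hΔ (prod.map p p) _ _ _ hsq
      @LocallyOfFiniteType ha'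
  -- monomorphisms
  have hmono : ∀ ⦃T V : Over S⦄ (g : (AlgSp.yon S).obj T ⟶ X.obj ⨯ X.obj)
      (fst : (AlgSp.yon S).obj V ⟶ X.obj) (snd : V ⟶ T),
      IsPullback fst ((AlgSp.yon S).map snd) (Limits.diag X.obj) g → Mono snd.left := by
    intro T V g fst snd hpb
    have hd1 : Limits.diag X.obj ≫ prod.fst = 𝟙 X.obj := prod.lift_fst _ _
    have : Mono (Limits.diag X.obj) := mono_of_mono_fac hd1
    have : Mono ((AlgSp.yon S).map snd) := hpb.mono_snd_of_mono
    have : Mono snd := (AlgSp.yon S).mono_of_mono_map this
    infer_instance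
  refine ⟨hLFT, ⟨hΔ, fun T V g fst snd hpb ↦ hmono g fst snd hpb⟩,
    ⟨hΔ, fun T V g fst snd hpb ↦ ?_⟩, ⟨hΔ, fun T V g fst snd hpb ↦ ?_⟩⟩
  · have : Mono snd.left := hmono g fst snd hpb
    change IsSeparated snd.left
    infer_instance
  · have : Mono snd.left := hmono g fst snd hpb
    have : LocallyOfFiniteType snd.left := hLFT.2 g fst snd hpb
    change LocallyQuasiFinite snd.left
    infer_instance

end Groth.Agent.S9882
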