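import Groth.Statements.S9883
-- import your own Groth.Agent.* helpers here
import Groth.Agent.S9884
import Groth.Agent.S9885

set_option autoImplicit false
universe u
open CategoryTheory CategoryTheory.Limits AlgebraicGeometry
open AlgSp

namespace Groth.Agent.S9883

/-- Let `f : Y ⟶ X` be a morphism of algebraic spaces over `S` which is representable by schemes, let `q
: h_U ⟶ X` be representable etale and surjective with `U` a scheme over `S`, and let `h_V ⟶ Y`, `g :
V ⟶ U` be a base change of `f` along `q`. Let `P` be a property of morphisms of schemes which is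
stable under base change and fppf local on the base. Then `f` has `P` (in the representable sense)
if and only if `g` has `P`. -/
theorem result (S : Scheme.{u}) (X Y : AlgSp.Space S) (f : Y.obj ⟶ X.obj)
    (hf : AlgSp.Representable f) {U V : Over S} (q : (AlgSp.yon S).obj U ⟶ X.obj)
    (hqe : AlgSp.RepWith @Etale q) (hqs : AlgSp.RepWith @Surjective q)
    (fst : (AlgSp.yon S).obj V ⟶ Y.obj) (g : V ⟶ U) (sq : IsPullback fst ((AlgSp.yon S).map g) f q)
    (P : MorphismProperty Scheme.{u}) [P.IsStableUnderBaseChange] [P.IsLocalAtTarget Scheme.fppfPrecoverage] :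
    AlgSp.RepWith P f ↔ P g.left := by
  constructor
  · intro h
    exact h.2 q fst g sq
  · intro hg
    have hqf : AlgSp.RepWith @Flat q :=
      ⟨hqe.1, fun _ _ a b c hpb ↦ by
        have : Etale c.left := hqe.2 a b c hpb
        change Flat c.left
        infer_instance⟩
    have hqp : AlgSp.RepWith @LocallyOfFinitePresentation q :=
      ⟨hqe.1, fun _ _ a b c hpb ↦ by
        have : Etale c.left := hqe.2 a b c hpb
        change LocallyOfFinitePresentation c.left
        infer_instance⟩
    have : Sheaf.IsLocallySurjective q := Groth.Agent.S9885.result S _ _ q hqf hqp hqs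
    exact Groth.Agent.S9884.result S _ _ _ f hf q _ fst ((AlgSp.yon S).map g) sq P
      ((AlgSp.repWith_yon_map_iff P g).2 hg)

end Groth.Agent.S9883
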