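import Groth.Statements.S9886
-- import your own Groth.Agent.* helpers here
import Groth.Agent.Lib.Helper51.RelRep

set_option autoImplicit false
universe u
open CategoryTheory CategoryTheory.Limits AlgebraicGeometry
open AlgSp

namespace Groth.Agent.S9886

/-- Let `F` be an fppf sheaf of sets over `S` and `P` a property of morphisms of schemes stable under
base change. Assume that for all schemes `U`, `V` over `S` and all `a : h_U ⟶ F`, `b : h_V ⟶ F` the
fibre product `h_U ×_F h_V` is represented by some scheme `W` over `S` with its projections induced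
by morphisms `W ⟶ U`, `W ⟶ V`, and that for every such represented fibre product the morphism `W ⟶ U
×_S V` has `P`. Then the diagonal `F ⟶ F × F` is representable by schemes and has `P`. (The
published statement is for a presheaf of sets `F` and a property `P` that is also fppf local on the
base; this row takes `F` an fppf sheaf and `P` only stable under base change.) -/
theorem result (S : Scheme.{u}) (F : AlgSp.Sp S) (P : MorphismProperty Scheme.{u})
    [P.IsStableUnderBaseChange]
    (h₁ : ∀ ⦃U V : Over S⦄ (a : (AlgSp.yon S).obj U ⟶ F) (b : (AlgSp.yon S).obj V ⟶ F),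
      ∃ (W : Over S) (fst : W ⟶ U) (snd : W ⟶ V), IsPullback ((AlgSp.yon S).map fst) ((AlgSp.yon S).map snd) a b)
    (h₂ : ∀ ⦃U V W : Over S⦄ (a : (AlgSp.yon S).obj U ⟶ F) (b : (AlgSp.yon S).obj V ⟶ F) (fst : W ⟶ U)
      (snd : W ⟶ V), IsPullback ((AlgSp.yon S).map fst) ((AlgSp.yon S).map snd) a b → P (prod.lift fst snd).left) :
    AlgSp.RepWith P (Limits.diag F) := by
  have hrep : AlgSp.Representable (Limits.diag F) := by
    apply Functor.relativelyRepresentable.diag_of_map_from_obj
    intro a g a' g'
    obtain ⟨W, fst, snd, h⟩ := h₁ g g'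
    exact ⟨W, snd, (AlgSp.yon S).map fst, h⟩
  refine ⟨hrep, ?_⟩
  intro U V g fst snd hsq
  obtain ⟨W, p₁, p₂, hW⟩ := h₁ (g ≫ prod.fst) (g ≫ prod.snd)
  have hP : P (prod.lift p₁ p₂).left := h₂ (g ≫ prod.fst) (g ≫ prod.snd) p₁ p₂ hW
  -- the pullback of `W ⟶ U ⨯ U` along the diagonal of `U`, in `Over S`
  have hpbC : IsPullback (pullback.fst (prod.lift p₁ p₂) (Limits.diag U))
      (pullback.snd (prod.lift p₁ p₂) (Limits.diag U)) (prod.lift p₁ p₂) (Limits.diag U) :=
    IsPullback.of_hasPullback _ _
  have hPq₂ : P (pullback.snd (prod.lift p₁ p₂) (Limits.diag U)).left :=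
    MorphismProperty.of_isPullback (P := P.inverseImage (Over.forget S)) hpbC hP
  have h1 := hpbC.map (AlgSp.yon S)
  -- the right-hand square
  have h2 := Groth.Agent.Lib.Helper51.isPullback_diag_of_isPullback hW
  -- compare `prod.lift (yon p₁) (yon p₂)` with `yon (prod.lift p₁ p₂)`
  have hL : prod.lift ((AlgSp.yon S).map p₁) ((AlgSp.yon S).map p₂) =
      (AlgSp.yon S).map (prod.lift p₁ p₂) ≫ prodComparison (AlgSp.yon S) U U := by
    apply Limits.prod.hom_ext
    · rw [prod.lift_fst, Category.assoc, prodComparison_fst, ← Functor.map_comp, prod.lift_fst]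
    · rw [prod.lift_snd, Category.assoc, prodComparison_snd, ← Functor.map_comp, prod.lift_snd]
  have hD : Limits.diag ((AlgSp.yon S).obj U) =
      (AlgSp.yon S).map (Limits.diag U) ≫ prodComparison (AlgSp.yon S) U U :=
    AlgSp.diag_yon_obj U
  have h1' : IsPullback ((AlgSp.yon S).map (pullback.fst (prod.lift p₁ p₂) (Limits.diag U)))
      ((AlgSp.yon S).map (pullback.snd (prod.lift p₁ p₂) (Limits.diag U)))
      (prod.lift ((AlgSp.yon S).map p₁) ((AlgSp.yon S).map p₂))
      (Limits.diag ((AlgSp.yon S).obj U)) := by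
    rw [hL, hD]
    exact h1.of_iso (Iso.refl _) (Iso.refl _) (Iso.refl _)
      (asIso (prodComparison (AlgSp.yon S) U U)) (by simp) (by simp) (by simp) (by simp)
  have h3 := h1'.paste_horiz h2
  have hg : Limits.diag ((AlgSp.yon S).obj U) ≫ prod.map (g ≫ prod.fst) (g ≫ prod.snd) = g := by
    apply Limits.prod.hom_ext
    · rw [Category.assoc, prod.map_fst]
      simp only [Limits.diag, prod.lift_fst_assoc, Category.id_comp]
    · rw [Category.assoc, prod.map_snd]
      simp only [Limits.diag, prod.lift_snd_assoc, Category.id_comp]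
  rw [hg] at h3
  -- the two pullbacks are isomorphic
  let e : (AlgSp.yon S).obj V ≅
      (AlgSp.yon S).obj (pullback (prod.lift p₁ p₂) (Limits.diag U)) :=
    hsq.isoIsPullback _ _ h3
  have he : e.hom ≫ (AlgSp.yon S).map (pullback.snd (prod.lift p₁ p₂) (Limits.diag U)) =
      (AlgSp.yon S).map snd := hsq.isoIsPullback_hom_snd _ _ h3
  let e' : V ≅ pullback (prod.lift p₁ p₂) (Limits.diag U) := (AlgSp.yon S).preimageIso e
  have he' : e'.hom ≫ pullback.snd (prod.lift p₁ p₂) (Limits.diag U) = snd := by
    apply (AlgSp.yon S).map_injective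
    rw [Functor.map_comp, ← he]
    congr 1
    exact (AlgSp.yon S).map_preimage _
  have : P.RespectsIso := MorphismProperty.IsStableUnderBaseChange.respectsIso
  rw [← he']
  change P (e'.hom ≫ pullback.snd (prod.lift p₁ p₂) (Limits.diag U)).left
  rw [Over.comp_left]
  have : IsIso e'.hom.left := inferInstance
  exact (MorphismProperty.cancel_left_of_respectsIso P e'.hom.left _).mpr hPq₂

end Groth.Agent.S9886
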