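import Groth.Statements.S9888
-- import your own Groth.Agent.* helpers here
import Groth.Agent.Lib.Helper51.AlgSpBasic

set_option autoImplicit false
universe u
open CategoryTheory CategoryTheory.Limits AlgebraicGeometry
open AlgSp

namespace Groth.Agent.S9888

/-- Let `F` be an algebraic space over `S`, `f₂ : F₂ ⟶ F` a map of fppf sheaves which is representable
by immersions, `f₁ : F₁ ⟶ F` a map which is representable with property `P`, and `g : F₁ ⟶ F₂` with
`g ≫ f₂ = f₁` (so `F₁ ⊆ F₂` as subsheaves of `F`). Then `g` is representable and has `P`. (The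
published statement is the three cases `P` = immersion, open immersion, closed immersion, i.e. a
locally closed, open or closed subspace contained in a locally closed subspace is such a subspace of
it; the same argument applies to any `P` stable under base change, and the row is stated for such
`P`.) -/
theorem result (S : Scheme.{u}) (F F₁ F₂ : AlgSp.Sp S) (hF : AlgSp.IsAlgSpace F)
    (f₁ : F₁ ⟶ F) (f₂ : F₂ ⟶ F) (P : MorphismProperty Scheme.{u}) [P.IsStableUnderBaseChange]
    (h₁ : AlgSp.RepWith P f₁) (h₂ : AlgSp.RepWith @IsImmersion f₂) (g : F₁ ⟶ F₂) (w : g ≫ f₂ = f₁) :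
    AlgSp.RepWith P g := by
  have hm : Mono f₂ := Groth.Agent.Lib.Helper51.mono_of_repWith_isImmersion f₂ h₂
  -- the square `(h, 𝟙, f₂, h ≫ f₂)` is a pullback since `f₂` is a monomorphism
  have hbot : ∀ ⦃U : Over S⦄ (h : (yon S).obj U ⟶ F₂),
      IsPullback h (𝟙 ((yon S).obj U)) f₂ (h ≫ f₂) := fun U h ↦
    IsPullback.of_vert_isIso_mono (fst := h) (snd := 𝟙 _) (f := f₂) (g := h ≫ f₂) ⟨by simp⟩
  -- a square over `h` is a pullback of `g` iff it is a pullback of `f₁` along `h ≫ f₂`
  have key : ∀ ⦃U V : Over S⦄ (h : (yon S).obj U ⟶ F₂) (fst : (yon S).obj V ⟶ F₁) (snd : V ⟶ U),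
      IsPullback fst ((yon S).map snd) f₁ (h ≫ f₂) ↔ IsPullback fst ((yon S).map snd) g h := by
    intro U V h fst snd
    constructor
    · intro hpb
      have hpb' : IsPullback fst ((yon S).map snd ≫ 𝟙 _) (g ≫ f₂) (h ≫ f₂) := by
        rw [Category.comp_id, w]; exact hpb
      refine IsPullback.of_bot hpb' ?_ (hbot h)
      rw [← cancel_mono f₂, Category.assoc, Category.assoc, w]
      exact hpb.w
    · intro hpb
      have := hpb.paste_vert (hbot h)
      rwa [Category.comp_id, w] at this
  refine ⟨fun U h ↦ ?_, fun U V h fst snd hpb ↦ ?_⟩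
  · obtain ⟨V, snd, fst, hpb⟩ := h₁.1 (h ≫ f₂)
    exact ⟨V, snd, fst, (key h fst snd).1 hpb⟩
  · exact h₁.2 (h ≫ f₂) fst snd ((key h fst snd).2 hpb)

end Groth.Agent.S9888
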