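import Groth.Statements.S9890
import Groth.Agent.H52.FreeQuotSep
import Groth.Agent.S9889
import Groth.Agent.S9868
import Groth.Agent.S9869

set_option autoImplicit false
universe u
open CategoryTheory CategoryTheory.Limits AlgebraicGeometry
open AlgSp

namespace Groth.Agent.S9890

/-- Let a finite group `G` act freely (no non-identity element fixes a point together with its residue
field) by `S`-automorphisms on a scheme `U` over `S`, and let `s, t : R = ∐_{g ∈ G} U ⟶ U` be the
identity and the action. When `U ⟶ S` is quasi-separated, so is the quotient sheaf `U/G = U/R` over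
`S`; when `U ⟶ S` is separated, `U/G` is also separated over `S`. -/
theorem result (S : Scheme.{u}) (U : Over S) (G : Type u) [Group G] [Finite G]
    (ρ : G →* Aut U)
    (hfree : ∀ (g : G) (x : U.left), g ≠ 1 →
      U.left.fromSpecResidueField x ≫ (ρ g).hom.left ≠ U.left.fromSpecResidueField x)
    (c : Cofan (fun _ : G => U)) (hc : IsColimit c) (s t : c.pt ⟶ U)
    (hs : ∀ g, c.inj g ≫ s = 𝟙 U) (ht : ∀ g, c.inj g ≫ t = (ρ g).hom) :
    (QuasiSeparated U.hom → AlgSp.IsQuasiSeparatedSp (QuotSh.quot Scheme.fppfPrecoverage s t)) ∧
      (IsSeparated U.hom → AlgSp.IsSeparatedSp (QuotSh.quot Scheme.fppfPrecoverage s t)) := by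
  have h := Groth.Agent.S9889.result S U G ρ hfree c hc s t hs ht
  have hF := Groth.Agent.S9868.result S s t h
  have hpres := Groth.Agent.S9869.result S s t h hF
  have hcomp : ∀ g, c.inj g ≫ prod.lift t s = prod.lift (ρ g).hom (𝟙 U) := by
    intro g
    apply Limits.prod.hom_ext
    · rw [Category.assoc, prod.lift_fst, prod.lift_fst, ht]
    · rw [Category.assoc, prod.lift_snd, prod.lift_snd, hs]
  constructor
  · intro hqs
    have : QuasiSeparated U.hom := hqs
    have := Groth.Agent.H52.descendsAlong_quasiCompact_fppf.{u}
    refine Groth.Agent.H52.FreeQuot.repWith_diag_of_presentation @QuasiCompact hF s t _ hpres ?_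
    exact Groth.Agent.H52.FreeQuot.quasiCompact_of_cofan c hc _ (fun g => by
      rw [hcomp]
      exact Groth.Agent.H52.FreeQuot.quasiCompact_prod_lift_id U _)
  · intro hsep
    have : IsSeparated U.hom := hsep
    have := Groth.Agent.H52.descendsAlong_isClosedImmersion_fppf.{u}
    have hmono : Mono (prod.lift t s) := ⟨fun a b hab => h.injective _ a b
      (by have := hab =≫ prod.fst; simpa only [Category.assoc, prod.lift_fst] using this)
      (by have := hab =≫ prod.snd; simpa only [Category.assoc, prod.lift_snd] using this)⟩
    refine Groth.Agent.H52.FreeQuot.repWith_diag_of_presentation @IsClosedImmersion hF s t _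
      hpres ?_
    exact Groth.Agent.H52.FreeQuot.isClosedImmersion_of_cofan c hc _ (fun g => by
      rw [hcomp]
      exact Groth.Agent.H52.FreeQuot.isClosedImmersion_prod_lift_id U _)

end Groth.Agent.S9890
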