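import Groth.Statements.S9894
-- import your own Groth.Agent.* helpers here
import Groth.Agent.Lib.Helper51.ChartDescent

set_option autoImplicit false
universe u
open CategoryTheory CategoryTheory.Limits AlgebraicGeometry
open AlgSp

namespace Groth.Agent.S9894

/-- Let `P` be a property of morphisms of schemes which is stable under base change, fppf local on the
base, and such that morphisms of type `P` satisfy descent: for every surjective, flat, locally
finitely presented `p : X' ⟶ S'` every descent datum relative to `p` whose scheme has structure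
morphism in `P` is effective (descent is asked along single fppf covers, the case the argument
uses). Let `F` be an algebraic space over `S`, `G` an fppf sheaf of sets with a map `f : G ⟶ F`, and
`q : h_U ⟶ F` representable etale and surjective such that the base change of `f` along `q` is
represented by a scheme `V` over `S` with `g : V ⟶ U` having `P`. Then `G` is an algebraic space
over `S` and `f` is representable by schemes with property `P`. -/
theorem result (S : Scheme.{u}) (P : MorphismProperty Scheme.{u})
    [P.IsStableUnderBaseChange] [P.IsLocalAtTarget Scheme.fppfPrecoverage]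
    (hdesc : ∀ ⦃X' S' : Scheme.{u}⦄ (p : X' ⟶ S'), Surjective p → Flat p → LocallyOfFinitePresentation p →
      ∀ D : Desc.SchDD p, P D.obj.hom → (Desc.toDD p).essImage D)
    (F : AlgSp.Space S) (G : AlgSp.Sp S) (f : G ⟶ F.obj) {U V : Over S} (q : (AlgSp.yon S).obj U ⟶ F.obj)
    (hqe : AlgSp.RepWith @Etale q) (hqs : AlgSp.RepWith @Surjective q) (fst : (AlgSp.yon S).obj V ⟶ G)
    (g : V ⟶ U) (sq : IsPullback fst ((AlgSp.yon S).map g) f q) (hP : P g.left) :
    AlgSp.IsAlgSpace G ∧ AlgSp.RepWith P f := by
  have hrep : AlgSp.RepWith P f := by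
    apply MorphismProperty.relative.of_exists
    intro T ξ
    have hq := hqe.rep
    let r : hq.pullback ξ ⟶ T := hq.snd ξ
    have sqT : IsPullback (hq.fst ξ) ((AlgSp.yon S).map r) q ξ := hq.isPullback ξ
    have hre : Etale r.left := hqe.property_snd ξ
    have hrs : Surjective r.left := hqs.property_snd ξ
    have hg : AlgSp.RepWith P ((AlgSp.yon S).map g) := (AlgSp.repWith_yon_map_iff P g).2 hP
    let g' : hg.rep.pullback (hq.fst ξ) ⟶ hq.pullback ξ := hg.rep.snd (hq.fst ξ)
    have sqV : IsPullback (hg.rep.fst (hq.fst ξ)) ((AlgSp.yon S).map g') ((AlgSp.yon S).map g)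
        (hq.fst ξ) := hg.rep.isPullback (hq.fst ξ)
    have hPg' : P g'.left := hg.property_snd (hq.fst ξ)
    have sqBig : IsPullback (hg.rep.fst (hq.fst ξ) ≫ fst) ((AlgSp.yon S).map g') f
        ((AlgSp.yon S).map r ≫ ξ) := by
      have h := sqV.paste_horiz sq
      rwa [sqT.w] at h
    obtain ⟨W₀, ⟨e⟩⟩ := hdesc r.left hrs inferInstance inferInstance
      (Groth.Agent.Lib.Helper51.ChartDescent.descDatum f ξ r g' _ sqBig) hPg'
    exact ⟨_, _, _, Groth.Agent.Lib.Helper51.ChartDescent.isPullback_of_iso f ξ r g' _ sqBig W₀ e,
      Groth.Agent.Lib.Helper51.ChartDescent.prop_of_iso f ξ r g' _ sqBig W₀ e P hPg'⟩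
  exact ⟨Groth.Agent.Lib.Helper51.isAlgSpace_of_representable F.property f hrep.rep, hrep⟩

end Groth.Agent.S9894
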