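import Groth.Statements.S9905
import Groth.Agent.H52.Diag

set_option autoImplicit false
universe u
open CategoryTheory CategoryTheory.Limits AlgebraicGeometry
open AlgSp

namespace Groth.Agent.S9905

/-- For a morphism of algebraic spaces representable by schemes, separated in the diagonal sense agrees
with separated in the representable sense, and likewise for quasi-separated. -/
theorem result {S : Scheme.{u}} {X Y : AlgSp.Space S} (f : X ⟶ Y)
    (hf : AlgSp.Representable f.hom) :
    (AlgSp.IsSeparatedMor f.hom ↔ AlgSp.RepWith @IsSeparated f.hom) ∧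
    (AlgSp.IsQuasiSeparatedMor f.hom ↔ AlgSp.RepWith @QuasiSeparated f.hom) := by
  constructor
  · constructor
    · intro h
      refine ⟨hf, fun U V g fst snd sq => ?_⟩
      exact (AlgSp.isSeparatedMor_yon_map_iff snd).1
        (Groth.Agent.H52.repWith_diagonal_of_isPullback _ sq h)
    · intro h
      apply Groth.Agent.H52.repWith_diagonal_of_forall_base_change
      intro U y
      refine ⟨_, hf.fst y, (AlgSp.yon S).map (hf.snd y), hf.isPullback y, ?_⟩
      exact (AlgSp.isSeparatedMor_yon_map_iff _).2 (h.2 y _ _ (hf.isPullback y))
  · constructor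
    · intro h
      refine ⟨hf, fun U V g fst snd sq => ?_⟩
      exact (AlgSp.isQuasiSeparatedMor_yon_map_iff snd).1
        (Groth.Agent.H52.repWith_diagonal_of_isPullback _ sq h)
    · intro h
      apply Groth.Agent.H52.repWith_diagonal_of_forall_base_change
      intro U y
      refine ⟨_, hf.fst y, (AlgSp.yon S).map (hf.snd y), hf.isPullback y, ?_⟩
      exact (AlgSp.isQuasiSeparatedMor_yon_map_iff _).2 (h.2 y _ _ (hf.isPullback y))

end Groth.Agent.S9905
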