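import Groth.Statements.S9927
import Groth.Agent.H52.Epi

set_option autoImplicit false
universe u
open CategoryTheory CategoryTheory.Limits AlgebraicGeometry
open AlgSp

namespace Groth.Agent.S9927

/-- (4) ⇒ (1): being a monomorphism descends along a surjective etale base change from a scheme. -/
theorem result {S : Scheme.{u}} {X Y : AlgSp.Space S} (f : X ⟶ Y) (V : Over S)
    (p : (AlgSp.yon S).obj V ⟶ Y.obj) (hp : AlgSp.RepWith @Etale p) (hps : AlgSp.RepWith @Surjective p)
    {P : AlgSp.Sp S} (fst : P ⟶ X.obj) (snd : P ⟶ (AlgSp.yon S).obj V) (sq : IsPullback fst snd f.hom p)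
    [Mono snd] : Mono f.hom := by
  constructor
  intro T a b hab
  apply Groth.Agent.H52.sp_hom_ext
  intro U x
  have hrep := hp.rep
  let y : (AlgSp.yon S).obj U ⟶ Y.obj := x ≫ a ≫ f.hom
  have h1 : Etale (hrep.snd y).left := hp.property_snd y
  have h2 : Surjective (hrep.snd y).left := hps.2 y _ _ (hrep.isPullback y)
  have := Groth.Agent.H52.epi_yon_map_of_fppf (hrep.snd y)
  have w := hrep.w y
  let a' := sq.lift ((AlgSp.yon S).map (hrep.snd y) ≫ x ≫ a) (hrep.fst y)
    (by simp only [Category.assoc]; exact w.symm)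
  let b' := sq.lift ((AlgSp.yon S).map (hrep.snd y) ≫ x ≫ b) (hrep.fst y)
    (by simp only [Category.assoc]; rw [← hab]; exact w.symm)
  have hab' : a' = b' := by
    rw [← cancel_mono snd]
    simp [a', b']
  rw [← cancel_epi ((AlgSp.yon S).map (hrep.snd y))]
  have e1 : a' ≫ fst = (AlgSp.yon S).map (hrep.snd y) ≫ x ≫ a := sq.lift_fst _ _ _
  have e2 : b' ≫ fst = (AlgSp.yon S).map (hrep.snd y) ≫ x ≫ b := sq.lift_fst _ _ _
  rw [← e1, ← e2, hab']

end Groth.Agent.S9927
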