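import Groth.Statements.S9934
import Groth.Agent.H52.Top

set_option autoImplicit false
universe u
open CategoryTheory CategoryTheory.Limits AlgebraicGeometry
open AlgSp

namespace Groth.Agent.S9934

/-- An immersion of algebraic spaces is a closed immersion exactly when its image on points is closed. -/
theorem result {S : Scheme.{u}} {Z X : AlgSp.Space S} (i : Z ⟶ X)
    (hi : AlgSp.RepWith @IsImmersion i.hom) :
    AlgSp.RepWith @IsClosedImmersion i.hom ↔ IsClosed (Set.range (AlgSp.Points.map i.hom)) := by
  constructor
  · intro h
    have hcl := Groth.Agent.H52.isClosedMap_points_of_repWith i.hom @IsClosedImmersion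
      (fun _ _ φ hφ => by
        have : IsClosedImmersion φ := hφ
        exact φ.isClosedEmbedding.isClosedMap) h
    rw [← Set.image_univ]
    exact hcl _ isClosed_univ
  · intro h
    refine ⟨hi.rep, fun T V g fst snd sq => ?_⟩
    have : IsImmersion snd.left := hi.2 g fst snd sq
    have key := Groth.Agent.H52.ofPt_preimage_image sq Set.univ
    rw [Set.image_univ, Set.preimage_univ, Set.image_univ] at key
    have hcl : IsClosed (Set.range snd.left) := by
      rw [← key]
      exact h.preimage (AlgSp.Points.continuous_ofPt g)
    exact IsClosedImmersion.of_isPreimmersion snd.left hcl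

end Groth.Agent.S9934
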