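import Groth.Statements.S9939
import Groth.Agent.H52.Basic

set_option autoImplicit false
universe u
open CategoryTheory CategoryTheory.Limits AlgebraicGeometry
open AlgSp

namespace Groth.Agent.S9939

/-- For a morphism of algebraic spaces representable by schemes, representable universal injectivity is
equivalent to injectivity on K-valued points for every field K. -/
theorem result {S : Scheme.{u}} {X Y : AlgSp.Space S} (f : X ⟶ Y)
    (hf : AlgSp.Representable f.hom) :
    AlgSp.RepWith @UniversallyInjective f.hom ↔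
      ∀ (K : Type u) [Field K] (str : Spec (CommRingCat.of K) ⟶ S),
        Function.Injective (fun a : (AlgSp.yon S).obj (Over.mk str) ⟶ X.obj => a ≫ f.hom) := by
  constructor
  · intro h K _ str a b hab
    change a ≫ f.hom = b ≫ f.hom at hab
    let y : (AlgSp.yon S).obj (Over.mk str) ⟶ Y.obj := a ≫ f.hom
    have sq := hf.isPullback y
    have hinj : UniversallyInjective (hf.snd y).left := h.property_snd y
    obtain ⟨α, hα⟩ := (AlgSp.yon S).map_surjective (sq.lift a (𝟙 _) (by simp [y]))
    obtain ⟨β, hβ⟩ := (AlgSp.yon S).map_surjective (sq.lift b (𝟙 _) (by simp [y, hab]))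
    have hα1 : α ≫ hf.snd y = 𝟙 _ := by
      apply (AlgSp.yon S).map_injective
      rw [Functor.map_comp, hα, sq.lift_snd]
      exact ((AlgSp.yon S).map_id _).symm
    have hβ1 : β ≫ hf.snd y = 𝟙 _ := by
      apply (AlgSp.yon S).map_injective
      rw [Functor.map_comp, hβ, sq.lift_snd]
      exact ((AlgSp.yon S).map_id _).symm
    have key : ∀ (K : Type u) [Field K], Function.Injective
        (fun g : Spec (CommRingCat.of K) ⟶ (hf.pullback y).left ↦ g ≫ (hf.snd y).left) :=
      ((tfae_universallyInjective (hf.snd y).left).out 0 1).1 hinj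
    have hαβ : α.left = β.left := by
      apply key K
      change α.left ≫ (hf.snd y).left = β.left ≫ (hf.snd y).left
      rw [← Over.comp_left, ← Over.comp_left, hα1, hβ1]
    have hαβ' : α = β := Over.OverMorphism.ext hαβ
    have e1 : (AlgSp.yon S).map α ≫ hf.fst y = a := by rw [hα, sq.lift_fst]
    have e2 : (AlgSp.yon S).map β ≫ hf.fst y = b := by rw [hβ, sq.lift_fst]
    rw [← e1, ← e2, hαβ']
  · intro h
    refine ⟨hf, fun T V g fst snd sq => ?_⟩
    have key : (∀ (K : Type u) [Field K], Function.Injective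
        (fun g : Spec (CommRingCat.of K) ⟶ V.left ↦ g ≫ snd.left)) → UniversallyInjective snd.left :=
      ((tfae_universallyInjective snd.left).out 0 1).2
    apply key
    intro K _ g₁ g₂ hg
    change g₁ ≫ snd.left = g₂ ≫ snd.left at hg
    let str : Spec (CommRingCat.of K) ⟶ S := g₁ ≫ V.hom
    have hstr : g₂ ≫ V.hom = str := by
      change g₂ ≫ V.hom = g₁ ≫ V.hom
      rw [← Over.w snd, ← Category.assoc, ← hg, Category.assoc]
    let γ₁ : Over.mk str ⟶ V := Over.homMk g₁ rfl
    let γ₂ : Over.mk str ⟶ V := Over.homMk g₂ hstr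
    have hγ : γ₁ ≫ snd = γ₂ ≫ snd := Over.OverMorphism.ext hg
    have h1 : (AlgSp.yon S).map γ₁ ≫ fst = (AlgSp.yon S).map γ₂ ≫ fst := by
      apply h K str
      change ((AlgSp.yon S).map γ₁ ≫ fst) ≫ f.hom = ((AlgSp.yon S).map γ₂ ≫ fst) ≫ f.hom
      rw [Category.assoc, Category.assoc, sq.w, ← Category.assoc, ← Category.assoc,
        ← Functor.map_comp, ← Functor.map_comp, hγ]
    have h2 : (AlgSp.yon S).map γ₁ = (AlgSp.yon S).map γ₂ := by
      apply sq.hom_ext h1
      rw [← Functor.map_comp, ← Functor.map_comp, hγ]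
    have := (AlgSp.yon S).map_injective h2
    exact congrArg (fun φ => φ.left) this

end Groth.Agent.S9939
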