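import Groth.Statements.S9940
import Groth.Agent.H52.UnivInj
import Groth.Agent.H52.SepDescent

set_option autoImplicit false
universe u
open CategoryTheory CategoryTheory.Limits AlgebraicGeometry
open AlgSp

namespace Groth.Agent.S9940

/-- (4) ⇒ (1): universal injectivity of a morphism of algebraic spaces descends along a surjective base
change from a scheme. -/
theorem result {S : Scheme.{u}} {X Y : AlgSp.Space S} (f : X ⟶ Y)
    (Z : Over S) (g : (AlgSp.yon S).obj Z ⟶ Y.obj) (hg : AlgSp.IsSurjectiveMor g) {P : AlgSp.Sp S}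
    (fst : P ⟶ X.obj) (snd : P ⟶ (AlgSp.yon S).obj Z) (sq : IsPullback fst snd f.hom g)
    (h : AlgSp.IsUnivInjectiveMor snd) : AlgSp.IsUnivInjectiveMor f.hom := by
  have hP : AlgSp.IsAlgSpace P :=
    Groth.Agent.H52.isAlgSpace_of_isPullback sq X.property Y.property (AlgSp.IsAlgSpace.yon_obj Z)
  have hΔ := Groth.Agent.H52.isSurjectiveMor_diagonal_of_isUnivInjectiveMor hP snd h
  have sqc := Groth.Agent.H52.isPullback_map_of_isPullback sq
  have sqΔ := Groth.Agent.H52.isPullback_diagonal_of_isPullback sq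
  have hΔf : AlgSp.IsSurjectiveMor (pullback.diagonal f.hom) := by
    intro w
    obtain ⟨z, hz⟩ := hg (AlgSp.Points.map (pullback.fst f.hom f.hom ≫ f.hom) w)
    obtain ⟨w', hw', -⟩ := Groth.Agent.H52.exists_point_of_isPullback sqc w z hz.symm
    obtain ⟨p', hp'⟩ := hΔ w'
    refine ⟨AlgSp.Points.map fst p', ?_⟩
    rw [← AlgSp.Points.map_comp, sqΔ.w, AlgSp.Points.map_comp, hp', hw']
  exact (Groth.Agent.H52.kInj_of_isSurjectiveMor_diagonal X.property f.hom hΔf).isUnivInjectiveMor

end Groth.Agent.S9940
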