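import Groth.Statements.S9951
import Groth.Agent.H52.LocP

set_option autoImplicit false
universe u
open CategoryTheory CategoryTheory.Limits AlgebraicGeometry
open AlgSp

namespace Groth.Agent.S9951

/-- The source of a morphism locally of finite type with locally Noetherian target is locally
Noetherian. -/
theorem result {S : Scheme.{u}} {X Y : AlgSp.Space S} (f : X ⟶ Y)
    (hf : AlgSp.LocP @LocallyOfFiniteType f.hom) (hY : AlgSp.IsLocNoethSp Y.obj) : AlgSp.IsLocNoethSp X.obj := by
  obtain ⟨V, b, hbe, hbs, hV⟩ := hY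
  obtain ⟨U, a, hae, has⟩ := X.property.atlas
  -- the fibre product `h_U ×_Y h_V`
  have hrep : AlgSp.Representable b := Y.property.representable_from_yon b
  have sq := hrep.isPullback (a ≫ f.hom)
  -- `P ⟶ U` is etale surjective
  have h1e : Etale (hrep.snd (a ≫ f.hom)).left := hbe.property_snd _
  have h1s : Surjective (hrep.snd (a ≫ f.hom)).left := hbs.property_snd _
  obtain ⟨q, hq⟩ := (AlgSp.yon S).map_surjective (hrep.fst (a ≫ f.hom))
  have hlft : LocallyOfFiniteType q.left := by
    refine hf ((AlgSp.yon S).map (hrep.snd (a ≫ f.hom)) ≫ a) b q ?_ hbe ?_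
    · exact (AlgSp.RepWith (S := S) @Etale).comp_mem _ _
        ((AlgSp.repWith_yon_map_iff _ _).2 h1e) hae
    · rw [hq, Category.assoc, sq.w]
  have : IsLocallyNoetherian V.left := hV
  refine ⟨hrep.pullback (a ≫ f.hom), (AlgSp.yon S).map (hrep.snd (a ≫ f.hom)) ≫ a, ?_, ?_, ?_⟩
  · exact (AlgSp.RepWith (S := S) @Etale).comp_mem _ _
      ((AlgSp.repWith_yon_map_iff _ _).2 h1e) hae
  · exact (AlgSp.RepWith (S := S) @Surjective).comp_mem _ _
      ((AlgSp.repWith_yon_map_iff _ _).2 h1s) has
  · exact LocallyOfFiniteType.isLocallyNoetherian q.left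

end Groth.Agent.S9951
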