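import Groth.Statements.S9972
-- import your own Groth.Agent.* helpers here
import Groth.Agent.H52.FibreProd

set_option autoImplicit false
universe u
open CategoryTheory CategoryTheory.Limits AlgebraicGeometry
open AlgSp

namespace Groth.Agent.S9972

/-- Two morphisms to an algebraic space separated over B that agree on an open subspace whose scheme
theoretic closure is everything are equal. -/
theorem result {S : Scheme.{u}} {U X Y B : AlgSp.Space S} (q : Y ⟶ B)
    (hq : AlgSp.IsSeparatedMor q.hom) (f g : X ⟶ Y) (hfg : f ≫ q = g ≫ q) (j : U ⟶ X)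
    (hj : AlgSp.RepWith @IsOpenImmersion j.hom) (hcl : AlgSp.IsSchImage j.hom (𝟙 X.obj)) (heq : j ≫ f = j ≫ g) :
    f = g := by
  have hfg' : f.hom ≫ q.hom = g.hom ≫ q.hom := congrArg (fun m => m.hom) hfg
  have heq' : j.hom ≫ f.hom = j.hom ≫ g.hom := congrArg (fun m => m.hom) heq
  let ζ : X.obj ⟶ pullback q.hom q.hom := pullback.lift f.hom g.hom hfg'
  have hζ1 : ζ ≫ pullback.fst q.hom q.hom = f.hom := pullback.lift_fst _ _ _
  have hζ2 : ζ ≫ pullback.snd q.hom q.hom = g.hom := pullback.lift_snd _ _ _
  have sq := IsPullback.of_hasPullback (pullback.diagonal q.hom) ζ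
  have he : AlgSp.RepWith @IsClosedImmersion (pullback.snd (pullback.diagonal q.hom) ζ) :=
    MorphismProperty.of_isPullback sq hq
  have hYY : AlgSp.IsAlgSpace (pullback q.hom q.hom) :=
    Groth.Agent.H52.isAlgSpace_of_isPullback (IsPullback.of_hasPullback q.hom q.hom)
      Y.property B.property Y.property
  have hE : AlgSp.IsAlgSpace (pullback (pullback.diagonal q.hom) ζ) :=
    Groth.Agent.H52.isAlgSpace_of_isPullback sq Y.property hYY X.property
  have hjfac : (j.hom ≫ f.hom) ≫ pullback.diagonal q.hom = j.hom ≫ ζ := by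
    apply pullback.hom_ext
    · rw [Category.assoc, pullback.diagonal_fst, Category.comp_id, Category.assoc, hζ1]
    · rw [Category.assoc, pullback.diagonal_snd, Category.comp_id, Category.assoc, hζ2, heq']
  obtain ⟨k, hk⟩ := hcl.2.2 (pullback.snd (pullback.diagonal q.hom) ζ) hE he
    ⟨pullback.lift (j.hom ≫ f.hom) j.hom hjfac, pullback.lift_snd _ _ _⟩
  have e1 : pullback.snd (pullback.diagonal q.hom) ζ ≫ f.hom =
      pullback.fst (pullback.diagonal q.hom) ζ := by
    rw [← hζ1, ← Category.assoc, ← pullback.condition, Category.assoc, pullback.diagonal_fst,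
      Category.comp_id]
  have e2 : pullback.snd (pullback.diagonal q.hom) ζ ≫ g.hom =
      pullback.fst (pullback.diagonal q.hom) ζ := by
    rw [← hζ2, ← Category.assoc, ← pullback.condition, Category.assoc, pullback.diagonal_snd,
      Category.comp_id]
  apply ObjectProperty.hom_ext
  calc f.hom = (k ≫ pullback.snd (pullback.diagonal q.hom) ζ) ≫ f.hom := by
        rw [hk, Category.id_comp]
    _ = (k ≫ pullback.snd (pullback.diagonal q.hom) ζ) ≫ g.hom := by
        rw [Category.assoc, e1, Category.assoc, e2]
    _ = g.hom := by rw [hk, Category.id_comp]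

end Groth.Agent.S9972
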