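import Groth.Statements.S9978
import Groth.Agent.H52.NagataLft

set_option autoImplicit false
universe u
open CategoryTheory CategoryTheory.Limits AlgebraicGeometry
open AlgSp

namespace Groth.Agent.S9978

/-- An algebraic space locally of finite type over a Nagata algebraic space is Nagata. -/
theorem result {S : Scheme.{u}} {X Y : AlgSp.Space S} (f : X ⟶ Y)
    (hf : AlgSp.LocP @LocallyOfFiniteType f.hom)
    (hY : AlgSp.EtaleLocally (fun U => ∀ V : U.Opens, IsAffineOpen V → CAlg.IsNagata ↑Γ(U, V)) Y.obj) :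
    AlgSp.EtaleLocally (fun U => ∀ V : U.Opens, IsAffineOpen V → CAlg.IsNagata ↑Γ(U, V)) X.obj := by
  obtain ⟨V, pY, hpYe, hpYs, hV⟩ := hY
  obtain ⟨U0, pX, hpXe, hpXs⟩ := X.property.atlas
  have hrep := hpYe.rep
  have sq : IsPullback ((AlgSp.yon S).map (hrep.fst' (pX ≫ f.hom)))
      ((AlgSp.yon S).map (hrep.snd (pX ≫ f.hom))) pY (pX ≫ f.hom) := hrep.isPullback' _
  have hu1e : Etale (hrep.snd (pX ≫ f.hom)).left := hpYe.property_snd _
  have hu1s : Surjective (hrep.snd (pX ≫ f.hom)).left := hpYs.property_snd _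
  have hae : AlgSp.RepWith @Etale ((AlgSp.yon S).map (hrep.snd (pX ≫ f.hom)) ≫ pX) :=
    (AlgSp.RepWith (S := S) @Etale).comp_mem _ _ ((AlgSp.repWith_yon_map_iff _ _).2 hu1e) hpXe
  have has : AlgSp.RepWith @Surjective ((AlgSp.yon S).map (hrep.snd (pX ≫ f.hom)) ≫ pX) :=
    (AlgSp.RepWith (S := S) @Surjective).comp_mem _ _ ((AlgSp.repWith_yon_map_iff _ _).2 hu1s) hpXs
  have hlft : LocallyOfFiniteType (hrep.fst' (pX ≫ f.hom)).left :=
    hf ((AlgSp.yon S).map (hrep.snd (pX ≫ f.hom)) ≫ pX) pY (hrep.fst' (pX ≫ f.hom)) hae hpYe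
      (by rw [Category.assoc, sq.w])
  exact ⟨_, (AlgSp.yon S).map (hrep.snd (pX ≫ f.hom)) ≫ pX, hae, has,
    Groth.Agent.H52.isNagata_affineOpens_of_locallyOfFiniteType
      (hrep.fst' (pX ≫ f.hom)).left hV⟩

end Groth.Agent.S9978
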