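import Groth.Statements.S9993
import Groth.Agent.H52.OpenSub
import Groth.Agent.H52.SmoothSource
import Groth.Agent.H52.LocPCalc6

set_option autoImplicit false
universe u
open CategoryTheory CategoryTheory.Limits AlgebraicGeometry
open AlgSp

namespace Groth.Agent.S9993

/-- A morphism f : X ⟶ Y of algebraic spaces has P at the point x in the neighbourhood sense (some chart
diagram through x whose top arrow has P on an open neighbourhood of the chosen point) if and only if
some open subspace X' of X through x has its restriction X' ⟶ Y in the class P etale locally on the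
source and target. -/
theorem result {S : Scheme.{u}} (P : MorphismProperty Scheme.{u})
    (hP : P = @LocallyOfFiniteType ∨ P = @LocallyOfFinitePresentation ∨ P = @Flat ∨ P = @Smooth ∨ P = @Etale ∨
      (∀ ⦃A B : Scheme.{u}⦄ (g : A ⟶ B), P g ↔ (LocallyQuasiFinite g ∧ LocallyOfFiniteType g)) ∨
      (∀ ⦃A B : Scheme.{u}⦄ (g : A ⟶ B), P g ↔ (LocallyOfFiniteType g ∧ FormallyUnramified g)))
    {X Y : AlgSp.Space S} (f : X ⟶ Y) (x : AlgSp.Points X.obj) :
    AlgSp.HasAtMor (fun U _ h u => ∃ W : U.Opens, u ∈ W ∧ P (W.ι ≫ h)) f.hom x ↔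
      ∃ (X' : AlgSp.Space S) (j : X' ⟶ X), AlgSp.RepWith @IsOpenImmersion j.hom ∧
        x ∈ Set.range (AlgSp.Points.map j.hom) ∧ AlgSp.LocP P (j ≫ f).hom := by
  have hEt := Groth.Agent.H52.isEtLocal_of_list P hP
  have hri := hEt.respectsIso
  constructor
  · rintro ⟨U, V, a, b, h, u, ha, hb, comm, hx, W, huW, hh⟩
    let a' : (AlgSp.yon S).obj (Groth.Agent.H52.overOpen U W) ⟶ X.obj :=
      (AlgSp.yon S).map (Groth.Agent.H52.overOpenι U W) ≫ a
    have ha' : AlgSp.RepWith @Etale a' :=
      (AlgSp.RepWith (S := S) @Etale).comp_mem _ _ (Groth.Agent.H52.repWith_etale_overOpenι U W) ha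
    have hej : Sheaf.toImage a' ≫ Sheaf.imageι a' = a' := Sheaf.toImage_ι a'
    refine ⟨⟨Sheaf.image a', Groth.Agent.H52.isAlgSpace_image X.property a' ha'⟩,
      ObjectProperty.homMk (Sheaf.imageι a'),
      Groth.Agent.H52.repWith_isOpenImmersion_imageι a' ha', ?_, ?_⟩
    · change x ∈ Set.range (AlgSp.Points.map (Sheaf.imageι a'))
      rw [Groth.Agent.H52.range_points_map_imageι a' ha']
      refine ⟨⟨u, huW⟩, ?_⟩
      rw [← hx, AlgSp.Points.ofPt_eq_map_ofScheme, AlgSp.Points.ofPt_eq_map_ofScheme a u,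
        AlgSp.Points.map_comp, Groth.Agent.H52.points_map_ofScheme]
      rfl
    · change AlgSp.LocP P (Sheaf.imageι a' ≫ f.hom)
      refine hEt.locP_of_chart (Sheaf.imageι a' ≫ f.hom) (Sheaf.toImage a') b
        (Groth.Agent.H52.overOpenι U W ≫ h) (Groth.Agent.H52.repWith_etale_toImage a' ha')
        (Groth.Agent.H52.repWith_surjective_toImage a' ha') hb ?_ hh
      rw [← Category.assoc, hej, Functor.map_comp, Category.assoc, Category.assoc, comm]
  · rintro ⟨X', j, hj, ⟨x', rfl⟩, hloc⟩
    obtain ⟨U, V, a, b, h, u, ha, hb, comm, hx, hh⟩ :=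
      hEt.exists_chart_of_locP X'.property Y.property (j ≫ f).hom hloc x'
    have hje : AlgSp.RepWith @Etale j.hom :=
      MorphismProperty.relative_monotone (fun (A B : Over S) (g : A ⟶ B)
        (hg : IsOpenImmersion g.left) => (inferInstance : Etale g.left)) _ hj
    refine ⟨U, V, a ≫ j.hom, b, h, u, (AlgSp.RepWith (S := S) @Etale).comp_mem _ _ ha hje, hb, ?_,
      ?_, ⊤, trivial, ?_⟩
    · rw [Category.assoc]; exact comm
    · rw [← hx]; rfl
    · have : IsIso (⊤ : U.left.Opens).ι := by
        rw [← Scheme.topIso_hom]; infer_instance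
      exact (MorphismProperty.cancel_left_of_respectsIso P _ _).2 hh

end Groth.Agent.S9993
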