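import Groth.Statements.S9994
import Groth.Agent.H52.LocPCalc6

set_option autoImplicit false
universe u
open CategoryTheory CategoryTheory.Limits AlgebraicGeometry
open AlgSp

namespace Groth.Agent.S9994

/-- A morphism f : X ⟶ Y of algebraic spaces has P etale locally on the source and target if and only if
it has P at every point of |X| in the neighbourhood sense (some chart diagram through the point
whose top arrow has P on an open neighbourhood of the chosen point). -/
theorem result {S : Scheme.{u}} (P : MorphismProperty Scheme.{u})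
    (hP : P = @LocallyOfFiniteType ∨ P = @LocallyOfFinitePresentation ∨ P = @Flat ∨ P = @Smooth ∨ P = @Etale ∨
      (∀ ⦃A B : Scheme.{u}⦄ (g : A ⟶ B), P g ↔ (LocallyQuasiFinite g ∧ LocallyOfFiniteType g)) ∨
      (∀ ⦃A B : Scheme.{u}⦄ (g : A ⟶ B), P g ↔ (LocallyOfFiniteType g ∧ FormallyUnramified g)))
    {X Y : AlgSp.Space S} (f : X ⟶ Y) :
    AlgSp.LocP P f.hom ↔
      ∀ x : AlgSp.Points X.obj, AlgSp.HasAtMor (fun U _ h u => ∃ W : U.Opens, u ∈ W ∧ P (W.ι ≫ h)) f.hom x := by
  have hE := Groth.Agent.H52.isEtLocal_of_list P hP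
  have hZ := Groth.Agent.H52.isZariskiLocalAtSource_of_list P hP
  constructor
  · intro hf x
    obtain ⟨U, V, a, b, h, u, hae, hbe, comm, hx, hh⟩ :=
      hE.exists_chart_of_locP X.property Y.property f.hom hf x
    refine ⟨U, V, a, b, h, u, hae, hbe, comm, hx, ⊤, trivial, ?_⟩
    exact hE.precomp _ _ inferInstance hh
  · intro H
    refine hE.locP_of_local_charts f.hom ?_
    intro x
    obtain ⟨U, V, a, b, h, u, hae, hbe, comm, hx, W, huW, hPW⟩ := H x
    let UW : Over S := Over.mk (W.ι ≫ U.hom)
    let j : UW ⟶ U := Over.homMk W.ι rfl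
    have hje : AlgSp.RepWith @Etale ((AlgSp.yon S).map j) :=
      (AlgSp.repWith_yon_map_iff _ _).2 (inferInstanceAs (Etale W.ι))
    refine ⟨UW, V, (AlgSp.yon S).map j ≫ a, b, j ≫ h, (⟨u, huW⟩ : W), ?_, hbe, ?_, ?_, ?_⟩
    · exact (AlgSp.RepWith (S := S) @Etale).comp_mem _ _ hje hae
    · rw [Category.assoc, comm, Functor.map_comp, Category.assoc]
    · rw [Groth.Agent.H52.ofPt_yon_map_comp]
      exact hx
    · rw [Over.comp_left]
      exact hPW

end Groth.Agent.S9994
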